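import Mathlib.Algebra.Category.ModuleCat.EnoughInjectives
import Mathlib.Algebra.Category.ModuleCat.Projective
import Mathlib.Algebra.Homology.DerivedCategory.Ext.ExactSequences
import Mathlib.Algebra.Homology.DerivedCategory.Ext.EnoughInjectives
import Mathlib.Algebra.Homology.ShortComplex.ModuleCat
import Mathlib.Algebra.Module.Injective
import Mathlib.Algebra.Category.ModuleCat.Ext.HasExt
import Mathlib.CategoryTheory.Abelian.Injective.Dimension
import Mathlib.CategoryTheory.Abelian.Projective.Dimension
import Mathlib.RingTheory.Finiteness.Basic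
import Mathlib.LinearAlgebra.Isomorphisms
import Mathlib.RingTheory.Noetherian.Basic
import Mathlib.RingTheory.Ideal.Quotient.Basic

set_option autoImplicit false
universe u
open CategoryTheory Abelian

namespace Groth.Agent.H05EGA4
variable {A : Type u} [CommRing A]

theorem shortExact_of_submodule {M : Type u} [AddCommGroup M] [Module A M] (K : Submodule A M) :
    (ShortComplex.mk (ModuleCat.ofHom K.subtype) (ModuleCat.ofHom K.mkQ)
      (ModuleCat.hom_ext (LinearMap.ext fun x => (Submodule.Quotient.mk_eq_zero K).2 x.2))).ShortExact :=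
  ModuleCat.shortComplex_shortExact _ (LinearMap.exact_subtype_mkQ K) K.injective_subtype K.mkQ_surjective

theorem shortExact_of_surjective {M N : Type u} [AddCommGroup M] [Module A M] [AddCommGroup N] [Module A N]
    (f : M →ₗ[A] N) (hf : Function.Surjective f) :
    (ShortComplex.mk (ModuleCat.ofHom (LinearMap.ker f).subtype) (ModuleCat.ofHom f)
      (ModuleCat.hom_ext (LinearMap.ext fun x => x.2))).ShortExact :=
  ModuleCat.shortComplex_shortExact _ (LinearMap.exact_subtype_ker_map f) (Submodule.injective_subtype _) hf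

theorem hasInjectiveDimensionLT_of_ext_quotient (n : ℕ) :
    ∀ (M : ModuleCat.{u} A), (∀ I : Ideal A, Subsingleton (Ext (ModuleCat.of A (A ⧸ I)) M (n + 1))) →
      HasInjectiveDimensionLT M (n + 1) := by
  induction n with
  | zero =>
    intro M h
    rw [zero_add, ← injective_iff_hasInjectiveDimensionLT_one, ← Module.injective_iff_injective_object,
      ← Module.Baer.iff_injective]
    intro I f
    have := h I
    obtain ⟨φ, hφ⟩ := Ext.contravariant_sequence_exact₁ (shortExact_of_submodule (I : Submodule A A)) M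
      (Ext.mk₀ (ModuleCat.ofHom f)) (n₁ := 0 + 1) (by rfl) (Subsingleton.elim _ _)
    obtain ⟨φ, rfl⟩ := Ext.homEquiv₀.symm.surjective φ
    refine ⟨φ.hom, fun x hx => ?_⟩
    have h2 : ModuleCat.ofHom (I : Submodule A A).subtype ≫ φ = ModuleCat.ofHom f :=
      Ext.homEquiv₀.symm.injective (by simpa using hφ)
    exact LinearMap.congr_fun (ModuleCat.hom_ext_iff.1 h2) ⟨x, hx⟩
  | succ n ih =>
    intro M h
    obtain ⟨J, inj, f, monof⟩ := (inferInstance : EnoughInjectives (ModuleCat.{u} A)).1 M
    have hS : (ShortComplex.mk f (Limits.cokernel.π f) (Limits.cokernel.condition f)).ShortExact :=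
      { exact := ShortComplex.exact_cokernel f }
    refine (hS.hasInjectiveDimensionLT_X₃_iff n inj).1 (ih _ fun I => ?_)
    refine subsingleton_of_forall_eq 0 fun x => ?_
    have := h I
    obtain ⟨y, rfl⟩ := Ext.covariant_sequence_exact₃ _ hS x rfl (Subsingleton.elim _ _)
    rw [y.eq_zero_of_injective, Ext.zero_comp]

theorem hasProjectiveDimensionLT_of_cyclic (n : ℕ)
    (h : ∀ I : Ideal A, HasProjectiveDimensionLT (ModuleCat.of A (A ⧸ I)) (n + 1))
    (M : ModuleCat.{u} A) : HasProjectiveDimensionLT M (n + 1) := by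
  rw [hasProjectiveDimensionLT_iff]
  intro i hi Y e
  have : HasInjectiveDimensionLT Y (n + 1) := hasInjectiveDimensionLT_of_ext_quotient n Y fun I =>
    subsingleton_of_forall_eq 0 fun x =>
      have := h I
      x.eq_zero_of_hasProjectiveDimensionLT (n + 1) le_rfl
  exact e.eq_zero_of_hasInjectiveDimensionLT (n + 1) hi

theorem ext_subsingleton_of_fg_of_quotient (X : ModuleCat.{u} A) (n : ℕ)
    (h : ∀ I : Ideal A, Subsingleton (Ext X (ModuleCat.of A (A ⧸ I)) n))
    (K : Type u) [AddCommGroup K] [Module A K] [Module.Finite A K] :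
    Subsingleton (Ext X (ModuleCat.of A K) n) := by
  obtain ⟨k, s, hs⟩ := Module.Finite.exists_fin (R := A) (M := K)
  induction k generalizing K with
  | zero =>
    have : Subsingleton K := Submodule.subsingleton_iff A |>.1
      (subsingleton_iff_bot_eq_top.1 (by rw [← hs, Set.range_eq_empty, Submodule.span_empty]))
    refine subsingleton_of_forall_eq 0 fun x => ?_
    rw [← x.comp_mk₀_id, (ModuleCat.isZero_of_subsingleton (ModuleCat.of A K)).eq_of_src (𝟙 _) 0,
      Ext.mk₀_zero, Ext.comp_zero]
  | succ k ih =>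
    let N := Submodule.span A (Set.range (s ∘ Fin.castSucc))
    have hN : Module.Finite A N := Module.Finite.span_of_finite A (Set.finite_range _)
    have e1 : Subsingleton (Ext X (ModuleCat.of A N) n) := ih N
      (fun i => ⟨s i.castSucc, Submodule.subset_span ⟨i, rfl⟩⟩)
      (Submodule.map_injective_of_injective N.injective_subtype (by
        rw [Submodule.map_span, ← Set.range_comp, Submodule.map_subtype_top]; rfl))
    let g : A →ₗ[A] K ⧸ N := N.mkQ ∘ₗ LinearMap.toSpanSingleton A K (s (Fin.last k))
    have hg : Function.Surjective g := by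
      rw [← LinearMap.range_eq_top, eq_top_iff, ← N.range_mkQ, LinearMap.range_eq_map, ← hs,
        Submodule.map_span, Submodule.span_le]
      rintro _ ⟨_, ⟨i, rfl⟩, rfl⟩
      refine i.lastCases ⟨1, by simp [g]⟩ (fun i => ⟨0, ?_⟩)
      rw [map_zero]
      exact ((Submodule.Quotient.mk_eq_zero N).2 (Submodule.subset_span ⟨i, rfl⟩)).symm
    let e : (A ⧸ LinearMap.ker g) ≃ₗ[A] K ⧸ N := g.quotKerEquivOfSurjective hg
    have e2 : Subsingleton (Ext X (ModuleCat.of A (K ⧸ N)) n) := by
      refine subsingleton_of_forall_eq 0 fun x => ?_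
      rw [← x.comp_mk₀_id, ← e.toModuleIso.inv_hom_id, ← Ext.mk₀_comp_mk₀,
        ← Ext.comp_assoc_of_third_deg_zero]
      rw [@Subsingleton.elim _ (h (LinearMap.ker g)) (x.comp (Ext.mk₀ e.toModuleIso.inv) (add_zero n)) 0,
        Ext.zero_comp]
    refine subsingleton_of_forall_eq 0 fun x => ?_
    obtain ⟨y, rfl⟩ := Ext.covariant_sequence_exact₂ _ (shortExact_of_submodule N) x
      (e2.elim _ _)
    rw [e1.elim y 0, Ext.zero_comp]

theorem hasProjectiveDimensionLT_of_ext_quotient [IsNoetherianRing A] (n : ℕ) :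
    ∀ (M : Type u) [AddCommGroup M] [Module A M] [Module.Finite A M],
      (∀ I : Ideal A, Subsingleton (Ext (ModuleCat.of A M) (ModuleCat.of A (A ⧸ I)) (n + 1))) →
        HasProjectiveDimensionLT (ModuleCat.of A M) (n + 1) := by
  induction n with
  | zero =>
    intro M _ _ _ h
    obtain ⟨m, f, hf⟩ := Module.Finite.exists_fin' A M
    have e := ext_subsingleton_of_fg_of_quotient (ModuleCat.of A M) (0 + 1) h (LinearMap.ker f)
    obtain ⟨x, hx⟩ := Ext.covariant_sequence_exact₃ (ModuleCat.of A M) (shortExact_of_surjective f hf)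
      (Ext.mk₀ (𝟙 _)) (n₁ := 0 + 1) rfl (e.elim _ _)
    obtain ⟨s, rfl⟩ := Ext.homEquiv₀.symm.surjective x
    have h2 : s ≫ ModuleCat.ofHom f = 𝟙 _ := Ext.homEquiv₀.symm.injective (by simpa using hx)
    have : Module.Projective A M := Module.Projective.of_split s.hom f (ModuleCat.hom_ext_iff.1 h2)
    rw [zero_add, ← projective_iff_hasProjectiveDimensionLT_one, ← IsProjective.iff_projective]
    exact this
  | succ n ih =>
    intro M _ _ _ h
    obtain ⟨m, f, hf⟩ := Module.Finite.exists_fin' A M
    have hS := shortExact_of_surjective f hf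
    have hp : Projective (ModuleCat.of A (Fin m → A)) :=
      ModuleCat.projective_of_categoryTheory_projective _
    refine (hS.hasProjectiveDimensionLT_X₃_iff n hp).2 (ih _ fun I => ?_)
    refine subsingleton_of_forall_eq 0 fun x => ?_
    have := h I
    obtain ⟨y, rfl⟩ := Ext.contravariant_sequence_exact₁ hS _ x (n₁ := n + 1 + 1) (by omega)
      (Subsingleton.elim _ _)
    haveI := hp
    rw [y.eq_zero_of_projective, Ext.comp_zero]

end Groth.Agent.H05EGA4
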