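import Mathlib.Algebra.Category.ModuleCat.ProjectiveDimension
import Mathlib.LinearAlgebra.TensorProduct.Quotient
import Mathlib.RingTheory.Ideal.Cotangent
import Mathlib.RingTheory.KrullDimension.Regular
import Mathlib.RingTheory.Regular.ProjectiveDimension
import Mathlib.RingTheory.RegularLocalRing.Defs
import Groth.Agent.H05EGA4.Dim
import Groth.Agent.H4Depth.Regular
set_option autoImplicit false
universe u
open CategoryTheory Abelian IsLocalRing TensorProduct
open scoped Pointwise

namespace Groth.Agent.H05EGA4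

section minimal
variable {A : Type u} [CommRing A] [IsLocalRing A]

theorem exists_minimal_surjection (M : Type u) [AddCommGroup M] [Module A M] [Module.Finite A M] :
    ∃ (r : ℕ) (f : (Fin r → A) →ₗ[A] M), Function.Surjective f ∧
      ∀ c ∈ LinearMap.ker f, ∀ i, c i ∈ maximalIdeal A := by
  classical
  have hex : ∃ r : ℕ, ∃ s : Fin r → M, Submodule.span A (Set.range s) = ⊤ :=
    Module.Finite.exists_fin
  obtain ⟨s, hs⟩ := Nat.find_spec hex
  refine ⟨_, Fintype.linearCombination A s, ?_, fun c hc i => ?_⟩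
  · rw [← LinearMap.range_eq_top, Fintype.range_linearCombination, hs]
  by_contra hu
  have hu' : IsUnit (c i) := by simpa [mem_nonunits_iff] using hu
  have hc' : ∑ j, c j • s j = 0 := by simpa [Fintype.linearCombination_apply] using hc
  have hsi : s i ∈ Submodule.span A (s '' {i}ᶜ) := by
    have e : c i • s i = - ∑ j ∈ Finset.univ.erase i, c j • s j := by
      rw [eq_neg_iff_add_eq_zero, Finset.add_sum_erase _ (fun j => c j • s j) (Finset.mem_univ i)]
      exact hc'
    rw [← Submodule.smul_mem_iff_of_isUnit _ hu', e]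
    exact neg_mem (Submodule.sum_mem _ fun j hj => Submodule.smul_mem _ _
      (Submodule.subset_span ⟨j, Finset.ne_of_mem_erase hj, rfl⟩))
  have hpos : 0 < Nat.find hex := Fin.pos i
  obtain ⟨k, hk⟩ := Nat.exists_eq_succ_of_ne_zero hpos.ne'
  refine Nat.find_min hex (show k < Nat.find hex by omega) ?_
  let i' : Fin (k + 1) := Fin.cast hk i
  refine ⟨fun j => s (Fin.cast hk.symm (i'.succAbove j)), top_le_iff.1 (hs.ge.trans ?_)⟩
  rw [Submodule.span_le]
  have hsub : s '' {i}ᶜ ⊆ Set.range fun j => s (Fin.cast hk.symm (i'.succAbove j)) := by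
    rintro _ ⟨j, hj, rfl⟩
    have hne : Fin.cast hk j ≠ i' := fun h => hj (Fin.cast_injective _ h)
    obtain ⟨t, ht⟩ := Fin.exists_succAbove_eq hne
    exact ⟨t, by simp [ht]⟩
  rintro _ ⟨j, rfl⟩
  by_cases h : j = i
  · exact h ▸ Submodule.span_mono hsub hsi
  · exact Submodule.subset_span (hsub ⟨j, h, rfl⟩)

variable [IsNoetherianRing A]

theorem free_of_maximalIdeal_mem_associatedPrimes (hA : maximalIdeal A ∈ associatedPrimes A A) (n : ℕ) :
    ∀ (M : Type u) [AddCommGroup M] [Module A M] [Module.Finite A M],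
      HasProjectiveDimensionLT (ModuleCat.of A M) (n + 1) → Module.Free A M := by
  induction n with
  | zero =>
    intro M _ _ _ h
    have : Module.Projective A M := by
      rw [IsProjective.iff_projective, projective_iff_hasProjectiveDimensionLT_one]; exact h
    exact Module.free_of_flat_of_isLocalRing
  | succ n ih =>
    intro M _ _ _ h
    obtain ⟨r, f, hf, hker⟩ := exists_minimal_surjection (A := A) M
    have hK := ih (LinearMap.ker f)
      (((LinearMap.shortExact_shortComplexKer hf).hasProjectiveDimensionLT_X₃_iff n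
        (ModuleCat.projective_of_categoryTheory_projective _)).1 h)
    obtain ⟨hp, a, ha⟩ := (isAssociatedPrime_iff (R := A) (M := A)).1 hA
    have ha0 : a ≠ 0 := by
      rintro rfl
      rw [Submodule.colon_singleton_zero] at ha
      exact (maximalIdeal.isMaximal A).ne_top ha
    have hK0 : Subsingleton (LinearMap.ker f) := by
      by_contra hne
      have := not_subsingleton_iff_nontrivial.1 hne
      refine ha0 (Submodule.mem_bot A |>.1 ?_)
      rw [← (show Module.annihilator A ↥(LinearMap.ker f) = ⊥ from Module.annihilator_eq_bot.2 (by infer_instance)),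
        Module.mem_annihilator]
      rintro ⟨c, hc⟩
      ext i
      have := ha.le (hker c hc i)
      rw [Submodule.mem_colon_singleton, Submodule.mem_bot] at this
      simpa [mul_comm] using this
    exact Module.Free.of_equiv (LinearEquiv.ofBijective f
      ⟨LinearMap.ker_eq_bot.1 (Submodule.subsingleton_iff_eq_bot.1 hK0), hf⟩)

end minimal

section modOut
variable {A : Type u} [CommRing A]

theorem mem_span_smul_top_iff {M : Type u} [AddCommGroup M] [Module A M] (a : A) (z : M) :
    z ∈ Ideal.span {a} • (⊤ : Submodule A M) ↔ ∃ x, x ∈ (⊤ : Submodule A M) ∧ a • x = z := by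
  rw [Submodule.ideal_span_singleton_smul, Submodule.mem_smul_pointwise_iff_exists]

/-- `E / IE` as an object over `A / I`. -/
abbrev quotObj (I : Ideal A) (E : Type u) [AddCommGroup E] [Module A E] : ModuleCat.{u} (A ⧸ I) :=
  ModuleCat.of (A ⧸ I) (E ⧸ I • (⊤ : Submodule A E))

theorem hasProjectiveDimensionLT_quotObj {a : A} (hA : IsSMulRegular A a) (n : ℕ) :
    ∀ (E : Type u) [AddCommGroup E] [Module A E], IsSMulRegular E a →
      HasProjectiveDimensionLT (ModuleCat.of A E) (n + 1) →
        HasProjectiveDimensionLT (quotObj (Ideal.span {a}) E) (n + 1) := by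
  let I := Ideal.span {a}
  have hproj : ∀ (E : Type u) [AddCommGroup E] [Module A E], Module.Projective A E →
      Module.Projective (A ⧸ I) (E ⧸ I • (⊤ : Submodule A E)) := fun E _ _ _ =>
    Module.Projective.of_equiv ((TensorProduct.quotTensorEquivQuotSMul E I).extendScalarsOfSurjective
      Ideal.Quotient.mk_surjective)
  induction n with
  | zero =>
    intro E _ _ _ h
    rw [zero_add, ← projective_iff_hasProjectiveDimensionLT_one, ← IsProjective.iff_projective] at h ⊢
    exact hproj E h
  | succ n ih =>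
    intro E _ _ hE h
    let f : (E →₀ A) →ₗ[A] E := Finsupp.linearCombination A id
    have hf : Function.Surjective f := Finsupp.linearCombination_id_surjective A E
    have hKreg : IsSMulRegular (LinearMap.ker f) a := by
      intro x y hxy
      ext i
      exact hA (DFunLike.congr_fun (congrArg Subtype.val hxy) i)
    have ihK := ih (LinearMap.ker f) hKreg
      (((LinearMap.shortExact_shortComplexKer hf).hasProjectiveDimensionLT_X₃_iff n
        (ModuleCat.projective_of_categoryTheory_projective _)).1 h)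
    letI : AddCommGroup ↥(LinearMap.ker f) := Submodule.addCommGroup _
    let φ : (↥(LinearMap.ker f) ⧸ I • (⊤ : Submodule A (LinearMap.ker f))) →ₗ[A ⧸ I] (E →₀ A) ⧸ I • (⊤ : Submodule A (E →₀ A)) :=
      (Submodule.mapQ _ _ (LinearMap.ker f).subtype
        (Submodule.smul_top_le_comap_smul_top I _)).extendScalarsOfSurjective Ideal.Quotient.mk_surjective
    let ψ : ((E →₀ A) ⧸ I • (⊤ : Submodule A (E →₀ A))) →ₗ[A ⧸ I] E ⧸ I • (⊤ : Submodule A E) :=
      (Submodule.mapQ _ _ f (Submodule.smul_top_le_comap_smul_top I _)).extendScalarsOfSurjective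
        Ideal.Quotient.mk_surjective
    have hψ : Function.Surjective ψ := by
      intro y
      obtain ⟨e, rfl⟩ := Submodule.Quotient.mk_surjective _ y
      obtain ⟨x, rfl⟩ := hf e
      exact ⟨Submodule.Quotient.mk x, rfl⟩
    have hφ : Function.Injective φ := by
      rw [injective_iff_map_eq_zero]
      intro y hy
      obtain ⟨k, rfl⟩ := Submodule.Quotient.mk_surjective _ y
      obtain ⟨x, -, hx⟩ := (mem_span_smul_top_iff a _).1
        ((Submodule.Quotient.mk_eq_zero _).1 hy)
      have hxk : x ∈ LinearMap.ker f := hE (by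
        show a • f x = a • 0
        rw [← map_smul, hx, smul_zero]; exact k.2)
      exact (Submodule.Quotient.mk_eq_zero _).2
        ((mem_span_smul_top_iff a _).2 ⟨⟨x, hxk⟩, trivial, Subtype.ext hx⟩)
    have hex : Function.Exact φ ψ := by
      intro y
      obtain ⟨x, rfl⟩ := Submodule.Quotient.mk_surjective _ y
      constructor
      · intro hy
        obtain ⟨e, -, he⟩ := (mem_span_smul_top_iff a _).1
          ((Submodule.Quotient.mk_eq_zero _).1 hy)
        obtain ⟨z, rfl⟩ := hf e
        refine ⟨Submodule.Quotient.mk ⟨x - a • z, by rw [LinearMap.mem_ker, map_sub, map_smul, he, sub_self]⟩, ?_⟩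
        refine (Submodule.Quotient.eq _).2 ?_
        show x - a • z - x ∈ _
        rw [sub_sub_cancel_left]
        exact neg_mem (Submodule.smul_mem_smul (Ideal.mem_span_singleton_self a) trivial)
      · rintro ⟨k, hk⟩
        obtain ⟨k, rfl⟩ := Submodule.Quotient.mk_surjective _ k
        rw [← hk]
        show Submodule.Quotient.mk (f k.1) = 0
        rw [show f k.1 = 0 from k.2, Submodule.Quotient.mk_zero]
    have : Module.Projective (A ⧸ I) ((E →₀ A) ⧸ I • (⊤ : Submodule A (E →₀ A))) := hproj (E →₀ A) inferInstance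
    exact ((ModuleCat.shortComplex_shortExact (ShortComplex.mk (ModuleCat.ofHom φ) (ModuleCat.ofHom ψ)
      (ModuleCat.hom_ext hex.linearMap_comp_eq_zero)) hex hφ hψ).hasProjectiveDimensionLT_X₃_iff n
        (ModuleCat.projective_of_categoryTheory_projective _)).2 ihK

end modOut

section local_
variable {A : Type u} [CommRing A] [IsLocalRing A]

theorem exists_splitting (a : A) (ha : a ∈ maximalIdeal A) (ha2 : a ∉ maximalIdeal A ^ 2) :
    ∃ (f : (↥(maximalIdeal A) ⧸ Submodule.span A {(⟨a, ha⟩ : ↥(maximalIdeal A))}) →ₗ[A]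
          QuotSMulTop a ↥(maximalIdeal A))
      (g : QuotSMulTop a ↥(maximalIdeal A) →ₗ[A]
          (↥(maximalIdeal A) ⧸ Submodule.span A {(⟨a, ha⟩ : ↥(maximalIdeal A))})),
      g.comp f = LinearMap.id := by
  let m := maximalIdeal A
  let a' : m := ⟨a, ha⟩
  let k := ResidueField A
  have hne : m.toCotangent a' ≠ 0 := fun h => ha2 ((Ideal.toCotangent_eq_zero _ _).1 h)
  have hne' : (show CotangentSpace A from m.toCotangent a') ≠ 0 := hne
  obtain ⟨φ, hφ⟩ : ∃ φ : Module.Dual k (CotangentSpace A), φ (m.toCotangent a') ≠ 0 := by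
    by_contra h; push Not at h; exact hne' ((Module.forall_dual_apply_eq_zero_iff k _).1 h)
  let c := φ (m.toCotangent a')
  let φ₁ : m →ₗ[A] k := ((c⁻¹ • φ).restrictScalars A) ∘ₗ m.toCotangent
  have hφ₁ : φ₁ a' = 1 := inv_mul_cancel₀ hφ
  let P : Submodule A m := a • ⊤
  let τ : k →ₗ[A] QuotSMulTop a m := Submodule.liftQ (maximalIdeal A)
    (LinearMap.toSpanSingleton A _ (Submodule.Quotient.mk a' : QuotSMulTop a m)) (fun z hz => by
      rw [LinearMap.mem_ker, LinearMap.toSpanSingleton_apply, ← Submodule.Quotient.mk_smul, Submodule.Quotient.mk_eq_zero]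
      exact (Submodule.mem_smul_pointwise_iff_exists _ _ _).2 ⟨⟨z, hz⟩, trivial, Subtype.ext (mul_comm a z)⟩)
  have hτ1 : τ 1 = Submodule.Quotient.mk a' := by
    show (1 : A) • (Submodule.Quotient.mk a' : QuotSMulTop a m) = _
    exact one_smul A _
  let ψ : m →ₗ[A] QuotSMulTop a m := P.mkQ - τ ∘ₗ φ₁
  have hψ : ψ a' = 0 := by
    show Submodule.Quotient.mk a' - τ (φ₁ a') = (0 : QuotSMulTop a m)
    rw [hφ₁, hτ1, sub_self]
  have hle : P ≤ Submodule.span A {a'} := by
    rintro _ hz
    obtain ⟨z, -, rfl⟩ := (Submodule.mem_smul_pointwise_iff_exists _ _ _).1 hz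
    exact Submodule.mem_span_singleton.2 ⟨z.1, Subtype.ext (mul_comm (z : A) a)⟩
  refine ⟨Submodule.liftQ _ ψ (by rw [Submodule.span_le, Set.singleton_subset_iff]; exact hψ),
    Submodule.factor hle, Submodule.linearMap_qext _ (LinearMap.ext fun z => ?_)⟩
  show Submodule.factor hle (ψ z) = Submodule.Quotient.mk z
  obtain ⟨t, ht⟩ := Ideal.Quotient.mk_surjective (φ₁ z)
  have : τ (φ₁ z) = Submodule.Quotient.mk (t • a') := by rw [← ht]; rfl
  show Submodule.factor hle (Submodule.Quotient.mk z - τ (φ₁ z)) = _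
  rw [this, map_sub]
  show Submodule.Quotient.mk z - Submodule.Quotient.mk (t • a') = Submodule.Quotient.mk z
  rw [(Submodule.Quotient.mk_eq_zero _).2 (Submodule.smul_mem _ t (Submodule.mem_span_singleton_self a')), sub_zero]

variable [IsNoetherianRing A]

theorem isRegularLocalRing_of_span_singleton (x : A) (hxm : x ∈ maximalIdeal A) (hreg : IsSMulRegular A x)
    [IsRegularLocalRing (A ⧸ Ideal.span {x})] : IsRegularLocalRing A := by
  apply IsRegularLocalRing.of_spanFinrank_maximalIdeal_le
  let m' := maximalIdeal (A ⧸ Ideal.span {x})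
  obtain ⟨g, hg⟩ := H4Depth.exists_fun_fin_span_eq (I := m')
  choose y hy using fun i => Ideal.Quotient.mk_surjective (g i)
  have hspan : Ideal.span (Set.range y ∪ {x}) = maximalIdeal A := by
    apply le_antisymm
    · rw [Ideal.span_le, Set.union_subset_iff, Set.singleton_subset_iff]
      refine ⟨?_, hxm⟩
      rintro _ ⟨i, rfl⟩
      by_contra h
      have : IsUnit (y i) := by simpa [mem_nonunits_iff] using h
      have hmem : g i ∈ m' := hg.le (Ideal.subset_span ⟨i, rfl⟩)
      exact (IsLocalRing.mem_maximalIdeal _).1 hmem (hy i ▸ this.map _)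
    · intro z hz
      have hz' : Ideal.Quotient.mk (Ideal.span {x}) z ∈ (Ideal.span (Set.range y)).map (Ideal.Quotient.mk _) := by
        rw [Ideal.map_span, ← Set.range_comp, show (Ideal.Quotient.mk _ ∘ y) = g from funext hy, hg]
        rw [IsLocalRing.mem_maximalIdeal]
        exact fun hu => (IsLocalRing.mem_maximalIdeal _).1 hz
          (by
            obtain ⟨w, hw⟩ := hu.exists_right_inv
            obtain ⟨w, rfl⟩ := Ideal.Quotient.mk_surjective w
            rw [← map_mul, ← map_one (Ideal.Quotient.mk (Ideal.span {x})), Ideal.Quotient.eq] at hw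
            have : z * w - 1 ∈ maximalIdeal A := (Ideal.span_singleton_le_iff_mem _).2 hxm hw
            have h1 : (1 : A) ∈ maximalIdeal A := by
              have := sub_mem (Ideal.mul_mem_right w _ hz) this
              rwa [sub_sub_cancel] at this
            exact absurd h1 (Ideal.ne_top_iff_one _ |>.1 (maximalIdeal.isMaximal A).ne_top))
      rw [Ideal.mem_map_iff_of_surjective _ Ideal.Quotient.mk_surjective] at hz'
      obtain ⟨w, hw, hwz⟩ := hz'
      rw [Ideal.Quotient.eq] at hwz
      rw [Ideal.span_union, ← sub_sub_cancel w z]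
      exact Submodule.mem_sup.2 ⟨w, hw, -(w - z), neg_mem hwz, by ring⟩
  have hle : (maximalIdeal A).spanFinrank ≤ m'.spanFinrank + 1 := by
    rw [← hspan]
    refine (Submodule.spanFinrank_span_le_ncard_of_finite ((Set.finite_range y).union (Set.finite_singleton x))).trans
      ((Set.ncard_union_le _ _).trans ?_)
    rw [Set.ncard_singleton]
    gcongr
    rw [← Set.image_univ]; exact (Set.ncard_image_le Set.finite_univ).trans (by simp)
  rw [← ringKrullDim_quotient_span_singleton_succ_eq_ringKrullDim hreg hxm,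
    ← IsRegularLocalRing.spanFinrank_maximalIdeal (R := A ⧸ Ideal.span {x})]
  exact_mod_cast hle

end local_

set_option maxHeartbeats 1000000 in
set_option synthInstance.maxHeartbeats 100000 in
theorem hasProjectiveDimensionLT_residueField_quotient {A : Type u} [CommRing A] [IsLocalRing A] (x : A)
    (hxm : x ∈ maximalIdeal A) (hx2 : x ∉ maximalIdeal A ^ 2) [IsLocalRing (A ⧸ Ideal.span {x})] (n : ℕ)
    (hbig : HasProjectiveDimensionLT (quotObj (Ideal.span {x}) ↥(maximalIdeal A)) (n + 1)) :
    HasProjectiveDimensionLT (ModuleCat.of (A ⧸ Ideal.span {x}) (ResidueField (A ⧸ Ideal.span {x}))) (n + 2) := by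
  let A' := A ⧸ Ideal.span {x}
  have hnt' : Nontrivial (ResidueField A') := (inferInstance : Nontrivial (ResidueField (A ⧸ Ideal.span {x})))
  obtain ⟨f₀, g₀, hfg⟩ := exists_splitting x hxm hx2
  let a' : ↥(maximalIdeal A) := ⟨x, hxm⟩
  let S := Submodule.span A {a'}
  let ι : (↥(maximalIdeal A) ⧸ S) →ₗ[A] A' := Submodule.mapQ _ _ (maximalIdeal A).subtype (by
    rw [Submodule.span_le, Set.singleton_subset_iff]; exact Ideal.mem_span_singleton_self x)
  have hι : Function.Injective ι := by
    rw [injective_iff_map_eq_zero]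
    intro z hz
    obtain ⟨z, rfl⟩ := Submodule.Quotient.mk_surjective _ z
    obtain ⟨t, ht⟩ := Ideal.mem_span_singleton'.1 ((Submodule.Quotient.mk_eq_zero _).1 hz)
    exact (Submodule.Quotient.mk_eq_zero _).2 (Submodule.mem_span_singleton.2 ⟨t, Subtype.ext ht⟩)
  haveI : IsLocalHom (Ideal.Quotient.mk (Ideal.span {x})) := IsLocalHom.of_surjective _ Ideal.Quotient.mk_surjective
  have hmem : ∀ z : A, residue A' (Ideal.Quotient.mk (Ideal.span {x}) z) = 0 ↔ z ∈ maximalIdeal A := fun z => by
    rw [IsLocalRing.residue_eq_zero_iff, IsLocalRing.mem_maximalIdeal, IsLocalRing.mem_maximalIdeal,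
      mem_nonunits_iff, mem_nonunits_iff, isUnit_map_iff]
  -- transport everything to modules over A'
  have hS : Module.IsTorsionBySet A (↥(maximalIdeal A) ⧸ S) (Ideal.span {x} : Ideal A) := by
    rintro z ⟨a, ha⟩
    apply hι
    rw [map_smul, map_zero]
    obtain ⟨w, hw⟩ := Ideal.Quotient.mk_surjective (ι z)
    show a • ι z = 0
    rw [← hw]
    exact (Submodule.Quotient.mk_eq_zero _).2 (Ideal.mul_mem_right w _ ha)
  letI : Module A' (↥(maximalIdeal A) ⧸ S) := hS.module
  haveI : IsScalarTower A A' (↥(maximalIdeal A) ⧸ S) := hS.isScalarTower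
  let e₀ : QuotSMulTop x ↥(maximalIdeal A) ≃ₗ[A]
      ↥(maximalIdeal A) ⧸ Ideal.span {x} • (⊤ : Submodule A ↥(maximalIdeal A)) :=
    Submodule.quotEquivOfEq _ _ (Submodule.ideal_span_singleton_smul x _).symm
  let r : Retract (ModuleCat.of A' (↥(maximalIdeal A) ⧸ S)) (quotObj (Ideal.span {x}) ↥(maximalIdeal A)) :=
    { i := ModuleCat.ofHom ((e₀.toLinearMap ∘ₗ f₀).extendScalarsOfSurjective Ideal.Quotient.mk_surjective)
      r := ModuleCat.ofHom ((g₀ ∘ₗ e₀.symm.toLinearMap).extendScalarsOfSurjective Ideal.Quotient.mk_surjective)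
      retract := ModuleCat.hom_ext (LinearMap.ext fun z => by
        show g₀ (e₀.symm (e₀ (f₀ z))) = z
        rw [e₀.symm_apply_apply]; exact LinearMap.congr_fun hfg z) }
  have hW := r.hasProjectiveDimensionLT (n + 1)
  let ι' := ι.extendScalarsOfSurjective (S := A') Ideal.Quotient.mk_surjective
  let q' : A' →ₗ[A'] ResidueField A' := Algebra.linearMap A' (ResidueField A')
  have hex' : Function.Exact ι' q' := by
    intro z
    obtain ⟨z, rfl⟩ := Ideal.Quotient.mk_surjective z
    refine (hmem z).trans ⟨fun hz => ⟨Submodule.Quotient.mk ⟨z, hz⟩, rfl⟩, ?_⟩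
    rintro ⟨w, hw⟩
    obtain ⟨w, rfl⟩ := Submodule.Quotient.mk_surjective _ w
    have h2 : (w : A) - z ∈ maximalIdeal A :=
      (Ideal.span_singleton_le_iff_mem _).2 hxm (Ideal.Quotient.eq.1 hw)
    simpa using sub_mem w.2 h2
  have hseq := ModuleCat.shortComplex_shortExact (ShortComplex.mk (ModuleCat.ofHom ι') (ModuleCat.ofHom q')
    (ModuleCat.hom_ext hex'.linearMap_comp_eq_zero)) hex' hι IsLocalRing.residue_surjective
  exact hseq.hasProjectiveDimensionLT_X₃ (n + 1) hW
      (hasProjectiveDimensionLT_of_ge _ 1 (n + 2) (by omega))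

theorem isRegularLocalRing_of_residueField (A : Type u) [CommRing A] [IsLocalRing A] [IsNoetherianRing A] (n : ℕ)
    (hk : HasProjectiveDimensionLT (ModuleCat.of A (ResidueField A)) (n + 1)) : IsRegularLocalRing A := by
  obtain ⟨d, hd⟩ : ∃ d : ℕ, ringKrullDim A ≤ d :=
    ⟨(maximalIdeal A).spanFinrank, ringKrullDim_le_spanFinrank_maximalIdeal A⟩
  induction d using Nat.strong_induction_on generalizing A n with
  | _ d ih =>
  by_cases hA : maximalIdeal A ∈ associatedPrimes A A
  · have hnt : Nontrivial (ResidueField A) :=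
      Ideal.Quotient.nontrivial_iff.2 (maximalIdeal.isMaximal A).ne_top
    have : Module.Free A (ResidueField A) := free_of_maximalIdeal_mem_associatedPrimes hA n _ hk
    have hf : maximalIdeal A = ⊥ := by
      have h1 : Module.annihilator A (ResidueField A) = ⊥ := by
        obtain ⟨i⟩ := @Module.Basis.index_nonempty _ _ _ _ _ _ (Module.Free.chooseBasis A (ResidueField A)) hnt
        refine eq_bot_iff.2 fun z hz => ?_
        have hb := congrArg (fun v => (Module.Free.chooseBasis A (ResidueField A)).repr v i)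
          (Module.mem_annihilator.1 hz (Module.Free.chooseBasis A (ResidueField A) i))
        simpa using hb
      rw [← h1]
      exact Ideal.annihilator_quotient.symm
    refine IsRegularLocalRing.of_spanFinrank_maximalIdeal_le A ?_
    rw [hf, Submodule.spanFinrank_bot]
    exact ringKrullDim_nonneg_of_nontrivial
  set m := maximalIdeal A with hm
  have hm2 : ¬ m ≤ m ^ 2 := by
    intro h
    have h0 : m = ⊥ := Submodule.eq_bot_of_le_smul_of_le_jacobson_bot m m (IsNoetherian.noetherian _)
      (by rw [smul_eq_mul, ← pow_two]; exact h) (IsLocalRing.maximalIdeal_le_jacobson _)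
    refine hA ?_
    have : IsDomain A := (IsLocalRing.isField_iff_maximalIdeal_eq.2 h0).isDomain
    rw [h0]
    exact (isAssociatedPrime_iff (R := A) (M := A)).2 ⟨Ideal.isPrime_bot, 1, by ext z; simp [Submodule.mem_colon_singleton]⟩
  obtain ⟨x, hxm, hx⟩ : ∃ x ∈ m, x ∉ m ^ 2 ∧ IsSMulRegular A x := by
    by_contra h
    push Not at h
    have hsub : (m : Set A) ⊆ ⋃ q ∈ insert (m ^ 2) (associatedPrimes A A), (q : Set A) := by
      intro z hz
      by_cases hz2 : z ∈ m ^ 2
      · exact Set.mem_biUnion (Set.mem_insert _ _) hz2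
      · have : z ∈ ⋃ q ∈ associatedPrimes A A, (q : Set A) := by
          rw [biUnion_associatedPrimes_eq_compl_regular A A]; exact h z hz hz2
        simp only [Set.mem_iUnion] at this
        obtain ⟨q, hq, hzq⟩ := this
        exact Set.mem_biUnion (Set.mem_insert_of_mem _ hq) hzq
    obtain ⟨q, hq, hmq⟩ := (Ideal.subset_union_prime_finite ((associatedPrimes.finite A A).insert _) (m ^ 2) (m ^ 2)
      (fun q hq h1 _ => (hq.resolve_left h1).isPrime)).1 hsub
    rcases hq with rfl | hq
    · exact hm2 hmq
    · exact hA ((hm ▸ (maximalIdeal.isMaximal A)).eq_of_le hq.isPrime.ne_top hmq ▸ hq)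
  obtain ⟨hx2, hreg⟩ := hx
  let A' := A ⧸ Ideal.span {x}
  haveI : Nontrivial A' := Ideal.Quotient.nontrivial_iff.2 fun h =>
    (maximalIdeal.isMaximal A).ne_top (top_le_iff.1 (h ▸ (Ideal.span_singleton_le_iff_mem _).2 hxm))
  haveI : IsLocalRing A' := IsLocalRing.of_surjective' (Ideal.Quotient.mk _) Ideal.Quotient.mk_surjective
  have hdim := ringKrullDim_quotient_span_singleton_succ_eq_ringKrullDim hreg hxm
  obtain ⟨e, he⟩ := (H4Depth.exists_nat_ringKrullDim_eq (R := A'))
  -- the maximal ideal has finite projective dimension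
  let π : A →ₗ[A] ResidueField A := Submodule.mkQ (maximalIdeal A)
  have hπ : Function.Surjective π := Submodule.mkQ_surjective _
  have hK : HasProjectiveDimensionLT (ModuleCat.of A (LinearMap.ker π)) (n + 1) :=
    (LinearMap.shortExact_shortComplexKer hπ).hasProjectiveDimensionLT_X₁ (n + 1)
      inferInstance (hasProjectiveDimensionLT_of_ge _ (n + 1) (n + 2) (Nat.le_succ _))
  have hkerπ : LinearMap.ker π = maximalIdeal A := Submodule.ker_mkQ _
  rw [hkerπ] at hK
  have hmreg : IsSMulRegular ↥(maximalIdeal A) x := fun a b hab => Subtype.ext (hreg (congrArg Subtype.val hab))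
  have hbig := hasProjectiveDimensionLT_quotObj hreg n ↥(maximalIdeal A) hmreg hK
  have hk'' := hasProjectiveDimensionLT_residueField_quotient x hxm hx2 n hbig
  have hlt : e < d := by
    rw [← hdim, he] at hd
    exact_mod_cast hd
  haveI := ih e hlt A' (n + 1) hk'' he.le
  exact isRegularLocalRing_of_span_singleton x hxm hreg

end Groth.Agent.H05EGA4
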