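import Mathlib
import Groth.Prelude.Def_EGA4b
import Groth.Agent.H4Depth.DepthLemmas
import Groth.Agent.H4Depth.LocDepth
import Groth.Agent.H4Depth.CM
import Groth.Agent.H8Props.FlatDepth

/-!
# Depth and dimension of localisations of a module (helper5)
-/

set_option autoImplicit false
set_option linter.style.haveILetI false
universe u
open IsLocalRing Groth.Agent LocCoh

namespace Groth.Agent.H05EGA4

/-- Depth of the localisation of a module at a prime. -/
noncomputable abbrev dpAt {A : Type u} [CommRing A] (p : Ideal A) [p.IsPrime] (M : Type u) [AddCommGroup M]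
    [Module A M] : WithBot ℕ∞ :=
  ((depth (Localization.AtPrime p) (LocalizedModule p.primeCompl M) : ℕ∞) : WithBot ℕ∞)

/-- Dimension of the support of the localisation of a module at a prime. -/
noncomputable abbrev sdAt {A : Type u} [CommRing A] (p : Ideal A) [p.IsPrime] (M : Type u) [AddCommGroup M]
    [Module A M] : WithBot ℕ∞ :=
  Module.supportDim (Localization.AtPrime p) (LocalizedModule p.primeCompl M)

theorem supportDim_eq_of_surjective {R S : Type u} [CommRing R] [CommRing S] [Algebra R S] {M : Type u}
    [AddCommGroup M] [Module R M] [Module S M] [IsScalarTower R S M] [Module.Finite R M]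
    (h : Function.Surjective (algebraMap R S)) : Module.supportDim S M = Module.supportDim R M := by
  haveI : Module.Finite S M := Module.Finite.of_restrictScalars_finite R S M
  rw [Module.supportDim_eq_ringKrullDim_quotient_annihilator, Module.supportDim_eq_ringKrullDim_quotient_annihilator]
  have hann : (Module.annihilator S M).comap (algebraMap R S) = Module.annihilator R M := by
    ext r
    simp only [Ideal.mem_comap, Module.mem_annihilator, algebraMap_smul]
  have hsur : Function.Surjective ((Ideal.Quotient.mk (Module.annihilator S M)).comp (algebraMap R S)) :=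
    Ideal.Quotient.mk_surjective.comp h
  refine (ringKrullDim_eq_of_ringEquiv ((Ideal.quotEquivOfEq ?_).trans
    (RingHom.quotientKerEquivOfSurjective hsur))).symm
  rw [← RingHom.comap_ker, Ideal.mk_ker, hann]

theorem module_finite_localizedModule {A : Type u} [CommRing A] (p : Ideal A) [p.IsPrime] (M : Type u) [AddCommGroup M]
    [Module A M] [Module.Finite A M] : Module.Finite (Localization.AtPrime p) (LocalizedModule p.primeCompl M) :=
  Module.Finite.of_isLocalizedModule p.primeCompl (LocalizedModule.mkLinearMap p.primeCompl M)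

/-- Depth and dimension at a prime can be computed in any localisation at that prime. -/
theorem dpAt_sdAt_of_isBaseChange {A : Type u} [CommRing A] [IsNoetherianRing A] (q : Ideal A) [q.IsPrime]
    (T : Type u) [CommRing T] [IsLocalRing T] [Algebra A T] [IsLocalization.AtPrime T q] {M N : Type u}
    [AddCommGroup M] [Module A M] [Module.Finite A M] [AddCommGroup N] [Module A N] [Module T N] [IsScalarTower A T N]
    (f : M →ₗ[A] N) (hf : IsBaseChange T f) :
    ((depth T N : ℕ∞) : WithBot ℕ∞) = dpAt q M ∧ Module.supportDim T N = sdAt q M := by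
  let e := IsLocalization.algEquiv q.primeCompl (Localization.AtPrime q) T
  letI : Algebra (Localization.AtPrime q) T := e.toRingEquiv.toRingHom.toAlgebra
  haveI : IsScalarTower A (Localization.AtPrime q) T := .of_algebraMap_eq fun a => (e.commutes a).symm
  letI : Module (Localization.AtPrime q) N := Module.compHom N e.toRingEquiv.toRingHom
  haveI : IsScalarTower (Localization.AtPrime q) T N := ⟨fun a t n => mul_smul (e a) t n⟩
  haveI : IsScalarTower A (Localization.AtPrime q) N := .of_algebraMap_smul fun a n => by
    show e (algebraMap A (Localization.AtPrime q) a) • n = a • n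
    rw [e.commutes, algebraMap_smul]
  haveI : IsLocalizedModule q.primeCompl f := (isLocalizedModule_iff_isBaseChange q.primeCompl T f).mpr hf
  have hb1 : IsBaseChange (Localization.AtPrime q) f := IsLocalizedModule.isBaseChange q.primeCompl _ f
  have hb2 : IsBaseChange (Localization.AtPrime q) (LocalizedModule.mkLinearMap q.primeCompl M) :=
    IsLocalizedModule.isBaseChange q.primeCompl _ _
  let l : LocalizedModule q.primeCompl M ≃ₗ[Localization.AtPrime q] N := hb2.equiv.symm.trans hb1.equiv
  haveI := module_finite_localizedModule q M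
  haveI : Module.Finite (Localization.AtPrime q) N := Module.Finite.equiv l
  have hs : Function.Surjective (algebraMap (Localization.AtPrime q) T) := e.surjective
  refine ⟨?_, ?_⟩
  · rw [H8Props.FlatDepth.depth_eq_of_surjective (R := Localization.AtPrime q) hs, ← H4Depth.depth_congr l]
  · rw [supportDim_eq_of_surjective (R := Localization.AtPrime q) hs, ← Module.supportDim_eq_of_equiv l]

/-- Transitivity of localisation for depth and dimension. -/
theorem dpAt_sdAt_localized {A : Type u} [CommRing A] [IsNoetherianRing A] (p : Ideal A) [p.IsPrime]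
    (Q : Ideal (Localization.AtPrime p)) [Q.IsPrime] (M : Type u) [AddCommGroup M] [Module A M] [Module.Finite A M] :
    dpAt Q (LocalizedModule p.primeCompl M) = dpAt (Q.under A) M ∧
      sdAt Q (LocalizedModule p.primeCompl M) = sdAt (Q.under A) M := by
  let Ap := Localization.AtPrime p
  let T := Localization.AtPrime Q
  haveI : IsLocalization.AtPrime T (Q.under A) :=
    IsLocalization.isLocalization_isLocalization_atPrime_isLocalization p.primeCompl T Q
  have h1 : IsBaseChange Ap (LocalizedModule.mkLinearMap p.primeCompl M) :=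
    IsLocalizedModule.isBaseChange p.primeCompl _ _
  have h2 : IsBaseChange T (LocalizedModule.mkLinearMap Q.primeCompl (LocalizedModule p.primeCompl M)) :=
    IsLocalizedModule.isBaseChange Q.primeCompl _ _
  exact dpAt_sdAt_of_isBaseChange (Q.under A) T _ (h1.comp h2)

/-- `depth M ≤ depth M_q + dim R/q`. -/
theorem depth_le_dpAt_add_dim {R : Type u} [CommRing R] [IsNoetherianRing R] [IsLocalRing R] (M : Type u)
    [AddCommGroup M] [Module R M] [Module.Finite R M] [Nontrivial M] (q : Ideal R) [q.IsPrime] :
    ((depth R M : ℕ∞) : WithBot ℕ∞) ≤ dpAt q M + ringKrullDim (R ⧸ q) := by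
  have hm : maximalIdeal R • (⊤ : Submodule R M) ≠ ⊤ := H4Depth.maximalIdeal_smul_top_ne_top
  have hqm : q ≤ maximalIdeal R := le_maximalIdeal (Ideal.IsPrime.ne_top inferInstance)
  have hq : q • (⊤ : Submodule R M) ≠ ⊤ := ne_top_of_le_ne_top hm (Submodule.smul_mono_left hqm)
  obtain ⟨d, hd⟩ := ENat.ne_top_iff_exists.mp (H4Depth.idealDepth_ne_top hq)
  obtain ⟨rs, hlen, hmem, hreg⟩ := H4Depth.exists_isWeaklyRegular_of_le_idealDepth hq hd.le
  have h1 := H4Depth.idealDepth_quotient_ofList_add_length hq rs hreg hmem
  rw [← hd, hlen] at h1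
  let N := M ⧸ Ideal.ofList rs • (⊤ : Submodule R M)
  have h0 : idealDepth q N = 0 := by
    have h1' : idealDepth q N + (d : ℕ∞) = 0 + (d : ℕ∞) := by rw [zero_add]; exact h1
    exact WithTop.add_right_cancel (ENat.natCast_ne_top d) h1'
  have hqN : q • (⊤ : Submodule R N) ≠ ⊤ := fun h => by
    rw [H4Depth.idealDepth_eq_top h] at h0; exact ENat.top_ne_zero h0
  obtain ⟨P, hP, hqP⟩ := (H4Depth.idealDepth_eq_zero_iff_exists_associatedPrime hqN).mp h0
  have h2 := H4Depth.idealDepth_quotient_ofList_add_length hm rs hreg fun r hr => hqm (hmem r hr)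
  have h3 : ((depth R N : ℕ∞) : WithBot ℕ∞) ≤ ringKrullDim (R ⧸ q) :=
    (H4Depth.depth_le_ringKrullDim_quotient_of_mem_associatedPrimes hP).trans
      (ringKrullDim_le_of_surjective (Ideal.Quotient.factor hqP) (Ideal.Quotient.factor_surjective hqP))
  have h4 : (d : ℕ∞) ≤ depth (Localization.AtPrime q) (LocalizedModule q.primeCompl M) :=
    hd.le.trans (H4Depth.idealDepth_le_depth_localization q le_rfl)
  calc ((depth R M : ℕ∞) : WithBot ℕ∞) = ((depth R N : ℕ∞) : WithBot ℕ∞) + ((d : ℕ∞) : WithBot ℕ∞) := by
        rw [← WithBot.coe_add]; congr 1; rw [← hlen]; exact h2.symm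
    _ ≤ ringKrullDim (R ⧸ q) + dpAt q M := add_le_add h3 (WithBot.coe_le_coe.mpr h4)
    _ = _ := add_comm _ _

theorem dpAt_congr {A : Type u} [CommRing A] {p q : Ideal A} [p.IsPrime] [q.IsPrime] (M : Type u) [AddCommGroup M]
    [Module A M] (h : p = q) : dpAt p M = dpAt q M ∧ sdAt p M = sdAt q M := by
  subst h; exact ⟨rfl, rfl⟩

theorem le_of_add_natCast_le {a b : WithBot ℕ∞} (e : ℕ) (h : a + (e : WithBot ℕ∞) ≤ b + (e : WithBot ℕ∞)) : a ≤ b := by
  induction b with
  | bot =>
    induction a with
    | bot => exact le_rfl
    | coe a =>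
      rw [WithBot.bot_add, ← WithBot.coe_natCast, ← WithBot.coe_add] at h
      exact absurd (le_bot_iff.mp h) WithBot.coe_ne_bot
  | coe b =>
    induction a with
    | bot => exact bot_le
    | coe a =>
      rw [← WithBot.coe_natCast, ← WithBot.coe_add, ← WithBot.coe_add, WithBot.coe_le_coe] at h
      exact WithBot.coe_le_coe.mpr (WithTop.le_of_add_le_add_right (ENat.natCast_ne_top e) h)

theorem exists_nat_ringKrullDim (R : Type u) [CommRing R] [IsNoetherianRing R] [IsLocalRing R] :
    ∃ d : ℕ, ringKrullDim R = d := by
  obtain ⟨d, hd⟩ := ENat.ne_top_iff_exists.mp (Ideal.height_ne_top (maximalIdeal.isMaximal R).ne_top)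
  exact ⟨d, by rw [← maximalIdeal_height_eq_ringKrullDim, ← hd]; rfl⟩

/-- Codepth does not increase under generalisation. -/
theorem codepth_le_of_generalization {A : Type u} [CommRing A] [IsNoetherianRing A] (M : Type u) [AddCommGroup M]
    [Module A M] [Module.Finite A M] {q p : Ideal A} [q.IsPrime] [p.IsPrime] (hqp : q ≤ p) (n : ℕ)
    (h : sdAt p M ≤ dpAt p M + n) : sdAt q M ≤ dpAt q M + n := by
  let R := Localization.AtPrime p
  let N := LocalizedModule p.primeCompl M
  haveI := module_finite_localizedModule p M
  haveI : IsNoetherianRing R := IsLocalization.isNoetherianRing p.primeCompl _ inferInstance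
  have hdisj : Disjoint (p.primeCompl : Set A) q := Set.disjoint_left.mpr fun x hx hx' => hx (hqp hx')
  let Q := q.map (algebraMap A R)
  haveI : Q.IsPrime := IsLocalization.isPrime_of_isPrime_disjoint p.primeCompl R q inferInstance hdisj
  have hQ : Q.under A = q := IsLocalization.under_map_of_isPrime_disjoint p.primeCompl R inferInstance hdisj
  have htr := dpAt_sdAt_localized p Q M
  suffices sdAt Q N ≤ dpAt Q N + n by
    rwa [htr.1, htr.2, (dpAt_congr M hQ).1, (dpAt_congr M hQ).2] at this
  by_cases hQs : (⟨Q, inferInstance⟩ : PrimeSpectrum R) ∈ Module.support R N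
  · haveI : Nontrivial N := by
      by_contra hN
      rw [not_nontrivial_iff_subsingleton] at hN
      rw [Module.support_eq_empty] at hQs
      exact hQs
    haveI : IsLocalRing (R ⧸ Q) := .of_surjective' _ Ideal.Quotient.mk_surjective
    obtain ⟨e, he⟩ := exists_nat_ringKrullDim (R ⧸ Q)
    have h1 := H4Depth.supportDim_localization_add_le (M := N) Q hQs
    have h2 := depth_le_dpAt_add_dim N Q
    rw [he] at h1 h2
    have h3 : sdAt Q N + (e : WithBot ℕ∞) ≤ (dpAt Q N + n) + e :=
      calc _ ≤ Module.supportDim R N := h1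
        _ ≤ ((depth R N : ℕ∞) : WithBot ℕ∞) + n := h
        _ ≤ (dpAt Q N + (e : WithBot ℕ∞)) + n := add_le_add h2 le_rfl
        _ = _ := by ac_rfl
    exact le_of_add_natCast_le e h3
  · haveI : Subsingleton (LocalizedModule Q.primeCompl N) := Module.notMem_support_iff.mp hQs
    rw [sdAt, Module.supportDim_eq_bot_of_subsingleton]
    exact bot_le

end Groth.Agent.H05EGA4
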