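import Mathlib
/-! Dimension inequalities for local homomorphisms of Noetherian local rings. -/
open IsLocalRing TensorProduct
open scoped Pointwise
universe u
set_option maxHeartbeats 400000

namespace Groth.Agent.H05EGA4

theorem dimLocalHom (A B : Type u) [CommRing A] [CommRing B]
    [IsLocalRing A] [IsLocalRing B] [IsNoetherianRing A] [IsNoetherianRing B] [Algebra A B]
    [IsLocalHom (algebraMap A B)] :
    ringKrullDim B ≤ ringKrullDim A +
      ringKrullDim (B ⧸ (maximalIdeal A).map (algebraMap A B)) := by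
  have hle : (maximalIdeal A).map (algebraMap A B) ≤ maximalIdeal B :=
    IsLocalRing.map_maximalIdeal_le (algebraMap A B)
  have : (maximalIdeal B).LiesOver (maximalIdeal A) := ⟨(IsLocalRing.maximalIdeal_comap _).symm⟩
  have h := Ideal.height_le_height_add_of_liesOver (maximalIdeal A) (maximalIdeal B)
  rw [← maximalIdeal_height_eq_ringKrullDim, ← maximalIdeal_height_eq_ringKrullDim]
  refine (WithBot.coe_le_coe.mpr h).trans ?_
  rw [WithBot.coe_add]
  gcongr
  apply Ideal.height_le_ringKrullDim_of_ne_top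
  have := Ideal.isPrime_map_quotientMk_of_isPrime hle
  exact this.ne_top

theorem dimLocalHomQuot (A B : Type u) [CommRing A] [CommRing B]
    [IsLocalRing A] [IsLocalRing B] [IsNoetherianRing A] [IsNoetherianRing B] [Algebra A B]
    [IsLocalHom (algebraMap A B)] (I : Ideal A) (K : Ideal B) (hIK : I ≤ K.comap (algebraMap A B)) :
    ringKrullDim (B ⧸ K) ≤ ringKrullDim (A ⧸ I) +
      ringKrullDim (B ⧸ (K ⊔ (maximalIdeal A).map (algebraMap A B))) := by
  by_cases hK : K = ⊤
  · subst hK
    rw [ringKrullDim_eq_bot_of_subsingleton]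
    exact bot_le
  have : Nontrivial (B ⧸ K) := Ideal.Quotient.nontrivial_iff.mpr hK
  have hI : I ≠ ⊤ := fun h => hK (by
    rw [Ideal.eq_top_iff_one] at h ⊢
    simpa using hIK h)
  have : Nontrivial (A ⧸ I) := Ideal.Quotient.nontrivial_iff.mpr hI
  have := IsLocalRing.of_surjective' _ (Ideal.Quotient.mk_surjective (I := I))
  have := IsLocalRing.of_surjective' _ (Ideal.Quotient.mk_surjective (I := K))
  letI := (Ideal.quotientMap K (algebraMap A B) hIK).toAlgebra
  have hmax : maximalIdeal (A ⧸ I) = (maximalIdeal A).map (Ideal.Quotient.mk I) :=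
    (IsLocalRing.map_maximalIdeal_of_surjective _ Ideal.Quotient.mk_surjective).symm
  have hmap : (maximalIdeal (A ⧸ I)).map (algebraMap (A ⧸ I) (B ⧸ K)) =
      ((maximalIdeal A).map (algebraMap A B)).map (Ideal.Quotient.mk K) := by
    rw [hmax, Ideal.map_map, Ideal.map_map]; rfl
  have : IsLocalHom (algebraMap (A ⧸ I) (B ⧸ K)) := by
    refine ((local_hom_TFAE _).out 0 2).mpr ?_
    rw [hmap, ← IsLocalRing.map_maximalIdeal_of_surjective _ (Ideal.Quotient.mk_surjective (I := K))]
    exact Ideal.map_mono (IsLocalRing.map_maximalIdeal_le (algebraMap A B))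
  refine (dimLocalHom (A ⧸ I) (B ⧸ K)).trans (le_of_eq ?_)
  congr 1
  rw [hmap]
  exact ringKrullDim_eq_of_ringEquiv (DoubleQuot.quotQuotEquivQuotSup K _)

theorem dimSupportQuot (B : Type u) [CommRing B] (N : Type u) [AddCommGroup N] [Module B N]
    [Module.Finite B N] (I : Ideal B) :
    Module.supportDim B (N ⧸ (I • (⊤ : Submodule B N))) =
      ringKrullDim (B ⧸ (Module.annihilator B N ⊔ I)) := by
  rw [Module.supportDim, Module.support_quotient, Module.support_eq_zeroLocus,
    ringKrullDim_quotient, PrimeSpectrum.zeroLocus_sup]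

end Groth.Agent.H05EGA4
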