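import Mathlib
import Groth.Agent.H7Flat.LocalCriterion
import Groth.Agent.H7Flat.InjectiveModMax

/-!
# Flatness and regular sequences for local homomorphisms
-/

open IsLocalRing TensorProduct RingTheory.Sequence
open scoped Pointwise
universe u
set_option maxHeartbeats 400000

namespace Groth.Agent.H05EGA4

section general
variable {R : Type u} [CommRing R] {M : Type u} [AddCommGroup M] [Module R M]

/-- Two successive quotients commute. -/
noncomputable def quotSMulTopSwap (r : R) (I : Ideal R) :
    (QuotSMulTop r M ⧸ (I • ⊤ : Submodule R (QuotSMulTop r M))) ≃ₗ[R]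
      QuotSMulTop r (M ⧸ (I • ⊤ : Submodule R M)) :=
  Submodule.quotEquivOfEq _ _ (by rw [Submodule.map_smul'', Submodule.map_top, Submodule.range_mkQ]) ≪≫ₗ
    Submodule.quotientQuotientEquivQuotientSup (r • ⊤ : Submodule R M) (I • ⊤) ≪≫ₗ
    Submodule.quotEquivOfEq _ _ (sup_comm _ _) ≪≫ₗ
    (Submodule.quotientQuotientEquivQuotientSup (I • ⊤ : Submodule R M) (r • ⊤)).symm ≪≫ₗ
    Submodule.quotEquivOfEq _ _
      (by rw [Submodule.map_pointwise_smul, Submodule.map_top, Submodule.range_mkQ])

/-- If a sequence is weakly regular on both ends of a short exact sequence, it is weakly regular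
on the middle term. -/
theorem isWeaklyRegular_of_exact (rs : List R) : ∀ {M₁ M₂ M₃ : Type u} [AddCommGroup M₁] [Module R M₁]
    [AddCommGroup M₂] [Module R M₂] [AddCommGroup M₃] [Module R M₃] (f : M₁ →ₗ[R] M₂)
    (g : M₂ →ₗ[R] M₃), Function.Injective f → Function.Surjective g → Function.Exact f g →
    IsWeaklyRegular M₁ rs → IsWeaklyRegular M₃ rs → IsWeaklyRegular M₂ rs := by
  induction rs with
  | nil => intro M₁ M₂ M₃ _ _ _ _ _ _ f g _ _ _ _ _; exact .nil R M₂
  | cons r rs ih =>
    intro M₁ M₂ M₃ _ _ _ _ _ _ f g hf hg he h₁ h₃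
    rw [isWeaklyRegular_cons_iff] at h₁ h₃ ⊢
    refine ⟨?_, ih (QuotSMulTop.map r f) (QuotSMulTop.map r g) ?_ (QuotSMulTop.map_surjective r hg)
      (QuotSMulTop.map_exact r he hg) h₁.2 h₃.2⟩
    · rw [isSMulRegular_iff_right_eq_zero_of_smul]
      intro x hx
      have h2 : r • g x = 0 := by rw [← map_smul, hx, map_zero]
      obtain ⟨y, rfl⟩ := (he x).mp (h₃.1.right_eq_zero_of_smul h2)
      rw [← map_smul, map_eq_zero_iff f hf] at hx
      rw [h₁.1.right_eq_zero_of_smul hx, map_zero]
    · have he0 : Function.Exact (0 : M₁ →ₗ[R] M₁) f := fun x => by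
        constructor
        · intro hx
          exact ⟨0, by rw [map_eq_zero_iff f hf] at hx; simp [hx]⟩
        · rintro ⟨y, rfl⟩; simp
      have h := QuotSMulTop.map_first_exact_on_four_term_exact_of_isSMulRegular_last he0 he h₃.1
      rw [injective_iff_map_eq_zero]
      intro x hx
      obtain ⟨y, rfl⟩ := (h x).mp hx
      simp

/-- Elements of a weakly regular sequence on `M` generate an ideal `J` with `M ⊗ J → M` injective. -/
theorem lTensor_ofList_injective (fs : List R) (h : IsWeaklyRegular M fs) :
    Function.Injective ((Ideal.ofList fs).subtype.lTensor M) := by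
  induction fs using List.reverseRecOn with
  | nil =>
    rw [Ideal.ofList_nil]
    intro a b _
    exact Subsingleton.elim a b
  | append_singleton gs f ih =>
    rw [isWeaklyRegular_append_iff, isWeaklyRegular_singleton_iff] at h
    obtain ⟨h1, h2⟩ := h
    have hJ : Ideal.ofList (gs ++ [f]) = Ideal.ofList gs ⊔ Ideal.span {f} := by
      rw [Ideal.ofList_append, Ideal.ofList_singleton]
    have hle : Ideal.ofList gs ≤ Ideal.ofList (gs ++ [f]) := hJ ▸ le_sup_left
    have hf : f ∈ Ideal.ofList (gs ++ [f]) :=
      hJ ▸ Ideal.mem_sup_right (Ideal.mem_span_singleton_self f)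
    set G := Ideal.ofList gs
    set J := Ideal.ofList (gs ++ [f])
    let ι : M ⊗[R] G →ₗ[R] M ⊗[R] J := (Submodule.inclusion hle).lTensor M
    have hι : ∀ w, TensorProduct.rid R M (J.subtype.lTensor M (ι w)) =
        TensorProduct.rid R M (G.subtype.lTensor M w) := fun w => by
      induction w using TensorProduct.induction_on with
      | zero => simp
      | tmul x g => simp [ι]
      | add a b ha hb => simp only [map_add, ha, hb]
    have hdec : ∀ z : M ⊗[R] J, ∃ w x, z = ι w + x ⊗ₜ[R] (⟨f, hf⟩ : J) := by
      intro z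
      induction z using TensorProduct.induction_on with
      | zero => exact ⟨0, 0, by simp⟩
      | tmul x j =>
        obtain ⟨j, hj⟩ := j
        have hj' : j ∈ G ⊔ Ideal.span {f} := hJ ▸ hj
        obtain ⟨g, hg, b, hb, rfl⟩ := Submodule.mem_sup.mp hj'
        obtain ⟨c, rfl⟩ := Ideal.mem_span_singleton'.mp hb
        refine ⟨x ⊗ₜ ⟨g, hg⟩, c • x, ?_⟩
        rw [TensorProduct.smul_tmul]
        show _ = x ⊗ₜ[R] (Submodule.inclusion hle ⟨g, hg⟩) + _
        rw [← TensorProduct.tmul_add]
        congr 1
      | add a b ha hb =>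
        obtain ⟨w, x, rfl⟩ := ha
        obtain ⟨w', x', rfl⟩ := hb
        exact ⟨w + w', x + x', by rw [map_add, TensorProduct.add_tmul]; abel⟩
    rw [injective_iff_map_eq_zero]
    intro z hz
    obtain ⟨w, x, rfl⟩ := hdec z
    have hz' : TensorProduct.rid R M (G.subtype.lTensor M w) + f • x = 0 := by
      have := congr(TensorProduct.rid R M $hz)
      rwa [map_add, map_add, hι, LinearMap.lTensor_tmul, TensorProduct.rid_tmul, map_zero] at this
    have hfx : f • x ∈ G • (⊤ : Submodule R M) := by
      rw [eq_neg_of_add_eq_zero_right hz']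
      exact neg_mem (H7Flat.rid_lTensor_mem_smul G w)
    have hx : x ∈ G • (⊤ : Submodule R M) := by
      rw [← Submodule.Quotient.mk_eq_zero]
      exact h2.right_eq_zero_of_smul (by rwa [← Submodule.Quotient.mk_smul, Submodule.Quotient.mk_eq_zero])
    obtain ⟨w₀, hw₀⟩ := H7Flat.exists_rid_lTensor_eq G hx
    have hswap : ∀ v : M ⊗[R] G,
        (TensorProduct.rid R M (G.subtype.lTensor M v)) ⊗ₜ[R] (⟨f, hf⟩ : J) = ι (f • v) := fun v => by
      induction v using TensorProduct.induction_on with
      | zero => simp
      | tmul y g =>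
        simp only [LinearMap.lTensor_tmul, Submodule.subtype_apply, TensorProduct.rid_tmul, ι,
          map_smul, TensorProduct.smul_tmul, ← TensorProduct.tmul_smul]
        congr 1
        ext
        simp [mul_comm]
      | add a b ha hb => simp only [map_add, smul_add, TensorProduct.add_tmul, ha, hb]
    have hzeq : ι w + x ⊗ₜ[R] (⟨f, hf⟩ : J) = ι (w + f • w₀) := by
      rw [← hw₀, hswap, map_add]
    rw [hzeq]
    have h0 : G.subtype.lTensor M (w + f • w₀) = 0 := by
      apply (TensorProduct.rid R M).injective
      rw [← hι, ← hzeq, hz]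
    rw [(injective_iff_map_eq_zero _).mp (ih h1) _ h0, map_zero]

end general

section localHom
variable {A B : Type u} [CommRing A] [CommRing B] [IsLocalRing A] [IsLocalRing B]
  [IsNoetherianRing A] [IsNoetherianRing B] [Algebra A B] [IsLocalHom (algebraMap A B)]
  {M : Type u} [AddCommGroup M] [Module B M] [Module A M] [IsScalarTower A B M] [Module.Finite B M]

omit [IsLocalRing B] [IsNoetherianRing A] [IsNoetherianRing B] [IsLocalHom (algebraMap A B)]
  [Module.Finite B M] in
theorem mem_map_smul_top_iff (x : M) :
    x ∈ ((maximalIdeal A).map (algebraMap A B) • ⊤ : Submodule B M) ↔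
      x ∈ (maximalIdeal A • ⊤ : Submodule A M) := by
  rw [← Submodule.restrictScalars_mem A, Submodule.restrictScalars_map_smul_eq,
    Submodule.restrictScalars_top]

/-- An element regular on the closed fibre of a flat module is regular, with flat cokernel. -/
theorem isSMulRegular_and_flat_of_fibre [Module.Flat A M] (f : B)
    (h : IsSMulRegular (M ⧸ ((maximalIdeal A).map (algebraMap A B) • (⊤ : Submodule B M))) f) :
    IsSMulRegular M f ∧ Module.Flat A (QuotSMulTop f M) := by
  let u : M →ₗ[A] M := (LinearMap.lsmul B M f).restrictScalars A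
  have h' := H7Flat.injective_and_flat_quotient (S := B) u (H7Flat.lTensor_residueField_injective u
    fun x hx => by
      rw [← mem_map_smul_top_iff (B := B)] at hx ⊢
      rw [← Submodule.Quotient.mk_eq_zero] at hx ⊢
      exact h.right_eq_zero_of_smul ((Submodule.Quotient.mk_smul _ f x).symm.trans hx))
  refine ⟨h'.1, ?_⟩
  have := h'.2
  have heq : ((f • ⊤ : Submodule B M)).restrictScalars A = LinearMap.range u := by
    ext x
    rw [Submodule.restrictScalars_mem, Submodule.mem_smul_pointwise_iff_exists]
    exact ⟨fun ⟨y, _, hy⟩ => ⟨y, hy⟩, fun ⟨y, hy⟩ => ⟨y, trivial, hy⟩⟩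
  exact Module.Flat.of_linearEquiv
    ((Submodule.Quotient.restrictScalarsEquiv A (f • ⊤ : Submodule B M)).symm ≪≫ₗ
      Submodule.quotEquivOfEq _ _ heq)

/-- A regular sequence on the closed fibre of a flat module is regular, with flat quotients. -/
theorem isWeaklyRegular_and_flat_of_fibre (fs : List B) : ∀ (M : Type u) [AddCommGroup M] [Module B M]
    [Module A M] [IsScalarTower A B M] [Module.Finite B M] [Module.Flat A M],
    IsWeaklyRegular (M ⧸ ((maximalIdeal A).map (algebraMap A B) • (⊤ : Submodule B M))) fs →
    IsWeaklyRegular M fs ∧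
      ∀ i ≤ fs.length, Module.Flat A (M ⧸ (Ideal.ofList (fs.take i) • (⊤ : Submodule B M))) := by
  induction fs with
  | nil =>
    intro M _ _ _ _ _ _ _
    refine ⟨.nil B M, fun i _ => ?_⟩
    exact Module.Flat.of_linearEquiv
      ((Submodule.quotEquivOfEqBot _ (by simp)).restrictScalars A)
  | cons f fs ih =>
    intro M _ _ _ _ _ _ hreg
    rw [isWeaklyRegular_cons_iff] at hreg
    obtain ⟨h1, h2⟩ := isSMulRegular_and_flat_of_fibre f hreg.1
    have h3 := ih (QuotSMulTop f M)
      (((quotSMulTopSwap f ((maximalIdeal A).map (algebraMap A B))).isWeaklyRegular_congr fs).mpr hreg.2)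
    refine ⟨(isWeaklyRegular_cons_iff M f fs).mpr ⟨h1, h3.1⟩, fun i hi => ?_⟩
    cases i with
    | zero =>
      exact Module.Flat.of_linearEquiv
        ((Submodule.quotEquivOfEqBot _ (by simp)).restrictScalars A)
    | succ i =>
      rw [List.take_succ_cons]
      have := h3.2 i (by simpa using hi)
      exact Module.Flat.of_linearEquiv
        ((Submodule.quotOfListConsSMulTopEquivQuotSMulTopInner M f (fs.take i)).restrictScalars A)

/-- `M` is flat if `M/fM` is flat for some `f` in the maximal ideal regular on `M`. -/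
theorem flat_of_flat_quotSMulTop (f : B) (hf : f ∈ maximalIdeal B) (hreg : IsSMulRegular M f)
    [Module.Flat A (QuotSMulTop f M)] : Module.Flat A M := by
  set m := maximalIdeal A
  apply H7Flat.flat_of_injective (S := B)
  let φ : M ⊗[A] m →ₗ[B] M ⊗[A] A := AlgebraTensorModule.map LinearMap.id m.subtype
  have hφ : ∀ z, φ z = m.subtype.lTensor M z := fun z => by
    induction z using TensorProduct.induction_on with
    | zero => simp
    | tmul x a => simp [φ]
    | add a b ha hb => rw [map_add, map_add, ha, hb]
  let u : M →ₗ[A] M := (LinearMap.lsmul B M f).restrictScalars A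
  let q : M →ₗ[A] QuotSMulTop f M := (Submodule.mkQ _).restrictScalars A
  have hex : Function.Exact u q := by
    intro y
    show Submodule.Quotient.mk y = 0 ↔ _
    rw [Submodule.Quotient.mk_eq_zero, Submodule.mem_smul_pointwise_iff_exists]
    exact ⟨fun ⟨z, _, hz⟩ => ⟨z, hz⟩, fun ⟨z, hz⟩ => ⟨z, trivial, hz⟩⟩
  have hqs : Function.Surjective q := fun y => Submodule.Quotient.mk_surjective _ y
  have hexT := rTensor_exact m hex hqs
  have hu : ∀ z : M ⊗[A] m, u.rTensor m z = f • z := fun z => by
    induction z using TensorProduct.induction_on with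
    | zero => simp
    | tmul x a => rfl
    | add a b ha hb => rw [map_add, smul_add, ha, hb]
  have hfin := H7Flat.finite_tensor (R := A) (S := B) (M := M) (N := m)
  have : IsNoetherian B (M ⊗[A] m) := isNoetherian_of_isNoetherianRing_of_finite B _
  have hker : LinearMap.ker φ = ⊥ := by
    refine Submodule.eq_bot_of_le_smul_of_le_jacobson_bot (Ideal.span {f}) _
      (IsNoetherian.noetherian _) ?_ ?_
    · intro z hz
      rw [LinearMap.mem_ker] at hz
      have h1 : q.rTensor m z = 0 := by
        have hinj := Module.Flat.lTensor_preserves_injective_linearMap (R := A)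
          (M := QuotSMulTop f M) m.subtype m.injective_subtype
        refine (injective_iff_map_eq_zero _).mp hinj _ ?_
        rw [← LinearMap.comp_apply, LinearMap.lTensor_comp_rTensor,
          ← LinearMap.rTensor_comp_lTensor, LinearMap.comp_apply, ← hφ, hz, map_zero]
      obtain ⟨z', rfl⟩ := (hexT z).mp h1
      rw [hu] at hz ⊢
      rw [map_smul] at hz
      refine Submodule.smul_mem_smul (Ideal.mem_span_singleton_self f) ?_
      rw [LinearMap.mem_ker]
      refine (AlgebraTensorModule.rid A B M).injective ?_
      rw [map_zero]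
      exact hreg.right_eq_zero_of_smul (by rw [← map_smul, hz, map_zero])
    · rw [Ideal.span_le, Set.singleton_subset_iff]
      exact maximalIdeal_le_jacobson _ hf
  rw [injective_iff_map_eq_zero]
  intro z hz
  have : z ∈ LinearMap.ker φ := by rw [LinearMap.mem_ker, hφ, hz]
  rwa [hker, Submodule.mem_bot] at this

/-- Flatness descends along regular sequences. -/
theorem flat_of_flat_quot_ofList (fs : List B) : ∀ (M : Type u) [AddCommGroup M] [Module B M]
    [Module A M] [IsScalarTower A B M] [Module.Finite B M],
    (∀ f ∈ fs, f ∈ maximalIdeal B) → IsWeaklyRegular M fs →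
    Module.Flat A (M ⧸ (Ideal.ofList fs • (⊤ : Submodule B M))) →
    ∀ i ≤ fs.length, Module.Flat A (M ⧸ (Ideal.ofList (fs.take i) • (⊤ : Submodule B M))) := by
  induction fs with
  | nil => intro M _ _ _ _ _ _ _ hflat i _; rw [List.take_nil]; exact hflat
  | cons f fs ih =>
    intro M _ _ _ _ _ hfs hreg hflat i hi
    rw [isWeaklyRegular_cons_iff] at hreg
    have h' := ih (QuotSMulTop f M) (fun g hg => hfs g (List.mem_cons_of_mem _ hg)) hreg.2
      (Module.Flat.of_linearEquiv
        ((Submodule.quotOfListConsSMulTopEquivQuotSMulTopInner M f fs).restrictScalars A).symm)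
    cases i with
    | zero =>
      have h0 := h' 0 (Nat.zero_le _)
      have : Module.Flat A (QuotSMulTop f M) := Module.Flat.of_linearEquiv
        ((Submodule.quotEquivOfEqBot (R := B) (Ideal.ofList (fs.take 0) • ⊤ : Submodule B
          (QuotSMulTop f M)) (by simp)).restrictScalars A).symm
      have := flat_of_flat_quotSMulTop f (hfs f List.mem_cons_self) hreg.1 (A := A)
      exact Module.Flat.of_linearEquiv
        ((Submodule.quotEquivOfEqBot _ (by simp)).restrictScalars A)
    | succ i =>
      rw [List.take_succ_cons]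
      have := h' i (by simpa using hi)
      exact Module.Flat.of_linearEquiv
        ((Submodule.quotOfListConsSMulTopEquivQuotSMulTopInner M f (fs.take i)).restrictScalars A)

end localHom

end Groth.Agent.H05EGA4
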