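import Mathlib.Algebra.Category.ModuleCat.Ext.Finite
import Mathlib.RingTheory.Regular.ProjectiveDimension
import Mathlib.RingTheory.Ideal.AssociatedPrime.Finiteness
import Groth.Agent.H05EGA4.Dim
set_option autoImplicit false
universe u
open CategoryTheory Abelian IsLocalRing

namespace Groth.Agent.H05EGA4
variable {A : Type u} [CommRing A]

/-- Vanishing of `Ext^i(M, N)` above degree `n`. -/
def ExtVanishAbove (N : ModuleCat.{u} A) (n : ℕ) (M : Type u) [AddCommGroup M] [Module A M] : Prop :=
  ∀ i, n < i → Subsingleton (Ext (ModuleCat.of A M) N i)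

theorem ExtVanishAbove.congr {N : ModuleCat.{u} A} {n : ℕ} {M M' : Type u} [AddCommGroup M] [Module A M]
    [AddCommGroup M'] [Module A M'] (e : M ≃ₗ[A] M') (h : ExtVanishAbove N n M) : ExtVanishAbove N n M' := by
  intro i hi
  have := h i hi
  refine subsingleton_of_forall_eq 0 fun x => ?_
  rw [← x.mk₀_id_comp, ← e.toModuleIso.inv_hom_id, ← Ext.mk₀_comp_mk₀, Ext.comp_assoc_of_second_deg_zero,
    Subsingleton.elim ((Ext.mk₀ e.toModuleIso.hom).comp x (zero_add i)) 0, Ext.comp_zero]

theorem ExtVanishAbove.mid {N : ModuleCat.{u} A} {n : ℕ} {M₁ M₂ M₃ : Type u} [AddCommGroup M₁] [Module A M₁]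
    [AddCommGroup M₂] [Module A M₂] [AddCommGroup M₃] [Module A M₃] (f : M₁ →ₗ[A] M₂) (g : M₂ →ₗ[A] M₃)
    (hf : Function.Injective f) (hg : Function.Surjective g) (h : Function.Exact f g)
    (h₁ : ExtVanishAbove N n M₁) (h₃ : ExtVanishAbove N n M₃) : ExtVanishAbove N n M₂ := by
  intro i hi
  have hS : (ShortComplex.mk (ModuleCat.ofHom f) (ModuleCat.ofHom g)
      (ModuleCat.hom_ext h.linearMap_comp_eq_zero)).ShortExact :=
    ModuleCat.shortComplex_shortExact _ h hf hg
  refine subsingleton_of_forall_eq 0 fun x => ?_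
  obtain ⟨y, rfl⟩ := Ext.contravariant_sequence_exact₂ hS N x ((h₁ i hi).elim _ _)
  rw [(h₃ i hi).elim y 0, Ext.comp_zero]

theorem extVanishAbove_of_subsingleton {N : ModuleCat.{u} A} {n : ℕ} (M : Type u) [AddCommGroup M]
    [Module A M] [Subsingleton M] : ExtVanishAbove N n M := fun i _ =>
  subsingleton_of_forall_eq 0 fun x => by
    rw [← x.mk₀_id_comp, (ModuleCat.isZero_of_subsingleton (ModuleCat.of A M)).eq_of_src (𝟙 _) 0,
      Ext.mk₀_zero, Ext.zero_comp]

variable [IsLocalRing A] [IsNoetherianRing A]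

theorem extVanishAbove_of_residueField {N : ModuleCat.{u} A} [Module.Finite A N] {n : ℕ}
    (hk : ExtVanishAbove N n (ResidueField A)) (J : Ideal A) :
    ∀ (M : Type u) [AddCommGroup M] [Module A M] [Module.Finite A M],
      J ≤ Module.annihilator A M → ExtVanishAbove N n M := by
  induction J using WellFoundedGT.induction with
  | ind J ih =>
    intro M _ _ hM
    refine IsNoetherianRing.induction_on_isQuotientEquivQuotientPrime A
      (motive := fun M _ _ _ => J ≤ Module.annihilator A M → ExtVanishAbove N n M) hM ?_ ?_ ?_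
    · intro M _ _ _ _ _
      exact extVanishAbove_of_subsingleton M
    · intro M _ _ _ p e hJ
      refine ExtVanishAbove.congr e.symm ?_
      have hJp : J ≤ p.1 := hJ.trans (le_of_eq (e.annihilator_eq.trans (Ideal.annihilator_quotient)))
      rcases hJp.lt_or_eq with hlt | rfl
      · exact ih _ hlt _ (le_of_eq Ideal.annihilator_quotient.symm)
      by_cases hp : p.1 = maximalIdeal A
      · exact ExtVanishAbove.congr (Submodule.quotEquivOfEq _ _ hp.symm) hk
      obtain ⟨x, hxm, hxp⟩ := SetLike.not_le_iff_exists.1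
        (fun h => hp (le_antisymm (le_maximalIdeal p.2.ne_top) h))
      let Q := A ⧸ p.1
      have hinj : Function.Injective (x • LinearMap.id : Q →ₗ[A] Q) := by
        rw [injective_iff_map_eq_zero]
        intro q hq
        obtain ⟨a, rfl⟩ := Ideal.Quotient.mk_surjective q
        rw [Ideal.Quotient.eq_zero_iff_mem]
        exact (p.2.mem_or_mem (Ideal.Quotient.eq_zero_iff_mem.1 hq)).resolve_left hxp
      let g : Q →ₗ[A] A ⧸ (p.1 ⊔ Ideal.span {x}) := Submodule.factor le_sup_left
      have hex : Function.Exact (x • LinearMap.id : Q →ₗ[A] Q) g := by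
        intro q
        obtain ⟨a, rfl⟩ := Ideal.Quotient.mk_surjective q
        constructor
        · intro h
          obtain ⟨u, hu, v, hv, rfl⟩ := Submodule.mem_sup.1 ((Submodule.Quotient.mk_eq_zero _).1 h)
          obtain ⟨b, rfl⟩ := Ideal.mem_span_singleton'.1 hv
          refine ⟨Ideal.Quotient.mk _ b, ?_⟩
          show Ideal.Quotient.mk p.1 (x * b) = _
          rw [Ideal.Quotient.eq]
          exact (sub_mem_comm_iff).2 (by simpa [mul_comm x b] using hu)
        · rintro ⟨b, hb⟩
          obtain ⟨b, rfl⟩ := Ideal.Quotient.mk_surjective b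
          rw [← hb]
          show g (Ideal.Quotient.mk p.1 (x * b)) = 0
          exact (Submodule.Quotient.mk_eq_zero _).2 (Ideal.mem_sup_right (Ideal.mem_span_singleton'.2 ⟨b, mul_comm _ _⟩))
      have hS : (ShortComplex.mk (ModuleCat.ofHom (x • LinearMap.id : Q →ₗ[A] Q)) (ModuleCat.ofHom g)
          (ModuleCat.hom_ext hex.linearMap_comp_eq_zero)).ShortExact :=
        ModuleCat.shortComplex_shortExact _ hex hinj (Submodule.factor_surjective le_sup_left)
      have hX3 := ih (p.1 ⊔ Ideal.span {x})
        (lt_of_le_of_ne le_sup_left fun h => hxp (h ▸ Ideal.mem_sup_right (Ideal.mem_span_singleton_self x)))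
        (A ⧸ (p.1 ⊔ Ideal.span {x})) (le_of_eq Ideal.annihilator_quotient.symm)
      intro i hi
      by_contra hne
      have := not_subsingleton_iff_nontrivial.1 hne
      refine Submodule.top_ne_pointwise_smul_of_mem_jacobson_annihilator
        (M := Ext (ModuleCat.of A Q) N i) ((IsLocalRing.maximalIdeal_le_jacobson _) hxm) ?_
      rw [eq_comm, eq_top_iff]
      intro e _
      have h0 := hX3 (i + 1) (by omega)
      obtain ⟨y, hy⟩ := Ext.contravariant_sequence_exact₁ hS N e (n₁ := i + 1) (add_comm 1 i) (h0.elim _ _)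
      have hy' : (Ext.mk₀ (ModuleCat.ofHom (x • LinearMap.id : Q →ₗ[A] Q))).comp y (zero_add i) = e := hy
      rw [← hy', show ModuleCat.ofHom (x • LinearMap.id : Q →ₗ[A] Q) = x • 𝟙 (ModuleCat.of A Q) from rfl,
        Ext.mk₀_smul, Ext.smul_comp, Ext.mk₀_id_comp]
      exact Submodule.smul_mem_pointwise_smul _ _ ⊤ trivial
    · intro N₁ _ _ _ N₂ _ _ _ N₃ _ _ _ f g hf hg hex h1 h3 hJ
      exact ExtVanishAbove.mid f g hf hg hex (h1 (hJ.trans (f.annihilator_le_of_injective hf)))
        (h3 (hJ.trans (g.annihilator_le_of_surjective hg)))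

theorem hasProjectiveDimensionLT_of_residueField_finite (n : ℕ)
    (hk : HasProjectiveDimensionLT (ModuleCat.of A (ResidueField A)) (n + 1))
    (M : ModuleCat.{u} A) [Module.Finite A M] : HasProjectiveDimensionLT M (n + 1) :=
  ModuleCat.hasProjectiveDimensionLT_of_forall_finite M _ fun L _ =>
    extVanishAbove_of_residueField (N := L) (n := n)
      (fun i hi => HasProjectiveDimensionLT.subsingleton _ (n + 1) i hi L) ⊥ M bot_le (n + 1) (Nat.lt_succ_self n)

theorem hasProjectiveDimensionLT_of_residueField (n : ℕ)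
    (hk : HasProjectiveDimensionLT (ModuleCat.of A (ResidueField A)) (n + 1))
    (M : ModuleCat.{u} A) : HasProjectiveDimensionLT M (n + 1) :=
  hasProjectiveDimensionLT_of_cyclic n
    (fun I => hasProjectiveDimensionLT_of_residueField_finite n hk (ModuleCat.of A (A ⧸ I))) M

end Groth.Agent.H05EGA4
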