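import Mathlib.RingTheory.RegularLocalRing.Defs
import Mathlib.RingTheory.LocalProperties.ProjectiveDimension
import Mathlib.RingTheory.Flat.EquationalCriterion
import Mathlib.RingTheory.Flat.FaithfullyFlat.Algebra
import Mathlib.RingTheory.Flat.Tensor
import Mathlib.Algebra.Module.LocalizedModule.Submodule
import Groth.Agent.H05EGA4.GlobalDim
import Groth.Agent.H05EGA4.RegularPD
import Groth.Agent.H4Depth.Regular
set_option autoImplicit false
universe u
open CategoryTheory Abelian IsLocalRing TensorProduct

namespace Groth.Agent.H05EGA4

theorem exists_pd_residueField (A : Type u) [CommRing A] [IsRegularLocalRing A] :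
    ∃ d : ℕ, ringKrullDim A = d ∧
      HasProjectiveDimensionLT (ModuleCat.of A (ResidueField A)) (d + 1) := by
  obtain ⟨d, x, hd, hx⟩ := H4Depth.exists_regular_system_of_parameters A
  refine ⟨d, hd, ?_⟩
  have hreg := H4Depth.isRegular_ofFn_of_span_eq d hd x hx
  have h := ModuleCat.projectiveDimension_quotient_eq_length.{u} (List.ofFn x) hreg
  rw [List.length_ofFn] at h
  have hI : Ideal.ofList (List.ofFn x) = maximalIdeal A := by
    rw [← hx, Ideal.ofList]; congr 1; ext z; simp [List.mem_ofFn]
  have := (projectiveDimension_le_iff _ d).1 h.le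
  exact hasProjectiveDimensionLT_of_iso
    ((Shrink.linearEquiv A _) ≪≫ₗ Submodule.quotEquivOfEq _ _ hI).toModuleIso _

theorem isRegularLocalRing_localization (A : Type u) [CommRing A] [IsRegularLocalRing A]
    (p : Ideal A) [p.IsPrime] : IsRegularLocalRing (Localization.AtPrime p) := by
  obtain ⟨d, -, hk⟩ := exists_pd_residueField A
  haveI : HasProjectiveDimensionLE (ModuleCat.of A (A ⧸ p)) d :=
    hasProjectiveDimensionLT_of_residueField d hk _
  have h := (ModuleCat.localizedModule_hasProjectiveDimensionLE d p.primeCompl (ModuleCat.of A (A ⧸ p)))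
  let Ap := Localization.AtPrime p
  let N := Submodule.localized' Ap p.primeCompl (Algebra.linearMap A Ap) (p : Submodule A A)
  let e : LocalizedModule p.primeCompl (A ⧸ p) ≃ₗ[A] Ap ⧸ N :=
    IsLocalizedModule.iso p.primeCompl
      (Submodule.toLocalizedQuotient' Ap p.primeCompl (Algebra.linearMap A Ap) (p : Submodule A A))
  have hN : N = maximalIdeal Ap := by
    rw [← Localization.AtPrime.map_eq_maximalIdeal]
    exact Ideal.localized'_eq_map Ap p.primeCompl p
  let i : (ModuleCat.of A (A ⧸ p)).localizedModule p.primeCompl ≅ ModuleCat.of Ap (ResidueField Ap) :=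
    (Shrink.linearEquiv Ap _ ≪≫ₗ LinearEquiv.extendScalarsOfIsLocalization p.primeCompl Ap e ≪≫ₗ
      Submodule.quotEquivOfEq _ _ hN).toModuleIso
  exact isRegularLocalRing_of_residueField Ap d (@hasProjectiveDimensionLT_of_iso _ _ _ _ _ i _ h)

theorem isRegularRing_of_isRegularLocalRing (A : Type u) [CommRing A] [IsRegularLocalRing A] : IsRegularRing A :=
  isRegularRing_iff.2 fun p _ => isRegularLocalRing_localization A p

theorem isRegularRing_of_forall_isMaximal (A : Type u) [CommRing A] [IsNoetherianRing A]
    (h : ∀ (m : Ideal A) [m.IsMaximal], IsRegularLocalRing (Localization.AtPrime m)) : IsRegularRing A := by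
  refine isRegularRing_iff.2 fun p hp => ?_
  obtain ⟨m, hm, hpm⟩ := Ideal.exists_le_maximal p hp.ne_top
  haveI := h m
  have hdisj : Disjoint (m.primeCompl : Set A) p := Set.disjoint_left.2 fun z hz hzp => hz (hpm hzp)
  haveI := IsLocalization.isPrime_of_isPrime_disjoint m.primeCompl (Localization.AtPrime m) p hp hdisj
  have hq := IsLocalization.under_map_of_isPrime_disjoint m.primeCompl (Localization.AtPrime m) hp hdisj
  let q := p.map (algebraMap A (Localization.AtPrime m))
  haveI := isRegularLocalRing_localization (Localization.AtPrime m) q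
  have : IsLocalization.AtPrime (Localization.AtPrime q) p := by
    convert IsLocalization.isLocalization_isLocalization_atPrime_isLocalization m.primeCompl
      (Localization.AtPrime q) q
    exact hq.symm
  exact IsRegularLocalRing.of_ringEquiv (IsLocalization.algEquiv p.primeCompl
    (Localization.AtPrime q) (Localization.AtPrime p)).toRingEquiv

theorem isRegularRing_of_isLocalization {A : Type u} [CommRing A] [IsRegularRing A] (S : Submonoid A)
    (B : Type u) [CommRing B] [Algebra A B] [IsLocalization S B] : IsRegularRing B := by
  haveI := IsLocalization.isNoetherianRing S B inferInstance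
  refine isRegularRing_iff.2 fun P hP => ?_
  haveI := IsLocalization.isLocalization_isLocalization_atPrime_isLocalization S (Localization.AtPrime P) P
  haveI := isRegularRing_iff.1 (inferInstance : IsRegularRing A) (P.comap (algebraMap A B))
  exact IsRegularLocalRing.of_ringEquiv (IsLocalization.algEquiv (P.comap (algebraMap A B)).primeCompl
    (Localization.AtPrime (P.comap (algebraMap A B))) (Localization.AtPrime P)).toRingEquiv

section descent
variable {A B : Type u} [CommRing A] [CommRing B] [Algebra A B]

theorem hasProjectiveDimensionLT_of_baseChange [IsNoetherianRing A] [Module.FaithfullyFlat A B] (n : ℕ) :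
    ∀ (M : Type u) [AddCommGroup M] [Module A M] [Module.Finite A M],
      HasProjectiveDimensionLT (ModuleCat.of B (B ⊗[A] M)) (n + 1) →
        HasProjectiveDimensionLT (ModuleCat.of A M) (n + 1) := by
  induction n with
  | zero =>
    intro M _ _ _ h
    rw [zero_add, ← projective_iff_hasProjectiveDimensionLT_one, ← IsProjective.iff_projective] at h ⊢
    have : Module.Flat A M := Module.Flat.of_flat_tensorProduct A M B
    haveI : Module.FinitePresentation A M := Module.finitePresentation_of_finite A M
    exact Module.Flat.projective_of_finitePresentation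
  | succ n ih =>
    intro M _ _ _ h
    obtain ⟨r, f, hf⟩ := Module.Finite.exists_fin' A M
    let φ : B ⊗[A] ↥(LinearMap.ker f) →ₗ[B] B ⊗[A] (Fin r → A) := (LinearMap.ker f).subtype.baseChange B
    let ψ : B ⊗[A] (Fin r → A) →ₗ[B] B ⊗[A] M := f.baseChange B
    have hex : Function.Exact φ ψ := Module.Flat.lTensor_exact B (LinearMap.exact_subtype_ker_map f)
    have hφ : Function.Injective φ :=
      Module.Flat.lTensor_preserves_injective_linearMap (M := B) _ (LinearMap.ker f).injective_subtype
    have hψ : Function.Surjective ψ := LinearMap.lTensor_surjective B hf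
    refine ((LinearMap.shortExact_shortComplexKer hf).hasProjectiveDimensionLT_X₃_iff n
      (ModuleCat.projective_of_categoryTheory_projective _)).2 (ih _ ?_)
    exact ((ModuleCat.shortComplex_shortExact (ShortComplex.mk (ModuleCat.ofHom φ) (ModuleCat.ofHom ψ)
      (ModuleCat.hom_ext hex.linearMap_comp_eq_zero)) hex hφ hψ).hasProjectiveDimensionLT_X₃_iff n
        (ModuleCat.projective_of_categoryTheory_projective _)).1 h

variable [IsLocalRing A] [IsLocalRing B] [IsLocalHom (algebraMap A B)] [Module.Flat A B] [IsNoetherianRing A]

theorem hasProjectiveDimensionLT_of_flat_isLocalHom (n : ℕ)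
    (hB : ∀ (N : Type u) [AddCommGroup N] [Module B N], HasProjectiveDimensionLT (ModuleCat.of B N) (n + 1))
    (M : Type u) [AddCommGroup M] [Module A M] : HasProjectiveDimensionLT (ModuleCat.of A M) (n + 1) := by
  haveI := Module.FaithfullyFlat.of_flat_of_isLocalHom (A := A) (B := B)
  exact hasProjectiveDimensionLT_of_residueField n
    (hasProjectiveDimensionLT_of_baseChange n (ResidueField A) (hB _)) _

omit [IsLocalRing B] [IsLocalHom (algebraMap A B)] in
theorem isRegularLocalRing_of_flat [IsRegularLocalRing B] [IsLocalHom (algebraMap A B)] : IsRegularLocalRing A := by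
  obtain ⟨d, -, hk⟩ := exists_pd_residueField B
  exact isRegularLocalRing_of_residueField A d (hasProjectiveDimensionLT_of_flat_isLocalHom (B := B) d
    (fun N _ _ => hasProjectiveDimensionLT_of_residueField d hk _) _)

end descent

end Groth.Agent.H05EGA4
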