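import Mathlib
import Groth.Agent.H05EGA4.Regular
import Groth.Agent.H05EGA4.DimLocal
import Groth.Agent.H05EGA4.FlatRegular
import Groth.Agent.H05EGA4.IntegralDim
import Groth.Agent.H24Adic.Noetherian

/-!
# Regular local rings under flat local homomorphisms and completion
-/

open IsLocalRing TensorProduct RingTheory.Sequence
universe u
set_option maxHeartbeats 400000

namespace Groth.Agent.H05EGA4

section

variable {R : Type u} [CommRing R] [IsLocalRing R] [IsNoetherianRing R]

theorem exists_dim_eq_nat (R : Type u) [CommRing R] [IsLocalRing R] [IsNoetherianRing R] :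
    ∃ d : ℕ, ringKrullDim R = d := by
  exact H4Depth.exists_nat_ringKrullDim_eq

theorem finrank_cotangent_eq (R : Type u) [CommRing R] [IsLocalRing R] [IsNoetherianRing R] :
    Module.finrank (ResidueField R) (CotangentSpace R) = (maximalIdeal R).spanFinrank :=
  (spanFinrank_maximalIdeal_eq_finrank_cotangentSpace (R := R)).symm

/-- Generators of `I` and lifts of generators of the maximal ideal of `R ⧸ I`. -/
theorem exists_span_sumElim_eq (I : Ideal R) [IsLocalRing (R ⧸ I)] :
    ∃ y : Fin (maximalIdeal (R ⧸ I)).spanFinrank → R, (∀ i, y i ∈ maximalIdeal R) ∧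
      I ⊔ Ideal.span (Set.range y) = maximalIdeal R := by
  obtain ⟨g, hg⟩ := H4Depth.exists_fun_fin_span_eq (I := maximalIdeal (R ⧸ I))
  choose y hy using fun i => Ideal.Quotient.mk_surjective (g i)
  have hcomap : (maximalIdeal (R ⧸ I)).comap (Ideal.Quotient.mk I) = maximalIdeal R :=
    eq_maximalIdeal (Ideal.comap_isMaximal_of_surjective _ Ideal.Quotient.mk_surjective)
  refine ⟨y, fun i => ?_, ?_⟩
  · rw [← hcomap, Ideal.mem_comap, hy]
    exact hg ▸ Ideal.subset_span ⟨i, rfl⟩
  · refine Eq.trans ?_ hcomap
    refine Eq.trans ?_ (congrArg (Ideal.comap (Ideal.Quotient.mk I)) hg)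
    rw [show g = Ideal.Quotient.mk I ∘ y from funext fun i => (hy i).symm,
      Set.range_comp, ← Ideal.map_span, Ideal.comap_map_of_surjective _ Ideal.Quotient.mk_surjective,
      ← RingHom.ker_eq_comap_bot, Ideal.mk_ker, sup_comm]

theorem spanFinrank_maximalIdeal_le_quotient {n : ℕ} (x : Fin n → R)
    [IsLocalRing (R ⧸ Ideal.span (Set.range x))] :
    (maximalIdeal R).spanFinrank ≤
      n + (maximalIdeal (R ⧸ Ideal.span (Set.range x))).spanFinrank := by
  obtain ⟨y, -, hy⟩ := exists_span_sumElim_eq (Ideal.span (Set.range x))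
  rw [← Ideal.span_union, ← Set.Sum.elim_range] at hy
  have := H4Depth.spanFinrank_maximalIdeal_le_of_span (Sum.elim x y) Finset.univ
    (by rw [Finset.coe_univ, Set.image_univ, hy])
  simpa [Fintype.card_sum] using this

end

/-- A field is a regular local ring. -/
theorem isRegularLocalRing_of_maximalIdeal_eq_bot (R : Type u) [CommRing R] [IsLocalRing R]
    [IsNoetherianRing R] (h : maximalIdeal R = ⊥) : IsRegularLocalRing R := by
  rw [isRegularLocalRing_iff, h, Submodule.spanFinrank_bot,
    ringKrullDim_eq_zero_of_isField (isField_iff_maximalIdeal_eq.mpr h), Nat.cast_zero]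

section localHom
variable (A B : Type u) [CommRing A] [IsLocalRing A] [IsNoetherianRing A] [CommRing B] [IsLocalRing B]
  [IsNoetherianRing B] [Algebra A B] [IsLocalHom (algebraMap A B)]
  [IsLocalRing (B ⧸ (maximalIdeal A).map (algebraMap A B))]

theorem spanFinrank_maximalIdeal_le_add : (maximalIdeal B).spanFinrank ≤ (maximalIdeal A).spanFinrank +
    (maximalIdeal (B ⧸ (maximalIdeal A).map (algebraMap A B))).spanFinrank := by
  obtain ⟨g, hg⟩ := H4Depth.exists_fun_fin_span_eq (I := maximalIdeal A)
  have hI : (maximalIdeal A).map (algebraMap A B) = Ideal.span (Set.range (algebraMap A B ∘ g)) := by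
    refine (congrArg (Ideal.map (algebraMap A B)) hg).symm.trans ?_
    rw [Ideal.map_span, Set.range_comp]
  have key : ∀ (I : Ideal B), I = Ideal.span (Set.range (algebraMap A B ∘ g)) →
      ∀ [IsLocalRing (B ⧸ I)], (maximalIdeal B).spanFinrank ≤ (maximalIdeal A).spanFinrank +
        (maximalIdeal (B ⧸ I)).spanFinrank := by
    rintro I rfl _
    exact spanFinrank_maximalIdeal_le_quotient _
  exact key _ hI

/-- Dimension formula for flat local homomorphisms. -/
theorem ringKrullDim_eq_add_of_flat [Module.Flat A B] :
    ringKrullDim B = ringKrullDim A + ringKrullDim (B ⧸ (maximalIdeal A).map (algebraMap A B)) := by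
  have : (maximalIdeal B).LiesOver (maximalIdeal A) := ⟨(IsLocalRing.maximalIdeal_comap _).symm⟩
  rw [← maximalIdeal_height_eq_ringKrullDim, ← maximalIdeal_height_eq_ringKrullDim,
    ← maximalIdeal_height_eq_ringKrullDim,
    Ideal.height_eq_height_add_of_liesOver_of_hasGoingDown (maximalIdeal A) (maximalIdeal B),
    IsLocalRing.map_maximalIdeal_of_surjective _ Ideal.Quotient.mk_surjective, WithBot.coe_add]

/-- Flat local homomorphism with regular base and regular closed fibre. -/
theorem isRegularLocalRing_of_flat_of_fibre [Module.Flat A B] [IsRegularLocalRing A]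
    [IsRegularLocalRing (B ⧸ (maximalIdeal A).map (algebraMap A B))] : IsRegularLocalRing B := by
  refine IsRegularLocalRing.of_spanFinrank_maximalIdeal_le _ ?_
  rw [ringKrullDim_eq_add_of_flat A B, ← IsRegularLocalRing.spanFinrank_maximalIdeal,
    ← IsRegularLocalRing.spanFinrank_maximalIdeal]
  exact_mod_cast spanFinrank_maximalIdeal_le_add A B

/-- Flatness over a regular local ring from the dimension formula, for a regular closed fibre. -/
theorem flat_of_ringKrullDim_eq_add [IsRegularLocalRing A]
    [IsRegularLocalRing (B ⧸ (maximalIdeal A).map (algebraMap A B))]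
    (hdim : ringKrullDim B = ringKrullDim A + ringKrullDim (B ⧸ (maximalIdeal A).map (algebraMap A B))) :
    IsRegularLocalRing B ∧ Module.Flat A B := by
  have h0 := (IsRegularLocalRing.spanFinrank_maximalIdeal (R := A))
  have h1 := (IsRegularLocalRing.spanFinrank_maximalIdeal
    (R := B ⧸ (maximalIdeal A).map (algebraMap A B)))
  set n := (maximalIdeal A).spanFinrank with hn
  set n' := (maximalIdeal (B ⧸ (maximalIdeal A).map (algebraMap A B))).spanFinrank
  rw [← h0, ← h1, ← Nat.cast_add] at hdim
  have hB : IsRegularLocalRing B := by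
    refine IsRegularLocalRing.of_spanFinrank_maximalIdeal_le _ ?_
    rw [hdim]
    exact_mod_cast spanFinrank_maximalIdeal_le_add A B
  refine ⟨hB, ?_⟩
  obtain ⟨g, hg⟩ := H4Depth.exists_fun_fin_span_eq (I := maximalIdeal A)
  obtain ⟨y, -, hy⟩ := exists_span_sumElim_eq ((maximalIdeal A).map (algebraMap A B))
  have hspan : Ideal.span (Set.range (Fin.append (algebraMap A B ∘ g) y)) = maximalIdeal B := by
    have hI : (maximalIdeal A).map (algebraMap A B) = Ideal.span (Set.range (algebraMap A B ∘ g)) := by
      refine (congrArg (Ideal.map (algebraMap A B)) hg).symm.trans ?_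
      rw [Ideal.map_span, Set.range_comp]
    have hr : ∀ {k : ℕ} (a : Fin n → B) (b : Fin k → B),
        Set.range (Fin.append a b) = Set.range a ∪ Set.range b := fun {k} a b => by
      ext z
      constructor
      · rintro ⟨i, rfl⟩
        induction i using Fin.addCases <;> simp
      · rintro (⟨i, rfl⟩ | ⟨i, rfl⟩)
        · exact ⟨Fin.castAdd _ i, by simp⟩
        · exact ⟨Fin.natAdd _ i, by simp⟩
    rw [hr, Ideal.span_union, ← hI, hy]
  have hreg := (H4Depth.isRegular_ofFn_of_span_eq _ hdim _ hspan).1
  rw [List.ofFn_fin_append, isWeaklyRegular_append_iff, ← List.map_ofFn,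
    isWeaklyRegular_map_algebraMap_iff] at hreg
  have hJ : Ideal.ofList (List.ofFn g) = maximalIdeal A := by
    refine Eq.trans ?_ hg
    rw [Ideal.ofList]; congr 1; ext z; simp [List.mem_ofFn]
  have hne : Ideal.ofList (List.ofFn g) ≠ ⊤ := by rw [hJ]; exact (maximalIdeal.isMaximal A).ne_top
  have : (Ideal.ofList (List.ofFn g)).IsMaximal := by rw [hJ]; exact maximalIdeal.isMaximal A
  letI := Ideal.Quotient.field (Ideal.ofList (List.ofFn g))
  exact H7Flat.flat_of_injective_of_flat_quotient (S := B) _ hne
    (lTensor_ofList_injective _ hreg.1)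

end localHom

/-- A flat local extension generated by the maximal ideal of a regular local ring is regular. -/
theorem isRegularLocalRing_of_flat_of_map_eq (A B : Type u) [CommRing A] [IsRegularLocalRing A]
    [CommRing B] [IsLocalRing B] [IsNoetherianRing B] [Algebra A B] [Module.Flat A B]
    (h : (maximalIdeal A).map (algebraMap A B) = maximalIdeal B) : IsRegularLocalRing B := by
  have : IsLocalHom (algebraMap A B) := ((local_hom_TFAE (algebraMap A B)).out 0 2).mpr h.le
  set I := (maximalIdeal A).map (algebraMap A B) with hI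
  have : Nontrivial (B ⧸ I) :=
    Ideal.Quotient.nontrivial_iff.mpr (h ▸ (maximalIdeal.isMaximal B).ne_top)
  have : IsLocalRing (B ⧸ I) := .of_surjective' _ Ideal.Quotient.mk_surjective
  have : IsRegularLocalRing (B ⧸ I) := isRegularLocalRing_of_maximalIdeal_eq_bot _ (by
    rw [← IsLocalRing.map_maximalIdeal_of_surjective _ (Ideal.Quotient.mk_surjective (I := I)), ← h,
      Ideal.map_quotient_self])
  exact isRegularLocalRing_of_flat_of_fibre A B

theorem isNoetherianRing_adicCompletion (A : Type u) [CommRing A] [IsNoetherianRing A] (J : Ideal A) :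
    IsNoetherianRing (AdicCompletion J A) := by
  have fg : J.FG := IsNoetherian.noetherian J
  have := AdicCompletion.isAdicComplete_self J fg
  have : IsNoetherianRing (AdicCompletion J A ⧸ J.map (algebraMap A (AdicCompletion J A))) := by
    refine isNoetherianRing_of_surjective (A ⧸ J) _
      ((RingHom.quotientKerEquivOfSurjective (f := (AdicCompletion.evalOneₐ J).toRingHom)
        (AdicCompletion.evalOneₐ_surjective J)).symm.trans (Ideal.quotEquivOfEq
          (AdicCompletion.ker_evalOneₐ_eq_map J fg))).toRingHom ?_
    exact (RingEquiv.surjective _)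
  exact H24Adic.isNoetherianRing_of_isAdicComplete (J.map (algebraMap A (AdicCompletion J A)))
    (fg.map _)

/-- The completion is regular if `A` is regular at the maximal ideals containing `J`. -/
theorem isRegularRing_adicCompletion' (A : Type u) [CommRing A] [IsNoetherianRing A] (J : Ideal A)
    (hA : ∀ (m : Ideal A) [m.IsMaximal], J ≤ m → IsRegularLocalRing (Localization.AtPrime m)) :
    IsRegularRing (AdicCompletion J A) := by
  have fg : J.FG := IsNoetherian.noetherian J
  have := isNoetherianRing_adicCompletion A J
  have := AdicCompletion.isAdicComplete_self J fg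
  refine isRegularRing_of_forall_isMaximal _ fun M hM => ?_
  let ev := (AdicCompletion.evalOneₐ J).toRingHom
  have hker : RingHom.ker ev = J.map (algebraMap A (AdicCompletion J A)) :=
    AdicCompletion.ker_evalOneₐ_eq_map J fg
  have hle : RingHom.ker ev ≤ M := by
    rw [hker]
    exact (IsAdicComplete.le_jacobson_bot _).trans (sInf_le ⟨bot_le, hM⟩)
  have hmax : (M.map ev).IsMaximal :=
    Ideal.IsMaximal.map_of_surjective_of_ker_le (AdicCompletion.evalOneₐ_surjective J) hle
  set m := M.comap (algebraMap A (AdicCompletion J A)) with hm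
  have hmeq : m = (M.map ev).comap (Ideal.Quotient.mk J) := by
    rw [← AdicCompletion.evalOneₐ_comp_algebraMap_eq_mk, ← Ideal.comap_comap]
    show m = Ideal.comap _ (Ideal.comap ev (Ideal.map ev M))
    rw [Ideal.comap_map_of_surjective' ev (AdicCompletion.evalOneₐ_surjective J), sup_eq_left.mpr hle]
  have : m.IsMaximal := hmeq ▸ Ideal.comap_isMaximal_of_surjective _ Ideal.Quotient.mk_surjective
  have hJm : J ≤ m := fun a ha => by
    rw [hm, Ideal.mem_comap]
    exact hle (hker ▸ Ideal.mem_map_of_mem _ ha)
  have hMeq : m.map (algebraMap A (AdicCompletion J A)) = M :=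
    (AdicCompletion.isMaximal_map_of_le J m hJm fg).eq_of_le hM.ne_top Ideal.map_comap_le
  have : M.LiesOver m := ⟨hm⟩
  letI := Localization.AtPrime.algebraOfLiesOver m M
  have : Module.Flat (Localization.AtPrime m) (Localization.AtPrime M) := inferInstance
  have := hA m hJm
  refine isRegularLocalRing_of_flat_of_map_eq (Localization.AtPrime m) (Localization.AtPrime M) ?_
  refine Eq.trans ?_ ((congrArg (Ideal.map (algebraMap _ (Localization.AtPrime M))) hMeq).trans
    Localization.AtPrime.map_eq_maximalIdeal)
  rw [← Localization.AtPrime.map_eq_maximalIdeal, Ideal.map_map, Ideal.map_map,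
    ← IsScalarTower.algebraMap_eq, ← IsScalarTower.algebraMap_eq]

/-- The adic completion of a regular ring is regular. -/
theorem isRegularRing_adicCompletion (A : Type u) [CommRing A] [IsRegularRing A] (J : Ideal A) :
    IsRegularRing (AdicCompletion J A) :=
  isRegularRing_adicCompletion' A J fun _ _ _ => inferInstance

end Groth.Agent.H05EGA4
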