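import Mathlib
import Groth.Prelude.Def_Found
import Groth.Agent.H05EGA4.Regular2
import Groth.Agent.H4Depth.Regular

/-!
# Existence of Cohen rings (EGA 0_IV 19.8.5 / Stacks 0328)

The Cohen ring with residue field `k` is found inside a big local domain of mixed characteristic
whose residue field is an algebraic closure of `k`, as the completion of a maximal `p`-saturated subring.
-/

open IsLocalRing Polynomial
universe u
set_option maxHeartbeats 800000

namespace Groth.Agent.H05EGA4

/-- `R` is a local subring with residue field inside the range of `j` in which `p` generates the maximal ideal. -/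
structure IsSaturatedSubring {O k : Type u} [CommRing O] [IsLocalRing O] [Field k] (p : ℕ)
    (j : k →+* ResidueField O) (R : Subring O) : Prop where
  sat : ∀ x ∈ R, residue O x = 0 → ∃ y ∈ R, x = (p : O) * y
  range : ∀ x ∈ R, residue O x ∈ j.range
  inv : ∀ x ∈ R, residue O x ≠ 0 → ∃ y ∈ R, x * y = 1

theorem exists_saturated_ge {O k : Type u} [CommRing O] [IsLocalRing O] [Field k] (p : ℕ)
    (j : k →+* ResidueField O) (R : Subring O)
    (sat : ∀ x ∈ R, residue O x = 0 → ∃ y ∈ R, x = (p : O) * y) (range : ∀ x ∈ R, residue O x ∈ j.range) :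
    ∃ R' : Subring O, R ≤ R' ∧ IsSaturatedSubring p j R' := by
  have hu : ∀ s : O, residue O s ≠ 0 → IsUnit s := fun s hs => by
    by_contra h
    exact hs ((residue_eq_zero_iff s).mpr h)
  let R' : Subring O :=
    { carrier := {x | ∃ s ∈ R, residue O s ≠ 0 ∧ s * x ∈ R}
      mul_mem' := fun {a b} ha hb => by
        obtain ⟨s, hs, hs0, hsa⟩ := ha
        obtain ⟨t, ht, ht0, htb⟩ := hb
        refine ⟨s * t, mul_mem hs ht, by rw [map_mul]; exact mul_ne_zero hs0 ht0, ?_⟩
        rw [mul_mul_mul_comm]; exact mul_mem hsa htb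
      one_mem' := ⟨1, one_mem R, by simp, by simpa using one_mem R⟩
      add_mem' := fun {a b} ha hb => by
        obtain ⟨s, hs, hs0, hsa⟩ := ha
        obtain ⟨t, ht, ht0, htb⟩ := hb
        refine ⟨s * t, mul_mem hs ht, by rw [map_mul]; exact mul_ne_zero hs0 ht0, ?_⟩
        rw [show s * t * (a + b) = t * (s * a) + s * (t * b) by ring]
        exact add_mem (mul_mem ht hsa) (mul_mem hs htb)
      zero_mem' := ⟨1, one_mem R, by simp, by simp⟩
      neg_mem' := fun {a} ha => by
        obtain ⟨s, hs, hs0, hsa⟩ := ha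
        exact ⟨s, hs, hs0, by rw [mul_neg]; exact neg_mem hsa⟩ }
  refine ⟨R', fun x hx => ⟨1, one_mem R, by simp, by simpa using hx⟩, ?_, ?_, ?_⟩
  · rintro x ⟨s, hs, hs0, hsx⟩ hx
    obtain ⟨y, hy, hsy⟩ := sat _ hsx (by rw [map_mul, hx, mul_zero])
    obtain ⟨si, hsi⟩ := (hu s hs0).exists_left_inv
    refine ⟨si * y, ⟨s, hs, hs0, by rw [← mul_assoc, mul_comm s si, hsi, one_mul]; exact hy⟩, ?_⟩
    linear_combination si * hsy - x * hsi
  · rintro x ⟨s, hs, hs0, hsx⟩
    obtain ⟨a, ha⟩ := range _ hsx
    obtain ⟨b, hb⟩ := range _ hs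
    refine ⟨a / b, ?_⟩
    rw [map_div₀, ha, hb, map_mul, mul_div_cancel_left₀ _ hs0]
  · rintro x ⟨s, hs, hs0, hsx⟩ hx
    obtain ⟨y, hy⟩ := (hu x hx).exists_right_inv
    refine ⟨y, ⟨s * x, hsx, by rw [map_mul]; exact mul_ne_zero hs0 hx, ?_⟩, hy⟩
    rw [mul_assoc, hy, mul_one]; exact hs

/-- A maximal saturated subring has all of `k` as residue field. -/
theorem exists_saturated_subring_residue {O k : Type u} [CommRing O] [IsLocalRing O] [Field k] {p : ℕ}
    (hp : p.Prime) [CharP (ResidueField O) p] (j : k →+* ResidueField O)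
    (hroot : ∀ f : O[X], f.Monic → ∀ a, (f.map (residue O)).IsRoot a → ∃ t, f.IsRoot t ∧ residue O t = a) :
    ∃ R : Subring O, IsSaturatedSubring p j R ∧ ∀ a : k, ∃ x ∈ R, residue O x = j a := by
  classical
  have hbase : ∀ x ∈ (⊥ : Subring O), residue O x = 0 → ∃ y ∈ (⊥ : Subring O), x = (p : O) * y := by
    intro x hx h0
    obtain ⟨n, rfl⟩ := Subring.mem_bot.mp hx
    rw [map_intCast, CharP.intCast_eq_zero_iff (ResidueField O) p] at h0
    obtain ⟨m, rfl⟩ := h0
    exact ⟨m, Subring.mem_bot.mpr ⟨m, rfl⟩, by push_cast; ring⟩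
  obtain ⟨R0, -, hR0⟩ := exists_saturated_ge p j ⊥ hbase fun x hx => by
    obtain ⟨n, rfl⟩ := Subring.mem_bot.mp hx
    exact ⟨n, by simp⟩
  obtain ⟨R, -, hR⟩ := zorn_le_nonempty₀ {R : Subring O | IsSaturatedSubring p j R} (fun c hc hchain y hy => by
    refine ⟨sSup c, ?_, fun z hz => le_sSup hz⟩
    have hmem : ∀ {x}, x ∈ sSup c ↔ ∃ s ∈ c, x ∈ s := Subring.mem_sSup_of_directedOn ⟨y, hy⟩ hchain.directedOn
    refine ⟨fun x hx h0 => ?_, fun x hx => ?_, fun x hx h0 => ?_⟩
    · obtain ⟨s, hs, hxs⟩ := hmem.mp hx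
      obtain ⟨w, hw, h⟩ := (hc hs).sat x hxs h0
      exact ⟨w, hmem.mpr ⟨s, hs, hw⟩, h⟩
    · obtain ⟨s, hs, hxs⟩ := hmem.mp hx
      exact (hc hs).range x hxs
    · obtain ⟨s, hs, hxs⟩ := hmem.mp hx
      obtain ⟨w, hw, h⟩ := (hc hs).inv x hxs h0
      exact ⟨w, hmem.mpr ⟨s, hs, hw⟩, h⟩) R0 hR0
  have hS : IsSaturatedSubring p j R := hR.prop
  refine ⟨R, hS, ?_⟩
  let φ : R →+* ResidueField O := (residue O).comp R.subtype
  let F : Subfield (ResidueField O) :=
    { φ.range with
      inv_mem' := by
        rintro _ ⟨x, rfl⟩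
        by_cases h : residue O x.1 = 0
        · exact ⟨0, by simp [φ, h]⟩
        · obtain ⟨y, hy, hxy⟩ := hS.inv x.1 x.2 h
          refine ⟨⟨y, hy⟩, (inv_eq_of_mul_eq_one_right ?_).symm⟩
          show residue O x.1 * residue O y = 1
          rw [← map_mul, hxy, map_one] }
  intro a
  by_contra hcon
  push Not at hcon
  have haF : j a ∉ F := fun ⟨x, hx⟩ => hcon x.1 x.2 hx
  let φF : R →+* F := φ.codRestrict F fun x => ⟨x, rfl⟩
  have hφF : Function.Surjective φF := fun z => by
    obtain ⟨x, hx⟩ := z.2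
    exact ⟨x, Subtype.ext hx⟩
  suffices hext : ∃ t : O, residue O t = j a ∧ ∀ f : R[X], residue O (eval₂ R.subtype t f) = 0 →
      ∃ y : R[X], eval₂ R.subtype t f = (p : O) * eval₂ R.subtype t y by
    obtain ⟨t, ht, hsat⟩ := hext
    let S := (eval₂RingHom R.subtype t).range
    obtain ⟨R', hSR', hR'⟩ := exists_saturated_ge p j S
      (by
        rintro _ ⟨f, rfl⟩ h0
        obtain ⟨y, hy⟩ := hsat f h0
        exact ⟨_, ⟨y, rfl⟩, hy⟩)
      (by
        rintro _ ⟨f, rfl⟩
        show residue O (eval₂ R.subtype t f) ∈ j.range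
        induction f using Polynomial.induction_on' with
        | add f g hf hg => rw [eval₂_add, map_add]; exact add_mem hf hg
        | monomial n r =>
          rw [eval₂_monomial, map_mul, map_pow, ht]
          exact mul_mem (hS.range _ r.2) (pow_mem (show j a ∈ j.range from ⟨a, rfl⟩) n))
    have hle : R ≤ R' := fun x hx => hSR' ⟨C ⟨x, hx⟩, eval₂_C _ _⟩
    have heq : R' ≤ R := hR.2 hR' hle
    exact hcon t (heq (hSR' ⟨X, eval₂_X _ _⟩)) ht
  have hred : ∀ (f : R[X]), f.map φF = 0 → ∀ t, ∃ y : R[X], eval₂ R.subtype t f = (p : O) * eval₂ R.subtype t y := by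
    intro f hf t
    have hc : ∀ n, ∃ y : R, f.coeff n = (p : R) * y := fun n => by
      have := congrArg (fun g => ((g.coeff n : F) : ResidueField O)) hf
      simp only [coeff_map, coeff_zero] at this
      obtain ⟨y, hy, h⟩ := hS.sat _ (f.coeff n).2 this
      exact ⟨⟨y, hy⟩, Subtype.ext (by simpa using h)⟩
    choose c hc using hc
    refine ⟨∑ n ∈ f.support, monomial n (c n), ?_⟩
    conv_lhs => rw [f.as_sum_support]
    rw [eval₂_finset_sum, eval₂_finset_sum, Finset.mul_sum]
    refine Finset.sum_congr rfl fun n _ => ?_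
    rw [eval₂_monomial, eval₂_monomial, hc n, map_mul, map_natCast, mul_assoc]
  have hres : ∀ (f : R[X]) t, residue O (eval₂ R.subtype t f) = (f.map φF).eval₂ F.subtype (residue O t) := by
    intro f t
    rw [hom_eval₂, eval₂_map]
    rfl
  by_cases halg : IsAlgebraic F (j a)
  · have hint : IsIntegral F (j a) := halg.isIntegral
    obtain ⟨g, hg, hgdeg, hgm⟩ := lifts_and_natDegree_eq_and_monic
      ((lifts_iff_coeff_lifts _).mpr fun n => hφF ((minpoly F (j a)).coeff n)) (minpoly.monic hint)
    obtain ⟨t, htroot, ht⟩ := hroot (g.map R.subtype) (hgm.map _) (j a) (by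
      rw [IsRoot, map_map, eval_map]
      show eval₂ ((algebraMap F (ResidueField O)).comp φF) (j a) g = 0
      rw [← eval₂_map, hg, ← aeval_def, minpoly.aeval])
    refine ⟨t, ht, fun f h0 => ?_⟩
    have hmod : eval₂ R.subtype t f = eval₂ R.subtype t (f %ₘ g) := by
      conv_lhs => rw [← modByMonic_add_div f g]
      rw [eval₂_add, eval₂_mul, ← eval_map R.subtype t (p := g), show eval t (map R.subtype g) = 0 from htroot,
        zero_mul, add_zero]
    rw [hmod] at h0 ⊢
    refine hred _ ?_ t
    rw [hres, ht] at h0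
    by_contra hne
    have hdeg : ((f %ₘ g).map φF).degree < (minpoly F (j a)).degree := by
      refine degree_map_le.trans_lt ?_
      rw [← hg, hgm.degree_map]
      exact degree_modByMonic_lt f hgm
    exact absurd (minpoly.degree_le_of_ne_zero F (j a) hne h0) (not_le.mpr hdeg)
  · obtain ⟨t, ht⟩ := residue_surjective (j a)
    refine ⟨t, ht, fun f h0 => hred f ?_ t⟩
    rw [hres, ht] at h0
    by_contra hne
    exact halg ⟨_, hne, h0⟩

/-- A big mixed characteristic local domain. -/
theorem exists_saturated_ambient (p : ℕ) [hp : Fact p.Prime] (k : Type u) [Field k] [CharP k p] :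
    ∃ (O : Type u) (_ : CommRing O) (_ : IsDomain O) (_ : IsLocalRing O) (_ : k →+* ResidueField O),
      CharP (ResidueField O) p ∧ (p : O) ≠ 0 ∧
      (∀ x : O, (∀ n : ℕ, (p : O) ^ n ∣ x) → x = 0) ∧
      ∀ f : O[X], f.Monic → ∀ a, (f.map (residue O)).IsRoot a → ∃ t, f.IsRoot t ∧ residue O t = a := by
  classical
  let kb := AlgebraicClosure k
  let W := WittVector p kb
  let K := FractionRing W
  let Ω := AlgebraicClosure K
  let A := integralClosure W Ω
  have hinjW : Function.Injective (algebraMap W Ω) := by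
    rw [IsScalarTower.algebraMap_eq W K Ω]
    exact (algebraMap K Ω).injective.comp (IsFractionRing.injective W K)
  have hinjA : Function.Injective (algebraMap W A) := fun a b h => hinjW (congrArg Subtype.val h)
  obtain ⟨M, hM, hMW⟩ := Ideal.exists_ideal_over_maximal_of_isIntegral (S := A) (maximalIdeal W)
    (by rw [(RingHom.injective_iff_ker_eq_bot _).mp hinjA]; exact bot_le)
  have : Algebra.IsAlgebraic W Ω := IsFractionRing.comap_isAlgebraic_iff.mpr
    (inferInstance : Algebra.IsAlgebraic K Ω)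
  have : IsFractionRing A Ω := integralClosure.isFractionRing_of_algebraic (fun x hx => (map_eq_zero_iff _ hinjW).mp hx)
  have : IsIntegrallyClosed A := by
    rw [isIntegrallyClosed_iff Ω]
    intro x hx
    exact ⟨⟨x, isIntegral_trans x hx⟩, rfl⟩
  let O := Localization.subalgebra.ofField Ω M.primeCompl M.primeCompl_le_nonZeroDivisors
  have hloc : IsLocalization.AtPrime O M := Localization.subalgebra.isLocalization_ofField Ω _ _
  have : IsLocalRing O := IsLocalization.AtPrime.isLocalRing O M
  have hIC : IsIntegrallyClosed O := isIntegrallyClosed_of_isLocalization O M.primeCompl M.primeCompl_le_nonZeroDivisors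
  let ι : W →+* O := (algebraMap A O).comp (algebraMap W A)
  have hιmax : ∀ w, w ∈ maximalIdeal W ↔ residue O (ι w) = 0 := fun w => by
    rw [residue_eq_zero_iff, ← hMW, Ideal.mem_comap]
    exact (IsLocalization.AtPrime.to_map_mem_maximal_iff O M _).symm
  let jW : ResidueField W →+* ResidueField O := Ideal.Quotient.lift (maximalIdeal W) ((residue O).comp ι)
    fun w hw => (hιmax w).mp hw
  have hW0 : RingHom.ker (WittVector.constantCoeff : W →+* kb) = maximalIdeal W :=
    IsLocalRing.eq_maximalIdeal (RingHom.ker_isMaximal_of_surjective _ fun c => ⟨WittVector.teichmuller p c,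
      WittVector.teichmuller_coeff_zero p c⟩)
  let e : ResidueField W ≃+* kb := (Ideal.quotEquivOfEq hW0.symm).trans
    (RingHom.quotientKerEquivOfSurjective (f := (WittVector.constantCoeff : W →+* kb)) fun c => ⟨WittVector.teichmuller p c,
      WittVector.teichmuller_coeff_zero p c⟩)
  let j : k →+* ResidueField O := (jW.comp e.symm.toRingHom).comp (algebraMap k kb)
  have : CharP (ResidueField O) p := charP_of_injective_ringHom j.injective p
  have hp0 : (p : O) ≠ 0 := by
    intro h
    have h1 : (algebraMap W Ω) (p : W) = 0 := by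
      rw [map_natCast, ← map_natCast O.val, h, map_zero]
    exact (WittVector.irreducible p).ne_zero ((map_eq_zero_iff _ hinjW).mp h1)
  have hprime : ∀ (Q : Ideal O) [Q.IsPrime], Q ≠ ⊥ → Q = maximalIdeal O := by
    intro Q hQ hQ0
    have hc0 : Q.comap (algebraMap A O) ≠ ⊥ := fun h => hQ0 (by
      rw [← IsLocalization.map_under M.primeCompl O Q, show Q.under A = ⊥ from h, Ideal.map_bot])
    have hcM : Q.comap (algebraMap A O) ≤ M := fun x hx => (IsLocalization.AtPrime.to_map_mem_maximal_iff O M x).mp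
      (le_maximalIdeal hQ.ne_top hx)
    have hcmax : (Q.comap (algebraMap A O)).IsMaximal := Ideal.IsPrime.isMaximal inferInstance hc0
    rw [← IsLocalization.map_under M.primeCompl O Q, show Q.under A = M from hcmax.eq_of_le hM.ne_top hcM]
    exact IsLocalization.AtPrime.map_eq_maximalIdeal M O
  refine ⟨O, inferInstance, inferInstance, inferInstance, j, inferInstance, hp0, fun x hx => ?_, fun f hf a ha => ?_⟩
  · by_contra hx0
    have hpm : (p : O) ∈ maximalIdeal O := by
      rw [← residue_eq_zero_iff, map_natCast]; exact CharP.cast_eq_zero _ p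
    have hrad : (p : O) ∈ (Ideal.span {x}).radical := by
      rw [Ideal.radical_eq_sInf, Ideal.mem_sInf]
      rintro Q ⟨hxQ, hQ⟩
      have : Q ≠ ⊥ := fun h => hx0 (by
        have := hxQ (Ideal.mem_span_singleton_self x)
        rwa [h, Ideal.mem_bot] at this)
      rw [hprime Q this]; exact hpm
    obtain ⟨m, hm⟩ := hrad
    obtain ⟨y, hy⟩ := Ideal.mem_span_singleton'.mp hm
    obtain ⟨z, hz⟩ := hx (m + 1)
    have : (p : O) * (z * y) = 1 := mul_left_cancel₀ (pow_ne_zero m hp0) (by rw [mul_one]; linear_combination hy - y * hz)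
    exact hpm (IsUnit.of_mul_eq_one _ this)
  · have hspl := IsAlgClosed.splits (f.map (algebraMap O Ω))
    have hroots : ∀ r ∈ (f.map (algebraMap O Ω)).roots, ∃ s : O, algebraMap O Ω s = r := fun r hr => by
      refine (isIntegrallyClosed_iff Ω).mp hIC ⟨f, hf, ?_⟩
      rw [← eval_map]; exact (mem_roots'.mp hr).2
    choose! g hg using hroots
    have hprod : f = (((f.map (algebraMap O Ω)).roots.map g).map (X - C ·)).prod := by
      refine map_injective (algebraMap O Ω) (FaithfulSMul.algebraMap_injective O Ω) ?_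
      rw [Polynomial.map_multiset_prod, Multiset.map_map, Multiset.map_map]
      refine (hspl.eq_prod_roots_of_monic (hf.map _)).trans (congrArg _ (Multiset.map_congr rfl fun r hr => ?_))
      simp [hg r hr]
    rw [hprod, IsRoot, Polynomial.map_multiset_prod, eval_multiset_prod, Multiset.prod_eq_zero_iff] at ha
    simp only [Multiset.mem_map, exists_exists_and_eq_and] at ha
    obtain ⟨r, hr, har⟩ := ha
    refine ⟨g r, ?_, ?_⟩
    · rw [IsRoot, hprod, eval_multiset_prod, Multiset.prod_eq_zero_iff]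
      simp only [Multiset.mem_map, exists_exists_and_eq_and]
      exact ⟨r, hr, by simp⟩
    · have := har
      simp at this
      exact (sub_eq_zero.mp (by first | exact this | exact this.symm)).symm

/-- Existence of Cohen rings. -/
theorem exists_isCohenRing (p : ℕ) [hp : Fact p.Prime] (k : Type u) [Field k] [CharP k p] :
    ∃ (Λ : Type u) (_ : CommRing Λ) (_ : IsLocalRing Λ), CAlg.IsCohenRing Λ ∧ maximalIdeal Λ = Ideal.span {(p : Λ)} ∧
      Nonempty (ResidueField Λ ≃+* k) := by
  obtain ⟨O, _, _, _, j, _, hp0, hsep, hroot⟩ := exists_saturated_ambient p k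
  obtain ⟨R, hR, hk⟩ := exists_saturated_subring_residue hp.out j hroot
  have hpR : (p : R) ≠ 0 := fun h => hp0 (by simpa using congrArg Subtype.val h)
  have hnu : ∀ x : R, residue O x.1 = 0 ↔ ¬ IsUnit x := by
    refine fun x => ⟨fun h hu => ?_, fun h => ?_⟩
    · obtain ⟨y, hy⟩ := hu.exists_right_inv
      have := congrArg (fun z : R => residue O z.1) hy
      simp [h] at this
    · by_contra h0
      obtain ⟨y, hy, hxy⟩ := hR.inv x.1 x.2 h0
      exact h (IsUnit.of_mul_eq_one _ (Subtype.ext hxy : x * ⟨y, hy⟩ = 1))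
  have hpu : residue O ((p : R) : O) = 0 := by simp
  have hfac : ∀ x : R, x ≠ 0 → ∃ n : ℕ, Associated ((p : R) ^ n) x := by
    intro x hx
    by_contra hcon
    push Not at hcon
    refine hx (Subtype.ext (hsep x.1 fun n => ?_))
    suffices ∃ y : R, x = (p : R) ^ n * y by
      obtain ⟨y, hy⟩ := this
      exact ⟨y.1, by rw [hy]; simp⟩
    induction n with
    | zero => exact ⟨x, by simp⟩
    | succ n ih =>
      obtain ⟨y, hy⟩ := ih
      by_cases h0 : residue O y.1 = 0
      · obtain ⟨z, hz, hyz⟩ := hR.sat y.1 y.2 h0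
        exact ⟨⟨z, hz⟩, by rw [hy, pow_succ, mul_assoc]; congr 1; exact Subtype.ext (by simpa using hyz)⟩
      · have hu : IsUnit y := by rwa [← not_not (a := IsUnit y), ← hnu]
        exact absurd ⟨hu.unit, hy.symm⟩ (hcon n)
  have hirr : Irreducible (p : R) := by
    refine ⟨(hnu _).mp hpu, fun a b hab => ?_⟩
    by_contra hcon
    push Not at hcon
    obtain ⟨a', ha', hae⟩ := hR.sat a.1 a.2 ((hnu a).mpr hcon.1)
    obtain ⟨b', hb', hbe⟩ := hR.sat b.1 b.2 ((hnu b).mpr hcon.2)
    have : (p : O) * 1 = (p : O) * ((p : O) * (a' * b')) := by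
      have h := congrArg Subtype.val hab
      simp only [Subring.coe_natCast, Subring.coe_mul, hae, hbe] at h
      linear_combination h
    have h1 := congrArg (residue O) (mul_left_cancel₀ hp0 this)
    simp at h1
  have hdvr : IsDiscreteValuationRing R := IsDiscreteValuationRing.ofHasUnitMulPowIrreducibleFactorization
    ⟨(p : R), hirr, fun {x} hx => hfac x hx⟩
  have hmax : maximalIdeal R = Ideal.span {(p : R)} := hirr.maximalIdeal_eq
  let φ : R →+* k := (RingEquiv.ofBijective j.rangeRestrict
    ⟨fun a b h => j.injective (congrArg Subtype.val h), j.rangeRestrict_surjective⟩).symm.toRingHom.comp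
      (((residue O).comp R.subtype).codRestrict j.range fun x => hR.range x.1 x.2)
  have hφ : Function.Surjective φ := fun a => by
    obtain ⟨x, hx, hxa⟩ := hk a
    refine ⟨⟨x, hx⟩, ?_⟩
    simp only [φ, RingHom.comp_apply, RingEquiv.toRingHom_eq_coe, RingHom.coe_coe]
    rw [RingEquiv.symm_apply_eq]
    exact Subtype.ext hxa
  have eR : ResidueField R ≃+* k := (Ideal.quotEquivOfEq
    (IsLocalRing.eq_maximalIdeal (RingHom.ker_isMaximal_of_surjective φ hφ)).symm).trans
      (RingHom.quotientKerEquivOfSurjective hφ)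
  let Λ := AdicCompletion (maximalIdeal R) R
  have hΛmax : maximalIdeal Λ = Ideal.span {(p : Λ)} := by
    refine AdicCompletion.maximalIdeal_eq_map.trans ((congrArg (Ideal.map (algebraMap R Λ)) hmax).trans ?_)
    rw [Ideal.map_span, Set.image_singleton, map_natCast]
  have : IsRegularRing R := inferInstance
  have := isRegularRing_adicCompletion R (maximalIdeal R)
  have : IsRegularLocalRing Λ := IsRegularLocalRing.of_isRegularRing_of_isLocalRing Λ
  have : IsDomain Λ := H4Depth.isDomain_of_isRegularLocalRing Λ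
  have hne : ¬ IsField Λ := by
    rw [IsLocalRing.isField_iff_maximalIdeal_eq, hΛmax, Ideal.span_singleton_eq_bot]
    intro h
    refine hpR (AdicCompletion.of_injective (maximalIdeal R) R ?_)
    rw [map_zero, ← h]
    exact map_natCast (algebraMap R Λ) p
  have htf : IsDiscreteValuationRing Λ ↔ (maximalIdeal Λ).IsPrincipal := (IsDiscreteValuationRing.TFAE Λ hne).out 0 4
  have : IsDiscreteValuationRing Λ := htf.mpr ⟨⟨_, hΛmax⟩⟩
  refine ⟨Λ, inferInstance, inferInstance, ⟨inferInstance, inferInstance, inferInstance, p, hp.out, hΛmax⟩, hΛmax, ⟨?_⟩⟩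
  exact (RingEquiv.ofBijective _ (AdicCompletion.residueField_map_bijective R)).symm.trans eR

end Groth.Agent.H05EGA4
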