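import Mathlib
import Groth.Prelude.Def_Found

/-!
# Formal smoothness: field extensions, and lifting along flat nilpotent deformations (EGA 0_IV 19.6-19.7)
-/

open MvPolynomial
universe u v w
set_option maxHeartbeats 800000

namespace Groth.Agent.H05EGA4

theorem pderiv_rename' {R : Type v} {σ τ : Type u} [CommRing R] {f : σ → τ} (hf : Function.Injective f) (i : σ)
    (p : MvPolynomial σ R) : pderiv (f i) (rename f p) = rename f (pderiv i p) := by
  classical
  induction p using MvPolynomial.induction_on with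
  | C r => simp
  | add a b ha hb => simp [ha, hb]
  | mul_X a j ha =>
    simp only [map_mul, rename_X, pderiv_mul, ha, map_add]
    congr 1
    by_cases h : j = i
    · subst h; simp
    · simp [pderiv_X, Pi.single_eq_of_ne h, Pi.single_eq_of_ne (fun e => h (hf e)), Ne.symm h,
        fun e => h (hf e).symm]

/-- Formal smoothness of a field extension only depends on the finitely generated subextensions. -/
theorem formallySmooth_of_forall_fg (k : Type v) (L : Type u) [Field k] [Field L] [Algebra k L]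
    (h : ∀ F : IntermediateField k L, F.FG → Algebra.FormallySmooth k F) : Algebra.FormallySmooth k L := by
  classical
  suffices Subsingleton (Algebra.H1Cotangent k L) from (Algebra.formallySmooth_iff k L).mpr ⟨inferInstance, this⟩
  let P := MvPolynomial L k
  letI : Algebra P L := (MvPolynomial.aeval (id : L → L)).toAlgebra
  have : IsScalarTower k P L := IsScalarTower.of_algebraMap_eq fun r => by
    show algebraMap k L r = MvPolynomial.aeval id (C r); simp
  have hsurj : Function.Surjective (algebraMap P L) := fun x => ⟨X x, MvPolynomial.aeval_X _ x⟩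
  rw [← Algebra.FormallySmooth.kerCotangentToTensor_injective_iff (R := k) (P := P) hsurj, injective_iff_map_eq_zero]
  intro z hz
  obtain ⟨⟨f, hf⟩, rfl⟩ := Ideal.toCotangent_surjective _ z
  rw [KaehlerDifferential.kerCotangentToTensor_toCotangent] at hz
  have hd : ∀ i, algebraMap P L (pderiv i f) = 0 := by
    intro i
    have h1 := DFunLike.congr_fun (congrArg ((KaehlerDifferential.mvPolynomialBasis k L).baseChange L).repr hz) i
    rw [Module.Basis.baseChange_repr_tmul, KaehlerDifferential.mvPolynomialBasis_repr_apply] at h1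
    simpa [Algebra.smul_def] using h1
  obtain ⟨s, g, hgf⟩ := exists_finset_rename f
  let F := IntermediateField.adjoin k (s : Set L)
  have := h F (IntermediateField.fg_adjoin_finset s)
  let ι : s → F := fun i => ⟨i.1, IntermediateField.subset_adjoin _ _ i.2⟩
  let g' : MvPolynomial F k := rename ι g
  have hval : Function.Injective (Subtype.val : F → L) := Subtype.val_injective
  have hfg : f = rename (Subtype.val : F → L) g' := by
    show f = rename _ (rename ι g)
    rw [rename_rename]; exact hgf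
  letI : Algebra (MvPolynomial F k) F := (MvPolynomial.aeval (id : F → F)).toAlgebra
  have : IsScalarTower k (MvPolynomial F k) F := IsScalarTower.of_algebraMap_eq fun r => by
    show algebraMap k F r = MvPolynomial.aeval id (C r); simp
  have hsurjF : Function.Surjective (algebraMap (MvPolynomial F k) F) := fun x => ⟨X x, MvPolynomial.aeval_X _ x⟩
  have hcomp : ∀ q : MvPolynomial F k, algebraMap P L (rename Subtype.val q) = (algebraMap (MvPolynomial F k) F q : L) := by
    intro q
    show MvPolynomial.aeval id (rename Subtype.val q) = F.val (MvPolynomial.aeval id q)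
    rw [aeval_rename, ← AlgHom.comp_apply, comp_aeval]
    rfl
  have hker : g' ∈ RingHom.ker (algebraMap (MvPolynomial F k) F) := by
    refine Subtype.ext ?_
    have hf' : algebraMap P L f = 0 := hf
    rw [hfg, hcomp] at hf'
    exact hf'
  have hinjF := (Algebra.FormallySmooth.kerCotangentToTensor_injective_iff (R := k) (P := MvPolynomial F k) hsurjF).mpr
    Algebra.FormallySmooth.subsingleton_h1Cotangent
  have hz' : Ideal.toCotangent _ ⟨g', hker⟩ = 0 := by
    refine hinjF ?_
    rw [map_zero, KaehlerDifferential.kerCotangentToTensor_toCotangent]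
    refine ((KaehlerDifferential.mvPolynomialBasis k F).baseChange F).repr.map_eq_zero_iff.mp ?_
    ext i
    rw [Module.Basis.baseChange_repr_tmul, KaehlerDifferential.mvPolynomialBasis_repr_apply]
    have h1 := hd i.1
    rw [hfg, pderiv_rename' hval, hcomp] at h1
    simpa [Algebra.smul_def] using (Subtype.ext h1 : algebraMap (MvPolynomial F k) F (pderiv i g') = 0)
  rw [Ideal.toCotangent_eq_zero] at hz' ⊢
  have hle : (RingHom.ker (algebraMap (MvPolynomial F k) F)).map
      (rename Subtype.val : MvPolynomial F k →ₐ[k] P) ≤ RingHom.ker (algebraMap P L) := by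
    refine Ideal.map_le_iff_le_comap.mpr fun q hq => ?_
    show algebraMap P L (rename Subtype.val q) = 0
    rw [hcomp, RingHom.mem_ker.mp hq]; rfl
  refine Ideal.pow_right_mono hle 2 ?_
  rw [← Ideal.map_pow]
  exact hfg ▸ Ideal.mem_map_of_mem _ hz'

theorem formallySmooth_of_perfectField (k : Type v) (L : Type u) [Field k] [Field L] [Algebra k L] [PerfectField k] :
    Algebra.FormallySmooth k L :=
  formallySmooth_of_forall_fg k L fun F hF => by
    have := IntermediateField.essFiniteType_iff.mpr hF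
    infer_instance

/-! ### Lifting along flat algebras -/

section flatLift
variable {A : Type w} [CommRing A]

/-- Square-zero lifting for a flat algebra with formally smooth reduction. -/
theorem exists_lift_of_flat_sq_zero (B : Type u) [CommRing B] [Algebra A B] [Module.Flat A B] (𝔞 : Ideal A)
    [Algebra.FormallySmooth (A ⧸ 𝔞) (B ⧸ 𝔞.map (algebraMap A B))]
    {C C' : Type u} [CommRing C] [Algebra A C] [CommRing C'] [Algebra A C'] (g : C →ₐ[A] C')
    (hg : Function.Surjective g) (hJ : ∀ a b, g a = 0 → g b = 0 → a * b = 0)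
    (h𝔞J : ∀ a ∈ 𝔞, ∀ c, g c = 0 → a • c = 0) (u : B →ₐ[A] C') : ∃ v : B →ₐ[A] C, g.comp v = u := by
  classical
  let P := MvPolynomial B A
  let π : P →ₐ[A] B := MvPolynomial.aeval id
  have hπ : Function.Surjective π := fun b => ⟨X b, MvPolynomial.aeval_X _ b⟩
  let I := RingHom.ker π
  let N : Ideal P := I ^ 2 ⊔ 𝔞.map (algebraMap A P)
  let T := P ⧸ N
  have hN𝔞 : ∀ a ∈ 𝔞, Ideal.Quotient.mk N (algebraMap A P a) = 0 := fun a ha =>
    Ideal.Quotient.eq_zero_iff_mem.mpr (Ideal.mem_sup_right (Ideal.mem_map_of_mem _ ha))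
  letI : Algebra (A ⧸ 𝔞) T := (Ideal.Quotient.lift 𝔞 ((Ideal.Quotient.mk N).comp (algebraMap A P)) hN𝔞).toAlgebra
  have : IsScalarTower A (A ⧸ 𝔞) T := IsScalarTower.of_algebraMap_eq fun _ => rfl
  let Bb := B ⧸ 𝔞.map (algebraMap A B)
  have hker : ∀ x ∈ N, (Ideal.Quotient.mk (𝔞.map (algebraMap A B))) (π x) = 0 := by
    intro x hx
    have hle : N ≤ (𝔞.map (algebraMap A B)).comap π := by
      refine sup_le ?_ (Ideal.map_le_iff_le_comap.mpr fun a ha => ?_)
      · intro y hy
        show π y ∈ 𝔞.map (algebraMap A B)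
        rw [RingHom.mem_ker.mp (Ideal.pow_le_self two_ne_zero hy : y ∈ I)]
        exact zero_mem _
      · show π (algebraMap A P a) ∈ 𝔞.map (algebraMap A B)
        rw [AlgHom.commutes]; exact Ideal.mem_map_of_mem _ ha
    exact Ideal.Quotient.eq_zero_iff_mem.mpr (hle hx)
  let q : T →+* Bb := Ideal.Quotient.lift N ((Ideal.Quotient.mk _).comp π.toRingHom) hker
  let qa : T →ₐ[A ⧸ 𝔞] Bb :=
    { q with
      commutes' := fun r => by
        obtain ⟨r, rfl⟩ := Ideal.Quotient.mk_surjective r
        show Ideal.Quotient.mk _ (π (algebraMap A P r)) = _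
        rw [AlgHom.commutes]; rfl }
  have hqs : Function.Surjective qa := by
    intro b
    obtain ⟨b, rfl⟩ := Ideal.Quotient.mk_surjective b
    obtain ⟨x, rfl⟩ := hπ b
    exact ⟨Ideal.Quotient.mk N x, rfl⟩
  have hlift : ∀ b ∈ 𝔞.map (algebraMap A B), ∃ a ∈ 𝔞.map (algebraMap A P), π a = b := by
    intro b hb
    have h2 : (𝔞.map (algebraMap A P)).map π.toRingHom = 𝔞.map (algebraMap A B) := by
      rw [Ideal.map_map]; congr 1; exact π.comp_algebraMap
    rw [← h2] at hb
    exact (Ideal.mem_map_iff_of_surjective π.toRingHom hπ).mp hb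
  have hkerT : ∀ t, qa t = 0 → ∃ i ∈ I, Ideal.Quotient.mk N i = t := by
    intro t ht
    obtain ⟨x, rfl⟩ := Ideal.Quotient.mk_surjective t
    obtain ⟨a, ha, hax⟩ := hlift _ (Ideal.Quotient.eq_zero_iff_mem.mp ht)
    refine ⟨x - a, by show π (x - a) = 0; rw [map_sub, show π a = π x from hax, sub_self], ?_⟩
    rw [map_sub, Ideal.Quotient.eq_zero_iff_mem.mpr (Ideal.mem_sup_right ha), sub_zero]
  have hnil : IsNilpotent (RingHom.ker (qa : T →+* Bb)) := ⟨2, by
    refine le_bot_iff.mp ?_
    refine le_trans (le_of_eq (Submodule.pow_succ _ (n := 1))) ?_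
    rw [Submodule.pow_one, Ideal.mul_le]
    intro x hx y hy
    obtain ⟨i, hi, rfl⟩ := hkerT x hx
    obtain ⟨j, hj, rfl⟩ := hkerT y hy
    rw [← map_mul, Ideal.mem_bot, Ideal.Quotient.eq_zero_iff_mem, show N = I ^ 2 ⊔ 𝔞.map (algebraMap A P) from rfl, pow_two]
    exact Ideal.mem_sup_left (Ideal.mul_mem_mul hi hj)⟩
  let s := Algebra.FormallySmooth.liftOfSurjective (AlgHom.id (A ⧸ 𝔞) Bb) qa hqs hnil
  have hs : ∀ b, qa (s b) = b := fun b => Algebra.FormallySmooth.liftOfSurjective_apply _ qa hqs hnil b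
  let φ₁ : P →ₐ[A] T := Ideal.Quotient.mkₐ A N
  let φ₂ : P →ₐ[A] T := (s.restrictScalars A).comp ((Ideal.Quotient.mkₐ A (𝔞.map (algebraMap A B))).comp π)
  let S := AlgHom.equalizer φ₁ φ₂
  let π' : S →ₐ[A] B := π.comp S.val
  have hπ' : Function.Surjective π' := by
    intro b
    obtain ⟨y, hy⟩ := Ideal.Quotient.mk_surjective (s (Ideal.Quotient.mk _ b))
    have h1 : Ideal.Quotient.mk (𝔞.map (algebraMap A B)) (π y) = Ideal.Quotient.mk _ b := by
      have := congrArg qa hy
      rw [hs] at this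
      exact this
    obtain ⟨a, ha, hab⟩ := hlift _ (Ideal.Quotient.eq.mp h1.symm)
    refine ⟨⟨y + a, ?_⟩, by show π (y + a) = b; rw [map_add, hab]; ring⟩
    show Ideal.Quotient.mk N (y + a) = s (Ideal.Quotient.mk _ (π (y + a)))
    rw [map_add, Ideal.Quotient.eq_zero_iff_mem.mpr (Ideal.mem_sup_right ha), add_zero, map_add π, hab,
      show π y + (b - π y) = b by ring]
    exact hy
  obtain ⟨v₀, hv₀⟩ : ∃ v₀ : P →ₐ[A] C, g.comp v₀ = u.comp π :=
    ⟨MvPolynomial.aeval fun b => (hg (u b)).choose, MvPolynomial.algHom_ext fun b => by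
      simp only [AlgHom.comp_apply, π, MvPolynomial.aeval_X, id]
      exact (hg (u b)).choose_spec⟩
  have hv₀I : ∀ i ∈ I, g (v₀ i) = 0 := fun i hi => by
    rw [← AlgHom.comp_apply, hv₀, AlgHom.comp_apply, RingHom.mem_ker.mp hi, map_zero]
  have hkill : ∀ x : S, π' x = 0 → v₀ x.1 = 0 := by
    intro x hx
    have hx1 : Ideal.Quotient.mk N x.1 = s (Ideal.Quotient.mk _ (π x.1)) := x.2
    rw [show π x.1 = 0 from hx, map_zero, map_zero, Ideal.Quotient.eq_zero_iff_mem] at hx1
    obtain ⟨w, hw, z, hz, hwz⟩ := Submodule.mem_sup.mp hx1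
    have hv2 : ∀ y ∈ I ^ 2, v₀ y = 0 := by
      intro y hy
      rw [pow_two] at hy
      induction hy using Submodule.mul_induction_on' with
      | mem_mul_mem a ha b hb => rw [map_mul]; exact hJ _ _ (hv₀I a ha) (hv₀I b hb)
      | add a _ b _ ha hb => rw [map_add, ha, hb, add_zero]
    have hzI : π z = 0 := by
      have h3 := congrArg π hwz
      rw [map_add, show π x.1 = 0 from hx, RingHom.mem_ker.mp (Ideal.pow_le_self two_ne_zero hw : w ∈ I), zero_add] at h3
      exact h3
    rw [← hwz, map_add, hv2 w hw, zero_add]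
    obtain ⟨n, a, y, hz'⟩ : ∃ (n : ℕ) (a : Fin n → 𝔞) (y : Fin n → P), z = ∑ i, (a i : A) • y i := by
      have hz2 : z ∈ (Submodule.span A (𝔞 : Set A)) • (⊤ : Submodule A P) := by
        rw [Submodule.span_eq, Ideal.smul_top_eq_map]; exact hz
      rw [Submodule.span_eq] at hz2
      refine Submodule.smul_induction_on hz2 (fun r hr m _ => ⟨1, fun _ => ⟨r, hr⟩, fun _ => m, by simp⟩) ?_
      rintro _ _ ⟨n, a, y, rfl⟩ ⟨n', a', y', rfl⟩
      exact ⟨n + n', Fin.append a a', Fin.append y y', by simp [Fin.sum_univ_add]⟩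
    obtain ⟨m, c, t, ht, hc⟩ := Module.Flat.isTrivialRelation_of_sum_smul_eq_zero
      (f := fun i => (a i : A)) (x := fun i => π (y i)) (by rw [← hzI, hz', map_sum]; simp only [map_smul])
    choose w' hw' using fun j => hπ (t j)
    have ht : ∀ i, π (y i) = ∑ j, c i j • t j := ht
    have hy : ∀ i, y i - ∑ j, c i j • w' j ∈ I := fun i => by
      show π _ = 0
      rw [map_sub, map_sum, ht i]; simp only [map_smul, hw', sub_self]
    have hz3 : z = ∑ i, (a i : A) • (y i - ∑ j, c i j • w' j) := by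
      rw [hz']
      simp only [smul_sub, Finset.sum_sub_distrib, Finset.smul_sum, smul_smul]
      rw [Finset.sum_comm]
      simp only [← Finset.sum_smul, hc, zero_smul, Finset.sum_const_zero, sub_zero]
    rw [hz3, map_sum]
    refine Finset.sum_eq_zero fun i _ => ?_
    rw [map_smul]
    exact h𝔞J _ (a i).2 _ (hv₀I _ (hy i))
  let e := Ideal.quotientKerAlgEquivOfSurjective hπ'
  refine ⟨(Ideal.Quotient.liftₐ _ (v₀.comp S.val) fun x hx => hkill x hx).comp e.symm.toAlgHom,
    AlgHom.ext fun b => ?_⟩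
  obtain ⟨x, rfl⟩ := hπ' b
  have he : e.symm (π' x) = Ideal.Quotient.mk _ x := e.injective (by rw [AlgEquiv.apply_symm_apply]; rfl)
  show g ((Ideal.Quotient.liftₐ _ (v₀.comp S.val) (fun x hx => hkill x hx)) (e.symm (π' x))) = _
  rw [he]
  exact DFunLike.congr_fun hv₀ x.1

/-- Lifting through nilpotent ideals. -/
theorem exists_lift_of_flat_nilpotent (B : Type u) [CommRing B] [Algebra A B] [Module.Flat A B] (𝔞 : Ideal A)
    [Algebra.FormallySmooth (A ⧸ 𝔞) (B ⧸ 𝔞.map (algebraMap A B))]
    {C : Type u} [CommRing C] [Algebra A C] (h𝔞 : IsNilpotent (𝔞.map (algebraMap A C))) (J : Ideal C)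
    (hJ : IsNilpotent J) (u : B →ₐ[A] C ⧸ J) : ∃ v : B →ₐ[A] C, (Ideal.Quotient.mkₐ A J).comp v = u := by
  let N := J ⊔ 𝔞.map (algebraMap A C)
  let L : ℕ → Ideal C := fun i => J * N ^ i
  have hL0 : L 0 = J := by simp [L]
  have hanti : ∀ i, L (i + 1) ≤ L i := fun i => Ideal.mul_mono_right (Ideal.pow_le_pow_right (Nat.le_succ i))
  have hLJ : ∀ i, L i ≤ J := fun i => Ideal.mul_le_left
  have key : ∀ i, ∃ w : B →ₐ[A] C ⧸ L i, ∀ b c, w b = Ideal.Quotient.mk _ c → u b = Ideal.Quotient.mk J c := by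
    intro i
    induction i with
    | zero =>
      have hle : J ≤ L 0 := hL0.ge
      refine ⟨(Ideal.Quotient.factorₐ A hle).comp u, fun b c h => ?_⟩
      obtain ⟨c', hc'⟩ := Ideal.Quotient.mk_surjective (u b)
      rw [AlgHom.comp_apply, ← hc'] at h
      have h1 : Ideal.Quotient.mk (L 0) c' = Ideal.Quotient.mk (L 0) c := h
      have h2 : c' - c ∈ L 0 := Ideal.Quotient.eq.mp h1
      rw [← hc']
      exact Ideal.Quotient.eq.mpr (hLJ 0 h2)
    | succ i ih =>
      obtain ⟨w, hw⟩ := ih
      obtain ⟨v, hv⟩ := exists_lift_of_flat_sq_zero B 𝔞 (Ideal.Quotient.factorₐ A (hanti i))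
        (Ideal.Quotient.factor_surjective (hanti i)) (fun a b ha hb => by
          obtain ⟨a, rfl⟩ := Ideal.Quotient.mk_surjective a
          obtain ⟨b, rfl⟩ := Ideal.Quotient.mk_surjective b
          rw [← map_mul, Ideal.Quotient.eq_zero_iff_mem]
          have ha' : a ∈ L i := Ideal.Quotient.eq_zero_iff_mem.mp ha
          have hb' : b ∈ J := Ideal.mul_le_left (Ideal.Quotient.eq_zero_iff_mem.mp hb : b ∈ L i)
          show a * b ∈ J * N ^ (i + 1)
          rw [pow_succ, ← mul_assoc]
          exact Ideal.mul_mem_mul ha' (Ideal.mem_sup_left hb'))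
        (fun a ha c hc => by
          obtain ⟨c, rfl⟩ := Ideal.Quotient.mk_surjective c
          have hc' : c ∈ L i := Ideal.Quotient.eq_zero_iff_mem.mp hc
          rw [Algebra.smul_def, IsScalarTower.algebraMap_apply A C (C ⧸ L (i + 1)), Ideal.Quotient.algebraMap_eq,
            ← map_mul, Ideal.Quotient.eq_zero_iff_mem, mul_comm]
          show c * _ ∈ J * N ^ (i + 1)
          rw [pow_succ, ← mul_assoc]
          exact Ideal.mul_mem_mul hc' (Ideal.mem_sup_right (Ideal.mem_map_of_mem _ ha))) w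
      refine ⟨v, fun b c h => hw b c ?_⟩
      rw [← hv, AlgHom.comp_apply, h]
      rfl
  obtain ⟨n, hn⟩ := hJ
  obtain ⟨m, hm⟩ := h𝔞
  have hN : IsNilpotent N := by
    obtain ⟨k, hk⟩ : ∃ k, (J ⊔ 𝔞.map (algebraMap A C)) ^ k ≤ ⊥ :=
      ⟨n + m, (Ideal.sup_pow_add_le_pow_sup_pow).trans (by rw [hn, hm]; simp)⟩
    exact ⟨k, le_bot_iff.mp hk⟩
  obtain ⟨k, hk⟩ := hN
  obtain ⟨w, hw⟩ := key k
  have hLk : L k = ⊥ := by show J * N ^ k = ⊥; rw [hk]; simp
  let e : (C ⧸ L k) ≃ₐ[A] C := (Ideal.quotientEquivAlgOfEq A hLk).trans (AlgEquiv.quotientBot A C)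
  refine ⟨e.toAlgHom.comp w, AlgHom.ext fun b => ?_⟩
  obtain ⟨c, hc⟩ := Ideal.Quotient.mk_surjective (w b)
  rw [hw b c hc.symm]
  show Ideal.Quotient.mk J (e (w b)) = Ideal.Quotient.mk J c
  rw [← hc]
  rfl

end flatLift

end Groth.Agent.H05EGA4
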