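import Mathlib
import Groth.Prelude.Def_Found
import Groth.Agent.H05EGA4.CohenSmooth
import Groth.Agent.H05EGA4.CohenRing
import Groth.Agent.H02CA.PowerSeries
import Groth.Agent.H24Adic.Noetherian
import Groth.Agent.S5784

/-!
# Lifting from Cohen rings and the structure theorem of Cohen (EGA 0_IV 19.8)
-/

open IsLocalRing
universe u v
set_option maxHeartbeats 800000

namespace Groth.Agent.H05EGA4

/-- Glue two compatible maps into `C ⧸ I` and `C ⧸ K`. -/
theorem exists_combine {R : Type v} {W C : Type u} [CommRing R] [CommRing W] [CommRing C] [Algebra R W] [Algebra R C]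
    (I K : Ideal C) (u : W →ₐ[R] C ⧸ I) (w : W →ₐ[R] C ⧸ K)
    (h : ∀ x a b, u x = Ideal.Quotient.mk I a → w x = Ideal.Quotient.mk K b → a - b ∈ I ⊔ K) :
    ∃ z : W →ₐ[R] C ⧸ (I ⊓ K), ∀ x c, z x = Ideal.Quotient.mk _ c → u x = Ideal.Quotient.mk I c ∧ w x = Ideal.Quotient.mk K c := by
  have hex : ∀ x, ∃ c, u x = Ideal.Quotient.mk I c ∧ w x = Ideal.Quotient.mk K c := by
    intro x
    obtain ⟨a, ha⟩ := Ideal.Quotient.mk_surjective (u x)
    obtain ⟨b, hb⟩ := Ideal.Quotient.mk_surjective (w x)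
    obtain ⟨i, hi, k, hk, hik⟩ := Submodule.mem_sup.mp (h x a b ha.symm hb.symm)
    refine ⟨a - i, ?_, ?_⟩
    · rw [← ha, Ideal.Quotient.eq, show a - (a - i) = i by ring]; exact hi
    · rw [← hb, Ideal.Quotient.eq, show b - (a - i) = -k by linear_combination hik]; exact neg_mem hk
  choose c hcu hcw using hex
  have huniq : ∀ x d, u x = Ideal.Quotient.mk I d → w x = Ideal.Quotient.mk K d →
      Ideal.Quotient.mk (I ⊓ K) (c x) = Ideal.Quotient.mk (I ⊓ K) d := fun x d h1 h2 =>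
    Ideal.Quotient.eq.mpr ⟨Ideal.Quotient.eq.mp ((hcu x).symm.trans h1), Ideal.Quotient.eq.mp ((hcw x).symm.trans h2)⟩
  let z : W →ₐ[R] C ⧸ (I ⊓ K) :=
    { toFun := fun x => Ideal.Quotient.mk _ (c x)
      map_one' := by rw [← map_one (Ideal.Quotient.mk (I ⊓ K))]; exact huniq 1 1 (by simp) (by simp)
      map_mul' := fun x y => by
        rw [← map_mul]; exact huniq _ _ (by rw [map_mul, map_mul, hcu, hcu]) (by rw [map_mul, map_mul, hcw, hcw])
      map_zero' := by rw [← map_zero (Ideal.Quotient.mk (I ⊓ K))]; exact huniq 0 0 (by simp) (by simp)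
      map_add' := fun x y => by
        rw [← map_add]; exact huniq _ _ (by rw [map_add, map_add, hcu, hcu]) (by rw [map_add, map_add, hcw, hcw])
      commutes' := fun r => huniq _ (algebraMap R C r) (by rw [AlgHom.commutes]; rfl) (by rw [AlgHom.commutes]; rfl) }
  refine ⟨z, fun x d hd => ?_⟩
  obtain ⟨hI, hK⟩ := Ideal.Quotient.eq.mp (show Ideal.Quotient.mk (I ⊓ K) (c x) = Ideal.Quotient.mk _ d from hd)
  exact ⟨(hcu x).trans (Ideal.Quotient.eq.mpr hI), (hcw x).trans (Ideal.Quotient.eq.mpr hK)⟩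

/-- Successive lifting into a complete local ring. -/
theorem exists_lift_adicComplete {R : Type v} {W C : Type u} [CommRing R] [CommRing W] [CommRing C] [Algebra R W] [Algebra R C]
    (𝔪 : Ideal C) [IsAdicComplete 𝔪 C] (J : Ideal C) (hJ : J ≤ 𝔪)
    (hlift : ∀ (n : ℕ) (K : Ideal C), K ≤ 𝔪 → 𝔪 ^ (n + 1) ≤ K → ∀ u : W →ₐ[R] C ⧸ K,
      ∃ v : W →ₐ[R] C ⧸ 𝔪 ^ (n + 1), ∀ x c, v x = Ideal.Quotient.mk _ c → u x = Ideal.Quotient.mk K c)
    (u : W →ₐ[R] C ⧸ J) :
    ∃ v : W →ₐ[R] C, ∀ x c, u x = Ideal.Quotient.mk J c → ∀ n, v x - c ∈ J ⊔ 𝔪 ^ n := by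
  let P : ℕ → Type u := fun n => {v : W →ₐ[R] C ⧸ 𝔪 ^ (n + 1) //
    ∀ x c d, v x = Ideal.Quotient.mk _ c → u x = Ideal.Quotient.mk J d → c - d ∈ J ⊔ 𝔪 ^ (n + 1)}
  have h0 : ∃ v : P 0, True := by
    obtain ⟨v, hv⟩ := hlift 0 𝔪 le_rfl (by simp) ((Ideal.Quotient.factorₐ R hJ).comp u)
    refine ⟨⟨v, fun x c d hc hd => ?_⟩, trivial⟩
    have h := hv x c hc
    rw [AlgHom.comp_apply, hd] at h
    rw [← neg_sub]
    refine neg_mem (Ideal.mem_sup_right ?_)
    rw [zero_add, pow_one]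
    exact Ideal.Quotient.eq.mp h
  have hstep : ∀ n (v : P n), ∃ v' : P (n + 1),
      ∀ x c, v'.1 x = Ideal.Quotient.mk _ c → v.1 x = Ideal.Quotient.mk _ c := by
    intro n v
    let uJ : W →ₐ[R] C ⧸ (J ⊔ 𝔪 ^ (n + 2)) := (Ideal.Quotient.factorₐ R le_sup_left).comp u
    obtain ⟨z, hz⟩ := exists_combine (𝔪 ^ (n + 1)) (J ⊔ 𝔪 ^ (n + 2)) v.1 uJ (by
      intro x a b ha hb
      obtain ⟨d, hd⟩ := Ideal.Quotient.mk_surjective (u x)
      have hb' : Ideal.Quotient.mk (J ⊔ 𝔪 ^ (n + 2)) d = Ideal.Quotient.mk _ b := by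
        rw [← hb]; show _ = Ideal.Quotient.factorₐ R le_sup_left (u x); rw [← hd]; rfl
      have h1 := v.2 x a d ha hd.symm
      have h2 := Ideal.Quotient.eq.mp hb'
      have : a - b = (a - d) + (d - b) := by ring
      rw [this]
      refine add_mem ?_ (Ideal.mem_sup_right h2)
      exact (show J ⊔ 𝔪 ^ (n + 1) ≤ 𝔪 ^ (n + 1) ⊔ (J ⊔ 𝔪 ^ (n + 2)) from sup_le (le_sup_of_le_right le_sup_left) le_sup_left) h1)
    obtain ⟨v', hv'⟩ := hlift (n + 1) (𝔪 ^ (n + 1) ⊓ (J ⊔ 𝔪 ^ (n + 2))) (inf_le_left.trans (Ideal.pow_le_self (Nat.succ_ne_zero n)))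
      (le_inf (Ideal.pow_le_pow_right (Nat.le_succ _)) le_sup_right) z
    refine ⟨⟨v', fun x c d hc hd => ?_⟩, fun x c hc => (hz x c (hv' x c hc)).1⟩
    have h := (hz x c (hv' x c hc)).2
    rw [show uJ x = Ideal.Quotient.mk _ d by show Ideal.Quotient.factorₐ R le_sup_left (u x) = _; rw [hd]; rfl] at h
    rw [← neg_sub]
    exact neg_mem (Ideal.Quotient.eq.mp h)
  choose next hnext using hstep
  let vs : ∀ n, P n := fun n => Nat.rec h0.choose (fun n v => next n v) n
  let f : ∀ n, W →ₐ[R] C ⧸ 𝔪 ^ n := fun n =>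
    (Ideal.Quotient.factorₐ R (Ideal.pow_le_pow_right (Nat.le_succ n))).comp (vs n).1
  have hf : ∀ n, (Ideal.Quotient.factorₐ R (Ideal.pow_le_pow_right (Nat.le_succ n))).comp (f (n + 1)) = f n := by
    intro n
    ext x
    obtain ⟨c, hc⟩ := Ideal.Quotient.mk_surjective ((vs (n + 1)).1 x)
    have h : (vs n).1 x = Ideal.Quotient.mk _ c := hnext n (vs n) x c hc.symm
    simp only [f, AlgHom.comp_apply, h, ← hc]
    rfl
  have hf' : ∀ {m n : ℕ} (hle : m ≤ n), (Ideal.Quotient.factorₐ R (Ideal.pow_le_pow_right hle)).comp (f n) = f m := by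
    intro m n hle
    induction n, hle using Nat.le_induction with
    | base =>
      ext x
      obtain ⟨c, hc⟩ := Ideal.Quotient.mk_surjective (f m x)
      rw [AlgHom.comp_apply, ← hc]; rfl
    | succ n hn ih =>
      rw [← ih, ← hf n]
      refine DFunLike.ext _ _ fun x => ?_
      obtain ⟨c, hc⟩ := Ideal.Quotient.mk_surjective (f (n + 1) x)
      simp only [AlgHom.comp_apply, ← hc]
      rfl
  refine ⟨IsAdicComplete.liftAlgHom 𝔪 f hf', fun x c hc n => ?_⟩
  obtain ⟨d, hd⟩ := Ideal.Quotient.mk_surjective ((vs n).1 x)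
  have h1 := (vs n).2 x d c hd.symm hc
  have h2 := IsAdicComplete.mk_liftAlgHom 𝔪 f hf' n x
  have h3 : Ideal.Quotient.mk (𝔪 ^ n) d = f n x := by
    simp only [f, AlgHom.comp_apply, ← hd]; rfl
  rw [← h3, Ideal.Quotient.eq] at h2
  have : IsAdicComplete.liftAlgHom 𝔪 f hf' x - c = (IsAdicComplete.liftAlgHom 𝔪 f hf' x - d) + (d - c) := by ring
  rw [this]
  exact add_mem (Ideal.mem_sup_right h2) ((show J ⊔ 𝔪 ^ (n + 1) ≤ J ⊔ 𝔪 ^ n from
    sup_le le_sup_left (le_sup_of_le_right (Ideal.pow_le_pow_right (Nat.le_succ n)))) h1)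

theorem IsCohenRing.isLocalRing {W : Type u} [CommRing W] (hW : CAlg.IsCohenRing W) : IsLocalRing W := by
  obtain ⟨_, _, -⟩ := hW; infer_instance

/-- A Cohen ring is formally smooth over `ℤ` for the `p`-adic topology. -/
theorem exists_lift_of_isCohenRing {W C : Type u} [CommRing W] (hW : CAlg.IsCohenRing W) (p : ℕ) [hp : Fact p.Prime]
    (hWp : Ideal.span {(p : W)} ≠ ⊤) [CommRing C] (J : Ideal C) (hJ : IsNilpotent J)
    (hpC : IsNilpotent (p : C)) (u : W →+* C ⧸ J) :
    ∃ v : W →+* C, (Ideal.Quotient.mk J).comp v = u := by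
  obtain ⟨_, _, -, q, hq, hmax⟩ := hW
  have hpm : (p : W) ∈ maximalIdeal W := le_maximalIdeal hWp (Ideal.mem_span_singleton_self _)
  have hqm : (q : W) ∈ maximalIdeal W := hmax ▸ Ideal.mem_span_singleton_self _
  have hpq : p = q := by
    by_contra hne
    have hcop := (Nat.coprime_primes hp.out hq).mpr hne
    refine (maximalIdeal.isMaximal W).ne_top ((Ideal.eq_top_iff_one _).mpr ?_)
    obtain ⟨a, b, hab⟩ := (Int.isCoprime_iff_nat_coprime (a := (p : ℤ)) (b := (q : ℤ))).mpr (by simpa using hcop)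
    have h1 := congrArg (Int.cast : ℤ → W) hab
    push_cast at h1
    rw [← h1]
    exact add_mem (Ideal.mul_mem_left _ _ hpm) (Ideal.mul_mem_left _ _ hqm)
  subst hpq
  have hq0 : (p : W) ≠ 0 := fun h => IsDiscreteValuationRing.not_a_field W (by rw [hmax, h]; simp)
  have : CharZero W := by
    obtain ⟨c, hc⟩ := CharP.exists W
    rcases CharP.char_is_prime_or_zero W c with hcp | hc0
    · refine absurd ?_ hq0
      by_cases h : c = p
      · subst h; exact CharP.cast_eq_zero W c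
      · have hcm : (c : W) ∈ maximalIdeal W := by rw [CharP.cast_eq_zero]; exact zero_mem _
        obtain ⟨a, b, hab⟩ := (Int.isCoprime_iff_nat_coprime (a := (c : ℤ)) (b := (p : ℤ))).mpr
          (by simpa using (Nat.coprime_primes hcp hp.out).mpr h)
        have h1 := congrArg (Int.cast : ℤ → W) hab
        push_cast at h1
        exact absurd ((Ideal.eq_top_iff_one _).mpr (by rw [← h1]; exact add_mem (Ideal.mul_mem_left _ _ hcm) (Ideal.mul_mem_left _ _ hpm)))
          (maximalIdeal.isMaximal W).ne_top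
    · subst hc0; exact CharP.charP_to_charZero W
  have : Module.IsTorsionFree ℤ W := inferInstance
  have : Module.Flat ℤ W := inferInstance
  let 𝔞 : Ideal ℤ := Ideal.span {(p : ℤ)}
  have hmap : 𝔞.map (algebraMap ℤ W) = maximalIdeal W := by
    rw [hmax, Ideal.map_span, Set.image_singleton, map_natCast]
  have h𝔞m : 𝔞.IsMaximal :=
    (Ideal.span_singleton_prime (Int.natCast_ne_zero.mpr hp.out.ne_zero)).mpr (Nat.prime_iff_prime_int.mp hp.out)
      |>.isMaximal (by simp [𝔞, hp.out.ne_zero])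
  let := Ideal.Quotient.field 𝔞
  have : Finite (ℤ ⧸ 𝔞) := by
    have : NeZero p := ⟨hp.out.ne_zero⟩
    exact Finite.of_equiv (ZMod p) (Int.quotientSpanNatEquivZMod p).symm.toEquiv
  have : PerfectField (ℤ ⧸ 𝔞) := PerfectField.ofFinite
  have : (𝔞.map (algebraMap ℤ W)).IsMaximal := hmap ▸ maximalIdeal.isMaximal W
  let := Ideal.Quotient.field (𝔞.map (algebraMap ℤ W))
  have : Algebra.FormallySmooth (ℤ ⧸ 𝔞) (W ⧸ 𝔞.map (algebraMap ℤ W)) :=
    formallySmooth_of_perfectField (ℤ ⧸ 𝔞) (W ⧸ 𝔞.map (algebraMap ℤ W))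
  have h𝔞C : IsNilpotent (𝔞.map (algebraMap ℤ C)) := by
    obtain ⟨n, hn⟩ := hpC
    refine ⟨n, ?_⟩
    rw [Ideal.map_span, Set.image_singleton, map_natCast, Ideal.span_singleton_pow, hn, Set.singleton_zero, Ideal.span_zero]
    rfl
  obtain ⟨v, hv⟩ := exists_lift_of_flat_nilpotent W 𝔞 h𝔞C J hJ u.toIntAlgHom
  exact ⟨v.toRingHom, RingHom.ext fun x => DFunLike.congr_fun hv x⟩

/-- Lifting from a Cohen ring into a complete local ring. -/
theorem exists_lift_cohenRing_adicComplete {W C : Type u} [CommRing W] (hW : CAlg.IsCohenRing W)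
    [CommRing C] [IsLocalRing C] [IsAdicComplete (maximalIdeal C) C] (p : ℕ) [Fact p.Prime]
    (hWp : Ideal.span {(p : W)} ≠ ⊤) (hpC : (p : C) ∈ maximalIdeal C) (J : Ideal C) (hJ : J ≤ maximalIdeal C)
    (u : W →+* C ⧸ J) :
    ∃ v : W →+* C, ∀ x c, u x = Ideal.Quotient.mk J c → ∀ n, v x - c ∈ J ⊔ maximalIdeal C ^ n := by
  obtain ⟨v, hv⟩ := exists_lift_adicComplete (R := ℤ) (W := W) (maximalIdeal C) J hJ (fun n K hK hnK u' => by
    let Q := C ⧸ maximalIdeal C ^ (n + 1)
    let e : Q ⧸ K.map (Ideal.Quotient.mk (maximalIdeal C ^ (n + 1))) ≃+* C ⧸ K :=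
      (DoubleQuot.quotQuotEquivQuotSup _ K).trans (Ideal.quotEquivOfEq (sup_eq_right.mpr hnK))
    have hnil : IsNilpotent (K.map (Ideal.Quotient.mk (maximalIdeal C ^ (n + 1)))) := ⟨n + 1, by
      rw [← Ideal.map_pow]
      exact le_bot_iff.mp ((Ideal.map_mono (Ideal.pow_right_mono hK _)).trans (le_of_eq (Ideal.map_quotient_self _)))⟩
    have hpn : IsNilpotent (p : Q) := ⟨n + 1, by
      rw [← map_natCast (Ideal.Quotient.mk (maximalIdeal C ^ (n + 1))), ← map_pow, Ideal.Quotient.eq_zero_iff_mem]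
      exact Ideal.pow_mem_pow hpC _⟩
    obtain ⟨w, hw⟩ := exists_lift_of_isCohenRing hW p hWp _ hnil hpn (e.symm.toRingHom.comp u'.toRingHom)
    refine ⟨w.toIntAlgHom, fun x c hc => ?_⟩
    have h1 := DFunLike.congr_fun hw x
    rw [RingHom.comp_apply, show w x = Ideal.Quotient.mk _ c from hc] at h1
    have h2 := congrArg e h1
    simp only [RingHom.comp_apply, RingEquiv.toRingHom_eq_coe, RingHom.coe_coe, RingEquiv.apply_symm_apply] at h2
    exact h2.symm) u.toIntAlgHom
  exact ⟨v.toRingHom, hv⟩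

/-- Coefficient fields containing a given subfield. -/
theorem exists_coefficientField {k A : Type u} [Field k] [CommRing A] [IsLocalRing A] [Algebra k A]
    [IsAdicComplete (maximalIdeal A) A] [Algebra.FormallySmooth k (ResidueField A)] :
    ∃ σ : ResidueField A →ₐ[k] A, ∀ x : ResidueField A, residue A (σ x) = x := by
  obtain ⟨v, hv⟩ := exists_lift_adicComplete (R := k) (W := ResidueField A) (maximalIdeal A) (maximalIdeal A) le_rfl
    (fun n K hK hnK u => by
      let g := Ideal.Quotient.factorₐ k hnK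
      have hg : Function.Surjective g := Ideal.Quotient.factor_surjective hnK
      have hnil : IsNilpotent (RingHom.ker (g : (A ⧸ maximalIdeal A ^ (n + 1)) →+* A ⧸ K)) := by
        refine ⟨n + 1, ?_⟩
        have : RingHom.ker (g : (A ⧸ maximalIdeal A ^ (n + 1)) →+* A ⧸ K) = K.map (Ideal.Quotient.mk _) :=
          Ideal.Quotient.factor_ker hnK
        rw [this, ← Ideal.map_pow]
        exact le_bot_iff.mp ((Ideal.map_mono (Ideal.pow_right_mono hK _)).trans (le_of_eq (Ideal.map_quotient_self _)))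
      refine ⟨Algebra.FormallySmooth.liftOfSurjective u g hg hnil, fun x c hc => ?_⟩
      rw [← Algebra.FormallySmooth.liftOfSurjective_apply u g hg hnil x, hc]
      rfl) (AlgHom.id k (ResidueField A))
  refine ⟨v, fun x => ?_⟩
  obtain ⟨c, rfl⟩ := Ideal.Quotient.mk_surjective x
  refine Ideal.Quotient.eq.mpr ?_
  simpa using hv _ c rfl 1

theorem exists_coefficientField_of_charZero (A : Type u) [CommRing A] [IsLocalRing A]
    [IsAdicComplete (maximalIdeal A) A] [CharZero (ResidueField A)] :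
    ∃ s : ResidueField A →+* A, (residue A).comp s = RingHom.id _ := by
  have hu : ∀ n : ℕ+, IsUnit ((n : ℕ) : A) := fun n => by
    by_contra h
    have h1 := (residue_eq_zero_iff _).mpr h
    rw [map_natCast] at h1
    exact n.ne_zero (Nat.cast_eq_zero.mp h1)
  let f : ℤ →+* A := Int.castRingHom A
  have hf : ∀ m : nonZeroDivisors ℤ, IsUnit (f m) := fun m => by
    have hm : (m : ℤ) ≠ 0 := nonZeroDivisors.ne_zero m.2
    have h := hu ⟨(m : ℤ).natAbs, Int.natAbs_pos.mpr hm⟩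
    rcases Int.natAbs_eq (m : ℤ) with h' | h' <;> rw [h'] <;> simpa [f] using h
  let g : ULift.{u} ℚ →+* A := (IsLocalization.lift (S := ℚ) hf).comp ULift.ringEquiv.toRingHom
  letI := g.toAlgebra
  have : PerfectField (ULift.{u} ℚ) := by
    have : CharZero (ULift.{u} ℚ) := ⟨fun a b h => Nat.cast_injective (R := ℚ) (congrArg ULift.down h)⟩
    infer_instance
  have := formallySmooth_of_perfectField (ULift.{u} ℚ) (ResidueField A)
  obtain ⟨σ, hσ⟩ := exists_coefficientField (k := ULift.{u} ℚ) (A := A)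
  exact ⟨σ.toRingHom, RingHom.ext hσ⟩

/-- Cohen's structure theorem. -/
theorem exists_surjective_mvPowerSeries (A : Type u) [CommRing A] [IsLocalRing A]
    [IsAdicComplete (maximalIdeal A) A] (hfg : (maximalIdeal A).FG) :
    ∃ (Λ : Type u) (_ : CommRing Λ) (n : ℕ) (f : MvPowerSeries (Fin n) Λ →+* A),
      (IsField Λ ∨ CAlg.IsCohenRing Λ) ∧ Function.Surjective f := by
  obtain ⟨n, b, hb⟩ := Submodule.fg_iff_exists_fin_generating_family.mp hfg
  suffices h : ∃ (Λ : Type u) (_ : CommRing Λ) (v : Λ →+* A), (IsField Λ ∨ CAlg.IsCohenRing Λ) ∧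
      ∀ a, ∃ l, v l - a ∈ maximalIdeal A by
    obtain ⟨Λ, _, v, hΛ, hv⟩ := h
    letI := v.toAlgebra
    have hbm : ∀ i, b i ∈ maximalIdeal A := fun i => hb ▸ Submodule.subset_span ⟨i, rfl⟩
    obtain ⟨ψ, hψ⟩ := H02CA.PS.exists_algHom (R := Λ) (σ := Fin n) (maximalIdeal A) b hbm
    refine ⟨Λ, inferInstance, n, ψ.toRingHom, hΛ, ?_⟩
    have : IsAdicComplete (Ideal.span (Set.range MvPowerSeries.X) : Ideal (MvPowerSeries (Fin n) Λ)) (MvPowerSeries (Fin n) Λ) := inferInstance
    refine H02CA.PS.surjective_of_approx ψ.toRingHom (Ideal.span (Set.range MvPowerSeries.X) : Ideal (MvPowerSeries (Fin n) Λ)) (maximalIdeal A) ?_ ?_ ?_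
    · intro x hx
      refine (Ideal.map_le_iff_le_comap (f := ψ.toRingHom) (K := maximalIdeal A).mp ?_) hx
      rw [Ideal.map_span, Ideal.span_le]
      rintro _ ⟨_, ⟨i, rfl⟩, rfl⟩
      show ψ (MvPowerSeries.X i) ∈ _
      rw [hψ]; exact hbm i
    · intro s
      obtain ⟨l, hl⟩ := hv s
      exact ⟨algebraMap Λ _ l, by show ψ (algebraMap Λ _ l) - s ∈ _; rwa [AlgHom.commutes]⟩
    · intro s hs
      rw [← hb, Ideal.submodule_span_eq, Ideal.mem_span_range_iff_exists_fun] at hs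
      obtain ⟨r, hr⟩ := hs
      choose l hl using fun i => hv (r i)
      refine ⟨∑ i, algebraMap Λ _ (l i) * MvPowerSeries.X i, Ideal.sum_mem _ fun i _ => Ideal.mul_mem_left _ _ (Ideal.subset_span ⟨i, rfl⟩), ?_⟩
      show ψ _ - s ∈ _
      rw [map_sum, ← hr, ← Finset.sum_sub_distrib, pow_two]
      refine Ideal.sum_mem _ fun i _ => ?_
      rw [map_mul, AlgHom.commutes, hψ, ← sub_mul]
      exact Ideal.mul_mem_mul (hl i) (hbm i)
  obtain h0 | ⟨p, hp, hpk⟩ := CharP.exists' (ResidueField A)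
  · obtain ⟨s, hs⟩ := exists_coefficientField_of_charZero A
    refine ⟨ResidueField A, inferInstance, s, Or.inl (Field.toIsField _), fun a => ⟨residue A a, ?_⟩⟩
    exact Ideal.Quotient.eq.mp (DFunLike.congr_fun hs (residue A a))
  · obtain ⟨W, _, _, hW, hmax, ⟨e⟩⟩ := exists_isCohenRing p (ResidueField A)
    have hpA : (p : A) ∈ maximalIdeal A := by
      rw [← residue_eq_zero_iff, map_natCast]; exact CharP.cast_eq_zero _ p
    obtain ⟨v, hv⟩ := exists_lift_cohenRing_adicComplete hW p (hmax ▸ (maximalIdeal.isMaximal W).ne_top) hpA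
      (maximalIdeal A) le_rfl (e.toRingHom.comp (residue W))
    refine ⟨W, inferInstance, v, Or.inr hW, fun a => ?_⟩
    obtain ⟨l, hl⟩ := residue_surjective (e.symm (residue A a))
    refine ⟨l, ?_⟩
    have := hv l a (by show e (residue W l) = residue A a; rw [hl, RingEquiv.apply_symm_apply]) 1
    simpa using this

theorem isRegularRing_of_isField_or_isCohenRing {Λ : Type u} [CommRing Λ] (h : IsField Λ ∨ CAlg.IsCohenRing Λ) :
    IsRegularRing Λ := by
  rcases h with h | ⟨_, _, -⟩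
  · letI := h.toField; infer_instance
  · infer_instance

/-- A complete Noetherian local ring is a quotient of a regular local ring. -/
theorem exists_surjective_of_isRegularLocalRing (A : Type u) [CommRing A] [IsLocalRing A] [IsNoetherianRing A]
    [IsAdicComplete (maximalIdeal A) A] :
    ∃ (R : Type u) (_ : CommRing R) (f : R →+* A), IsRegularLocalRing R ∧ Function.Surjective f := by
  obtain ⟨Λ, _, n, f, hΛ, hf⟩ := exists_surjective_mvPowerSeries A (maximalIdeal A).fg_of_isNoetherianRing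
  have := isRegularRing_of_isField_or_isCohenRing hΛ
  have : IsLocalRing Λ := by
    rcases hΛ with h | h
    · letI := h.toField; infer_instance
    · exact IsCohenRing.isLocalRing h
  have := S5784.result Λ n
  exact ⟨MvPowerSeries (Fin n) Λ, inferInstance, f, IsRegularLocalRing.of_isRegularRing_of_isLocalRing _, hf⟩

end Groth.Agent.H05EGA4
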