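import Mathlib
import Groth.Prelude.Def_EGA4b
import Groth.Agent.H05EGA4.Regular2
import Groth.Agent.H4Depth.CM
import Groth.Agent.S9128

/-!
# Equidimensionality, catenary rings and flat local homomorphisms
-/

open IsLocalRing TensorProduct
universe u
set_option maxHeartbeats 400000

namespace Groth.Agent.H05EGA4

/-! ### Generalities -/

theorem ringKrullDim_quotient_mono {R : Type u} [CommRing R] {I P : Ideal R} (h : I ≤ P) :
    ringKrullDim (R ⧸ P) ≤ ringKrullDim (R ⧸ I) :=
  ringKrullDim_le_of_surjective (Ideal.Quotient.factor h) (Ideal.Quotient.factor_surjective h)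

theorem dimQuotQuot {R : Type u} [CommRing R] {I P : Ideal R} (h : I ≤ P) :
    ringKrullDim ((R ⧸ I) ⧸ P.map (Ideal.Quotient.mk I)) = ringKrullDim (R ⧸ P) :=
  ringKrullDim_eq_of_ringEquiv ((DoubleQuot.quotQuotEquivQuotSup I P).trans
    (Ideal.quotEquivOfEq (sup_eq_right.mpr h)))

/-- The dimension is bounded by the dimensions of the quotients by minimal primes. -/
theorem ringKrullDim_quotient_le_of_minimalPrimes {R : Type u} [CommRing R] (I : Ideal R)
    {c : WithBot ℕ∞} (h : ∀ P ∈ I.minimalPrimes, ringKrullDim (R ⧸ P) ≤ c) :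
    ringKrullDim (R ⧸ I) ≤ c := by
  rw [ringKrullDim_quotient]
  refine iSup_le fun l => ?_
  have hIP : I ≤ l.head.1.asIdeal := SetLike.coe_subset_coe.mp l.head.2
  obtain ⟨P, hP, hPl⟩ := Ideal.exists_minimalPrimes_le hIP
  refine le_trans ?_ (h P hP)
  rw [ringKrullDim_quotient]
  let f : ∀ i, PrimeSpectrum.zeroLocus (P : Set R) := fun i =>
    ⟨(l i).1, SetLike.coe_subset_coe.mpr (hPl.trans (l.head_le i))⟩
  exact le_iSup (fun s : LTSeries _ => (s.length : WithBot ℕ∞))
    (⟨l.length, f, fun i => l.step i⟩ : LTSeries (PrimeSpectrum.zeroLocus (P : Set R)))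

theorem mem_minimalPrimes_bot_map_iff {R : Type u} [CommRing R] {I : Ideal R} {Q : Ideal (R ⧸ I)} :
    Q ∈ minimalPrimes (R ⧸ I) ↔ Q.comap (Ideal.Quotient.mk I) ∈ I.minimalPrimes := by
  rw [show I.minimalPrimes = Ideal.comap (Ideal.Quotient.mk I) '' minimalPrimes (R ⧸ I) from
    Ideal.minimalPrimes_eq_comap]
  exact ((Ideal.comap_injective_of_surjective _ Ideal.Quotient.mk_surjective).mem_set_image).symm

/-- Equidimensionality of a quotient, in terms of the minimal primes over the ideal. -/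
theorem isEquidim_quotient_iff {R : Type u} [CommRing R] (I : Ideal R) :
    EGA4.IsEquidim (R ⧸ I) ↔ ∀ P ∈ I.minimalPrimes, ringKrullDim (R ⧸ P) = ringKrullDim (R ⧸ I) := by
  constructor
  · intro h P hP
    rw [Ideal.minimalPrimes_eq_comap] at hP
    obtain ⟨Q, hQ, rfl⟩ := hP
    rw [← h Q hQ]
    have hle : I ≤ Q.comap (Ideal.Quotient.mk I) := by
      conv_lhs => rw [← Ideal.mk_ker (I := I)]
      exact Ideal.comap_mono bot_le
    rw [← dimQuotQuot hle, Ideal.map_comap_of_surjective _ Ideal.Quotient.mk_surjective]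
  · intro h Q hQ
    have hQ' := mem_minimalPrimes_bot_map_iff.mp hQ
    rw [← h _ hQ', ← dimQuotQuot hQ'.le, Ideal.map_comap_of_surjective _ Ideal.Quotient.mk_surjective]

theorem isEquidim_quotient_of_forall {R : Type u} [CommRing R] (I : Ideal R)
    (h : ∀ P ∈ I.minimalPrimes, ∀ Q ∈ I.minimalPrimes, ringKrullDim (R ⧸ P) = ringKrullDim (R ⧸ Q)) :
    EGA4.IsEquidim (R ⧸ I) :=
  (isEquidim_quotient_iff I).mpr fun P hP => le_antisymm (ringKrullDim_quotient_mono hP.le)
    (ringKrullDim_quotient_le_of_minimalPrimes I fun Q hQ => (h P hP Q hQ).ge)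

theorem isEquidim_of_ringEquiv {R S : Type u} [CommRing R] [CommRing S] (e : R ≃+* S)
    (h : EGA4.IsEquidim R) : EGA4.IsEquidim S := by
  intro Q hQ
  have hQp : Q.IsPrime := hQ.isPrime
  have hP : Q.comap e.toRingHom ∈ minimalPrimes R := by
    refine ⟨⟨Ideal.IsPrime.comap _, bot_le⟩, fun P hP hPQ => ?_⟩
    have := hP.1
    have hPe : P.comap e.symm.toRingHom ≤ Q := fun x hx => by
      have h2 : e (e.symm x) ∈ Q := hPQ hx
      rwa [e.apply_symm_apply] at h2
    have := hQ.2 ⟨Ideal.IsPrime.comap _, bot_le⟩ hPe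
    intro x hx
    have h2 : e.symm (e x) ∈ P := this (show e x ∈ Q from hx)
    rwa [e.symm_apply_apply] at h2
  rw [← ringKrullDim_eq_of_ringEquiv e, ← h _ hP]
  refine (ringKrullDim_eq_of_ringEquiv (Ideal.quotientEquiv _ Q e ?_)).symm
  exact (Ideal.map_comap_of_surjective _ e.surjective Q).symm

/-- `ht (q/p) = 1` for an immediate specialization. -/
theorem height_map_mk_of_covBy {R : Type u} [CommRing R] {p q : PrimeSpectrum R} (h : p ⋖ q) :
    (q.asIdeal.map (Ideal.Quotient.mk p.asIdeal)).height = 1 := by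
  have hQ : (q.asIdeal.map (Ideal.Quotient.mk p.asIdeal)).IsPrime :=
    Ideal.isPrime_map_quotientMk_of_isPrime h.1.le
  rw [show (q.asIdeal.map (Ideal.Quotient.mk p.asIdeal)).height = Order.height
    (⟨_, hQ⟩ : PrimeSpectrum (R ⧸ p.asIdeal)) from PrimeSpectrum.height_eq_orderHeight ⟨_, hQ⟩]
  refine le_antisymm (Order.height_le fun s hs => ?_) ?_
  · by_contra hlen
    have hlt : 1 < s.length := by
      by_contra h0
      exact hlen (by exact_mod_cast (not_lt.mp h0))
    let r := PrimeSpectrum.comap (Ideal.Quotient.mk p.asIdeal) (s ⟨1, by omega⟩)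
    have hmono := RingHom.strictMono_comap_of_surjective (Ideal.Quotient.mk_surjective (I := p.asIdeal))
    have h0 : p ≤ PrimeSpectrum.comap (Ideal.Quotient.mk p.asIdeal) (s ⟨0, by omega⟩) := by
      show p.asIdeal ≤ Ideal.comap _ _
      conv_lhs => rw [← Ideal.mk_ker (I := p.asIdeal)]
      exact Ideal.comap_mono bot_le
    have h1 : p < r := lt_of_le_of_lt h0 (hmono (s.strictMono (by simp [Fin.lt_def])))
    have h2 : r < q := by
      have := hmono (s.strictMono (show (⟨1, by omega⟩ : Fin (s.length + 1)) < Fin.last _ by simp [Fin.lt_def]; omega))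
      refine lt_of_lt_of_eq this ?_
      rw [show s (Fin.last _) = _ from hs]
      exact PrimeSpectrum.ext (by
        show Ideal.comap _ (Ideal.map _ _) = _
        rw [Ideal.comap_map_of_surjective' _ Ideal.Quotient.mk_surjective, Ideal.mk_ker,
          sup_eq_left.mpr h.1.le])
    exact h.2 h1 h2
  · rw [Order.one_le_iff_pos, Order.height_pos]
    intro hmin
    have hne : q.asIdeal.map (Ideal.Quotient.mk p.asIdeal) ≠ ⊥ := by
      rw [Ne, Ideal.map_eq_bot_iff_le_ker, Ideal.mk_ker]
      exact h.1.not_ge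
    exact hne (le_bot_iff.mp (hmin (b := (⟨⊥, Ideal.isPrime_bot⟩ : PrimeSpectrum (R ⧸ p.asIdeal))) bot_le))

/-! ### Catenary local rings -/

theorem exists_nat_height_eq {R : Type u} [CommRing R] [IsNoetherianRing R] (p : Ideal R) [p.IsPrime] :
    ∃ n : ℕ, p.height = n :=
  ⟨p.height.toNat, (ENat.natCast_toNat Ideal.height_ne_top_of_isPrime).symm⟩

theorem exists_nat_dim_quotient_eq {R : Type u} [CommRing R] [IsNoetherianRing R] [IsLocalRing R]
    (p : Ideal R) [p.IsPrime] : ∃ n : ℕ, ringKrullDim (R ⧸ p) = n := by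
  have : IsLocalRing (R ⧸ p) := .of_surjective' _ Ideal.Quotient.mk_surjective
  exact exists_dim_eq_nat (R ⧸ p)

theorem height_add_dim_quotient_le {R : Type u} [CommRing R] (p : Ideal R) [p.IsPrime] :
    (p.height : WithBot ℕ∞) + ringKrullDim (R ⧸ p) ≤ ringKrullDim R := by
  let x : PrimeSpectrum R := ⟨p, ‹_›⟩
  refine le_trans (add_le_add (le_of_eq ?_) ?_) (H4Depth.height_add_coheight_le x)
  · exact congrArg _ x.height_eq_orderHeight
  · rw [ringKrullDim_quotient, Order.coheight_eq_krullDim_Ici]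
    exact Order.krullDim_le_of_strictMono (fun r => (⟨r.1, fun a ha => r.2 ha⟩ : Set.Ici x))
      fun _ _ h => h

/-- In a catenary equidimensional local ring `ht p + dim R/p = dim R`. -/
theorem height_add_dim_eq_of_isEquidim {R : Type u} [CommRing R] [IsNoetherianRing R] [IsLocalRing R]
    (hcat : CAlg.IsCatenary R) (heq : EGA4.IsEquidim R) (p : Ideal R) [p.IsPrime] :
    (p.height : WithBot ℕ∞) + ringKrullDim (R ⧸ p) = ringKrullDim R := by
  refine le_antisymm (height_add_dim_quotient_le p) ?_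
  have hdim := (S9128.result R).mp hcat
  obtain ⟨q, hq, hqp⟩ := Ideal.exists_minimalPrimes_le (bot_le : (⊥ : Ideal R) ≤ p)
  have hqprime : q.IsPrime := hq.isPrime
  rw [← heq q hq]
  obtain ⟨B, hB⟩ := hcat.1 ⟨q, hqprime⟩ ⟨p, ‹_›⟩ hqp
  obtain ⟨s, h1, h2, hsat, -⟩ := H02CA.exists_saturated (p := (⟨q, hqprime⟩ : PrimeSpectrum R))
    (q := ⟨p, ‹_›⟩) hqp fun t ht ht' => hB t ht ht'
  have key : ∀ (i : ℕ) (hi : i ≤ s.length),
      ringKrullDim (R ⧸ q) = ringKrullDim (R ⧸ (s ⟨i, by omega⟩).asIdeal) + (i : ℕ) := by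
    intro i
    induction i with
    | zero =>
      intro _
      rw [Nat.cast_zero, add_zero, show s ⟨0, by omega⟩ = (⟨q, hqprime⟩ : PrimeSpectrum R) from h1]
    | succ i ih =>
      intro hi
      have h := (hdim _ _ (hsat ⟨i, hi⟩).1).2 (hsat ⟨i, hi⟩)
      rw [ih (by omega), show (s ⟨i, by omega⟩) = s (Fin.castSucc ⟨i, hi⟩) from rfl, h]
      rw [add_assoc]
      congr 1
      push_cast
      ring
  rw [key s.length le_rfl, show s ⟨s.length, by omega⟩ = (⟨p, ‹_›⟩ : PrimeSpectrum R) from h2, add_comm]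
  gcongr
  rw [show p.height = Order.height (⟨p, ‹_›⟩ : PrimeSpectrum R) from
    PrimeSpectrum.height_eq_orderHeight ⟨p, ‹_›⟩]
  exact_mod_cast Order.length_le_height (le_of_eq h2)

/-- A catenarity criterion from `ht p + dim R/p = dim R`. -/
theorem isCatenary_of_height_formula {R : Type u} [CommRing R] [IsNoetherianRing R] [IsLocalRing R]
    (hform : ∀ (p : Ideal R) [p.IsPrime], (p.height : WithBot ℕ∞) + ringKrullDim (R ⧸ p) = ringKrullDim R)
    (hcov : ∀ p q : PrimeSpectrum R, p ⋖ q → q.asIdeal.height = p.asIdeal.height + 1) :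
    CAlg.IsCatenary R := by
  refine (S9128.result R).mpr fun p q hpq => ?_
  obtain ⟨d, hd⟩ := exists_dim_eq_nat R
  obtain ⟨a, ha⟩ := exists_nat_height_eq p.asIdeal
  obtain ⟨b, hb⟩ := exists_nat_height_eq q.asIdeal
  obtain ⟨a', ha'⟩ := exists_nat_dim_quotient_eq p.asIdeal
  obtain ⟨b', hb'⟩ := exists_nat_dim_quotient_eq q.asIdeal
  have h1 := hform p.asIdeal
  have h2 := hform q.asIdeal
  have hlt : p.asIdeal.height < q.asIdeal.height :=
    Ideal.height_strict_mono_of_isPrime hpq
  rw [ha, ha', hd] at h1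
  rw [hb, hb', hd] at h2
  rw [ha, hb] at hlt
  norm_cast at h1 h2 hlt
  refine ⟨?_, fun hc => ?_⟩
  · rw [ha', hb']
    exact_mod_cast (show b' < a' by omega)
  · have := hcov p q hc
    rw [ha, hb] at this
    norm_cast at this
    rw [ha', hb']
    exact_mod_cast (show a' = b' + 1 by omega)

theorem isEquidim_of_height_formula {R : Type u} [CommRing R]
    (hform : ∀ (p : Ideal R) [p.IsPrime], (p.height : WithBot ℕ∞) + ringKrullDim (R ⧸ p) = ringKrullDim R) :
    EGA4.IsEquidim R := by
  intro p hp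
  have := hp.isPrime
  have h := hform p
  rwa [Ideal.height_eq_zero_iff.mpr hp, WithBot.coe_zero, zero_add] at h

/-! ### Flat local homomorphisms -/

section flat
variable {A B : Type u} [CommRing A] [CommRing B] [Algebra A B]

/-- Contractions of minimal primes over an extended ideal, for a going-down algebra. -/
theorem mem_minimalPrimes_comap [Algebra.HasGoingDown A B] {a : Ideal A} {P : Ideal B}
    (hP : P ∈ (a.map (algebraMap A B)).minimalPrimes) :
    P.comap (algebraMap A B) ∈ a.minimalPrimes ∧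
      P ∈ ((P.comap (algebraMap A B)).map (algebraMap A B)).minimalPrimes := by
  have hPp : P.IsPrime := hP.isPrime
  have hle : a ≤ P.comap (algebraMap A B) := Ideal.map_le_iff_le_comap.mp hP.le
  constructor
  · refine ⟨⟨Ideal.IsPrime.comap _, hle⟩, fun r hr hrP => ?_⟩
    obtain ⟨hr, har⟩ := hr
    have : P.LiesOver (P.comap (algebraMap A B)) := ⟨rfl⟩
    obtain ⟨P', hP'P, hP', hP'r⟩ :=
      Ideal.exists_ideal_le_liesOver_of_le (p := r) (q := P.comap (algebraMap A B)) P hrP
    have := hP.2 ⟨hP', Ideal.map_le_iff_le_comap.mpr (har.trans hP'r.over.le)⟩ hP'P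
    exact (Ideal.comap_mono this).trans hP'r.over.ge
  · exact ⟨⟨hPp, Ideal.map_comap_le⟩, fun Q hQ hQP =>
      hP.2 ⟨hQ.1, (Ideal.map_mono hle).trans hQ.2⟩ hQP⟩

/-- A minimal prime over `pB` lies over `p` and has the height of `p`. -/
theorem liesOver_and_height_eq [Algebra.HasGoingDown A B] [IsNoetherianRing A] [IsNoetherianRing B] (p : Ideal A) [p.IsPrime]
    {P : Ideal B} (hP : P ∈ (p.map (algebraMap A B)).minimalPrimes) :
    P.comap (algebraMap A B) = p ∧ P.height = p.height := by
  have hPp : P.IsPrime := hP.isPrime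
  have h1 := (mem_minimalPrimes_comap hP).1
  have hc : P.comap (algebraMap A B) = p :=
    le_antisymm (h1.2 ⟨‹_›, le_rfl⟩ (Ideal.map_le_iff_le_comap.mp hP.le))
      (Ideal.map_le_iff_le_comap.mp hP.le)
  have : P.LiesOver p := ⟨hc.symm⟩
  refine ⟨hc, ?_⟩
  rw [Ideal.height_eq_height_add_of_liesOver_of_hasGoingDown p P]
  have hz : (P.map (Ideal.Quotient.mk (p.map (algebraMap A B)))).height = 0 := by
    rw [Ideal.height_eq_zero_iff]
    refine mem_minimalPrimes_bot_map_iff.mpr ?_
    rw [Ideal.comap_map_of_surjective' _ Ideal.Quotient.mk_surjective, Ideal.mk_ker,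
      sup_eq_left.mpr hP.le]
    exact hP
  rw [hz, add_zero]

variable [IsLocalRing A] [IsLocalRing B] [IsLocalHom (algebraMap A B)]

theorem map_ne_top_of_le_maximalIdeal {a : Ideal A} (ha : a ≠ ⊤) : a.map (algebraMap A B) ≠ ⊤ :=
  ne_top_of_le_ne_top (maximalIdeal.isMaximal B).ne_top
    ((Ideal.map_mono (le_maximalIdeal ha)).trans (map_maximalIdeal_le _))

/-- Primes of `A` minimal over `a` are contractions of primes minimal over `aB`. -/
theorem exists_minimalPrimes_over [Module.Flat A B] {a : Ideal A} {p : Ideal A}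
    (hp : p ∈ a.minimalPrimes) :
    ∃ P ∈ (a.map (algebraMap A B)).minimalPrimes, P.comap (algebraMap A B) = p := by
  have hpp : p.IsPrime := hp.isPrime
  obtain ⟨⟨P, hP⟩⟩ := Ideal.nonempty_minimalPrimes (map_ne_top_of_le_maximalIdeal (B := B) hpp.ne_top)
  have : IsNoetherianRing B ∨ True := Or.inr trivial
  have hPp : P.IsPrime := hP.isPrime
  have h1 := (mem_minimalPrimes_comap hP).1
  have hc : P.comap (algebraMap A B) = p :=
    le_antisymm (h1.2 ⟨hpp, le_rfl⟩ (Ideal.map_le_iff_le_comap.mp hP.le))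
      (Ideal.map_le_iff_le_comap.mp hP.le)
  refine ⟨P, ⟨⟨hPp, (Ideal.map_mono hp.le).trans hP.le⟩, fun Q hQ hQP => ?_⟩, hc⟩
  have := hQ.1
  refine hP.2 ⟨hQ.1, Ideal.map_le_iff_le_comap.mpr ?_⟩ hQP
  exact hp.2 ⟨Ideal.IsPrime.comap _, Ideal.map_le_iff_le_comap.mp hQ.2⟩
    (hc ▸ Ideal.comap_mono hQP)

variable [IsNoetherianRing A] [IsNoetherianRing B] [Module.Flat A B]

theorem height_add_dim_eq_of_flat (hcat : CAlg.IsCatenary B) (heq : EGA4.IsEquidim B)
    (p : Ideal A) [p.IsPrime] :
    (p.height : WithBot ℕ∞) + ringKrullDim (A ⧸ p) = ringKrullDim A := by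
  refine le_antisymm (height_add_dim_quotient_le p) ?_
  obtain ⟨⟨P, hP⟩⟩ := Ideal.nonempty_minimalPrimes
    (map_ne_top_of_le_maximalIdeal (B := B) (‹p.IsPrime›.ne_top))
  have hPp : P.IsPrime := hP.isPrime
  obtain ⟨hc, hh⟩ := liesOver_and_height_eq p hP
  have e1 := height_add_dim_eq_of_isEquidim hcat heq P
  set m := (maximalIdeal A).map (algebraMap A B)
  have : Nontrivial (B ⧸ m) := Ideal.Quotient.nontrivial_iff.mpr
    (map_ne_top_of_le_maximalIdeal (maximalIdeal.isMaximal A).ne_top)
  have : IsLocalRing (B ⧸ m) := .of_surjective' _ Ideal.Quotient.mk_surjective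
  have e2 : ringKrullDim B = ringKrullDim A + ringKrullDim (B ⧸ m) := ringKrullDim_eq_add_of_flat A B
  have e3 := dimLocalHomQuot A B p P hc.ge
  have e4 : ringKrullDim (B ⧸ (P ⊔ m)) ≤ ringKrullDim (B ⧸ m) :=
    ringKrullDim_quotient_mono le_sup_right
  obtain ⟨dA, hdA⟩ := exists_dim_eq_nat A
  obtain ⟨dB, hdB⟩ := exists_dim_eq_nat B
  obtain ⟨dF, hdF⟩ := exists_dim_eq_nat (B ⧸ m)
  obtain ⟨h0, hh0⟩ := exists_nat_height_eq p
  obtain ⟨f0, hf0⟩ := exists_nat_dim_quotient_eq p
  obtain ⟨fP, hfP⟩ := exists_nat_dim_quotient_eq P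
  have e5 := e3.trans (add_le_add le_rfl e4)
  rw [hfP, hdB, hh, hh0] at e1
  rw [hdB, hdA, hdF] at e2
  rw [hfP, hf0, hdF] at e5
  rw [hdA, hh0, hf0]
  norm_cast at e1 e2 e5
  exact_mod_cast (show dA ≤ h0 + f0 by omega)

theorem height_eq_succ_of_covBy_of_flat (hcat : CAlg.IsCatenary B) (heq : EGA4.IsEquidim B)
    (p q : PrimeSpectrum A) (hpq : p ⋖ q) : q.asIdeal.height = p.asIdeal.height + 1 := by
  obtain ⟨x, hxq, hxp⟩ := SetLike.exists_of_lt (show p.asIdeal < q.asIdeal from hpq.1)
  have hqmin : q.asIdeal ∈ (p.asIdeal ⊔ Ideal.span {x}).minimalPrimes := by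
    refine ⟨⟨q.2, sup_le hpq.1.le (by rwa [Ideal.span_le, Set.singleton_subset_iff])⟩, fun r hr hrq => ?_⟩
    have hpr : p.asIdeal < r := lt_of_le_of_ne (le_sup_left.trans hr.2) fun h => hxp
      (h ▸ hr.2 (Ideal.mem_sup_right (Ideal.mem_span_singleton_self x)))
    by_contra hne
    exact hpq.2 (c := ⟨r, hr.1⟩) hpr (lt_of_le_not_ge hrq hne)
  obtain ⟨Q, hQ, hQc⟩ := exists_minimalPrimes_over (B := B) hqmin
  have hQp : Q.IsPrime := hQ.isPrime
  have hQq : Q ∈ (q.asIdeal.map (algebraMap A B)).minimalPrimes := hQc ▸ (mem_minimalPrimes_comap hQ).2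
  obtain ⟨P, hP, hPQ⟩ := Ideal.exists_minimalPrimes_le (I := p.asIdeal.map (algebraMap A B)) (J := Q)
    ((Ideal.map_mono le_sup_left).trans hQ.le)
  have hPp : P.IsPrime := hP.isPrime
  obtain ⟨hPc, hPh⟩ := liesOver_and_height_eq p.asIdeal hP
  obtain ⟨-, hQh⟩ := liesOver_and_height_eq q.asIdeal hQq
  have hlt : P < Q := lt_of_le_of_ne hPQ fun h => hpq.1.ne (PrimeSpectrum.ext (by rw [← hPc, ← hQc, h]))
  have hQmin : Q ∈ (P ⊔ Ideal.span {algebraMap A B x}).minimalPrimes := by
    have hmap : (p.asIdeal ⊔ Ideal.span {x}).map (algebraMap A B) ≤ P ⊔ Ideal.span {algebraMap A B x} := by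
      rw [Ideal.map_sup, Ideal.map_span, Set.image_singleton]
      exact sup_le_sup hP.le le_rfl
    refine ⟨⟨hQp, sup_le hPQ ?_⟩, fun R hR hRQ => hQ.2 ⟨hR.1, hmap.trans hR.2⟩ hRQ⟩
    rw [Ideal.span_le, Set.singleton_subset_iff]
    show algebraMap A B x ∈ Q
    have : x ∈ Q.comap (algebraMap A B) := hQc.symm ▸ hxq
    exact this
  have hcov : (⟨P, hPp⟩ : PrimeSpectrum B) ⋖ ⟨Q, hQp⟩ := by
    refine ⟨hlt, fun R hPR hRQ => ?_⟩
    have hR' : R.asIdeal.map (Ideal.Quotient.mk P) < Q.map (Ideal.Quotient.mk P) := by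
      refine lt_of_le_not_ge (Ideal.map_mono hRQ.le) fun h => hRQ.not_ge ?_
      have h2 := Ideal.comap_mono (f := Ideal.Quotient.mk P) h
      rwa [Ideal.comap_map_of_surjective' _ Ideal.Quotient.mk_surjective,
        Ideal.comap_map_of_surjective' _ Ideal.Quotient.mk_surjective, Ideal.mk_ker,
        sup_eq_left.mpr (show P ≤ R.asIdeal from hPR.le), sup_eq_left.mpr hPQ] at h2
    have : (R.asIdeal.map (Ideal.Quotient.mk P)).IsPrime := Ideal.isPrime_map_quotientMk_of_isPrime hPR.le
    have : (Q.map (Ideal.Quotient.mk P)).IsPrime := Ideal.isPrime_map_quotientMk_of_isPrime hPQ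
    have hQ1 : (Q.map (Ideal.Quotient.mk P)).height ≤ 1 := by
      refine Ideal.height_le_one_of_isPrincipal_of_mem_minimalPrimes
        (Ideal.span {Ideal.Quotient.mk P (algebraMap A B x)}) _ ?_
      refine ⟨⟨‹_›, ?_⟩, fun S hS hSQ => ?_⟩
      · rw [Ideal.span_le, Set.singleton_subset_iff]
        exact Ideal.mem_map_of_mem _ (hQmin.le (Ideal.mem_sup_right (Ideal.mem_span_singleton_self _)))
      · have hPS : P ≤ S.comap (Ideal.Quotient.mk P) := by
          conv_lhs => rw [← Ideal.mk_ker (I := P)]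
          exact Ideal.comap_mono bot_le
        have hSQ' : S.comap (Ideal.Quotient.mk P) ≤ Q := by
          refine (Ideal.comap_mono hSQ).trans ?_
          rw [Ideal.comap_map_of_surjective' _ Ideal.Quotient.mk_surjective, Ideal.mk_ker, sup_eq_left.mpr hPQ]
        have := hS.1
        have h := hQmin.2 ⟨Ideal.IsPrime.comap _, sup_le hPS (by
          rw [Ideal.span_le, Set.singleton_subset_iff]
          exact hS.2 (Ideal.mem_span_singleton_self _))⟩ hSQ'
        exact Ideal.map_le_iff_le_comap.mpr h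
    have h1 := Ideal.height_strict_mono_of_isPrime hR'
    have hne : R.asIdeal.map (Ideal.Quotient.mk P) ≠ ⊥ := by
      rw [Ne, Ideal.map_eq_bot_iff_le_ker, Ideal.mk_ker]
      exact hPR.not_ge
    have h2 : (1 : ℕ∞) ≤ (R.asIdeal.map (Ideal.Quotient.mk P)).height := by
      rw [Order.one_le_iff_pos, pos_iff_ne_zero, Ne, Ideal.height_eq_zero_iff_eq_bot]
      exact hne
    exact absurd ((h2.trans_lt h1).trans_le hQ1) (lt_irrefl _)
  have hd := ((S9128.result B).mp hcat _ _ hcov.1).2 hcov
  have e1 := height_add_dim_eq_of_isEquidim hcat heq P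
  have e2 := height_add_dim_eq_of_isEquidim hcat heq Q
  obtain ⟨a, ha⟩ := exists_nat_dim_quotient_eq P
  obtain ⟨b, hb⟩ := exists_nat_dim_quotient_eq Q
  obtain ⟨hp0, hp1⟩ := exists_nat_height_eq p.asIdeal
  obtain ⟨hq0, hq1⟩ := exists_nat_height_eq q.asIdeal
  obtain ⟨dB, hdB⟩ := exists_dim_eq_nat B
  rw [hPh, hp1, ha, hdB] at e1
  rw [hQh, hq1, hb, hdB] at e2
  rw [ha, hb] at hd
  rw [hp1, hq1]
  norm_cast at e1 e2 hd
  exact_mod_cast (show hq0 = hp0 + 1 by omega)

end flat

/-! ### Cohen–Macaulay local rings -/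

theorem height_add_dim_eq_of_isCohenMacaulay (A : Type u) [CommRing A]
    [LocCoh.IsCohenMacaulayLocalRing A] (p : Ideal A) [p.IsPrime] :
    (p.height : WithBot ℕ∞) + ringKrullDim (A ⧸ p) = ringKrullDim A := by
  have hp : (⟨p, ‹_›⟩ : PrimeSpectrum A) ∈ Module.support A A := by
    rw [Module.mem_support_iff']
    exact ⟨1, fun r hr h => hr (by simp at h; simp [h])⟩
  have h := (H4Depth.IsCM.localization (LocCoh.IsCohenMacaulayLocalRing.supportDim_eq_depth (R := A)) p hp).2.1
  rw [Module.supportDim_self_eq_ringKrullDim] at h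
  rw [h, add_comm]
  congr 1
  have e : LocalizedModule p.primeCompl A ≃ₗ[Localization.AtPrime p] Localization.AtPrime p :=
    LinearEquiv.extendScalarsOfIsLocalization p.primeCompl _
      (IsLocalizedModule.iso p.primeCompl (Algebra.linearMap A (Localization.AtPrime p)))
  rw [Module.supportDim_eq_of_equiv e, Module.supportDim_self_eq_ringKrullDim,
    IsLocalization.AtPrime.ringKrullDim_eq_height p (Localization.AtPrime p)]

theorem isCohenMacaulayLocalRing_localization (A : Type u) [CommRing A]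
    [LocCoh.IsCohenMacaulayLocalRing A] (p : Ideal A) [p.IsPrime] :
    LocCoh.IsCohenMacaulayLocalRing (Localization.AtPrime p) := by
  have hp : (⟨p, ‹_›⟩ : PrimeSpectrum A) ∈ Module.support A A := by
    rw [Module.mem_support_iff']
    exact ⟨1, fun r hr h => hr (by simp at h; simp [h])⟩
  have h := (H4Depth.IsCM.localization (LocCoh.IsCohenMacaulayLocalRing.supportDim_eq_depth (R := A)) p hp).1
  have e : LocalizedModule p.primeCompl A ≃ₗ[Localization.AtPrime p] Localization.AtPrime p :=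
    LinearEquiv.extendScalarsOfIsLocalization p.primeCompl _
      (IsLocalizedModule.iso p.primeCompl (Algebra.linearMap A (Localization.AtPrime p)))
  refine ⟨?_⟩
  unfold LocCoh.IsCohenMacaulayModule at h
  rw [Module.supportDim_eq_of_equiv e, H4Depth.depth_congr e] at h
  exact h

theorem isCatenary_and_isEquidim_of_isCohenMacaulay (A : Type u) [CommRing A]
    [LocCoh.IsCohenMacaulayLocalRing A] : CAlg.IsCatenary A ∧ EGA4.IsEquidim A := by
  refine ⟨isCatenary_of_height_formula (height_add_dim_eq_of_isCohenMacaulay A) fun p q hpq => ?_,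
    isEquidim_of_height_formula (height_add_dim_eq_of_isCohenMacaulay A)⟩
  have := isCohenMacaulayLocalRing_localization A q.asIdeal
  let Aq := Localization.AtPrime q.asIdeal
  have hdisj : Disjoint (q.asIdeal.primeCompl : Set A) p.asIdeal :=
    Set.disjoint_left.2 fun z hz hzp => hz (hpq.1.le hzp)
  have hP := IsLocalization.isPrime_of_isPrime_disjoint q.asIdeal.primeCompl Aq p.asIdeal p.2 hdisj
  have hc := IsLocalization.under_map_of_isPrime_disjoint q.asIdeal.primeCompl Aq p.2 hdisj
  set P := p.asIdeal.map (algebraMap A Aq)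
  have hcov : (⟨P, hP⟩ : PrimeSpectrum Aq) ⋖ ⟨maximalIdeal Aq, inferInstance⟩ := by
    let e := IsLocalization.AtPrime.primeSpectrumOrderIso Aq q.asIdeal
    have h1 : (e ⟨P, hP⟩).1 = p := PrimeSpectrum.ext hc
    have h2 : (e ⟨maximalIdeal Aq, inferInstance⟩).1 = q :=
      PrimeSpectrum.ext (Localization.AtPrime.under_maximalIdeal (I := q.asIdeal))
    refine ⟨e.lt_iff_lt.mp (show (e ⟨P, hP⟩).1 < (e ⟨maximalIdeal Aq, inferInstance⟩).1 by
      rw [h1, h2]; exact hpq.1), fun r hr1 hr2 => ?_⟩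
    have a1 : (e ⟨P, hP⟩).1 < (e r).1 := e.lt_iff_lt.mpr hr1
    have a2 : (e r).1 < (e ⟨maximalIdeal Aq, inferInstance⟩).1 := e.lt_iff_lt.mpr hr2
    rw [h1] at a1
    rw [h2] at a2
    exact hpq.2 a1 a2
  have hform := height_add_dim_eq_of_isCohenMacaulay Aq P
  have hone : ringKrullDim (Aq ⧸ P) = 1 := by
    have : IsLocalRing (Aq ⧸ P) := .of_surjective' _ Ideal.Quotient.mk_surjective
    rw [← maximalIdeal_height_eq_ringKrullDim,
      ← IsLocalRing.map_maximalIdeal_of_surjective _ Ideal.Quotient.mk_surjective,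
      height_map_mk_of_covBy hcov, WithBot.coe_one]
  rw [hone, IsLocalization.height_map_of_disjoint q.asIdeal.primeCompl p.asIdeal hdisj,
    IsLocalization.AtPrime.ringKrullDim_eq_height q.asIdeal Aq, ← WithBot.coe_one,
    ← WithBot.coe_add] at hform
  exact (WithBot.coe_injective hform).symm

/-! ### Completions -/

/-- The completion of a quotient is the quotient of the completion, compatibly with the given rings. -/
theorem exists_completion_quotient_equiv_comm {A : Type u} [CommRing A] [IsNoetherianRing A] (J : Ideal A)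
    (R : Type u) [CommRing R] (f : A →+* R) (hf : Function.Surjective f) (J' : Ideal R)
    (hJ : J.map f = J') :
    ∃ e : (AdicCompletion J A ⧸ (RingHom.ker f).map (algebraMap A (AdicCompletion J A))) ≃+*
        AdicCompletion J' R,
      ∀ a, e (Ideal.Quotient.mk _ (algebraMap A (AdicCompletion J A) a)) =
        algebraMap R (AdicCompletion J' R) (f a) := by
  subst hJ
  have hle : ∀ n, J ^ n ≤ ((J.map f) ^ n).comap f := fun n => by
    rw [← Ideal.map_pow]; exact Ideal.le_comap_map
  let g : ∀ n, AdicCompletion J A →+* R ⧸ (J.map f) ^ n := fun n =>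
    (Ideal.quotientMap _ f (hle n)).comp (AdicCompletion.evalₐ J n).toRingHom
  have hg : ∀ {m n : ℕ} (h : m ≤ n),
      (Ideal.Quotient.factorPow (J.map f) h).comp (g n) = g m := by
    intro m n h
    ext x
    obtain ⟨a, rfl⟩ := AdicCompletion.mk_surjective J A x
    simp only [g, RingHom.comp_apply, AlgHom.toRingHom_eq_coe, RingHom.coe_coe, AdicCompletion.evalₐ_mk,
      Ideal.quotientMap_mk, Ideal.Quotient.factor_mk]
    rw [Ideal.Quotient.mk_eq_mk_iff_sub_mem, ← map_sub]
    refine hle m ?_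
    have h2 := (SModEq.sub_mem.mp (a.2 h).symm)
    rwa [smul_eq_mul, Ideal.mul_top] at h2
  let ψ := AdicCompletion.liftRingHom (J.map f) g hg
  have hψ : ∀ n x, AdicCompletion.evalₐ (J.map f) n (ψ x) = g n x := fun n x =>
    AdicCompletion.evalₐ_liftRingHom _ _ _ n x
  have hsurj : Function.Surjective ψ := by
    intro y
    obtain ⟨b, rfl⟩ := AdicCompletion.mk_surjective (J.map f) R y
    have hstep : ∀ (n : ℕ) (a : A), f a = b n → ∃ a' : A, f a' = b (n + 1) ∧ a' - a ∈ J ^ n := by
      intro n a ha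
      have hmem : b (n + 1) - b n ∈ (J ^ n).map f := by
        rw [Ideal.map_pow]
        have h2 := SModEq.sub_mem.mp (b.2 (Nat.le_succ n)).symm
        rwa [smul_eq_mul, Ideal.mul_top] at h2
      obtain ⟨j, hj, hje⟩ := (Ideal.mem_map_iff_of_surjective f hf).mp hmem
      exact ⟨a + j, by rw [map_add, ha, hje]; ring, by simpa using hj⟩
    obtain ⟨a0, ha0⟩ := hf (b 0)
    let s : ∀ n, {a : A // f a = b n} := fun n =>
      Nat.rec ⟨a0, ha0⟩ (fun n a => ⟨(hstep n a.1 a.2).choose, (hstep n a.1 a.2).choose_spec.1⟩) n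
    have hs : ∀ n, (s (n + 1)).1 - (s n).1 ∈ J ^ n := fun n => (hstep n (s n).1 (s n).2).choose_spec.2
    let c := AdicCompletion.AdicCauchySequence.mk J A (fun n => (s n).1) fun n => by
      rw [SModEq.sub_mem, smul_eq_mul, Ideal.mul_top, ← neg_sub]
      exact neg_mem (hs n)
    refine ⟨AdicCompletion.mk J A c, AdicCompletion.ext_evalₐ fun n => ?_⟩
    rw [hψ]
    show Ideal.quotientMap _ f (hle n) (AdicCompletion.evalₐ J n (AdicCompletion.mk J A c)) = _
    rw [AdicCompletion.evalₐ_mk, AdicCompletion.evalₐ_mk, Ideal.quotientMap_mk]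
    exact congrArg _ (s n).2
  have hker : RingHom.ker ψ = (RingHom.ker f).map (algebraMap A (AdicCompletion J A)) := by
    refine le_antisymm (fun x hx => ?_) (Ideal.map_le_iff_le_comap.mpr fun a ha => ?_)
    · let q : Submodule A A := RingHom.ker f
      have hmap : AdicCompletion.map J q.mkQ x = 0 := by
        obtain ⟨a, rfl⟩ := AdicCompletion.mk_surjective J A x
        refine AdicCompletion.ext fun n => ?_
        rw [AdicCompletion.map_val_apply, AdicCompletion.val_zero_apply, AdicCompletion.mk_apply_coe,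
          Submodule.mkQ_apply]
        have h0 : g n (AdicCompletion.mk J A a) = 0 := by rw [← hψ, RingHom.mem_ker.mp hx, map_zero]
        simp only [g, RingHom.comp_apply, AlgHom.toRingHom_eq_coe, RingHom.coe_coe,
          AdicCompletion.evalₐ_mk, Ideal.quotientMap_mk, Ideal.Quotient.eq_zero_iff_mem,
          ← Ideal.map_pow] at h0
        obtain ⟨j, hj, hje⟩ := (Ideal.mem_map_iff_of_surjective f hf).mp h0
        rw [LinearMap.reduceModIdeal_apply, Submodule.Quotient.mk_eq_zero, Submodule.mkQ_apply]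
        have : (a n - j : A) ∈ q := by
          show f (a n - j) = 0
          rw [map_sub, hje, sub_self]
        rw [show Submodule.Quotient.mk (p := q) (a n) = Submodule.Quotient.mk j from
          (Submodule.Quotient.eq q).mpr this, show (Submodule.Quotient.mk j : A ⧸ q) = q.mkQ j from rfl]
        have hj' : j ∈ (J ^ n • ⊤ : Submodule A A) := by simpa using hj
        have := Submodule.mem_map_of_mem (f := q.mkQ) hj'
        rw [Submodule.map_smul''] at this
        exact Submodule.smul_mono le_rfl le_top this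
      have hex : Function.Exact q.subtype q.mkQ := LinearMap.exact_subtype_mkQ q
      obtain ⟨w, rfl⟩ := (AdicCompletion.map_exact (I := J) q.injective_subtype hex q.mkQ_surjective x).mp hmap
      obtain ⟨t, rfl⟩ := AdicCompletion.ofTensorProduct_surjective_of_finite J q w
      clear hx hmap
      induction t using TensorProduct.induction_on with
      | zero => simp
      | add u v hu hv => rw [map_add, map_add]; exact add_mem hu hv
      | tmul r a =>
        rw [AdicCompletion.ofTensorProduct_tmul, map_smul, AdicCompletion.map_of, smul_eq_mul]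
        refine Ideal.mul_mem_left _ _ ?_
        have : algebraMap A (AdicCompletion J A) a.1 = AdicCompletion.of J A a.1 := by
          rw [AdicCompletion.algebraMap_apply]; rfl
        rw [Submodule.subtype_apply, ← this]
        exact Ideal.mem_map_of_mem _ a.2
    · show ψ (algebraMap A (AdicCompletion J A) a) = 0
      refine AdicCompletion.ext_evalₐ fun n => ?_
      rw [hψ, map_zero]
      show Ideal.quotientMap _ f (hle n) (AdicCompletion.evalₐ J n (algebraMap A _ a)) = 0
      rw [AlgHom.commutes, Ideal.Quotient.algebraMap_eq, Ideal.quotientMap_mk, RingHom.mem_ker.mp ha,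
        map_zero]
  refine ⟨(Ideal.quotEquivOfEq hker.symm).trans (RingHom.quotientKerEquivOfSurjective hsurj), fun a => ?_⟩
  refine AdicCompletion.ext_evalₐ fun n => ?_
  show AdicCompletion.evalₐ _ n (ψ (algebraMap A (AdicCompletion J A) a)) = _
  rw [hψ]
  show Ideal.quotientMap _ f (hle n) (AdicCompletion.evalₐ J n (algebraMap A _ a)) = _
  rw [AlgHom.commutes, AlgHom.commutes]
  rfl

/-- The completion of a quotient is the quotient of the completion. -/
theorem exists_completion_quotient_equiv {A : Type u} [CommRing A] [IsNoetherianRing A] (J : Ideal A)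
    (R : Type u) [CommRing R] (f : A →+* R) (hf : Function.Surjective f) (J' : Ideal R)
    (hJ : J.map f = J') :
    Nonempty ((AdicCompletion J A ⧸ (RingHom.ker f).map (algebraMap A (AdicCompletion J A))) ≃+*
      AdicCompletion J' R) :=
  ⟨(exists_completion_quotient_equiv_comm J R f hf J' hJ).choose⟩

theorem isFormallyEquidim_iff_of_surjective {A : Type u} [CommRing A] [IsNoetherianRing A] [IsLocalRing A]
    (R : Type u) [CommRing R] [IsLocalRing R] (f : A →+* R) (hf : Function.Surjective f) :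
    EGA4.IsFormallyEquidim R ↔ EGA4.IsEquidim (AdicCompletion (maximalIdeal A) A ⧸
      (RingHom.ker f).map (algebraMap A (AdicCompletion (maximalIdeal A) A))) := by
  obtain ⟨e⟩ := exists_completion_quotient_equiv (maximalIdeal A) R f hf (maximalIdeal R)
    (IsLocalRing.map_maximalIdeal_of_surjective f hf)
  exact ⟨isEquidim_of_ringEquiv e.symm, isEquidim_of_ringEquiv e⟩

end Groth.Agent.H05EGA4
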