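import Mathlib
import Groth.Agent.H8Props.UnivCatenary
import Groth.Agent.H4Depth.Regular
import Groth.Agent.H05EGA4.Equidim
import Groth.Agent.H05EGA4.CohenStructure

/-!
# Complete Noetherian local rings are catenary (helper5)
-/

set_option autoImplicit false
universe u
open IsLocalRing Groth.Agent

namespace Groth.Agent.H05EGA4

theorem isCatenary_of_surjective {R S : Type u} [CommRing R] [CommRing S] (f : R →+* S)
    (hf : Function.Surjective f) (h : CAlg.IsCatenary R) : CAlg.IsCatenary S := by
  have hq := H02CA.catenary_transfer (H02CA.quotEmbedding (RingHom.ker f))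
    (H02CA.convex_quotEmbedding _) h
  exact H8Props.CatenaryBridge.OrdCat.of_orderIso
    (PrimeSpectrum.comapEquiv (RingHom.quotientKerEquivOfSurjective hf)) hq

theorem isCatenary_of_isRegularLocalRing (R : Type u) [CommRing R] [IsRegularLocalRing R] :
    CAlg.IsCatenary R := by
  have := H4Depth.isCohenMacaulayLocalRing_of_regular R
  exact (isCatenary_and_isEquidim_of_isCohenMacaulay R).1

/-- A complete Noetherian local ring is catenary. -/
theorem isCatenary_of_isAdicComplete (A : Type u) [CommRing A] [IsLocalRing A] [IsNoetherianRing A]
    [IsAdicComplete (maximalIdeal A) A] : CAlg.IsCatenary A := by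
  obtain ⟨R, _, f, hR, hf⟩ := exists_surjective_of_isRegularLocalRing A
  exact isCatenary_of_surjective f hf (isCatenary_of_isRegularLocalRing R)

end Groth.Agent.H05EGA4
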