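import Mathlib
import Groth.Prelude.Def_EGA4b
import Groth.Agent.H05EGA4.Equidim
import Groth.Agent.H8Props.FlatDepth

/-!
# Completion of local rings: dimension, Cohen–Macaulayness, formal equidimensionality
-/

open IsLocalRing TensorProduct
universe u
set_option maxHeartbeats 400000

namespace Groth.Agent.H05EGA4

variable (A : Type u) [CommRing A] [IsNoetherianRing A] [IsLocalRing A]

local notation "Â" => AdicCompletion (maximalIdeal A) A

theorem isField_completion_fibre :
    IsField (Â ⧸ (maximalIdeal A).map (algebraMap A Â)) := by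
  refine (Ideal.Quotient.maximal_ideal_iff_isField_quotient _).mp ?_
  rw [← AdicCompletion.maximalIdeal_eq_map]
  infer_instance

theorem ringKrullDim_adicCompletion : ringKrullDim Â = ringKrullDim A := by
  have := isNoetherianRing_adicCompletion A (maximalIdeal A)
  rw [H8Props.FlatDepth.ringKrullDim_eq_add A Â,
    ringKrullDim_eq_zero_of_isField (isField_completion_fibre A), add_zero]

theorem ringKrullDim_completion_quotient (a : Ideal A) :
    ringKrullDim (Â ⧸ a.map (algebraMap A Â)) = ringKrullDim (A ⧸ a) := by
  by_cases ha : a = ⊤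
  · subst ha
    rw [Ideal.map_top]
    have : Subsingleton (A ⧸ (⊤ : Ideal A)) := Ideal.Quotient.subsingleton_iff.mpr rfl
    have : Subsingleton (Â ⧸ (⊤ : Ideal Â)) := Ideal.Quotient.subsingleton_iff.mpr rfl
    rw [ringKrullDim_eq_bot_of_subsingleton, ringKrullDim_eq_bot_of_subsingleton]
  · have : Nontrivial (A ⧸ a) := Ideal.Quotient.nontrivial_iff.mpr ha
    have : IsLocalRing (A ⧸ a) := .of_surjective' _ Ideal.Quotient.mk_surjective
    obtain ⟨e⟩ := exists_completion_quotient_equiv (maximalIdeal A) (A ⧸ a) (Ideal.Quotient.mk a)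
      Ideal.Quotient.mk_surjective (maximalIdeal (A ⧸ a))
      (IsLocalRing.map_maximalIdeal_of_surjective _ Ideal.Quotient.mk_surjective)
    rw [← ringKrullDim_adicCompletion (A ⧸ a), ← ringKrullDim_eq_of_ringEquiv e,
      ringKrullDim_eq_of_ringEquiv (Ideal.quotEquivOfEq
        (congrArg (Ideal.map (algebraMap A Â)) (Ideal.mk_ker (I := a))))]

theorem isCohenMacaulayLocalRing_adicCompletion (A : Type u) [CommRing A]
    [LocCoh.IsCohenMacaulayLocalRing A] :
    LocCoh.IsCohenMacaulayLocalRing (AdicCompletion (maximalIdeal A) A) := by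
  have := isNoetherianRing_adicCompletion A (maximalIdeal A)
  refine (H8Props.FlatDepth.isCohenMacaulayLocalRing_iff A _).mpr ⟨‹_›, ?_⟩
  set C := AdicCompletion (maximalIdeal A) A ⧸
    (maximalIdeal A).map (algebraMap A (AdicCompletion (maximalIdeal A) A))
  refine (H8Props.FlatDepth.isCM_iff_dim C).mpr ?_
  have h0 : ringKrullDim C = 0 := ringKrullDim_eq_zero_of_isField (isField_completion_fibre A)
  refine le_antisymm ?_ (H8Props.FlatDepth.depth_le_dim C)
  rw [h0]
  exact WithBot.coe_le_coe.mpr zero_le

/-- For a flat algebra, the annihilator of a base change is the extended annihilator. -/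
theorem annihilator_baseChange_le {R S : Type u} [CommRing R] [CommRing S] [Algebra R S] [Module.Flat R S]
    {M : Type u} [AddCommGroup M] [Module R M] [Module.Finite R M] :
    Module.annihilator S (S ⊗[R] M) ≤ (Module.annihilator R M).map (algebraMap R S) := by
  classical
  obtain ⟨n, v, hv⟩ := Module.Finite.exists_fin (R := R) (M := M)
  let φ : R →ₗ[R] (Fin n → M) := LinearMap.toSpanSingleton R _ v
  let q : Submodule R R := Module.annihilator R M
  have hex : Function.Exact q.subtype φ := by
    intro r
    simp only [φ, LinearMap.toSpanSingleton_apply]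
    constructor
    · intro h
      have hr : r ∈ Module.annihilator R M := by
        rw [Module.mem_annihilator]
        intro m
        have hm : m ∈ Submodule.span R (Set.range v) := by rw [hv]; trivial
        induction hm using Submodule.span_induction with
        | mem x hx => obtain ⟨i, rfl⟩ := hx; exact congrFun h i
        | zero => simp
        | add x y _ _ hx hy => rw [smul_add, hx, hy, add_zero]
        | smul a x _ hx => rw [smul_comm, hx, smul_zero]
      exact ⟨⟨r, hr⟩, rfl⟩
    · rintro ⟨⟨r, hr⟩, rfl⟩
      funext i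
      exact Module.mem_annihilator.mp hr (v i)
  intro s hs
  have h0 : φ.lTensor S (s ⊗ₜ 1) = 0 := by
    apply (TensorProduct.piRight R R S (fun _ : Fin n => M)).injective
    funext i
    rw [LinearMap.lTensor_tmul, map_zero, TensorProduct.piRight_apply, TensorProduct.piRightHom_tmul]
    show s ⊗ₜ[R] ((1 : R) • v i) = 0
    rw [one_smul, ← mul_one s, ← smul_eq_mul, ← TensorProduct.smul_tmul']
    exact Module.mem_annihilator.mp hs _
  obtain ⟨t, ht⟩ := ((Module.Flat.lTensor_exact S hex) _).mp h0
  have hs' : s = TensorProduct.rid R S (q.subtype.lTensor S t) := by rw [ht]; simp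
  rw [hs']
  clear ht hs'
  induction t using TensorProduct.induction_on with
  | zero => simp
  | add x y hx hy => rw [map_add, map_add]; exact add_mem hx hy
  | tmul b a =>
    rw [LinearMap.lTensor_tmul, TensorProduct.rid_tmul, Algebra.smul_def]
    exact Ideal.mul_mem_right _ _ (Ideal.mem_map_of_mem _ a.2)

theorem isEquidim_adicCompletion_of_isCohenMacaulayModule (M : Type u) [AddCommGroup M] [Module A M]
    [Module.Finite A M] (hCM : LocCoh.IsCohenMacaulayModule A M) (hsupp : Module.support A M = Set.univ) :
    EGA4.IsEquidim Â := by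
  have := isNoetherianRing_adicCompletion A (maximalIdeal A)
  intro Q hQ
  have hQp : Q.IsPrime := hQ.isPrime
  refine le_antisymm (ringKrullDim_quotient_le Q) ?_
  have hann : Module.annihilator Â (Â ⊗[A] M) ≤ Q := by
    refine annihilator_baseChange_le.trans (Ideal.map_le_iff_le_comap.mpr ?_)
    exact Module.annihilator_le_of_mem_support (p := ⟨Q.comap (algebraMap A Â), inferInstance⟩)
      (hsupp ▸ Set.mem_univ _)
  have hass : Q ∈ associatedPrimes Â (Â ⊗[A] M) :=
    Module.associatedPrimes.minimalPrimes_annihilator_subset_associatedPrimes Â (Â ⊗[A] M)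
      ⟨⟨hQp, hann⟩, fun P hP hPQ => hQ.2 ⟨hP.1, bot_le⟩ hPQ⟩
  refine le_trans ?_ (H4Depth.depth_le_ringKrullDim_quotient_of_mem_associatedPrimes hass)
  have hdim : Module.supportDim A M = ringKrullDim A := by
    rw [← Module.supportDim_self_eq_ringKrullDim (R := A)]
    have hA : Module.support A A = Set.univ := by
      rw [Module.support_eq_zeroLocus, Module.annihilator_eq_bot.mpr inferInstance]
      exact PrimeSpectrum.zeroLocus_bot
    show Order.krullDim _ = Order.krullDim _
    rw [hsupp, hA]
  rw [ringKrullDim_adicCompletion, ← hdim, hCM]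
  refine WithBot.coe_le_coe.mpr ?_
  have hnt : Nontrivial M := by
    rw [← not_subsingleton_iff_nontrivial]
    intro h
    rw [Module.support_eq_empty] at hsupp
    exact Set.empty_ne_univ hsupp
  have hne : maximalIdeal A • (⊤ : Submodule A M) ≠ ⊤ :=
    (Submodule.top_ne_ideal_smul_of_le_jacobson_annihilator (maximalIdeal_le_jacobson _)).symm
  refine ENat.forall_natCast_le_iff_le.mp fun n hn => ?_
  obtain ⟨rs, hlen, hmem, hreg⟩ := H4Depth.exists_isWeaklyRegular_of_le_idealDepth hne hn
  have := H4Depth.length_le_idealDepth (I := maximalIdeal Â)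
    (hreg.of_flat_of_isBaseChange (TensorProduct.isBaseChange A M Â)) (by
      intro r hr
      obtain ⟨a, ha, rfl⟩ := List.mem_map.mp hr
      exact map_maximalIdeal_le (algebraMap A Â) (Ideal.mem_map_of_mem _ (hmem a ha)))
  rw [List.length_map, hlen] at this
  exact this

end Groth.Agent.H05EGA4
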