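import Mathlib
import Groth.Prelude.Def_EGA4b
import Groth.Agent.H05EGA4.CompleteCatenary
import Groth.Agent.H05EGA4.Completion
import Groth.Agent.H05EGA4.Regular
import Groth.Agent.S2630

/-!
# Universally catenary and formally catenary rings (helper5)
-/

set_option autoImplicit false
set_option maxHeartbeats 400000
universe u v
open IsLocalRing Groth.Agent

namespace Groth.Agent.H05EGA4

/-! ### Tools on quotients and localizations -/

theorem height_map_eq_of_ker_eq {S : Type u} {T T' : Type v} [CommRing S] [CommRing T] [CommRing T']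
    (f : S →+* T) (hf : Function.Surjective f) (g : S →+* T') (hg : Function.Surjective g)
    (h : RingHom.ker f = RingHom.ker g) (Q : Ideal S) : (Q.map f).height = (Q.map g).height := by
  let ef := RingHom.quotientKerEquivOfSurjective hf
  let eg := RingHom.quotientKerEquivOfSurjective hg
  let e : T ≃+* T' := ef.symm.trans ((Ideal.quotEquivOfEq h).trans eg)
  have he : (e : T →+* T').comp f = g := RingHom.ext fun x => by
    have h1 : ef.symm (f x) = Ideal.Quotient.mk _ x :=
      ef.symm_apply_eq.mpr (RingHom.kerLift_mk f x).symm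
    show eg (Ideal.quotEquivOfEq h (ef.symm (f x))) = g x
    rw [h1]
    rfl
  rw [← he, ← Ideal.map_map]
  exact (e.height_map _).symm

theorem height_map_map_mk {S T : Type u} [CommRing S] [CommRing T] (π : S →+* T) (hπ : Function.Surjective π)
    {J : Ideal T} {K : Ideal S} (h : J.comap π = K) (Q : Ideal S) :
    ((Q.map π).map (Ideal.Quotient.mk J)).height = (Q.map (Ideal.Quotient.mk K)).height := by
  rw [Ideal.map_map]
  have hg : Function.Surjective ((Ideal.Quotient.mk J).comp π) := Ideal.Quotient.mk_surjective.comp hπ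
  have hk : RingHom.ker ((Ideal.Quotient.mk J).comp π) = RingHom.ker (Ideal.Quotient.mk K) := by
    rw [← RingHom.comap_ker, Ideal.mk_ker, Ideal.mk_ker, h]
  exact height_map_eq_of_ker_eq (T := T ⧸ J) (T' := S ⧸ K) ((Ideal.Quotient.mk J).comp π) hg (Ideal.Quotient.mk K)
    Ideal.Quotient.mk_surjective hk Q

theorem height_map_mk_of_ker {S T : Type u} [CommRing S] [CommRing T] (π : S →+* T) (hπ : Function.Surjective π)
    {K : Ideal S} (h : RingHom.ker π = K) (Q : Ideal S) :
    (Q.map (Ideal.Quotient.mk K)).height = (Q.map π).height :=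
  height_map_eq_of_ker_eq _ Ideal.Quotient.mk_surjective π hπ (by rw [Ideal.mk_ker, h]) Q

theorem ker_localRingHom_of_surjective {S T : Type u} [CommRing S] [CommRing T] (f : S →+* T)
    (hf : Function.Surjective f) (Q : Ideal S) [Q.IsPrime] (Q' : Ideal T) [Q'.IsPrime] (h : Q = Q'.comap f) :
    RingHom.ker (Localization.localRingHom Q Q' f h) =
      (RingHom.ker f).map (algebraMap S (Localization.AtPrime Q)) := by
  refine le_antisymm (fun x hx => ?_) (Ideal.map_le_iff_le_comap.mpr fun a ha => ?_)
  · obtain ⟨a, s, rfl⟩ := IsLocalization.exists_mk'_eq Q.primeCompl x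
    rw [RingHom.mem_ker, Localization.localRingHom_mk', IsLocalization.mk'_eq_zero_iff] at hx
    obtain ⟨⟨t, ht⟩, hta⟩ := hx
    obtain ⟨t, rfl⟩ := hf t
    have htQ : t ∉ Q := fun h' => ht (h ▸ h' : t ∈ Q'.comap f)
    have hmem : t * a ∈ RingHom.ker f := by rw [RingHom.mem_ker, map_mul]; exact hta
    rw [show IsLocalization.mk' (Localization.AtPrime Q) a s =
      algebraMap S _ (t * a) * IsLocalization.mk' (Localization.AtPrime Q) 1 (⟨t, htQ⟩ * s) by
        rw [← IsLocalization.mk'_one (M := Q.primeCompl) (Localization.AtPrime Q), ← IsLocalization.mk'_mul,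
          mul_one, one_mul]
        refine IsLocalization.mk'_eq_of_eq ?_
        push_cast
        ring]
    exact Ideal.mul_mem_right _ _ (Ideal.mem_map_of_mem _ hmem)
  · rw [Ideal.mem_comap, RingHom.mem_ker, Localization.localRingHom_to_map, RingHom.mem_ker.mp ha, map_zero]

/-- `dim (S_Q / P S_Q) = ht (Q / P)`. -/
theorem ringKrullDim_localization_quotient {S : Type u} [CommRing S] {P Q : Ideal S} [Q.IsPrime] (hPQ : P ≤ Q) :
    ringKrullDim (Localization.AtPrime Q ⧸ P.map (algebraMap S (Localization.AtPrime Q))) =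
      (Q.map (Ideal.Quotient.mk P)).height := by
  have : (Q.map (Ideal.Quotient.mk P)).IsPrime := Ideal.isPrime_map_quotientMk_of_isPrime hPQ
  have hc : Q = (Q.map (Ideal.Quotient.mk P)).comap (Ideal.Quotient.mk P) := by
    rw [Ideal.comap_map_of_surjective' _ Ideal.Quotient.mk_surjective, Ideal.mk_ker, sup_eq_left.mpr hPQ]
  have hsurj := (RingHom.surjectiveOnStalks_of_surjective
    (Ideal.Quotient.mk_surjective (I := P))).localRingHom_surjective Q (Q.map (Ideal.Quotient.mk P)) hc
  have hk := ker_localRingHom_of_surjective (Ideal.Quotient.mk P) Ideal.Quotient.mk_surjective Q _ hc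
  rw [Ideal.mk_ker] at hk
  rw [← IsLocalization.AtPrime.ringKrullDim_eq_height (Q.map (Ideal.Quotient.mk P))
    (Localization.AtPrime (Q.map (Ideal.Quotient.mk P)))]
  exact ringKrullDim_eq_of_ringEquiv ((Ideal.quotEquivOfEq hk.symm).trans (RingHom.quotientKerEquivOfSurjective hsurj))

theorem isEquidim_of_forall {R : Type u} [CommRing R] (c : WithBot ℕ∞)
    (h : ∀ p ∈ minimalPrimes R, ringKrullDim (R ⧸ p) = c) : EGA4.IsEquidim R :=
  isEquidim_of_ringEquiv (RingEquiv.quotientBot R)
    (isEquidim_quotient_of_forall ⊥ fun P hP Q hQ => by rw [h P hP, h Q hQ])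

theorem isEquidim_of_isDomain (R : Type u) [CommRing R] [IsDomain R] : EGA4.IsEquidim R := fun p hp => by
  rw [IsDomain.minimalPrimes_eq_singleton_bot, Set.mem_singleton_iff] at hp
  subst hp
  exact ringKrullDim_eq_of_ringEquiv (RingEquiv.quotientBot R)

/-! ### Catenary rings -/

theorem isCatenary_of_isRegularRing (R : Type u) [CommRing R] [IsRegularRing R] : CAlg.IsCatenary R := by
  refine H8Props.CatenaryBridge.isCatenary_of_localizations fun q => ?_
  exact ⟨Localization.AtPrime q.asIdeal, inferInstance, inferInstance, inferInstance,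
    isCatenary_of_isRegularLocalRing _⟩

theorem isUniversallyCatenary_of_forall_mvPolynomial {A : Type u} [CommRing A] [IsNoetherianRing A]
    (h : ∀ n : ℕ, CAlg.IsCatenary (MvPolynomial (Fin n) A)) : CAlg.IsUniversallyCatenary A :=
  ⟨inferInstance, fun _ _ _ _ => H8Props.UnivCatenary.isCatenary_of_finiteType h⟩

/-- A complete Noetherian local ring is universally catenary. -/
theorem isUniversallyCatenary_of_isAdicComplete (A : Type u) [CommRing A] [IsLocalRing A] [IsNoetherianRing A]
    [IsAdicComplete (maximalIdeal A) A] : CAlg.IsUniversallyCatenary A := by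
  obtain ⟨R, _, f, hR, hf⟩ := exists_surjective_of_isRegularLocalRing A
  have := isRegularRing_of_isRegularLocalRing R
  exact isUniversallyCatenary_of_forall_mvPolynomial fun n =>
    isCatenary_of_surjective _ (MvPolynomial.map_surjective f hf) (isCatenary_of_isRegularRing _)

/-! ### Polynomial rings over equidimensional rings -/

/-- The dimension formula for the fibres of `B[X]` over a catenary local ring `B`. -/
theorem height_map_mk_mvPolynomial {B : Type u} [CommRing B] [IsNoetherianRing B] [IsLocalRing B]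
    (hcat : CAlg.IsCatenary B) (n : ℕ) (q : Ideal B) [q.IsPrime] (Q : Ideal (MvPolynomial (Fin n) B)) [Q.IsPrime]
    (hqQ : q.map (algebraMap B (MvPolynomial (Fin n) B)) ≤ Q) :
    ((Q.map (Ideal.Quotient.mk (q.map (algebraMap B (MvPolynomial (Fin n) B))))).height : WithBot ℕ∞) +
        ringKrullDim (B ⧸ Q.comap (algebraMap B (MvPolynomial (Fin n) B))) =
      ringKrullDim (B ⧸ q) + ((Q.map (Ideal.Quotient.mk
        ((Q.comap (algebraMap B (MvPolynomial (Fin n) B))).map (algebraMap B (MvPolynomial (Fin n) B))))).height : WithBot ℕ∞) := by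
  set P0 := Q.comap (algebraMap B (MvPolynomial (Fin n) B))
  have hqP0 : q ≤ P0 := Ideal.map_le_iff_le_comap.mp hqQ
  let π : MvPolynomial (Fin n) B →+* MvPolynomial (Fin n) (B ⧸ q) := MvPolynomial.map (Ideal.Quotient.mk q)
  have hπ : Function.Surjective π := MvPolynomial.map_surjective _ Ideal.Quotient.mk_surjective
  have hkπ : RingHom.ker π = q.map (algebraMap B (MvPolynomial (Fin n) B)) := by
    show RingHom.ker (MvPolynomial.map (Ideal.Quotient.mk q)) = _
    rw [MvPolynomial.ker_map, Ideal.mk_ker]
    rfl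
  have hkQ : RingHom.ker π ≤ Q := hkπ ▸ hqQ
  have : (Q.map π).IsPrime := Ideal.map_isPrime_of_surjective hπ hkQ
  let P0' := P0.map (Ideal.Quotient.mk q)
  have : P0'.IsPrime := Ideal.isPrime_map_quotientMk_of_isPrime hqP0
  have hcomp : π.comp (algebraMap B (MvPolynomial (Fin n) B)) =
      (algebraMap (B ⧸ q) (MvPolynomial (Fin n) (B ⧸ q))).comp (Ideal.Quotient.mk q) :=
    RingHom.ext fun b => MvPolynomial.map_C _ b
  have : (Q.map π).LiesOver P0' := ⟨by
    refine Ideal.comap_injective_of_surjective (Ideal.Quotient.mk q) Ideal.Quotient.mk_surjective ?_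
    show _ = Ideal.comap (Ideal.Quotient.mk q) (Ideal.comap (algebraMap (B ⧸ q) (MvPolynomial (Fin n) (B ⧸ q))) (Q.map π))
    rw [Ideal.comap_comap, ← hcomp, ← Ideal.comap_comap, Ideal.comap_map_of_surjective' _ hπ,
      sup_eq_left.mpr hkQ, Ideal.comap_map_of_surjective' _ Ideal.Quotient.mk_surjective, Ideal.mk_ker,
      sup_eq_left.mpr hqP0]⟩
  have e1 := Ideal.height_eq_height_add_of_liesOver_of_hasGoingDown P0' (Q.map π)
  have hcomap : (P0'.map (algebraMap (B ⧸ q) (MvPolynomial (Fin n) (B ⧸ q)))).comap π =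
      P0.map (algebraMap B (MvPolynomial (Fin n) B)) := by
    show Ideal.comap π (Ideal.map _ (Ideal.map _ P0)) = _
    rw [Ideal.map_map, ← hcomp, ← Ideal.map_map, Ideal.comap_map_of_surjective' _ hπ, hkπ,
      sup_eq_left.mpr (Ideal.map_mono hqP0)]
  rw [height_map_map_mk π hπ hcomap Q] at e1
  have e3 := height_map_mk_of_ker π hπ hkπ Q
  have : IsLocalRing (B ⧸ q) := .of_surjective' _ Ideal.Quotient.mk_surjective
  have e4 := height_add_dim_eq_of_isEquidim (isCatenary_of_surjective _ Ideal.Quotient.mk_surjective hcat)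
    (isEquidim_of_isDomain (B ⧸ q)) P0'
  rw [dimQuotQuot hqP0] at e4
  rw [e3, e1, ← e4, WithBot.coe_add, add_right_comm]

/-- Localizations of polynomial rings over catenary equidimensional local rings are equidimensional. -/
theorem isEquidim_localization_mvPolynomial {B : Type u} [CommRing B] [IsNoetherianRing B] [IsLocalRing B]
    (hcat : CAlg.IsCatenary B) (heq : EGA4.IsEquidim B) (n : ℕ) (Q : Ideal (MvPolynomial (Fin n) B)) [Q.IsPrime] :
    EGA4.IsEquidim (Localization.AtPrime Q) := by
  set P0 := Q.comap (algebraMap B (MvPolynomial (Fin n) B)) with hP0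
  obtain ⟨dB, hdB⟩ := exists_dim_eq_nat B
  obtain ⟨d0, hd0⟩ := exists_nat_dim_quotient_eq P0
  have : (Q.map (Ideal.Quotient.mk (P0.map (algebraMap B (MvPolynomial (Fin n) B))))).IsPrime :=
    Ideal.isPrime_map_quotientMk_of_isPrime Ideal.map_comap_le
  obtain ⟨hF, hhF⟩ := exists_nat_height_eq (Q.map (Ideal.Quotient.mk (P0.map (algebraMap B (MvPolynomial (Fin n) B)))))
  refine isEquidim_of_forall (((dB + hF - d0 : ℕ) : ℕ∞) : WithBot ℕ∞) fun p hp => ?_
  have : p.IsPrime := hp.isPrime
  set P := p.comap (algebraMap (MvPolynomial (Fin n) B) (Localization.AtPrime Q)) with hPdef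
  have hpP : P.map (algebraMap (MvPolynomial (Fin n) B) (Localization.AtPrime Q)) = p :=
    IsLocalization.map_under Q.primeCompl _ p
  have hPQ : P ≤ Q :=
    (Ideal.comap_mono (le_maximalIdeal (‹p.IsPrime›).ne_top)).trans
      (le_of_eq (Localization.AtPrime.under_maximalIdeal (I := Q)))
  have hPp : P.IsPrime := Ideal.IsPrime.comap _
  have hPmin : P ∈ ((⊥ : Ideal B).map (algebraMap B (MvPolynomial (Fin n) B))).minimalPrimes := by
    rw [Ideal.map_bot]
    refine ⟨⟨hPp, bot_le⟩, fun P' hP' hle => ?_⟩
    have := hP'.1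
    have hdisj : Disjoint (Q.primeCompl : Set (MvPolynomial (Fin n) B)) P' :=
      Set.disjoint_left.2 fun z hz hz' => hz (hPQ (hle hz'))
    have hPr := IsLocalization.isPrime_of_isPrime_disjoint Q.primeCompl (Localization.AtPrime Q) P' hP'.1 hdisj
    have h1 := hp.2 ⟨hPr, bot_le⟩ ((Ideal.map_mono hle).trans_eq hpP)
    exact (Ideal.comap_mono h1).trans_eq (IsLocalization.under_map_of_isPrime_disjoint Q.primeCompl _ hP'.1 hdisj)
  obtain ⟨hqmin, hPmin'⟩ := mem_minimalPrimes_comap hPmin
  set q := P.comap (algebraMap B (MvPolynomial (Fin n) B)) with hq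
  have : q.IsPrime := hqmin.isPrime
  have hqS : (q.map (algebraMap B (MvPolynomial (Fin n) B))).IsPrime := by
    have : RingHom.ker (MvPolynomial.map (σ := Fin n) (Ideal.Quotient.mk q)) =
        q.map (algebraMap B (MvPolynomial (Fin n) B)) := by
      rw [MvPolynomial.ker_map, Ideal.mk_ker]; rfl
    rw [← this]
    exact RingHom.ker_isPrime _
  have hPq : P = q.map (algebraMap B (MvPolynomial (Fin n) B)) :=
    le_antisymm (hPmin'.2 ⟨hqS, le_rfl⟩ Ideal.map_comap_le) Ideal.map_comap_le
  have hqQ : q.map (algebraMap B (MvPolynomial (Fin n) B)) ≤ Q := hPq.symm.trans_le hPQ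
  have key := height_map_mk_mvPolynomial hcat n q Q hqQ
  rw [← hP0, hd0, hhF, heq q hqmin, hdB] at key
  rw [← hpP, ringKrullDim_localization_quotient hPQ]
  conv_lhs => rw [hPq]
  have : (Q.map (Ideal.Quotient.mk (q.map (algebraMap B (MvPolynomial (Fin n) B))))).IsPrime :=
    Ideal.isPrime_map_quotientMk_of_isPrime hqQ
  obtain ⟨hQ, hhQ⟩ := exists_nat_height_eq (Q.map (Ideal.Quotient.mk (q.map (algebraMap B (MvPolynomial (Fin n) B)))))
  rw [hhQ] at key ⊢
  norm_cast at key
  norm_cast
  omega

/-! ### Formally catenary rings -/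

section
attribute [local instance] MvPolynomial.algebraMvPolynomial

/-- Polynomial rings over a formally equidimensional local domain: catenary and equidimensional local rings. -/
theorem isEquidim_and_isCatenary_localization_mvPolynomial (A : Type u) [CommRing A] [IsNoetherianRing A]
    [IsLocalRing A] (hA : EGA4.IsFormallyEquidim A) (n : ℕ) (Q : Ideal (MvPolynomial (Fin n) A)) [Q.IsPrime] :
    EGA4.IsEquidim (Localization.AtPrime Q) ∧ CAlg.IsCatenary (Localization.AtPrime Q) := by
  let B := AdicCompletion (maximalIdeal A) A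
  have := isNoetherianRing_adicCompletion A (maximalIdeal A)
  have : Module.FaithfullyFlat A B := Module.FaithfullyFlat.of_flat_of_isLocalHom
  have : Module.FaithfullyFlat (MvPolynomial (Fin n) A) (MvPolynomial (Fin n) B) := by
    have h : IsBaseChange (MvPolynomial (Fin n) A) (IsScalarTower.toAlgHom A B (MvPolynomial (Fin n) B)).toLinearMap :=
      Algebra.IsPushout.out
    exact Module.FaithfullyFlat.of_linearEquiv _ _ h.equiv.symm
  obtain ⟨⟨Q', hQ'⟩, hQQ'⟩ := PrimeSpectrum.comap_surjective_of_faithfullyFlat (B := MvPolynomial (Fin n) B) ⟨Q, ‹_›⟩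
  have : Q'.LiesOver Q := ⟨(congrArg PrimeSpectrum.asIdeal hQQ').symm⟩
  letI := Localization.AtPrime.algebraOfLiesOver Q Q'
  have : IsLocalHom (algebraMap (Localization.AtPrime Q) (Localization.AtPrime Q')) := by
    rw [Localization.AtPrime.IsLiesOverAlgebra.algebraMap_eq]
    exact Localization.isLocalHom_localRingHom _ _ _ _
  exact S2630.result (Localization.AtPrime Q) (Localization.AtPrime Q')
    (isEquidim_localization_mvPolynomial (isCatenary_of_isAdicComplete B) hA n Q')
    (H8Props.CatenaryBridge.isCatenary_atPrime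
      ((isUniversallyCatenary_of_isAdicComplete B).2 _ inferInstance) Q' _)

end

/-- A formally catenary Noetherian local ring is universally catenary. -/
theorem isUniversallyCatenary_of_isFormallyCatenary (A : Type u) [CommRing A] [IsNoetherianRing A] [IsLocalRing A]
    (hA : EGA4.IsFormallyCatenary A) : CAlg.IsUniversallyCatenary A := by
  refine isUniversallyCatenary_of_forall_mvPolynomial fun n => H02CA.catenary_of_cover fun P Q hPQ => ?_
  let p := P.asIdeal.comap (algebraMap A (MvPolynomial (Fin n) A))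
  let π : MvPolynomial (Fin n) A →+* MvPolynomial (Fin n) (A ⧸ p) := MvPolynomial.map (Ideal.Quotient.mk p)
  have hπ : Function.Surjective π := MvPolynomial.map_surjective _ Ideal.Quotient.mk_surjective
  have hk : RingHom.ker π ≤ P.asIdeal := by
    show RingHom.ker (MvPolynomial.map (Ideal.Quotient.mk p)) ≤ _
    rw [MvPolynomial.ker_map, Ideal.mk_ker]
    exact Ideal.map_comap_le
  have : IsLocalRing (A ⧸ p) := .of_surjective' _ Ideal.Quotient.mk_surjective
  have hcat : CAlg.IsCatenary (MvPolynomial (Fin n) (A ⧸ p)) :=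
    H8Props.CatenaryBridge.isCatenary_of_localizations fun q => ⟨Localization.AtPrime q.asIdeal, inferInstance,
      inferInstance, inferInstance,
      (isEquidim_and_isCatenary_localization_mvPolynomial (A ⧸ p) (hA p) n q.asIdeal).2⟩
  refine ⟨_, inferInstance, H02CA.quotEmbedding (RingHom.ker π), H02CA.convex_quotEmbedding _, ?_, ?_,
    isCatenary_of_surjective (RingHom.quotientKerEquivOfSurjective hπ).symm.toRingHom
      (RingHom.quotientKerEquivOfSurjective hπ).symm.surjective hcat⟩
  · exact (H02CA.mem_range_quotEmbedding _).mpr hk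
  · exact (H02CA.mem_range_quotEmbedding _).mpr (hk.trans hPQ)

end Groth.Agent.H05EGA4
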