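import Mathlib
import Groth.Prelude.Def_EGA4b
import Groth.Agent.H05EGA4.Regular2

/-!
# `(R_k)` at a prime and regular loci
-/

open IsLocalRing
universe u
set_option maxHeartbeats 400000

namespace Groth.Agent.H05EGA4

/-- Regularity at a prime is insensitive to localization. -/
theorem isRegularLocalRing_localization_iff {R : Type u} [CommRing R] (S : Submonoid R) (R' : Type u)
    [CommRing R'] [Algebra R R'] [IsLocalization S R'] (P : Ideal R') [P.IsPrime] :
    IsRegularLocalRing (Localization.AtPrime P) ↔
      IsRegularLocalRing (Localization.AtPrime (P.comap (algebraMap R R'))) := by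
  have := IsLocalization.isLocalization_isLocalization_atPrime_isLocalization S (Localization.AtPrime P) P
  let e := (IsLocalization.algEquiv (P.comap (algebraMap R R')).primeCompl
    (Localization.AtPrime (P.comap (algebraMap R R'))) (Localization.AtPrime P)).toRingEquiv
  exact ⟨fun _ => IsRegularLocalRing.of_ringEquiv e.symm, fun _ => IsRegularLocalRing.of_ringEquiv e⟩

theorem isRegularLocalRing_localization_congr {R : Type u} [CommRing R] {p q : Ideal R} [p.IsPrime]
    [q.IsPrime] (h : p = q) :
    IsRegularLocalRing (Localization.AtPrime p) ↔ IsRegularLocalRing (Localization.AtPrime q) := by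
  subst h; rfl

/-- `(R_k)` at `p`: the primes of height `≤ k` below `p` are regular points. -/
theorem hasRkAt_iff {k : ℕ} {R : Type u} [CommRing R] {p : Ideal R} [p.IsPrime] :
    EGA4.HasRkAt k R p ↔ ∀ (r : Ideal R) [r.IsPrime], r ≤ p → r.height ≤ k →
      IsRegularLocalRing (Localization.AtPrime r) := by
  constructor
  · intro h r hr hrp hk
    have hdisj : Disjoint (p.primeCompl : Set R) r := Set.disjoint_left.2 fun z hz hzr => hz (hrp hzr)
    have hP := IsLocalization.isPrime_of_isPrime_disjoint p.primeCompl (Localization.AtPrime p) r hr hdisj
    have hc := IsLocalization.under_map_of_isPrime_disjoint p.primeCompl (Localization.AtPrime p) hr hdisj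
    exact (isRegularLocalRing_localization_congr hc).mp
      ((isRegularLocalRing_localization_iff p.primeCompl _ (r.map (algebraMap R (Localization.AtPrime p)))).mp
        (h (r.map (algebraMap R (Localization.AtPrime p))) (by
          rwa [IsLocalization.height_map_of_disjoint p.primeCompl r hdisj])))
  · intro h P hP hk
    refine (isRegularLocalRing_localization_iff p.primeCompl _ P).mpr (h _ ?_ ?_)
    · exact (Ideal.comap_mono (le_maximalIdeal hP.ne_top)).trans
        (Localization.AtPrime.under_maximalIdeal (I := p)).le
    · exact le_of_eq_of_le (IsLocalization.height_under p.primeCompl P) hk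

theorem mem_regLocus_iff {R : Type u} [CommRing R] (p : PrimeSpectrum R) :
    p ∈ EGA4.regLocus R ↔ IsRegularLocalRing (Localization.AtPrime p.asIdeal) := Iff.rfl

/-- Regularity is stable under generization. -/
theorem isRegularLocalRing_of_le {R : Type u} [CommRing R] {r p : Ideal R} [r.IsPrime] [p.IsPrime]
    (hrp : r ≤ p) [IsRegularLocalRing (Localization.AtPrime p)] :
    IsRegularLocalRing (Localization.AtPrime r) := by
  have hdisj : Disjoint (p.primeCompl : Set R) r := Set.disjoint_left.2 fun z hz hzr => hz (hrp hzr)
  have hP := IsLocalization.isPrime_of_isPrime_disjoint p.primeCompl (Localization.AtPrime p) r ‹_› hdisj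
  have hc := IsLocalization.under_map_of_isPrime_disjoint p.primeCompl (Localization.AtPrime p) ‹_› hdisj
  exact (isRegularLocalRing_localization_congr hc).mp
    ((isRegularLocalRing_localization_iff p.primeCompl _ _).mp
      (isRegularLocalRing_localization _ _))

/-- Descent of regularity at a point of a flat algebra. -/
theorem isRegularLocalRing_comap_of_flat {A B : Type u} [CommRing A] [CommRing B] [IsNoetherianRing A]
    [Algebra A B] [Module.Flat A B] (p : Ideal A) [p.IsPrime] (Q : Ideal B) [Q.IsPrime] [Q.LiesOver p]
    [IsRegularLocalRing (Localization.AtPrime Q)] : IsRegularLocalRing (Localization.AtPrime p) := by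
  letI := Localization.AtPrime.algebraOfLiesOver p Q
  have : Module.Flat (Localization.AtPrime p) (Localization.AtPrime Q) := inferInstance
  have : IsLocalHom (algebraMap (Localization.AtPrime p) (Localization.AtPrime Q)) := by
    rw [Localization.AtPrime.IsLiesOverAlgebra.algebraMap_eq]
    infer_instance
  exact isRegularLocalRing_of_flat (B := Localization.AtPrime Q)

end Groth.Agent.H05EGA4
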