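import Mathlib
import Groth.Prelude.Def_EGA4b
import Groth.Agent.H05EGA4.Rk
import Groth.Agent.H05EGA4.Equidim
import Groth.Agent.H02CA.SmoothRegular
import Groth.Agent.H02CA.GeomReducedField
import Groth.Agent.S9255
import Groth.Agent.S9296

/-!
# Open regular loci: the criterion of Nagata (EGA IV 6.12.2), generic smoothness
-/

open IsLocalRing PrimeSpectrum
universe u
set_option maxHeartbeats 400000

namespace Groth.Agent.H05EGA4

/-- The regular locus contains a non-empty open subset. -/
def IsJ0 (R : Type u) [CommRing R] : Prop :=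
  ∃ U : Set (PrimeSpectrum R), IsOpen U ∧ U.Nonempty ∧ U ⊆ EGA4.regLocus R

theorem isRegularLocalRing_bot (R : Type u) [CommRing R] [IsDomain R] :
    IsRegularLocalRing (Localization.AtPrime (⊥ : Ideal R)) := by
  have : IsNoetherianRing (Localization.AtPrime (⊥ : Ideal R)) := by
    have : IsFractionRing R (Localization.AtPrime (⊥ : Ideal R)) := by
      have h : (⊥ : Ideal R).primeCompl = nonZeroDivisors R := by
        ext x; simp [Ideal.primeCompl, mem_nonZeroDivisors_iff_ne_zero]
      show IsLocalization _ _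
      rw [← h]; infer_instance
    letI := IsFractionRing.toField R (K := Localization.AtPrime (⊥ : Ideal R))
    infer_instance
  refine isRegularLocalRing_of_maximalIdeal_eq_bot _ ?_
  rw [← Localization.AtPrime.map_eq_maximalIdeal, Ideal.map_bot]

theorem isJ0_of_isOpen {R : Type u} [CommRing R] [IsDomain R] (h : IsOpen (EGA4.regLocus R)) : IsJ0 R :=
  ⟨_, h, ⟨⟨⊥, Ideal.isPrime_bot⟩, isRegularLocalRing_bot R⟩, subset_rfl⟩

theorem comap_mem_regLocus_iff {R S : Type u} [CommRing R] [CommRing S] (e : R ≃+* S) (P : PrimeSpectrum S) :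
    PrimeSpectrum.comap e.toRingHom P ∈ EGA4.regLocus R ↔ P ∈ EGA4.regLocus S := by
  letI := e.toRingHom.toAlgebra
  have : IsLocalization (⊥ : Submonoid R) R := IsLocalization.self fun x hx => hx ▸ isUnit_one
  have : IsLocalization (⊥ : Submonoid R) S :=
    IsLocalization.isLocalization_of_algEquiv (S := R) (⊥ : Submonoid R) (AlgEquiv.ofRingEquiv (f := e) fun r => rfl)
  exact (isRegularLocalRing_localization_iff (⊥ : Submonoid R) S P.asIdeal).symm

theorem IsJ0.of_ringEquiv {R S : Type u} [CommRing R] [CommRing S] (e : R ≃+* S) (h : IsJ0 R) : IsJ0 S := by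
  obtain ⟨U, hU, ⟨x, hx⟩, hsub⟩ := h
  refine ⟨PrimeSpectrum.comap e.toRingHom ⁻¹' U, hU.preimage (continuous_comap _),
    ⟨PrimeSpectrum.comap e.symm.toRingHom x, ?_⟩, fun P hP => (comap_mem_regLocus_iff e P).mp (hsub hP)⟩
  rw [Set.mem_preimage]
  convert hx using 1
  apply PrimeSpectrum.ext
  ext r
  simp

theorem isJ0_of_isField {R : Type u} [CommRing R] [IsDomain R] (h : IsField R) : IsJ0 R := by
  letI := h.toField
  refine ⟨Set.univ, isOpen_univ, ⟨⟨⊥, Ideal.isPrime_bot⟩, trivial⟩, fun P _ => ?_⟩
  rw [mem_regLocus_iff]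
  exact (isRegularLocalRing_localization_congr (Ideal.eq_bot_of_prime P.asIdeal)).mpr (isRegularLocalRing_bot R)

/-- A regular quotient by a prime generated by `ht P` elements forces regularity. -/
theorem isRegularLocalRing_of_quotient {R : Type u} [CommRing R] [IsLocalRing R] [IsNoetherianRing R]
    (P : Ideal R) [P.IsPrime] {n : ℕ} (x : Fin n → R) (hx : Ideal.span (Set.range x) = P)
    (hn : (n : ℕ∞) ≤ P.height) [IsRegularLocalRing (R ⧸ P)] : IsRegularLocalRing R := by
  subst hx
  refine IsRegularLocalRing.of_spanFinrank_maximalIdeal_le R ?_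
  refine le_trans ?_ (height_add_dim_quotient_le (Ideal.span (Set.range x)))
  rw [← IsRegularLocalRing.spanFinrank_maximalIdeal (R := R ⧸ Ideal.span (Set.range x))]
  refine le_trans ?_ (add_le_add (WithBot.coe_le_coe.mpr hn) le_rfl)
  norm_cast
  exact spanFinrank_maximalIdeal_le_quotient x

/-- A regular point has a neighbourhood on which the prime is cut out by `ht p` elements. -/
theorem exists_span_height_eq {A : Type u} [CommRing A] [IsNoetherianRing A] (p : Ideal A) [p.IsPrime]
    [IsRegularLocalRing (Localization.AtPrime p)] :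
    ∃ (f : A) (n : ℕ) (x : Fin n → A), f ∉ p ∧ (n : ℕ∞) ≤ p.height ∧ (∀ i, x i ∈ p) ∧
      ∀ a ∈ p, f * a ∈ Ideal.span (Set.range x) := by
  classical
  let Ap := Localization.AtPrime p
  obtain ⟨s, hcard, hs⟩ := Submodule.FG.exists_span_finset_card_eq_spanFinrank
    (IsNoetherian.noetherian (maximalIdeal Ap))
  choose a b hab using fun y : Fin s.card => IsLocalization.exists_mk'_eq p.primeCompl ((s.equivFin.symm y) : Ap)
  have hmem : ∀ i, a i ∈ p := by
    intro i
    have h1 : ((s.equivFin.symm i) : Ap) ∈ maximalIdeal Ap := hs ▸ Ideal.subset_span (s.equivFin.symm i).2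
    have h2 : algebraMap A Ap (a i) ∈ maximalIdeal Ap := by
      rw [← IsLocalization.mk'_spec Ap (a i) (b i), hab i]
      exact Ideal.mul_mem_right _ _ h1
    exact (IsLocalization.AtPrime.to_map_mem_maximal_iff Ap p (a i)).mp h2
  have hspan : (Ideal.span (Set.range a)).map (algebraMap A Ap) = maximalIdeal Ap := by
    refine le_antisymm (Ideal.map_le_iff_le_comap.mpr (Ideal.span_le.mpr ?_)) ?_
    · rintro _ ⟨i, rfl⟩
      exact (IsLocalization.AtPrime.to_map_mem_maximal_iff Ap p (a i)).mpr (hmem i)
    · rw [← hs]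
      refine Ideal.span_le.mpr fun y hy => ?_
      have h1 : algebraMap A Ap (a (s.equivFin ⟨y, hy⟩)) ∈ (Ideal.span (Set.range a)).map (algebraMap A Ap) :=
        Ideal.mem_map_of_mem _ (Ideal.subset_span ⟨_, rfl⟩)
      have h2 := hab (s.equivFin ⟨y, hy⟩)
      rw [Equiv.symm_apply_apply] at h2
      rw [SetLike.mem_coe]
      show y ∈ _
      rw [show y = IsLocalization.mk' Ap (a (s.equivFin ⟨y, hy⟩)) (b (s.equivFin ⟨y, hy⟩)) from h2.symm,
        IsLocalization.mk'_mem_iff]
      exact h1
  obtain ⟨gens, hgens⟩ : p.FG := IsNoetherian.noetherian p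
  have key : ∀ g ∈ gens, ∃ t ∉ p, t * g ∈ Ideal.span (Set.range a) := by
    intro g hg
    have h1 : algebraMap A Ap g ∈ (Ideal.span (Set.range a)).map (algebraMap A Ap) := by
      rw [hspan]
      exact (IsLocalization.AtPrime.to_map_mem_maximal_iff Ap p g).mpr (hgens ▸ Ideal.subset_span hg)
    obtain ⟨t, ht, htg⟩ := (IsLocalization.algebraMap_mem_map_algebraMap_iff p.primeCompl Ap _ g).mp h1
    exact ⟨t, ht, htg⟩
  choose! t ht htg using key
  refine ⟨∏ g ∈ gens, t g, s.card, a, fun h => ?_, ?_, hmem, ?_⟩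
  · obtain ⟨g, hg, hgp⟩ := (Ideal.IsPrime.prod_mem_iff (x := t) (p := p) (s := gens)).mp h
    exact ht g hg hgp
  · have h1 := IsRegularLocalRing.spanFinrank_maximalIdeal (R := Ap)
    rw [IsLocalization.AtPrime.ringKrullDim_eq_height p Ap, ← hcard] at h1
    exact le_of_eq (WithBot.coe_injective h1)
  · intro c hc
    rw [← hgens] at hc
    induction hc using Submodule.span_induction with
    | mem g hg =>
      rw [← Finset.prod_erase_mul _ _ hg, mul_assoc]
      exact Ideal.mul_mem_left _ _ (htg g hg)
    | zero => simp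
    | add u v _ _ hu hv => rw [mul_add]; exact add_mem hu hv
    | smul r u _ hu => rw [smul_eq_mul, mul_left_comm]; exact Ideal.mul_mem_left _ _ hu

/-- EGA IV 6.12.2 (key step): a regular prime `p` with `A/p` regular near `q` has `A` regular near `q`. -/
theorem isRegularLocalRing_of_mem_regLocus_quotient {A : Type u} [CommRing A] [IsNoetherianRing A]
    {p q : Ideal A} [p.IsPrime] [q.IsPrime] (hpq : p ≤ q) {n : ℕ} (x : Fin n → A) (hx : ∀ i, x i ∈ p)
    (hn : (n : ℕ∞) ≤ p.height) {f : A} (hf : f ∉ q) (hgen : ∀ a ∈ p, f * a ∈ Ideal.span (Set.range x))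
    (hreg : ∀ [(q.map (Ideal.Quotient.mk p)).IsPrime],
      IsRegularLocalRing (Localization.AtPrime (q.map (Ideal.Quotient.mk p)))) :
    IsRegularLocalRing (Localization.AtPrime q) := by
  let Aq := Localization.AtPrime q
  have hdisj : Disjoint (q.primeCompl : Set A) p := Set.disjoint_left.2 fun z hz hzp => hz (hpq hzp)
  have hP : (p.map (algebraMap A Aq)).IsPrime :=
    IsLocalization.isPrime_of_isPrime_disjoint q.primeCompl Aq p ‹_› hdisj
  have hQ : (q.map (Ideal.Quotient.mk p)).IsPrime := Ideal.isPrime_map_quotientMk_of_isPrime hpq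
  have hspan : Ideal.span (Set.range (algebraMap A Aq ∘ x)) = p.map (algebraMap A Aq) := by
    rw [Set.range_comp, ← Ideal.map_span]
    refine le_antisymm (Ideal.map_mono (Ideal.span_le.mpr (Set.range_subset_iff.mpr hx)))
      (Ideal.map_le_iff_le_comap.mpr fun a ha => ?_)
    have := Ideal.mem_map_of_mem (algebraMap A Aq) (hgen a ha)
    rw [map_mul] at this
    exact (Ideal.unit_mul_mem_iff_mem _ (IsLocalization.map_units Aq (⟨f, hf⟩ : q.primeCompl))).mp this
  have hsub : Algebra.algebraMapSubmonoid (A ⧸ p) q.primeCompl = (q.map (Ideal.Quotient.mk p)).primeCompl := by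
    ext y
    constructor
    · rintro ⟨a, ha, rfl⟩ hay
      have : a ∈ (q.map (Ideal.Quotient.mk p)).comap (Ideal.Quotient.mk p) := hay
      rw [Ideal.comap_map_of_surjective' _ Ideal.Quotient.mk_surjective, Ideal.mk_ker, sup_eq_left.mpr hpq] at this
      exact ha this
    · intro hy
      obtain ⟨a, rfl⟩ := Ideal.Quotient.mk_surjective y
      exact ⟨a, fun ha => hy (Ideal.mem_map_of_mem _ ha), rfl⟩
  have hloc : IsLocalization (q.map (Ideal.Quotient.mk p)).primeCompl (Aq ⧸ p.map (algebraMap A Aq)) := by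
    rw [← hsub]; infer_instance
  have := hreg
  have : IsRegularLocalRing (Aq ⧸ p.map (algebraMap A Aq)) :=
    IsRegularLocalRing.of_ringEquiv (IsLocalization.algEquiv (q.map (Ideal.Quotient.mk p)).primeCompl
      (Localization.AtPrime (q.map (Ideal.Quotient.mk p))) (Aq ⧸ p.map (algebraMap A Aq))).toRingEquiv
  refine isRegularLocalRing_of_quotient (p.map (algebraMap A Aq)) _ hspan ?_
  rwa [IsLocalization.height_map_of_disjoint q.primeCompl p hdisj]

theorem isOpen_regLocus_of_quotients {A : Type u} [CommRing A] [IsNoetherianRing A]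
    (h : ∀ p : PrimeSpectrum A, p ∈ EGA4.regLocus A → IsJ0 (A ⧸ p.asIdeal)) :
    IsOpen (EGA4.regLocus A) := by
  refine (S9296.result A).mpr fun p hp => ?_
  obtain ⟨U, hU, ⟨y, hy⟩, hUsub⟩ := h p hp
  have : IsRegularLocalRing (Localization.AtPrime p.asIdeal) := hp
  obtain ⟨f, n, x, hf, hn, hxp, hgen⟩ := exists_span_height_eq p.asIdeal
  obtain ⟨_, ⟨g, rfl⟩, hyg, hgU⟩ := isTopologicalBasis_basic_opens.exists_subset_of_mem_open hy hU
  obtain ⟨g, rfl⟩ := Ideal.Quotient.mk_surjective g
  have hg : g ∉ p.asIdeal := fun hg => hyg (by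
    rw [show Ideal.Quotient.mk p.asIdeal g = 0 from Ideal.Quotient.eq_zero_iff_mem.mpr hg]
    exact zero_mem _)
  refine ⟨(basicOpen (f * g) : Set (PrimeSpectrum A)), (basicOpen (f * g)).2,
    ⟨p, fun hfg => (p.2.mem_or_mem hfg).elim hf hg, le_refl p.asIdeal⟩, ?_⟩
  rintro q ⟨hq, hpq⟩
  have hfq : f ∉ q.asIdeal := fun h => hq (q.asIdeal.mul_mem_right g h)
  have hgq : g ∉ q.asIdeal := fun h => hq (q.asIdeal.mul_mem_left f h)
  refine isRegularLocalRing_of_mem_regLocus_quotient hpq x hxp hn hfq hgen fun {hQ} => ?_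
  refine hUsub (a := ⟨_, hQ⟩) (hgU fun hgQ => hgq ?_)
  have : g ∈ (q.asIdeal.map (Ideal.Quotient.mk p.asIdeal)).comap (Ideal.Quotient.mk p.asIdeal) := hgQ
  rwa [Ideal.comap_map_of_surjective' _ Ideal.Quotient.mk_surjective, Ideal.mk_ker,
    sup_eq_left.mpr hpq] at this

/-- A generically formally smooth algebra is smooth on a non-empty basic open. -/
theorem exists_smooth_away (A A' : Type u) [CommRing A] [CommRing A'] [IsDomain A'] [IsDomain A]
    [IsNoetherianRing A] [Algebra A A'] [Algebra.FiniteType A A']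
    (K L : Type u) [Field K] [Field L] [Algebra A K] [IsFractionRing A K] [Algebra A' L] [IsFractionRing A' L]
    [Algebra K L] [Algebra A L] [IsScalarTower A K L] [IsScalarTower A A' L] [Algebra.FormallySmooth K L] :
    ∃ g : A', g ≠ 0 ∧ Algebra.Smooth A (Localization.Away g) := by
  have : Algebra.FinitePresentation A A' := Algebra.FinitePresentation.of_finiteType.mp inferInstance
  have hL : IsLocalization (⊥ : Ideal A').primeCompl L := by
    have h : (⊥ : Ideal A').primeCompl = nonZeroDivisors A' := by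
      ext x; simp [Ideal.primeCompl, mem_nonZeroDivisors_iff_ne_zero]
    rw [h]; infer_instance
  have : Algebra.FormallySmooth A K := .of_isLocalization (nonZeroDivisors A)
  have : Algebra.FormallySmooth A L := .comp A K L
  have : Algebra.IsSmoothAt A (⊥ : Ideal A') := .of_equiv
    ((IsLocalization.algEquiv (⊥ : Ideal A').primeCompl L (Localization.AtPrime (⊥ : Ideal A'))).restrictScalars A)
  obtain ⟨g, hg, hgs⟩ := Algebra.IsSmoothAt.exists_notMem_smooth A (⊥ : Ideal A')
  exact ⟨g, fun h => hg (h ▸ zero_mem _), hgs⟩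

/-- Generic smoothness. -/
theorem isJ0_of_formallySmooth (A A' : Type u) [CommRing A] [CommRing A'] [IsDomain A] [IsDomain A']
    [IsNoetherianRing A] [Algebra A A'] [FaithfulSMul A A'] [Algebra.FiniteType A A']
    (K L : Type u) [Field K] [Field L] [Algebra A K] [IsFractionRing A K] [Algebra A' L] [IsFractionRing A' L]
    [Algebra K L] [Algebra A L] [IsScalarTower A K L] [IsScalarTower A A' L] [Algebra.FormallySmooth K L]
    (h : IsJ0 A) : IsJ0 A' := by
  obtain ⟨U, hU, ⟨x, hx⟩, hUsub⟩ := h
  obtain ⟨_, ⟨f, rfl⟩, hxf, hfU⟩ := isTopologicalBasis_basic_opens.exists_subset_of_mem_open hx hU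
  have hf0 : f ≠ 0 := fun hf => hxf (hf ▸ zero_mem _)
  obtain ⟨g, hg0, hgs⟩ := exists_smooth_away A A' K L
  let f' := algebraMap A A' f
  let Af := Localization.Away f
  let B := Localization.Away g
  let C := Localization.Away (algebraMap A B f)
  refine ⟨basicOpen (g * f'), (basicOpen (g * f')).2, ⟨⟨⊥, Ideal.isPrime_bot⟩, ?_⟩, fun Q hQ => ?_⟩
  · show g * f' ∉ (⊥ : Ideal A')
    rw [Ideal.mem_bot]
    exact mul_ne_zero hg0 ((map_ne_zero_iff _ (FaithfulSMul.algebraMap_injective A A')).mpr hf0)
  have hregAf : IsRegularRing Af := by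
    have : IsNoetherianRing Af := IsLocalization.isNoetherianRing (Submonoid.powers f) Af inferInstance
    rw [isRegularRing_iff]
    intro P hP
    refine (isRegularLocalRing_localization_iff (Submonoid.powers f) Af P).mpr ?_
    refine hUsub (a := ⟨P.comap (algebraMap A Af), Ideal.IsPrime.comap _⟩) (hfU fun hfP => hP.ne_top ?_)
    exact P.eq_top_of_isUnit_mem hfP (IsLocalization.Away.algebraMap_isUnit f)
  have hQg : g ∉ Q.asIdeal := fun h => hQ (Q.asIdeal.mul_mem_right f' h)
  have hQf : f' ∉ Q.asIdeal := fun h => hQ (Q.asIdeal.mul_mem_left g h)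
  letI : Algebra Af C := (Localization.awayMap (algebraMap A B) f).toAlgebra
  have : IsScalarTower A Af C := IsScalarTower.of_algebraMap_eq fun a => by
    rw [RingHom.algebraMap_toAlgebra, Localization.awayMap, IsLocalization.Away.map, IsLocalization.map_eq,
      ← IsScalarTower.algebraMap_apply]
  have : Algebra.Smooth B C := .of_isLocalization_Away (algebraMap A B f)
  have : Algebra.Smooth A C := .comp A B C
  have : Algebra.FormallyUnramified A Af := .of_isLocalization (Submonoid.powers f)
  have : Algebra.Smooth Af C := ⟨.of_restrictScalars A Af C, .of_restrict_scalars_finitePresentation A Af C⟩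
  have hC : IsRegularRing C := H02CA.isRegularRing_of_smooth Af C
  have hd1 : Disjoint (Submonoid.powers g : Set A') Q.asIdeal := (Ideal.disjoint_powers_iff_notMem_of_isPrime _).mpr hQg
  have hP1 := IsLocalization.isPrime_of_isPrime_disjoint (Submonoid.powers g) B Q.asIdeal Q.2 hd1
  have hc1 := IsLocalization.under_map_of_isPrime_disjoint (Submonoid.powers g) B Q.2 hd1
  set P1 := Q.asIdeal.map (algebraMap A' B)
  have hd2 : Disjoint (Submonoid.powers (algebraMap A B f) : Set B) P1 :=
    (Ideal.disjoint_powers_iff_notMem_of_isPrime _).mpr fun h => hQf (by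
      rw [← hc1]; show algebraMap A' B f' ∈ P1
      rwa [← IsScalarTower.algebraMap_apply])
  have hP2 := IsLocalization.isPrime_of_isPrime_disjoint (Submonoid.powers (algebraMap A B f)) C P1 hP1 hd2
  have hc2 := IsLocalization.under_map_of_isPrime_disjoint (Submonoid.powers (algebraMap A B f)) C hP1 hd2
  exact (isRegularLocalRing_localization_congr hc1).mp
    ((isRegularLocalRing_localization_iff (Submonoid.powers g) B P1).mp
      ((isRegularLocalRing_localization_congr hc2).mp
        ((isRegularLocalRing_localization_iff (Submonoid.powers (algebraMap A B f)) C _).mp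
          (isRegularRing_iff.mp hC _))))

/-- Subsets of `adjoin K (P ∪ X)` need only finitely many elements of `P`. -/
theorem exists_finset_mem_adjoin_union {K E : Type u} [Field K] [Field E] [Algebra K E] (P X : Set E)
    {z : E} (hz : z ∈ IntermediateField.adjoin K (P ∪ X)) :
    ∃ T : Finset E, (T : Set E) ⊆ P ∧ z ∈ IntermediateField.adjoin K ((T : Set E) ∪ X) := by
  classical
  have mono : ∀ {T T' : Finset E}, T ⊆ T' → IntermediateField.adjoin K ((T : Set E) ∪ X) ≤
      IntermediateField.adjoin K ((T' : Set E) ∪ X) := fun h =>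
    IntermediateField.adjoin.mono K _ _ (Set.union_subset_union_left _ (Finset.coe_subset.mpr h))
  induction hz using IntermediateField.adjoin_induction with
  | mem x hx =>
    rcases hx with hx | hx
    · exact ⟨{x}, by simpa using hx, IntermediateField.subset_adjoin _ _ (Or.inl (by simp))⟩
    · exact ⟨∅, by simp, IntermediateField.subset_adjoin _ _ (Or.inr hx)⟩
  | algebraMap x => exact ⟨∅, by simp, IntermediateField.algebraMap_mem _ x⟩
  | add x y _ _ hx hy =>
    obtain ⟨T, hT, hx⟩ := hx
    obtain ⟨T', hT', hy⟩ := hy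
    exact ⟨T ∪ T', by simp [hT, hT'], add_mem (mono Finset.subset_union_left hx) (mono Finset.subset_union_right hy)⟩
  | inv x _ hx =>
    obtain ⟨T, hT, hx⟩ := hx
    exact ⟨T, hT, inv_mem hx⟩
  | mul x y _ _ hx hy =>
    obtain ⟨T, hT, hx⟩ := hx
    obtain ⟨T', hT', hy⟩ := hy
    exact ⟨T ∪ T', by simp [hT, hT'], mul_mem (mono Finset.subset_union_left hx) (mono Finset.subset_union_right hy)⟩

/-- Elements of the field generated by an algebra over a domain are fractions. -/
theorem exists_div_eq_of_mem_adjoin {A K E : Type u} [CommRing A] [Field K] [Field E] [Algebra A K]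
    [IsFractionRing A K] [Algebra K E] [Algebra A E] [IsScalarTower A K E] (X : Set E) {z : E}
    (hz : z ∈ IntermediateField.adjoin K X) :
    ∃ a ∈ Algebra.adjoin A X, ∃ b ∈ Algebra.adjoin A X, b ≠ 0 ∧ z = a / b := by
  induction hz using IntermediateField.adjoin_induction with
  | mem x hx => exact ⟨x, Algebra.subset_adjoin hx, 1, one_mem _, one_ne_zero, (div_one x).symm⟩
  | algebraMap k =>
    obtain ⟨⟨a, b⟩, hab⟩ := IsLocalization.surj (nonZeroDivisors A) k
    have hb : algebraMap A K b.1 ≠ 0 := (IsLocalization.map_units K b).ne_zero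
    refine ⟨algebraMap A E a, Subalgebra.algebraMap_mem _ a, algebraMap A E b.1, Subalgebra.algebraMap_mem _ _, ?_, ?_⟩
    · rw [IsScalarTower.algebraMap_apply A K E]
      exact (map_ne_zero _).mpr hb
    · rw [IsScalarTower.algebraMap_apply A K E a, IsScalarTower.algebraMap_apply A K E b.1, ← map_div₀,
        ← hab, mul_div_cancel_right₀ _ hb]
  | add x y _ _ hx hy =>
    obtain ⟨a, ha, b, hb, hb0, rfl⟩ := hx
    obtain ⟨c, hc, d, hd, hd0, rfl⟩ := hy
    exact ⟨a * d + b * c, add_mem (mul_mem ha hd) (mul_mem hb hc), b * d, mul_mem hb hd,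
      mul_ne_zero hb0 hd0, div_add_div a c hb0 hd0⟩
  | inv x _ hx =>
    obtain ⟨a, ha, b, hb, hb0, rfl⟩ := hx
    by_cases ha0 : a = 0
    · subst ha0; exact ⟨0, zero_mem _, 1, one_mem _, one_ne_zero, by simp⟩
    · exact ⟨b, hb, a, ha, ha0, inv_div a b⟩
  | mul x y _ _ hx hy =>
    obtain ⟨a, ha, b, hb, hb0, rfl⟩ := hx
    obtain ⟨c, hc, d, hd, hd0, rfl⟩ := hy
    exact ⟨a * c, mul_mem ha hc, b * d, mul_mem hb hd, mul_ne_zero hb0 hd0, div_mul_div_comm a b c d⟩

set_option maxHeartbeats 2000000 in
/-- EGA IV 6.12.4 (descent along a finite field extension): to prove `C` one may replace a finite type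
domain `B` over `A` by a generically smooth finite type domain `B'` over a finite domain `R'` over `A`. -/
theorem finiteType_alteration {C : Prop} (A B : Type u) [CommRing A] [CommRing B] [IsDomain A] [IsDomain B]
    [IsNoetherianRing A] [Algebra A B] [FaithfulSMul A B] [Algebra.FiniteType A B]
    (k : ∀ (R' B' : Type u) [CommRing R'] [CommRing B'] [IsDomain R'] [IsDomain B'] [IsNoetherianRing R']
      [Algebra A R'] [FaithfulSMul A R'] [Algebra R' B'] [FaithfulSMul R' B'] [Algebra.FiniteType R' B']
      [Algebra B B'] [FaithfulSMul B B'] [Algebra.FiniteType B B']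
      (K' L : Type u) [Field K'] [Field L] [Algebra R' K'] [IsFractionRing R' K'] [Algebra B' L]
      [IsFractionRing B' L] [Algebra K' L] [Algebra R' L] [IsScalarTower R' K' L] [IsScalarTower R' B' L]
      [Algebra.FormallySmooth K' L], Module.Finite A R' → C) :
    C := by
  classical
  let K := FractionRing A
  let L := FractionRing B
  letI : Algebra K L := FractionRing.liftAlgebra A L
  let Ω := AlgebraicClosure L
  let P := algebraicClosure K Ω
  have : IsAlgClosed P := (algebraicClosure.isAlgClosure (F := K) (E := Ω)).isAlgClosed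
  have hinjΩ : Function.Injective (algebraMap B Ω) := by
    rw [IsScalarTower.algebraMap_eq B L Ω]
    exact (algebraMap L Ω).injective.comp (IsFractionRing.injective B L)
  obtain ⟨G, hG⟩ := Algebra.FiniteType.out (R := A) (A := B)
  let X : Set Ω := algebraMap B Ω '' (G : Set B)
  have hXfin : X.Finite := G.finite_toSet.image _
  let LP := IntermediateField.adjoin P X
  have : Algebra.EssFiniteType P LP :=
    IntermediateField.essFiniteType_iff.mpr (IntermediateField.fg_adjoin_of_finite hXfin)
  obtain ⟨s, hs, hsep⟩ := exists_isTranscendenceBasis_and_isSeparable_of_perfectField P LP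
  let S : Set Ω := LP.val '' (s : Set LP)
  have hres : LP.restrictScalars K = IntermediateField.adjoin K ((P : Set Ω) ∪ X) :=
    IntermediateField.restrictScalars_adjoin K P X
  have hsT : ∀ y : LP, ∃ T : Finset Ω, (T : Set Ω) ⊆ P ∧
      (y : Ω) ∈ IntermediateField.adjoin K ((T : Set Ω) ∪ X) := fun y =>
    exists_finset_mem_adjoin_union (P : Set Ω) X (hres ▸ (IntermediateField.mem_restrictScalars K).mpr y.2)
  have hxq : ∀ x ∈ X, ∃ q : Polynomial Ω, q.Monic ∧ q.Separable ∧ q.IsRoot x ∧
      ∀ i, q.coeff i ∈ IntermediateField.adjoin P S := by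
    intro x hx
    let x' : LP := ⟨x, IntermediateField.subset_adjoin _ _ hx⟩
    let F := IntermediateField.adjoin P (s : Set LP)
    refine ⟨(minpoly F x').map (LP.val.toRingHom.comp (algebraMap F LP)),
      (minpoly.monic (Algebra.IsSeparable.isSeparable F x').isIntegral).map _, Polynomial.Separable.map (Algebra.IsSeparable.isSeparable F x' :), ?_, fun i => ?_⟩
    · show Polynomial.eval (LP.val.toRingHom x') _ = 0
      rw [Polynomial.eval_map, ← Polynomial.hom_eval₂, ← Polynomial.aeval_def, minpoly.aeval, map_zero]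
    · rw [Polynomial.coeff_map]
      have h1 : (F.map LP.val) = IntermediateField.adjoin P S := IntermediateField.adjoin_map P _ LP.val
      rw [← h1]
      exact ⟨_, ((minpoly F x').coeff i).2, rfl⟩
  choose! q hqm hqs hqr hqc using hxq
  have hcoef : ∀ x ∈ X, ∀ i, ∃ T : Finset Ω, (T : Set Ω) ⊆ P ∧
      (q x).coeff i ∈ IntermediateField.adjoin K ((T : Set Ω) ∪ S) := fun x hx i =>
    exists_finset_mem_adjoin_union (P : Set Ω) S (IntermediateField.restrictScalars_adjoin K P S ▸
      (IntermediateField.mem_restrictScalars K).mpr (hqc x hx i))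
  choose T1 hT1P hT1 using hsT
  choose! T2 hT2P hT2 using hcoef
  let T : Finset Ω := s.biUnion T1 ∪ hXfin.toFinset.biUnion fun x => (q x).support.biUnion (T2 x)
  have hTP : ∀ t ∈ T, t ∈ P := by
    intro t ht
    simp only [T, Finset.mem_union, Finset.mem_biUnion, Set.Finite.mem_toFinset] at ht
    rcases ht with ⟨y, -, hy⟩ | ⟨x, hx, i, -, hy⟩
    · exact hT1P y hy
    · exact hT2P x hx i hy
  have hint : ∀ t ∈ T, ∃ r : A, r ≠ 0 ∧ IsIntegral A (r • t) := fun t ht =>
    ((IsFractionRing.isAlgebraic_iff A K Ω).mpr (mem_algebraicClosure_iff.mp (hTP t ht))).exists_integral_multiple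
  choose! r hr0 hrint using hint
  let T' : Set Ω := (fun t => r t • t) '' (T : Set Ω)
  have hT'fin : T'.Finite := T.finite_toSet.image _
  let R' := Algebra.adjoin A T'
  let K' := IntermediateField.adjoin K T'
  have hT'P : T' ⊆ P := by
    rintro _ ⟨t, ht, rfl⟩
    show r t • t ∈ P
    rw [← algebraMap_smul K (r t) t, Algebra.smul_def]
    exact mul_mem (IntermediateField.algebraMap_mem _ _) (hTP t ht)
  have hTK' : (T : Set Ω) ⊆ K' := by
    intro t ht
    have h1 : r t • t ∈ K' := IntermediateField.subset_adjoin _ _ ⟨t, ht, rfl⟩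
    rw [← algebraMap_smul K (r t) t, Algebra.smul_def] at h1
    have h2 : algebraMap K Ω (algebraMap A K (r t)) ≠ 0 := (map_ne_zero _).mpr
      ((map_ne_zero_iff _ (IsFractionRing.injective A K)).mpr (hr0 t ht))
    rw [SetLike.mem_coe, ← inv_mul_cancel_left₀ h2 t]
    exact mul_mem (inv_mem (IntermediateField.algebraMap_mem _ _)) h1
  let v : s → Ω := fun y => LP.val y.1
  have hrange : Set.range v = S := by
    ext w
    constructor
    · rintro ⟨y, rfl⟩; exact ⟨y.1, y.2, rfl⟩
    · rintro ⟨y, hy, rfl⟩; exact ⟨⟨y, hy⟩, rfl⟩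
  have hv : AlgebraicIndependent K' v := by
    let ι : K' →ₐ[K] P := IntermediateField.inclusion (IntermediateField.adjoin_le_iff.mpr hT'P)
    letI := ι.toRingHom.toAlgebra
    have : IsScalarTower K' P Ω := IsScalarTower.of_algebraMap_eq fun _ => rfl
    exact (hs.1.map' (f := LP.val) Subtype.val_injective).restrictScalars (ι.toRingHom.injective)
  let F := IntermediateField.adjoin K' (Set.range v)
  have : Algebra.FormallySmooth K' F := Algebra.FormallySmooth.adjoin_of_algebraicIndependent hv
  let L2 := IntermediateField.adjoin F X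
  have : IsScalarTower K F Ω := IsScalarTower.of_algebraMap_eq fun _ => rfl
  have : Algebra.IsSeparable F L2 := by
    refine (IntermediateField.isSeparable_adjoin_iff_isSeparable (F := F) (E := Ω)).mpr fun x hx => ?_
    have hF : ∀ i, (q x).coeff i ∈ F := by
      intro i
      by_cases hi : i ∈ (q x).support
      · have hle : IntermediateField.adjoin K ((T2 x i : Set Ω) ∪ S) ≤ F.restrictScalars K := by
          rw [IntermediateField.adjoin_le_iff]
          refine Set.union_subset (fun t ht => ?_) fun y hy => IntermediateField.subset_adjoin _ _ (hrange ▸ hy)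
          have htT : t ∈ T := Finset.mem_union_right _ (Finset.mem_biUnion.mpr
            ⟨x, hXfin.mem_toFinset.mpr hx, Finset.mem_biUnion.mpr ⟨i, hi, ht⟩⟩)
          exact IntermediateField.algebraMap_mem F (⟨t, hTK' htT⟩ : K')
        exact hle (hT2 x hx i)
      · rw [Polynomial.notMem_support_iff.mp hi]
        exact zero_mem F
    obtain ⟨q', hq'⟩ := (Polynomial.mem_lifts _).mp ((Polynomial.lifts_iff_coeff_lifts _).mpr
      fun i => (⟨⟨_, hF i⟩, rfl⟩ : (q x).coeff i ∈ Set.range (algebraMap F Ω)))
    have hsq : q'.Separable := (Polynomial.separable_map (algebraMap F Ω)).mp (hq'.symm ▸ hqs x hx)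
    have hroot : Polynomial.aeval x q' = 0 := by
      rw [Polynomial.aeval_def, ← Polynomial.eval_map, hq']
      exact hqr x hx
    exact hsq.of_dvd (minpoly.dvd F x hroot)
  have : Algebra.FormallyEtale F L2 := Algebra.FormallyEtale.of_isSeparable _ _
  have hsm : Algebra.FormallySmooth K' L2 := .comp K' F L2
  let B' := Algebra.adjoin A (T' ∪ X)
  have hle : R' ≤ B' := Algebra.adjoin_mono Set.subset_union_left
  letI : Algebra R' B' := (Subalgebra.inclusion hle).toRingHom.toAlgebra
  have hBle : ∀ b, algebraMap B Ω b ∈ B' := by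
    intro b
    have hb : b ∈ Algebra.adjoin A (G : Set B) := hG ▸ trivial
    have h1 : algebraMap B Ω b ∈ (Algebra.adjoin A (G : Set B)).map (IsScalarTower.toAlgHom A B Ω) := ⟨b, hb, rfl⟩
    rw [AlgHom.map_adjoin] at h1
    exact Algebra.adjoin_mono Set.subset_union_right h1
  letI : Algebra B B' := ((algebraMap B Ω).codRestrict B' hBle).toAlgebra
  have : IsScalarTower A B B' := IsScalarTower.of_algebraMap_eq fun a =>
    Subtype.ext (IsScalarTower.algebraMap_apply A B Ω a)
  have : IsScalarTower A R' B' := IsScalarTower.of_algebraMap_eq fun _ => rfl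
  have hBft : Algebra.FiniteType A B' :=
    (Subalgebra.fg_iff_finiteType B').mp (Subalgebra.fg_def.mpr ⟨_, hT'fin.union hXfin, rfl⟩)
  have : Algebra.FiniteType R' B' := Algebra.FiniteType.of_restrictScalars_finiteType A R' B'
  have : Algebra.FiniteType B B' := Algebra.FiniteType.of_restrictScalars_finiteType A B B'
  have : IsNoetherianRing B := Algebra.FiniteType.isNoetherianRing A B
  have hinjA : Function.Injective (algebraMap A Ω) := by
    rw [IsScalarTower.algebraMap_eq A B Ω]
    exact hinjΩ.comp (FaithfulSMul.algebraMap_injective A B)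
  have : FaithfulSMul A R' := (faithfulSMul_iff_algebraMap_injective _ _).mpr fun a b h =>
    hinjA (congrArg Subtype.val h)
  have hR'fin : Module.Finite A R' := Module.Finite.iff_fg.mpr
    (fg_adjoin_of_finite hT'fin (by rintro _ ⟨t, ht, rfl⟩; exact hrint t ht))
  have : IsNoetherianRing R' := isNoetherianRing_of_fg (Subalgebra.fg_def.mpr ⟨_, hT'fin, rfl⟩)
  have : FaithfulSMul R' B' := (faithfulSMul_iff_algebraMap_injective _ _).mpr fun a b h =>
    Subtype.ext (congrArg Subtype.val h :)
  have hR'K' : R' ≤ K'.toSubalgebra.restrictScalars A :=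
    Algebra.adjoin_le fun t ht => IntermediateField.subset_adjoin _ _ ht
  have hK'L2 : ∀ z ∈ K', z ∈ L2 := fun z hz =>
    IntermediateField.algebraMap_mem L2 (⟨z, IntermediateField.algebraMap_mem F (⟨z, hz⟩ : K')⟩ : F)
  have hB'L2 : B' ≤ (L2.restrictScalars K).toSubalgebra.restrictScalars A :=
    Algebra.adjoin_le (Set.union_subset (fun t ht => hK'L2 t (IntermediateField.subset_adjoin _ _ ht))
      fun x hx => IntermediateField.subset_adjoin F X hx)
  letI : Algebra R' K' := ((algebraMap R' Ω).codRestrict K'.toSubalgebra fun x => hR'K' x.2).toAlgebra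
  letI : Algebra B' L2 := ((algebraMap B' Ω).codRestrict L2.toSubalgebra fun x => hB'L2 x.2).toAlgebra
  letI : Algebra R' L2 := ((algebraMap B' L2).comp (algebraMap R' B')).toAlgebra
  have : IsScalarTower R' B' L2 := IsScalarTower.of_algebraMap_eq fun _ => rfl
  have : IsScalarTower R' K' L2 := IsScalarTower.of_algebraMap_eq fun _ => rfl
  have : FaithfulSMul R' K' := (faithfulSMul_iff_algebraMap_injective _ _).mpr fun a b h =>
    Subtype.ext (congrArg Subtype.val h :)
  have : FaithfulSMul B' L2 := (faithfulSMul_iff_algebraMap_injective _ _).mpr fun a b h =>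
    Subtype.ext (congrArg Subtype.val h :)
  have : IsFractionRing R' K' := IsFractionRing.of_field _ _ fun z => by
    obtain ⟨a, ha, b, hb, -, hz⟩ := exists_div_eq_of_mem_adjoin (A := A) T' z.2
    exact ⟨⟨a, ha⟩, ⟨b, hb⟩, Subtype.ext hz⟩
  have : IsFractionRing B' L2 := IsFractionRing.of_field _ _ fun z => by
    have hL2 : L2.restrictScalars K ≤ IntermediateField.adjoin K (T' ∪ X) := by
      let M := IntermediateField.adjoin K (T' ∪ X)
      have hKM : K' ≤ M := IntermediateField.adjoin.mono K _ _ Set.subset_union_left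
      have hTX : ∀ y ∈ s, LP.val y ∈ M := fun y hy => by
        refine (IntermediateField.adjoin_le_iff.mpr ?_) (hT1 y)
        refine Set.union_subset (fun t ht => hKM (hTK' ?_)) fun x hx => IntermediateField.subset_adjoin _ _ (Or.inr hx)
        exact Finset.mem_union_left _ (Finset.mem_biUnion.mpr ⟨y, hy, ht⟩)
      have hF : ∀ w ∈ F, w ∈ M := by
        intro w hw
        induction hw using IntermediateField.adjoin_induction with
        | mem u hu => obtain ⟨⟨y, hy⟩, rfl⟩ := hu; exact hTX y hy
        | algebraMap k => exact hKM k.2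
        | add u u' _ _ h h' => exact add_mem h h'
        | inv u _ h => exact inv_mem h
        | mul u u' _ _ h h' => exact mul_mem h h'
      intro w hw
      replace hw : w ∈ L2 := hw
      induction hw using IntermediateField.adjoin_induction with
      | mem u hu => exact IntermediateField.subset_adjoin _ _ (Or.inr hu)
      | algebraMap k => exact hF k.1 k.2
      | add u u' _ _ h h' => exact add_mem h h'
      | inv u _ h => exact inv_mem h
      | mul u u' _ _ h h' => exact mul_mem h h'
    obtain ⟨a, ha, b, hb, -, hz⟩ := exists_div_eq_of_mem_adjoin (A := A) _ (hL2 z.2)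
    exact ⟨⟨a, ha⟩, ⟨b, hb⟩, Subtype.ext hz⟩
  have : FaithfulSMul B B' := (faithfulSMul_iff_algebraMap_injective _ _).mpr fun a b h =>
    hinjΩ (congrArg Subtype.val h :)
  exact k R' B' K' L2 hR'fin

theorem isJ0_of_finiteType (A B : Type u) [CommRing A] [CommRing B] [IsDomain A] [IsDomain B]
    [IsNoetherianRing A] [Algebra A B] [FaithfulSMul A B] [Algebra.FiniteType A B]
    (H : ∀ (A' : Type u) [CommRing A'] [IsDomain A'] [Algebra A A'] [FaithfulSMul A A'],
      Module.Finite A A' → IsJ0 A') :
    IsJ0 B := by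
  have : IsNoetherianRing B := Algebra.FiniteType.isNoetherianRing A B
  exact finiteType_alteration A B fun R' B' _ _ _ _ _ _ _ _ _ _ _ _ _ K' L _ _ _ _ _ _ _ _ _ _ _ hfin =>
    S9255.result B B' (FaithfulSMul.algebraMap_injective B B') (isJ0_of_formallySmooth R' B' K' L (H R' hfin))

theorem exists_quotient_ker {A B : Type u} [CommRing A] [CommRing B] [IsDomain B] [Algebra A B] :
    ∃ (I : Ideal A) (_ : I.IsPrime) (_ : Algebra (A ⧸ I) B), IsScalarTower A (A ⧸ I) B ∧ FaithfulSMul (A ⧸ I) B := by
  refine ⟨RingHom.ker (algebraMap A B), RingHom.ker_isPrime _, (RingHom.kerLift (algebraMap A B)).toAlgebra, ?_, ?_⟩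
  · exact @IsScalarTower.of_algebraMap_eq _ _ _ _ _ _ _ (RingHom.kerLift (algebraMap A B)).toAlgebra _ fun a => rfl
  · exact (@faithfulSMul_iff_algebraMap_injective _ _ _ _ (RingHom.kerLift (algebraMap A B)).toAlgebra).mpr
      (RingHom.kerLift_injective _)

/-- EGA IV 6.12.4: the criterion for J-2. -/
theorem isJ2_of_finite_domains (A : Type u) [CommRing A] [IsNoetherianRing A]
    (H : ∀ (A' : Type u) [CommRing A'] [IsDomain A'] [Algebra A A'], Module.Finite A A' → IsJ0 A') :
    EGA4.IsJ2 A := by
  intro S _ _ hS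
  have : IsNoetherianRing S := Algebra.FiniteType.isNoetherianRing A S
  refine isOpen_regLocus_of_quotients fun p _ => ?_
  obtain ⟨I, hI, alg, tower, hf⟩ := exists_quotient_ker (A := A) (B := S ⧸ p.asIdeal)
  have : Algebra.FiniteType A (S ⧸ p.asIdeal) :=
    Algebra.FiniteType.of_surjective (Ideal.Quotient.mkₐ A p.asIdeal) Ideal.Quotient.mk_surjective
  have : Algebra.FiniteType (A ⧸ I) (S ⧸ p.asIdeal) :=
    Algebra.FiniteType.of_restrictScalars_finiteType A (A ⧸ I) _
  refine isJ0_of_finiteType (A ⧸ I) (S ⧸ p.asIdeal) fun A' _ _ _ _ hfin => ?_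
  letI : Algebra A A' := ((algebraMap (A ⧸ I) A').comp (algebraMap A (A ⧸ I))).toAlgebra
  have : IsScalarTower A (A ⧸ I) A' := IsScalarTower.of_algebraMap_eq fun _ => rfl
  exact H A' (Module.Finite.trans (A ⧸ I) A')

end Groth.Agent.H05EGA4
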