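import Mathlib
import Groth.Prelude.Def_EGA4b

/-!
# Normal rings: directed unions and integrally closed subrings (helper5)
-/

set_option autoImplicit false
set_option linter.style.haveILetI false
set_option linter.unusedSectionVars false
set_option linter.deprecated false
universe u
open Polynomial

namespace Groth.Agent.H05EGA4

/-- Orthogonal elements are separated by idempotents. -/
def HasSplittingIdempotents (S : Type u) [CommRing S] : Prop :=
  ∀ a b : S, a * b = 0 → ∃ e : S, e * e = e ∧ e * a = a ∧ e * b = 0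

theorem isReduced_of_isNormalRing {S : Type u} [CommRing S] (h : EGA4.IsNormalRing S) : IsReduced S := by
  refine ⟨fun x hx => ?_⟩
  by_contra hx0
  let I : Ideal S := (Submodule.span S {x}).annihilator
  have hI : I ≠ ⊤ := fun hI => hx0 (by
    have h1 : (1 : S) • x = 0 := (Submodule.mem_annihilator_span_singleton x 1).mp (show (1 : S) ∈ I by rw [hI]; trivial)
    rwa [one_smul] at h1)
  obtain ⟨p, hp, hle⟩ := Ideal.exists_le_maximal I hI
  haveI := hp.isPrime
  haveI := (h p).1
  obtain ⟨t, ht⟩ := (IsLocalization.map_eq_zero_iff p.primeCompl (Localization.AtPrime p) x).mp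
    (hx.map (algebraMap S (Localization.AtPrime p))).eq_zero
  exact t.2 (hle ((Submodule.mem_annihilator_span_singleton x _).mpr ht))

theorem hasSplittingIdempotents_of_finite_minimalPrimes {S : Type u} [CommRing S] (hfin : (minimalPrimes S).Finite)
    (h : EGA4.IsNormalRing S) : HasSplittingIdempotents S := by
  classical
  intro a b hab
  haveI := isReduced_of_isNormalRing h
  let Ps := hfin.toFinset
  haveI : ∀ P : Ps, (P : Ideal S).IsPrime := fun P =>
    Ideal.minimalPrimes_isPrime ((Set.Finite.mem_toFinset _).mp P.2)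
  have hmin : ∀ P : Ps, (P : Ideal S) ∈ minimalPrimes S := fun P => (Set.Finite.mem_toFinset _).mp P.2
  have hco : Pairwise fun P Q : Ps => IsCoprime (P : Ideal S) (Q : Ideal S) := by
    intro P Q hPQ
    rw [Ideal.isCoprime_iff_sup_eq]
    by_contra htop
    obtain ⟨m, hm, hle⟩ := Ideal.exists_le_maximal _ htop
    haveI := hm.isPrime
    haveI := (h m).1
    have hz : ∀ (P : Ps), (P : Ideal S) ≤ m →
        (P : Ideal S) = RingHom.ker (algebraMap S (Localization.AtPrime m)) := by
      intro P hPm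
      have hk : RingHom.ker (algebraMap S (Localization.AtPrime m)) ≤ (P : Ideal S) := fun z hz => by
        obtain ⟨t, ht⟩ := (IsLocalization.map_eq_zero_iff m.primeCompl _ z).mp hz
        exact (Ideal.IsPrime.mem_or_mem inferInstance (ht ▸ zero_mem _)).resolve_left fun hh => t.2 (hPm hh)
      exact le_antisymm ((hmin P).2 ⟨RingHom.ker_isPrime _, bot_le⟩ hk) hk
    exact hPQ (Subtype.ext ((hz P (le_sup_left.trans hle)).trans (hz Q (le_sup_right.trans hle)).symm))
  obtain ⟨e, he⟩ := Ideal.exists_forall_sub_mem_ideal hco (fun P : Ps => if a ∈ (P : Ideal S) then (0 : S) else 1)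
  have key : ∀ z : S, (∀ P : Ps, z ∈ (P : Ideal S)) → z = 0 := fun z hz => by
    have : z ∈ nilradical S := by
      rw [nilradical, ← Ideal.sInf_minimalPrimes]
      exact Submodule.mem_sInf.mpr fun P hP => hz ⟨P, (Set.Finite.mem_toFinset _).mpr hP⟩
    rwa [nilradical_eq_zero] at this
  refine ⟨e, sub_eq_zero.mp (key _ fun P => ?_), sub_eq_zero.mp (key _ fun P => ?_), key _ fun P => ?_⟩
  · have hP := he P
    by_cases ha : a ∈ (P : Ideal S)
    · rw [if_pos ha, sub_zero] at hP
      rw [show e * e - e = e * (e - 1) by ring]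
      exact Ideal.mul_mem_right _ _ hP
    · rw [if_neg ha] at hP
      rw [show e * e - e = e * (e - 1) by ring]
      exact Ideal.mul_mem_left _ _ hP
  · have hP := he P
    by_cases ha : a ∈ (P : Ideal S)
    · rw [show e * a - a = (e - 1) * a by ring]
      exact Ideal.mul_mem_left _ _ ha
    · rw [if_neg ha] at hP
      rw [show e * a - a = (e - 1) * a by ring]
      exact Ideal.mul_mem_right _ _ hP
  · have hP := he P
    by_cases ha : a ∈ (P : Ideal S)
    · rw [if_pos ha, sub_zero] at hP
      exact Ideal.mul_mem_right _ _ hP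
    · exact Ideal.mul_mem_left _ _ ((Ideal.IsPrime.mem_or_mem inferInstance (hab ▸ zero_mem _)).resolve_left ha)

theorem hasSplittingIdempotents_of_isNoetherianRing {S : Type u} [CommRing S] [IsNoetherianRing S]
    (h : EGA4.IsNormalRing S) : HasSplittingIdempotents S :=
  hasSplittingIdempotents_of_finite_minimalPrimes (minimalPrimes.finite_of_isNoetherianRing S) h

/-- Every finite set of elements lies in the image of a ring with a given property. -/
def IsCoveredBy (prop : ∀ (S0 : Type u) [CommRing S0], Prop) (S : Type u) [CommRing S] : Prop :=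
  ∀ F : Finset S, ∃ (S0 : Type u) (_ : CommRing S0) (φ : S0 →+* S),
    Function.Injective φ ∧ prop S0 ∧ (F : Set S) ⊆ Set.range φ

theorem hasSplittingIdempotents_of_cover {S : Type u} [CommRing S]
    (h : IsCoveredBy (fun S0 _ => HasSplittingIdempotents S0) S) : HasSplittingIdempotents S := by
  classical
  intro a b hab
  obtain ⟨S0, _, φ, hφ, hs, hF⟩ := h {a, b}
  obtain ⟨a0, rfl⟩ := hF (by simp : a ∈ _)
  obtain ⟨b0, rfl⟩ := hF (by simp : b ∈ _)
  obtain ⟨e, he, hea, heb⟩ := hs a0 b0 (hφ (by rw [map_mul, hab, map_zero]))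
  exact ⟨φ e, by rw [← map_mul, he], by rw [← map_mul, hea], by rw [← map_mul, heb, map_zero]⟩

/-- A ring covered by normal subrings is normal. -/
theorem isNormalRing_of_cover {S : Type u} [CommRing S] (h : IsCoveredBy (fun S0 _ => EGA4.IsNormalRing S0) S) :
    EGA4.IsNormalRing S := by
  classical
  intro Q _
  let T := Localization.AtPrime Q
  haveI : NoZeroDivisors T := ⟨fun {x y} hxy => by
    obtain ⟨a, s, rfl⟩ := IsLocalization.exists_mk'_eq Q.primeCompl x
    obtain ⟨b, t, rfl⟩ := IsLocalization.exists_mk'_eq Q.primeCompl y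
    rw [← IsLocalization.mk'_mul, IsLocalization.mk'_eq_zero_iff] at hxy
    obtain ⟨u, hu⟩ := hxy
    obtain ⟨S0, _, φ, hφ, hn, hF⟩ := h {a, b, (u : S)}
    obtain ⟨a0, rfl⟩ := hF (by simp : a ∈ _)
    obtain ⟨b0, rfl⟩ := hF (by simp : b ∈ _)
    obtain ⟨u0, hu0⟩ := hF (by simp : (u : S) ∈ _)
    let Q0 := Q.comap φ
    haveI := (hn Q0).1
    have hu0' : u0 ∉ Q0 := fun hm => u.2 (show (u : S) ∈ Q by rw [← hu0]; exact hm)
    have h0 : algebraMap S0 (Localization.AtPrime Q0) (a0 * b0) = 0 :=
      (IsLocalization.map_eq_zero_iff Q0.primeCompl _ _).mpr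
        ⟨⟨u0, hu0'⟩, hφ (by rw [map_mul, map_mul, map_zero, hu0]; exact hu)⟩
    rw [map_mul, mul_eq_zero] at h0
    rcases h0 with h0 | h0
    · obtain ⟨w, hw⟩ := (IsLocalization.map_eq_zero_iff Q0.primeCompl _ _).mp h0
      exact Or.inl ((IsLocalization.mk'_eq_zero_iff _ _).mpr ⟨⟨φ w, w.2⟩, show φ w * φ a0 = 0 by rw [← map_mul, hw, map_zero]⟩)
    · obtain ⟨w, hw⟩ := (IsLocalization.map_eq_zero_iff Q0.primeCompl _ _).mp h0
      exact Or.inr ((IsLocalization.mk'_eq_zero_iff _ _).mpr ⟨⟨φ w, w.2⟩, show φ w * φ b0 = 0 by rw [← map_mul, hw, map_zero]⟩)⟩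
  haveI : IsDomain T := NoZeroDivisors.to_isDomain T
  refine ⟨inferInstance, ?_⟩
  let K := FractionRing T
  rw [isIntegrallyClosed_iff K]
  intro z hz
  obtain ⟨c, hc⟩ := IsIntegral.exists_multiple_integral_of_isLocalization Q.primeCompl z hz
  obtain ⟨f, hf, hfz⟩ := hc
  obtain ⟨α, β, hβ, hαβ⟩ := IsFractionRing.div_surjective (A := T) (c • z)
  obtain ⟨a', s, rfl⟩ := IsLocalization.exists_mk'_eq Q.primeCompl α
  obtain ⟨b', t, rfl⟩ := IsLocalization.exists_mk'_eq Q.primeCompl β
  let a := a' * t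
  let b := b' * s
  have hb : algebraMap S K b ≠ 0 := by
    rw [IsScalarTower.algebraMap_apply S T K, map_ne_zero_iff _ (IsFractionRing.injective T K), map_mul]
    refine mul_ne_zero (fun h0 => nonZeroDivisors.ne_zero hβ ?_) (IsLocalization.map_units T s).ne_zero
    rw [← (IsLocalization.map_units T t).mul_left_inj, IsLocalization.mk'_spec, h0, zero_mul]
  have hu : ∀ u : Q.primeCompl, algebraMap S K u ≠ 0 := fun u => by
    rw [IsScalarTower.algebraMap_apply S T K, map_ne_zero_iff _ (IsFractionRing.injective T K)]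
    exact (IsLocalization.map_units T u).ne_zero
  have hzab : algebraMap S K b * (c • z) = algebraMap S K a := by
    have hm : ∀ (r : S) (w : Q.primeCompl), algebraMap T K (IsLocalization.mk' T r w) * algebraMap S K w = algebraMap S K r :=
      fun r w => by rw [IsScalarTower.algebraMap_apply S T K w, ← map_mul, IsLocalization.mk'_spec, ← IsScalarTower.algebraMap_apply]
    have hβ0 : algebraMap T K (IsLocalization.mk' T b' t) ≠ 0 := IsFractionRing.to_map_ne_zero_of_mem_nonZeroDivisors hβ
    rw [← hαβ, map_mul, map_mul, ← hm a' s, ← hm b' t]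
    linear_combination (algebraMap S K (s : S) * algebraMap S K (t : S)) *
      (div_mul_cancel₀ (algebraMap T K (IsLocalization.mk' T a' s)) hβ0)
  have hhom : algebraMap S K ((f.scaleRoots b).eval a) = 0 := by
    have := scaleRoots_eval₂_eq_zero (algebraMap S K) (s := b) hfz
    rwa [hzab, eval₂_hom] at this
  rw [IsScalarTower.algebraMap_apply S T K, map_eq_zero_iff _ (IsFractionRing.injective T K),
    IsLocalization.map_eq_zero_iff Q.primeCompl] at hhom
  obtain ⟨u, hu0⟩ := hhom
  obtain ⟨S0, _, φ, hφ, hn, hF⟩ := h ({a, b, (u : S)} ∪ f.coeffs)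
  obtain ⟨a0, ha0⟩ := hF (by simp : a ∈ _)
  obtain ⟨b0, hb0⟩ := hF (by simp : b ∈ _)
  obtain ⟨u0, hu0'⟩ := hF (by simp : (u : S) ∈ _)
  haveI : Nontrivial S := by
    rcases subsingleton_or_nontrivial S with hS | hS
    · exact absurd (by rw [Subsingleton.elim b 0, map_zero]) hb
    · exact hS
  obtain ⟨f0, hf0, -, hf0m⟩ := Polynomial.lifts_and_degree_eq_and_monic (f := φ) (p := f) ((Polynomial.lifts_iff_coeff_lifts f).mpr fun n => by
    by_cases hn0 : f.coeff n = 0
    · exact ⟨0, by rw [map_zero, hn0]⟩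
    · exact hF (by simp [Polynomial.mem_coeffs_iff]; first | exact Or.inr (Or.inr ⟨n, hn0, rfl⟩) | exact Or.inr (Or.inr (Or.inr ⟨n, hn0, rfl⟩)) | exact Or.inr ⟨n, hn0, rfl⟩)) hf
  let Q0 := Q.comap φ
  haveI := (hn Q0).1
  haveI := (hn Q0).2
  let T0 := Localization.AtPrime Q0
  let K0 := FractionRing T0
  have hbK : algebraMap S0 K0 b0 ≠ 0 := by
    rw [IsScalarTower.algebraMap_apply S0 T0 K0, map_ne_zero_iff _ (IsFractionRing.injective T0 K0)]
    intro h0
    obtain ⟨w, hw⟩ := (IsLocalization.map_eq_zero_iff Q0.primeCompl _ _).mp h0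
    refine hb ?_
    rw [IsScalarTower.algebraMap_apply S T K, (IsLocalization.map_eq_zero_iff Q.primeCompl T b).mpr
      ⟨⟨φ w, w.2⟩, show φ w * b = 0 by rw [← hb0, ← map_mul, hw, map_zero]⟩, map_zero]
  let z0 : K0 := algebraMap S0 K0 a0 / algebraMap S0 K0 b0
  have hz0 : IsIntegral S0 z0 := by
    refine ⟨f0, hf0m, ?_⟩
    have h1 : algebraMap S0 T0 ((f0.scaleRoots b0).eval a0) = 0 := by
      refine (IsLocalization.map_eq_zero_iff Q0.primeCompl _ _).mpr ⟨⟨u0, fun hm => u.2 (show (u : S) ∈ Q by rw [← hu0']; exact hm)⟩, hφ ?_⟩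
      rcases subsingleton_or_nontrivial S with hS | hS
      · exact Subsingleton.elim _ _
      rw [map_mul, map_zero, hu0', ← eval_map_apply, map_scaleRoots _ _ _ (by rw [hf0m.leadingCoeff, map_one]; exact one_ne_zero),
        hf0, ha0, hb0]
      exact hu0
    have h2 : eval₂ (algebraMap S0 K0) (algebraMap S0 K0 b0 * z0) (f0.scaleRoots b0) = 0 := by
      rw [mul_div_cancel₀ _ hbK, eval₂_hom, IsScalarTower.algebraMap_apply S0 T0 K0, h1, map_zero]
    rw [scaleRoots_eval₂_mul] at h2
    exact (mul_eq_zero.mp h2).resolve_left (pow_ne_zero _ hbK)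
  obtain ⟨w, hw⟩ := IsIntegrallyClosed.isIntegral_iff.mp (hz0.tower_top (A := T0))
  obtain ⟨w1, v, rfl⟩ := IsLocalization.exists_mk'_eq Q0.primeCompl w
  have h3 : algebraMap S0 K0 (a0 * v) = algebraMap S0 K0 (w1 * b0) := by
    have h4 : algebraMap T0 K0 (IsLocalization.mk' T0 w1 v) * algebraMap S0 K0 v = algebraMap S0 K0 w1 := by
      rw [IsScalarTower.algebraMap_apply S0 T0 K0 v, ← map_mul, IsLocalization.mk'_spec, ← IsScalarTower.algebraMap_apply]
    rw [map_mul, map_mul, ← h4, hw]
    linear_combination -(algebraMap S0 K0 (v : S0)) * div_mul_cancel₀ (algebraMap S0 K0 a0) hbK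
  rw [IsScalarTower.algebraMap_apply S0 T0 K0, IsScalarTower.algebraMap_apply S0 T0 K0 (w1 * b0)] at h3
  obtain ⟨r, hr⟩ := (IsLocalization.eq_iff_exists Q0.primeCompl T0).mp (IsFractionRing.injective T0 K0 h3)
  refine ⟨IsLocalization.mk' T (φ w1) (⟨φ v, v.2⟩ * c : Q.primeCompl), ?_⟩
  have hS : (algebraMap S K a) * algebraMap S K (φ v) = algebraMap S K (φ w1) * algebraMap S K b := by
    have hr' := congrArg (fun y => algebraMap S K (φ y)) hr
    simp only [map_mul, ha0, hb0] at hr'
    have hrne : algebraMap S K (φ r) ≠ 0 := hu ⟨φ r, r.2⟩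
    exact mul_left_cancel₀ hrne (by linear_combination hr')
  have hmk : algebraMap T K (IsLocalization.mk' T (φ w1) (⟨φ v, v.2⟩ * c : Q.primeCompl)) *
      (algebraMap S K (φ v) * algebraMap S K c) = algebraMap S K (φ w1) := by
    rw [IsScalarTower.algebraMap_apply S T K (φ v), IsScalarTower.algebraMap_apply S T K c, ← map_mul, ← map_mul,
      ← map_mul (algebraMap S T) (φ v) (c : S),
      show φ v * (c : S) = ((⟨φ v, v.2⟩ * c : Q.primeCompl) : S) from rfl, IsLocalization.mk'_spec, ← IsScalarTower.algebraMap_apply]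
  have hvne : algebraMap S K (φ v) * algebraMap S K c ≠ 0 := mul_ne_zero (hu ⟨φ v, v.2⟩) (hu c)
  refine mul_right_cancel₀ (mul_ne_zero hvne hb) ?_
  have hcz : c • z = algebraMap S K c * z := by rw [Submonoid.smul_def, Algebra.smul_def]
  rw [hcz] at hzab
  linear_combination (algebraMap S K b) * hmk + (algebraMap S K (φ v)) * hzab.symm * 0 +
    (-1 : K) * (algebraMap S K (φ v)) * hzab + (-1 : K) * hS

/-- A ring integrally closed in a normal localisation with splitting idempotents is normal. -/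
theorem isNormalRing_of_integrallyClosed_in {R S : Type u} [CommRing R] [CommRing S] [Algebra R S]
    (M : Submonoid R) [IsLocalization M S] (hinj : Function.Injective (algebraMap R S))
    (hic : ∀ x : S, IsIntegral R x → x ∈ Set.range (algebraMap R S)) (hS : EGA4.IsNormalRing S)
    (hSI : HasSplittingIdempotents S) : EGA4.IsNormalRing R := by
  classical
  have hidem : ∀ e : S, e * e = e → ∃ e' : R, algebraMap R S e' = e ∧ e' * e' = e' := by
    intro e he
    obtain ⟨e', rfl⟩ := hic e ⟨X ^ 2 - X, monic_X_pow_sub (degree_X_le.trans_lt (by norm_num)), by simp [sq, he]⟩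
    exact ⟨e', rfl, hinj (by rw [map_mul, he])⟩
  intro P _
  let T := Localization.AtPrime P
  have hsplit : ∀ e : R, e * e = e → e ∈ P → algebraMap R T e = 0 := fun e he heP =>
    (IsLocalization.map_eq_zero_iff P.primeCompl T e).mpr ⟨⟨1 - e, fun h => Ideal.IsPrime.ne_top inferInstance
      ((Ideal.eq_top_iff_one P).mpr (by simpa using add_mem h heP))⟩, by show (1 - e) * e = 0; rw [sub_mul, one_mul, he, sub_self]⟩
  haveI : NoZeroDivisors T := ⟨fun {x y} hxy => by
    obtain ⟨a, s, rfl⟩ := IsLocalization.exists_mk'_eq P.primeCompl x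
    obtain ⟨b, t, rfl⟩ := IsLocalization.exists_mk'_eq P.primeCompl y
    rw [← IsLocalization.mk'_mul, IsLocalization.mk'_eq_zero_iff] at hxy
    obtain ⟨u, hu⟩ := hxy
    obtain ⟨e, he, hea, heb⟩ := hSI (algebraMap R S (u * a)) (algebraMap R S b) (by rw [← map_mul, mul_assoc, hu, map_zero])
    obtain ⟨e', rfl, he'⟩ := hidem e he
    have hea' : e' * (u * a) = u * a := hinj (by rw [map_mul]; exact hea)
    have heb' : e' * b = 0 := hinj (by rw [map_mul, map_zero]; exact heb)
    by_cases heP : e' ∈ P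
    · obtain ⟨w, hw⟩ := (IsLocalization.map_eq_zero_iff P.primeCompl T e').mp (hsplit e' he' heP)
      refine Or.inl ((IsLocalization.mk'_eq_zero_iff _ _).mpr ⟨w * u, ?_⟩)
      rw [Submonoid.coe_mul, mul_assoc, ← hea', ← mul_assoc, hw, zero_mul]
    · exact Or.inr ((IsLocalization.mk'_eq_zero_iff _ _).mpr ⟨⟨e', heP⟩, heb'⟩)⟩
  haveI : IsDomain T := NoZeroDivisors.to_isDomain T
  refine ⟨inferInstance, ?_⟩
  let K := FractionRing T
  rw [isIntegrallyClosed_iff K]
  intro z hz
  obtain ⟨c, hc⟩ := IsIntegral.exists_multiple_integral_of_isLocalization P.primeCompl z hz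
  obtain ⟨f, hf, hfz⟩ := hc
  obtain ⟨α, β, hβ, hαβ⟩ := IsFractionRing.div_surjective (A := T) (c • z)
  obtain ⟨a', s, rfl⟩ := IsLocalization.exists_mk'_eq P.primeCompl α
  obtain ⟨b', t, rfl⟩ := IsLocalization.exists_mk'_eq P.primeCompl β
  let a := a' * t
  let b := b' * s
  have hbT : algebraMap R T b ≠ 0 := by
    rw [map_mul]
    refine mul_ne_zero (fun h0 => nonZeroDivisors.ne_zero hβ ?_) (IsLocalization.map_units T s).ne_zero
    rw [← (IsLocalization.map_units T t).mul_left_inj, IsLocalization.mk'_spec, h0, zero_mul]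
  have hinjK : ∀ r : R, algebraMap R K r = 0 → algebraMap R T r = 0 := fun r hr => by
    rwa [IsScalarTower.algebraMap_apply R T K, map_eq_zero_iff _ (IsFractionRing.injective T K)] at hr
  have hb : algebraMap R K b ≠ 0 := fun h => hbT (hinjK b h)
  have hzab : algebraMap R K b * (c • z) = algebraMap R K a := by
    have hm : ∀ (r : R) (w : P.primeCompl), algebraMap T K (IsLocalization.mk' T r w) * algebraMap R K w = algebraMap R K r :=
      fun r w => by rw [IsScalarTower.algebraMap_apply R T K w, ← map_mul, IsLocalization.mk'_spec, ← IsScalarTower.algebraMap_apply]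
    have hβ0 : algebraMap T K (IsLocalization.mk' T b' t) ≠ 0 := IsFractionRing.to_map_ne_zero_of_mem_nonZeroDivisors hβ
    rw [← hαβ, map_mul, map_mul, ← hm a' s, ← hm b' t]
    linear_combination (algebraMap R K (s : R) * algebraMap R K (t : R)) *
      (div_mul_cancel₀ (algebraMap T K (IsLocalization.mk' T a' s)) hβ0)
  have hhom : algebraMap R K ((f.scaleRoots b).eval a) = 0 := by
    have := scaleRoots_eval₂_eq_zero (algebraMap R K) (s := b) hfz
    rwa [hzab, eval₂_hom] at this
  obtain ⟨u, hu⟩ := (IsLocalization.map_eq_zero_iff P.primeCompl T _).mp (hinjK _ hhom)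
  -- the ideal of denominators in `S`
  let J : Ideal S :=
    { carrier := {s | ∃ y, s * algebraMap R S a = y * algebraMap R S b}
      add_mem' := fun ⟨y, hy⟩ ⟨y', hy'⟩ => ⟨y + y', by rw [add_mul, add_mul, hy, hy']⟩
      zero_mem' := ⟨0, by rw [zero_mul, zero_mul]⟩
      smul_mem' := fun r x ⟨y, hy⟩ => ⟨r * y, by rw [smul_eq_mul, mul_assoc, hy, mul_assoc]⟩ }
  obtain ⟨m, hm, y, hy⟩ : ∃ m ∉ P, ∃ y, algebraMap R S m * algebraMap R S a = y * algebraMap R S b := by
    by_contra hcon
    have hdisj : Disjoint (J : Set S) (P.primeCompl.map (algebraMap R S) : Submonoid S) :=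
      Set.disjoint_left.mpr fun x ⟨y, hy⟩ ⟨m, hm, hx⟩ => hcon ⟨m, hm, y, by rw [hx]; exact hy⟩
    obtain ⟨Q, hQ, hJQ, hdis⟩ := Ideal.exists_le_prime_disjoint J _ hdisj
    haveI := hQ
    have hQP : ∀ r : R, algebraMap R S r ∈ Q → r ∈ P := fun r hr => by
      by_contra hrP
      exact Set.disjoint_left.mp hdis hr ⟨r, hrP, rfl⟩
    haveI := (hS Q).1
    haveI := (hS Q).2
    let TQ := Localization.AtPrime Q
    let KQ := FractionRing TQ
    have hbQ : algebraMap S TQ (algebraMap R S b) ≠ 0 := fun h0 => by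
      obtain ⟨w, hw⟩ := (IsLocalization.map_eq_zero_iff Q.primeCompl TQ _).mp h0
      obtain ⟨e, he, heb, hew⟩ := hSI (algebraMap R S b) w (by rw [mul_comm]; exact hw)
      obtain ⟨e', rfl, he'⟩ := hidem e he
      have heQ : algebraMap R S e' ∈ Q := (Ideal.IsPrime.mem_or_mem inferInstance (hew ▸ zero_mem Q)).resolve_right w.2
      have heb' : e' * b = b := hinj (by rw [map_mul]; exact heb)
      exact hbT (by rw [← heb', map_mul, hsplit e' he' (hQP _ heQ), zero_mul])
    have hbK : algebraMap S KQ (algebraMap R S b) ≠ 0 := by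
      rwa [IsScalarTower.algebraMap_apply S TQ KQ, map_ne_zero_iff _ (IsFractionRing.injective TQ KQ)]
    let g := (algebraMap S KQ).comp (algebraMap R S)
    let z0 : KQ := g a / g b
    have hz0 : IsIntegral TQ z0 := by
      have h1 : g ((f.scaleRoots b).eval a) = 0 := by
        have hu' : algebraMap S TQ (algebraMap R S u) ≠ 0 := fun h0 => by
          obtain ⟨w, hw⟩ := (IsLocalization.map_eq_zero_iff Q.primeCompl TQ _).mp h0
          obtain ⟨e, he, heu, hew⟩ := hSI (algebraMap R S u) w (by rw [mul_comm]; exact hw)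
          obtain ⟨e', rfl, he'⟩ := hidem e he
          have heQ : algebraMap R S e' ∈ Q := (Ideal.IsPrime.mem_or_mem inferInstance (hew ▸ zero_mem Q)).resolve_right w.2
          have heu' : e' * (u : R) = u := hinj (by rw [map_mul]; exact heu)
          exact u.2 (heu' ▸ P.mul_mem_right _ (hQP _ heQ))
        have h2 : algebraMap S TQ (algebraMap R S u) * algebraMap S TQ (algebraMap R S ((f.scaleRoots b).eval a)) = 0 := by
          rw [← map_mul, ← map_mul, hu, map_zero, map_zero]
        show algebraMap S KQ _ = 0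
        rw [IsScalarTower.algebraMap_apply S TQ KQ, (mul_eq_zero.mp h2).resolve_left hu', map_zero]
      have h2 : eval₂ g (g b * z0) (f.scaleRoots b) = 0 := by
        rw [show g b * z0 = g a from mul_div_cancel₀ _ hbK, eval₂_hom, h1]
      rw [scaleRoots_eval₂_mul] at h2
      have h3 := (mul_eq_zero.mp h2).resolve_left (pow_ne_zero _ hbK)
      refine ⟨f.map ((algebraMap S TQ).comp (algebraMap R S)), hf.map _, ?_⟩
      rw [eval₂_map, ← RingHom.comp_assoc, ← IsScalarTower.algebraMap_eq]
      exact h3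
    obtain ⟨w, hw⟩ := IsIntegrallyClosed.isIntegral_iff.mp hz0
    obtain ⟨w1, v, rfl⟩ := IsLocalization.exists_mk'_eq Q.primeCompl w
    have h4 : algebraMap S KQ (v * algebraMap R S a) = algebraMap S KQ (w1 * algebraMap R S b) := by
      have h5 : algebraMap TQ KQ (IsLocalization.mk' TQ w1 v) * algebraMap S KQ v = algebraMap S KQ w1 := by
        rw [IsScalarTower.algebraMap_apply S TQ KQ v, ← map_mul, IsLocalization.mk'_spec, ← IsScalarTower.algebraMap_apply]
      rw [map_mul (algebraMap S KQ) (v : S), map_mul (algebraMap S KQ) w1, ← h5, hw]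
      linear_combination (algebraMap S KQ (v : S)) * (-(div_mul_cancel₀ (g a) hbK))
    rw [IsScalarTower.algebraMap_apply S TQ KQ, IsScalarTower.algebraMap_apply S TQ KQ (w1 * _)] at h4
    obtain ⟨r, hr⟩ := (IsLocalization.eq_iff_exists Q.primeCompl TQ).mp (IsFractionRing.injective TQ KQ h4)
    exact (r * v).2 (hJQ ⟨r * w1, by rw [Submonoid.coe_mul, mul_assoc, hr, mul_assoc]⟩)
  -- an integral element of `S`
  have hdeg : f.natDegree ≠ 0 := fun hd => by
    rw [hf.natDegree_eq_zero.mp hd] at hfz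
    simp at hfz
  have hfy : algebraMap R S (u * b ^ f.natDegree) * eval₂ (algebraMap R S) y (f.scaleRoots m) = 0 := by
    have h1 : eval₂ (algebraMap R S) (algebraMap R S m * algebraMap R S a) ((f.scaleRoots b).scaleRoots m) =
        eval₂ (algebraMap R S) (algebraMap R S b * y) ((f.scaleRoots m).scaleRoots b) := by
      rw [← scaleRoots_mul, ← scaleRoots_mul, mul_comm b m, hy, mul_comm y]
    rw [scaleRoots_eval₂_mul, scaleRoots_eval₂_mul, eval₂_hom, natDegree_scaleRoots] at h1
    rw [map_mul, map_pow, mul_assoc, ← natDegree_scaleRoots f m, ← h1, mul_left_comm, ← map_mul,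
      hu, map_zero, mul_zero]
  obtain ⟨e, he, heb, hef⟩ := hSI (algebraMap R S (u * b ^ f.natDegree)) _ hfy
  obtain ⟨e', rfl, he'⟩ := hidem e he
  have heP : e' ∉ P := fun heP => by
    have heb' : e' * (u * b ^ f.natDegree) = u * b ^ f.natDegree := hinj (by rw [map_mul]; exact heb)
    have h2 := congrArg (algebraMap R T) heb'
    rw [map_mul, hsplit e' he' heP, zero_mul, map_mul, map_pow] at h2
    exact mul_ne_zero (IsLocalization.map_units T u).ne_zero (pow_ne_zero _ hbT) h2.symm
  have hy' : IsIntegral R (algebraMap R S e' * y) := by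
    refine ⟨(f.scaleRoots m).scaleRoots e', by rw [monic_scaleRoots_iff, monic_scaleRoots_iff]; exact hf, ?_⟩
    rw [scaleRoots_eval₂_mul, natDegree_scaleRoots]
    obtain ⟨d, hd⟩ := Nat.exists_eq_succ_of_ne_zero hdeg
    rw [hd, pow_succ, mul_assoc, hef, mul_zero]
  obtain ⟨y', hy'eq⟩ := hic _ hy'
  have hrel : e' * (m * a) = y' * b := hinj (by
    rw [map_mul, map_mul (algebraMap R S) m, map_mul (algebraMap R S) y', hy'eq, mul_assoc, hy])
  refine ⟨IsLocalization.mk' T y' (⟨e' * m, fun h => (Ideal.IsPrime.mem_or_mem inferInstance h).elim heP hm⟩ * c : P.primeCompl), ?_⟩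
  have hu' : ∀ w : P.primeCompl, algebraMap R K w ≠ 0 := fun w h0 =>
    (IsLocalization.map_units T w).ne_zero (hinjK _ h0)
  let w : P.primeCompl := ⟨e' * m, fun h => (Ideal.IsPrime.mem_or_mem inferInstance h).elim heP hm⟩
  have hmk : algebraMap T K (IsLocalization.mk' T y' (w * c)) * (algebraMap R K w * algebraMap R K c) = algebraMap R K y' := by
    rw [IsScalarTower.algebraMap_apply R T K w, IsScalarTower.algebraMap_apply R T K c, ← map_mul, ← map_mul,
      ← map_mul (algebraMap R T) (w : R) (c : R), ← Submonoid.coe_mul, IsLocalization.mk'_spec, ← IsScalarTower.algebraMap_apply]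
  refine mul_right_cancel₀ (mul_ne_zero (mul_ne_zero (hu' w) (hu' c)) hb) ?_
  have hcz : c • z = algebraMap R K c * z := by rw [Submonoid.smul_def, Algebra.smul_def]
  rw [hcz] at hzab
  have hrelK : algebraMap R K (w : R) * algebraMap R K a = algebraMap R K y' * algebraMap R K b := by
    rw [← map_mul, ← map_mul, show (w : R) = e' * m from rfl, mul_assoc, hrel]
  linear_combination (algebraMap R K b) * hmk - (algebraMap R K (w : R)) * hzab - hrelK

end Groth.Agent.H05EGA4
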