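import Mathlib
import Groth.Prelude.Def_EGA4b
import Groth.Agent.H8Props.FlatDepth
import Groth.Agent.H1CAlg.Serre
import Groth.Agent.H02CA.RegularHom
import Groth.Agent.H02CA.RegularLocal
import Groth.Agent.H05EGA4.Rk

/-!
# A combined form of the conditions `(R_r)` and `(S_n)` (helper5)

`RS r n` allows `⊥` and `⊤`: `RS ⊤ ⊤` is regular, `RS ⊥ ⊤` is Cohen–Macaulay, `RS 1 2` is normal and `RS 0 1` is
reduced, so statements about these properties along flat maps have a single proof.
-/

set_option autoImplicit false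
set_option linter.style.haveILetI false
universe u
open IsLocalRing Groth.Agent

namespace Groth.Agent.H05EGA4

/-- Regular up to dimension `r`, and depth at least `min n dim`. -/
def RSLocal (r n : WithBot ℕ∞) (R : Type u) [CommRing R] [IsLocalRing R] : Prop :=
  (ringKrullDim R ≤ r → IsRegularLocalRing R) ∧
    min n (ringKrullDim R) ≤ ((LocCoh.depth R R : ℕ∞) : WithBot ℕ∞)

/-- The conditions `(R_r)` and `(S_n)` at all primes. -/
def RS (r n : WithBot ℕ∞) (R : Type u) [CommRing R] : Prop :=
  ∀ (p : Ideal R) [p.IsPrime], RSLocal r n (Localization.AtPrime p)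

theorem depth_eq_of_ringEquiv {R R' : Type u} [CommRing R] [CommRing R'] [IsLocalRing R] [IsLocalRing R']
    [IsNoetherianRing R] [IsNoetherianRing R'] (e : R ≃+* R') : LocCoh.depth R R = LocCoh.depth R' R' := by
  letI := e.toRingHom.toAlgebra
  have hs : Function.Surjective (algebraMap R R') := e.surjective
  exact (H4Depth.depth_congr (LinearEquiv.ofBijective (Algebra.linearMap R R') e.bijective)).trans
    (H8Props.FlatDepth.depth_eq_of_surjective (R := R) (S := R') (M := R') hs).symm

theorem RSLocal.of_ringEquiv {r n : WithBot ℕ∞} {R R' : Type u} [CommRing R] [CommRing R'] [IsLocalRing R]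
    [IsLocalRing R'] [IsNoetherianRing R] [IsNoetherianRing R'] (e : R ≃+* R') (h : RSLocal r n R) :
    RSLocal r n R' := by
  refine ⟨fun hd => ?_, ?_⟩
  · have := h.1 ((ringKrullDim_eq_of_ringEquiv e).le.trans hd)
    exact IsRegularLocalRing.of_ringEquiv e
  · rw [← ringKrullDim_eq_of_ringEquiv e, ← depth_eq_of_ringEquiv e]
    exact h.2

theorem zero_le_coe_enat (x : ℕ∞) : (0 : WithBot ℕ∞) ≤ ((x : ℕ∞) : WithBot ℕ∞) := WithBot.coe_le_coe.mpr zero_le

/-- Ascent along a flat local homomorphism. -/
theorem RSLocal.of_flat {r n : WithBot ℕ∞} {A B : Type u} [CommRing A] [CommRing B] [IsLocalRing A] [IsLocalRing B]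
    [IsNoetherianRing A] [IsNoetherianRing B] [Algebra A B] [IsLocalHom (algebraMap A B)] [Module.Flat A B]
    [IsLocalRing (B ⧸ (maximalIdeal A).map (algebraMap A B))] (hA : RSLocal r n A)
    (hC : RSLocal r n (B ⧸ (maximalIdeal A).map (algebraMap A B))) : RSLocal r n B := by
  let C := B ⧸ (maximalIdeal A).map (algebraMap A B)
  have h1 : ringKrullDim B = ringKrullDim A + ringKrullDim C := H8Props.FlatDepth.ringKrullDim_eq_add A B
  have h2 : LocCoh.depth B B = LocCoh.depth A A + LocCoh.depth C C := H8Props.FlatDepth.depth_eq_add A B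
  have hA0 : (0 : WithBot ℕ∞) ≤ ringKrullDim A := ringKrullDim_nonneg_of_nontrivial
  have hC0 : (0 : WithBot ℕ∞) ≤ ringKrullDim C := ringKrullDim_nonneg_of_nontrivial
  refine ⟨fun hd => ?_, ?_⟩
  · rw [h1] at hd
    have := hA.1 (le_trans (le_add_of_nonneg_right hC0) hd)
    have := hC.1 (le_trans (le_add_of_nonneg_left hA0) hd)
    exact isRegularLocalRing_of_flat_of_fibre A B
  · rw [h1, h2, WithBot.coe_add]
    rcases min_le_iff.mp hA.2 with h | ha
    · exact (min_le_left _ _).trans (h.trans (le_add_of_nonneg_right (zero_le_coe_enat _)))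
    · rcases min_le_iff.mp hC.2 with h | hc
      · exact (min_le_left _ _).trans (h.trans (le_add_of_nonneg_left (zero_le_coe_enat _)))
      · exact (min_le_right _ _).trans (add_le_add ha hc)

/-- Descent along a flat local homomorphism with zero-dimensional closed fibre. -/
theorem RSLocal.of_flat_descent {r n : WithBot ℕ∞} {A B : Type u} [CommRing A] [CommRing B] [IsLocalRing A]
    [IsLocalRing B] [IsNoetherianRing A] [IsNoetherianRing B]
    [Algebra A B] [IsLocalHom (algebraMap A B)] [Module.Flat A B]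
    [IsLocalRing (B ⧸ (maximalIdeal A).map (algebraMap A B))]
    (hdim : ringKrullDim (B ⧸ (maximalIdeal A).map (algebraMap A B)) = 0) (hB : RSLocal r n B) :
    RSLocal r n A := by
  let C := B ⧸ (maximalIdeal A).map (algebraMap A B)
  have h1 : ringKrullDim B = ringKrullDim A + ringKrullDim C := H8Props.FlatDepth.ringKrullDim_eq_add A B
  rw [show ringKrullDim C = 0 from hdim, add_zero] at h1
  have h2 : LocCoh.depth B B = LocCoh.depth A A + LocCoh.depth C C := H8Props.FlatDepth.depth_eq_add A B
  have hd0 : LocCoh.depth C C = 0 := by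
    have h := H8Props.FlatDepth.depth_le_dim C
    rw [show ringKrullDim C = 0 from hdim] at h
    exact nonpos_iff_eq_zero.mp (WithBot.coe_le_coe.mp h)
  rw [hd0, add_zero] at h2
  refine ⟨fun hd => ?_, ?_⟩
  · have := hB.1 (h1.le.trans hd)
    exact isRegularLocalRing_of_flat (B := B)
  · rw [← h1, ← h2]
    exact hB.2

theorem rsLocal_congr {r n : WithBot ℕ∞} {R : Type u} [CommRing R] [IsNoetherianRing R] {p q : Ideal R} [p.IsPrime]
    [q.IsPrime] (h : p = q) : RSLocal r n (Localization.AtPrime p) ↔ RSLocal r n (Localization.AtPrime q) := by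
  subst h; rfl

/-- The local condition is insensitive to localisation. -/
theorem rsLocal_localization_iff {r n : WithBot ℕ∞} {R : Type u} [CommRing R] [IsNoetherianRing R] (S : Submonoid R)
    (R' : Type u) [CommRing R'] [Algebra R R'] [IsLocalization S R'] (P : Ideal R') [P.IsPrime] :
    RSLocal r n (Localization.AtPrime P) ↔ RSLocal r n (Localization.AtPrime (P.comap (algebraMap R R'))) := by
  have := IsLocalization.isLocalization_isLocalization_atPrime_isLocalization S (Localization.AtPrime P) P
  have : IsNoetherianRing R' := IsLocalization.isNoetherianRing S R' inferInstance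
  let e := (IsLocalization.algEquiv (P.comap (algebraMap R R')).primeCompl
    (Localization.AtPrime (P.comap (algebraMap R R'))) (Localization.AtPrime P)).toRingEquiv
  exact ⟨RSLocal.of_ringEquiv e.symm, RSLocal.of_ringEquiv e⟩

theorem RS.of_isLocalization {r n : WithBot ℕ∞} {R : Type u} [CommRing R] [IsNoetherianRing R] (S : Submonoid R)
    (R' : Type u) [CommRing R'] [Algebra R R'] [IsLocalization S R'] (h : RS r n R) : RS r n R' :=
  fun P _ => (rsLocal_localization_iff S R' P).mpr (h _)

theorem RS.of_ringEquiv {r n : WithBot ℕ∞} {R R' : Type u} [CommRing R] [CommRing R'] [IsNoetherianRing R]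
    (e : R ≃+* R') (h : RS r n R) : RS r n R' := by
  letI := e.toRingHom.toAlgebra
  have : IsLocalization (⊥ : Submonoid R) R := IsLocalization.self bot_le
  have : IsLocalization (⊥ : Submonoid R) R' :=
    IsLocalization.isLocalization_of_algEquiv (S := R) ⊥ (AlgEquiv.ofRingEquiv (f := e) fun _ => rfl)
  exact h.of_isLocalization ⊥ R'

/-- The localisation of a regular ring, as a condition `RS`. -/
theorem rsLocal_of_isRegularLocalRing {r n : WithBot ℕ∞} (R : Type u) [CommRing R] [IsRegularLocalRing R] :
    RSLocal r n R :=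
  ⟨fun _ => inferInstance, by rw [H4Depth.depth_self_eq_ringKrullDim_of_regular R]; exact min_le_right _ _⟩

theorem rs_of_isRegularRing {r n : WithBot ℕ∞} (R : Type u) [CommRing R] [IsRegularRing R] : RS r n R :=
  fun p _ => by
    have := isRegularRing_iff.mp (inferInstance : IsRegularRing R) p
    exact rsLocal_of_isRegularLocalRing _

theorem RS.mono {r r' n n' : WithBot ℕ∞} {R : Type u} [CommRing R] (hr : r' ≤ r) (hn : n' ≤ n) (h : RS r n R) :
    RS r' n' R :=
  fun p _ => ⟨fun hd => (h p).1 (hd.trans hr), (min_le_min_right _ hn).trans (h p).2⟩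

/-! ### Fibres -/

section fibre

variable {A B : Type u} [CommRing A] [CommRing B] [Algebra A B]

/-- Ascent at a point of a fibre. -/
theorem rsLocal_of_flat_of_fibre {r n : WithBot ℕ∞} [IsNoetherianRing A] [IsNoetherianRing B] [Module.Flat A B]
    (p : Ideal A) [p.IsPrime] [IsNoetherianRing (p.Fiber B)] (Q : Ideal (p.Fiber B)) [Q.IsPrime]
    (hA : RSLocal r n (Localization.AtPrime p)) (hF : RSLocal r n (Localization.AtPrime Q)) :
    RSLocal r n (Localization.AtPrime (Q.comap Algebra.TensorProduct.includeRight)) := by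
  set q := Q.comap Algebra.TensorProduct.includeRight with hq
  haveI : q.LiesOver p :=
    ⟨congr($(((PrimeSpectrum.preimageEquivFiber A B ⟨p, inferInstance⟩).symm ⟨Q, inferInstance⟩).2.symm).asIdeal)⟩
  letI := Localization.AtPrime.algebraOfLiesOver p q
  haveI : IsLocalHom (algebraMap (Localization.AtPrime p) (Localization.AtPrime q)) := by
    rw [Localization.AtPrime.IsLiesOverAlgebra.algebraMap_eq]
    infer_instance
  have heq : (maximalIdeal (Localization.AtPrime p)).map (algebraMap (Localization.AtPrime p) (Localization.AtPrime q)) =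
      p.map (algebraMap A (Localization.AtPrime q)) := by
    rw [← Localization.AtPrime.map_eq_maximalIdeal, Ideal.map_map, ← IsScalarTower.algebraMap_eq]
  let C := Localization.AtPrime q ⧸
    (maximalIdeal (Localization.AtPrime p)).map (algebraMap (Localization.AtPrime p) (Localization.AtPrime q))
  let e : Localization.AtPrime Q ≃+* C :=
    (Ideal.Fiber.localizationAlgEquivQuotient p Q).toRingEquiv.trans (Ideal.quotEquivOfEq heq.symm)
  haveI : IsLocalRing C := e.isLocalRing
  exact RSLocal.of_flat hA (hF.of_ringEquiv e)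

/-- Ascent of `RS` along flat maps. -/
theorem RS.of_flat {r n : WithBot ℕ∞} [IsNoetherianRing A] [IsNoetherianRing B] [Module.Flat A B] (hA : RS r n A)
    (hF : ∀ (p : Ideal A) [p.IsPrime], RS r n (p.Fiber B)) : RS r n B := by
  intro q _
  let p := q.comap (algebraMap A B)
  let Q := PrimeSpectrum.preimageEquivFiber A B ⟨p, inferInstance⟩ ⟨⟨q, inferInstance⟩, rfl⟩
  have hQ : Q.asIdeal.comap Algebra.TensorProduct.includeRight = q :=
    congr($((PrimeSpectrum.preimageEquivFiber A B ⟨p, inferInstance⟩).left_inv ⟨⟨q, inferInstance⟩, rfl⟩).1.asIdeal)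
  haveI : IsNoetherianRing (p.Fiber B) := H02CA.isNoetherianRing_tensor_of_essFiniteType _ _ _
  exact (rsLocal_congr hQ).mp (rsLocal_of_flat_of_fibre p Q.asIdeal (hA p) (hF p Q.asIdeal))

/-- Descent at a point below. -/
theorem exists_prime_fibre_dim_zero (p : Ideal A) [p.IsPrime] (q : Ideal B) [q.IsPrime] [q.LiesOver p] :
    ∃ (q' : Ideal B) (_ : q'.IsPrime), q' ≤ q ∧ q'.LiesOver p ∧ ∀ (r : Ideal B), r.IsPrime →
      p.map (algebraMap A B) ≤ r → r ≤ q' → r = q' := by
  have hle : p.map (algebraMap A B) ≤ q := Ideal.map_le_iff_le_comap.mpr (Ideal.LiesOver.over (P := q) (p := p)).le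
  obtain ⟨q', hq', hq'q⟩ := Ideal.exists_minimalPrimes_le hle
  haveI := hq'.isPrime
  refine ⟨q', inferInstance, hq'q, ⟨le_antisymm (Ideal.map_le_iff_le_comap.mp hq'.le) ?_⟩, fun r hr hpr hrq => ?_⟩
  · exact (Ideal.comap_mono hq'q).trans (Ideal.LiesOver.over (P := q) (p := p)).ge
  · exact le_antisymm hrq (hq'.2 ⟨hr, hpr⟩ hrq)

/-- Descent of the local condition along a flat map. -/
theorem rsLocal_of_flat_descent {r n : WithBot ℕ∞} [IsNoetherianRing A] [IsNoetherianRing B] [Module.Flat A B]
    (p : Ideal A) [p.IsPrime] (q : Ideal B) [q.IsPrime] [q.LiesOver p]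
    (hmin : ∀ (s : Ideal B), s.IsPrime → p.map (algebraMap A B) ≤ s → s ≤ q → s = q)
    (hB : RSLocal r n (Localization.AtPrime q)) : RSLocal r n (Localization.AtPrime p) := by
  letI := Localization.AtPrime.algebraOfLiesOver p q
  haveI : IsLocalHom (algebraMap (Localization.AtPrime p) (Localization.AtPrime q)) := by
    rw [Localization.AtPrime.IsLiesOverAlgebra.algebraMap_eq]
    infer_instance
  let I := (maximalIdeal (Localization.AtPrime p)).map (algebraMap (Localization.AtPrime p) (Localization.AtPrime q))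
  haveI : Nontrivial (Localization.AtPrime q ⧸ I) := Ideal.Quotient.nontrivial_iff.mpr
    (ne_top_of_le_ne_top (maximalIdeal.isMaximal _).ne_top (map_maximalIdeal_le _))
  haveI : IsLocalRing (Localization.AtPrime q ⧸ I) := .of_surjective' _ Ideal.Quotient.mk_surjective
  refine RSLocal.of_flat_descent ?_ hB
  haveI : Ring.KrullDimLE 0 (Localization.AtPrime q ⧸ I) := by
    refine Ring.KrullDimLE.mk₀ fun J hJ => ?_
    let P := J.comap (Ideal.Quotient.mk I)
    have hIP : I ≤ P := Ideal.mk_ker.ge.trans (Ideal.comap_mono bot_le)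
    let s := P.comap (algebraMap B (Localization.AtPrime q))
    have hsq : s ≤ q := (Ideal.comap_mono (le_maximalIdeal (Ideal.IsPrime.ne_top inferInstance))).trans
      (Localization.AtPrime.under_maximalIdeal (I := q)).le
    have hps : p.map (algebraMap A B) ≤ s := by
      refine Ideal.map_le_iff_le_comap.mpr fun a ha => hIP ?_
      rw [← IsScalarTower.algebraMap_apply A B (Localization.AtPrime q),
        IsScalarTower.algebraMap_apply A (Localization.AtPrime p) (Localization.AtPrime q)]
      exact Ideal.mem_map_of_mem _ ((IsLocalization.AtPrime.to_map_mem_maximal_iff _ p a).mpr ha)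
    have hP : P = maximalIdeal (Localization.AtPrime q) := by
      rw [← IsLocalization.map_under q.primeCompl (Localization.AtPrime q) P,
        show P.under B = q from hmin s inferInstance hps hsq,
        Localization.AtPrime.map_eq_maximalIdeal]
    have : J = maximalIdeal _ := by
      rw [← Ideal.map_comap_of_surjective _ Ideal.Quotient.mk_surjective J,
        show J.comap (Ideal.Quotient.mk I) = _ from hP,
        IsLocalRing.map_maximalIdeal_of_surjective _ Ideal.Quotient.mk_surjective]
    exact this ▸ maximalIdeal.isMaximal _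
  exact le_antisymm (Ring.krullDimLE_iff.mp inferInstance) ringKrullDim_nonneg_of_nontrivial

/-- Descent of `RS` along faithfully flat maps. -/
theorem RS.of_faithfullyFlat {r n : WithBot ℕ∞} [IsNoetherianRing A] [IsNoetherianRing B] [Module.FaithfullyFlat A B]
    (hB : RS r n B) : RS r n A := by
  intro p _
  obtain ⟨q, hq⟩ := PrimeSpectrum.comap_surjective_of_faithfullyFlat (A := A) (B := B) ⟨p, inferInstance⟩
  haveI : q.asIdeal.LiesOver p := ⟨(congrArg PrimeSpectrum.asIdeal hq).symm⟩
  obtain ⟨q', _, -, _, hmin⟩ := exists_prime_fibre_dim_zero p q.asIdeal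
  exact rsLocal_of_flat_descent p q' hmin (hB q')

end fibre

/-! ### The classical properties -/

section classical

variable {R : Type u} [CommRing R] [IsNoetherianRing R]

theorem hasSk_self_iff_rs {n : ℕ} : LocCoh.HasSk n R R ↔ RS ⊥ (n : WithBot ℕ∞) R := by
  have h : ∀ (p : Ideal R) [p.IsPrime],
      (min (n : WithBot ℕ∞) (Module.supportDim (Localization.AtPrime p) (LocalizedModule p.primeCompl R)) ≤
        ((LocCoh.depth (Localization.AtPrime p) (LocalizedModule p.primeCompl R) : ℕ∞) : WithBot ℕ∞)) ↔
      RSLocal ⊥ (n : WithBot ℕ∞) (Localization.AtPrime p) := by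
    intro p _
    obtain ⟨e⟩ := H4Depth.exists_localizedModule_self_equiv (R := R) p
    rw [H4Depth.depth_congr e, Module.supportDim_eq_of_equiv e, Module.supportDim_self_eq_ringKrullDim]
    refine ⟨fun h => ⟨fun hd => ?_, h⟩, fun h => h.2⟩
    exact absurd (ringKrullDim_nonneg_of_nontrivial.trans hd) (by simp)
  exact ⟨fun hS p _ => (h p).mp (hS p), fun hS p _ => (h p).mpr (hS p)⟩

theorem hasRk_and_hasSk_iff_rs {k n : ℕ} :
    (LocCoh.HasRk k R ∧ LocCoh.HasSk n R R) ↔ RS (k : WithBot ℕ∞) (n : WithBot ℕ∞) R := by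
  rw [hasSk_self_iff_rs]
  refine ⟨fun ⟨hR, hS⟩ p _ => ⟨fun hd => hR p ?_, (hS p).2⟩, fun h => ⟨fun p _ hh => (h p).1 ?_,
    fun p _ => ⟨fun hd => absurd (ringKrullDim_nonneg_of_nontrivial.trans hd) (by simp), (h p).2⟩⟩⟩
  · rw [IsLocalization.AtPrime.ringKrullDim_eq_height p] at hd
    exact_mod_cast hd
  · rw [IsLocalization.AtPrime.ringKrullDim_eq_height p]
    exact_mod_cast hh

theorem isReduced_iff_rs : IsReduced R ↔ RS 0 1 R := by
  rw [H1CAlg.isReduced_iff_R0_S1, hasRk_and_hasSk_iff_rs, Nat.cast_zero, Nat.cast_one]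

theorem isNormalRing_iff_rs : EGA4.IsNormalRing R ↔ RS 1 2 R := by
  unfold EGA4.IsNormalRing
  rw [H1CAlg.normal_iff_R1_S2, hasRk_and_hasSk_iff_rs, Nat.cast_one, Nat.cast_ofNat]

theorem isCohenMacaulayRing_iff_rs : LocCoh.IsCohenMacaulayRing R ↔ RS ⊥ ⊤ R := by
  refine ⟨fun h p _ => ⟨fun hd => absurd (ringKrullDim_nonneg_of_nontrivial.trans hd) (by simp), ?_⟩,
    fun h => { isCohenMacaulayLocalRing_localization := fun p _ => ?_ }⟩
  · have := h.isCohenMacaulayLocalRing_localization p
    rw [(H8Props.FlatDepth.isCM_iff_dim _).mp this]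
    exact min_le_right _ _
  · refine (H8Props.FlatDepth.isCM_iff_dim _).mpr (le_antisymm ?_ (H8Props.FlatDepth.depth_le_dim _))
    have := (h p).2
    rwa [min_eq_right le_top] at this

theorem isRegularRing_iff_rs : IsRegularRing R ↔ RS ⊤ ⊤ R :=
  ⟨fun _ => rs_of_isRegularRing R, fun h => isRegularRing_iff.mpr fun p _ => (h p).1 le_top⟩

end classical

end Groth.Agent.H05EGA4
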