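import Mathlib
import Groth.Agent.H05EGA4.SerreCond
import Groth.Agent.H05EGA4.FormalCatenary
import Groth.Agent.H05EGA4.CodepthLocal
import Groth.Agent.H05EGA4.J2
import Groth.Agent.H05EGA4.CompleteCatenary
import Groth.Agent.H05EGA4.NormalUnion

/-!
# Lifting `(R_r)`, `(S_n)` from a hypersurface section; regular bases (helper5)
-/

set_option autoImplicit false
set_option linter.style.haveILetI false
set_option linter.unusedSectionVars false
set_option linter.unusedVariables false
set_option linter.deprecated false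
set_option maxHeartbeats 800000
set_option synthInstance.maxHeartbeats 200000
universe u
open IsLocalRing Groth.Agent

namespace Groth.Agent.H05EGA4

variable {r n : WithBot ℕ∞}

/-- Localisation commutes with quotients. -/
theorem exists_localization_quotient_equiv {S : Type u} [CommRing S] (P Q : Ideal S) [Q.IsPrime] (hPQ : P ≤ Q)
    [(Q.map (Ideal.Quotient.mk P)).IsPrime] :
    Nonempty ((Localization.AtPrime Q ⧸ P.map (algebraMap S (Localization.AtPrime Q))) ≃+*
      Localization.AtPrime (Q.map (Ideal.Quotient.mk P))) := by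
  have hc : Q = (Q.map (Ideal.Quotient.mk P)).comap (Ideal.Quotient.mk P) := by
    rw [Ideal.comap_map_of_surjective' _ Ideal.Quotient.mk_surjective, Ideal.mk_ker, sup_eq_left.mpr hPQ]
  have hsurj := (RingHom.surjectiveOnStalks_of_surjective
    (Ideal.Quotient.mk_surjective (I := P))).localRingHom_surjective Q (Q.map (Ideal.Quotient.mk P)) hc
  have hk := ker_localRingHom_of_surjective (Ideal.Quotient.mk P) Ideal.Quotient.mk_surjective Q _ hc
  rw [Ideal.mk_ker] at hk
  exact ⟨(Ideal.quotEquivOfEq hk.symm).trans (RingHom.quotientKerEquivOfSurjective hsurj)⟩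

section local_

variable {C : Type u} [CommRing C] [IsLocalRing C] [IsNoetherianRing C]

theorem ringKrullDim_quotient_span_singleton_add_one {t : C} (ht : t ∈ maximalIdeal C) (hreg : t ∈ nonZeroDivisors C) :
    ringKrullDim (C ⧸ Ideal.span {t}) + 1 = ringKrullDim C := by
  refine le_antisymm (ringKrullDim_quotient_succ_le_of_nonZeroDivisor hreg) ?_
  refine (ringKrullDim_le_ringKrullDim_quotient_add_encard {t} ?_).trans (le_of_eq ?_)
  · rw [Set.singleton_subset_iff, IsLocalRing.ringJacobson_eq_maximalIdeal]; exact ht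
  · rw [Set.encard_singleton]; rfl

theorem isLocalRing_quotient_span_singleton {t : C} (ht : t ∈ maximalIdeal C) : IsLocalRing (C ⧸ Ideal.span {t}) :=
  haveI : Nontrivial (C ⧸ Ideal.span {t}) := Ideal.Quotient.nontrivial_iff.mpr
    (ne_top_of_le_ne_top (maximalIdeal.isMaximal C).ne_top ((Ideal.span_singleton_le_iff_mem _).mpr ht))
  IsLocalRing.of_surjective' _ Ideal.Quotient.mk_surjective

/-- A regular hypersurface section forces regularity. -/
theorem isRegularLocalRing_of_quotient_singleton {t : C} (ht : t ∈ maximalIdeal C) (hreg : t ∈ nonZeroDivisors C)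
    (h : haveI := isLocalRing_quotient_span_singleton ht; IsRegularLocalRing (C ⧸ Ideal.span {t})) :
    IsRegularLocalRing C := by
  haveI := isLocalRing_quotient_span_singleton ht
  haveI := h
  let x : Fin 1 → C := fun _ => t
  have hx : Ideal.span (Set.range x) = Ideal.span {t} := by rw [Set.range_const]
  haveI : IsLocalRing (C ⧸ Ideal.span (Set.range x)) := hx ▸ isLocalRing_quotient_span_singleton ht
  haveI : IsRegularLocalRing (C ⧸ Ideal.span (Set.range x)) :=
    IsRegularLocalRing.of_ringEquiv (Ideal.quotEquivOfEq hx.symm)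
  refine IsRegularLocalRing.of_spanFinrank_maximalIdeal_le C ?_
  refine le_trans ?_ (ringKrullDim_quotient_span_singleton_add_one ht hreg).le
  rw [← ringKrullDim_eq_of_ringEquiv (Ideal.quotEquivOfEq hx),
    ← IsRegularLocalRing.spanFinrank_maximalIdeal (R := C ⧸ Ideal.span (Set.range x)), add_comm]
  exact_mod_cast spanFinrank_maximalIdeal_le_quotient x

theorem min_add_one_le {a b d : WithBot ℕ∞} (n : WithBot ℕ∞) (hd : d ≤ a + 1) (h : min n a ≤ b) :
    min n d ≤ b + 1 := by
  rcases le_total n a with hna | han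
  · rw [min_eq_left hna] at h
    exact (min_le_left _ _).trans (h.trans (le_add_of_nonneg_right zero_le_one))
  · rw [min_eq_right han] at h
    exact (min_le_right _ _).trans (hd.trans (add_le_add h le_rfl))

/-- The condition at the closed point lifts from a hypersurface section. -/
theorem rsLocal_of_quotient {t : C} (ht : t ∈ maximalIdeal C) (hreg : t ∈ nonZeroDivisors C)
    (h : haveI := isLocalRing_quotient_span_singleton ht; RSLocal r n (C ⧸ Ideal.span {t})) : RSLocal r n C := by
  haveI := isLocalRing_quotient_span_singleton ht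
  have hdim := ringKrullDim_quotient_span_singleton_add_one ht hreg
  refine ⟨fun hd => isRegularLocalRing_of_quotient_singleton ht hreg (h.1 ?_), ?_⟩
  · exact (ringKrullDim_quotient_le _).trans hd
  · rw [← H8Props.FlatDepth.depth_self_quotient_add_one C ht
      (isSMulRegular_iff_right_eq_zero_of_smul.mpr fun c hc => (mem_nonZeroDivisors_iff_left.mp hreg) c hc)
      (Ideal.span {t}) rfl, WithBot.coe_add, WithBot.coe_one]
    exact min_add_one_le n hdim.ge h.2

end local_

/-- A prime not containing a regular parameter has a specialisation of coheight one containing it. -/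
theorem exists_prime_covering {B : Type u} [CommRing B] [IsLocalRing B] [IsNoetherianRing B] {t : B}
    (ht : t ∈ maximalIdeal B) (q : Ideal B) [q.IsPrime] (htq : t ∉ q) :
    ∃ (q1 : Ideal B) (_ : q1.IsPrime), q ≤ q1 ∧ t ∈ q1 ∧ (q1.map (Ideal.Quotient.mk q)).height = 1 := by
  have hqm : q ⊔ Ideal.span {t} ≤ maximalIdeal B :=
    sup_le (le_maximalIdeal (Ideal.IsPrime.ne_top inferInstance)) ((Ideal.span_singleton_le_iff_mem _).mpr ht)
  obtain ⟨q1, hq1, -⟩ := Ideal.exists_minimalPrimes_le hqm
  haveI := hq1.isPrime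
  have hqq1 : q ≤ q1 := le_sup_left.trans hq1.le
  have htq1 : t ∈ q1 := hq1.le (Ideal.mem_sup_right (Ideal.mem_span_singleton_self t))
  refine ⟨q1, inferInstance, hqq1, htq1, ?_⟩
  let D := B ⧸ q
  haveI : (q1.map (Ideal.Quotient.mk q)).IsPrime := Ideal.isPrime_map_quotientMk_of_isPrime hqq1
  have hmin : q1.map (Ideal.Quotient.mk q) ∈ (Ideal.span {Ideal.Quotient.mk q t}).minimalPrimes := by
    refine ⟨⟨inferInstance, (Ideal.span_singleton_le_iff_mem _).mpr (Ideal.mem_map_of_mem _ htq1)⟩, fun P hP hle => ?_⟩
    haveI := hP.1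
    rw [Ideal.map_le_iff_le_comap]
    refine hq1.2 ⟨inferInstance, sup_le ?_ ?_⟩ ?_
    · exact Ideal.mk_ker.ge.trans (Ideal.comap_mono bot_le)
    · exact (Ideal.span_singleton_le_iff_mem _).mpr (hP.2 (Ideal.mem_span_singleton_self _))
    · refine (Ideal.comap_mono hle).trans ?_
      rw [Ideal.comap_map_of_surjective' _ Ideal.Quotient.mk_surjective, Ideal.mk_ker, sup_eq_left.mpr hqq1]
  refine le_antisymm ?_ ?_
  · haveI : (Ideal.span {Ideal.Quotient.mk q t}).IsPrincipal := ⟨⟨_, rfl⟩⟩
    exact Ideal.height_le_one_of_isPrincipal_of_mem_minimalPrimes _ _ hmin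
  · rw [Order.one_le_iff_pos, pos_iff_ne_zero]
    intro h0
    have hm0 := Ideal.height_eq_zero_iff.mp h0
    have hbot : q1.map (Ideal.Quotient.mk q) = ⊥ := le_bot_iff.mp (hm0.2 ⟨Ideal.isPrime_bot, le_rfl⟩ bot_le)
    have : Ideal.Quotient.mk q t = 0 := by
      have := Ideal.mem_map_of_mem (Ideal.Quotient.mk q) htq1
      rwa [hbot, Ideal.mem_bot] at this
    exact htq (Ideal.Quotient.eq_zero_iff_mem.mp this)

/-- The closed-point conditions at the primes containing the element. -/
theorem rsLocal_of_quotient_atPrime {B : Type u} [CommRing B] [IsNoetherianRing B] {t : B}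
    (hreg : t ∈ nonZeroDivisors B) (h : RS r n (B ⧸ Ideal.span {t})) (q : Ideal B) [q.IsPrime] (htq : t ∈ q) :
    ∃ hm : algebraMap B (Localization.AtPrime q) t ∈ maximalIdeal (Localization.AtPrime q),
      (haveI := isLocalRing_quotient_span_singleton hm
       RSLocal r n (Localization.AtPrime q ⧸ Ideal.span {algebraMap B (Localization.AtPrime q) t})) ∧
      algebraMap B (Localization.AtPrime q) t ∈ nonZeroDivisors (Localization.AtPrime q) := by
  have hm : algebraMap B (Localization.AtPrime q) t ∈ maximalIdeal (Localization.AtPrime q) :=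
    (IsLocalization.AtPrime.to_map_mem_maximal_iff _ q t).mpr htq
  refine ⟨hm, ?_, IsLocalization.map_nonZeroDivisors_le q.primeCompl _ ⟨t, hreg, rfl⟩⟩
  haveI := isLocalRing_quotient_span_singleton hm
  have hle : Ideal.span {t} ≤ q := (Ideal.span_singleton_le_iff_mem _).mpr htq
  haveI : (q.map (Ideal.Quotient.mk (Ideal.span {t}))).IsPrime := Ideal.isPrime_map_quotientMk_of_isPrime hle
  obtain ⟨e⟩ := exists_localization_quotient_equiv (Ideal.span {t}) q hle
  have heq : (Ideal.span {t}).map (algebraMap B (Localization.AtPrime q)) =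
      Ideal.span {algebraMap B (Localization.AtPrime q) t} := by rw [Ideal.map_span, Set.image_singleton]
  exact (h _).of_ringEquiv (e.symm.trans (Ideal.quotEquivOfEq heq))

/-- Lifting from a hypersurface section; only the regularity part needs more. -/
theorem RS.of_quotient_singleton {B : Type u} [CommRing B] [IsLocalRing B] [IsNoetherianRing B] {t : B}
    (ht : t ∈ maximalIdeal B) (hreg : t ∈ nonZeroDivisors B) (h : RS r n (B ⧸ Ideal.span {t}))
    (hgen : ∀ (q q1 : Ideal B) [q.IsPrime] [q1.IsPrime], t ∉ q → q ≤ q1 → t ∈ q1 →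
      (q1.map (Ideal.Quotient.mk q)).height = 1 → (q.height : WithBot ℕ∞) ≤ r →
      IsRegularLocalRing (Localization.AtPrime q)) :
    RS r n B := by
  intro q _
  by_cases htq : t ∈ q
  · obtain ⟨hm, h1, h2⟩ := rsLocal_of_quotient_atPrime hreg h q htq
    exact rsLocal_of_quotient hm h2 h1
  obtain ⟨q1, _, hle, htq1, hh⟩ := exists_prime_covering ht q htq
  refine ⟨fun hd => hgen q q1 htq hle htq1 hh (by rwa [← IsLocalization.AtPrime.ringKrullDim_eq_height q (Localization.AtPrime q)]), ?_⟩
  obtain ⟨hm, h1, h2⟩ := rsLocal_of_quotient_atPrime hreg h q1 htq1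
  let C := Localization.AtPrime q1
  haveI := isLocalRing_quotient_span_singleton hm
  let qC := q.map (algebraMap B C)
  have hdisj : Disjoint (q1.primeCompl : Set B) (q : Set B) := Set.disjoint_left.mpr fun x hx hx' => hx (hle hx')
  haveI : qC.IsPrime := IsLocalization.isPrime_of_isPrime_disjoint q1.primeCompl C q inferInstance hdisj
  have hqC : qC.comap (algebraMap B C) = q := IsLocalization.under_map_of_isPrime_disjoint q1.primeCompl C inferInstance hdisj
  haveI : IsLocalization.AtPrime (Localization.AtPrime qC) q := by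
    have := IsLocalization.isLocalization_isLocalization_atPrime_isLocalization q1.primeCompl (Localization.AtPrime qC) qC
    convert this
    exact hqC.symm
  let e := (IsLocalization.algEquiv q.primeCompl (Localization.AtPrime qC) (Localization.AtPrime q)).toRingEquiv
  suffices hs : min n (ringKrullDim (Localization.AtPrime qC)) ≤
      ((LocCoh.depth (Localization.AtPrime qC) (Localization.AtPrime qC) : ℕ∞) : WithBot ℕ∞) by
    rwa [ringKrullDim_eq_of_ringEquiv e, depth_eq_of_ringEquiv e] at hs
  have hdep := depth_le_dpAt_add_dim (R := C) C qC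
  obtain ⟨el⟩ := H4Depth.exists_localizedModule_self_equiv (R := C) qC
  rw [show dpAt qC C = ((LocCoh.depth (Localization.AtPrime qC) (Localization.AtPrime qC) : ℕ∞) : WithBot ℕ∞) from
    congrArg (fun x : ℕ∞ => (x : WithBot ℕ∞)) (H4Depth.depth_congr el)] at hdep
  have hq1dim : ringKrullDim (C ⧸ qC) = 1 := by
    rw [ringKrullDim_localization_quotient hle, hh]; rfl
  rw [hq1dim, ← H8Props.FlatDepth.depth_self_quotient_add_one C hm
      (isSMulRegular_iff_right_eq_zero_of_smul.mpr fun c hc => (mem_nonZeroDivisors_iff_left.mp h2) c hc)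
      _ rfl, WithBot.coe_add, WithBot.coe_one] at hdep
  have hdim := ringKrullDim_quotient_span_singleton_add_one hm h2
  have hle2 : ringKrullDim (Localization.AtPrime qC) ≤ ringKrullDim (C ⧸ Ideal.span {algebraMap B C t}) := by
    have h3 := height_add_dim_quotient_le qC
    rw [hq1dim, ← hdim, ← IsLocalization.AtPrime.ringKrullDim_eq_height qC (Localization.AtPrime qC)] at h3
    exact le_of_add_natCast_le 1 (by exact_mod_cast h3)
  exact (min_le_min le_rfl hle2).trans ((h1.2).trans (le_of_add_natCast_le 1 (by exact_mod_cast hdep)))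

/-- The conditions lift from hypersurface sections of catenary local rings. -/
def Liftable (r n : WithBot ℕ∞) : Prop :=
  ∀ (B : Type u) [CommRing B] [IsLocalRing B] [IsNoetherianRing B], CAlg.IsCatenary B → ∀ t ∈ maximalIdeal B,
    t ∈ nonZeroDivisors B → RS r n (B ⧸ Ideal.span {t}) → RS r n B

theorem liftable_cm : Liftable.{u} ⊥ ⊤ := fun B _ _ _ _ t ht hreg h =>
  RS.of_quotient_singleton ht hreg h fun q q1 _ _ _ _ _ _ hq => absurd hq (by simp)

/-- A minimal prime of a local ring with a reduced-type section: `P = tP` forces `P = ⊥`. -/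
theorem eq_bot_of_le_smul {B : Type u} [CommRing B] [IsLocalRing B] [IsNoetherianRing B] {t : B}
    (ht : t ∈ maximalIdeal B) (P : Ideal B) (h : P ≤ Ideal.span {t} * P) : P = ⊥ :=
  Submodule.eq_bot_of_le_smul_of_le_jacobson_bot (Ideal.span {t}) P (IsNoetherian.noetherian P)
    (by rwa [Ideal.smul_eq_mul])
    (by rw [IsLocalRing.jacobson_eq_maximalIdeal ⊥ bot_ne_top]; exact (Ideal.span_singleton_le_iff_mem _).mpr ht)

theorem liftable_reduced : Liftable.{u} 0 1 := fun B _ _ _ _ t ht hreg h => by
  haveI : IsReduced (B ⧸ Ideal.span {t}) := isReduced_iff_rs.mpr h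
  refine isReduced_iff_rs.mp (nilradical_eq_bot_iff.mp (eq_bot_of_le_smul ht _ fun x hx => ?_))
  have h1 : Ideal.Quotient.mk (Ideal.span {t}) x = 0 := ((mem_nilradical.mp hx).map _).eq_zero
  obtain ⟨y, rfl⟩ := Ideal.mem_span_singleton'.mp (Ideal.Quotient.eq_zero_iff_mem.mp h1)
  rw [mul_comm y t]
  refine Ideal.mul_mem_mul (Ideal.mem_span_singleton_self t) ?_
  obtain ⟨k, hk⟩ := mem_nilradical.mp hx
  refine mem_nilradical.mpr ⟨k, (mem_nonZeroDivisors_iff_right.mp (pow_mem hreg k)) _ ?_⟩
  rwa [← mul_pow]

/-- A normal local ring is a domain. -/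
theorem isDomain_of_isNormalRing_local {R : Type u} [CommRing R] [IsLocalRing R] (h : EGA4.IsNormalRing R) :
    IsDomain R := by
  haveI := (h (maximalIdeal R)).1
  let e := (IsLocalization.atUnits R (maximalIdeal R).primeCompl (S := Localization.AtPrime (maximalIdeal R))
    fun x hx => IsLocalRing.notMem_maximalIdeal.mp hx).toRingEquiv
  exact e.toMulEquiv.isDomain _

/-- A local ring with a domain hypersurface section is a domain. -/
theorem isDomain_of_quotient_singleton {B : Type u} [CommRing B] [IsLocalRing B] [IsNoetherianRing B] {t : B}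
    (ht : t ∈ maximalIdeal B) (hreg : t ∈ nonZeroDivisors B) [IsDomain (B ⧸ Ideal.span {t})] : IsDomain B := by
  haveI : (Ideal.span {t}).IsPrime := (Ideal.Quotient.isDomain_iff_prime _).mp inferInstance
  obtain ⟨P, hP, hle⟩ := Ideal.exists_minimalPrimes_le (I := (⊥ : Ideal B)) (J := Ideal.span {t}) bot_le
  haveI := hP.isPrime
  have htP : t ∉ P := fun h => Set.disjoint_left.mp (Ideal.disjoint_nonZeroDivisors_of_mem_minimalPrimes hP) h hreg
  have hP0 : P = ⊥ := eq_bot_of_le_smul ht P fun x hx => by
    obtain ⟨y, rfl⟩ := Ideal.mem_span_singleton'.mp (hle hx)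
    rw [mul_comm y t]
    exact Ideal.mul_mem_mul (Ideal.mem_span_singleton_self t) (((Ideal.IsPrime.mem_or_mem inferInstance hx)).resolve_right htP)
  subst hP0
  exact (RingEquiv.quotientBot B).toMulEquiv.symm.isDomain _

/-- Heights go up by one along coverings in catenary local domains. -/
theorem height_eq_add_one_of_isCatenary {B : Type u} [CommRing B] [IsLocalRing B] [IsNoetherianRing B] [IsDomain B]
    (hcat : CAlg.IsCatenary B) (q q1 : Ideal B) [q.IsPrime] [q1.IsPrime] (hle : q ≤ q1)
    (hh : (q1.map (Ideal.Quotient.mk q)).height = 1) : q1.height = q.height + 1 := by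
  haveI : IsLocalRing (B ⧸ q) := .of_surjective' _ Ideal.Quotient.mk_surjective
  haveI : (q1.map (Ideal.Quotient.mk q)).IsPrime := Ideal.isPrime_map_quotientMk_of_isPrime hle
  have f1 := height_add_dim_eq_of_isEquidim hcat (isEquidim_of_isDomain B) q
  have f2 := height_add_dim_eq_of_isEquidim hcat (isEquidim_of_isDomain B) q1
  have f3 := height_add_dim_eq_of_isEquidim (isCatenary_of_surjective _ Ideal.Quotient.mk_surjective hcat)
    (isEquidim_of_isDomain (B ⧸ q)) (q1.map (Ideal.Quotient.mk q))
  rw [dimQuotQuot hle, hh] at f3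
  obtain ⟨a, ha⟩ := exists_nat_height_eq q
  obtain ⟨b, hb⟩ := exists_nat_height_eq q1
  obtain ⟨c, hc⟩ := exists_nat_dim_quotient_eq q
  obtain ⟨d, hd⟩ := exists_nat_dim_quotient_eq q1
  obtain ⟨N, hN⟩ := exists_nat_ringKrullDim B
  rw [ha, hc, hN] at f1
  rw [hb, hd, hN] at f2
  rw [hc, hd] at f3
  have g1 : a + c = N := by exact_mod_cast f1
  have g2 : b + d = N := by exact_mod_cast f2
  have g3 : 1 + d = c := by exact_mod_cast f3
  rw [ha, hb]
  exact_mod_cast (show b = a + 1 by omega)

theorem liftable_normal : Liftable.{u} 1 2 := fun B _ _ _ hcat t ht hreg h => by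
  haveI := isLocalRing_quotient_span_singleton ht
  haveI := isDomain_of_isNormalRing_local (isNormalRing_iff_rs.mpr h)
  haveI := isDomain_of_quotient_singleton ht hreg
  refine RS.of_quotient_singleton ht hreg h fun q q1 _ _ htq hle htq1 hh hq => ?_
  have h1 := height_eq_add_one_of_isCatenary hcat q q1 hle hh
  obtain ⟨hm, h2, h3⟩ := rsLocal_of_quotient_atPrime hreg h q1 htq1
  let C := Localization.AtPrime q1
  have hdim : ringKrullDim C ≤ 2 := by
    rw [IsLocalization.AtPrime.ringKrullDim_eq_height q1 C, h1, WithBot.coe_add, WithBot.coe_one]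
    exact (add_le_add hq le_rfl).trans one_add_one_eq_two.le
  have h4 : ringKrullDim (C ⧸ Ideal.span {algebraMap B C t}) ≤ 1 := by
    have h5 := ringKrullDim_quotient_span_singleton_add_one hm h3
    refine le_of_add_natCast_le 1 ?_
    rw [Nat.cast_one, h5]
    exact hdim.trans one_add_one_eq_two.ge
  haveI : IsRegularLocalRing C := isRegularLocalRing_of_quotient_singleton hm h3 (h2.1 h4)
  let qC := q.map (algebraMap B C)
  have hdisj : Disjoint (q1.primeCompl : Set B) (q : Set B) := Set.disjoint_left.mpr fun x hx hx' => hx (hle hx')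
  haveI : qC.IsPrime := IsLocalization.isPrime_of_isPrime_disjoint q1.primeCompl C q inferInstance hdisj
  have hqC : qC.comap (algebraMap B C) = q := IsLocalization.under_map_of_isPrime_disjoint q1.primeCompl C inferInstance hdisj
  haveI : IsLocalization.AtPrime (Localization.AtPrime qC) q := by
    have := IsLocalization.isLocalization_isLocalization_atPrime_isLocalization q1.primeCompl (Localization.AtPrime qC) qC
    convert this
    exact hqC.symm
  haveI := isRegularLocalRing_localization C qC
  exact IsRegularLocalRing.of_ringEquiv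
    (IsLocalization.algEquiv q.primeCompl (Localization.AtPrime qC) (Localization.AtPrime q)).toRingEquiv

/-- The quotient of a regular local ring by one of its parameters. -/
theorem exists_regular_quotient (A : Type u) [CommRing A] [IsRegularLocalRing A] (hA : ¬ IsField A) :
    ∃ t ∈ maximalIdeal A, t ∈ nonZeroDivisors A ∧ ∃ _ : IsRegularLocalRing (A ⧸ Ideal.span {t}),
      ringKrullDim (A ⧸ Ideal.span {t}) < ringKrullDim A := by
  haveI := H4Depth.isDomain_of_isRegularLocalRing A
  obtain ⟨g, hg⟩ := H4Depth.exists_fun_fin_span_eq (I := maximalIdeal A)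
  obtain ⟨i, hi⟩ : ∃ i, g i ≠ 0 := by
    by_contra h0
    push Not at h0
    refine hA (IsLocalRing.isField_iff_maximalIdeal_eq.mpr ?_)
    rw [← hg, eq_bot_iff, Ideal.span_le]
    rintro _ ⟨i, rfl⟩
    simp [h0 i]
  have hgi : g i ∈ maximalIdeal A := hg ▸ Ideal.subset_span ⟨i, rfl⟩
  have hnzd : g i ∈ nonZeroDivisors A := mem_nonZeroDivisors_of_ne_zero hi
  haveI := isLocalRing_quotient_span_singleton hgi
  have hdim := ringKrullDim_quotient_span_singleton_add_one hgi hnzd
  obtain ⟨N, hN⟩ := exists_nat_ringKrullDim (A ⧸ Ideal.span {g i})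
  refine ⟨g i, hgi, hnzd, IsRegularLocalRing.of_spanFinrank_maximalIdeal_le _ ?_, ?_⟩
  · classical
    have hspan : maximalIdeal (A ⧸ Ideal.span {g i}) =
        Ideal.span ((Ideal.Quotient.mk (Ideal.span {g i}) ∘ g) '' ↑((Finset.univ : Finset _).erase i)) := by
      rw [← IsLocalRing.map_maximalIdeal_of_surjective _ (Ideal.Quotient.mk_surjective (I := Ideal.span {g i}))]
      refine (congrArg (Ideal.map _) hg.symm).trans ?_
      rw [Ideal.map_span, ← Set.range_comp]
      refine le_antisymm (Ideal.span_le.mpr ?_) (Ideal.span_mono (Set.image_subset_range _ _))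
      rintro _ ⟨j, rfl⟩
      by_cases hj : j = i
      · subst hj
        rw [Function.comp_apply, Ideal.Quotient.eq_zero_iff_mem.mpr (Ideal.mem_span_singleton_self _)]
        exact zero_mem _
      · exact Ideal.subset_span ⟨j, Finset.mem_coe.mpr (Finset.mem_erase.mpr ⟨hj, Finset.mem_univ _⟩), rfl⟩
    have h1 := H4Depth.spanFinrank_maximalIdeal_le_of_span _ _ hspan
    rw [Finset.card_erase_of_mem (Finset.mem_univ _), Finset.card_univ, Fintype.card_fin] at h1
    rw [hN] at hdim ⊢
    have h2 : ((maximalIdeal A).spanFinrank : WithBot ℕ∞) = (N : WithBot ℕ∞) + 1 :=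
      (IsRegularLocalRing.spanFinrank_maximalIdeal (R := A)).trans hdim.symm
    have h2' : (maximalIdeal A).spanFinrank = N + 1 := by exact_mod_cast h2
    exact_mod_cast (show (maximalIdeal (A ⧸ Ideal.span {g i})).spanFinrank ≤ N by omega)
  · rw [← hdim, hN]
    exact_mod_cast Nat.lt_succ_self N

/-- Conditions on the closed fibre pass to the total ring over a regular local base. -/
theorem RS.of_regular_base (hL : Liftable.{u} r n) : ∀ (d : ℕ) (A B : Type u) [CommRing A] [CommRing B]
    [IsRegularLocalRing A] [IsLocalRing B] [IsNoetherianRing B] [Algebra A B] [IsLocalHom (algebraMap A B)]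
    [Module.Flat A B], ringKrullDim A ≤ d → CAlg.IsCatenary B →
    RS r n (B ⧸ (maximalIdeal A).map (algebraMap A B)) → RS r n B := by
  intro d
  induction d using Nat.strong_induction_on with
  | _ d ih =>
    intro A B _ _ _ _ _ _ _ _ hdim hcat h
    by_cases hA : IsField A
    · exact h.of_ringEquiv ((Ideal.quotEquivOfEq (by rw [IsLocalRing.isField_iff_maximalIdeal_eq.mp hA, Ideal.map_bot])).trans
        (RingEquiv.quotientBot B))
    obtain ⟨t, ht, hnzd, hreg, hlt⟩ := exists_regular_quotient A hA
    let b := algebraMap A B t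
    have hb : b ∈ maximalIdeal B := map_nonunit (algebraMap A B) t ht
    have hbreg : b ∈ nonZeroDivisors B := by
      have hs : IsSMulRegular B b := IsSMulRegular.of_flat
        (isSMulRegular_iff_right_eq_zero_of_smul.mpr fun c hc => (mem_nonZeroDivisors_iff_left.mp hnzd) c hc)
      exact mem_nonZeroDivisors_iff_left.mpr fun c hc => hs.right_eq_zero_of_smul hc
    haveI := isLocalRing_quotient_span_singleton hb
    refine hL B hcat b hb hbreg ?_
    let J : Ideal B := (Ideal.span {t}).map (algebraMap A B)
    have hJ : J = Ideal.span {b} := by rw [show J = _ from Ideal.map_span _ _, Set.image_singleton]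
    haveI : IsLocalRing (B ⧸ J) := hJ ▸ isLocalRing_quotient_span_singleton hb
    haveI : IsLocalHom (algebraMap (A ⧸ Ideal.span {t}) (B ⧸ J)) := by
      refine ⟨fun x hx => ?_⟩
      obtain ⟨a, rfl⟩ := Ideal.Quotient.mk_surjective x
      refine IsUnit.map _ ?_
      by_contra hu
      have h1 : Ideal.Quotient.mk J (algebraMap A B a) ∈ maximalIdeal (B ⧸ J) := by
        rw [← IsLocalRing.map_maximalIdeal_of_surjective _ (Ideal.Quotient.mk_surjective (I := J))]
        exact Ideal.mem_map_of_mem _ (map_nonunit (algebraMap A B) a hu)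
      exact h1 hx
    haveI : Module.Flat (A ⧸ Ideal.span {t}) (B ⧸ J) :=
      Module.Flat.of_linearEquiv (Algebra.TensorProduct.quotIdealMapEquivQuotTensor B (Ideal.span {t})).toLinearEquiv
    obtain ⟨N, hN⟩ := exists_nat_ringKrullDim (A ⧸ Ideal.span {t})
    have hNd : N < d := by
      have := hlt.trans_le hdim
      rw [hN] at this
      exact_mod_cast this
    refine (ih N hNd (A ⧸ Ideal.span {t}) (B ⧸ J) hN.le (isCatenary_of_surjective _ Ideal.Quotient.mk_surjective hcat) ?_).of_ringEquiv
      (Ideal.quotEquivOfEq hJ)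
    refine h.of_ringEquiv (RingEquiv.symm ?_)
    refine (Ideal.quotEquivOfEq ?_).trans ((DoubleQuot.quotQuotEquivQuotSup J ((maximalIdeal A).map (algebraMap A B))).trans
      (Ideal.quotEquivOfEq (sup_eq_right.mpr (Ideal.map_mono ((Ideal.span_singleton_le_iff_mem _).mpr ht)))))
    rw [← IsLocalRing.map_maximalIdeal_of_surjective _ (Ideal.Quotient.mk_surjective (I := Ideal.span {t})),
      Ideal.map_map, Ideal.map_map]
    rfl

end Groth.Agent.H05EGA4
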