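import Mathlib
import Groth.Agent.H05EGA4.FormalCatenary
import Groth.Agent.S9126
import Groth.Agent.H24Adic.CompletionMap

/-!
# Ratliff's theorem: universally catenary local rings are formally catenary (helper5)
-/

set_option autoImplicit false
set_option maxHeartbeats 400000
universe u
open IsLocalRing Groth.Agent
open scoped TensorProduct

namespace Groth.Agent.H05EGA4

/-! ### Equidimensionality of the completion from the minimal primes -/

theorem minimalPrime_completion_spec {A : Type u} [CommRing A] [IsNoetherianRing A] [IsLocalRing A]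
    {P : Ideal (AdicCompletion (maximalIdeal A) A)} (hP : P ∈ minimalPrimes (AdicCompletion (maximalIdeal A) A)) :
    P.comap (algebraMap A (AdicCompletion (maximalIdeal A) A)) ∈ minimalPrimes A ∧
      P ∈ ((P.comap (algebraMap A (AdicCompletion (maximalIdeal A) A))).map
        (algebraMap A (AdicCompletion (maximalIdeal A) A))).minimalPrimes := by
  have h : P ∈ ((⊥ : Ideal A).map (algebraMap A (AdicCompletion (maximalIdeal A) A))).minimalPrimes := by
    rw [Ideal.map_bot]; exact hP
  obtain ⟨h1, h2⟩ := mem_minimalPrimes_comap h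
  exact ⟨h1, h2⟩

theorem isFormallyEquidim_of_forall_minimalPrimes (A : Type u) [CommRing A] [IsNoetherianRing A] [IsLocalRing A]
    (h : ∀ (p : Ideal A) [p.IsPrime], p ∈ minimalPrimes A → EGA4.IsFormallyEquidim (A ⧸ p)) (heq : EGA4.IsEquidim A) :
    EGA4.IsFormallyEquidim A := by
  intro P hP
  obtain ⟨hp, hP'⟩ := minimalPrime_completion_spec hP
  set p := P.comap (algebraMap A (AdicCompletion (maximalIdeal A) A))
  have : p.IsPrime := hp.isPrime
  have h1 := h p hp
  rw [isFormallyEquidim_iff_of_surjective (A ⧸ p) (Ideal.Quotient.mk p) Ideal.Quotient.mk_surjective,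
    Ideal.mk_ker, isEquidim_quotient_iff] at h1
  rw [h1 P hP', ringKrullDim_completion_quotient, heq p hp, ringKrullDim_adicCompletion]

/-! ### The dimension formula for finite extensions -/

theorem height_eq_one_of_comap_eq_bot {A : Type u} [CommRing A] [IsDomain A] (P : Ideal (Polynomial A))
    [P.IsPrime] (hP : P ≠ ⊥) (h : P.comap Polynomial.C = ⊥) : P.height = 1 := by
  let K := FractionRing A
  letI : Algebra (Polynomial A) (Polynomial K) := (Polynomial.mapRingHom (algebraMap A K)).toAlgebra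
  have : IsLocalization ((nonZeroDivisors A).map Polynomial.C) (Polynomial K) :=
    Polynomial.isLocalization (nonZeroDivisors A) K
  have hdisj : Disjoint (((nonZeroDivisors A).map Polynomial.C : Submonoid (Polynomial A)) : Set (Polynomial A)) P := by
    refine Set.disjoint_left.2 ?_
    rintro _ ⟨a, ha, rfl⟩ h'
    have : a ∈ P.comap Polynomial.C := h'
    rw [h, Ideal.mem_bot] at this
    exact nonZeroDivisors.ne_zero ha this
  rw [← IsLocalization.height_map_of_disjoint (S := Polynomial K) ((nonZeroDivisors A).map Polynomial.C) P hdisj]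
  have hp := IsLocalization.isPrime_of_isPrime_disjoint ((nonZeroDivisors A).map Polynomial.C) (Polynomial K) P ‹_› hdisj
  have hne : P.map (algebraMap (Polynomial A) (Polynomial K)) ≠ ⊥ := by
    rw [Ne, Ideal.map_eq_bot_iff_of_injective (Polynomial.map_injective _ (IsFractionRing.injective A K))]
    exact hP
  have := Ideal.IsPrime.isMaximal hp hne
  exact IsPrincipalIdealRing.height_eq_one_of_isMaximal _ (Polynomial.not_isField K)

/-- The dimension formula for a simple finite extension of a universally catenary domain. -/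
theorem height_eq_of_adjoin_singleton {A B : Type u} [CommRing A] [IsDomain A]
    (hA : CAlg.IsUniversallyCatenary A) [CommRing B] [IsDomain B] [Algebra A B] [FaithfulSMul A B]
    [Module.Finite A B] (y : B) (hy : Function.Surjective (Polynomial.aeval (R := A) y))
    (n : Ideal B) [n.IsMaximal] : n.height = (n.comap (algebraMap A B)).height := by
  have := hA.1
  let π : Polynomial A →+* B := (Polynomial.aeval (R := A) y).toRingHom
  have hπ : Function.Surjective π := hy
  have hC : π.comp Polynomial.C = algebraMap A B := RingHom.ext fun a => Polynomial.aeval_C y a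
  let P := RingHom.ker π
  have : P.IsPrime := RingHom.ker_isPrime π
  have hP0 : P ≠ ⊥ := by
    obtain ⟨f, hf, hf0⟩ := IsIntegral.of_finite A y
    refine Submodule.ne_bot_iff _ |>.mpr ⟨f, hf0, hf.ne_zero⟩
  have hPc : P.comap Polynomial.C = ⊥ := by
    show Ideal.comap Polynomial.C (RingHom.ker π) = ⊥
    rw [RingHom.comap_ker, hC]
    exact (RingHom.injective_iff_ker_eq_bot _).mp (FaithfulSMul.algebraMap_injective A B)
  let M := n.comap π
  have : M.IsMaximal := Ideal.comap_isMaximal_of_surjective _ hπ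
  have : M.LiesOver (n.comap (algebraMap A B)) := ⟨by
    show _ = Ideal.comap Polynomial.C (Ideal.comap π n)
    rw [Ideal.comap_comap, hC]⟩
  have hPM : P ≤ M := Ideal.ker_le_comap π
  let T := Localization.AtPrime M
  have : IsDomain T := IsLocalization.isDomain_localization (Ideal.primeCompl_le_nonZeroDivisors M)
  have hcat : CAlg.IsCatenary T :=
    H8Props.CatenaryBridge.isCatenary_atPrime (hA.2 (Polynomial A) inferInstance) M T
  have hdisj : Disjoint (M.primeCompl : Set (Polynomial A)) P := Set.disjoint_left.2 fun z hz hz' => hz (hPM hz')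
  have hPT := IsLocalization.isPrime_of_isPrime_disjoint M.primeCompl T P ‹_› hdisj
  have e1 := height_add_dim_eq_of_isEquidim hcat (isEquidim_of_isDomain T) (P.map (algebraMap _ T))
  rw [IsLocalization.height_map_of_disjoint M.primeCompl P hdisj, height_eq_one_of_comap_eq_bot P hP0 hPc,
    ringKrullDim_localization_quotient hPM, IsLocalization.AtPrime.ringKrullDim_eq_height M T,
    height_map_mk_of_ker π hπ rfl M, Ideal.map_comap_of_surjective π hπ,
    Polynomial.height_eq_height_add_one (n.comap (algebraMap A B)) M, ← WithBot.coe_add] at e1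
  obtain ⟨a, ha⟩ := exists_nat_height_eq (n.comap (algebraMap A B))
  have : IsNoetherianRing B := isNoetherianRing_of_surjective _ _ π hπ
  obtain ⟨b, hb⟩ := exists_nat_height_eq n
  rw [ha, hb] at e1 ⊢
  norm_cast at e1 ⊢
  omega

/-- The dimension formula for finite extensions of a universally catenary domain. -/
theorem height_eq_of_finite_extension {A B : Type u} [CommRing A] [IsDomain A]
    (hA : CAlg.IsUniversallyCatenary A) [CommRing B] [IsDomain B] [Algebra A B] [FaithfulSMul A B]
    [Module.Finite A B] (n : Ideal B) [n.IsMaximal] : n.height = (n.comap (algebraMap A B)).height := by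
  classical
  suffices h : ∀ (k : ℕ) (A : Type u) [CommRing A] [IsDomain A] (_ : CAlg.IsUniversallyCatenary A) [Algebra A B]
      [FaithfulSMul A B] [Module.Finite A B] (s : Finset B), s.card ≤ k → Algebra.adjoin A (s : Set B) = ⊤ →
      n.height = (n.comap (algebraMap A B)).height by
    obtain ⟨s, hs⟩ := (Algebra.FiniteType.out : (⊤ : Subalgebra A B).FG)
    exact h s.card A hA s le_rfl hs
  intro k
  induction k with
  | zero =>
    intro A _ _ hA _ _ _ s hs hgen
    rw [Finset.card_eq_zero.mp (Nat.le_zero.mp hs), Finset.coe_empty, Algebra.adjoin_empty] at hgen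
    refine height_eq_of_adjoin_singleton hA 0 (fun b => ?_) n
    obtain ⟨a, rfl⟩ := Algebra.mem_bot.mp (hgen.ge (Algebra.mem_top (x := b)))
    exact ⟨Polynomial.C a, Polynomial.aeval_C _ a⟩
  | succ k ih =>
    intro A _ _ hA _ _ _ s hs hgen
    rcases s.eq_empty_or_nonempty with rfl | ⟨y, hy⟩
    · exact ih A hA ∅ (by simp) hgen
    let A' := Algebra.adjoin A ({y} : Set B)
    have hA'f : Module.Finite A A' := by
      have := hA.1
      exact Module.Finite.of_fg ((Submodule.FG.of_le Module.Finite.fg_top le_top : A'.toSubmodule.FG))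
    have hgen' : Algebra.adjoin A' ((s.erase y : Finset B) : Set B) = ⊤ := by
      refine eq_top_iff.mpr fun b _ => ?_
      have h1 : b ∈ Algebra.adjoin A (s : Set B) := hgen.symm ▸ Algebra.mem_top
      refine (Algebra.adjoin_le (S := (Algebra.adjoin A' ((s.erase y : Finset B) : Set B)).restrictScalars A) ?_) h1
      intro x hx
      by_cases hxy : x = y
      · subst hxy
        exact (Algebra.adjoin A' _).algebraMap_mem ⟨x, Algebra.self_mem_adjoin_singleton A x⟩
      · exact Algebra.subset_adjoin (Finset.mem_erase.mpr ⟨hxy, hx⟩)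
    have : Module.Finite A' B := Module.Finite.of_restrictScalars_finite A A' B
    have : FaithfulSMul A' B := (faithfulSMul_iff_algebraMap_injective A' B).mpr Subtype.val_injective
    have : Algebra.IsIntegral A' B := Algebra.IsIntegral.of_finite A' B
    have h1 := ih A' (S9126.result A A' hA) (s.erase y) (by rw [Finset.card_erase_of_mem hy]; omega) hgen'
    have hmax : (n.comap (algebraMap A' B)).IsMaximal := Ideal.isMaximal_comap_of_isIntegral_of_isMaximal n
    have : FaithfulSMul A A' := (faithfulSMul_iff_algebraMap_injective A A').mpr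
      fun a b h => FaithfulSMul.algebraMap_injective A B (congrArg Subtype.val h)
    have h2 := height_eq_of_adjoin_singleton hA (⟨y, Algebra.self_mem_adjoin_singleton A y⟩ : A')
      (fun b => by
        have hb2 : (b : B) ∈ Algebra.adjoin A ({y} : Set B) := b.2
        rw [Algebra.adjoin_singleton_eq_range_aeval] at hb2
        obtain ⟨f, hf⟩ := hb2
        exact ⟨f, Subtype.ext ((Polynomial.aeval_subalgebra_coe f A' _).trans hf)⟩) (n.comap (algebraMap A' B))
    rw [h1, h2, Ideal.comap_comap]
    rfl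

/-! ### Ratliff's theorem -/

theorem not_lt_lt_of_minimal {R : Type u} [CommRing R] [IsNoetherianRing R] {q r P : Ideal R} [q.IsPrime]
    [r.IsPrime] [P.IsPrime] {x : R} (hP : P ∈ (q ⊔ Ideal.span {x}).minimalPrimes) (h1 : q < r) (h2 : r < P) : False := by
  have hle : q ≤ P := le_sup_left.trans hP.le
  have : (P.map (Ideal.Quotient.mk q)).IsPrime := Ideal.isPrime_map_quotientMk_of_isPrime hle
  have : (r.map (Ideal.Quotient.mk q)).IsPrime := Ideal.isPrime_map_quotientMk_of_isPrime h1.le
  have hc : ∀ {I : Ideal R}, q ≤ I → (I.map (Ideal.Quotient.mk q)).comap (Ideal.Quotient.mk q) = I := fun hI => by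
    rw [Ideal.comap_map_of_surjective' _ Ideal.Quotient.mk_surjective, Ideal.mk_ker, sup_eq_left.mpr hI]
  have hlt : r.map (Ideal.Quotient.mk q) < P.map (Ideal.Quotient.mk q) :=
    lt_of_le_not_ge (Ideal.map_mono h2.le) fun h => h2.not_ge (by
      have := Ideal.comap_mono (f := Ideal.Quotient.mk q) h
      rwa [hc hle, hc h1.le] at this)
  have hne : r.map (Ideal.Quotient.mk q) ≠ ⊥ := by
    rw [Ne, Ideal.map_eq_bot_iff_le_ker, Ideal.mk_ker]
    exact h1.not_ge
  have hP1 : (P.map (Ideal.Quotient.mk q)).height ≤ 1 := by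
    refine Ideal.height_le_one_of_isPrincipal_of_mem_minimalPrimes (Ideal.span {Ideal.Quotient.mk q x}) _ ?_
    refine ⟨⟨‹_›, ?_⟩, fun S hS hSP => ?_⟩
    · rw [Ideal.span_le, Set.singleton_subset_iff]
      exact Ideal.mem_map_of_mem _ (hP.le (Ideal.mem_sup_right (Ideal.mem_span_singleton_self _)))
    · have hqS : q ≤ S.comap (Ideal.Quotient.mk q) := by
        conv_lhs => rw [← Ideal.mk_ker (I := q)]
        exact Ideal.comap_mono bot_le
      have hSP' : S.comap (Ideal.Quotient.mk q) ≤ P := (Ideal.comap_mono hSP).trans_eq (hc hle)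
      have := hS.1
      exact Ideal.map_le_iff_le_comap.mpr (hP.2 ⟨Ideal.IsPrime.comap _, sup_le hqS (by
        rw [Ideal.span_le, Set.singleton_subset_iff]
        exact hS.2 (Ideal.mem_span_singleton_self _))⟩ hSP')
  have h3 : (1 : ℕ∞) ≤ (r.map (Ideal.Quotient.mk q)).height := by
    rw [Order.one_le_iff_pos, pos_iff_ne_zero, Ne, Ideal.height_eq_zero_iff_eq_bot]
    exact hne
  exact absurd ((h3.trans_lt (Ideal.height_strict_mono_of_isPrime hlt)).trans_le hP1) (lt_irrefl _)

theorem height_map_mk_eq_one_of_minimal {R : Type u} [CommRing R] [IsNoetherianRing R] {q P : Ideal R} [q.IsPrime]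
    [P.IsPrime] {x : R} (hP : P ∈ (q ⊔ Ideal.span {x}).minimalPrimes) (hne : q < P) :
    (P.map (Ideal.Quotient.mk q)).height = 1 :=
  height_map_mk_of_covBy (p := ⟨q, ‹_›⟩) (q := ⟨P, ‹_›⟩) ⟨hne, fun r h1 h2 =>
    not_lt_lt_of_minimal hP (q := q) (r := r.asIdeal) h1 h2⟩

theorem mem_minimalPrimes_sup_of_le {R : Type u} [CommRing R] [IsNoetherianRing R] {q q' P : Ideal R} [q.IsPrime]
    [P.IsPrime] {x : R} (hq : q ∈ minimalPrimes R) (hP : P ∈ (q ⊔ Ideal.span {x}).minimalPrimes) (hqP : q ≤ P)
    (hq' : q' ∈ minimalPrimes R) (hne : q' ≠ q) (hle : q' ≤ P) : P ∈ (q ⊔ q').minimalPrimes := by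
  obtain ⟨R', hR, hRP⟩ := Ideal.exists_minimalPrimes_le (I := q ⊔ q') (J := P) (sup_le hqP hle)
  have hRp : R'.IsPrime := hR.isPrime
  have hqR : q < R' := lt_of_le_of_ne (le_sup_left.trans hR.le) fun h =>
    hne (le_antisymm (h ▸ le_sup_right.trans hR.le) (hq.2 ⟨hq'.isPrime, bot_le⟩ (h ▸ le_sup_right.trans hR.le)))
  obtain rfl : R' = P := by
    by_contra hne'
    exact not_lt_lt_of_minimal hP hqR (lt_of_le_of_ne hRP hne')
  exact hR

theorem mem_map_colon_of_flat {R S : Type u} [CommRing R] [CommRing S] [Algebra R S] [Module.Flat R S]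
    (a : R) (J : Ideal R) (hJ : J.FG) (ε : S)
    (hε : ∀ g ∈ J, ε * algebraMap R S g ∈ Ideal.span {algebraMap R S a}) :
    ∃ E : Ideal R, (∀ r ∈ E, ∀ g ∈ J, r * g ∈ Ideal.span {a}) ∧ a ∈ E ∧ ε ∈ E.map (algebraMap R S) := by
  obtain ⟨n, v, hv⟩ := Submodule.fg_iff_exists_fin_generating_family.mp hJ
  let φ : R →ₗ[R] (Fin n → R ⧸ Ideal.span {a}) :=
    LinearMap.toSpanSingleton R _ (fun i => Ideal.Quotient.mk _ (v i))
  have hφ : ∀ r i, φ r i = Ideal.Quotient.mk _ (r * v i) := fun r i => rfl
  refine ⟨LinearMap.ker φ, fun r hr g hg => ?_, ?_, ?_⟩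
  · rw [← hv] at hg
    induction hg using Submodule.span_induction with
    | mem x hx =>
      obtain ⟨i, rfl⟩ := hx
      rw [← Ideal.Quotient.eq_zero_iff_mem, ← hφ, LinearMap.mem_ker.mp hr]
      rfl
    | zero => simp
    | add x y _ _ hx hy => rw [mul_add]; exact add_mem hx hy
    | smul c x _ hx => rw [smul_eq_mul, mul_left_comm]; exact Ideal.mul_mem_left _ _ hx
  · refine funext fun i => ?_
    rw [hφ]
    exact Ideal.Quotient.eq_zero_iff_mem.mpr (Ideal.mul_mem_right _ _ (Ideal.mem_span_singleton_self _))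
  · have h0 : φ.lTensor S (ε ⊗ₜ 1) = 0 := by
      apply (TensorProduct.piRight R R S (fun _ : Fin n => R ⧸ Ideal.span {a})).injective
      funext i
      rw [LinearMap.lTensor_tmul, map_zero, TensorProduct.piRight_apply, TensorProduct.piRightHom_tmul]
      show ε ⊗ₜ[R] φ 1 i = 0
      obtain ⟨c, hc⟩ := Ideal.mem_span_singleton'.mp (hε (v i) (hv ▸ Submodule.subset_span ⟨i, rfl⟩))
      rw [hφ, one_mul, show Ideal.Quotient.mk (Ideal.span {a}) (v i) = v i • (1 : R ⧸ Ideal.span {a}) by
        rw [Algebra.smul_def, mul_one, Ideal.Quotient.algebraMap_eq], ← TensorProduct.smul_tmul,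
        Algebra.smul_def, mul_comm, ← hc, mul_comm, ← Algebra.smul_def, TensorProduct.smul_tmul, Algebra.smul_def,
        mul_one, Ideal.Quotient.algebraMap_eq,
        Ideal.Quotient.eq_zero_iff_mem.mpr (Ideal.mem_span_singleton_self a), TensorProduct.tmul_zero]
    have hex : Function.Exact (LinearMap.ker φ).subtype φ := LinearMap.exact_subtype_ker_map φ
    obtain ⟨t, ht⟩ := ((Module.Flat.lTensor_exact S hex) _).mp h0
    have hs' : ε = TensorProduct.rid R S ((LinearMap.ker φ).subtype.lTensor S t) := by rw [ht]; simp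
    rw [hs']
    clear ht hs'
    induction t using TensorProduct.induction_on with
    | zero => simp
    | add x y hx hy => rw [map_add, map_add]; exact add_mem hx hy
    | tmul b c =>
      rw [LinearMap.lTensor_tmul, TensorProduct.rid_tmul, Algebra.smul_def]
      exact Ideal.mul_mem_right _ _ (Ideal.mem_map_of_mem _ c.2)

theorem exists_mem_sub_mem {R : Type u} [CommRing R] [IsNoetherianRing R] [IsLocalRing R] (E : Ideal R) (N : ℕ)
    {ε : AdicCompletion (maximalIdeal R) R} (hε : ε ∈ E.map (algebraMap R _)) :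
    ∃ b ∈ E, algebraMap R _ b - ε ∈ (maximalIdeal R ^ N * E).map (algebraMap R _) := by
  induction hε using Submodule.span_induction with
  | mem x hx => obtain ⟨e, he, rfl⟩ := hx; exact ⟨e, he, by simp⟩
  | zero => exact ⟨0, zero_mem _, by simp⟩
  | add x y _ _ hx hy =>
    obtain ⟨a, ha, ha'⟩ := hx
    obtain ⟨b, hb, hb'⟩ := hy
    exact ⟨a + b, add_mem ha hb, by rw [map_add, add_sub_add_comm]; exact add_mem ha' hb'⟩
  | smul c x hx' hx =>
    obtain ⟨a, ha, ha'⟩ := hx
    obtain ⟨c', hc'⟩ := H24Adic.exists_sub_of_mem (maximalIdeal R).fg_of_isNoetherianRing N c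
    refine ⟨c' * a, Ideal.mul_mem_left _ _ ha, ?_⟩
    have h1 : algebraMap R _ (c' * a) - c • x = c * (algebraMap R _ a - x) - (c - algebraMap R _ c') * algebraMap R _ a := by
      rw [map_mul, smul_eq_mul]; ring
    rw [h1]
    refine sub_mem (Ideal.mul_mem_left _ _ ha') ?_
    rw [Ideal.map_mul]
    exact Ideal.mul_mem_mul hc' (Ideal.mem_map_of_mem _ ha)

/-- Above a prime of coheight one there is only the maximal ideal. -/
theorem eq_maximalIdeal_of_lt_of_dim_one {R : Type u} [CommRing R] [IsLocalRing R] [IsNoetherianRing R]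
    {q r : Ideal R} [q.IsPrime] [r.IsPrime] (h1 : ringKrullDim (R ⧸ q) = 1) (hlt1 : q < r) : r = maximalIdeal R := by
  by_contra hne
  have hlt2 : r < maximalIdeal R := lt_of_le_of_ne (le_maximalIdeal (‹r.IsPrime›).ne_top) hne
  have hr := hlt1.le
  have : (r.map (Ideal.Quotient.mk q)).IsPrime := Ideal.isPrime_map_quotientMk_of_isPrime hr
  have hc : ∀ {I : Ideal R}, q ≤ I → (I.map (Ideal.Quotient.mk q)).comap (Ideal.Quotient.mk q) = I := fun hI => by
    rw [Ideal.comap_map_of_surjective' _ Ideal.Quotient.mk_surjective, Ideal.mk_ker, sup_eq_left.mpr hI]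
  have : IsLocalRing (R ⧸ q) := .of_surjective' _ Ideal.Quotient.mk_surjective
  have hlt : r.map (Ideal.Quotient.mk q) < maximalIdeal (R ⧸ q) := by
    rw [← IsLocalRing.map_maximalIdeal_of_surjective _ (Ideal.Quotient.mk_surjective (I := q))]
    exact lt_of_le_not_ge (Ideal.map_mono hlt2.le) fun h => hlt2.not_ge (by
      have := Ideal.comap_mono (f := Ideal.Quotient.mk q) h
      rwa [hc (hr.trans hlt2.le), hc hr] at this)
  have hne0 : r.map (Ideal.Quotient.mk q) ≠ ⊥ := by
    rw [Ne, Ideal.map_eq_bot_iff_le_ker, Ideal.mk_ker]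
    exact hlt1.not_ge
  have h3 : (1 : ℕ∞) ≤ (r.map (Ideal.Quotient.mk q)).height := by
    rw [Order.one_le_iff_pos, pos_iff_ne_zero, Ne, Ideal.height_eq_zero_iff_eq_bot]
    exact hne0
  have h4 := Ideal.height_strict_mono_of_isPrime hlt
  rw [← maximalIdeal_height_eq_ringKrullDim, WithBot.coe_eq_one] at h1
  rw [h1] at h4
  exact absurd (h3.trans_lt h4) (lt_irrefl _)

/-- Approximate idempotents attached to a minimal prime of coheight one of the completion: a fraction `b / a`
which is integral over `A` and close to the idempotent supported at `q`. -/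
theorem exists_fraction_of_minimalPrime_dim_one (A : Type u) [CommRing A] [IsNoetherianRing A] [IsLocalRing A] [IsDomain A]
    (h2 : (2 : WithBot ℕ∞) ≤ ringKrullDim A)
    (q : Ideal (AdicCompletion (maximalIdeal A) A)) (hq : q ∈ minimalPrimes (AdicCompletion (maximalIdeal A) A))
    (h1 : ringKrullDim (AdicCompletion (maximalIdeal A) A ⧸ q) = 1) :
    ∃ (k : ℕ) (a b z : A), a ≠ 0 ∧ z ∈ maximalIdeal A ∧ b * b - a * b = a * a * z ∧
      ∀ x ∈ maximalIdeal A ^ k, ∃ c : A, b * x = a * c ∧
        ∃ d ∈ maximalIdeal (AdicCompletion (maximalIdeal A) A) ^ (k + 1),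
          algebraMap A (AdicCompletion (maximalIdeal A) A) c - algebraMap A _ x - d ∈ q ∧
          ∀ (r : Ideal (AdicCompletion (maximalIdeal A) A)), r.IsPrime → ¬ q ≤ r →
            algebraMap A (AdicCompletion (maximalIdeal A) A) c - d ∈ r := by
  classical
  have := isNoetherianRing_adicCompletion A (maximalIdeal A)
  set S := AdicCompletion (maximalIdeal A) A
  set ι := algebraMap A S
  have hqp : q.IsPrime := hq.isPrime
  have : Module.FaithfullyFlat A S := Module.FaithfullyFlat.of_flat_of_isLocalHom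
  have hι : Function.Injective ι := FaithfulSMul.algebraMap_injective A S
  have hm : (maximalIdeal A).map ι = maximalIdeal S := AdicCompletion.maximalIdeal_eq_map.symm
  have hqA : q.comap ι = ⊥ := by
    have h := (minimalPrime_completion_spec hq).1
    rwa [IsDomain.minimalPrimes_eq_singleton_bot] at h
  have hreg : ∀ a : A, a ≠ 0 → ∀ u : S, ι a * u = 0 → u = 0 := fun a ha u hu => by
    have h := Module.Flat.isSMulRegular_of_isRegular (M := S) (IsRegular.of_ne_zero ha)
    exact h (by show a • u = a • 0; rw [smul_zero, Algebra.smul_def]; exact hu)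
  have hqm : q ≠ maximalIdeal S := fun h => by
    rw [h, ringKrullDim_eq_zero_of_isField ((Ideal.Quotient.maximal_ideal_iff_isField_quotient _).mp inferInstance)] at h1
    exact zero_ne_one h1
  have hprimes : ∀ (r : Ideal S) [r.IsPrime], q ≤ r → r = q ∨ r = maximalIdeal S := fun r _ hr =>
    (eq_or_ne r q).imp id fun h => eq_maximalIdeal_of_lt_of_dim_one h1 (lt_of_le_of_ne hr (Ne.symm h))
  -- the two components
  let I : Ideal S := RingHom.ker (algebraMap S (Localization.AtPrime q))
  have hI : ∀ u, u ∈ I ↔ ∃ t ∉ q, t * u = 0 := fun u => by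
    rw [RingHom.mem_ker, IsLocalization.map_eq_zero_iff q.primeCompl]
    exact ⟨fun ⟨t, ht⟩ => ⟨t, t.2, ht⟩, fun ⟨t, ht, h⟩ => ⟨⟨t, ht⟩, h⟩⟩
  have hIq : I ≤ q := fun u hu => by
    obtain ⟨t, ht, h⟩ := (hI u).mp hu
    exact (hqp.mem_or_mem (h ▸ zero_mem q : t * u ∈ q)).resolve_left ht
  have : Ring.KrullDimLE 0 (Localization.AtPrime q) := Ring.krullDimLE_iff.mpr (by
    rw [IsLocalization.AtPrime.ringKrullDim_eq_height q, Ideal.height_eq_zero_iff.mpr hq]; exact le_rfl)
  have : IsArtinianRing (Localization.AtPrime q) := isArtinianRing_iff_isNoetherianRing_krullDimLE_zero.mpr ⟨inferInstance, inferInstance⟩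
  obtain ⟨s, hs⟩ : ∃ s, q ^ s ≤ I := by
    obtain ⟨s, hs⟩ := IsArtinianRing.isNilpotent_jacobson_bot (R := Localization.AtPrime q)
    rw [IsLocalRing.jacobson_eq_maximalIdeal ⊥ bot_ne_top, ← Localization.AtPrime.map_eq_maximalIdeal, ← Ideal.map_pow] at hs
    exact ⟨s, fun u hu => Ideal.mem_bot.mp (hs.le (Ideal.mem_map_of_mem _ hu))⟩
  let L : Ideal S := Submodule.annihilator (q ^ s : Ideal S)
  have hL : ∀ {u}, u ∈ L → ∀ v ∈ q ^ s, u * v = 0 := fun hu v hv => Submodule.mem_annihilator.mp hu v hv
  have hLq : ¬ L ≤ q := by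
    obtain ⟨n, g, hg⟩ := Submodule.fg_iff_exists_fin_generating_family.mp (IsNoetherian.noetherian (q ^ s : Ideal S))
    choose t ht htg using fun i => (hI (g i)).mp (hs (hg ▸ Submodule.subset_span ⟨i, rfl⟩))
    intro hle
    have htL : ∏ i, t i ∈ L := by
      refine Submodule.mem_annihilator.mpr fun v hv => ?_
      rw [← hg] at hv
      induction hv using Submodule.span_induction with
      | mem x hx =>
        obtain ⟨i, rfl⟩ := hx
        rw [smul_eq_mul, ← Finset.prod_erase_mul _ _ (Finset.mem_univ i), mul_assoc, htg i, mul_zero]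
      | zero => simp
      | add x y _ _ hx hy => rw [smul_add, hx, hy, add_zero]
      | smul c x _ hx => rw [smul_comm, hx, smul_zero]
    obtain ⟨i, -, hi⟩ := Ideal.IsPrime.prod_mem_iff.mp (hle htL)
    exact ht i hi
  have hLr : ∀ (r : Ideal S) [r.IsPrime], ¬ q ≤ r → L ≤ r := fun r hr hqr u hu => by
    obtain ⟨v, hv, hvr⟩ := SetLike.not_le_iff_exists.mp hqr
    exact (hr.mem_or_mem ((hL hu _ (Ideal.pow_mem_pow hv s)).symm ▸ zero_mem r)).resolve_right
      fun h => hvr (hr.mem_of_pow_mem s h)
  obtain ⟨a₀, ha₀, ha₀0⟩ : ∃ a ∈ maximalIdeal A, a ≠ 0 := by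
    refine Submodule.exists_mem_ne_zero_of_ne_bot fun h => ?_
    rw [ringKrullDim_eq_zero_of_isField (IsLocalRing.isField_iff_maximalIdeal_eq.mpr h)] at h2
    exact absurd h2 (by decide)
  have hILbot : ∀ u, u ∈ I → u ∈ L → u = 0 := by
    intro u hu hu'
    obtain ⟨t, ht, htu⟩ := (hI u).mp hu
    let J : Ideal S := q ^ s ⊔ Ideal.span {t}
    have hJu : ∀ v ∈ J, v * u = 0 := by
      intro v hv
      obtain ⟨v₁, h₁, v₂, h₂, rfl⟩ := Submodule.mem_sup.mp hv
      obtain ⟨c, rfl⟩ := Ideal.mem_span_singleton'.mp h₂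
      rw [add_mul, mul_comm v₁, hL hu' _ h₁, mul_assoc, htu, mul_zero, add_zero]
    have hrad : maximalIdeal S ≤ J.radical := by
      rw [Ideal.radical_eq_sInf]
      refine le_sInf fun r hr => ?_
      have := hr.2
      have hqr : q ≤ r := Ideal.IsPrime.le_of_pow_le (le_sup_left.trans hr.1)
      rcases hprimes r hqr with h | h
      · exact absurd (h ▸ hr.1 (Ideal.mem_sup_right (Ideal.mem_span_singleton_self t))) ht
      · exact h.ge
    obtain ⟨j, hj⟩ := Ideal.exists_pow_le_of_le_radical_of_fg hrad (IsNoetherian.noetherian _)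
    refine hreg (a₀ ^ j) (pow_ne_zero _ ha₀0) u (hJu _ (hj ?_))
    rw [map_pow]
    exact Ideal.pow_mem_pow (hm ▸ Ideal.mem_map_of_mem _ ha₀) j
  obtain ⟨k, hk⟩ : ∃ k, maximalIdeal S ^ k ≤ I ⊔ L := by
    refine Ideal.exists_pow_le_of_le_radical_of_fg ?_ (IsNoetherian.noetherian _)
    rw [Ideal.radical_eq_sInf]
    refine le_sInf fun r hr => ?_
    have := hr.2
    have hqr : q ≤ r := Ideal.IsPrime.le_of_pow_le ((hs.trans le_sup_left).trans hr.1)
    rcases hprimes r hqr with h | h
    · exact absurd (h ▸ le_sup_right.trans hr.1) hLq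
    · exact h.ge
  have hmk : ∀ x ∈ maximalIdeal A ^ k, ι x ∈ I ⊔ L := fun x hx => hk (by
    rw [← hm, ← Ideal.map_pow]; exact Ideal.mem_map_of_mem _ hx)
  let a := a₀ ^ k
  have ha : a ∈ maximalIdeal A ^ k := Ideal.pow_mem_pow ha₀ k
  have ha0 : a ≠ 0 := pow_ne_zero _ ha₀0
  obtain ⟨i, hi, ε, hε, hiε⟩ := Submodule.mem_sup.mp (hmk a ha)
  have hii : i * ε = 0 := hILbot _ (Ideal.mul_mem_right _ _ hi) (Ideal.mul_mem_left _ _ hε)
  have hlmul : ∀ {x : S} {i' l' : S}, i' ∈ I → l' ∈ L → i' + l' = x → x * ε = ι a * l' := by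
    intro x i' l' hi' hl' h
    have e1 : i' * ε = 0 := hILbot _ (Ideal.mul_mem_right _ _ hi') (Ideal.mul_mem_left _ _ hε)
    have e2 : i * l' = 0 := hILbot _ (Ideal.mul_mem_right _ _ hi) (Ideal.mul_mem_left _ _ hl')
    rw [← h, ← hiε, add_mul, e1, add_mul, e2]; ring
  obtain ⟨E, hE, haE, hεE⟩ := mem_map_colon_of_flat a (maximalIdeal A ^ k) (IsNoetherian.noetherian _) ε fun g hg => by
    obtain ⟨i', hi', l', hl', h⟩ := Submodule.mem_sup.mp (hmk g hg)
    rw [mul_comm, hlmul hi' hl' h, mul_comm]
    exact Ideal.mul_mem_left _ _ (Ideal.mem_span_singleton_self _)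
  have hEm : E * maximalIdeal A ^ k ≤ Ideal.span {a} := Ideal.mul_le.mpr hE
  obtain ⟨b, hb, hδ⟩ := exists_mem_sub_mem E (2 * k + 1) hεE
  obtain ⟨z, hz, hbz⟩ : ∃ z ∈ maximalIdeal A, b * b - a * b = a * a * z := by
    have h : ι (b * b - a * b) ∈ (maximalIdeal A * Ideal.span {a * a}).map ι := by
      have heq : ι (b * b - a * b) = (ι b - ε) * (ι b + ε - ι a) := by
        simp only [map_sub, map_mul]
        linear_combination ε * hiε - hii
      rw [heq]
      have h' : ι b + ε - ι a ∈ E.map ι :=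
        sub_mem (add_mem (Ideal.mem_map_of_mem _ hb) hεE) (Ideal.mem_map_of_mem _ haE)
      have hm2 := Ideal.mul_mem_mul hδ h'
      rw [← Ideal.map_mul] at hm2
      refine Ideal.map_mono ?_ hm2
      calc maximalIdeal A ^ (2 * k + 1) * E * E
          = maximalIdeal A * ((E * maximalIdeal A ^ k) * (E * maximalIdeal A ^ k)) := by ring
        _ ≤ maximalIdeal A * (Ideal.span {a} * Ideal.span {a}) := Ideal.mul_mono_right (Ideal.mul_mono hEm hEm)
        _ = maximalIdeal A * Ideal.span {a * a} := by rw [Ideal.span_singleton_mul_span_singleton]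
    have h' : b * b - a * b ∈ maximalIdeal A * Ideal.span {a * a} := by
      rw [← Ideal.comap_map_eq_self_of_faithfullyFlat (B := S) (maximalIdeal A * Ideal.span {a * a})]
      exact h
    obtain ⟨z, hz, h⟩ := Ideal.mem_mul_span_singleton.mp h'
    exact ⟨z, hz, by rw [← h, mul_comm]⟩
  refine ⟨k, a, b, z, ha0, hz, hbz, fun x hx => ?_⟩
  obtain ⟨i', hi', l', hl', h⟩ := Submodule.mem_sup.mp (hmk x hx)
  obtain ⟨c, hc⟩ := Ideal.mem_span_singleton'.mp (hE b hb x hx)
  obtain ⟨d, hd, hd'⟩ : ∃ d ∈ maximalIdeal S ^ (2 * k + 1), (ι b - ε) * ι x = ι a * d := by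
    have hm2 := Ideal.mul_mem_mul hδ (Ideal.mem_map_of_mem ι hx)
    rw [← Ideal.map_mul] at hm2
    have h1 := Ideal.map_mono (f := ι) ((mul_assoc _ _ _).trans_le (Ideal.mul_mono_right hEm)) hm2
    rw [Ideal.map_mul, Ideal.map_span, Set.image_singleton, Ideal.map_pow, hm, Ideal.mem_mul_span_singleton] at h1
    obtain ⟨d, hd, h1⟩ := h1
    exact ⟨d, hd, by rw [← h1, mul_comm]⟩
  have hcd : ι c = l' + d := by
    refine sub_eq_zero.mp (hreg a ha0 _ ?_)
    have h3 := congrArg ι hc
    have h4 := hlmul hi' hl' h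
    simp only [map_mul] at h3
    linear_combination h3 + hd' + h4
  refine ⟨c, by rw [← hc, mul_comm], d, Ideal.pow_le_pow_right (by omega) hd, ?_, fun r _ hr => ?_⟩
  · rw [hcd, ← h, show l' + d - (i' + l') - d = -i' by ring]
    exact neg_mem (hIq hi')
  · rw [hcd, add_sub_cancel_right]
    exact hLr r hr hl'

/-- If `w` multiplies `m^k` into `m^(k+1)` modulo a prime `Q` which does not lie over the closed point,
then `w` lies in all maximal ideals containing `Q`. -/
theorem mem_maximal_of_forall_mul_mem {S C : Type u} [CommRing S] [IsLocalRing S] [IsNoetherianRing S] [CommRing C]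
    (j : S →+* C) (hj : j.IsIntegral) {Q N : Ideal C} [Q.IsPrime] [N.IsMaximal] (hQN : Q ≤ N)
    (hQ : ¬ maximalIdeal S ≤ Q.comap j) (k : ℕ) (w : C)
    (h : ∀ x ∈ maximalIdeal S ^ k, ∃ d ∈ maximalIdeal S ^ (k + 1), j x * w - j d ∈ Q) : w ∈ N := by
  by_contra hnot
  have : (N.map (Ideal.Quotient.mk Q)).IsPrime := Ideal.isPrime_map_quotientMk_of_isPrime hQN
  let D := Localization.AtPrime (N.map (Ideal.Quotient.mk Q))
  let ψ : C →+* D := (algebraMap (C ⧸ Q) D).comp (Ideal.Quotient.mk Q)
  have hcN : (N.map (Ideal.Quotient.mk Q)).comap (Ideal.Quotient.mk Q) = N := by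
    rw [Ideal.comap_map_of_surjective' _ Ideal.Quotient.mk_surjective, Ideal.mk_ker, sup_eq_left.mpr hQN]
  have hw : IsUnit (ψ w) := IsLocalization.map_units D
    (⟨Ideal.Quotient.mk Q w, fun h => hnot (hcN ▸ h : w ∈ N)⟩ : (N.map (Ideal.Quotient.mk Q)).primeCompl)
  have hNm : N.comap j = maximalIdeal S :=
    IsLocalRing.eq_maximalIdeal (Ideal.isMaximal_comap_of_isIntegral_of_isMaximal' j hj N)
  have hjac : (maximalIdeal S).map (ψ.comp j) ≤ Ideal.jacobson (⊥ : Ideal D) := by
    rw [IsLocalRing.jacobson_eq_maximalIdeal ⊥ bot_ne_top, Ideal.map_le_iff_le_comap, ← Ideal.comap_comap, ← hNm]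
    refine Ideal.comap_mono fun c hc => ?_
    show ψ c ∈ maximalIdeal D
    rw [← Localization.AtPrime.map_eq_maximalIdeal]
    exact Ideal.mem_map_of_mem _ (Ideal.mem_map_of_mem _ hc)
  have hJle : (maximalIdeal S ^ k).map (ψ.comp j) ≤
      (maximalIdeal S).map (ψ.comp j) * (maximalIdeal S ^ k).map (ψ.comp j) := by
    rw [Ideal.map_le_iff_le_comap]
    intro x hx
    obtain ⟨d, hd, hxd⟩ := h x hx
    have hψ : ψ (j x) * ψ w = ψ (j d) := by
      rw [← map_mul]
      exact congrArg (algebraMap (C ⧸ Q) D) (Ideal.Quotient.eq.mpr hxd)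
    rw [mul_comm] at hψ
    rw [Ideal.mem_comap, RingHom.comp_apply, ← Ideal.unit_mul_mem_iff_mem _ hw, hψ, ← Ideal.map_mul,
      ← pow_succ']
    exact Ideal.mem_map_of_mem (ψ.comp j) hd
  have hfg : ((maximalIdeal S ^ k).map (ψ.comp j)).FG :=
    Ideal.FG.map (IsNoetherian.noetherian (maximalIdeal S ^ k)) _
  have hJ0 : (maximalIdeal S ^ k).map (ψ.comp j) = ⊥ :=
    Submodule.eq_bot_of_le_smul_of_le_jacobson_bot ((maximalIdeal S).map (ψ.comp j)) _ hfg hJle hjac
  have hker : ∀ c, ψ c = 0 → c ∈ Q := fun c hc =>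
    Ideal.Quotient.eq_zero_iff_mem.mp ((map_eq_zero_iff _ (IsLocalization.injective D
      (Ideal.primeCompl_le_nonZeroDivisors (N.map (Ideal.Quotient.mk Q))))).mp hc)
  exact hQ (Ideal.IsPrime.le_of_pow_le (P := Q.comap j) (n := k) fun u hu => hker _
    (Ideal.mem_bot.mp (hJ0.le (Ideal.mem_map_of_mem (ψ.comp j) hu))))

/-- From the scalar hypothesis on generators to all of `m^k`. -/
theorem forall_mul_mem_of_forall_base {A S C : Type u} [CommRing A] [IsLocalRing A] [CommRing S] [IsLocalRing S]
    [CommRing C] (ι : A →+* S) (hm : (maximalIdeal A).map ι = maximalIdeal S) (j : S →+* C) (Q : Ideal C) (k : ℕ) (w : C)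
    (h : ∀ x ∈ maximalIdeal A ^ k, ∃ d ∈ maximalIdeal S ^ (k + 1), j (ι x) * w - j d ∈ Q) :
    ∀ x ∈ maximalIdeal S ^ k, ∃ d ∈ maximalIdeal S ^ (k + 1), j x * w - j d ∈ Q := by
  intro x hx
  rw [← hm, ← Ideal.map_pow] at hx
  induction hx using Submodule.span_induction with
  | mem x hx => obtain ⟨a, ha, rfl⟩ := hx; exact h a ha
  | zero => exact ⟨0, zero_mem _, by simp⟩
  | add x y _ _ hx hy =>
    obtain ⟨d, hd, hd'⟩ := hx
    obtain ⟨e, he, he'⟩ := hy
    refine ⟨d + e, add_mem hd he, ?_⟩
    rw [map_add, map_add, add_mul, add_sub_add_comm]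
    exact add_mem hd' he'
  | smul c x _ hx =>
    obtain ⟨d, hd, hd'⟩ := hx
    refine ⟨c * d, Ideal.mul_mem_left _ _ hd, ?_⟩
    rw [smul_eq_mul, map_mul, map_mul, mul_assoc, ← mul_sub]
    exact Ideal.mul_mem_left _ _ hd'

/-- In a universally catenary local domain of dimension at least two no minimal prime of the completion has
coheight one. -/
theorem false_of_minimalPrime_dim_one (A : Type u) [CommRing A] [IsNoetherianRing A] [IsLocalRing A] [IsDomain A]
    (hA : CAlg.IsUniversallyCatenary A) (h2 : (2 : WithBot ℕ∞) ≤ ringKrullDim A)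
    (q : Ideal (AdicCompletion (maximalIdeal A) A)) (hq : q ∈ minimalPrimes (AdicCompletion (maximalIdeal A) A))
    (h1 : ringKrullDim (AdicCompletion (maximalIdeal A) A ⧸ q) = 1) : False := by
  classical
  have := isNoetherianRing_adicCompletion A (maximalIdeal A)
  obtain ⟨k, a, b, z, ha0, hz, hbz, hcong⟩ := exists_fraction_of_minimalPrime_dim_one A h2 q hq h1
  have hqp : q.IsPrime := hq.isPrime
  have hm : (maximalIdeal A).map (algebraMap A (AdicCompletion (maximalIdeal A) A)) =
      maximalIdeal (AdicCompletion (maximalIdeal A) A) := AdicCompletion.maximalIdeal_eq_map.symm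
  have hqA : q.comap (algebraMap A (AdicCompletion (maximalIdeal A) A)) = ⊥ := by
    have h := (minimalPrime_completion_spec hq).1
    rwa [IsDomain.minimalPrimes_eq_singleton_bot] at h
  have hqm : ¬ maximalIdeal (AdicCompletion (maximalIdeal A) A) ≤ q := fun h => by
    rw [← le_antisymm h (le_maximalIdeal hqp.ne_top),
      ringKrullDim_eq_zero_of_isField ((Ideal.Quotient.maximal_ideal_iff_isField_quotient _).mp inferInstance)] at h1
    exact zero_ne_one h1
  let y₀ : FractionRing A := algebraMap A _ b / algebraMap A _ a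
  have haK : algebraMap A (FractionRing A) a ≠ 0 :=
    (map_ne_zero_iff _ (IsFractionRing.injective A (FractionRing A))).mpr ha0
  have hay : algebraMap A (FractionRing A) a * y₀ = algebraMap A _ b := mul_div_cancel₀ _ haK
  have hy₀ : y₀ * y₀ - y₀ = algebraMap A (FractionRing A) z := by
    refine mul_left_cancel₀ (mul_ne_zero haK haK) ?_
    have h := congrArg (algebraMap A (FractionRing A)) hbz
    simp only [map_sub, map_mul] at h
    linear_combination h + (algebraMap A (FractionRing A) a * y₀ + algebraMap A _ b - algebraMap A _ a) * hay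
  have hint : IsIntegral A y₀ := ⟨Polynomial.X * Polynomial.X - Polynomial.X - Polynomial.C z, by monicity!, by
    simp [hy₀]⟩
  let B := Algebra.adjoin A ({y₀} : Set (FractionRing A))
  have : Module.Finite A B := Module.Finite.of_fg hint.fg_adjoin_singleton
  let y : B := ⟨y₀, Algebra.self_mem_adjoin_singleton A y₀⟩
  have hxy : ∀ {x c : A}, b * x = a * c → algebraMap A B x * y = algebraMap A B c := by
    intro x c hc
    refine Subtype.ext (mul_left_cancel₀ haK ?_)
    have h := congrArg (algebraMap A (FractionRing A)) hc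
    simp only [map_mul] at h
    show algebraMap A _ a * (algebraMap A _ x * y₀) = algebraMap A _ a * algebraMap A _ c
    linear_combination h + algebraMap A (FractionRing A) x * hay
  letI iC : CommRing (B ⊗[A] AdicCompletion (maximalIdeal A) A) := Algebra.TensorProduct.instCommRing
  let j : @RingHom (AdicCompletion (maximalIdeal A) A) (B ⊗[A] AdicCompletion (maximalIdeal A) A)
      _ iC.toRing.toSemiring.toNonAssocSemiring :=
    (Algebra.TensorProduct.includeRight :
      AdicCompletion (maximalIdeal A) A →ₐ[A] B ⊗[A] AdicCompletion (maximalIdeal A) A).toRingHom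
  have hjint : j.IsIntegral := by
    have h1 : (algebraMap (AdicCompletion (maximalIdeal A) A) (AdicCompletion (maximalIdeal A) A ⊗[A] B)).IsIntegral :=
      Algebra.IsIntegral.isIntegral
    exact RingHom.IsIntegral.trans _ _ h1
      (RingHom.isIntegral_of_surjective (Algebra.TensorProduct.comm A (AdicCompletion (maximalIdeal A) A) B).toRingHom
        (Algebra.TensorProduct.comm A (AdicCompletion (maximalIdeal A) A) B).surjective)
  let iB : B →+* B ⊗[A] AdicCompletion (maximalIdeal A) A := algebraMap B _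
  have hjι : ∀ c : A, j (algebraMap A _ c) = iB (algebraMap A B c) := fun c => by
    show (Algebra.TensorProduct.includeRight : AdicCompletion (maximalIdeal A) A →ₐ[A] B ⊗[A] AdicCompletion (maximalIdeal A) A) (algebraMap A _ c) = _
    rw [AlgHom.commutes]
    exact IsScalarTower.algebraMap_apply A B _ c
  -- a prime over `q`
  let F := FractionRing (AdicCompletion (maximalIdeal A) A ⧸ q)
  let φ : AdicCompletion (maximalIdeal A) A →ₐ[A] F := IsScalarTower.toAlgHom A _ F
  have hφ : ∀ u, φ u = 0 ↔ u ∈ q := fun u => by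
    show algebraMap (AdicCompletion (maximalIdeal A) A) F u = 0 ↔ _
    rw [IsScalarTower.algebraMap_apply _ (AdicCompletion (maximalIdeal A) A ⧸ q) F,
      map_eq_zero_iff _ (IsFractionRing.injective _ F),
      Ideal.Quotient.algebraMap_eq, Ideal.Quotient.eq_zero_iff_mem]
  have hAF : Function.Injective (algebraMap A F) := by
    refine (injective_iff_map_eq_zero _).mpr fun c hc => ?_
    rw [← φ.commutes, hφ] at hc
    exact Ideal.mem_bot.mp (hqA ▸ hc : c ∈ (⊥ : Ideal A))
  let ψB : B →ₐ[A] F := (IsFractionRing.liftAlgHom (g := Algebra.ofId A F) hAF : FractionRing A →ₐ[A] F).comp B.val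
  let Φ : B ⊗[A] AdicCompletion (maximalIdeal A) A →ₐ[A] F :=
    Algebra.TensorProduct.lift ψB φ fun _ _ => mul_comm _ _
  let Q₀ : Ideal (B ⊗[A] AdicCompletion (maximalIdeal A) A) := RingHom.ker Φ
  have hQ₀ : Q₀.IsPrime := RingHom.ker_isPrime _
  have hΦj : ∀ u, Φ (j u) = φ u := fun u => by
    exact (Algebra.TensorProduct.lift_tmul ψB φ _ 1 u).trans (by rw [map_one, one_mul])
  obtain ⟨N, hN, hQN⟩ := Ideal.exists_le_maximal Q₀ hQ₀.ne_top
  have hy1 : iB y - 1 ∈ N := by
    refine mem_maximal_of_forall_mul_mem j hjint hQN (fun hle => hqm fun u hu => ?_) k _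
      (forall_mul_mem_of_forall_base _ hm j Q₀ k _ fun x hx => ?_)
    · have h := hle hu
      rw [Ideal.mem_comap, RingHom.mem_ker, hΦj] at h
      exact (hφ u).mp h
    · obtain ⟨c, hc, d, hd, hdq, -⟩ := hcong x hx
      refine ⟨d, hd, ?_⟩
      rw [mul_sub, mul_one, hjι x, ← map_mul, hxy hc, ← hjι c, ← hjι x, ← map_sub, ← map_sub, RingHom.mem_ker, hΦj]
      exact (hφ _).mpr hdq
  let n₁ := N.comap iB
  have hn₁ : n₁.comap (algebraMap A B) = maximalIdeal A := by
    have h1 : N.comap j = maximalIdeal _ :=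
      IsLocalRing.eq_maximalIdeal (Ideal.isMaximal_comap_of_isIntegral_of_isMaximal' j hjint N)
    have h2 : (N.comap iB).comap (algebraMap A B) = (N.comap j).comap (algebraMap A _) := by
      ext c
      show iB (algebraMap A B c) ∈ N ↔ j (algebraMap A _ c) ∈ N
      rw [hjι]
    exact h2.trans (h1 ▸ IsLocalRing.maximalIdeal_comap (algebraMap A (AdicCompletion (maximalIdeal A) A)))
  have : Algebra.IsIntegral A B := Algebra.IsIntegral.of_finite A B
  have : (n₁.comap (algebraMap A B)).IsMaximal := hn₁ ▸ maximalIdeal.isMaximal A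
  have hn₁max : n₁.IsMaximal := Ideal.isMaximal_of_isIntegral_of_isMaximal_comap n₁ ‹_›
  have : FaithfulSMul A B := (faithfulSMul_iff_algebraMap_injective A B).mpr
    fun c d h => IsFractionRing.injective A (FractionRing A) (congrArg Subtype.val h)
  have hht := height_eq_of_finite_extension hA n₁
  rw [hn₁] at hht
  rw [← maximalIdeal_height_eq_ringKrullDim, ← hht] at h2
  have : IsNoetherianRing B := IsNoetherianRing.of_finite A B
  have hle1 : n₁.height ≤ (1 : ℕ) := by
    refine Ideal.height_le_iff.mpr fun 𝔭 h𝔭 hlt => ?_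
    by_contra hne
    have h𝔭0 : 𝔭 ≠ ⊥ := fun h => hne (by rw [h, Ideal.height_bot]; exact zero_lt_one)
    have h𝔭A : 𝔭.comap (algebraMap A B) ≠ ⊥ := fun h => h𝔭0 (Ideal.eq_bot_of_comap_eq_bot h)
    have : N.LiesOver n₁ := ⟨rfl⟩
    obtain ⟨Q, hQN', hQ, hQ𝔭⟩ := Ideal.exists_ideal_le_liesOver_of_le (p := 𝔭) (q := n₁) N hlt.le
    have hQA : (Q.comap j).comap (algebraMap A _) = 𝔭.comap (algebraMap A B) := by
      ext c
      show j (algebraMap A _ c) ∈ Q ↔ algebraMap A B c ∈ 𝔭
      rw [hjι, hQ𝔭.over]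
      exact Iff.rfl
    have hQm : ¬ maximalIdeal (AdicCompletion (maximalIdeal A) A) ≤ Q.comap j := by
      intro hle
      refine hlt.ne (Ideal.IsMaximal.eq_of_le ?_ hn₁max.ne_top hlt.le)
      have hQj : Q.comap j = maximalIdeal _ := le_antisymm (le_maximalIdeal (Ideal.IsPrime.comap j).ne_top) hle
      have hc : 𝔭.comap (algebraMap A B) = maximalIdeal A := by
        rw [← hQA, hQj]
        exact IsLocalRing.maximalIdeal_comap (algebraMap A (AdicCompletion (maximalIdeal A) A))
      have : (𝔭.comap (algebraMap A B)).IsMaximal := hc ▸ maximalIdeal.isMaximal A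
      exact Ideal.isMaximal_of_isIntegral_of_isMaximal_comap 𝔭 this
    have hnqr : ¬ q ≤ Q.comap j := by
      intro hle
      have := Ideal.IsPrime.comap j (hK := hQ)
      rcases eq_or_ne (Q.comap j) q with h | h
      · exact h𝔭A (by rw [← hQA, h, hqA])
      · refine hQm (eq_maximalIdeal_of_lt_of_dim_one h1 (lt_of_le_of_ne hle (Ne.symm h))).ge
    have hy0 : iB y ∈ N := by
      refine mem_maximal_of_forall_mul_mem j hjint hQN' hQm k _
        (forall_mul_mem_of_forall_base _ hm j Q k _ fun x hx => ?_)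
      obtain ⟨c, hc, d, hd, -, hdr⟩ := hcong x hx
      refine ⟨d, hd, ?_⟩
      rw [hjι x, ← map_mul, hxy hc, ← hjι c, ← map_sub]
      exact hdr (Q.comap j) (Ideal.IsPrime.comap _) hnqr
    exact hN.ne_top ((Ideal.eq_top_iff_one _).mpr (by simpa using sub_mem hy0 hy1))
  exact absurd (h2.trans (WithBot.coe_le_coe.mpr hle1)) (by decide)

/-- Ratliff's theorem for domains. -/
theorem isFormallyEquidim_of_isUniversallyCatenary (A : Type u) [CommRing A] [IsNoetherianRing A] [IsLocalRing A]
    [IsDomain A] (hA : CAlg.IsUniversallyCatenary A) : EGA4.IsFormallyEquidim A := by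
  obtain ⟨n, hn⟩ := exists_dim_eq_nat A
  induction n using Nat.strong_induction_on generalizing A with
  | _ n ih =>
    intro q hq
    have := isNoetherianRing_adicCompletion A (maximalIdeal A)
    rw [ringKrullDim_adicCompletion, hn]
    set S := AdicCompletion (maximalIdeal A) A
    have hqp : q.IsPrime := hq.isPrime
    have hqA : q.comap (algebraMap A S) = ⊥ := by
      have h := (minimalPrime_completion_spec hq).1
      rwa [IsDomain.minimalPrimes_eq_singleton_bot] at h
    obtain ⟨d, hd⟩ := exists_nat_dim_quotient_eq q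
    have hdn : (d : WithBot ℕ∞) ≤ n := by
      rw [← hd, ← hn, ← ringKrullDim_adicCompletion A]; exact ringKrullDim_quotient_le q
    rw [hd]
    norm_cast at hdn ⊢
    have : IsLocalRing (S ⧸ q) := .of_surjective' _ Ideal.Quotient.mk_surjective
    by_cases hqm : q = maximalIdeal S
    · have h : ringKrullDim S = 0 := by
        rw [← maximalIdeal_height_eq_ringKrullDim, ← hqm, Ideal.height_eq_zero_iff.mpr hq]; rfl
      rw [ringKrullDim_adicCompletion, hn] at h
      norm_cast at h
      omega
    have hd0 : d ≠ 0 := by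
      rintro rfl
      rw [← maximalIdeal_height_eq_ringKrullDim, Nat.cast_zero, WithBot.coe_eq_zero, Ideal.height_eq_zero_iff_eq_bot,
        ← IsLocalRing.map_maximalIdeal_of_surjective _ (Ideal.Quotient.mk_surjective (I := q)),
        Ideal.map_eq_bot_iff_le_ker, Ideal.mk_ker] at hd
      exact hqm (le_antisymm (le_maximalIdeal hqp.ne_top) hd)
    rcases eq_or_ne d 1 with rfl | hd1
    · by_contra hne
      refine false_of_minimalPrime_dim_one A hA ?_ q hq (by exact_mod_cast hd)
      rw [hn]
      exact_mod_cast (show 2 ≤ n by omega)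
    -- `d ≥ 2`
    let Z : Set (Ideal S) := {R | R ≠ maximalIdeal S ∧ ∃ q' ∈ minimalPrimes S, q' ≠ q ∧ R ∈ (q ⊔ q').minimalPrimes}
    have hZ : Z.Finite := by
      refine Set.Finite.subset ((minimalPrimes.finite_of_isNoetherianRing S).biUnion
        fun q' _ => Ideal.finite_minimalPrimes_of_isNoetherianRing S (q ⊔ q')) ?_
      rintro R ⟨-, q', hq', -, hR⟩
      exact Set.mem_biUnion hq' hR
    let f : Ideal S → Ideal A := fun R => R.comap (algebraMap A S)
    obtain ⟨x, hxm, hxZ⟩ : ∃ x ∈ maximalIdeal A, ∀ R ∈ insert q Z, x ∉ f R := by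
      by_contra hcon
      push Not at hcon
      have hsub : (maximalIdeal A : Set A) ⊆ ⋃ R ∈ ((hZ.insert q).toFinset : Set (Ideal S)), (f R : Set A) := by
        intro x hx
        obtain ⟨R, hR, hxR⟩ := hcon x hx
        exact Set.mem_biUnion ((hZ.insert q).mem_toFinset.mpr hR) hxR
      rw [Ideal.subset_union_prime ⊤ ⊤ (fun R hR _ _ => by
        rcases (hZ.insert q).mem_toFinset.mp hR with rfl | ⟨-, q', -, -, hR'⟩
        · exact Ideal.IsPrime.comap _
        · have := hR'.isPrime; exact Ideal.IsPrime.comap _)] at hsub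
      obtain ⟨R, hR, hle⟩ := hsub
      have hRm : maximalIdeal S ≤ R := by
        rw [AdicCompletion.maximalIdeal_eq_map, Ideal.map_le_iff_le_comap]; exact hle
      rcases (hZ.insert q).mem_toFinset.mp hR with rfl | ⟨hne, q', -, -, hR'⟩
      · exact hqm (le_antisymm (le_maximalIdeal hqp.ne_top) hRm)
      · exact hne (le_antisymm (le_maximalIdeal hR'.isPrime.ne_top) hRm)
    have hxq : algebraMap A S x ∉ q := hxZ q (Set.mem_insert _ _)
    have hx0 : x ≠ 0 := fun h => hxq (by simp [h])
    have hxS : algebraMap A S x ∈ maximalIdeal S := map_nonunit _ _ hxm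
    obtain ⟨P, hP, -⟩ := Ideal.exists_minimalPrimes_le (I := q ⊔ Ideal.span {algebraMap A S x}) (J := maximalIdeal S)
      (sup_le (le_maximalIdeal hqp.ne_top) (by rwa [Ideal.span_le, Set.singleton_subset_iff]))
    have hPp : P.IsPrime := hP.isPrime
    have hxP : algebraMap A S x ∈ P := hP.le (Ideal.mem_sup_right (Ideal.mem_span_singleton_self _))
    have hqP : q < P := lt_of_le_of_ne (le_sup_left.trans hP.le) fun h => hxq (h ▸ hxP)
    have hPm : P ≠ maximalIdeal S := by
      intro h
      have hd' : (maximalIdeal (S ⧸ q)).height = d := by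
        rw [← maximalIdeal_height_eq_ringKrullDim] at hd; exact WithBot.coe_injective hd
      rw [← IsLocalRing.map_maximalIdeal_of_surjective _ (Ideal.Quotient.mk_surjective (I := q)), ← h,
        height_map_mk_eq_one_of_minimal hP hqP] at hd'
      exact hd1 (by exact_mod_cast hd'.symm)
    have honly : ∀ q' ∈ minimalPrimes S, q' ≤ P → q' = q := fun q' hq' hle => by
      by_contra hne
      exact hxZ P (Set.mem_insert_of_mem _ ⟨hPm, q', hq', hne, mem_minimalPrimes_sup_of_le hq hP hqP.le hq' hne hle⟩) hxP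
    have hPmin : P ∈ (Ideal.span {algebraMap A S x}).minimalPrimes := by
      refine ⟨⟨hPp, le_sup_right.trans hP.le⟩, fun R hR hRP => ?_⟩
      have := hR.1
      obtain ⟨q', hq', hq'R⟩ := Ideal.exists_minimalPrimes_le (bot_le : (⊥ : Ideal S) ≤ R)
      exact hP.2 ⟨hR.1, sup_le (honly q' hq' (hq'R.trans hRP) ▸ hq'R) hR.2⟩ hRP
    have hP1 : P.height ≤ 1 := Ideal.height_le_one_of_isPrincipal_of_mem_minimalPrimes _ _ hPmin
    let p := P.comap (algebraMap A S)
    have : P.LiesOver p := ⟨rfl⟩
    have hp0 : p ≠ ⊥ := fun h => hx0 (Ideal.mem_bot.mp (h ▸ hxP : x ∈ (⊥ : Ideal A)))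
    have hform := Ideal.height_eq_height_add_of_liesOver_of_hasGoingDown p P
    have hp1 : (1 : ℕ∞) ≤ p.height := by
      rw [Order.one_le_iff_pos, pos_iff_ne_zero, Ne, Ideal.height_eq_zero_iff_eq_bot]; exact hp0
    have hPp' : p.height = 1 ∧ (P.map (Ideal.Quotient.mk (p.map (algebraMap A S)))).height = 0 := by
      have := (P.map (Ideal.Quotient.mk (p.map (algebraMap A S)))).height
      have h' : p.height + (P.map (Ideal.Quotient.mk (p.map (algebraMap A S)))).height ≤ 1 := hform ▸ hP1
      have hp' : p.height = 1 := le_antisymm (le_self_add.trans h') hp1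
      refine ⟨hp', ?_⟩
      rw [hp'] at h'
      exact nonpos_iff_eq_zero.mp ((ENat.add_le_add_iff_left (by decide)).mp (h'.trans_eq (add_zero (1 : ℕ∞)).symm))
    have : (P.map (Ideal.Quotient.mk (p.map (algebraMap A S)))).IsPrime :=
      Ideal.isPrime_map_quotientMk_of_isPrime Ideal.map_comap_le
    have hPmin' : P ∈ (p.map (algebraMap A S)).minimalPrimes := by
      have h := mem_minimalPrimes_bot_map_iff.mp (Ideal.height_eq_zero_iff.mp hPp'.2)
      rwa [Ideal.comap_map_of_surjective' _ Ideal.Quotient.mk_surjective, Ideal.mk_ker,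
        sup_eq_left.mpr Ideal.map_comap_le] at h
    have hAcat : CAlg.IsCatenary A := hA.2 A inferInstance
    have e := height_add_dim_eq_of_isEquidim hAcat (isEquidim_of_isDomain A) p
    obtain ⟨d', hd'⟩ := exists_nat_dim_quotient_eq p
    rw [hPp'.1, hd', hn] at e
    norm_cast at e
    have : IsLocalRing (A ⧸ p) := .of_surjective' _ Ideal.Quotient.mk_surjective
    have h1 := ih d' (by omega) (A ⧸ p) (S9126.result A (A ⧸ p) hA) hd'
    rw [isFormallyEquidim_iff_of_surjective (A ⧸ p) (Ideal.Quotient.mk p) Ideal.Quotient.mk_surjective,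
      Ideal.mk_ker, isEquidim_quotient_iff] at h1
    have h2 := h1 P hPmin'
    rw [ringKrullDim_completion_quotient, hd'] at h2
    have : (P.map (Ideal.Quotient.mk q)).IsPrime := Ideal.isPrime_map_quotientMk_of_isPrime hqP.le
    have e' := height_add_dim_eq_of_isEquidim
      (isCatenary_of_surjective _ (Ideal.Quotient.mk_surjective (I := q)) (isCatenary_of_isAdicComplete S))
      (isEquidim_of_isDomain (S ⧸ q)) (P.map (Ideal.Quotient.mk q))
    have : (P.map (Ideal.Quotient.mk q)).IsPrime := Ideal.isPrime_map_quotientMk_of_isPrime hqP.le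
    rw [dimQuotQuot hqP.le, h2, hd, height_map_mk_eq_one_of_minimal hP hqP] at e'
    norm_cast at e'
    omega

/-- A universally catenary Noetherian local ring is formally catenary. -/
theorem isFormallyCatenary_of_isUniversallyCatenary (A : Type u) [CommRing A] [IsNoetherianRing A] [IsLocalRing A]
    (hA : CAlg.IsUniversallyCatenary A) : EGA4.IsFormallyCatenary A := fun p _ => by
  have : IsLocalRing (A ⧸ p) := .of_surjective' _ Ideal.Quotient.mk_surjective
  exact isFormallyEquidim_of_isUniversallyCatenary (A ⧸ p) (S9126.result A (A ⧸ p) hA)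

end Groth.Agent.H05EGA4
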