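import Mathlib
import Groth.Agent.H4Depth.Regular
import Groth.Agent.H4Depth.LocDepth
import Groth.Agent.H17.ZFinite.Hull

/-!
The height one hull of a quotient domain of a regular ring is finite.
-/

set_option autoImplicit false
universe u
open IsLocalRing LocCoh RingTheory.Sequence
open scoped Pointwise

namespace Groth.Agent.H05EGA4.HullRegular

variable {R : Type u} [CommRing R] [IsRegularRing R]

theorem depth_localization_eq_height (Q : Ideal R) [Q.IsPrime] :
    depth (Localization.AtPrime Q) (LocalizedModule Q.primeCompl R) = Q.height := by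
  have h := H4Depth.depth_self_eq_ringKrullDim_of_regular (Localization.AtPrime Q)
  rw [IsLocalization.AtPrime.ringKrullDim_eq_height Q (Localization.AtPrime Q)] at h
  have h' : depth (Localization.AtPrime Q) (Localization.AtPrime Q) = Q.height := WithBot.coe_inj.mp h
  exact h'

theorem exists_regular_sequence (P : Ideal R) [P.IsPrime] :
    ∃ rs : List R, (∀ r ∈ rs, r ∈ P) ∧ IsWeaklyRegular R rs ∧ (rs.length : ℕ∞) = P.height := by
  have hne : P • (⊤ : Submodule R R) ≠ ⊤ := by
    rw [smul_eq_mul, Ideal.mul_top]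
    exact Ideal.IsPrime.ne_top ‹_›
  obtain ⟨c, hc⟩ := ENat.ne_top_iff_exists.mp (Ideal.height_ne_top (Ideal.IsPrime.ne_top ‹P.IsPrime›))
  obtain ⟨Q, hQ, hPQ, hd⟩ := H4Depth.exists_prime_depth_localization_eq P R hne
  have hle : (c : ℕ∞) ≤ idealDepth P R := by
    rw [← hd, depth_localization_eq_height, hc]
    exact Ideal.height_mono hPQ
  obtain ⟨rs, hlen, hmem, hreg⟩ := H4Depth.exists_isWeaklyRegular_of_le_idealDepth hne hle
  exact ⟨rs, hmem, hreg, by rw [hlen, hc]⟩

variable {P : Ideal R} [P.IsPrime] {rs : List R}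

theorem height_of_ass (hreg : IsWeaklyRegular R rs) {Q : Ideal R}
    (hQ : Q ∈ associatedPrimes R (R ⧸ Ideal.ofList rs • (⊤ : Submodule R R))) :
    Ideal.ofList rs ≤ Q ∧ Q.height = rs.length := by
  obtain ⟨hQp, c, hc⟩ := isAssociatedPrime_iff.mp hQ
  have hle : Ideal.ofList rs ≤ Q := fun r hr => by
    rw [hc, Submodule.mem_colon_singleton, Submodule.mem_bot]
    obtain ⟨d, rfl⟩ := Submodule.Quotient.mk_surjective _ c
    rw [← Submodule.Quotient.mk_smul, Submodule.Quotient.mk_eq_zero]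
    exact Submodule.smul_mem_smul hr trivial
  refine ⟨hle, ?_⟩
  haveI := hQp
  rw [← depth_localization_eq_height]
  exact H4Depth.depth_localization_eq_length (M := R) Q rs hreg
    (fun r hr => hle (Ideal.subset_span hr)) hQ

theorem eq_of_ass (hmem : ∀ r ∈ rs, r ∈ P) (hreg : IsWeaklyRegular R rs) (hlen : (rs.length : ℕ∞) = P.height)
    {Q : Ideal R} (hQ : Q ∈ associatedPrimes R (R ⧸ Ideal.ofList rs • (⊤ : Submodule R R))) (hPQ : P ≤ Q) :
    Q = P := by
  haveI := hQ.isPrime
  refine (eq_or_lt_of_le hPQ).elim Eq.symm fun hlt => absurd (Ideal.height_add_one_le_of_lt_of_isPrime hlt) ?_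
  rw [← hlen, (height_of_ass hreg hQ).2, not_le]
  exact_mod_cast Nat.lt_succ_self _

theorem exists_socle (hmem : ∀ r ∈ rs, r ∈ P) (hreg : IsWeaklyRegular R rs) (hlen : (rs.length : ℕ∞) = P.height) :
    ∃ w : R ⧸ Ideal.ofList rs • (⊤ : Submodule R R), ∀ a : R, a • w = 0 ↔ a ∈ P := by
  classical
  set C := R ⧸ Ideal.ofList rs • (⊤ : Submodule R R) with hC
  have hne : P • (⊤ : Submodule R C) ≠ ⊤ := by
    intro h
    have hle : Ideal.ofList rs • (⊤ : Submodule R R) ≤ P := by
      rw [smul_eq_mul, Ideal.mul_top]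
      exact Ideal.span_le.mpr hmem
    have h1 : (Submodule.Quotient.mk (1 : R) : C) ∈ P • (⊤ : Submodule R C) := by rw [h]; trivial
    rw [← Submodule.range_mkQ (p := Ideal.ofList rs • (⊤ : Submodule R R)), LinearMap.range_eq_map,
      ← Submodule.map_smul'', Submodule.mem_map] at h1
    obtain ⟨a, ha, ha1⟩ := h1
    rw [Submodule.mkQ_apply, Submodule.Quotient.eq] at ha1
    rw [smul_eq_mul, Ideal.mul_top] at ha
    exact Ideal.IsPrime.ne_top ‹P.IsPrime› ((Ideal.eq_top_iff_one P).mpr ((sub_sub_cancel a 1) ▸ P.sub_mem ha (hle ha1)))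
  have hd : idealDepth P C = 0 := by
    by_contra h0
    obtain ⟨x, hx, hxr⟩ := (H4Depth.one_le_idealDepth_iff hne).1 (ENat.one_le_iff_ne_zero.mpr h0)
    have h2 : IsWeaklyRegular R (rs ++ [x]) := by
      rw [isWeaklyRegular_append_iff]
      exact ⟨hreg, (isWeaklyRegular_cons_iff _ x []).mpr ⟨hxr, IsWeaklyRegular.nil R _⟩⟩
    have h3 := H4Depth.length_le_idealDepth (I := P) h2 (by
      intro r hr
      rcases List.mem_append.mp hr with hr | hr
      · exact hmem r hr
      · simp only [List.mem_singleton] at hr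
        exact hr ▸ hx)
    have h4 := h3.trans (H4Depth.idealDepth_le_depth_localization P (le_refl P) (M := R))
    rw [depth_localization_eq_height, ← hlen, List.length_append, List.length_singleton] at h4
    exact absurd h4 (not_le.mpr (by exact_mod_cast Nat.lt_succ_self _))
  obtain ⟨Q, hQ, hPQ⟩ := (H4Depth.idealDepth_eq_zero_iff_exists_associatedPrime hne).mp hd
  rw [eq_of_ass hmem hreg hlen hQ hPQ] at hQ
  obtain ⟨-, w, hw⟩ := isAssociatedPrime_iff.mp hQ
  exact ⟨w, fun a => by rw [hw, Submodule.mem_colon_singleton, Submodule.mem_bot]⟩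

theorem exists_denominator (hmem : ∀ r ∈ rs, r ∈ P) (hreg : IsWeaklyRegular R rs)
    (hlen : (rs.length : ℕ∞) = P.height) (x : FractionRing (R ⧸ P)) :
    ∃ s a : R, IsSMulRegular (R ⧸ Ideal.ofList rs • (⊤ : Submodule R R)) s ∧
      algebraMap (R ⧸ P) (FractionRing (R ⧸ P)) (Ideal.Quotient.mk P a) =
        algebraMap (R ⧸ P) (FractionRing (R ⧸ P)) (Ideal.Quotient.mk P s) * x := by
  classical
  set C := R ⧸ Ideal.ofList rs • (⊤ : Submodule R R) with hC
  let D : Ideal R :=
    { carrier := {s | ∃ a : R, algebraMap (R ⧸ P) (FractionRing (R ⧸ P)) (Ideal.Quotient.mk P a) =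
        algebraMap (R ⧸ P) (FractionRing (R ⧸ P)) (Ideal.Quotient.mk P s) * x}
      add_mem' := by
        rintro s t ⟨a, ha⟩ ⟨b, hb⟩
        exact ⟨a + b, by rw [map_add, map_add, map_add, map_add, ha, hb, add_mul]⟩
      zero_mem' := ⟨0, by simp⟩
      smul_mem' := by
        rintro r s ⟨a, ha⟩
        exact ⟨r * a, by rw [smul_eq_mul, map_mul, map_mul, map_mul, map_mul, ha, mul_assoc]⟩ }
  have hPD : P ≤ D := fun s hs => ⟨0, by simp [Ideal.Quotient.eq_zero_iff_mem.mpr hs]⟩
  obtain ⟨⟨a, b⟩, hab⟩ := IsLocalization.surj (nonZeroDivisors (R ⧸ P)) x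
  obtain ⟨a', ha'⟩ := Ideal.Quotient.mk_surjective a
  obtain ⟨b', hb'⟩ := Ideal.Quotient.mk_surjective (b : R ⧸ P)
  have hbD : b' ∈ D := ⟨a', by rw [ha', hb', mul_comm]; exact hab.symm⟩
  have hbP : b' ∉ P := fun h => nonZeroDivisors.coe_ne_zero b (by rw [← hb']; exact Ideal.Quotient.eq_zero_iff_mem.mpr h)
  have hfin : (associatedPrimes R C).Finite := associatedPrimes.finite R C
  have hsub : ¬ (D : Set R) ⊆ ⋃ Q ∈ (hfin.toFinset : Set (Ideal R)), (Q : Set R) := by
    rw [Ideal.subset_union_prime (⊥ : Ideal R) (⊥ : Ideal R) fun Q hQ _ _ => (hfin.mem_toFinset.mp hQ).isPrime]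
    rintro ⟨Q, hQ, hDQ⟩
    have := eq_of_ass hmem hreg hlen (hfin.mem_toFinset.mp hQ) (hPD.trans hDQ)
    exact hbP (this ▸ hDQ hbD)
  obtain ⟨s, hsD, hs⟩ := Set.not_subset.mp hsub
  obtain ⟨a₀, ha₀⟩ := hsD
  refine ⟨s, a₀, ?_, ha₀⟩
  by_contra hsr
  refine hs ?_
  have : s ∈ ⋃ Q ∈ associatedPrimes R C, (Q : Set R) := by
    rw [biUnion_associatedPrimes_eq_compl_regular]
    exact hsr
  simpa using this

theorem exists_mem_smul (hmem : ∀ r ∈ rs, r ∈ P) (hreg : IsWeaklyRegular R rs)
    (hlen : (rs.length : ℕ∞) = P.height) {x : FractionRing (R ⧸ P)} (hx : x ∈ EGA4.heightOneHull (R ⧸ P))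
    {w : R ⧸ Ideal.ofList rs • (⊤ : Submodule R R)} (hw : ∀ a : R, a • w = 0 ↔ a ∈ P) {s a : R}
    (hs : IsSMulRegular (R ⧸ Ideal.ofList rs • (⊤ : Submodule R R)) s)
    (ha : algebraMap (R ⧸ P) (FractionRing (R ⧸ P)) (Ideal.Quotient.mk P a) =
        algebraMap (R ⧸ P) (FractionRing (R ⧸ P)) (Ideal.Quotient.mk P s) * x) :
    ∃ c, s • c = a • w := by
  classical
  by_contra hno
  obtain ⟨v, rfl⟩ := Submodule.Quotient.mk_surjective _ w
  have hreg' : IsWeaklyRegular R (rs ++ [s]) := by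
    rw [isWeaklyRegular_append_iff]
    exact ⟨hreg, (isWeaklyRegular_cons_iff _ s []).mpr ⟨hs, IsWeaklyRegular.nil R _⟩⟩
  have hofL : Ideal.ofList (rs ++ [s]) • (⊤ : Submodule R R) = Ideal.ofList rs ⊔ Ideal.span {s} := by
    rw [smul_eq_mul, Ideal.mul_top, Ideal.ofList_append, Ideal.ofList_singleton]
  have hmemC : ∀ z : R, (Submodule.Quotient.mk z : R ⧸ Ideal.ofList rs • (⊤ : Submodule R R)) = 0 ↔
      z ∈ Ideal.ofList rs := fun z => by rw [Submodule.Quotient.mk_eq_zero, smul_eq_mul, Ideal.mul_top]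
  set e : R ⧸ Ideal.ofList (rs ++ [s]) • (⊤ : Submodule R R) := Submodule.Quotient.mk (a * v) with he
  have hne : e ≠ 0 := by
    rw [he, ne_eq, Submodule.Quotient.mk_eq_zero, hofL]
    intro h
    obtain ⟨F, hF, G, hG, hFG⟩ := Submodule.mem_sup.mp h
    obtain ⟨z, rfl⟩ := Ideal.mem_span_singleton'.mp hG
    refine hno ⟨Submodule.Quotient.mk z, ?_⟩
    rw [← Submodule.Quotient.mk_smul, ← Submodule.Quotient.mk_smul, Submodule.Quotient.eq]
    simp only [smul_eq_mul, Ideal.mul_top]
    rw [← hFG]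
    convert neg_mem hF using 1
    ring
  obtain ⟨Q, hQ, hle⟩ := exists_le_isAssociatedPrime_of_isNoetherianRing R e hne
  haveI := hQ.isPrime
  have hIQ : ∀ t : R, t * (a * v) ∈ Ideal.ofList rs ⊔ Ideal.span {s} → t ∈ Q := fun t ht => hle (by
    rw [Submodule.mem_colon_singleton, Submodule.mem_bot, he, ← Submodule.Quotient.mk_smul,
      Submodule.Quotient.mk_eq_zero, hofL, smul_eq_mul]
    exact ht)
  have hPv : ∀ p ∈ P, p * v ∈ Ideal.ofList rs := fun p hp => by
    have := (hw p).mpr hp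
    rwa [← Submodule.Quotient.mk_smul, hmemC, smul_eq_mul] at this
  have hPQ : P ≤ Q := fun p hp => hIQ p (Submodule.mem_sup_left (by
    rw [mul_left_comm]; exact Ideal.mul_mem_left _ _ (hPv p hp)))
  have hsQ : s ∈ Q := hIQ s (Submodule.mem_sup_right (Ideal.mul_mem_right _ _ (Ideal.mem_span_singleton_self s)))
  have hsP : s ∉ P := fun h => by
    have h1 : s • (Submodule.Quotient.mk v : R ⧸ Ideal.ofList rs • (⊤ : Submodule R R)) = 0 := (hw s).mpr h
    have h2 := (hw 1).mp (by rw [one_smul]; exact hs.right_eq_zero_of_smul h1)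
    exact Ideal.IsPrime.ne_top ‹P.IsPrime› ((Ideal.eq_top_iff_one P).mpr h2)
  have hQh := (height_of_ass hreg' hQ).2
  have hQm : (Q.map (Ideal.Quotient.mk P)).IsPrime :=
    Ideal.map_isPrime_of_surjective Ideal.Quotient.mk_surjective (by rw [Ideal.mk_ker]; exact hPQ)
  have hht : (Q.map (Ideal.Quotient.mk P)).height = 1 := by
    have hcm : (Q.map (Ideal.Quotient.mk P)).comap (Ideal.Quotient.mk P) = Q := by
      rw [Ideal.comap_map_of_surjective _ Ideal.Quotient.mk_surjective, ← RingHom.ker_eq_comap_bot,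
        Ideal.mk_ker, sup_eq_left.2 hPQ]
    refine le_antisymm ?_ ?_
    · refine (Ideal.height_le_iff (n := 1)).mpr fun q hq hlt => ?_
      haveI := hq
      have h1 : q.comap (Ideal.Quotient.mk P) < Q := by
        refine lt_of_le_of_ne ((Ideal.comap_mono hlt.le).trans hcm.le) fun h => hlt.ne ?_
        rw [← Ideal.map_comap_of_surjective _ Ideal.Quotient.mk_surjective q, h]
      have h2 : P ≤ q.comap (Ideal.Quotient.mk P) := fun p hp => by
        rw [Ideal.mem_comap, Ideal.Quotient.eq_zero_iff_mem.mpr hp]; exact zero_mem _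
      rcases eq_or_lt_of_le h2 with h2 | h2
      · have hq0 : q = ⊥ := by
          rw [← Ideal.map_comap_of_surjective _ Ideal.Quotient.mk_surjective q, ← h2, Ideal.map_quotient_self]
        subst hq0
        rw [Ideal.height_bot]
        exact zero_lt_one
      · exfalso
        have e1 := Ideal.height_add_one_le_of_lt_of_isPrime h2
        have e2 := Ideal.height_add_one_le_of_lt_of_isPrime h1
        have e3 := le_trans (add_le_add e1 le_rfl) e2
        rw [hQh, ← hlen, List.length_append, List.length_singleton] at e3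
        have e4 : rs.length + 1 + 1 ≤ rs.length + 1 := by exact_mod_cast e3
        omega
    · rw [Order.one_le_iff_ne_zero, ne_eq, Ideal.height_eq_zero_iff_eq_bot]
      intro hmin
      refine hsP (Ideal.Quotient.eq_zero_iff_mem.mp ?_)
      have := Ideal.mem_map_of_mem (Ideal.Quotient.mk P) hsQ
      rwa [hmin, Ideal.mem_bot] at this
  obtain ⟨t, ht, b, hb⟩ := hx (Q.map (Ideal.Quotient.mk P)) hht
  obtain ⟨t', rfl⟩ := Ideal.Quotient.mk_surjective t
  obtain ⟨b', rfl⟩ := Ideal.Quotient.mk_surjective b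
  have hz : t' * a - b' * s ∈ P := by
    rw [← Ideal.Quotient.eq_zero_iff_mem]
    refine IsFractionRing.injective (R ⧸ P) (FractionRing (R ⧸ P)) ?_
    simp only [map_sub, map_mul, map_zero, ha, hb]
    ring
  refine ht (Ideal.mem_map_of_mem _ (hIQ t' ?_))
  have : t' * (a * v) = (t' * a - b' * s) * v + b' * v * s := by ring
  rw [this]
  exact add_mem (Submodule.mem_sup_left (hPv _ hz)) (Submodule.mem_sup_right (Ideal.mul_mem_left _ _
    (Ideal.mem_span_singleton_self s)))

variable (P) in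
theorem heightOneHullFinite : EGA4.HeightOneHullFinite (R ⧸ P) := by
  classical
  obtain ⟨rs, hmem, hreg, hlen⟩ := exists_regular_sequence P
  set C := R ⧸ Ideal.ofList rs • (⊤ : Submodule R R)
  obtain ⟨w, hw⟩ := exists_socle hmem hreg hlen
  set K := FractionRing (R ⧸ P)
  rw [H17.ZFinite.heightOneHullFinite_iff]
  set H := (H17.ZFinite.hullMod (R ⧸ P))
  -- the graph of the embedding
  let Rel : H → C → Prop := fun x c => ∃ s a : R, IsSMulRegular C s ∧
    algebraMap (R ⧸ P) K (Ideal.Quotient.mk P a) = algebraMap (R ⧸ P) K (Ideal.Quotient.mk P s) * x.1 ∧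
    s • c = a • w
  have hex : ∀ x : H, ∃ c, Rel x c := fun x => by
    obtain ⟨s, a, hs, ha⟩ := exists_denominator hmem hreg hlen x.1
    obtain ⟨c, hc⟩ := exists_mem_smul hmem hreg hlen x.2 hw hs ha
    exact ⟨c, s, a, hs, ha, hc⟩
  have huniq : ∀ x c d, Rel x c → Rel x d → c = d := by
    rintro x c d ⟨s, a, hs, ha, hc⟩ ⟨t, b, ht, hb, hd⟩
    refine hs (ht ?_)
    show t • s • c = t • s • d
    have hz : t * a - s * b ∈ P := by
      rw [← Ideal.Quotient.eq_zero_iff_mem]
      refine IsFractionRing.injective (R ⧸ P) K ?_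
      simp only [map_sub, map_mul, map_zero, ha, hb]
      ring
    have h0 := (hw _).mpr hz
    rw [sub_smul, sub_eq_zero] at h0
    rw [hc, smul_comm t s d, hd, smul_smul, smul_smul, h0]
  choose φ hφ using hex
  have hadd : ∀ x y, φ (x + y) = φ x + φ y := fun x y => by
    refine huniq _ _ _ (hφ _) ?_
    obtain ⟨s, a, hs, ha, hc⟩ := hφ x
    obtain ⟨t, b, ht, hb, hd⟩ := hφ y
    refine ⟨s * t, t * a + s * b, hs.mul ht, ?_, ?_⟩
    · simp only [map_add, map_mul, ha, hb, Submodule.coe_add]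
      ring
    · rw [smul_add, add_smul, mul_smul t a, mul_smul s b, ← hc, ← hd, mul_smul, mul_smul, smul_comm t s (φ x)]
  have hsmul : ∀ (r : R) x, φ (r • x) = r • φ x := fun r x => by
    refine huniq _ _ _ (hφ _) ?_
    obtain ⟨s, a, hs, ha, hc⟩ := hφ x
    refine ⟨s, r * a, hs, ?_, ?_⟩
    · rw [map_mul, map_mul, ha]
      show _ = _ * (r • x.1)
      rw [Algebra.smul_def r x.1, IsScalarTower.algebraMap_apply R (R ⧸ P) K, Ideal.Quotient.algebraMap_eq]
      ring
    · rw [smul_comm, hc, mul_smul]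
  let Φ : H →ₗ[R] C := { toFun := φ, map_add' := hadd, map_smul' := hsmul }
  have hinj : Function.Injective Φ := (injective_iff_map_eq_zero Φ).mpr fun x hx => by
    obtain ⟨s, a, hs, ha, hc⟩ := hφ x
    rw [show φ x = 0 from hx, smul_zero] at hc
    have haP := (hw a).mp hc.symm
    rw [Ideal.Quotient.eq_zero_iff_mem.mpr haP, map_zero] at ha
    refine Subtype.ext ((mul_eq_zero.mp ha.symm).resolve_left fun h0 => ?_)
    have hsP : s ∈ P := Ideal.Quotient.eq_zero_iff_mem.mp (IsFractionRing.injective (R ⧸ P) K (by simpa using h0))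
    have h1 : w = 0 := hs.right_eq_zero_of_smul ((hw s).mpr hsP)
    exact Ideal.IsPrime.ne_top ‹P.IsPrime› ((Ideal.eq_top_iff_one P).mpr ((hw 1).mp (by simp [h1])))
  haveI : Module.Finite R H := Module.Finite.of_injective Φ hinj
  exact Module.Finite.iff_fg.1 (Module.Finite.of_restrictScalars_finite R (R ⧸ P) H)

/-- Quotient domains of quotients of regular rings. -/
theorem heightOneHullFinite_of_surjective {A : Type u} [CommRing A] (f : R →+* A) (hf : Function.Surjective f)
    (q : Ideal A) [q.IsPrime] : EGA4.HeightOneHullFinite (A ⧸ q) := by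
  haveI : (RingHom.ker ((Ideal.Quotient.mk q).comp f)).IsPrime := RingHom.ker_isPrime _
  exact H17.ZFinite.heightOneHullFinite_of_ringEquiv
    (RingHom.quotientKerEquivOfSurjective (f := (Ideal.Quotient.mk q).comp f)
      (Ideal.Quotient.mk_surjective.comp hf))
    (heightOneHullFinite _)

end Groth.Agent.H05EGA4.HullRegular
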