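import Mathlib
import Groth.Prelude.Def_EGA4c
import Groth.Agent.H1CAlg.Associated
import Groth.Agent.H4Depth.CM

/-!
Closedness along a subset of `Spec A` is depth at least two (EGA IV 5.10.5).
-/

set_option autoImplicit false
universe u
open AlgebraicGeometry CategoryTheory Opposite IsLocalRing LocCoh
open scoped Pointwise

namespace Groth.Agent.H05EGA4.ClosedAlong

variable {A : Type u} [CommRing A] {M : Type u} [AddCommGroup M] [Module A M]

/-- The sections of `M~` on an open, as functions. -/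
abbrev Sec (A M : Type u) [CommRing A] [AddCommGroup M] [Module A M]
    (U : TopologicalSpace.Opens (PrimeSpectrum.Top A)) : Type u :=
  (structureSheafInType A M).obj.obj (op U)

/-- The complement of `V(J)`, as an open of the prime spectrum. -/
abbrev UJ (A : Type u) [CommRing A] (J : Ideal A) : TopologicalSpace.Opens (PrimeSpectrum.Top A) :=
  EGA4.openCompl A J

instance (priority := high) isPrime_top (x : PrimeSpectrum.Top A) : x.asIdeal.IsPrime := x.isPrime

theorem eq_zero_of_smul_localized {q : PrimeSpectrum.Top A} {r : A} (hr : r ∉ q.asIdeal)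
    {z : LocalizedModule q.asIdeal.primeCompl M} (h : r • z = 0) : z = 0 := by
  induction z using LocalizedModule.induction_on with
  | _ m t =>
    rw [LocalizedModule.smul'_mk, ← LocalizedModule.zero_mk 1, LocalizedModule.mk_eq] at h
    obtain ⟨w, hw⟩ := h
    rw [← LocalizedModule.zero_mk 1, LocalizedModule.mk_eq]
    exact ⟨w * ⟨r, hr⟩, by simpa [Submonoid.smul_def, mul_smul] using hw⟩

theorem mem_UJ {J : Ideal A} {y : PrimeSpectrum.Top A} : y ∈ UJ A J ↔ ¬ J ≤ y.asIdeal := Iff.rfl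

theorem bijective_restrCompl_iff (J : Ideal A) :
    Function.Bijective (EGA4.restrCompl A J M) ↔
      Function.Bijective (StructureSheaf.toOpenₗ A M (UJ A J)) := by
  have h := Function.Bijective.of_comp_iff (EGA4.restrCompl A J M)
    (StructureSheaf.toOpenₗ_top_bijective (R := A) (M := M))
  exact ⟨fun hb => h.mpr hb, fun hb => h.mp hb⟩

theorem isCompact_UJ [IsNoetherianRing A] (J : Ideal A) :
    IsCompact (UJ A J : Set (PrimeSpectrum.Top A)) := by
  haveI : TopologicalSpace.NoetherianSpace (PrimeSpectrum.Top A) :=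
    inferInstanceAs (TopologicalSpace.NoetherianSpace (PrimeSpectrum A))
  exact TopologicalSpace.NoetherianSpace.isCompact _

/-- A section vanishing at `p` is killed by some element outside `p`. -/
theorem exists_smul_eq_zero {U : TopologicalSpace.Opens (PrimeSpectrum.Top A)}
    (hU : IsCompact (U : Set (PrimeSpectrum.Top A)))
    (D : Sec A M U) (p : PrimeSpectrum.Top A) (hp : p ∈ U) (h0 : D.1 ⟨p, hp⟩ = 0) :
    ∃ v : A, v ∉ p.asIdeal ∧ v • D = 0 := by
  classical
  choose g hxg igU f H using fun x : U => StructureSheaf.exists_const (R := A) (M := M) U D x.1 x.2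
  have hev : ∀ (x : U) (y : PrimeSpectrum.Top A) (hy : y ∈ U) (hyx : g x ∉ y.asIdeal),
      D.1 ⟨y, hy⟩ = LocalizedModule.mk (f x) ⟨g x, hyx⟩ := fun x y hy hyx =>
    (congrArg (fun s => s.1 ⟨y, hyx⟩) (H x)).symm
  set g₀ := g ⟨p, hp⟩ with hg₀
  have h1 := (hev ⟨p, hp⟩ p hp (hxg ⟨p, hp⟩)).symm.trans h0
  rw [← LocalizedModule.zero_mk 1, LocalizedModule.mk_eq] at h1
  obtain ⟨u, hu⟩ := h1
  have hu' : (u : A) • f ⟨p, hp⟩ = 0 := by simpa [Submonoid.smul_def] using hu
  have hn : ∀ x : U, ∃ n : ℕ, (g x * g₀) ^ n • (u : A) • f x = 0 := by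
    intro x
    have h2 : StructureSheaf.toOpenₗ A M (PrimeSpectrum.basicOpen (g x * g₀)) ((u : A) • f x) =
        StructureSheaf.toOpenₗ A M (PrimeSpectrum.basicOpen (g x * g₀)) 0 := by
      rw [map_zero]
      refine Subtype.ext (funext fun y => ?_)
      have hy : g x * g₀ ∉ y.1.asIdeal := y.2
      have hyx : g x ∉ y.1.asIdeal := fun h => hy (Ideal.mul_mem_right _ _ h)
      have hy0 : g₀ ∉ y.1.asIdeal := fun h => hy (Ideal.mul_mem_left _ _ h)
      have h3 := congrArg ((u : A) • ·)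
        ((hev x y.1 (igU x hyx) hyx).symm.trans (hev ⟨p, hp⟩ y.1 (igU x hyx) hy0))
      simp only [LocalizedModule.smul'_mk, hu', LocalizedModule.zero_mk] at h3
      rw [← LocalizedModule.zero_mk 1, LocalizedModule.mk_eq] at h3
      obtain ⟨w, hw⟩ := h3
      show LocalizedModule.mk ((u : A) • f x) (⟨1, _⟩ : y.1.asIdeal.primeCompl) = 0
      rw [← LocalizedModule.zero_mk 1, LocalizedModule.mk_eq]
      exact ⟨w, by simpa [Submonoid.smul_def] using hw⟩
    obtain ⟨⟨_, n, rfl⟩, hn⟩ := IsLocalizedModule.exists_of_eq (S := Submonoid.powers (g x * g₀)) h2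
    exact ⟨n, by simpa [Submonoid.smul_def] using hn⟩
  choose n hn using hn
  obtain ⟨t, ht⟩ := hU.elim_finite_subcover
    (fun x : U => (PrimeSpectrum.basicOpen (g x) : Set (PrimeSpectrum A)))
    (fun _ => (PrimeSpectrum.basicOpen _).2) (fun x hx => Set.mem_iUnion_of_mem ⟨x, hx⟩ (hxg _))
  refine ⟨g₀ ^ t.sup n * (u : A),
    p.asIdeal.primeCompl.mul_mem (pow_mem (show g₀ ∈ p.asIdeal.primeCompl from hxg ⟨p, hp⟩) _) u.2, Subtype.ext (funext fun y => ?_)⟩
  obtain ⟨x, hx, hyx⟩ := Set.mem_iUnion₂.mp (ht y.2)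
  show (g₀ ^ t.sup n * (u : A)) • D.1 y = 0
  rw [hev x y.1 y.2 hyx, LocalizedModule.smul'_mk, ← LocalizedModule.zero_mk 1, LocalizedModule.mk_eq]
  refine ⟨⟨g x ^ n x, pow_mem (show g x ∈ y.1.asIdeal.primeCompl from hyx) _⟩, ?_⟩
  simp only [Submonoid.smul_def, OneMemClass.coe_one, one_smul, smul_zero]
  obtain ⟨k, hk⟩ := Nat.exists_eq_add_of_le (Finset.le_sup (f := n) hx)
  rw [hk, smul_smul, show g x ^ n x * (g₀ ^ (n x + k) * (u : A)) = g₀ ^ k * ((g x * g₀) ^ n x * u) by ring,
    mul_smul, mul_smul, hn x, smul_zero]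

variable [IsNoetherianRing A]

/-- At a point of the open, the restriction map is bijective after localization. -/
theorem bijective_map (J : Ideal A) (p : Ideal A) [p.IsPrime] (hJ : ¬ J ≤ p) :
    Function.Bijective (LocalizedModule.map p.primeCompl
      (StructureSheaf.toOpenₗ A M (UJ A J))) := by
  set φ := StructureSheaf.toOpenₗ A M (UJ A J) with hφ
  have hmem : (⟨p, inferInstance⟩ : PrimeSpectrum A) ∈ UJ A J := hJ
  refine ⟨?_, ?_⟩
  · refine (injective_iff_map_eq_zero _).mpr fun z hz => ?_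
    induction z using LocalizedModule.induction_on with
    | _ m t =>
      rw [LocalizedModule.map_mk, ← LocalizedModule.zero_mk 1, LocalizedModule.mk_eq] at hz
      obtain ⟨v, hv⟩ := hz
      have hv' : (v : A) • φ m = 0 := by simpa [Submonoid.smul_def] using hv
      have h2 := congrArg (fun s : Sec A M (UJ A J) => s.1 ⟨⟨p, inferInstance⟩, hmem⟩) hv'
      change (v : A) • LocalizedModule.mk m (⟨1, _⟩ : p.primeCompl) = 0 at h2
      rw [LocalizedModule.smul'_mk, ← LocalizedModule.zero_mk 1, LocalizedModule.mk_eq] at h2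
      obtain ⟨w, hw⟩ := h2
      rw [← LocalizedModule.zero_mk 1, LocalizedModule.mk_eq]
      exact ⟨w * v, by simpa [Submonoid.smul_def, mul_smul] using hw⟩
  · intro z
    induction z using LocalizedModule.induction_on with
    | _ D t =>
      obtain ⟨⟨m, s⟩, hms⟩ : ∃ ms : M × p.primeCompl,
          D.1 ⟨⟨p, inferInstance⟩, hmem⟩ = LocalizedModule.mk ms.1 ms.2 := by
        induction D.1 ⟨⟨p, inferInstance⟩, hmem⟩ using LocalizedModule.induction_on with
        | _ m s => exact ⟨(m, s), rfl⟩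
      have h0 : ((s : A) • D - φ m).1 ⟨⟨p, inferInstance⟩, hmem⟩ = 0 := by
        show (s : A) • D.1 ⟨⟨p, inferInstance⟩, hmem⟩ - LocalizedModule.mk m (⟨1, _⟩ : p.primeCompl) = 0
        rw [hms, sub_eq_zero, LocalizedModule.smul'_mk, LocalizedModule.mk_eq]
        exact ⟨1, by simp [Submonoid.smul_def]⟩
      obtain ⟨v, hv, hv0⟩ := exists_smul_eq_zero (isCompact_UJ J) _ ⟨p, inferInstance⟩ hmem h0
      refine ⟨LocalizedModule.mk m (s * t), ?_⟩
      rw [LocalizedModule.map_mk, LocalizedModule.mk_eq]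
      refine ⟨⟨v, hv⟩, ?_⟩
      rw [smul_sub, sub_eq_zero] at hv0
      show v • (t : A) • φ m = v • ((s : A) * (t : A)) • D
      rw [smul_comm v (t : A), ← hv0, mul_smul, smul_comm (t : A), smul_comm (s : A) (t : A)]

theorem notMem_associatedPrimes (J : Ideal A) (p : Ideal A) (hJ : J ≤ p) :
    p ∉ associatedPrimes A (Sec A M (UJ A J)) := by
  intro hp
  obtain ⟨hpp, D, hD⟩ := isAssociatedPrime_iff.mp hp
  refine hpp.ne_top ?_
  have hD0 : D = 0 := by
    refine Subtype.ext (funext fun y => ?_)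
    obtain ⟨r, hrJ, hry⟩ := SetLike.not_le_iff_exists.mp (mem_UJ.mp y.2)
    have hr : r • D = 0 := by
      have := hD.le (hJ hrJ)
      rwa [Submodule.mem_colon_singleton, Submodule.mem_bot] at this
    have h2 := congrArg (fun s : Sec A M (UJ A J) => s.1 y) hr
    change r • D.1 y = 0 at h2
    exact eq_zero_of_smul_localized hry h2
  subst hD0
  rw [hD, Ideal.eq_top_iff_one, Submodule.mem_colon_singleton, Submodule.mem_bot, smul_zero]

variable [Module.Finite A M]

theorem isClosedAlong_of_depth (Z : Set (PrimeSpectrum A))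
    (h : ∀ p : PrimeSpectrum A, p ∈ Z → (2 : ℕ∞) ≤ depth (Localization.AtPrime p.asIdeal)
      (LocalizedModule p.asIdeal.primeCompl M)) : EGA4.IsClosedAlong Z M := by
  intro J hJ
  rw [bijective_restrCompl_iff]
  refine H1CAlg.bijective_of_depth_two _ fun p hp => ?_
  by_cases hle : J ≤ p
  · exact Or.inr ⟨h ⟨p, hp⟩ (hJ hle), notMem_associatedPrimes J p hle⟩
  · exact Or.inl (bijective_map J p hle)

variable {Z : Set (PrimeSpectrum A)} (hZ : StableUnderSpecialization Z) (hM : EGA4.IsClosedAlong Z M)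

include hZ in
theorem zeroLocus_subset (p : PrimeSpectrum A) (hp : p ∈ Z) :
    PrimeSpectrum.zeroLocus (p.asIdeal : Set A) ⊆ Z := fun q hq =>
  hZ ((PrimeSpectrum.le_iff_specializes p q).mp hq) hp

include hZ hM in
/-- an element of `p` annihilates no nonzero element killed by `p` -/
theorem eq_zero_of_killed (p : PrimeSpectrum A) (hp : p ∈ Z) (m : M)
    (hm : ∀ r ∈ p.asIdeal, r • m = 0) : m = 0 := by
  have hb := (bijective_restrCompl_iff p.asIdeal).mp (hM _ (zeroLocus_subset hZ p hp))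
  refine hb.1 (Subtype.ext (funext fun y => ?_))
  rw [map_zero]
  obtain ⟨r, hr, hry⟩ := SetLike.not_le_iff_exists.mp (mem_UJ.mp y.2)
  show LocalizedModule.mk m (⟨1, _⟩ : y.1.asIdeal.primeCompl) = 0
  rw [← LocalizedModule.zero_mk 1, LocalizedModule.mk_eq]
  exact ⟨⟨r, hry⟩, by simpa [Submonoid.smul_def] using hm r hr⟩

include hZ hM in
/-- division by an element regular at `p` -/
theorem exists_smul_eq (p : PrimeSpectrum A) (hp : p ∈ Z) (a : A)
    (ha : ∀ m : M, a • m = 0 → ∃ v ∉ p.asIdeal, v • m = 0) (x : M)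
    (hx : ∀ r ∈ p.asIdeal, ∃ v ∉ p.asIdeal, ∃ m : M, v • r • x = a • m) :
    ∃ v ∉ p.asIdeal, ∃ m : M, v • x = a • m := by
  classical
  have hcl : ∀ s : Finset A, (∀ r ∈ s, r ∈ p.asIdeal) →
      ∃ v ∉ p.asIdeal, ∀ r ∈ s, ∃ m : M, r • v • x = a • m := by
    intro s
    induction s using Finset.induction_on with
    | empty => exact fun _ => ⟨1, p.isPrime.one_notMem, by simp⟩
    | insert r s hrs ih =>
      intro hs
      obtain ⟨v, hv, hvs⟩ := ih fun r' hr' => hs r' (Finset.mem_insert_of_mem hr')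
      obtain ⟨w, hw, m, hm⟩ := hx r (hs r (Finset.mem_insert_self r s))
      refine ⟨w * v, p.asIdeal.primeCompl.mul_mem hw hv, fun r' hr' => ?_⟩
      rcases Finset.mem_insert.mp hr' with rfl | hr'
      · exact ⟨v • m, by rw [smul_comm a v, ← hm]; module⟩
      · obtain ⟨m', hm'⟩ := hvs r' hr'
        exact ⟨w • m', by rw [smul_comm a w, ← hm']; module⟩
  obtain ⟨G, hG⟩ := IsNoetherian.noetherian p.asIdeal
  obtain ⟨v, hv, hvG⟩ := hcl G fun r hr => hG.le (Submodule.subset_span hr)
  have hall : ∀ r : p.asIdeal, ∃ m : M, (r : A) • v • x = a • m := by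
    intro r
    have hle : p.asIdeal ≤ Submodule.comap (LinearMap.toSpanSingleton A M (v • x))
        (LinearMap.range (LinearMap.lsmul A M a)) := by
      rw [← hG]
      refine Submodule.span_le.mpr fun g hg => ?_
      obtain ⟨m, hm⟩ := hvG g hg
      exact ⟨m, by simpa using hm.symm⟩
    obtain ⟨m, hm⟩ := hle r.2
    exact ⟨m, by simpa using hm.symm⟩
  choose μ hμ using hall
  obtain ⟨G', hG'⟩ := IsNoetherian.noetherian (LinearMap.ker (LinearMap.lsmul A M a))
  have hcl' : ∀ s : Finset M, (∀ m ∈ s, a • m = 0) → ∃ w ∉ p.asIdeal, ∀ m ∈ s, w • m = 0 := by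
    intro s
    induction s using Finset.induction_on with
    | empty => exact fun _ => ⟨1, p.isPrime.one_notMem, by simp⟩
    | insert m s hms ih =>
      intro hs
      obtain ⟨w, hw, hws⟩ := ih fun m' hm' => hs m' (Finset.mem_insert_of_mem hm')
      obtain ⟨u, hu, hum⟩ := ha m (hs m (Finset.mem_insert_self m s))
      refine ⟨u * w, p.asIdeal.primeCompl.mul_mem hu hw, fun m' hm' => ?_⟩
      rcases Finset.mem_insert.mp hm' with rfl | hm'
      · rw [mul_comm, mul_smul, hum, smul_zero]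
      · rw [mul_smul, hws m' hm', smul_zero]
  obtain ⟨w, hw, hwG⟩ := hcl' G' fun m hm => by simpa using hG'.le (Submodule.subset_span hm)
  have hker : ∀ m : M, a • m = 0 → w • m = 0 := by
    intro m hm
    have hle : LinearMap.ker (LinearMap.lsmul A M a) ≤ LinearMap.ker (LinearMap.lsmul A M w) := by
      rw [← hG']
      exact Submodule.span_le.mpr fun g hg => by simpa using hwG g hg
    simpa using hle (show m ∈ LinearMap.ker (LinearMap.lsmul A M a) by simpa using hm)
  have hcompat : ∀ r r' : p.asIdeal, (r : A) • w • μ r' = (r' : A) • w • μ r := by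
    intro r r'
    have h0 : w • ((r : A) • μ r' - (r' : A) • μ r) = 0 := by
      refine hker _ ?_
      rw [smul_sub, smul_comm a (r : A), smul_comm a (r' : A), ← hμ, ← hμ, smul_comm, sub_self]
    rw [smul_sub, sub_eq_zero] at h0
    rw [smul_comm (r : A), smul_comm (r' : A), h0]
  choose g hg hgy using fun y : UJ A p.asIdeal =>
    SetLike.not_le_iff_exists.mp (mem_UJ.mp y.2)
  let σ : Sec A M (UJ A p.asIdeal) :=
    ⟨fun y => LocalizedModule.mk (w • μ ⟨g y, hg y⟩) ⟨g y, hgy y⟩, fun y₀ =>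
      ⟨UJ A p.asIdeal ⊓ PrimeSpectrum.basicOpen (g y₀), ⟨y₀.2, hgy y₀⟩,
        TopologicalSpace.Opens.infLELeft _ _, w • μ ⟨g y₀, hg y₀⟩, g y₀, fun y => ⟨y.2.2, by
          refine LocalizedModule.mk_eq.mpr ⟨1, ?_⟩
          simp only [one_smul, Submonoid.smul_def]
          exact hcompat ⟨g y₀, hg y₀⟩ ⟨g ⟨y.1, y.2.1⟩, hg ⟨y.1, y.2.1⟩⟩⟩⟩⟩
  have hb := (bijective_restrCompl_iff p.asIdeal).mp (hM _ (zeroLocus_subset hZ p hp))
  obtain ⟨m₀, hm₀⟩ := hb.2 σ
  refine ⟨w * v, p.asIdeal.primeCompl.mul_mem hw hv, m₀, hb.1 ?_⟩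
  rw [map_smul, map_smul, hm₀]
  refine Subtype.ext (funext fun y => ?_)
  show (w * v) • LocalizedModule.mk x (⟨1, _⟩ : y.1.asIdeal.primeCompl) =
    a • LocalizedModule.mk (w • μ ⟨g y, hg y⟩) ⟨g y, hgy y⟩
  rw [LocalizedModule.smul'_mk, LocalizedModule.smul'_mk, LocalizedModule.mk_eq]
  refine ⟨1, ?_⟩
  simp only [one_smul, Submonoid.smul_def]
  rw [smul_comm a w, ← hμ ⟨g y, hg y⟩]
  module

include hZ hM in
theorem two_le_depth (p : PrimeSpectrum A) (hp : p ∈ Z) :
    (2 : ℕ∞) ≤ depth (Localization.AtPrime p.asIdeal) (LocalizedModule p.asIdeal.primeCompl M) := by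
  set S := Localization.AtPrime p.asIdeal
  set Mp := LocalizedModule p.asIdeal.primeCompl M
  haveI : Module.Finite S Mp :=
    Module.Finite.of_isLocalizedModule p.asIdeal.primeCompl (LocalizedModule.mkLinearMap p.asIdeal.primeCompl M)
  by_cases hN : Nontrivial Mp
  swap
  · haveI := not_nontrivial_iff_subsingleton.1 hN
    rw [depth, H4Depth.idealDepth_eq_top (Subsingleton.elim _ _)]
    exact le_top
  have hne := H4Depth.maximalIdeal_smul_top_ne_top (R := S) (M := Mp)
  have hass : p.asIdeal ∉ associatedPrimes A M := by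
    intro h
    obtain ⟨hpp, m, hm⟩ := isAssociatedPrime_iff.mp h
    refine hpp.ne_top ?_
    have : m = 0 := eq_zero_of_killed hZ hM p hp m fun r hr => by
      have := hm.le hr
      rwa [Submodule.mem_colon_singleton, Submodule.mem_bot] at this
    rw [hm, this, Ideal.eq_top_iff_one, Submodule.mem_colon_singleton, Submodule.mem_bot, smul_zero]
  have h1 : (1 : ℕ∞) ≤ depth S Mp := by
    rw [ENat.one_le_iff_ne_zero]
    exact fun h0 => hass ((H1CAlg.depth_localization_eq_zero_iff p.asIdeal).mp h0)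
  obtain ⟨a, ha, hreg⟩ := (H4Depth.one_le_idealDepth_iff hne).1 h1
  obtain ⟨⟨a₀, s⟩, has⟩ := IsLocalization.surj p.asIdeal.primeCompl a
  have hs : IsUnit (algebraMap A S s) := IsLocalization.map_units S s
  have ha' : algebraMap A S a₀ ∈ maximalIdeal S := has ▸ Ideal.mul_mem_right _ _ ha
  have hreg' : IsSMulRegular Mp (algebraMap A S a₀) := by
    rw [← has]
    exact hreg.mul (hs.isSMulRegular Mp)
  rw [depth, ← H4Depth.idealDepth_quotSMulTop_add_one ha' hreg', show (2 : ℕ∞) = 1 + 1 from rfl]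
  refine add_le_add_left ?_ 1
  by_cases hQ : Nontrivial (QuotSMulTop (algebraMap A S a₀) Mp)
  swap
  · haveI := not_nontrivial_iff_subsingleton.1 hQ
    rw [H4Depth.idealDepth_eq_top (Subsingleton.elim _ _)]
    exact le_top
  rw [ENat.one_le_iff_ne_zero]
  intro h0
  obtain ⟨q, hq, hle⟩ := (H4Depth.idealDepth_eq_zero_iff_exists_associatedPrime
    (H4Depth.maximalIdeal_smul_top_ne_top (R := S) (M := QuotSMulTop (algebraMap A S a₀) Mp))).1 h0
  obtain ⟨hqp, c, hc⟩ := isAssociatedPrime_iff.mp hq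
  obtain ⟨c, rfl⟩ := Submodule.Quotient.mk_surjective _ c
  refine hqp.ne_top ?_
  suffices hcq : ∃ e : Mp, algebraMap A S a₀ • e = c by
    obtain ⟨e, rfl⟩ := hcq
    rw [hc, Ideal.eq_top_iff_one, Submodule.mem_colon_singleton, Submodule.mem_bot, one_smul,
      Submodule.Quotient.mk_eq_zero]
    exact Submodule.smul_mem_pointwise_smul e (algebraMap A S a₀) ⊤ trivial
  have hkey : ∀ r ∈ maximalIdeal S, ∃ e : Mp, algebraMap A S a₀ • e = r • c := by
    intro r hr
    have := hc.le (hle hr)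
    rw [Submodule.mem_colon_singleton, Submodule.mem_bot, ← Submodule.Quotient.mk_smul,
      Submodule.Quotient.mk_eq_zero, Submodule.mem_smul_pointwise_iff_exists] at this
    obtain ⟨e, -, he⟩ := this
    exact ⟨e, he⟩
  induction c using LocalizedModule.induction_on with
  | _ x t =>
    have ha0 : ∀ m : M, a₀ • m = 0 → ∃ v ∉ p.asIdeal, v • m = 0 := by
      intro m hm
      have h2 : LocalizedModule.mk m (1 : p.asIdeal.primeCompl) = 0 := by
        refine hreg'.right_eq_zero_of_smul ?_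
        rw [algebraMap_smul, LocalizedModule.smul'_mk, hm, LocalizedModule.zero_mk]
      rw [← LocalizedModule.zero_mk 1, LocalizedModule.mk_eq] at h2
      obtain ⟨v, hv⟩ := h2
      exact ⟨v, v.2, by simpa [Submonoid.smul_def] using hv⟩
    have hx : ∀ r ∈ p.asIdeal, ∃ v ∉ p.asIdeal, ∃ m : M, v • r • x = a₀ • m := by
      intro r hr
      obtain ⟨e, he⟩ := hkey (algebraMap A S r)
        ((IsLocalization.AtPrime.to_map_mem_maximal_iff S p.asIdeal r).mpr hr)
      induction e using LocalizedModule.induction_on with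
      | _ m s' =>
        rw [algebraMap_smul, algebraMap_smul, LocalizedModule.smul'_mk, LocalizedModule.smul'_mk,
          LocalizedModule.mk_eq] at he
        obtain ⟨u, hu⟩ := he
        simp only [Submonoid.smul_def] at hu
        refine ⟨(u : A) * (s' : A), p.asIdeal.primeCompl.mul_mem u.2 s'.2, ((u : A) * (t : A)) • m, ?_⟩
        rw [mul_smul, ← hu]
        module
    obtain ⟨v, hv, m, hm⟩ := exists_smul_eq hZ hM p hp a₀ ha0 x hx
    refine ⟨LocalizedModule.mk m (⟨v, hv⟩ * t), ?_⟩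
    rw [algebraMap_smul, LocalizedModule.smul'_mk, ← hm, LocalizedModule.mk_eq]
    refine ⟨1, ?_⟩
    simp only [one_smul, Submonoid.smul_def, Submonoid.coe_mul]
    module

end Groth.Agent.H05EGA4.ClosedAlong
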