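import Mathlib
import Groth.Prelude.Def_EGA4c
import Groth.Agent.H05EGA4.ClosedAlong
import Groth.Agent.H17.ZFinite.Hull

/-!
Coherence of `i_*(M~|U)` for `U` the complement of `V(J)` (EGA IV 5.11).
-/

set_option autoImplicit false
universe u
open AlgebraicGeometry CategoryTheory Opposite IsLocalRing Groth.Agent.H05EGA4.ClosedAlong
open Groth.Agent.H17.ZFinite

namespace Groth.Agent.H05EGA4.PushCoh

variable {A : Type u} [CommRing A]

theorem isCoherentPushCompl_iff (J : Ideal A) (M : Type u) [AddCommGroup M] [Module A M] :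
    EGA4.IsCoherentPushCompl A J M ↔ Module.Finite A (Sec A M (UJ A J)) := by
  let Γ0 := (Spec (CommRingCat.of A)).ringCatSheaf.obj.obj (op ⊤)
  let N := (ModuleCat.restrictScalars ((Spec (CommRingCat.of A)).ringCatSheaf.obj.map
        (homOfLE (le_top : EGA4.openCompl A J ≤ ⊤)).op).hom).obj
      ((EGA4.tildeOf A M).val.obj (op (EGA4.openCompl A J)))
  let e : N → Sec A M (UJ A J) := fun D => D
  let σ : A → Γ0 := algebraMap A ((structureSheafInType A A).obj.obj (op ⊤))
  have hσ : Function.Surjective σ := (StructureSheaf.algebraMap_obj_top_bijective (R := A)).2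
  have he : ∀ (a : A) (D : N), e (σ a • D) = a • e D := fun a D =>
    Subtype.ext (funext fun x => IsScalarTower.algebraMap_smul
      (StructureSheaf.Localizations A x.1) a (Subtype.val (e D) x))
  classical
  let e' : Sec A M (UJ A J) → N := fun D => D
  constructor
  · intro h
    obtain ⟨G, hG⟩ := (Module.finite_def.mp (show Module.Finite Γ0 N from h))
    have key : ∀ D : N, D ∈ Submodule.span Γ0 (G : Set N) →
        e D ∈ Submodule.span A ((G.image e : Finset (Sec A M (UJ A J))) : Set (Sec A M (UJ A J))) := by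
      intro D hD
      induction hD using Submodule.span_induction with
      | mem g hg => exact Submodule.subset_span (Finset.mem_coe.2 (Finset.mem_image_of_mem e hg))
      | zero => exact zero_mem _
      | add x y _ _ hx hy => exact add_mem hx hy
      | smul c x _ hx =>
        obtain ⟨a, rfl⟩ := hσ c
        exact (he a x).symm ▸ Submodule.smul_mem _ a hx
    exact Module.finite_def.mpr ⟨G.image e, eq_top_iff.mpr fun D _ => key (e' D) (hG ▸ trivial)⟩
  · intro h
    obtain ⟨G, hG⟩ := Module.finite_def.mp h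
    show Module.Finite Γ0 N
    have he' : ∀ (a : A) (x : Sec A M (UJ A J)), e' (a • x) = σ a • e' x := fun a x => (he a (e' x)).symm
    have key : ∀ x : Sec A M (UJ A J), x ∈ Submodule.span A (G : Set (Sec A M (UJ A J))) →
        e' x ∈ Submodule.span Γ0 ((G.image e' : Finset N) : Set N) := by
      intro x hx
      induction hx using Submodule.span_induction with
      | mem g hg => exact Submodule.subset_span (Finset.mem_coe.2 (Finset.mem_image_of_mem e' hg))
      | zero => exact zero_mem _
      | add x y _ _ ihx ihy => exact add_mem ihx ihy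
      | smul a x _ ihx => exact (he' a x).symm ▸ Submodule.smul_mem _ (σ a) ihx
    exact Module.finite_def.mpr ⟨G.image e', eq_top_iff.mpr fun D _ => key (e D) (hG ▸ trivial)⟩

variable {M : Type u} [AddCommGroup M] [Module A M]

/-- Evaluation of a section at a point. -/
def ev {U : TopologicalSpace.Opens (PrimeSpectrum.Top A)} (y : PrimeSpectrum.Top A) (hy : y ∈ U) :
    Sec A M U →ₗ[A] LocalizedModule y.asIdeal.primeCompl M where
  toFun D := D.1 ⟨y, hy⟩
  map_add' _ _ := rfl
  map_smul' _ _ := rfl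

/-- Functoriality in the module. -/
noncomputable def mapSec {U : TopologicalSpace.Opens (PrimeSpectrum.Top A)} {M' : Type u} [AddCommGroup M']
    [Module A M'] (f : M →ₗ[A] M') : Sec A M U →ₗ[A] Sec A M' U where
  toFun D := ⟨fun y => LocalizedModule.map y.1.asIdeal.primeCompl f (D.1 y), fun y => by
    obtain ⟨V, hyV, i, r, s, h⟩ := D.2 y
    refine ⟨V, hyV, i, f r, s, fun z => ?_⟩
    obtain ⟨hs, hz⟩ := h z
    exact ⟨hs, (congrArg (LocalizedModule.map z.1.asIdeal.primeCompl f) hz).trans (LocalizedModule.map_mk _ _ _ _)⟩⟩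
  map_add' D D' := Subtype.ext (funext fun y => map_add (LocalizedModule.map y.1.asIdeal.primeCompl f) _ _)
  map_smul' a D := Subtype.ext (funext fun y =>
    ((LocalizedModule.map y.1.asIdeal.primeCompl f).restrictScalars A).map_smul a _)

theorem mapSec_injective {U : TopologicalSpace.Opens (PrimeSpectrum.Top A)} {M' : Type u} [AddCommGroup M']
    [Module A M'] {f : M →ₗ[A] M'} (hf : Function.Injective f) : Function.Injective (mapSec (U := U) f) := by
  intro D D' h
  exact Subtype.ext (funext fun y => LocalizedModule.map_injective y.1.asIdeal.primeCompl f hf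
    (congrArg (fun s : Sec A M' U => s.1 y) h))

variable [IsNoetherianRing A]

theorem finite_of_injective_map {M' : Type u} [AddCommGroup M'] [Module A M'] {f : M →ₗ[A] M'}
    (hf : Function.Injective f) (J : Ideal A) (h : Module.Finite A (Sec A M' (UJ A J))) :
    Module.Finite A (Sec A M (UJ A J)) :=
  haveI := h
  Module.Finite.of_injective (mapSec f) (mapSec_injective hf)

theorem hcoker (J : Ideal A) (n : Sec A M (UJ A J)) (P : PrimeSpectrum A)
    (hP : P ∉ PrimeSpectrum.zeroLocus (J : Set A)) :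
    ∃ a ∉ P.asIdeal, a • n ∈ LinearMap.range (StructureSheaf.toOpenₗ A M (UJ A J)) := by
  obtain ⟨z, hz⟩ := (bijective_map (M := M) J P.asIdeal hP).2 (LocalizedModule.mk n 1)
  induction z using LocalizedModule.induction_on with
  | _ m t =>
    rw [LocalizedModule.map_mk, LocalizedModule.mk_eq] at hz
    obtain ⟨v, hv⟩ := hz
    simp only [one_smul, Submonoid.smul_def] at hv
    refine ⟨(v : A) * t, P.asIdeal.primeCompl.mul_mem v.2 t.2, (v : A) • m, ?_⟩
    rw [map_smul, mul_smul]
    exact hv

/-- Finiteness from the closures at the associated primes outside `V(J)`. -/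
theorem finite_sec [Module.Finite A M] (J : Ideal A)
    (h : ∀ (p : Ideal A) [p.IsPrime], p ∈ associatedPrimes A M → ¬ J ≤ p →
      ClosureFinite (PrimeSpectrum.zeroLocus (J : Set A)) p) :
    Module.Finite A (Sec A M (UJ A J)) := by
  classical
  let T := {p : PrimeSpectrum A // p.asIdeal ∈ associatedPrimes A M ∧ ¬ J ≤ p.asIdeal}
  haveI : Finite T := by
    haveI := (associatedPrimes.finite A M).to_subtype
    exact Finite.of_injective (fun p : T => (⟨p.1.asIdeal, p.2.1⟩ : associatedPrimes A M))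
      fun p q e => Subtype.ext (PrimeSpectrum.ext (congrArg (fun z : associatedPrimes A M => z.1) e))
  refine finite_of_closure (Z := PrimeSpectrum.zeroLocus (J : Set A))
    (StructureSheaf.toOpenₗ A M (UJ A J)) (fun n P hP => hcoker J n P hP) (fun p : T => p.1)
    (fun p => h p.1.asIdeal p.2.1 p.2.2) (fun p => ev (U := UJ A J) p.1 p.2.2) fun n hn => ?_
  set S := Submodule.span A {n}
  have hI : S.annihilator ≠ ⊤ := fun htop => hn (by
    have := (Submodule.eq_top_iff'.mp htop) 1
    rwa [Submodule.mem_annihilator_span_singleton, one_smul] at this)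
  obtain ⟨m₀, hm₀, hle⟩ := Ideal.exists_le_maximal _ hI
  obtain ⟨Q, hQmin, -⟩ := Ideal.exists_minimalPrimes_le hle
  have hQp : Q.IsPrime := hQmin.1.1
  haveI : Module.Finite A S := Module.Finite.iff_fg.2 (Submodule.fg_span_singleton n)
  have hQS : Q ∈ associatedPrimes A S :=
    Module.associatedPrimes.minimalPrimes_annihilator_subset_associatedPrimes A S hQmin
  have hQN : Q ∈ associatedPrimes A (Sec A M (UJ A J)) :=
    associatedPrimes.subset_of_injective (f := S.subtype) Subtype.val_injective hQS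
  have hJQ : ¬ J ≤ Q := fun hle => notMem_associatedPrimes J Q hle hQN
  have hne : ev (U := UJ A J) ⟨Q, hQp⟩ hJQ n ≠ 0 := fun h0 => by
    obtain ⟨v, hv, hvn⟩ := exists_smul_eq_zero (isCompact_UJ J) n ⟨Q, hQp⟩ hJQ h0
    exact hv (hQmin.1.2 ((Submodule.mem_annihilator_span_singleton n v).mpr hvn))
  have hQM : Q ∈ associatedPrimes A M := by
    obtain ⟨-, n₁, hn₁⟩ := isAssociatedPrime_iff.mp hQN
    have hne₁ : ev (U := UJ A J) ⟨Q, hQp⟩ hJQ n₁ ≠ 0 := fun h0 => by
      obtain ⟨v, hv, hvn⟩ := exists_smul_eq_zero (isCompact_UJ J) n₁ ⟨Q, hQp⟩ hJQ h0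
      exact hv (hn₁.ge (by rw [Submodule.mem_colon_singleton, Submodule.mem_bot]; exact hvn))
    have hkill : ∀ r ∈ Q, r • ev (U := UJ A J) ⟨Q, hQp⟩ hJQ n₁ = 0 := fun r hr => by
      have := hn₁.le hr
      rw [Submodule.mem_colon_singleton, Submodule.mem_bot] at this
      rw [← map_smul, this, map_zero]
    haveI := hQp
    generalize ev (U := UJ A J) ⟨Q, hQp⟩ hJQ n₁ = z at hne₁ hkill
    induction z using LocalizedModule.induction_on with
    | _ m s =>
      have hk : ∀ r : Q, ∃ u : Q.primeCompl, (u : A) • (r : A) • m = 0 := fun r => by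
        have h0 := hkill r r.2
        rw [LocalizedModule.smul'_mk, ← LocalizedModule.zero_mk 1, LocalizedModule.mk_eq] at h0
        obtain ⟨u, hu⟩ := h0
        exact ⟨u, by simpa [Submonoid.smul_def] using hu⟩
      obtain ⟨G, hG⟩ := IsNoetherian.noetherian Q
      have hG' : ∀ g ∈ G, g ∈ Q := fun g hg => hG.le (Submodule.subset_span hg)
      choose u hu using hk
      let w : Q.primeCompl := ∏ g : G, u ⟨g.1, hG' g.1 g.2⟩
      have hwm : ∀ r ∈ Q, r • (w : A) • m = 0 := fun r hr => by
        have hle : Q ≤ LinearMap.ker (LinearMap.toSpanSingleton A M ((w : A) • m)) := by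
          refine hG.ge.trans (Submodule.span_le.mpr fun g hg => ?_)
          obtain ⟨e, he⟩ : (u ⟨g, hG' g hg⟩ : A) ∣ (w : A) := by
            rw [show (w : A) = ∏ g : G, (u ⟨g.1, hG' g.1 g.2⟩ : A) from Submonoid.coe_finsetProd _ _ _]
            exact Finset.dvd_prod_of_mem (fun g : G => (u ⟨g.1, hG' g.1 g.2⟩ : A)) (Finset.mem_univ ⟨g, hg⟩)
          show g • (w : A) • m = 0
          rw [he, smul_smul, show g * ((u ⟨g, hG' g hg⟩ : A) * e) = e * ((u ⟨g, hG' g hg⟩ : A) * g) by ring,
            mul_smul, mul_smul, hu, smul_zero]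
        simpa [LinearMap.mem_ker] using hle hr
      refine isAssociatedPrime_iff.mpr ⟨hQp, (w : A) • m, le_antisymm (fun r hr => ?_) (fun r hr => ?_)⟩
      · rw [Submodule.mem_colon_singleton, Submodule.mem_bot]
        exact hwm r hr
      · rw [Submodule.mem_colon_singleton, Submodule.mem_bot, smul_smul] at hr
        by_contra hrQ
        refine hne₁ ?_
        rw [← LocalizedModule.zero_mk 1, LocalizedModule.mk_eq]
        exact ⟨⟨r * w, Q.primeCompl.mul_mem hrQ w.2⟩, by simpa [Submonoid.smul_def] using hr⟩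
  refine ⟨⟨⟨Q, hQp⟩, hQM, hJQ⟩, hne, fun a ha => ?_⟩
  haveI := hQp
  have hrad : a ∈ (S.annihilator.map (algebraMap A (Localization.AtPrime Q))).radical := by
    rw [Ideal.radical_eq_sInf, Submodule.mem_sInf]
    rintro I ⟨hI', hI''⟩
    have hle' : Ideal.comap (algebraMap A (Localization.AtPrime Q)) I ≤ Q := fun r hr =>
      (IsLocalization.AtPrime.to_map_mem_maximal_iff (Localization.AtPrime Q) Q r).mp
        (IsLocalRing.le_maximalIdeal hI''.ne_top hr)
    have hQI : Q ≤ Ideal.comap (algebraMap A (Localization.AtPrime Q)) I :=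
      hQmin.2 ⟨Ideal.IsPrime.comap _, Ideal.map_le_iff_le_comap.mp hI'⟩ hle'
    have : maximalIdeal (Localization.AtPrime Q) ≤ I := by
      rw [← IsLocalization.AtPrime.map_eq_maximalIdeal Q (Localization.AtPrime Q)]
      exact Ideal.map_le_iff_le_comap.mpr hQI
    exact this ha
  obtain ⟨k, hk⟩ := hrad
  obtain ⟨⟨⟨g, hg⟩, t⟩, hgt⟩ := (IsLocalization.mem_map_algebraMap_iff Q.primeCompl _).mp hk
  refine ⟨k, (IsLocalization.map_units (Localization.AtPrime Q) t).smul_eq_zero.mp ?_⟩
  show algebraMap A (Localization.AtPrime Q) t • a ^ k • ev (U := UJ A J) ⟨Q, hQp⟩ hJQ n = 0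
  rw [smul_smul, mul_comm, hgt, algebraMap_smul, ← map_smul,
    (Submodule.mem_annihilator_span_singleton n g).mp hg, map_zero]

/-- The canonical map `(A/p)_p → κ(p)`. -/
noncomputable def chi (p : Ideal A) [p.IsPrime] : LocalizedModule p.primeCompl (A ⧸ p) →ₗ[A] p.ResidueField :=
  LocalizedModule.lift p.primeCompl (IsScalarTower.toAlgHom A (A ⧸ p) p.ResidueField).toLinearMap fun s =>
    (Module.End.isUnit_iff _).mpr (by
      have hs : algebraMap A p.ResidueField s ≠ 0 := fun h => s.2 (Ideal.algebraMap_residueField_eq_zero.mp h)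
      show Function.Bijective fun x : p.ResidueField => (s : A) • x
      simp only [Algebra.smul_def]
      exact ⟨fun x y h => mul_left_cancel₀ hs h, fun y => ⟨(algebraMap A p.ResidueField s)⁻¹ * y, by
        simp only [← mul_assoc, mul_inv_cancel₀ hs, one_mul]⟩⟩)

theorem chi_mk (p : Ideal A) [p.IsPrime] (b : A) (s : p.primeCompl) :
    algebraMap A p.ResidueField s * chi p (LocalizedModule.mk (Ideal.Quotient.mk p b) s) =
      algebraMap A p.ResidueField b := by
  rw [← Algebra.smul_def, ← map_smul, LocalizedModule.smul'_mk, ← Submonoid.smul_def, LocalizedModule.mk_cancel]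
  have := LinearMap.congr_fun (LocalizedModule.lift_comp p.primeCompl
    (IsScalarTower.toAlgHom A (A ⧸ p) p.ResidueField).toLinearMap (fun s =>
    (Module.End.isUnit_iff _).mpr (by
      have hs : algebraMap A p.ResidueField s ≠ 0 := fun h => s.2 (Ideal.algebraMap_residueField_eq_zero.mp h)
      show Function.Bijective fun x : p.ResidueField => (s : A) • x
      simp only [Algebra.smul_def]
      exact ⟨fun x y h => mul_left_cancel₀ hs h, fun y => ⟨(algebraMap A p.ResidueField s)⁻¹ * y, by
        simp only [← mul_assoc, mul_inv_cancel₀ hs, one_mul]⟩⟩))) (Ideal.Quotient.mk p b)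
  exact this.trans (IsScalarTower.algebraMap_apply A (A ⧸ p) p.ResidueField b).symm

/-- `A/p` has coherent direct image iff the closure in `κ(p)` is finite. -/
theorem finite_sec_quotient_iff (J : Ideal A) (p : Ideal A) [hp : p.IsPrime] (hJp : ¬ J ≤ p) :
    Module.Finite A (Sec A (A ⧸ p) (UJ A J)) ↔ ClosureFinite (PrimeSpectrum.zeroLocus (J : Set A)) p := by
  classical
  constructor
  · intro h
    haveI := h
    let θ : Sec A (A ⧸ p) (UJ A J) →ₗ[A] p.ResidueField := (chi p).comp (ev (U := UJ A J) ⟨p, hp⟩ hJp)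
    refine H17.ZFinite.fg_of_le ?_ (Submodule.fg_range θ)
    intro c hc
    have hw : ∀ y : UJ A J, ∃ a : A, a ∉ y.1.asIdeal ∧ ∃ b : A,
        algebraMap A p.ResidueField b = algebraMap A p.ResidueField a * c := fun y => by
      obtain ⟨a, ha, b, hb⟩ := hc y.1 y.2
      exact ⟨a, ha, b, hb.trans (Algebra.smul_def a c)⟩
    choose a ha b hb using hw
    have hcomp : ∀ (y y' : UJ A J), a y • Ideal.Quotient.mk p (b y') = a y' • Ideal.Quotient.mk p (b y) :=
      fun y y' => by
        show Ideal.Quotient.mk p (a y * b y') = Ideal.Quotient.mk p (a y' * b y)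
        rw [Ideal.Quotient.eq, ← Ideal.algebraMap_residueField_eq_zero, map_sub, map_mul, map_mul, hb, hb]
        ring
    let D : Sec A (A ⧸ p) (UJ A J) :=
      ⟨fun y => LocalizedModule.mk (Ideal.Quotient.mk p (b y)) ⟨a y, ha y⟩, fun y₀ =>
        ⟨UJ A J ⊓ PrimeSpectrum.basicOpen (a y₀), ⟨y₀.2, ha y₀⟩, TopologicalSpace.Opens.infLELeft _ _,
          Ideal.Quotient.mk p (b y₀), a y₀, fun y => ⟨y.2.2, LocalizedModule.mk_eq.mpr ⟨1, by
            simp only [one_smul, Submonoid.smul_def]
            exact hcomp y₀ ⟨y.1, y.2.1⟩⟩⟩⟩⟩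
    refine ⟨D, ?_⟩
    have hne : algebraMap A p.ResidueField (a ⟨⟨p, hp⟩, hJp⟩) ≠ 0 := fun h =>
      ha ⟨⟨p, hp⟩, hJp⟩ (Ideal.algebraMap_residueField_eq_zero.mp h)
    refine mul_left_cancel₀ hne ?_
    exact (chi_mk p (b ⟨⟨p, hp⟩, hJp⟩) ⟨a ⟨⟨p, hp⟩, hJp⟩, ha ⟨⟨p, hp⟩, hJp⟩⟩).trans (hb _)
  · intro h
    refine finite_sec (M := A ⧸ p) J fun q hq hqass hJq => ?_
    obtain ⟨-, x, hx⟩ := isAssociatedPrime_iff.mp hqass
    obtain ⟨x, rfl⟩ := Ideal.Quotient.mk_surjective x
    have hxp : x ∉ p := fun hxp => hq.ne_top (by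
      rw [hx, Ideal.Quotient.eq_zero_iff_mem.mpr hxp, Ideal.eq_top_iff_one, Submodule.mem_colon_singleton,
        Submodule.mem_bot, smul_zero])
    have hqp : q = p := by
      ext r
      rw [hx, Submodule.mem_colon_singleton, Submodule.mem_bot]
      show Ideal.Quotient.mk p (r * x) = 0 ↔ r ∈ p
      rw [Ideal.Quotient.eq_zero_iff_mem]
      exact ⟨fun h' => (hp.mem_or_mem h').resolve_right hxp, fun h' => Ideal.mul_mem_right _ _ h'⟩
    subst hqp
    exact h

/-- Finiteness of sections implies finiteness of the closure at an associated prime. -/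
theorem closureFinite_of_finite (J : Ideal A) (p : Ideal A) [p.IsPrime] (hp : p ∈ associatedPrimes A M)
    (hJp : ¬ J ≤ p) (h : Module.Finite A (Sec A M (UJ A J))) :
    ClosureFinite (PrimeSpectrum.zeroLocus (J : Set A)) p := by
  obtain ⟨-, m, hm⟩ := isAssociatedPrime_iff.mp hp
  rw [← finite_sec_quotient_iff J p hJp]
  refine finite_of_injective_map (f := Submodule.liftQ p (LinearMap.toSpanSingleton A M m) fun r hr => ?_) ?_ J h
  · have := hm.le hr
    rw [Submodule.mem_colon_singleton, Submodule.mem_bot] at this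
    simpa [LinearMap.mem_ker] using this
  · refine (injective_iff_map_eq_zero _).mpr fun z hz => ?_
    obtain ⟨r, rfl⟩ := Submodule.Quotient.mk_surjective _ z
    rw [Submodule.Quotient.mk_eq_zero, hm, Submodule.mem_colon_singleton, Submodule.mem_bot]
    exact hz

theorem two_le_height_of_closureFinite (J : Ideal A) (p : Ideal A) [p.IsPrime] (hJp : ¬ J ≤ p)
    (h : ClosureFinite (PrimeSpectrum.zeroLocus (J : Set A)) p) :
    (2 : ℕ∞) ≤ (J.map (Ideal.Quotient.mk p)).height := by
  classical
  set B := A ⧸ p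
  obtain ⟨d, hd, hdP⟩ := exists_common_denominator h
  have h1 : (1 : p.ResidueField) ∈ H17.ZFinite.cl (PrimeSpectrum.zeroLocus (J : Set A))
      (LinearMap.range (Algebra.linearMap A p.ResidueField)) := le_cl _ _ ⟨1, by rw [Algebra.linearMap_apply, map_one]⟩
  obtain ⟨d', hd'⟩ := hdP 1 h1
  rw [Algebra.linearMap_apply, mul_one] at hd'
  by_contra hlt
  push Not at hlt
  have hne : J.map (Ideal.Quotient.mk p) ≠ ⊤ := fun htop => by
    rw [htop, Ideal.height_top] at hlt
    exact absurd hlt (not_lt.mpr le_top)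
  obtain ⟨m, hm⟩ := ENat.ne_top_iff_exists.mp (Ideal.height_ne_top hne)
  obtain ⟨y', hy'p, hy'le, hy'h⟩ := Ideal.exists_isPrime_height_eq hm.symm
  rw [hm] at hy'h
  haveI := hy'p
  set y := y'.comap (Ideal.Quotient.mk p) with hy
  have hJy : J ≤ y := Ideal.map_le_iff_le_comap.mp hy'le
  have hpy : p ≤ y := fun r hr => by
    rw [hy, Ideal.mem_comap, Ideal.Quotient.eq_zero_iff_mem.mpr hr]; exact zero_mem _
  obtain ⟨g, hgy, hgp⟩ := SetLike.not_le_iff_exists.mp (fun hle => hJp (hJy.trans hle) : ¬ y ≤ p)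
  have hd'p : d' ∉ p := fun hmem => hd (by rw [← hd', Ideal.algebraMap_residueField_eq_zero.mpr hmem])
  -- a power of `J` falls into the principal ideal after localization at `y`
  set K := Ideal.span {d' * g} ⊔ p
  have hrad : J.map (algebraMap A (Localization.AtPrime y)) ≤
      (K.map (algebraMap A (Localization.AtPrime y))).radical := by
    refine (Ideal.map_mono hJy).trans ?_
    rw [IsLocalization.AtPrime.map_eq_maximalIdeal y (Localization.AtPrime y), Ideal.radical_eq_sInf]
    refine le_sInf fun I hI => ?_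
    obtain ⟨hKI, hIp⟩ := hI
    haveI := hIp
    set q := I.comap (algebraMap A (Localization.AtPrime y))
    have hKq : K ≤ q := Ideal.map_le_iff_le_comap.mp hKI
    have hqy : q ≤ y := fun r hr => (IsLocalization.AtPrime.to_map_mem_maximal_iff _ y r).mp
      (IsLocalRing.le_maximalIdeal hIp.ne_top hr)
    have hqy' : q = y := by
      refine le_antisymm hqy ?_
      by_contra hyq
      have hlt1 : p < q := lt_of_le_of_ne (le_sup_right.trans hKq) fun e => by
        have : d' * g ∈ p := e ▸ hKq (Submodule.mem_sup_left (Ideal.mem_span_singleton_self _))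
        exact (Ideal.IsPrime.mem_or_mem ‹_› this).elim hd'p hgp
      have hlt2 : q < y := lt_of_le_not_ge hqy hyq
      have h2 := H17.ZFinite.two_le_height_of_between hlt1 hlt2
      rw [hy, Ideal.map_comap_of_surjective _ Ideal.Quotient.mk_surjective, hy'h] at h2
      exact absurd h2 (not_le.mpr hlt)
    rw [← IsLocalization.AtPrime.map_eq_maximalIdeal y (Localization.AtPrime y)]
    exact Ideal.map_le_iff_le_comap.mpr hqy'.ge
  obtain ⟨n, hn⟩ := Ideal.exists_pow_le_of_le_radical_of_fg hrad (Ideal.FG.map (IsNoetherian.noetherian J) _)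
  rw [← Ideal.map_pow] at hn
  obtain ⟨G, hG⟩ := IsNoetherian.noetherian (J ^ n)
  have hG' : ∀ j : G, ∃ t : y.primeCompl, (t : A) * j.1 ∈ K := fun j => by
    obtain ⟨t, ht, htj⟩ := (IsLocalization.algebraMap_mem_map_algebraMap_iff y.primeCompl
      (Localization.AtPrime y) _ _).mp (hn (Ideal.mem_map_of_mem _ (hG.le (Submodule.subset_span j.2))))
    exact ⟨⟨t, ht⟩, htj⟩
  choose t ht using hG'
  set T : y.primeCompl := ∏ j : G, t j
  have hT : ∀ j ∈ J ^ n, (T : A) * j ∈ K := by
    intro j hj
    have hle : J ^ n ≤ Submodule.comap (LinearMap.mulLeft A (T : A)) K := by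
      rw [← hG]
      refine Submodule.span_le.mpr fun g' hg' => ?_
      obtain ⟨e, he⟩ : (t ⟨g', hg'⟩ : A) ∣ (T : A) := by
        rw [show (T : A) = ∏ j : G, (t j : A) from Submonoid.coe_finsetProd _ _ _]
        exact Finset.dvd_prod_of_mem (fun j : G => (t j : A)) (Finset.mem_univ (⟨g', hg'⟩ : G))
      show (T : A) * g' ∈ K
      rw [he, mul_right_comm]
      exact Ideal.mul_mem_right _ _ (ht ⟨g', hg'⟩)
    exact hle hj
  have hdg : algebraMap A p.ResidueField (d' * g) ≠ 0 := fun h0 =>
    (Ideal.IsPrime.mem_or_mem ‹_› (Ideal.algebraMap_residueField_eq_zero.mp h0)).elim hd'p hgp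
  set c := algebraMap A p.ResidueField (T : A) / algebraMap A p.ResidueField (d' * g) with hc
  have hcmem : c ∈ H17.ZFinite.cl (PrimeSpectrum.zeroLocus (J : Set A))
      (LinearMap.range (Algebra.linearMap A p.ResidueField)) := by
    intro P hP
    obtain ⟨j, hjJ, hjP⟩ := SetLike.not_le_iff_exists.mp (show ¬ J ≤ P.asIdeal from hP)
    refine ⟨j ^ n, fun h' => hjP (P.isPrime.mem_of_pow_mem n h'), ?_⟩
    obtain ⟨F, hF, G', hG'', hFG⟩ := Submodule.mem_sup.mp (hT _ (Ideal.pow_mem_pow hjJ n))
    obtain ⟨z, rfl⟩ := Ideal.mem_span_singleton'.mp hF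
    refine ⟨z, ?_⟩
    rw [Algebra.linearMap_apply, Algebra.smul_def, hc, ← mul_div_assoc, eq_div_iff hdg, ← map_mul, ← map_mul,
      mul_comm (j ^ n) _, ← hFG, map_add, Ideal.algebraMap_residueField_eq_zero.mpr hG'', add_zero]
  obtain ⟨b, hb⟩ := hdP c hcmem
  rw [Algebra.linearMap_apply, ← hd', hc, ← mul_div_assoc, eq_div_iff hdg, ← map_mul, ← map_mul] at hb
  have hd'0 : algebraMap A p.ResidueField d' ≠ 0 := fun h0 => hd'p (Ideal.algebraMap_residueField_eq_zero.mp h0)
  have hmem : (T : A) - b * g ∈ p := by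
    rw [← Ideal.algebraMap_residueField_eq_zero]
    refine (mul_eq_zero.mp ?_).resolve_left hd'0
    rw [map_sub, mul_sub, ← map_mul, ← map_mul, sub_eq_zero, ← hb]
    congr 1
    ring
  refine T.2 ?_
  have h3 : (T : A) = ((T : A) - b * g) + b * g := by ring
  rw [h3]
  exact add_mem (hpy hmem) (Ideal.mul_mem_left _ _ hgy)

end Groth.Agent.H05EGA4.PushCoh
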