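import Mathlib
import Groth.Agent.H05EGA4.PushCoh

/-!
Sections outside `V(J)` and flat base change.
-/

set_option autoImplicit false
universe u
open AlgebraicGeometry CategoryTheory Opposite Groth.Agent.H05EGA4.ClosedAlong Groth.Agent.H05EGA4.PushCoh
open scoped TensorProduct

namespace Groth.Agent.H05EGA4.SecBC

variable {A : Type u} [CommRing A] {M N : Type u} [AddCommGroup M] [Module A M] [AddCommGroup N] [Module A N]

theorem mapSec_surjective {U : TopologicalSpace.Opens (PrimeSpectrum.Top A)} (f : M →ₗ[A] N)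
    (hf : ∀ y ∈ U, Function.Bijective (LocalizedModule.map y.asIdeal.primeCompl f)) :
    Function.Surjective (mapSec (U := U) f) := by
  intro D
  choose P hP using fun y : U => (hf y.1 y.2).2 (D.1 y)
  have hloc : (StructureSheaf.isLocallyFraction A M).pred P := by
    intro y₀
    obtain ⟨V, hyV, i, n, s, h⟩ := D.2 y₀
    obtain ⟨z, hz⟩ := (hf y₀.1 y₀.2).2 (LocalizedModule.mk n 1)
    induction z using LocalizedModule.induction_on with
    | _ m t =>
      rw [LocalizedModule.map_mk, LocalizedModule.mk_eq] at hz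
      obtain ⟨v, hv⟩ := hz
      simp only [one_smul, Submonoid.smul_def] at hv
      refine ⟨V ⊓ PrimeSpectrum.basicOpen ((v : A) * t), ⟨hyV, y₀.1.asIdeal.primeCompl.mul_mem v.2 t.2⟩,
        TopologicalSpace.Opens.infLELeft _ _ ≫ i, (v : A) • m, (v : A) * t * s, fun y => ?_⟩
      obtain ⟨hs, hy⟩ := h ⟨y.1, y.2.1⟩
      have hne : (v : A) * t * s ∉ y.1.asIdeal := y.1.asIdeal.primeCompl.mul_mem y.2.2 hs
      refine ⟨hne, (hf y.1 (i.le y.2.1)).1 ?_⟩
      have e1 := hP (⟨y.1, i.le y.2.1⟩ : U)
      have e2 : LocalizedModule.map y.1.asIdeal.primeCompl f (P ⟨y.1, i.le y.2.1⟩) =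
          LocalizedModule.mk n ⟨s, hs⟩ := e1.trans hy
      refine Eq.trans e2 ?_
      rw [LocalizedModule.map_mk]
      refine LocalizedModule.mk_eq.mpr ⟨1, ?_⟩
      simp only [one_smul, Submonoid.smul_def, map_smul]
      rw [hv]
      module
  let Q : Sec A M U := ⟨P, hloc⟩
  exact ⟨Q, Subtype.ext (funext fun y => hP y)⟩

theorem mapSec_bijective {U : TopologicalSpace.Opens (PrimeSpectrum.Top A)} (f : M →ₗ[A] N)
    (hf : ∀ y ∈ U, Function.Bijective (LocalizedModule.map y.asIdeal.primeCompl f)) :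
    Function.Bijective (mapSec (U := U) f) := by
  refine ⟨fun D D' h => Subtype.ext (funext fun y => (hf y.1 y.2).1 ?_), mapSec_surjective f hf⟩
  exact congrArg (fun s : Sec A N U => s.1 y) h

variable [IsNoetherianRing A]

/-- Sections outside `V(J)` are closed. -/
theorem sec_closed (J : Ideal A) :
    Function.Bijective (StructureSheaf.toOpenₗ A (Sec A M (UJ A J)) (UJ A J)) := by
  set φ := StructureSheaf.toOpenₗ A M (UJ A J) with hφ
  have hb : Function.Bijective (mapSec (U := UJ A J) φ) :=
    mapSec_bijective φ fun y hy => bijective_map J y.asIdeal hy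
  have heq : (StructureSheaf.toOpenₗ A (Sec A M (UJ A J)) (UJ A J)) = mapSec (U := UJ A J) φ := by
    refine LinearMap.ext fun D => Subtype.ext (funext fun y => ?_)
    show LocalizedModule.mk D (⟨1, _⟩ : y.1.asIdeal.primeCompl) = LocalizedModule.map y.1.asIdeal.primeCompl φ (D.1 y)
    obtain ⟨⟨m, s⟩, hms⟩ : ∃ ms : M × y.1.asIdeal.primeCompl, D.1 y = LocalizedModule.mk ms.1 ms.2 := by
      induction D.1 y using LocalizedModule.induction_on with
      | _ m s => exact ⟨(m, s), rfl⟩
    have h0 : ((s : A) • D - φ m).1 ⟨y.1, y.2⟩ = 0 := by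
      show (s : A) • D.1 y - LocalizedModule.mk m (⟨1, _⟩ : y.1.asIdeal.primeCompl) = 0
      rw [hms, sub_eq_zero, LocalizedModule.smul'_mk, LocalizedModule.mk_eq]
      exact ⟨1, by simp [Submonoid.smul_def]⟩
    obtain ⟨v, hv, hv0⟩ := exists_smul_eq_zero (isCompact_UJ J) _ y.1 y.2 h0
    rw [hms, LocalizedModule.map_mk, LocalizedModule.mk_eq]
    refine ⟨⟨v, hv⟩, ?_⟩
    rw [smul_sub, sub_eq_zero] at hv0
    simp only [Submonoid.smul_def, one_smul]
    exact hv0
  rw [heq]
  exact hb

variable (B : Type u) [CommRing B] [Algebra A B]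

theorem under_mem_UJ (J : Ideal A) (P : PrimeSpectrum.Top B) (hP : P ∈ UJ B (J.map (algebraMap A B))) :
    (⟨P.asIdeal.comap (algebraMap A B), Ideal.IsPrime.comap _⟩ : PrimeSpectrum.Top A) ∈ UJ A J :=
  fun h => hP (Ideal.map_le_iff_le_comap.mpr h)

variable [Module.Flat A B] [IsNoetherianRing B]

/-- Bijectivity of localizations is preserved by flat base change. -/
theorem bijective_map_baseChange (J : Ideal A) (f : M →ₗ[A] N)
    (hf : ∀ y ∈ UJ A J, Function.Bijective (LocalizedModule.map y.asIdeal.primeCompl f))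
    (P : PrimeSpectrum.Top B) (hP : P ∈ UJ B (J.map (algebraMap A B))) :
    Function.Bijective (LocalizedModule.map P.asIdeal.primeCompl (f.baseChange B)) := by
  have hy := under_mem_UJ B J P hP
  set y : PrimeSpectrum.Top A := ⟨P.asIdeal.comap (algebraMap A B), Ideal.IsPrime.comap _⟩
  have hker : ∀ w : B ⊗[A] M, f.baseChange B w = 0 → ∃ b ∉ P.asIdeal, b • w = 0 := by
    intro w hw
    obtain ⟨w', rfl⟩ := (Module.Flat.lTensor_exact B (LinearMap.exact_subtype_ker_map f) w).mp hw
    induction w' using TensorProduct.induction_on with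
    | zero => exact ⟨1, P.isPrime.one_notMem, by simp⟩
    | tmul b x =>
      have h0 : LocalizedModule.mk (x : M) (1 : y.asIdeal.primeCompl) = 0 := by
        apply (hf y hy).1
        rw [LocalizedModule.map_mk, LinearMap.mem_ker.mp x.2, LocalizedModule.zero_mk, map_zero]
      rw [← LocalizedModule.zero_mk 1, LocalizedModule.mk_eq] at h0
      obtain ⟨a, ha⟩ := h0
      refine ⟨algebraMap A B a, a.2, ?_⟩
      rw [algebraMap_smul, LinearMap.lTensor_tmul, Submodule.subtype_apply, ← TensorProduct.tmul_smul]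
      have : (a : A) • (x : M) = 0 := by simpa [Submonoid.smul_def] using ha
      rw [this, TensorProduct.tmul_zero]
    | add u v hu hv =>
      have huv : ∀ z, f.baseChange B (LinearMap.lTensor B (LinearMap.ker f).subtype z) = 0 := fun z =>
        (Module.Flat.lTensor_exact B (LinearMap.exact_subtype_ker_map f) _).mpr ⟨z, rfl⟩
      obtain ⟨b, hb, hb0⟩ := hu (huv u)
      obtain ⟨c, hc, hc0⟩ := hv (huv v)
      refine ⟨b * c, P.asIdeal.primeCompl.mul_mem hb hc, ?_⟩
      rw [map_add, smul_add, mul_comm, mul_smul, hb0, smul_zero, zero_add, mul_comm, mul_smul, hc0, smul_zero]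
  have hcok : ∀ w : B ⊗[A] N, ∃ b ∉ P.asIdeal, ∃ z, f.baseChange B z = b • w := by
    intro w
    induction w using TensorProduct.induction_on with
    | zero => exact ⟨1, P.isPrime.one_notMem, 0, by simp⟩
    | tmul b n =>
      obtain ⟨z, hz⟩ := (hf y hy).2 (LocalizedModule.mk n 1)
      induction z using LocalizedModule.induction_on with
      | _ m t =>
        rw [LocalizedModule.map_mk, LocalizedModule.mk_eq] at hz
        obtain ⟨v, hv⟩ := hz
        simp only [one_smul, Submonoid.smul_def] at hv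
        refine ⟨algebraMap A B ((v : A) * t), y.asIdeal.primeCompl.mul_mem v.2 t.2, b ⊗ₜ[A] ((v : A) • m), ?_⟩
        rw [LinearMap.baseChange_tmul, map_smul, hv, algebraMap_smul, ← TensorProduct.tmul_smul, mul_smul]
    | add u v hu hv =>
      obtain ⟨b, hb, z, hz⟩ := hu
      obtain ⟨c, hc, z', hz'⟩ := hv
      refine ⟨b * c, P.asIdeal.primeCompl.mul_mem hb hc, c • z + b • z', ?_⟩
      rw [map_add, map_smul, map_smul, hz, hz', smul_add, mul_smul, mul_smul, smul_comm c b]
  refine ⟨(injective_iff_map_eq_zero _).mpr fun z hz => ?_, fun z => ?_⟩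
  · induction z using LocalizedModule.induction_on with
    | _ w t =>
      rw [LocalizedModule.map_mk, ← LocalizedModule.zero_mk 1, LocalizedModule.mk_eq] at hz
      obtain ⟨v, hv⟩ := hz
      have hv' : f.baseChange B ((v : B) • w) = 0 := by rw [map_smul]; simpa [Submonoid.smul_def] using hv
      obtain ⟨b, hb, hb0⟩ := hker _ hv'
      rw [← LocalizedModule.zero_mk 1, LocalizedModule.mk_eq]
      exact ⟨⟨b, hb⟩ * v, by simpa [Submonoid.smul_def, mul_smul] using hb0⟩
  · induction z using LocalizedModule.induction_on with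
    | _ w t =>
      obtain ⟨b, hb, z, hz⟩ := hcok w
      refine ⟨LocalizedModule.mk z (⟨b, hb⟩ * t), ?_⟩
      rw [LocalizedModule.map_mk, hz, ← LocalizedModule.mk_cancel_common_left (⟨b, hb⟩ : P.asIdeal.primeCompl) t w]
      rfl

/-- Closedness is preserved by flat base change. -/
theorem closed_baseChange (J : Ideal A) (hN : Function.Bijective (StructureSheaf.toOpenₗ A N (UJ A J))) :
    Function.Bijective (StructureSheaf.toOpenₗ B (B ⊗[A] N) (UJ B (J.map (algebraMap A B)))) := by
  classical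
  obtain ⟨r, g, hg⟩ := Submodule.fg_iff_exists_fin_generating_family.mp (IsNoetherian.noetherian J)
  set φ := StructureSheaf.toOpenₗ A N (UJ A J) with hφ
  set ψ := StructureSheaf.toOpenₗ B (B ⊗[A] N) (UJ B (J.map (algebraMap A B))) with hψ
  have hgJ : ∀ i, g i ∈ J := fun i => hg.le (Submodule.subset_span ⟨i, rfl⟩)
  have hcov : ∀ y : UJ A J, ∃ i, g i ∉ y.1.asIdeal := fun y => by
    by_contra h
    push Not at h
    exact y.2 (hg.ge.trans (Submodule.span_le.mpr (by rintro _ ⟨i, rfl⟩; exact h i)))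
  have hcovB : ∀ P : UJ B (J.map (algebraMap A B)), ∃ i, algebraMap A B (g i) ∉ P.1.asIdeal := fun P =>
    hcov ⟨_, under_mem_UJ B J P.1 P.2⟩
  -- the sequence over `A`
  have hzero : ∀ k, ∀ n : N, (∀ i, g i ^ k • n = 0) → n = 0 := by
    intro k n hn
    refine hN.1 (Subtype.ext (funext fun y => ?_))
    rw [map_zero]
    obtain ⟨i, hi⟩ := hcov y
    show LocalizedModule.mk n (⟨1, _⟩ : y.1.asIdeal.primeCompl) = 0
    rw [← LocalizedModule.zero_mk 1, LocalizedModule.mk_eq]
    exact ⟨⟨g i ^ k, fun h => hi (y.1.isPrime.mem_of_pow_mem k h)⟩, by simpa [Submonoid.smul_def] using hn i⟩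
  let δ₀ : ℕ → N →ₗ[A] (Fin r → N) := fun k => LinearMap.pi fun i => g i ^ k • LinearMap.id
  let δ₁ : ℕ → (Fin r → N) →ₗ[A] (Fin r × Fin r → N) := fun k => LinearMap.pi fun ij =>
    g ij.2 ^ k • LinearMap.proj ij.1 - g ij.1 ^ k • LinearMap.proj ij.2
  have hinj : ∀ k, Function.Injective (δ₀ k) := fun k => (injective_iff_map_eq_zero _).mpr fun n hn =>
    hzero k n fun i => congrFun hn i
  have hex : ∀ k, Function.Exact (δ₀ k) (δ₁ k) := by
    intro k v
    constructor
    · intro hv
      choose i hi using hcov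
      have hne : ∀ y : UJ A J, g (i y) ^ k ∉ y.1.asIdeal := fun y h => hi y (y.1.isPrime.mem_of_pow_mem k h)
      have hcomp : ∀ a b : Fin r, g b ^ k • v a = g a ^ k • v b := fun a b =>
        sub_eq_zero.mp (congrFun hv (a, b))
      let D : Sec A N (UJ A J) :=
        ⟨fun y => LocalizedModule.mk (v (i y)) ⟨g (i y) ^ k, hne y⟩, fun y₀ =>
          ⟨UJ A J ⊓ PrimeSpectrum.basicOpen (g (i y₀) ^ k), ⟨y₀.2, hne y₀⟩,
            TopologicalSpace.Opens.infLELeft _ _, v (i y₀), g (i y₀) ^ k, fun y => ⟨y.2.2, by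
              refine LocalizedModule.mk_eq.mpr ⟨1, ?_⟩
              simp only [one_smul, Submonoid.smul_def]
              first
                | exact hcomp (i ⟨y.1, y.2.1⟩) (i y₀)
                | exact hcomp (i y₀) (i ⟨y.1, y.2.1⟩)⟩⟩⟩
      obtain ⟨n, hn⟩ := hN.2 D
      refine ⟨n, funext fun a => hN.1 (Subtype.ext (funext fun y => ?_))⟩
      show (φ ((g a ^ k • LinearMap.id : N →ₗ[A] N) n)).1 y = _
      rw [LinearMap.smul_apply, LinearMap.id_apply, map_smul, hn]
      show g a ^ k • LocalizedModule.mk (v (i y)) ⟨g (i y) ^ k, hne y⟩ =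
        LocalizedModule.mk (v a) (⟨1, _⟩ : y.1.asIdeal.primeCompl)
      rw [LocalizedModule.smul'_mk, LocalizedModule.mk_eq]
      refine ⟨1, ?_⟩
      simp only [one_smul, Submonoid.smul_def]
      exact (hcomp a (i y)).symm
    · rintro ⟨n, rfl⟩
      funext ij
      simp only [δ₀, δ₁, LinearMap.pi_apply, LinearMap.sub_apply, LinearMap.smul_apply, LinearMap.proj_apply,
        LinearMap.id_apply, Pi.zero_apply]
      rw [smul_comm, sub_self]
  let e : (B ⊗[A] (Fin r → N)) ≃ₗ[A] (Fin r → B ⊗[A] N) := TensorProduct.piRight A A B (fun _ : Fin r => N)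
  let e₂ : (B ⊗[A] (Fin r × Fin r → N)) ≃ₗ[A] (Fin r × Fin r → B ⊗[A] N) :=
    TensorProduct.piRight A A B (fun _ : Fin r × Fin r => N)
  have he₀ : ∀ k (w : B ⊗[A] N) i, e (LinearMap.lTensor B (δ₀ k) w) i = g i ^ k • w := by
    intro k w i
    induction w using TensorProduct.induction_on with
    | zero => simp
    | tmul b n => simp [e, δ₀, TensorProduct.tmul_smul]
    | add u v hu hv => rw [map_add, map_add, Pi.add_apply, hu, hv, smul_add]
  have he₁ : ∀ k (w : B ⊗[A] (Fin r → N)) ij,
      e₂ (LinearMap.lTensor B (δ₁ k) w) ij = g ij.2 ^ k • e w ij.1 - g ij.1 ^ k • e w ij.2 := by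
    intro k w ij
    induction w using TensorProduct.induction_on with
    | zero => simp
    | tmul b v => simp [e, e₂, δ₁, TensorProduct.tmul_smul, TensorProduct.tmul_sub]
    | add u v hu hv =>
      rw [map_add, map_add, Pi.add_apply, hu, hv, map_add, Pi.add_apply, Pi.add_apply, smul_add, smul_add]
      abel
  have hkill : ∀ k (w : B ⊗[A] N), (∀ i, g i ^ k • w = 0) → w = 0 := by
    intro k w hw
    refine Module.Flat.lTensor_preserves_injective_linearMap (δ₀ k) (hinj k) ?_
    rw [map_zero]
    refine e.injective (funext fun i => ?_)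
    rw [he₀, hw, map_zero, Pi.zero_apply]
  -- from vanishing on the open to vanishing
  have hpow : ∀ (C : Ideal B), (∀ P : UJ B (J.map (algebraMap A B)), ¬ C ≤ P.1.asIdeal) →
      ∃ k, ∀ i, algebraMap A B (g i) ^ k ∈ C := by
    intro C hC
    have hle : J.map (algebraMap A B) ≤ C.radical := by
      rw [Ideal.radical_eq_sInf]
      refine le_sInf fun P hP => ?_
      obtain ⟨hCP, hPp⟩ := hP
      by_contra h
      exact hC ⟨⟨P, hPp⟩, h⟩ hCP
    choose k hk using fun i => hle (Ideal.mem_map_of_mem _ (hgJ i))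
    refine ⟨Finset.univ.sup k, fun i => Ideal.pow_mem_of_pow_mem _ (hk i) (Finset.le_sup (Finset.mem_univ i))⟩
  refine ⟨(injective_iff_map_eq_zero ψ).mpr fun w hw => ?_, fun D => ?_⟩
  · obtain ⟨k, hk⟩ := hpow (LinearMap.ker (LinearMap.toSpanSingleton B (B ⊗[A] N) w)) fun P hle => by
      have h1 := congrArg (fun s : Sec B (B ⊗[A] N) _ => s.1 P) hw
      change LocalizedModule.mk w (⟨1, _⟩ : P.1.asIdeal.primeCompl) = 0 at h1
      rw [← LocalizedModule.zero_mk 1, LocalizedModule.mk_eq] at h1
      obtain ⟨v, hv⟩ := h1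
      exact v.2 (hle (by simpa [Submonoid.smul_def] using hv))
    refine hkill k w fun i => ?_
    have := hk i
    rw [LinearMap.mem_ker, LinearMap.toSpanSingleton_apply, ← map_pow, algebraMap_smul] at this
    exact this
  · obtain ⟨k, hk⟩ := hpow (Submodule.comap (LinearMap.toSpanSingleton B _ D) (LinearMap.range ψ)) fun P hle => by
      obtain ⟨a, ha, ha'⟩ := hcoker (J.map (algebraMap A B)) D P.1 P.2
      exact ha (hle (by simpa using ha'))
    choose z hz using hk
    have hz' : ∀ i, ψ (z i) = algebraMap A B (g i) ^ k • D := fun i => by simpa using hz i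
    have hψinj : Function.Injective ψ := (injective_iff_map_eq_zero ψ).mpr fun w hw => by
      obtain ⟨l, hl⟩ := hpow (LinearMap.ker (LinearMap.toSpanSingleton B (B ⊗[A] N) w)) fun P hle => by
        have h1 := congrArg (fun s : Sec B (B ⊗[A] N) _ => s.1 P) hw
        change LocalizedModule.mk w (⟨1, _⟩ : P.1.asIdeal.primeCompl) = 0 at h1
        rw [← LocalizedModule.zero_mk 1, LocalizedModule.mk_eq] at h1
        obtain ⟨v, hv⟩ := h1
        exact v.2 (hle (by simpa [Submonoid.smul_def] using hv))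
      refine hkill l w fun i => ?_
      have := hl i
      rw [LinearMap.mem_ker, LinearMap.toSpanSingleton_apply, ← map_pow, algebraMap_smul] at this
      exact this
    have hker1 : LinearMap.lTensor B (δ₁ k) (e.symm z) = 0 := by
      refine e₂.injective (funext fun ij => ?_)
      rw [he₁, map_zero, Pi.zero_apply, LinearEquiv.apply_symm_apply, sub_eq_zero]
      refine hψinj ?_
      rw [← algebraMap_smul B (g ij.2 ^ k) (z ij.1), ← algebraMap_smul B (g ij.1 ^ k) (z ij.2), map_smul, map_smul,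
        hz', hz', map_pow, map_pow, smul_comm]
    obtain ⟨w, hw⟩ := (Module.Flat.lTensor_exact B (hex k) _).mp hker1
    have hw' : ∀ i, g i ^ k • w = z i := fun i => by
      rw [← he₀, hw, LinearEquiv.apply_symm_apply]
    refine ⟨w, Subtype.ext (funext fun P => ?_)⟩
    obtain ⟨i, hi⟩ := hcovB P
    rw [← sub_eq_zero]
    refine eq_zero_of_smul_localized (r := algebraMap A B (g i) ^ k)
      (fun h => hi (P.1.isPrime.mem_of_pow_mem k h)) ?_
    rw [smul_sub, sub_eq_zero]
    have h2 := congrArg (fun s : Sec B (B ⊗[A] N) _ => s.1 P) ((map_smul ψ _ w).symm.trans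
      ((congrArg ψ (show algebraMap A B (g i) ^ k • w = z i by rw [← map_pow, algebraMap_smul, hw'])).trans (hz' i)))
    exact h2

/-- Flat base change of sections outside `V(J)`. -/
noncomputable def baseChangeSec (J : Ideal A) :
    B ⊗[A] Sec A M (UJ A J) →ₗ[B] Sec B (B ⊗[A] Sec A M (UJ A J)) (UJ B (J.map (algebraMap A B))) :=
  StructureSheaf.toOpenₗ B _ _

variable (M)

theorem exists_linearEquiv_sec (J : Ideal A) :
    Nonempty (B ⊗[A] Sec A M (UJ A J) ≃ₗ[B] Sec B (B ⊗[A] M) (UJ B (J.map (algebraMap A B)))) := by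
  let φ := StructureSheaf.toOpenₗ A M (UJ A J)
  have h2 : Function.Bijective (mapSec (U := UJ B (J.map (algebraMap A B))) (φ.baseChange B)) :=
    mapSec_bijective _ fun P hP => bijective_map_baseChange B J φ (fun y hy => bijective_map J y.asIdeal hy) P hP
  exact ⟨(LinearEquiv.ofBijective _ (closed_baseChange B J (sec_closed J))).trans
    (LinearEquiv.ofBijective _ h2).symm⟩

theorem finite_sec_baseChange (J : Ideal A) (h : Module.Finite A (Sec A M (UJ A J))) :
    Module.Finite B (Sec B (B ⊗[A] M) (UJ B (J.map (algebraMap A B)))) := by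
  obtain ⟨e⟩ := exists_linearEquiv_sec M B J
  haveI := h
  exact Module.Finite.equiv e

omit [Module.Flat A B] in
theorem finite_sec_of_baseChange [Module.FaithfullyFlat A B] (J : Ideal A)
    (h : Module.Finite B (Sec B (B ⊗[A] M) (UJ B (J.map (algebraMap A B))))) :
    Module.Finite A (Sec A M (UJ A J)) := by
  obtain ⟨e⟩ := exists_linearEquiv_sec M B J
  haveI := h
  haveI : Module.Finite B (B ⊗[A] Sec A M (UJ A J)) := Module.Finite.equiv e.symm
  exact Module.Finite.of_finite_tensorProduct_of_faithfullyFlat B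

end Groth.Agent.H05EGA4.SecBC
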