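import Mathlib
import Groth.Agent.H05EGA4.SecBC
import Groth.Agent.H05EGA4.HullRegular
import Groth.Agent.H05EGA4.Completion
import Groth.Agent.H05EGA4.CohenStructure
import Groth.Agent.H05EGA4.Regular

/-!
Finiteness of direct images and of height one hulls via completion (EGA IV 5.11).
-/

set_option autoImplicit false
universe u
open IsLocalRing Groth.Agent.H05EGA4.ClosedAlong Groth.Agent.H05EGA4.PushCoh Groth.Agent.H17.ZFinite
open scoped TensorProduct nonZeroDivisors

namespace Groth.Agent.H05EGA4.HullCompletion

theorem isRegularRing_of_local (R : Type u) [CommRing R] [IsRegularLocalRing R] : IsRegularRing R :=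
  Groth.Agent.H05EGA4.isRegularRing_of_isRegularLocalRing R

theorem heightOneHullFinite_of_complete (B : Type u) [CommRing B] [IsLocalRing B] [IsNoetherianRing B]
    [IsAdicComplete (maximalIdeal B) B] (q : Ideal B) [q.IsPrime] : EGA4.HeightOneHullFinite (B ⧸ q) := by
  obtain ⟨R, _, f, _, hf⟩ := exists_surjective_of_isRegularLocalRing B
  haveI := isRegularRing_of_local R
  exact HullRegular.heightOneHullFinite_of_surjective f hf q

theorem finite_sec_iff (B : Type u) [CommRing B] [IsNoetherianRing B]
    (hB : ∀ (q : Ideal B) [q.IsPrime], EGA4.HeightOneHullFinite (B ⧸ q))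
    (M : Type u) [AddCommGroup M] [Module B M] [Module.Finite B M] (J : Ideal B) :
    Module.Finite B (Sec B M (UJ B J)) ↔
      ∀ p ∈ associatedPrimes B M, ¬ J ≤ p → (2 : ℕ∞) ≤ (J.map (Ideal.Quotient.mk p)).height := by
  constructor
  · intro h p hp hJp
    haveI := hp.isPrime
    exact two_le_height_of_closureFinite J p hJp (closureFinite_of_finite J p hp hJp h)
  · intro h
    refine finite_sec J fun p _ hp hJp => closureFinite_of_hull p (hB p) fun y hy _ => ?_
    exact (h p hp hJp).trans (Ideal.height_mono (Ideal.map_mono hy))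

variable (A : Type u) [CommRing A] [IsNoetherianRing A] [IsLocalRing A]

theorem isNoetherianRing_cpl : IsNoetherianRing (EGA4.Cpl A) :=
  isNoetherianRing_adicCompletion A (maximalIdeal A)

theorem faithfullyFlat_cpl : Module.FaithfullyFlat A (EGA4.Cpl A) := by
  haveI := isNoetherianRing_cpl A
  exact Module.FaithfullyFlat.of_flat_of_isLocalHom

theorem two_le_height_map_iff {B : Type u} [CommRing B] [IsLocalRing B] (p : Ideal B) [p.IsPrime] :
    (2 : ℕ∞) ≤ ((maximalIdeal B).map (Ideal.Quotient.mk p)).height ↔
      (2 : WithBot ℕ∞) ≤ ringKrullDim (B ⧸ p) := by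
  haveI : IsLocalRing (B ⧸ p) := IsLocalRing.of_surjective' _ Ideal.Quotient.mk_surjective
  rw [IsLocalRing.map_maximalIdeal_of_surjective (Ideal.Quotient.mk p) Ideal.Quotient.mk_surjective,
    ← IsLocalRing.maximalIdeal_height_eq_ringKrullDim]
  exact WithBot.coe_le_coe.symm

/-- The criterion for the punctured spectrum. -/
theorem finite_sec_punctured_iff (M : Type u) [AddCommGroup M] [Module A M] [Module.Finite A M] :
    Module.Finite A (Sec A M (UJ A (maximalIdeal A))) ↔
      ∀ p' ∈ associatedPrimes (EGA4.Cpl A) ((EGA4.Cpl A) ⊗[A] M),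
        p' ≠ maximalIdeal (EGA4.Cpl A) → (2 : WithBot ℕ∞) ≤ ringKrullDim (EGA4.Cpl A ⧸ p') := by
  haveI := isNoetherianRing_cpl A
  haveI := faithfullyFlat_cpl A
  have hm : (maximalIdeal A).map (algebraMap A (EGA4.Cpl A)) = maximalIdeal (EGA4.Cpl A) :=
    AdicCompletion.maximalIdeal_eq_map.symm
  have h1 : Module.Finite A (Sec A M (UJ A (maximalIdeal A))) ↔
      Module.Finite (EGA4.Cpl A) (Sec (EGA4.Cpl A) ((EGA4.Cpl A) ⊗[A] M)
        (UJ (EGA4.Cpl A) ((maximalIdeal A).map (algebraMap A (EGA4.Cpl A))))) :=
    ⟨fun h => SecBC.finite_sec_baseChange M (EGA4.Cpl A) _ h,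
      fun h => SecBC.finite_sec_of_baseChange M (EGA4.Cpl A) _ h⟩
  rw [h1, finite_sec_iff (EGA4.Cpl A) (fun q _ => heightOneHullFinite_of_complete (EGA4.Cpl A) q), hm]
  refine forall₂_congr fun p' hp' => ?_
  haveI := hp'.isPrime
  rw [two_le_height_map_iff p']
  exact imp_congr_left ⟨fun h e => h (by rw [e]), fun h hle => h
    ((maximalIdeal.isMaximal _).eq_of_le hp'.isPrime.ne_top hle).symm⟩

/-- A height one hull forces codimension two over flat algebras. -/
theorem two_le_height_of_hull {B : Type u} [CommRing B] [IsDomain B] [IsNoetherianRing B]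
    (hB : EGA4.HeightOneHullFinite B) (P : Ideal B) (hP : (2 : ℕ∞) ≤ P.height)
    (D : Type u) [CommRing D] [IsNoetherianRing D] [Algebra B D] [Module.Flat B D]
    (r : Ideal D) (hr : r ∈ associatedPrimes D D) :
    ¬ P.map (algebraMap B D) ≤ r ∧ (2 : ℕ∞) ≤ ((P.map (algebraMap B D)).map (Ideal.Quotient.mk r)).height := by
  haveI := hr.isPrime
  have hP0 : P ≠ ⊥ := fun h => by rw [h, Ideal.height_bot] at hP; simp at hP
  have hnle : ¬ P.map (algebraMap B D) ≤ r := by
    intro h
    obtain ⟨b, hb, hb0⟩ := Submodule.exists_mem_ne_zero_of_ne_bot hP0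
    have hreg : IsSMulRegular B b := fun x y e => mul_left_cancel₀ hb0 e
    have hreg' : IsSMulRegular D (algebraMap B D b) := by
      have := hreg.of_flat (S := D)
      exact this
    obtain ⟨-, z, hz⟩ := isAssociatedPrime_iff.mp hr
    have h0 := hz.le (h (Ideal.mem_map_of_mem _ hb))
    rw [Submodule.mem_colon_singleton, Submodule.mem_bot] at h0
    exact hr.isPrime.ne_top (by
      rw [hz, hreg'.right_eq_zero_of_smul h0, Ideal.eq_top_iff_one, Submodule.mem_colon_singleton,
        Submodule.mem_bot, smul_zero])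
  refine ⟨hnle, ?_⟩
  have hA : Module.Finite B (Sec B B (UJ B P)) := by
    refine finite_sec P fun p _ hp hPp => ?_
    have hp0 : p = ⊥ := by
      obtain ⟨-, z, hz⟩ := isAssociatedPrime_iff.mp hp
      refine le_bot_iff.mp fun x hx => ?_
      have h0 := hz.le hx
      rw [Submodule.mem_colon_singleton, Submodule.mem_bot, smul_eq_mul] at h0
      refine (Submodule.mem_bot B).mpr ((mul_eq_zero.mp h0).resolve_right fun hz0 => ?_)
      exact hp.isPrime.ne_top (by
        rw [hz, hz0, Ideal.eq_top_iff_one, Submodule.mem_colon_singleton, Submodule.mem_bot, smul_zero])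
    subst hp0
    refine closureFinite_of_hull _ (heightOneHullFinite_of_ringEquiv (RingEquiv.quotientBot B).symm hB)
      fun y hy _ => hP.trans ?_
    exact (Ideal.height_mono (show P ≤ y.asIdeal from hy)).trans
      (RingEquiv.height_map (RingEquiv.quotientBot B).symm y.asIdeal).ge
  have hD := SecBC.finite_sec_baseChange B D P hA
  have hrT : r ∈ associatedPrimes D (D ⊗[B] B) := by
    rw [LinearEquiv.AssociatedPrimes.eq (TensorProduct.AlgebraTensorModule.rid B D D)]
    exact hr
  exact two_le_height_of_closureFinite _ r hnle (closureFinite_of_finite _ r hrT hnle hD)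

/-- The hull of a local domain is finite when the completion has no bad associated primes. -/
theorem heightOneHullFinite_of_completion [IsDomain A]
    (h : ∀ p' ∈ associatedPrimes (EGA4.Cpl A) (EGA4.Cpl A), ∀ (Q' : Ideal (EGA4.Cpl A)) [Q'.IsPrime], p' ≤ Q' →
        (2 : ℕ∞) ≤ (Q'.comap (algebraMap A (EGA4.Cpl A))).height →
          (2 : ℕ∞) ≤ (Q'.map (Ideal.Quotient.mk p')).height) :
    EGA4.HeightOneHullFinite A := by
  classical
  haveI := isNoetherianRing_cpl A
  haveI := faithfullyFlat_cpl A
  let C := EGA4.Cpl A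
  let K := FractionRing A
  let L := C ⊗[A] K
  let Z : Set (PrimeSpectrum C) := {P | (2 : ℕ∞) ≤ (P.asIdeal.comap (algebraMap A C)).height}
  let N : Submodule C L := cl Z (LinearMap.range (Algebra.linearMap C L))
  let f : C →ₗ[C] N := (Algebra.linearMap C L).codRestrict N fun c => le_cl Z _ ⟨c, rfl⟩
  have hfin : Module.Finite C N := by
    let T := {p : PrimeSpectrum C // p.asIdeal ∈ associatedPrimes C C}
    haveI : Finite T := by
      haveI := (associatedPrimes.finite C C).to_subtype
      exact Finite.of_injective (fun p : T => (⟨p.1.asIdeal, p.2⟩ : associatedPrimes C C))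
        fun p q e => Subtype.ext (PrimeSpectrum.ext (congrArg (fun z : associatedPrimes C C => z.1) e))
    have hS : ∀ p : T, Algebra.algebraMapSubmonoid C A⁰ ≤ p.1.asIdeal.primeCompl := by
      rintro ⟨p, hp⟩ _ ⟨a, ha, rfl⟩ hap
      obtain ⟨-, z, hz⟩ := isAssociatedPrime_iff.mp hp
      have hreg : IsSMulRegular C (algebraMap A C a) := by
        have := (show IsSMulRegular A a from fun x y e => mul_left_cancel₀ (nonZeroDivisors.ne_zero ha) e).of_flat
          (S := C)
        exact this
      have h0 := hz.le hap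
      rw [Submodule.mem_colon_singleton, Submodule.mem_bot] at h0
      exact p.isPrime.ne_top (by
        rw [hz, hreg.right_eq_zero_of_smul h0, Ideal.eq_top_iff_one, Submodule.mem_colon_singleton,
          Submodule.mem_bot, smul_zero])
    haveI : IsLocalization (Algebra.algebraMapSubmonoid C A⁰) L := IsLocalization.tensor K A⁰
    let χ : ∀ p : T, L →ₐ[C] Localization.AtPrime p.1.asIdeal := fun p =>
      IsLocalization.liftAlgHom (M := Algebra.algebraMapSubmonoid C A⁰) (f := Algebra.ofId C _) fun s =>
        IsLocalization.map_units (M := p.1.asIdeal.primeCompl) (Localization.AtPrime p.1.asIdeal) ⟨s.1, hS p s.2⟩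
    refine finite_of_closure (Z := Z) f (fun n P hP => ?_) (fun p : T => p.1)
      (fun p => closureFinite_of_hull p.1.asIdeal (heightOneHullFinite_of_complete C p.1.asIdeal)
        fun y hy hle => h p.1.asIdeal p.2 y.asIdeal hle hy)
      (fun p => (χ p).toLinearMap.comp N.subtype) fun n hn => ?_
    · obtain ⟨a, ha, c, hc⟩ := n.2 P hP
      exact ⟨a, ha, c, Subtype.ext hc⟩
    · obtain ⟨c, s, hcs⟩ := IsLocalization.exists_mk'_eq (Algebra.algebraMapSubmonoid C A⁰) (n : L)
      have hc0 : c ≠ 0 := fun e => hn (Subtype.ext (by rw [← hcs, e, IsLocalization.mk'_zero]; rfl))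
      set S := Submodule.span C {c}
      have hI : S.annihilator ≠ ⊤ := fun htop => hc0 (by
        have := (Submodule.eq_top_iff'.mp htop) 1
        rwa [Submodule.mem_annihilator_span_singleton, one_smul] at this)
      obtain ⟨m₀, hm₀, hle⟩ := Ideal.exists_le_maximal _ hI
      obtain ⟨Q, hQmin, -⟩ := Ideal.exists_minimalPrimes_le hle
      have hQp : Q.IsPrime := hQmin.1.1
      haveI : Module.Finite C S := Module.Finite.iff_fg.2 (Submodule.fg_span_singleton c)
      have hQC : Q ∈ associatedPrimes C C := associatedPrimes.subset_of_injective (f := S.subtype)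
        Subtype.val_injective (Module.associatedPrimes.minimalPrimes_annihilator_subset_associatedPrimes C S hQmin)
      let p : T := ⟨⟨Q, hQp⟩, hQC⟩
      have hχ : algebraMap C (Localization.AtPrime p.1.asIdeal) s.1 * χ p (n : L) = algebraMap C _ c := by
        have := congrArg (χ p) (show algebraMap C L s.1 * (n : L) = algebraMap C L c by
          rw [← hcs, IsLocalization.mk'_spec'])
        rwa [map_mul, AlgHom.commutes, AlgHom.commutes] at this
      refine ⟨p, fun h0 => ?_, fun a ha => ?_⟩
      · change χ p (n : L) = 0 at h0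
        rw [h0, mul_zero] at hχ
        obtain ⟨v, hv⟩ := (IsLocalization.map_eq_zero_iff Q.primeCompl (Localization.AtPrime Q) c).mp hχ.symm
        exact v.2 (hQmin.1.2 ((Submodule.mem_annihilator_span_singleton c (v : C)).mpr hv))
      · have hrad : a ∈ (S.annihilator.map (algebraMap C (Localization.AtPrime Q))).radical := by
          rw [Ideal.radical_eq_sInf, Submodule.mem_sInf]
          rintro I ⟨hI', hI''⟩
          have hle' : Ideal.comap (algebraMap C (Localization.AtPrime Q)) I ≤ Q := fun r hr =>
            (IsLocalization.AtPrime.to_map_mem_maximal_iff (Localization.AtPrime Q) Q r).mp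
              (IsLocalRing.le_maximalIdeal hI''.ne_top hr)
          have hQI : Q ≤ Ideal.comap (algebraMap C (Localization.AtPrime Q)) I :=
            hQmin.2 ⟨Ideal.IsPrime.comap _, Ideal.map_le_iff_le_comap.mp hI'⟩ hle'
          have : maximalIdeal (Localization.AtPrime Q) ≤ I := by
            rw [← IsLocalization.AtPrime.map_eq_maximalIdeal Q (Localization.AtPrime Q)]
            exact Ideal.map_le_iff_le_comap.mpr hQI
          exact this ha
        obtain ⟨k, hk⟩ := hrad
        obtain ⟨⟨⟨g, hg⟩, t⟩, hgt⟩ := (IsLocalization.mem_map_algebraMap_iff Q.primeCompl _).mp hk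
        have hu : IsUnit (algebraMap C (Localization.AtPrime Q) s.1) :=
          IsLocalization.map_units (M := Q.primeCompl) _ ⟨s.1, hS p s.2⟩
        refine ⟨k, ?_⟩
        change a ^ k * χ p (n : L) = 0
        refine hu.mul_right_eq_zero.mp ((IsLocalization.map_units (Localization.AtPrime Q) t).mul_right_eq_zero.mp ?_)
        have hg0 : algebraMap C (Localization.AtPrime Q) g * algebraMap C _ c = 0 := by
          rw [← map_mul, show g * c = 0 from (Submodule.mem_annihilator_span_singleton c g).mp hg, map_zero]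
        calc algebraMap C (Localization.AtPrime Q) t * (algebraMap C _ s.1 * (a ^ k * χ p (n : L)))
            = (a ^ k * algebraMap C (Localization.AtPrime Q) t) * (algebraMap C _ s.1 * χ p (n : L)) := by ring
          _ = 0 := by rw [hgt, hχ, hg0]
  -- the hull embeds
  rw [heightOneHullFinite_iff]
  let ι : C ⊗[A] hullMod A →ₗ[C] L := (hullMod A).subtype.baseChange C
  have hι : Function.Injective ι :=
    Module.Flat.lTensor_preserves_injective_linearMap _ (hullMod A).injective_subtype
  have hmem : ∀ w, ι w ∈ N := by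
    intro w
    induction w using TensorProduct.induction_on with
    | zero => rw [map_zero]; exact zero_mem _
    | add u v hu hv => rw [map_add]; exact add_mem hu hv
    | tmul b x =>
      intro P hP
      change ¬ (2 : ℕ∞) ≤ _ at hP
      have hex : ∃ a : A, algebraMap A C a ∉ P.asIdeal ∧ ∃ y : A, algebraMap A K y = algebraMap A K a * x.1 := by
        set q := P.asIdeal.comap (algebraMap A C)
        haveI hq : q.IsPrime := Ideal.IsPrime.comap _
        rcases eq_or_ne q ⊥ with hq0 | hq0
        · obtain ⟨⟨y, a⟩, hy⟩ := IsLocalization.surj A⁰ (x.1 : K)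
          exact ⟨a, fun hmem => nonZeroDivisors.coe_ne_zero a
            ((Submodule.mem_bot A).mp (hq0 ▸ (Ideal.mem_comap.mpr hmem : (a : A) ∈ q))), y,
            by rw [mul_comm]; exact hy.symm⟩
        · have h1 : q.height = 1 := le_antisymm (by
            rw [not_le, show (2 : ℕ∞) = 1 + 1 from one_add_one_eq_two.symm, ENat.lt_add_one_iff (by simp)] at hP
            exact hP) (Order.one_le_iff_ne_zero.mpr fun h0 => hq0 (Ideal.height_eq_zero_iff_eq_bot.mp h0))
          obtain ⟨a, ha, y, hy⟩ := x.2 q h1
          exact ⟨a, fun hmem => ha (Ideal.mem_comap.mpr hmem), y, hy⟩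
      obtain ⟨a, ha, y, hy⟩ := hex
      refine ⟨algebraMap A C a, ha, b * algebraMap A C y, ?_⟩
      rw [Algebra.linearMap_apply, LinearMap.baseChange_tmul, algebraMap_smul, ← TensorProduct.tmul_smul,
        Submodule.subtype_apply, Algebra.smul_def, ← hy, Algebra.TensorProduct.algebraMap_apply,
        Algebra.algebraMap_self, RingHom.id_apply, mul_comm b, ← Algebra.smul_def, Algebra.algebraMap_eq_smul_one y,
        TensorProduct.smul_tmul]
  haveI := hfin
  haveI : Module.Finite C (C ⊗[A] hullMod A) :=
    Module.Finite.of_injective (ι.codRestrict N hmem) (fun a b e => hι (congrArg Subtype.val e))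
  haveI : Module.Finite A (hullMod A) := Module.Finite.of_finite_tensorProduct_of_faithfullyFlat C
  exact Module.Finite.iff_fg.1 ‹_›

theorem heightOneHullFinite_iff_completion [IsDomain A] :
    EGA4.HeightOneHullFinite A ↔
      ∀ p' ∈ associatedPrimes (EGA4.Cpl A) (EGA4.Cpl A), ∀ (Q' : Ideal (EGA4.Cpl A)) [Q'.IsPrime], p' ≤ Q' →
        (2 : ℕ∞) ≤ (Q'.comap (algebraMap A (EGA4.Cpl A))).height →
          (2 : ℕ∞) ≤ (Q'.map (Ideal.Quotient.mk p')).height := by
  refine ⟨fun hA p' hp' Q' _ hle hQ' => ?_, heightOneHullFinite_of_completion A⟩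
  haveI := isNoetherianRing_cpl A
  haveI := faithfullyFlat_cpl A
  exact (two_le_height_of_hull hA _ hQ' (EGA4.Cpl A) p' hp').2.trans
    (Ideal.height_mono (Ideal.map_mono Ideal.map_comap_le))

end Groth.Agent.H05EGA4.HullCompletion
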