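import Mathlib
import Groth.Prelude.Def_EGA41
import Groth.Agent.H05EGA4.CohenStructure
import Groth.Agent.H02CA.GeomReducedField

/-!
# Miscellaneous consequences of Cohen's structure theory (helper5)
-/

set_option autoImplicit false
universe u v
open IsLocalRing Groth.Agent

namespace Groth.Agent.H05EGA4

/-- Separable (= geometrically reduced) field extensions are formally smooth. -/
theorem formallySmooth_of_geometricallyReduced (k K : Type u) [Field k] [Field K] [Algebra k K]
    [Algebra.IsGeometricallyReduced k K] : Algebra.FormallySmooth k K :=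
  formallySmooth_of_forall_fg k K fun F hF => by
    have := IntermediateField.essFiniteType_iff.mpr hF
    have := Algebra.IsGeometricallyReduced.of_injective F.val Subtype.val_injective
    exact H02CA.formallySmooth_of_isGeometricallyReduced k F

/-- Ideals of a Noetherian local ring are closed. -/
theorem mem_of_forall_mem_sup_pow {C : Type u} [CommRing C] [IsLocalRing C] [IsNoetherianRing C] {J : Ideal C}
    {z : C} (h : ∀ n, z ∈ J ⊔ maximalIdeal C ^ n) : z ∈ J := by
  rcases eq_or_ne J ⊤ with rfl | hJ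
  · exact Submodule.mem_top
  have : Nontrivial (C ⧸ J) := Ideal.Quotient.nontrivial_iff.mpr hJ
  have : IsLocalRing (C ⧸ J) := .of_surjective' _ Ideal.Quotient.mk_surjective
  refine Ideal.Quotient.eq_zero_iff_mem.mp (Ideal.mem_bot.mp ?_)
  rw [← Ideal.iInf_pow_eq_bot_of_isLocalRing (maximalIdeal (C ⧸ J)) (maximalIdeal.isMaximal _).ne_top,
    Ideal.mem_iInf]
  intro n
  have h1 := Ideal.mem_map_of_mem (Ideal.Quotient.mk J) (h n)
  rw [Ideal.map_sup, Ideal.map_quotient_self, bot_sup_eq, Ideal.map_pow] at h1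
  refine Ideal.pow_right_mono ?_ n h1
  exact le_of_eq (IsLocalRing.map_maximalIdeal_of_surjective _ Ideal.Quotient.mk_surjective)

/-- Lifting from a formally smooth algebra into a complete local ring. -/
theorem exists_lift_formallySmooth_adicComplete {R : Type v} {W C : Type u} [CommRing R] [CommRing W]
    [CommRing C] [Algebra R W] [Algebra R C] [Algebra.FormallySmooth R W] [IsLocalRing C]
    [IsAdicComplete (maximalIdeal C) C] (J : Ideal C) (hJ : J ≤ maximalIdeal C) (u : W →ₐ[R] C ⧸ J) :
    ∃ v : W →ₐ[R] C, ∀ x c, u x = Ideal.Quotient.mk J c → ∀ n, v x - c ∈ J ⊔ maximalIdeal C ^ n :=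
  exists_lift_adicComplete (R := R) (W := W) (maximalIdeal C) J hJ
    (fun n K hK hnK u => by
      let g := Ideal.Quotient.factorₐ R hnK
      have hg : Function.Surjective g := Ideal.Quotient.factor_surjective hnK
      have hnil : IsNilpotent (RingHom.ker (g : (C ⧸ maximalIdeal C ^ (n + 1)) →+* C ⧸ K)) := by
        refine ⟨n + 1, ?_⟩
        have : RingHom.ker (g : (C ⧸ maximalIdeal C ^ (n + 1)) →+* C ⧸ K) = K.map (Ideal.Quotient.mk _) :=
          Ideal.Quotient.factor_ker hnK
        rw [this, ← Ideal.map_pow]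
        exact le_bot_iff.mp ((Ideal.map_mono (Ideal.pow_right_mono hK _)).trans (le_of_eq (Ideal.map_quotient_self _)))
      refine ⟨Algebra.FormallySmooth.liftOfSurjective u g hg hnil, fun x c hc => ?_⟩
      rw [← Algebra.FormallySmooth.liftOfSurjective_apply u g hg hnil x, hc]
      rfl) u

/-- Local homomorphisms from a Cohen ring lift to complete Noetherian local rings. -/
theorem exists_lift_of_isCohenRingEGA {W C : Type u} [CommRing W] [IsLocalRing W] (hW : EGA41.IsCohenRingEGA W)
    [CommRing C] [IsLocalRing C] [IsNoetherianRing C] [IsAdicComplete (maximalIdeal C) C]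
    (J : Ideal C) (hJ : J ≠ ⊤) (u : W →+* C ⧸ J) [IsLocalHom u] :
    ∃ v : W →+* C, IsLocalHom v ∧ (Ideal.Quotient.mk J).comp v = u := by
  have hJm : J ≤ maximalIdeal C := le_maximalIdeal hJ
  suffices h : ∃ v : W →+* C, ∀ x c, u x = Ideal.Quotient.mk J c → ∀ n, v x - c ∈ J ⊔ maximalIdeal C ^ n by
    obtain ⟨v, hv⟩ := h
    have heq : (Ideal.Quotient.mk J).comp v = u := RingHom.ext fun x => by
      obtain ⟨c, hc⟩ := Ideal.Quotient.mk_surjective (u x)
      rw [← hc]
      exact Ideal.Quotient.eq.mpr (mem_of_forall_mem_sup_pow (hv x c hc.symm))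
    exact ⟨v, ⟨fun x hx => isUnit_of_map_unit u x (by
      rw [← heq, RingHom.comp_apply]; exact hx.map _)⟩, heq⟩
  rcases hW with ⟨hF, h0⟩ | hW
  · letI := hF.toField
    have hu : ∀ n : ℕ, n ≠ 0 → IsUnit (n : C) := fun n hn => by
      by_contra h
      have h1 : ¬ IsUnit (u (n : W)) := by
        rw [map_natCast, ← map_natCast (Ideal.Quotient.mk J)]
        intro h2
        obtain ⟨y, hy⟩ := h2.exists_right_inv
        obtain ⟨y, rfl⟩ := Ideal.Quotient.mk_surjective y
        rw [← map_mul, ← map_one (Ideal.Quotient.mk J)] at hy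
        have h3 := sub_mem (Ideal.mul_mem_right y _ (show (n : C) ∈ maximalIdeal C from h)) (hJm (Ideal.Quotient.eq.mp hy))
        rw [sub_sub_cancel] at h3
        exact (maximalIdeal.isMaximal C).ne_top ((Ideal.eq_top_iff_one _).mpr h3)
      exact h1 ((IsUnit.mk0 (n : W) (Nat.cast_ne_zero.mpr hn)).map u)
    have hf : ∀ m : nonZeroDivisors ℤ, IsUnit (Int.castRingHom C m) := fun m => by
      have h := hu (m : ℤ).natAbs (Int.natAbs_ne_zero.mpr (nonZeroDivisors.ne_zero m.2))
      rcases Int.natAbs_eq (m : ℤ) with h' | h' <;> rw [h'] <;> simpa using h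
    letI : Algebra ℚ C := (IsLocalization.lift (S := ℚ) hf).toAlgebra
    have := formallySmooth_of_perfectField ℚ W
    obtain ⟨v, hv⟩ := exists_lift_formallySmooth_adicComplete (R := ℚ) J hJm
      (AlgHom.mk u fun r => RingHom.congr_fun
          (Subsingleton.elim (u.comp (algebraMap ℚ W)) (algebraMap ℚ (C ⧸ J))) r)
    exact ⟨v.toRingHom, fun x c hc => hv x c hc⟩
  · obtain ⟨_, _, -, p, hp, hmax⟩ := id hW
    have : Fact p.Prime := ⟨hp⟩
    have hpC : (p : C) ∈ maximalIdeal C := by
      intro h
      have h1 : IsUnit (u (p : W)) := by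
        rw [map_natCast, ← map_natCast (Ideal.Quotient.mk J)]; exact h.map _
      exact (hmax ▸ Ideal.mem_span_singleton_self (p : W) : (p : W) ∈ maximalIdeal W) (isUnit_of_map_unit u _ h1)
    exact exists_lift_cohenRing_adicComplete hW p (hmax ▸ (maximalIdeal.isMaximal W).ne_top) hpC J hJm u

end Groth.Agent.H05EGA4
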