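import Mathlib
import Groth.Prelude.Def_CAlgX
import Groth.Agent.S9316
import Groth.Agent.S9443
import Groth.Agent.H02CA.AdicSmooth
import Groth.Agent.H05EGA4.CohenStructure
import Groth.Agent.H05EGA4.Completion
import Groth.Agent.H05EGA4.Regular2

/-!
# Adic formal smoothness over fields: regularity and derivations (helper5)
-/

set_option autoImplicit false
set_option linter.style.haveILetI false
set_option maxHeartbeats 600000
universe u
open IsLocalRing Groth.Agent CAlgX

namespace Groth.Agent.H05EGA4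

/-- Adic formal smoothness is invariant under isomorphisms. -/
theorem isAdicFormallySmooth_of_algEquiv {k B B' : Type u} [CommRing k] [CommRing B] [CommRing B'] [Algebra k B]
    [Algebra k B'] (e : B ≃ₐ[k] B') (n : Ideal B) (n' : Ideal B') (hn : n.map e.toRingEquiv.toRingHom = n')
    (h : IsAdicFormallySmooth k B n) : IsAdicFormallySmooth k B' n' := by
  intro C _ _ J hJ ψ hψ
  obtain ⟨j, hj⟩ := hψ
  obtain ⟨χ, hχ⟩ := h C J hJ (ψ.comp e.toAlgHom) ⟨j, fun x hx => hj _ (by
    rw [← hn, ← Ideal.map_pow]; exact Ideal.mem_map_of_mem _ hx)⟩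
  refine ⟨χ.comp e.symm.toAlgHom, AlgHom.ext fun x => ?_⟩
  have := AlgHom.congr_fun hχ (e.symm x)
  simpa using this

/-- A field formally smooth over a subfield is adically formally smooth for the zero ideal. -/
theorem isAdicFormallySmooth_of_formallySmooth {k K : Type u} [CommRing k] [CommRing K] [Algebra k K]
    [Algebra.FormallySmooth k K] (n : Ideal K) : IsAdicFormallySmooth k K n := by
  intro C _ _ J hJ ψ _
  exact ⟨Algebra.FormallySmooth.lift J ⟨2, hJ⟩ ψ, Algebra.FormallySmooth.comp_lift J ⟨2, hJ⟩ ψ⟩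

/-- A regular local algebra over a perfect field is formally smooth. -/
theorem isAdicFormallySmooth_of_perfectField (P A : Type u) [Field P] [PerfectField P] [CommRing A]
    [IsRegularLocalRing A] [Algebra P A] : IsAdicFormallySmooth P A (maximalIdeal A) := by
  let Â := AdicCompletion (maximalIdeal A) A
  rw [H02CA.AdicSmooth.iff_adicCompletion (maximalIdeal A) (IsNoetherian.noetherian _)]
  rw [← AdicCompletion.maximalIdeal_eq_map]
  have : IsNoetherianRing Â := isNoetherianRing_adicCompletion A (maximalIdeal A)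
  have : IsRegularRing A := isRegularRing_of_isRegularLocalRing A
  have : IsRegularRing Â := isRegularRing_adicCompletion A (maximalIdeal A)
  have : IsRegularLocalRing Â := IsRegularLocalRing.of_isRegularRing_of_isLocalRing _
  have : IsAdicComplete (maximalIdeal Â) Â := by
    rw [AdicCompletion.maximalIdeal_eq_map]
    exact AdicCompletion.isAdicComplete_self _ (IsNoetherian.noetherian _)
  have := formallySmooth_of_perfectField P (ResidueField Â)
  obtain ⟨σ, hσ⟩ := exists_coefficientField (k := P) (A := Â)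
  letI : Algebra (ResidueField Â) Â := σ.toRingHom.toAlgebra
  have : IsScalarTower P (ResidueField Â) Â := IsScalarTower.of_algebraMap_eq fun x => (σ.commutes x).symm
  obtain ⟨d, ⟨e⟩⟩ := S9443.result Â (ResidueField Â) (by
    have h : ∀ x : ResidueField Â, algebraMap (ResidueField Â) (ResidueField Â) x = residue Â (σ x) := fun x => (hσ x).symm
    refine ⟨RingHom.injective _, fun x => ⟨x, ?_⟩⟩
    show residue Â (σ x) = x
    exact hσ x)
  refine isAdicFormallySmooth_of_algEquiv (e.symm.restrictScalars P) (maximalIdeal _) _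
    (IsLocalRing.map_ringEquiv_maximalIdeal _) ?_
  refine H02CA.AdicSmooth.mvPowerSeries _ (fun i => fun hu => ?_) fun C _ _ J hJ ψ _ =>
    ⟨Algebra.FormallySmooth.lift J ⟨2, hJ⟩ ψ, Algebra.FormallySmooth.comp_lift J ⟨2, hJ⟩ ψ⟩
  have := MvPowerSeries.isUnit_iff_constantCoeff.mp hu
  rw [MvPowerSeries.constantCoeff_X] at this
  exact not_isUnit_zero this

/-- Lifting the residue map along a square-zero extension. -/
theorem exists_lift_residue {k A C : Type u} [Field k] [CommRing A] [IsLocalRing A] [Algebra k A] [CommRing C]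
    (h : IsAdicFormallySmooth k A (maximalIdeal A)) (g : k →+* C) (π₀ : C →+* ResidueField A)
    (hπ : Function.Surjective π₀) (hker : ∀ x y, π₀ x = 0 → π₀ y = 0 → x * y = 0)
    (hg : ∀ t, π₀ (g t) = algebraMap k (ResidueField A) t) :
    ∃ χ : A →+* C, (∀ a, π₀ (χ a) = residue A a) ∧ ∀ t, χ (algebraMap k A t) = g t := by
  letI : Algebra k C := g.toAlgebra
  let π : C →ₐ[k] ResidueField A := { π₀ with commutes' := hg }
  have hπ' : Function.Surjective π := hπ
  let J : Ideal C := RingHom.ker π
  have hJ : J ^ 2 = ⊥ := by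
    rw [pow_two, eq_bot_iff, Ideal.mul_le]
    exact fun x hx y hy => Ideal.mem_bot.mpr (hker x y hx hy)
  let e : (C ⧸ J) ≃ₐ[k] ResidueField A := Ideal.quotientKerAlgEquivOfSurjective hπ'
  obtain ⟨χ, hχ⟩ := h C J hJ (e.symm.toAlgHom.comp (IsScalarTower.toAlgHom k A (ResidueField A)))
    ⟨1, fun x hx => by
      rw [pow_one] at hx
      show e.symm (residue A x) = 0
      rw [(residue_eq_zero_iff x).mpr hx, map_zero]⟩
  refine ⟨χ.toRingHom, fun a => ?_, χ.commutes⟩
  have h1 := congrArg e (AlgHom.congr_fun hχ a)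
  simp only [AlgHom.comp_apply] at h1
  exact h1.trans (e.apply_symm_apply _)

/-- Derivations of the base into the residue field extend, over a formally smooth algebra. -/
theorem exists_derivation_of_isAdicFormallySmooth {k A : Type u} [Field k] [CommRing A] [IsLocalRing A] [Algebra k A]
    (h : IsAdicFormallySmooth k A (maximalIdeal A)) (D : Derivation ℤ k (ResidueField A)) :
    ∃ E : Derivation ℤ A (ResidueField A), ∀ t, E (algebraMap k A t) = D t := by
  let g : k →+* TrivSqZeroExt (ResidueField A) (ResidueField A) :=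
    { toFun := fun t => TrivSqZeroExt.inl (algebraMap k (ResidueField A) t) + TrivSqZeroExt.inr (D t)
      map_one' := by simp
      map_mul' := fun a b => TrivSqZeroExt.ext
        (by simp only [TrivSqZeroExt.fst_add, TrivSqZeroExt.fst_inl, TrivSqZeroExt.fst_inr, add_zero, TrivSqZeroExt.fst_mul, map_mul])
        (by simp only [TrivSqZeroExt.snd_add, TrivSqZeroExt.snd_inl, TrivSqZeroExt.snd_inr, zero_add, TrivSqZeroExt.snd_mul,
              TrivSqZeroExt.fst_add, TrivSqZeroExt.fst_inl, TrivSqZeroExt.fst_inr, add_zero, op_smul_eq_smul,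
              D.leibniz, algebraMap_smul])
      map_zero' := by simp
      map_add' := fun a b => TrivSqZeroExt.ext
        (by simp only [TrivSqZeroExt.fst_add, TrivSqZeroExt.fst_inl, TrivSqZeroExt.fst_inr, add_zero, map_add])
        (by simp only [TrivSqZeroExt.snd_add, TrivSqZeroExt.snd_inl, TrivSqZeroExt.snd_inr, zero_add, map_add]) }
  have hfst : ∀ t : k, TrivSqZeroExt.fst (g t) = algebraMap k (ResidueField A) t := fun t => by simp [g]
  obtain ⟨χ, hid, hχ⟩ := exists_lift_residue h g (TrivSqZeroExt.fstHom (ResidueField A) (ResidueField A) (ResidueField A)).toRingHom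
    (fun c => ⟨TrivSqZeroExt.inl c, TrivSqZeroExt.fst_inl (ResidueField A) c⟩)
    (fun x y hx hy => by
      have hx' : TrivSqZeroExt.fst x = 0 := hx
      have hy' : TrivSqZeroExt.fst y = 0 := hy
      exact TrivSqZeroExt.ext (by rw [TrivSqZeroExt.fst_mul, hx', zero_mul]; rfl)
        (by rw [TrivSqZeroExt.snd_mul, hx', hy', zero_smul, MulOpposite.op_zero, zero_smul, add_zero]; rfl)) hfst
  have hid' : ∀ a, TrivSqZeroExt.fst (χ a) = algebraMap A (ResidueField A) a := hid
  letI : Algebra ℤ A := Ring.toIntAlgebra A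
  let E : A →+ (ResidueField A) := AddMonoidHom.mk' (fun a => TrivSqZeroExt.snd (χ a)) fun a b => by simp
  refine ⟨Derivation.mk' E.toIntLinearMap fun a b => ?_, fun t => ?_⟩
  · show TrivSqZeroExt.snd (χ (a * b)) = a • TrivSqZeroExt.snd (χ b) + b • TrivSqZeroExt.snd (χ a)
    rw [map_mul, TrivSqZeroExt.snd_mul, hid', hid', op_smul_eq_smul, algebraMap_smul, algebraMap_smul]
  · show TrivSqZeroExt.snd (χ (algebraMap k A t)) = D t
    rw [hχ]
    simp [g]

/-- A regular local algebra into whose residue field all derivations of the base extend is formally smooth. -/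
theorem isAdicFormallySmooth_of_forall_derivation (P k A : Type u) [Field P] [PerfectField P] [Field k] [CommRing A]
    [IsRegularLocalRing A] [Algebra P k] [Algebra k A] [Algebra P A] [IsScalarTower P k A]
    (hext : ∀ D : Derivation ℤ k (ResidueField A), ∃ E : Derivation ℤ A (ResidueField A),
      ∀ t, E (algebraMap k A t) = D t) : IsAdicFormallySmooth k A (maximalIdeal A) := by
  have : IsLocalHom (algebraMap k A) := ⟨fun t ht => isUnit_iff_ne_zero.mpr fun h0 => by
    rw [h0, map_zero] at ht; exact not_isUnit_zero ht⟩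
  refine S9316.result.mpr ?_
  intro C _ _ _ _ _ J hJ hlen _ ψ hψloc hbij
  classical
  letI : Algebra P C := ((algebraMap k C).comp (algebraMap P k)).toAlgebra
  have : IsScalarTower P k C := IsScalarTower.of_algebraMap_eq fun _ => rfl
  have hsimp : IsSimpleModule C J := Module.length_eq_one_iff.mp hlen
  obtain ⟨⟨x, hx⟩, hxne⟩ : ∃ x : J, x ≠ 0 := by
    have : Nontrivial J := IsSimpleModule.nontrivial C J
    exact exists_ne 0
  have hx0 : x ≠ 0 := fun h => hxne (Subtype.ext h)
  have hgen : ∀ y ∈ J, ∃ c, y = c * x := fun y hy => by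
    obtain ⟨c, hc⟩ := IsSimpleModule.toSpanSingleton_surjective C hxne ⟨y, hy⟩
    exact ⟨c, (congrArg Subtype.val hc).symm⟩
  have hann : ∀ c ∈ maximalIdeal C, c * x = 0 := by
    intro c hc
    by_contra h0
    obtain ⟨d, hd⟩ := IsSimpleModule.toSpanSingleton_surjective C
      (m := (⟨c * x, J.mul_mem_left c hx⟩ : J)) (fun h => h0 (congrArg Subtype.val h)) ⟨x, hx⟩
    have hd' : d * (c * x) = x := congrArg Subtype.val hd
    have h1 : IsUnit (1 - d * c) :=
      (IsLocalRing.isUnit_or_isUnit_one_sub_self (d * c)).resolve_left fun hu =>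
        (IsLocalRing.mem_maximalIdeal _).mp hc (IsUnit.mul_iff.mp hu).2
    exact hx0 ((h1.mul_right_eq_zero).mp (by linear_combination -hd'))
  -- the lift over the perfect field
  obtain ⟨N, hN⟩ := (isArtinianRing_iff_isNilpotent_maximalIdeal C).mp ‹_›
  have hψm : ∀ a ∈ maximalIdeal A ^ N, ψ a = 0 := by
    intro a ha
    have h1 : (maximalIdeal A ^ N).map ψ.toRingHom ≤ (maximalIdeal (C ⧸ J)) ^ N := by
      rw [Ideal.map_pow]
      exact Ideal.pow_right_mono (((IsLocalRing.local_hom_TFAE ψ.toRingHom).out 0 2).mp ‹_›) N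
    rw [← IsLocalRing.map_maximalIdeal_of_surjective _ (Ideal.Quotient.mk_surjective (I := J)), ← Ideal.map_pow, hN,
      Ideal.zero_eq_bot, Ideal.map_bot] at h1
    exact Ideal.mem_bot.mp (h1 (Ideal.mem_map_of_mem _ ha))
  obtain ⟨χ₀, hχ₀⟩ := isAdicFormallySmooth_of_perfectField P A C J hJ (ψ.restrictScalars P) ⟨N, hψm⟩
  have hχψ : ∀ a, Ideal.Quotient.mk J (χ₀ a) = ψ a := fun a => AlgHom.congr_fun hχ₀ a
  have hkill : ∀ a, χ₀ a * x = 0 → a ∈ maximalIdeal A := fun a ha => by
    by_contra hu
    have h1 : IsUnit (χ₀ a) := (IsLocalRing.notMem_maximalIdeal.mp hu).map χ₀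
    exact hx0 (h1.mul_right_eq_zero.mp ha)
  have hmem : ∀ a ∈ maximalIdeal A, χ₀ a * x = 0 := fun a ha => hann _ (by
    refine (IsLocalRing.mem_maximalIdeal _).mpr fun hu => (IsLocalRing.mem_maximalIdeal _).mp ha ?_
    exact isUnit_of_map_unit ψ.toRingHom a ((hχψ a) ▸ hu.map (Ideal.Quotient.mk J) : IsUnit (ψ a)))
  have hcoef : ∀ c : C, ∃ a : A, c * x = χ₀ a * x := by
    intro c
    obtain ⟨z, hz⟩ := hbij.2 (residue (C ⧸ J) (Ideal.Quotient.mk J c))
    obtain ⟨a, rfl⟩ := residue_surjective z
    refine ⟨a, ?_⟩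
    rw [ResidueField.map_residue, AlgHom.toRingHom_eq_coe, RingHom.coe_coe, ← hχψ] at hz
    have h1 : Ideal.Quotient.mk J (χ₀ a - c) ∈ maximalIdeal (C ⧸ J) := by
      rw [map_sub]; exact Ideal.Quotient.eq.mp hz
    have h2 : χ₀ a - c ∈ maximalIdeal C := (IsLocalRing.mem_maximalIdeal _).mpr fun hu =>
      (IsLocalRing.mem_maximalIdeal _).mp h1 (hu.map _)
    linear_combination -(hann _ h2)
  -- the derivation measuring the failure
  have hδ : ∀ t : k, ∃ a : A, χ₀ (algebraMap k A t) = algebraMap k C t + χ₀ a * x := by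
    intro t
    have hJt : χ₀ (algebraMap k A t) - algebraMap k C t ∈ J := by
      rw [← Ideal.Quotient.eq, hχψ, AlgHom.commutes]; rfl
    obtain ⟨c, hc⟩ := hgen _ hJt
    obtain ⟨a, ha⟩ := hcoef c
    exact ⟨a, by rw [← ha, ← hc]; ring⟩
  choose s hs using hδ
  have huniq : ∀ a b, χ₀ a * x = χ₀ b * x → residue A a = residue A b := fun a b h =>
    Ideal.Quotient.eq.mpr (hkill _ (by rw [map_sub, sub_mul, h, sub_self]))
  have hxx : x * x = 0 := by
    have : x * x ∈ J ^ 2 := by rw [pow_two]; exact Ideal.mul_mem_mul hx hx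
    rw [hJ] at this
    exact this
  let D₀ : k →+ ResidueField A := AddMonoidHom.mk' (fun t => residue A (s t)) fun t u => by
    rw [← map_add]
    refine huniq _ _ ?_
    have h1 := hs (t + u)
    rw [map_add, map_add, map_add, hs t, hs u] at h1
    rw [map_add]
    linear_combination -h1
  let D : Derivation ℤ k (ResidueField A) := Derivation.mk' D₀.toIntLinearMap fun t u => by
    show residue A (s (t * u)) = t • residue A (s u) + u • residue A (s t)
    rw [Algebra.smul_def, Algebra.smul_def, IsScalarTower.algebraMap_apply k A (ResidueField A),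
      IsScalarTower.algebraMap_apply k A (ResidueField A)]
    show residue A (s (t * u)) = residue A (algebraMap k A t) * residue A (s u) + residue A (algebraMap k A u) * residue A (s t)
    rw [← map_mul, ← map_mul, ← map_add]
    refine huniq _ _ ?_
    have h1 := hs (t * u)
    rw [map_mul, map_mul, map_mul, hs t, hs u] at h1
    rw [map_add, map_mul, map_mul, hs t, hs u]
    linear_combination -h1 - (χ₀ (s t) * χ₀ (s u)) * hxx
  obtain ⟨E, hE⟩ := hext D
  choose lft hlft using fun z : ResidueField A => residue_surjective (R := A) z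
  have hwd : ∀ a b : A, residue A a = residue A b → χ₀ a * x = χ₀ b * x := fun a b h => by
    have := hmem _ (Ideal.Quotient.eq.mp h)
    rw [map_sub, sub_mul] at this
    exact sub_eq_zero.mp this
  let χ : A →+* C :=
    { toFun := fun a => χ₀ a - χ₀ (lft (E a)) * x
      map_one' := by
        rw [hwd (lft (E 1)) 0 (by rw [hlft, E.map_one_eq_zero, map_zero])]; simp
      map_zero' := by
        rw [hwd (lft (E 0)) 0 (by rw [hlft, map_zero, map_zero])]; simp
      map_add' := fun a b => by
        rw [hwd (lft (E (a + b))) (lft (E a) + lft (E b)) (by simp only [hlft, map_add])]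
        simp only [map_add]; ring
      map_mul' := fun a b => by
        rw [hwd (lft (E (a * b))) (a * lft (E b) + b * lft (E a)) (by
          rw [hlft, E.leibniz, map_add, map_mul, map_mul, hlft, hlft, Algebra.smul_def, Algebra.smul_def]; rfl)]
        simp only [map_add, map_mul]
        linear_combination -(χ₀ (lft (E a)) * χ₀ (lft (E b))) * hxx }
  refine ⟨{ χ with commutes' := fun t => ?_ }, AlgHom.ext fun a => ?_⟩
  · show χ₀ (algebraMap k A t) - χ₀ (lft (E (algebraMap k A t))) * x = algebraMap k C t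
    rw [hwd (lft (E (algebraMap k A t))) (s t) (by rw [hlft, hE]; rfl), hs t]
    ring
  · show Ideal.Quotient.mk J (χ₀ a - χ₀ (lft (E a)) * x) = ψ a
    rw [map_sub, hχψ, Ideal.Quotient.eq_zero_iff_mem.mpr (J.mul_mem_left _ hx), sub_zero]

theorem injective_of_surjective_endomorphism {R : Type u} [CommRing R] [IsNoetherianRing R] (f : R →+* R)
    (hf : Function.Surjective f) : Function.Injective f := by
  rw [injective_iff_map_eq_zero]
  intro x hx
  let K : ℕ →o Ideal R := ⟨fun n => RingHom.ker (f ^ n), monotone_nat_of_le_succ fun n y hy => by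
    rw [RingHom.mem_ker] at hy ⊢
    rw [pow_succ', RingHom.mul_def, RingHom.comp_apply, hy, map_zero]⟩
  obtain ⟨n, hn⟩ := monotone_stabilizes_iff_noetherian.mpr inferInstance K
  obtain ⟨y, rfl⟩ : ∃ y, (f ^ n) y = x := by
    rw [RingHom.coe_pow]
    exact hf.iterate n x
  have h1 : y ∈ K (n + 1) := by
    show (f ^ (n + 1)) y = 0
    rw [pow_succ', RingHom.mul_def, RingHom.comp_apply, hx]
  rw [← hn (n + 1) n.le_succ] at h1
  exact h1

/-- A surjection onto a formally smooth complete algebra with kernel inside the squares is injective. -/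
theorem injective_of_isAdicFormallySmooth {P T B : Type u} [CommRing P] [CommRing T] [IsLocalRing T]
    [IsNoetherianRing T] [CommRing B] [IsLocalRing B] [IsAdicComplete (maximalIdeal B) B] [Algebra P T] [Algebra P B]
    [IsHausdorff (maximalIdeal T) T] (φ : T →ₐ[P] B) (hφsur : Function.Surjective φ)
    (hkersq : ∀ f, φ f = 0 → f ∈ maximalIdeal T ^ 2) (hB : IsAdicFormallySmooth P B (maximalIdeal B)) :
    Function.Injective φ := by
  have hφloc : ∀ f ∈ maximalIdeal T, φ f ∈ maximalIdeal B := fun f hf => by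
    refine (IsLocalRing.mem_maximalIdeal _).mpr fun hu => ?_
    obtain ⟨v, hv⟩ := hu.exists_right_inv
    obtain ⟨g, rfl⟩ := hφsur v
    have h1 := hkersq (f * g - 1) (by rw [map_sub, map_mul, hv, map_one, sub_self])
    have h2 : (1 : T) ∈ maximalIdeal T := by
      have := sub_mem (Ideal.mul_mem_right g _ hf) (Ideal.pow_le_self two_ne_zero h1)
      rwa [sub_sub_cancel] at this
    exact (maximalIdeal.isMaximal T).ne_top ((Ideal.eq_top_iff_one _).mpr h2)
  -- the inverse modulo squares
  have hker2 : RingHom.ker φ.toRingHom ≤ RingHom.ker (Ideal.Quotient.mk (maximalIdeal T ^ 2)) := fun f hf => by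
    rw [Ideal.mk_ker]; exact hkersq f hf
  obtain ⟨u₀, hu₀⟩ : ∃ u₀ : B →+* T ⧸ maximalIdeal T ^ 2, ∀ f, u₀ (φ f) = Ideal.Quotient.mk _ f :=
    ⟨RingHom.liftOfSurjective φ.toRingHom hφsur ⟨_, hker2⟩,
      fun f => RingHom.liftOfRightInverse_comp_apply _ _ _ ⟨_, hker2⟩ f⟩
  have hσT : ∀ x : P, φ (algebraMap P T x) = algebraMap P B x := φ.commutes
  have hu₀m : ∀ a ∈ maximalIdeal B, ∃ f ∈ maximalIdeal T, φ f = a := fun a ha => by
    obtain ⟨f, rfl⟩ := hφsur a
    exact ⟨f, (IsLocalRing.mem_maximalIdeal _).mpr fun hu => (IsLocalRing.mem_maximalIdeal _).mp ha (hu.map φ), rfl⟩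
  have hmk : ∀ (N : ℕ) (a : B) (g : T) (w : T ⧸ maximalIdeal T ^ (N + 2)),
      Ideal.Quotient.mk _ g = w → Ideal.Quotient.factor (Ideal.pow_le_pow_right (Nat.le_add_left 2 N)) w = u₀ a →
      ∀ f, φ f = a → g - f ∈ maximalIdeal T ^ 2 := fun N a g w hw h f hf => by
    rw [← hw, Ideal.Quotient.factor_mk, ← hf, hu₀] at h
    exact Ideal.Quotient.eq.mp h
  have hlift : ∀ N, ∃ u : B →ₐ[P] T ⧸ maximalIdeal T ^ (N + 2),
      ∀ a, Ideal.Quotient.factor (Ideal.pow_le_pow_right (Nat.le_add_left 2 N)) (u a) = u₀ a := by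
    intro N
    induction N with
    | zero =>
      refine ⟨{ u₀ with commutes' := fun x => ?_ }, fun a => ?_⟩
      · show u₀ (algebraMap P B x) = _
        rw [← hσT, hu₀, ← Ideal.Quotient.mk_algebraMap]
      · obtain ⟨g, hg⟩ := Ideal.Quotient.mk_surjective (u₀ a)
        show Ideal.Quotient.factor _ (u₀ a) = u₀ a
        rw [← hg]; exact Ideal.Quotient.factor_mk _ g
    | succ N ih =>
      obtain ⟨u, hu⟩ := ih
      have hum : ∀ a ∈ maximalIdeal B, u a ∈ (maximalIdeal T).map (Ideal.Quotient.mk (maximalIdeal T ^ (N + 2))) := by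
        intro a ha
        obtain ⟨f, hf, hfa⟩ := hu₀m a ha
        obtain ⟨g, hg⟩ := Ideal.Quotient.mk_surjective (u a)
        have h1 := hmk N a g _ hg (hu a) f hfa
        rw [← hg]
        exact Ideal.mem_map_of_mem _ (by
          have := add_mem (Ideal.pow_le_self two_ne_zero h1) hf; rwa [sub_add_cancel] at this)
      have hle : maximalIdeal T ^ (N + 1 + 2) ≤ maximalIdeal T ^ (N + 2) := Ideal.pow_le_pow_right (by omega)
      let π := Ideal.Quotient.factorₐ P hle
      have hπmk : ∀ g, π (Ideal.Quotient.mk _ g) = Ideal.Quotient.mk _ g := fun g => Ideal.Quotient.factor_mk hle g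
      have hπ : Function.Surjective π := Ideal.Quotient.factor_surjective hle
      let J : Ideal (T ⧸ maximalIdeal T ^ (N + 1 + 2)) := RingHom.ker π
      have hJ : J ^ 2 = ⊥ := by
        rw [show J = (maximalIdeal T ^ (N + 2)).map (Ideal.Quotient.mk _) from Ideal.Quotient.factor_ker hle,
          ← Ideal.map_pow, Ideal.map_eq_bot_iff_le_ker, Ideal.mk_ker, ← pow_mul]
        exact Ideal.pow_le_pow_right (by omega)
      obtain ⟨e, he⟩ : ∃ e : ((T ⧸ maximalIdeal T ^ (N + 1 + 2)) ⧸ J) ≃ₐ[P] T ⧸ maximalIdeal T ^ (N + 2),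
          ∀ x, e (Ideal.Quotient.mk J x) = π x :=
        ⟨Ideal.quotientKerAlgEquivOfSurjective hπ, fun x => Ideal.quotientKerAlgEquivOfSurjective_mk hπ x⟩
      obtain ⟨χ, hχ⟩ := hB _ J hJ (e.symm.toAlgHom.comp u) ⟨N + 2, fun a ha => by
        have h1 : (maximalIdeal B ^ (N + 2)).map u.toRingHom ≤
            ((maximalIdeal T).map (Ideal.Quotient.mk (maximalIdeal T ^ (N + 2)))) ^ (N + 2) := by
          rw [Ideal.map_pow]; exact Ideal.pow_right_mono (Ideal.map_le_iff_le_comap.mpr hum) _
        rw [← Ideal.map_pow, Ideal.map_quotient_self] at h1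
        show e.symm (u a) = 0
        rw [show u a = 0 from Ideal.mem_bot.mp (h1 (Ideal.mem_map_of_mem _ ha)), map_zero]⟩
      refine ⟨χ, fun a => ?_⟩
      have h2 : π (χ a) = u a := by
        have := congrArg e (AlgHom.congr_fun hχ a)
        rw [AlgHom.comp_apply, AlgHom.comp_apply, Ideal.Quotient.mkₐ_eq_mk] at this
        rw [he] at this
        exact this.trans (e.apply_symm_apply _)
      rw [← hu a, ← h2]
      obtain ⟨g, hg⟩ := Ideal.Quotient.mk_surjective (χ a)
      rw [← hg, hπmk, Ideal.Quotient.factor_mk, Ideal.Quotient.factor_mk]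
  rw [injective_iff_map_eq_zero]
  intro f hf
  refine IsHausdorff.haus (I := maximalIdeal T) inferInstance f fun N => ?_
  rw [SModEq.sub_mem, sub_zero, smul_eq_mul, Ideal.mul_top]
  refine Ideal.pow_le_pow_right (Nat.le_add_right N 2) ?_
  obtain ⟨u, hu⟩ := hlift N
  let q := Ideal.Quotient.mk (maximalIdeal T ^ (N + 2))
  have hloc : ∀ a ∈ maximalIdeal B, u a ∈ (maximalIdeal T).map q := fun a ha => by
    obtain ⟨f', hf', hfa⟩ := hu₀m a ha
    obtain ⟨g, hg⟩ := Ideal.Quotient.mk_surjective (u a)
    rw [← hg]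
    exact Ideal.mem_map_of_mem _ (by
      have := add_mem (Ideal.pow_le_self two_ne_zero (hmk N a g _ hg (hu a) f' hfa)) hf'
      rwa [sub_add_cancel] at this)
  have hnil : ((maximalIdeal T).map q) ^ (N + 2) = ⊥ := by rw [← Ideal.map_pow, Ideal.map_quotient_self]
  have := H02CA.AdicSmooth.isAdicComplete_of_pow_eq_bot hnil
  have hsur : Function.Surjective u := by
    refine H02CA.PS.surjective_of_approx u.toRingHom (maximalIdeal B) ((maximalIdeal T).map q) hloc ?_ ?_
    · intro w
      obtain ⟨g, rfl⟩ := Ideal.Quotient.mk_surjective w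
      obtain ⟨g', hg'⟩ := Ideal.Quotient.mk_surjective (u (φ g))
      refine ⟨φ g, ?_⟩
      show u (φ g) - q g ∈ _
      rw [← hg', ← map_sub]
      exact Ideal.mem_map_of_mem _ (Ideal.pow_le_self two_ne_zero (hmk N _ g' _ hg' (hu _) g rfl))
    · intro w hw
      obtain ⟨g, hg, rfl⟩ := (Ideal.mem_map_iff_of_surjective _ Ideal.Quotient.mk_surjective).mp hw
      obtain ⟨g', hg'⟩ := Ideal.Quotient.mk_surjective (u (φ g))
      refine ⟨φ g, hφloc g hg, ?_⟩
      show u (φ g) - q g ∈ _
      rw [← hg', ← map_sub, ← Ideal.map_pow]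
      exact Ideal.mem_map_of_mem _ (hmk N _ g' _ hg' (hu _) g rfl)
  let θ : T →+* T ⧸ maximalIdeal T ^ (N + 2) := u.toRingHom.comp φ.toRingHom
  have hθ : maximalIdeal T ^ (N + 2) ≤ RingHom.ker θ := fun g hg => by
    have h1 : (maximalIdeal T ^ (N + 2)).map θ ≤ ((maximalIdeal T).map q) ^ (N + 2) := by
      rw [Ideal.map_pow]
      exact Ideal.pow_right_mono ((Ideal.map_le_iff_le_comap (f := θ)).mpr fun z hz => (Ideal.mem_comap (f := θ)).mpr (hloc _ (hφloc z hz))) _
    rw [hnil] at h1
    exact Ideal.mem_bot.mp (h1 (Ideal.mem_map_of_mem _ hg))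
  have hinj := injective_of_surjective_endomorphism (Ideal.Quotient.lift _ θ hθ)
    (Ideal.Quotient.lift_surjective_of_surjective _ hθ (hsur.comp hφsur))
  refine Ideal.Quotient.eq_zero_iff_mem.mp (hinj ?_)
  rw [map_zero]
  show u (φ f) = 0
  rw [hf, map_zero]

theorem exists_surjective_ker_le_sq {K B : Type u} [Field K] [CommRing B] [IsLocalRing B] [IsNoetherianRing B]
    [IsAdicComplete (maximalIdeal B) B] [Algebra K B]
    (hK : Function.Surjective ((residue B).comp (algebraMap K B))) :
    ∃ (n : ℕ) (φ : MvPowerSeries (Fin n) K →ₐ[K] B), Function.Surjective φ ∧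
      ∀ f, φ f = 0 → f ∈ maximalIdeal _ ^ 2 := by
  classical
  have hinjK : Function.Injective ((residue B).comp (algebraMap K B)) := RingHom.injective _
  obtain ⟨s, hs⟩ : ∃ s : ResidueField B → K, ∀ x, residue B (algebraMap K B (s x)) = x :=
    ⟨Function.surjInv hK, Function.surjInv_eq hK⟩
  let b := Module.finBasis (ResidueField B) (CotangentSpace B)
  let n := Module.finrank (ResidueField B) (CotangentSpace B)
  choose y hy using fun i => Ideal.toCotangent_surjective (maximalIdeal B) (b i)
  obtain ⟨φ, hφ⟩ := H02CA.PS.exists_algHom (R := K) (maximalIdeal B) (fun i => (y i : B)) fun i => (y i).2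
  let T := MvPowerSeries (Fin n) K
  have hTm : maximalIdeal T = H02CA.PS.vars (Fin n) K := H02CA.PS.maximalIdeal_eq_vars
  have : IsRegularLocalRing T := H02CA.PS.isRegularLocalRing_fin n
  have hTc : IsAdicComplete (maximalIdeal T) T := by rw [hTm]; infer_instance
  have hres : ∀ (c : B) (m : maximalIdeal B), (maximalIdeal B).toCotangent (c • m) =
      residue B c • (maximalIdeal B).toCotangent m := fun c m => map_smul _ c m
  have hφloc : ∀ f ∈ maximalIdeal T, φ f ∈ maximalIdeal B := by
    intro f hf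
    rw [hTm] at hf
    refine (show (H02CA.PS.vars (Fin n) K).map φ.toRingHom ≤ maximalIdeal B from ?_)
      (Ideal.mem_map_of_mem φ.toRingHom hf)
    rw [Ideal.map_span, Ideal.span_le]
    rintro _ ⟨_, ⟨i, rfl⟩, rfl⟩
    show φ (MvPowerSeries.X i) ∈ maximalIdeal B
    rw [hφ]; exact (y i).2
  have hmax : maximalIdeal B ≤ Ideal.span (Set.range fun i => (y i : B)) := by
    refine Submodule.le_of_le_smul_of_le_jacobson_bot (IsNoetherian.noetherian _) (maximalIdeal_le_jacobson ⊥) fun a ha => ?_
    obtain ⟨c, hc⟩ := Submodule.mem_span_range_iff_exists_fun (ResidueField B) |>.mp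
      (b.span_eq.ge (Submodule.mem_top : (maximalIdeal B).toCotangent ⟨a, ha⟩ ∈ _))
    have h1 : (maximalIdeal B).toCotangent ⟨a, ha⟩ =
        (maximalIdeal B).toCotangent (∑ i, algebraMap K B (s (c i)) • y i) := by
      rw [← hc, map_sum]
      exact Finset.sum_congr rfl fun i _ => by rw [hres, hy, hs]
    rw [Ideal.toCotangent_eq] at h1
    refine Submodule.mem_sup.mpr ⟨(∑ i, algebraMap K B (s (c i)) • y i : maximalIdeal B), ?_, _, ?_, add_sub_cancel _ a⟩
    · rw [AddSubmonoidClass.coe_finsetSum]
      exact Ideal.sum_mem _ fun i _ => Ideal.mul_mem_left _ _ (Ideal.subset_span ⟨i, rfl⟩)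
    · rw [smul_eq_mul, ← pow_two]; exact h1
  have hclose : ∀ r : B, algebraMap K B (s (residue B r)) - r ∈ maximalIdeal B := fun r =>
    Ideal.Quotient.eq.mp (hs _)
  have hφsur : Function.Surjective φ := by
    refine H02CA.PS.surjective_of_approx φ.toRingHom (maximalIdeal T) (maximalIdeal B) hφloc
      (fun r => ⟨algebraMap K T (s (residue B r)), ?_⟩) fun r hr => ?_
    · show φ (algebraMap K T (s (residue B r))) - r ∈ _
      rw [AlgHom.commutes]
      exact hclose r
    · have hr' := hmax hr
      clear hr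
      induction hr' using Submodule.span_induction with
      | mem a ha =>
        obtain ⟨i, rfl⟩ := ha
        exact ⟨MvPowerSeries.X i, by rw [hTm]; exact Ideal.subset_span ⟨i, rfl⟩, by
          show φ (MvPowerSeries.X i) - _ ∈ _
          rw [hφ, sub_self]; exact zero_mem _⟩
      | zero => exact ⟨0, zero_mem _, by simp⟩
      | add a c _ _ ha hc =>
        obtain ⟨u, hu, hu'⟩ := ha
        obtain ⟨v, hv, hv'⟩ := hc
        exact ⟨u + v, add_mem hu hv, by rw [map_add, add_sub_add_comm]; exact add_mem hu' hv'⟩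
      | smul r a _ ha =>
        obtain ⟨u, hu, hu'⟩ := ha
        refine ⟨algebraMap K T (s (residue B r)) * u, Ideal.mul_mem_left _ _ hu, ?_⟩
        show φ (algebraMap K T (s (residue B r)) * u) - r • a ∈ _
        rw [map_mul, AlgHom.commutes, smul_eq_mul,
          show algebraMap K B (s (residue B r)) * φ u - r * a =
            (algebraMap K B (s (residue B r)) - r) * φ u + r * (φ u - a) by ring]
        refine add_mem ?_ (Ideal.mul_mem_left _ _ hu')
        rw [pow_two]
        exact Ideal.mul_mem_mul (hclose r) (hφloc u hu)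
  have hkersq : ∀ f, φ f = 0 → f ∈ maximalIdeal T ^ 2 := by
    intro f hf
    have hf0 : MvPowerSeries.constantCoeff f = 0 := by
      by_contra h0
      have hu : IsUnit f := MvPowerSeries.isUnit_iff_constantCoeff.mpr (isUnit_iff_ne_zero.mpr h0)
      exact not_isUnit_zero (hf ▸ hu.map φ)
    have hlin := H02CA.PS.sub_linear_mem f hf0
    rw [← hTm] at hlin
    set c : Fin n → K := fun i => MvPowerSeries.coeff (Finsupp.single i 1) f with hc
    have hzero : c = 0 := by
      have h2 : φ (∑ i, algebraMap K T (c i) * MvPowerSeries.X i) ∈ maximalIdeal B ^ 2 := by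
        have hφ2 : (maximalIdeal T ^ 2).map φ.toRingHom ≤ maximalIdeal B ^ 2 := by
          rw [Ideal.map_pow]; exact Ideal.pow_right_mono (Ideal.map_le_iff_le_comap.mpr hφloc) 2
        have h3 := hφ2 (Ideal.mem_map_of_mem _ hlin)
        simp only [AlgHom.toRingHom_eq_coe, RingHom.coe_coe, map_sub, hf, zero_sub] at h3
        exact (Ideal.neg_mem_iff _).mp h3
      have h4 : ∑ i, residue B (algebraMap K B (c i)) • b i = 0 := by
        have h5 : (maximalIdeal B).toCotangent (∑ i, algebraMap K B (c i) • y i) = 0 := by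
          rw [Ideal.toCotangent_eq_zero, AddSubmonoidClass.coe_finsetSum]
          simp only [map_sum, map_mul, hφ, AlgHom.commutes] at h2
          convert h2 using 2 with i
          exact (by rw [AlgHom.commutes]; rfl)
        rw [← h5, map_sum]
        exact Finset.sum_congr rfl fun i _ => by rw [hres, hy]
      have h6 := Fintype.linearIndependent_iff.mp b.linearIndependent _ h4
      exact funext fun i => hinjK ((h6 i).trans (map_zero _).symm)
    simpa [hzero, hc, funext_iff] using
      (show f - ∑ i, MvPowerSeries.C (c i) * MvPowerSeries.X i ∈ maximalIdeal T ^ 2 from hlin)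
  exact ⟨n, φ, hφsur, hkersq⟩

/-- Formal smoothness over a perfect field gives a power series completion. -/
theorem exists_completion_equiv_of_perfectField (P A : Type u) [Field P] [PerfectField P] [CommRing A] [IsLocalRing A]
    [IsNoetherianRing A] [Algebra P A] (h : IsAdicFormallySmooth P A (maximalIdeal A)) :
    IsRegularLocalRing A ∧ ∃ n : ℕ,
      Nonempty (AdicCompletion (maximalIdeal A) A ≃+* MvPowerSeries (Fin n) (ResidueField A)) := by
  let Â := AdicCompletion (maximalIdeal A) A
  have : IsNoetherianRing Â := isNoetherianRing_adicCompletion A (maximalIdeal A)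
  have hcompl : IsAdicComplete (maximalIdeal Â) Â := by
    rw [AdicCompletion.maximalIdeal_eq_map]
    exact AdicCompletion.isAdicComplete_self _ (IsNoetherian.noetherian _)
  have hÂ : IsAdicFormallySmooth P Â (maximalIdeal Â) := by
    rw [AdicCompletion.maximalIdeal_eq_map]
    exact (H02CA.AdicSmooth.iff_adicCompletion (maximalIdeal A) (IsNoetherian.noetherian _)).mp h
  have := formallySmooth_of_perfectField P (ResidueField Â)
  obtain ⟨σ, hσ⟩ := exists_coefficientField (k := P) (A := Â)
  letI : Algebra (ResidueField Â) Â := σ.toRingHom.toAlgebra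
  have : IsScalarTower P (ResidueField Â) Â := IsScalarTower.of_algebraMap_eq fun x => (σ.commutes x).symm
  obtain ⟨n, φ, hsur, hker⟩ := exists_surjective_ker_le_sq (K := ResidueField Â) (B := Â) fun x => ⟨x, hσ x⟩
  have : IsRegularLocalRing (MvPowerSeries (Fin n) (ResidueField Â)) := H02CA.PS.isRegularLocalRing_fin n
  have : IsHausdorff (maximalIdeal (MvPowerSeries (Fin n) (ResidueField Â))) (MvPowerSeries (Fin n) (ResidueField Â)) :=
    IsHausdorff.of_isLocalRing _ _ (maximalIdeal.isMaximal _).ne_top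
  have hinj := injective_of_isAdicFormallySmooth (φ.restrictScalars P) hsur hker hÂ
  let e := RingEquiv.ofBijective φ.toRingHom ⟨hinj, hsur⟩
  have : IsRegularLocalRing Â := IsRegularLocalRing.of_ringEquiv (R := MvPowerSeries (Fin n) (ResidueField Â)) e
  let hres : ResidueField A ≃+* ResidueField Â := RingEquiv.ofBijective (ResidueField.map (algebraMap A Â))
    (AdicCompletion.residueField_map_bijective A)
  let eK : MvPowerSeries (Fin n) (ResidueField Â) ≃+* MvPowerSeries (Fin n) (ResidueField A) :=
    RingEquiv.ofRingHom (MvPowerSeries.map hres.symm.toRingHom) (MvPowerSeries.map hres.toRingHom)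
      (RingHom.ext fun f => MvPowerSeries.ext fun d => by simp)
      (RingHom.ext fun f => MvPowerSeries.ext fun d => by simp)
  exact ⟨isRegularLocalRing_of_flat (B := Â), n, ⟨e.symm.trans eK⟩⟩

end Groth.Agent.H05EGA4
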