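import Mathlib
import Groth.Prelude.Def_CAlgX
import Groth.Prelude.Def_Found
import Groth.Agent.H05EGA4.FieldSmooth
import Groth.Agent.H05EGA4.Regular
import Groth.Agent.H05EGA4.CohenMisc

/-!
# Base change of adically formally smooth algebras over fields (helper5)
-/

set_option autoImplicit false
set_option linter.style.haveILetI false
universe u
open IsLocalRing TensorProduct Groth.Agent CAlgX

namespace Groth.Agent.H05EGA4

/-- Every field contains a perfect field in the same universe. -/
theorem exists_perfect_subfield (k : Type u) [Field k] :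
    ∃ (P : Type u) (_ : Field P) (_ : PerfectField P), Nonempty (P →+* k) := by
  obtain ⟨p, hp⟩ := CharP.exists k
  rcases CharP.char_is_prime_or_zero k p with hpp | rfl
  · have : Fact p.Prime := ⟨hpp⟩
    have : Finite (ULift.{u} (ZMod p)) := Finite.of_equiv (ZMod p) Equiv.ulift.symm
    exact ⟨ULift.{u} (ZMod p), inferInstance, PerfectField.ofFinite,
      ⟨(ZMod.castHom (dvd_refl p) k).comp ULift.ringEquiv.toRingHom⟩⟩
  · have : CharZero k := CharP.charP_to_charZero k
    have : CharZero (ULift.{u} ℚ) :=
      charZero_of_injective_ringHom (f := algebraMap ℚ (ULift.{u} ℚ)) (RingHom.injective _)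
    exact ⟨ULift.{u} ℚ, inferInstance, PerfectField.ofCharZero, ⟨(algebraMap ℚ k).comp ULift.ringEquiv.toRingHom⟩⟩

/-- Transitivity: a formally smooth algebra followed by an adically formally smooth one. -/
theorem isAdicFormallySmooth_trans {P k B : Type u} [CommRing P] [CommRing k] [CommRing B] [Algebra P k]
    [Algebra k B] [Algebra P B] [IsScalarTower P k B] [Algebra.FormallySmooth P k] (n : Ideal B)
    (h : IsAdicFormallySmooth k B n) : IsAdicFormallySmooth P B n := by
  intro C _ _ J hJ ψ hψ
  let χ₀ := Algebra.FormallySmooth.lift J ⟨2, hJ⟩ (ψ.comp (IsScalarTower.toAlgHom P k B))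
  have hχ₀ : ∀ t, Ideal.Quotient.mk J (χ₀ t) = ψ (algebraMap k B t) := fun t =>
    Algebra.FormallySmooth.mk_lift J ⟨2, hJ⟩ (ψ.comp (IsScalarTower.toAlgHom P k B)) t
  letI : Algebra k C := χ₀.toRingHom.toAlgebra
  have : IsScalarTower P k C := IsScalarTower.of_algebraMap_eq fun x => (χ₀.commutes x).symm
  let ψ' : B →ₐ[k] C ⧸ J := { ψ.toRingHom with commutes' := fun t => (hχ₀ t).symm }
  obtain ⟨χ, hχ⟩ := h C J hJ ψ' hψ
  exact ⟨χ.restrictScalars P, AlgHom.ext fun b => AlgHom.congr_fun hχ b⟩

/-- Elements invertible modulo a square-zero ideal are invertible. -/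
theorem isUnit_of_isUnit_mk_sq {C : Type u} [CommRing C] {J : Ideal C} (hJ : J ^ 2 = ⊥) {x : C}
    (h : IsUnit (Ideal.Quotient.mk J x)) : IsUnit x := by
  obtain ⟨c, hc⟩ := h.exists_right_inv
  obtain ⟨c, rfl⟩ := Ideal.Quotient.mk_surjective c
  rw [← map_mul, ← map_one (Ideal.Quotient.mk J), Ideal.Quotient.eq] at hc
  have hn : IsNilpotent (x * c - 1) := ⟨2, Ideal.mem_bot.mp (hJ ▸ Ideal.pow_mem_pow hc 2)⟩
  have := hn.isUnit_one_add
  rw [add_sub_cancel] at this
  exact isUnit_of_mul_isUnit_left this

/-- Base change followed by localisation preserves adic formal smoothness. -/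
theorem isAdicFormallySmooth_localization_tensor {k A : Type u} [CommRing k] [CommRing A] [IsLocalRing A]
    [Algebra k A] (h : IsAdicFormallySmooth k A (maximalIdeal A)) (k' : Type u) [CommRing k'] [Algebra k k']
    (P' : Ideal (k' ⊗[k] A)) [P'.IsPrime]
    (hP : ∀ a ∈ maximalIdeal A, (Algebra.TensorProduct.includeRight : A →ₐ[k] k' ⊗[k] A) a ∈ P') :
    IsAdicFormallySmooth k' (Localization.AtPrime P') (maximalIdeal (Localization.AtPrime P')) := by
  intro C _ _ J hJ ψ hψ
  obtain ⟨j, hj⟩ := hψ
  letI : Algebra k C := ((algebraMap k' C).comp (algebraMap k k')).toAlgebra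
  have : IsScalarTower k k' C := IsScalarTower.of_algebraMap_eq fun _ => rfl
  let ι : A →+* Localization.AtPrime P' := (algebraMap (k' ⊗[k] A) (Localization.AtPrime P')).comp
    (Algebra.TensorProduct.includeRight : A →ₐ[k] k' ⊗[k] A).toRingHom
  let u : A →ₐ[k] C ⧸ J :=
    { ψ.toRingHom.comp ι with
      commutes' := fun t => by
        show ψ (algebraMap (k' ⊗[k] A) _ ((1 : k') ⊗ₜ algebraMap k A t)) = _
        rw [show (1 : k') ⊗ₜ[k] algebraMap k A t = algebraMap k k' t ⊗ₜ[k] (1 : A) by
          rw [Algebra.algebraMap_eq_smul_one, Algebra.algebraMap_eq_smul_one, TensorProduct.smul_tmul]]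
        show ψ (algebraMap (k' ⊗[k] A) _ (algebraMap k' (k' ⊗[k] A) (algebraMap k k' t))) = _
        rw [← IsScalarTower.algebraMap_apply, AlgHom.commutes]
        rfl }
  obtain ⟨v, hv⟩ := h C J hJ u ⟨j, fun x hx => hj _ ((Ideal.map_le_iff_le_comap.mp (show (maximalIdeal A ^ j).map ι ≤
      maximalIdeal _ ^ j by
    rw [Ideal.map_pow]
    refine Ideal.pow_right_mono (Ideal.map_le_iff_le_comap.mpr fun a ha => ?_) j
    exact (IsLocalization.AtPrime.to_map_mem_maximal_iff (Localization.AtPrime P') P' _).mpr (hP a ha))) hx)⟩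
  let w : k' ⊗[k] A →ₐ[k'] C := Algebra.TensorProduct.lift (Algebra.ofId k' C) v fun _ _ => Commute.all _ _
  have hw : ∀ z, Ideal.Quotient.mk J (w z) = ψ (algebraMap (k' ⊗[k] A) (Localization.AtPrime P') z) := by
    intro z
    induction z using TensorProduct.induction_on with
    | zero => simp
    | add a b ha hb => simp only [map_add, ha, hb]
    | tmul c a =>
      show Ideal.Quotient.mk J (algebraMap k' C c * v a) = _
      rw [show c ⊗ₜ[k] a = algebraMap k' (k' ⊗[k] A) c * ((1 : k') ⊗ₜ[k] a) by
        rw [Algebra.TensorProduct.algebraMap_apply, Algebra.TensorProduct.tmul_mul_tmul, Algebra.algebraMap_self,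
          RingHom.id_apply, mul_one, one_mul],
        map_mul, map_mul, map_mul, ← IsScalarTower.algebraMap_apply, AlgHom.commutes]
      congr 1
      exact AlgHom.congr_fun hv a
  have hunit : ∀ y : P'.primeCompl, IsUnit (w y) := fun y =>
    isUnit_of_isUnit_mk_sq hJ (by rw [hw]; exact (IsLocalization.map_units _ y).map ψ)
  refine ⟨IsLocalization.liftAlgHom (M := P'.primeCompl) (f := w) hunit, ?_⟩
  refine IsLocalization.algHom_ext P'.primeCompl ?_
  ext z
  show Ideal.Quotient.mk J (IsLocalization.lift hunit (algebraMap _ _ _)) = _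
  rw [IsLocalization.lift_eq]
  exact hw _

/-- Adic formal smoothness over a field gives regularity and a power series completion. -/
theorem isRegularLocalRing_of_isAdicFormallySmooth {k A : Type u} [Field k] [CommRing A] [IsLocalRing A]
    [IsNoetherianRing A] [Algebra k A] (h : IsAdicFormallySmooth k A (maximalIdeal A)) :
    IsRegularLocalRing A ∧ ∃ n : ℕ,
      Nonempty (AdicCompletion (maximalIdeal A) A ≃+* MvPowerSeries (Fin n) (ResidueField A)) := by
  obtain ⟨P, _, _, ⟨i⟩⟩ := exists_perfect_subfield k
  letI : Algebra P k := i.toAlgebra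
  letI : Algebra P A := ((algebraMap k A).comp i).toAlgebra
  have : IsScalarTower P k A := IsScalarTower.of_algebraMap_eq fun _ => rfl
  have := formallySmooth_of_perfectField P k
  exact exists_completion_equiv_of_perfectField P A (isAdicFormallySmooth_trans (k := k) _ h)

/-- Adic formal smoothness over a field gives geometric regularity. -/
theorem isGeometricallyRegular_of_isAdicFormallySmooth {k A : Type u} [Field k] [CommRing A] [IsLocalRing A]
    [IsNoetherianRing A] [Algebra k A] (h : IsAdicFormallySmooth k A (maximalIdeal A)) :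
    CAlg.IsGeometricallyRegular k A := by
  intro k' _ _ _
  letI : Algebra A (k' ⊗[k] A) := Algebra.TensorProduct.rightAlgebra
  have : Module.Finite A (k' ⊗[k] A) := Module.Finite.equiv (Algebra.TensorProduct.commRight k A k').toLinearEquiv
  have : IsNoetherianRing (k' ⊗[k] A) := IsNoetherianRing.of_finite A _
  have : Algebra.IsIntegral A (k' ⊗[k] A) := Algebra.IsIntegral.of_finite _ _
  refine isRegularRing_of_forall_isMaximal _ fun P' _ => ?_
  refine (isRegularLocalRing_of_isAdicFormallySmooth (isAdicFormallySmooth_localization_tensor h k' P' fun a ha => ?_)).1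
  have h1 := eq_maximalIdeal (Ideal.isMaximal_comap_of_isIntegral_of_isMaximal (R := A) P')
  rw [← h1] at ha
  exact ha

end Groth.Agent.H05EGA4
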