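import Mathlib

/-!
# Derivations with bounded denominators (helper5)

Fields of characteristic `p` with "enough derivations" preserving a subring up to a denominator.
-/

set_option autoImplicit false
universe u v w
open Polynomial

namespace Groth.Agent.H05EGA4

/-! ### Construction of derivations -/

/-- A derivation descends along a surjection whose kernel it preserves. -/
theorem exists_derivation_of_surjective {P : Type u} {L : Type v} [CommRing P] [CommRing L] (π : P →+* L)
    (hπ : Function.Surjective π) (E : Derivation ℤ P P) (hE : ∀ x, π x = 0 → π (E x) = 0) :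
    ∃ D : Derivation ℤ L L, ∀ x, D (π x) = π (E x) := by
  have key : ∀ x y, π x = π y → π (E x) = π (E y) := fun x y h => by
    have := hE (x - y) (by rw [map_sub, h, sub_self])
    rwa [map_sub, map_sub, sub_eq_zero] at this
  let g := Function.surjInv hπ
  have hg : ∀ l, π (g l) = l := Function.surjInv_eq hπ
  let d : L →+ L := AddMonoidHom.mk' (fun l => π (E (g l))) fun a b => by
    show π (E (g (a + b))) = π (E (g a)) + π (E (g b))
    rw [← map_add, ← map_add]
    exact key _ _ (by rw [map_add, hg, hg, hg])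
  refine ⟨Derivation.mk' d.toIntLinearMap fun a b => ?_, fun x => key _ _ (hg _)⟩
  show π (E (g (a * b))) = a • π (E (g b)) + b • π (E (g a))
  rw [key _ (g a * g b) (by rw [map_mul, hg, hg, hg]), Derivation.leibniz, map_add]
  simp only [smul_eq_mul, map_mul, hg]

/-- Derivations extend to formally étale algebras. -/
theorem exists_derivation_extend (S : Type v) (T : Type u) [CommRing S] [CommRing T] [Algebra S T] [Algebra.FormallyEtale S T]
    (D : Derivation ℤ S T) : ∃ D' : Derivation ℤ T T, ∀ s, D' (algebraMap S T s) = D s := by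
  let φ : TensorProduct S T (Ω[S⁄ℤ]) →ₗ[T] T := LinearMap.liftBaseChange T D.liftKaehlerDifferential
  refine ⟨(φ.comp (KaehlerDifferential.tensorKaehlerEquivOfFormallyEtale ℤ S T).symm.toLinearMap).compDer
    (KaehlerDifferential.D ℤ T), fun s => ?_⟩
  show φ ((KaehlerDifferential.tensorKaehlerEquivOfFormallyEtale ℤ S T).symm (KaehlerDifferential.D ℤ T (algebraMap S T s))) = _
  rw [KaehlerDifferential.tensorKaehlerEquivOfFormallyEtale_symm_D_algebraMap]
  show LinearMap.liftBaseChange T D.liftKaehlerDifferential (1 ⊗ₜ KaehlerDifferential.D ℤ S s) = _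
  rw [LinearMap.liftBaseChange_tmul, one_smul, Derivation.liftKaehlerDifferential_comp_D]

/-- The `p`-th iterate of a derivation in characteristic `p` is a derivation. -/
theorem exists_derivation_iterate {K : Type u} [CommRing K] (p : ℕ) [hp : Fact p.Prime] [CharP K p]
    (D : Derivation ℤ K K) : ∃ E : Derivation ℤ K K, ∀ x, E x = D^[p] x := by
  let d : Module.End ℤ K := D.toLinearMap
  let M : K → Module.End ℤ K := fun x => LinearMap.mulLeft ℤ x
  let l : Module.End ℤ (Module.End ℤ K) := LinearMap.mulLeft ℤ d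
  let r : Module.End ℤ (Module.End ℤ K) := LinearMap.mulRight ℤ d
  have hlr : ∀ x, (l - r) (M x) = M (D x) := fun x => LinearMap.ext fun y => by
    show D (x * y) - x * D y = D x * y
    rw [D.leibniz, smul_eq_mul, smul_eq_mul]; ring
  have hiter : ∀ i x, ((l - r) ^ i) (M x) = M (D^[i] x) := by
    intro i
    induction i with
    | zero => intro x; rfl
    | succ i ih => intro x; rw [pow_succ, Module.End.mul_apply, hlr, ih, Function.iterate_succ_apply]
  have hchar : CharP (Module.End ℤ (Module.End ℤ K)) p := by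
    have : Nontrivial K := CharP.nontrivial_of_char_ne_one (v := p) hp.out.ne_one
    have h1 : Nontrivial (Module.End ℤ K) := ⟨⟨0, 1, fun h => zero_ne_one (α := K) (DFunLike.congr_fun h 1)⟩⟩
    have h2 : Nontrivial (Module.End ℤ (Module.End ℤ K)) :=
      ⟨⟨0, 1, fun h => zero_ne_one (α := Module.End ℤ K) (DFunLike.congr_fun h 1)⟩⟩
    refine (CharP.charP_iff_prime_eq_zero hp.out).mpr (LinearMap.ext fun f => LinearMap.ext fun y => ?_)
    rw [Module.End.natCast_apply]
    show (p • f) y = 0
    rw [LinearMap.smul_apply, nsmul_eq_mul, CharP.cast_eq_zero, zero_mul]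
  have hpow : (l - r) ^ p = LinearMap.mulLeft ℤ (d ^ p) - LinearMap.mulRight ℤ (d ^ p) := by
    rw [sub_pow_char_of_commute p (LinearMap.commute_mulLeft_right d d), LinearMap.pow_mulLeft, LinearMap.pow_mulRight]
  have hd : ∀ i x, (d ^ i) x = D^[i] x := fun i x => by rw [Module.End.pow_apply]; rfl
  refine ⟨Derivation.mk' (d ^ p) fun a b => ?_, fun x => hd p x⟩
  have h := DFunLike.congr_fun ((DFunLike.congr_fun hpow (M a)).symm.trans (hiter p a)) b
  show (d ^ p) (a * b) = a • (d ^ p) b + b • (d ^ p) a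
  rw [smul_eq_mul, smul_eq_mul, hd p a]
  replace h : (d ^ p) (a * b) - a * (d ^ p) b = D^[p] a * b := h
  linear_combination h

/-! ### Bounded derivations -/

section bdd
variable (R : Type u) {K : Type v} [CommRing R] [Field K] [Algebra R K]

/-- A derivation of `K` mapping `R` into `s⁻¹ R` for some `s ≠ 0`. -/
def IsBdd (D : Derivation ℤ K K) : Prop :=
  ∃ s : R, algebraMap R K s ≠ 0 ∧ ∀ r, algebraMap R K s * D (algebraMap R K r) ∈ (algebraMap R K).range

/-- Enough bounded derivations: their common kernel consists of `p`-th powers. -/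
def IsFull (K : Type v) [Field K] [Algebra R K] (p : ℕ) : Prop :=
  ∀ c : K, (∀ D : Derivation ℤ K K, IsBdd R D → D c = 0) → ∃ e, e ^ p = c

variable {R}

theorem IsBdd.zero : IsBdd R (0 : Derivation ℤ K K) :=
  ⟨1, by simp, fun r => by simp⟩

theorem IsBdd.smul [IsFractionRing R K] {D : Derivation ℤ K K} (h : IsBdd R D) (c : K) : IsBdd R (c • D) := by
  obtain ⟨s, hs, h⟩ := h
  obtain ⟨⟨a, b, hb⟩, hab⟩ := IsLocalization.surj (nonZeroDivisors R) c
  refine ⟨s * b, ?_, fun r => ?_⟩
  · rw [map_mul]; exact mul_ne_zero hs (IsLocalization.map_units K (⟨b, hb⟩ : nonZeroDivisors R)).ne_zero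
  · obtain ⟨r', hr'⟩ := h r
    refine ⟨a * r', ?_⟩
    rw [Derivation.smul_apply, smul_eq_mul, map_mul, map_mul, hr', ← hab]
    ring

theorem IsBdd.sub {D D' : Derivation ℤ K K} (h : IsBdd R D) (h' : IsBdd R D') : IsBdd R (D - D') := by
  obtain ⟨s, hs, h⟩ := h
  obtain ⟨t, ht, h'⟩ := h'
  refine ⟨s * t, by rw [map_mul]; exact mul_ne_zero hs ht, fun r => ?_⟩
  rw [Derivation.sub_apply, mul_sub, map_mul]
  refine sub_mem ?_ ?_
  · rw [mul_right_comm]; exact mul_mem (h r) ⟨t, rfl⟩
  · rw [mul_assoc]; exact mul_mem ⟨s, rfl⟩ (h' r)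

theorem IsBdd.mul_apply_mem {D : Derivation ℤ K K} {s t : R} {x : K}
    (hs : ∀ r, algebraMap R K s * D (algebraMap R K r) ∈ (algebraMap R K).range)
    (hx : algebraMap R K t * x ∈ (algebraMap R K).range) :
    algebraMap R K (s * t ^ 2) * D x ∈ (algebraMap R K).range := by
  obtain ⟨r', hr'⟩ := hx
  have h1 := D.leibniz (algebraMap R K t) x
  rw [← hr', smul_eq_mul, smul_eq_mul] at h1
  have h2 : algebraMap R K (s * t ^ 2) * D x = algebraMap R K t * (algebraMap R K s * D (algebraMap R K r')) -
      (algebraMap R K t * x) * (algebraMap R K s * D (algebraMap R K t)) := by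
    rw [h1, map_mul, map_pow]; ring
  rw [h2]
  exact sub_mem (mul_mem ⟨t, rfl⟩ (hs r')) (mul_mem ⟨r', hr'⟩ (hs t))

theorem IsBdd.bracket {D D' : Derivation ℤ K K} (h : IsBdd R D) (h' : IsBdd R D') : IsBdd R ⁅D, D'⁆ := by
  obtain ⟨s, hs, h⟩ := h
  obtain ⟨t, ht, h'⟩ := h'
  refine ⟨(s * t ^ 2) * (t * s ^ 2), ?_, fun r => ?_⟩
  · simp only [map_mul, map_pow]
    exact mul_ne_zero (mul_ne_zero hs (pow_ne_zero _ ht)) (mul_ne_zero ht (pow_ne_zero _ hs))
  · rw [Derivation.commutator_apply, mul_sub, map_mul]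
    refine sub_mem ?_ ?_
    · rw [mul_right_comm]; exact mul_mem (IsBdd.mul_apply_mem h (h' r)) ⟨_, rfl⟩
    · rw [mul_assoc]; exact mul_mem ⟨_, rfl⟩ (IsBdd.mul_apply_mem h' (h r))

theorem IsBdd.iterate {D : Derivation ℤ K K} (h : IsBdd R D) (i : ℕ) :
    ∃ t : R, algebraMap R K t ≠ 0 ∧ ∀ r, algebraMap R K t * D^[i] (algebraMap R K r) ∈ (algebraMap R K).range := by
  obtain ⟨s, hs, h⟩ := h
  induction i with
  | zero => exact ⟨1, by simp, fun r => ⟨r, by simp⟩⟩
  | succ i ih =>
    obtain ⟨t, ht, ht'⟩ := ih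
    refine ⟨s * t ^ 2, by simp only [map_mul, map_pow]; exact mul_ne_zero hs (pow_ne_zero _ ht), fun r => ?_⟩
    rw [Function.iterate_succ_apply']
    exact IsBdd.mul_apply_mem h (ht' r)

theorem IsBdd.of_iterate {D E : Derivation ℤ K K} (h : IsBdd R D) (i : ℕ) (hE : ∀ x, E x = D^[i] x) : IsBdd R E := by
  obtain ⟨t, ht, ht'⟩ := h.iterate i
  exact ⟨t, ht, fun r => by rw [hE]; exact ht' r⟩

/-- Extensions of bounded derivations are bounded on finite algebras. -/
theorem IsBdd.of_finite [IsDomain R] {R' L : Type w} [CommRing R'] [IsDomain R'] [Field L] [Algebra R R']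
    [Module.Finite R R'] [Algebra R' L] [IsFractionRing R' L] [Algebra K L] [Algebra R L]
    [IsScalarTower R K L] [IsScalarTower R R' L] {D : Derivation ℤ K K} {D' : Derivation ℤ L L}
    (hD' : ∀ x, D' (algebraMap K L x) = algebraMap K L (D x)) (h : IsBdd R D) : IsBdd R' D' := by
  classical
  obtain ⟨s, hs, h⟩ := h
  obtain ⟨G, hG⟩ := Module.Finite.fg_top (R := R) (M := R')
  obtain ⟨⟨b, hb⟩, hb'⟩ := IsLocalization.exist_integer_multiples (nonZeroDivisors R') G
    (fun e => D' (algebraMap R' L e))
  refine ⟨algebraMap R R' s * b, ?_, fun x => ?_⟩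
  · rw [map_mul, ← IsScalarTower.algebraMap_apply, IsScalarTower.algebraMap_apply R K L]
    exact mul_ne_zero ((_root_.map_ne_zero (algebraMap K L)).mpr hs)
      (IsLocalization.map_units L (⟨b, hb⟩ : nonZeroDivisors R')).ne_zero
  have hx : x ∈ Submodule.span R (G : Set R') := hG ▸ Submodule.mem_top
  induction hx using Submodule.span_induction with
  | mem e he =>
    obtain ⟨r', hr'⟩ := hb' e he
    refine ⟨algebraMap R R' s * r', ?_⟩
    rw [map_mul, map_mul, hr']
    simp only [Algebra.smul_def]
    ring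
  | zero => simp
  | add x y _ _ hx hy => rw [map_add, map_add, mul_add]; exact add_mem hx hy
  | smul a x _ hx =>
    obtain ⟨a', ha'⟩ := h a
    have hy : D' (algebraMap R' L (algebraMap R R' a)) = algebraMap K L (D (algebraMap R K a)) := by
      rw [← IsScalarTower.algebraMap_apply, IsScalarTower.algebraMap_apply R K L, hD']
    have hs' : algebraMap R' L (algebraMap R R' s) * algebraMap K L (D (algebraMap R K a)) =
        algebraMap R' L (algebraMap R R' a') := by
      rw [← IsScalarTower.algebraMap_apply, ← IsScalarTower.algebraMap_apply, IsScalarTower.algebraMap_apply R K L,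
        IsScalarTower.algebraMap_apply R K L a', ha', map_mul]
    have h2 : algebraMap R' L (algebraMap R R' s * b) * D' (algebraMap R' L (a • x)) =
        algebraMap R' L (algebraMap R R' a) * (algebraMap R' L (algebraMap R R' s * b) * D' (algebraMap R' L x)) +
        algebraMap R' L (b * x) * algebraMap R' L (algebraMap R R' a') := by
      rw [Algebra.smul_def, map_mul (algebraMap R' L) _ x, D'.leibniz, hy, map_mul, map_mul]
      simp only [smul_eq_mul]
      linear_combination (algebraMap R' L b * algebraMap R' L x) * hs'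
    rw [h2]
    exact add_mem (mul_mem ⟨_, rfl⟩ hx) (mul_mem ⟨_, rfl⟩ ⟨_, rfl⟩)

end bdd

/-! ### The field lemmas -/

theorem derivation_pow_char {K : Type u} [CommRing K] (p : ℕ) [CharP K p] (D : Derivation ℤ K K) (e : K) :
    D (e ^ p) = 0 := by
  rw [Derivation.leibniz_pow, ← Nat.cast_smul_eq_nsmul K, CharP.cast_eq_zero, zero_smul]

theorem derivation_natCast {K : Type u} [CommRing K] (D : Derivation ℤ K K) (n : ℕ) : D (n : K) = 0 := by
  rw [show (n : K) = algebraMap ℤ K n from (map_natCast _ _).symm]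
  exact D.map_algebraMap _

/-- The common kernel of the bounded derivations killing `b`. -/
theorem exists_eq_sum_of_killed {R : Type u} {K : Type v} [CommRing R] [Field K] [Algebra R K] [IsFractionRing R K]
    (p : ℕ) [hp : Fact p.Prime] [CharP K p] (hfull : IsFull R K p) (b : K) (hb : ∀ e, e ^ p ≠ b) (c : K)
    (hc : ∀ D : Derivation ℤ K K, IsBdd R D → D b = 0 → D c = 0) :
    ∃ e : ℕ → K, c = ∑ j ∈ Finset.range p, e j ^ p * b ^ j := by
  classical
  obtain ⟨D1, hD1, hD1b⟩ : ∃ D : Derivation ℤ K K, IsBdd R D ∧ D b ≠ 0 := by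
    by_contra h
    push Not at h
    obtain ⟨e, he⟩ := hfull b h
    exact hb e he
  let D0 := (D1 b)⁻¹ • D1
  have hD0 : IsBdd R D0 := hD1.smul _
  have hD0b : D0 b = 1 := by simp [D0, inv_mul_cancel₀ hD1b]
  let N : K → Prop := fun x => ∀ D : Derivation ℤ K K, IsBdd R D → D b = 0 → D x = 0
  have hN0 : ∀ {x}, N x → N (D0 x) := fun {x} hx D hD hDb => by
    have h1 := hx ⁅D, D0⁆ (hD.bracket hD0) (by rw [Derivation.commutator_apply, hD0b, hDb, Derivation.map_one_eq_zero, map_zero, sub_zero])
    rwa [Derivation.commutator_apply, hx D hD hDb, map_zero, sub_zero] at h1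
  have hNiter : ∀ {x} (i : ℕ), N x → N (D0^[i] x) := fun {x} i hx => by
    induction i with
    | zero => exact hx
    | succ i ih => rw [Function.iterate_succ_apply']; exact hN0 ih
  have hker : ∀ {x}, N x → D0 x = 0 → ∃ e, e ^ p = x := fun {x} hx h0 => hfull x fun D hD => by
    have h1 := hx (D - D b • D0) (hD.sub (hD0.smul _)) (by simp [hD0b])
    simpa [h0] using h1
  have hmono : ∀ (e : K) (i : ℕ), D0 (e ^ p * b ^ i) = e ^ p * ((i : K) * b ^ (i - 1)) := fun e i => by
    rw [D0.leibniz, derivation_pow_char p, smul_zero, add_zero, D0.leibniz_pow, hD0b]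
    simp [nsmul_eq_mul]
  have hiter : ∀ (i j : ℕ) (e : K), D0^[i] (e ^ p * b ^ j) = e ^ p * ((j.descFactorial i : ℕ) : K) * b ^ (j - i) := by
    intro i
    induction i with
    | zero => intro j e; simp
    | succ i ih =>
      intro j e
      rw [Function.iterate_succ_apply', ih, mul_comm (e ^ p), mul_assoc, D0.leibniz, derivation_natCast, smul_zero,
        add_zero, hmono, Nat.descFactorial_succ, Nat.sub_sub, smul_eq_mul]
      push_cast
      ring
  have main : ∀ i ≤ p, ∀ x, N x → D0^[i] x = 0 → ∃ e : ℕ → K, x = ∑ j ∈ Finset.range i, e j ^ p * b ^ j := by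
    intro i
    induction i with
    | zero => exact fun _ x _ hx => ⟨0, by simpa using hx⟩
    | succ i ih =>
      intro hi x hx h
      obtain ⟨e₁, he₁⟩ := hker (hNiter i hx) (by rwa [← Function.iterate_succ_apply' D0])
      have hfac : ((i.factorial : ℕ) : K) ≠ 0 := by
        rw [Ne, CharP.cast_eq_zero_iff K p, hp.out.dvd_factorial]; omega
      obtain ⟨f, hf⟩ : ∃ f, f ^ p = ((i.factorial : ℕ) : K) :=
        ⟨_, (frobenius_def p _).symm.trans (map_natCast (frobenius K p) i.factorial)⟩
      have hy : N (x - (e₁ / f) ^ p * b ^ i) := fun D hD hDb => by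
        rw [map_sub, hx D hD hDb, D.leibniz, derivation_pow_char p, D.leibniz_pow, hDb]
        simp
      obtain ⟨e, he⟩ := ih (Nat.le_of_succ_le hi) _ hy (by
        rw [iterate_map_sub, hiter, Nat.sub_self, pow_zero, mul_one, Nat.descFactorial_self, div_pow, hf, he₁,
          div_mul_cancel₀ _ hfac, sub_self])
      refine ⟨Function.update e i (e₁ / f), ?_⟩
      rw [Finset.sum_range_succ, Function.update_self]
      rw [Finset.sum_congr rfl fun j hj => by rw [Function.update_of_ne (Finset.mem_range.mp hj).ne], ← he, sub_add_cancel]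
  obtain ⟨E, hE⟩ := exists_derivation_iterate p D0
  refine main p le_rfl c hc ?_
  rw [← hE]
  refine hc E (hD0.of_iterate p hE) ?_
  rw [hE, show b = (1 : K) ^ p * b ^ 1 by simp, hiter, Nat.descFactorial_eq_zero_iff_lt.mpr hp.out.one_lt]
  simp

/-- Data of a radical extension of degree `p`. -/
theorem radical_aeval {K L : Type u} [Field K] [Field L] [Algebra K L] (p : ℕ) [hp : Fact p.Prime]
    {b : K} (hb : ∀ e, e ^ p ≠ b) {x : L} (hx : x ^ p = algebraMap K L b) (hgen : IntermediateField.adjoin K {x} = ⊤) :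
    Function.Surjective (aeval (R := K) x) ∧
      (∀ f : K[X], aeval x f = 0 ↔ (X ^ p - C b : K[X]) ∣ f) := by
  have hg : (X ^ p - C b : K[X]).Monic := monic_X_pow_sub_C b hp.out.ne_zero
  have hint : IsIntegral K x := ⟨X ^ p - C b, hg, by simp [hx]⟩
  have hmin : (X ^ p - C b : K[X]) = minpoly K x :=
    minpoly.eq_of_irreducible_of_monic (X_pow_sub_C_irreducible_of_prime hp.out hb) (by simp [hx]) hg
  refine ⟨fun l => ?_, fun f => hmin ▸ ⟨fun h => minpoly.dvd K x h, fun ⟨q, hq⟩ => by simp [hq]⟩⟩
  have hl : l ∈ (IntermediateField.adjoin K {x}).toSubalgebra := by rw [hgen]; trivial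
  rw [IntermediateField.adjoin_simple_toSubalgebra_of_isAlgebraic hint.isAlgebraic,
    Algebra.adjoin_singleton_eq_range_aeval] at hl
  exact hl

/-- Derivations of a radical extension. -/
theorem exists_radical_derivations {K L : Type u} [Field K] [Field L] [Algebra K L] (p : ℕ) [hp : Fact p.Prime]
    [CharP K p] {b : K} (hb : ∀ e, e ^ p ≠ b) {x : L} (hx : x ^ p = algebraMap K L b)
    (hgen : IntermediateField.adjoin K {x} = ⊤) :
    (∀ D : Derivation ℤ K K, D b = 0 → ∃ D' : Derivation ℤ L L, ∀ a, D' (algebraMap K L a) = algebraMap K L (D a)) ∧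
    ∃ d : Derivation ℤ L L, (∀ a, d (algebraMap K L a) = 0) ∧ d x = 1 ∧
      ∀ l, d l = 0 → l ∈ (algebraMap K L).range := by
  obtain ⟨hs, hk⟩ := radical_aeval p hb hx hgen
  refine ⟨fun D hDb => ?_, ?_⟩
  · let E : Derivation ℤ K[X] K[X] := (PolynomialModule.equivPolynomialSelf (R := K)).toLinearMap.compDer D.mapCoeffs
    have hE : ∀ (q : K[X]) i, (E q).coeff i = D (q.coeff i) := fun q i => rfl
    have hE0 : E (X ^ p - C b) = 0 := Polynomial.ext fun i => by
      rw [hE, coeff_sub, coeff_X_pow, coeff_C, coeff_zero, map_sub]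
      split_ifs <;> simp [hDb]
    obtain ⟨D', hD'⟩ := exists_derivation_of_surjective (aeval (R := K) x).toRingHom hs E fun f hf => by
      obtain ⟨q, rfl⟩ := (hk f).mp hf
      refine (hk _).mpr ?_
      erw [E.leibniz, hE0, smul_zero, add_zero]
      exact dvd_mul_right _ _
    refine ⟨D', fun a => ?_⟩
    have h := hD' (C a)
    simp only [AlgHom.toRingHom_eq_coe, RingHom.coe_coe, aeval_C] at h
    rw [h]
    have : E (C a) = C (D a) := Polynomial.ext fun i => by rw [hE, coeff_C, coeff_C]; split_ifs <;> simp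
    erw [this, aeval_C]
  · let E : Derivation ℤ K[X] K[X] := (Polynomial.derivative' (R := K)).restrictScalars ℤ
    have hE : ∀ q, E q = derivative q := fun q => rfl
    have hE0 : derivative (X ^ p - C b : K[X]) = 0 := by simp [derivative_X_pow, CharP.cast_eq_zero]
    obtain ⟨d, hd⟩ := exists_derivation_of_surjective (aeval (R := K) x).toRingHom hs E fun f hf => by
      obtain ⟨q, rfl⟩ := (hk f).mp hf
      refine (hk _).mpr ?_
      erw [hE, derivative_mul, hE0, zero_mul, zero_add]
      exact dvd_mul_right _ _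
    have hd' : ∀ f : K[X], d (aeval x f) = aeval x (derivative f) := hd
    refine ⟨d, fun a => by simpa using hd' (C a), by simpa using hd' X, fun l hl => ?_⟩
    obtain ⟨f, rfl⟩ := hs l
    set g : K[X] := X ^ p - C b
    have hgm : g.Monic := monic_X_pow_sub_C b hp.out.ne_zero
    have hgdeg : g.natDegree = p := natDegree_X_pow_sub_C
    have hlt : (f %ₘ g).natDegree < p := hgdeg ▸ natDegree_modByMonic_lt f hgm (fun h => by
      have := congrArg natDegree h; rw [hgdeg, natDegree_one] at this; exact hp.out.ne_zero this)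
    have heq : aeval x f = aeval x (f %ₘ g) := by
      conv_lhs => rw [← modByMonic_add_div f g]
      simp [g, hx]
    rw [heq, hd', hk] at hl
    have hf0 : derivative (f %ₘ g) = 0 := by
      by_contra hne
      have h1 := natDegree_le_of_dvd hl hne
      have h2 := natDegree_derivative_le (f %ₘ g)
      omega
    have hconst : f %ₘ g = C ((f %ₘ g).coeff 0) := Polynomial.ext fun i => by
      rcases Nat.eq_zero_or_pos i with rfl | hi
      · simp
      rw [coeff_C, if_neg hi.ne']
      rcases le_or_gt p i with h | h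
      · exact coeff_eq_zero_of_natDegree_lt (lt_of_lt_of_le hlt h)
      have h3 := congrArg (fun q => coeff q (i - 1)) hf0
      simp only [coeff_derivative, coeff_zero] at h3
      rw [show i - 1 + 1 = i by omega] at h3
      refine (mul_eq_zero.mp h3).resolve_right ?_
      rw [show ((i - 1 : ℕ) : K) + 1 = (i : K) by rw [← Nat.cast_add_one, Nat.sub_add_cancel hi],
        CharP.cast_eq_zero_iff K p]
      exact fun hdvd => absurd (Nat.le_of_dvd hi hdvd) (not_le.mpr h)
    refine ⟨(f %ₘ g).coeff 0, ?_⟩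
    show algebraMap K L _ = aeval x f
    rw [heq, ← aeval_C (R := K) x, ← hconst]

/-- An element killed by all derivations of a field of characteristic `p` is a `p`-th power. -/
theorem exists_pow_of_forall_derivation {k : Type u} [Field k] (p : ℕ) [hp : Fact p.Prime] [CharP k p] (a : k)
    (h : ∀ D : Derivation ℤ k k, D a = 0) : ∃ e, e ^ p = a := by
  by_contra ha
  push Not at ha
  let S : Set (Subfield k) := {F | (∀ y : k, y ^ p ∈ F) ∧ a ∉ F}
  have hchain : ∀ c ⊆ S, IsChain (· ≤ ·) c → ∀ y ∈ c, ∃ ub ∈ S, ∀ z ∈ c, z ≤ ub := by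
    intro c hcS hc y hy
    refine ⟨sSup c, ⟨fun z => (le_sSup hy : y ≤ sSup c) ((hcS hy).1 z), fun hmem => ?_⟩, fun z hz => le_sSup hz⟩
    obtain ⟨F, hF, haF⟩ := (Subfield.mem_sSup_of_directedOn ⟨y, hy⟩ hc.directedOn).mp hmem
    exact (hcS hF).2 haF
  have hF0 : (frobenius k p).fieldRange ∈ S := by
    refine ⟨fun y => ⟨y, rfl⟩, ?_⟩
    rintro ⟨e, he⟩
    exact ha e he
  obtain ⟨F, -, hmax⟩ := zorn_le_nonempty₀ S hchain _ hF0
  obtain ⟨hFp, haF⟩ := hmax.prop
  let K' := IntermediateField.adjoin F {a}
  have : CharP F p := (CharP.charP_iff_prime_eq_zero hp.out).mpr (Subtype.ext (CharP.cast_eq_zero k p))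
  let b : F := ⟨a ^ p, hFp a⟩
  have hb : ∀ e : F, e ^ p ≠ b := fun e he => haF (by
    have h1 : (e : k) ^ p = a ^ p := congrArg Subtype.val he
    exact frobenius_inj k p h1 ▸ e.2)
  have hgen : IntermediateField.adjoin F {a} = ⊤ := by
    refine eq_top_iff.mpr fun y _ => ?_
    by_cases hy : y ∈ F
    · exact IntermediateField.algebraMap_mem _ (⟨y, hy⟩ : F)
    let G : IntermediateField F k := IntermediateField.adjoin F {y}
    have haG : a ∈ G := by
      by_contra hG
      have hGS : G.toSubfield ∈ S := ⟨fun z => G.algebraMap_mem (⟨z ^ p, hFp z⟩ : F), hG⟩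
      exact hy (hmax.2 hGS (fun z hz => G.algebraMap_mem (⟨z, hz⟩ : F))
        (IntermediateField.subset_adjoin F _ rfl : y ∈ G))
    have hdeg : ∀ z : k, z ∉ F → Module.finrank F (IntermediateField.adjoin F {z}) = p := by
      intro z hz
      have hz' : ∀ e : F, e ^ p ≠ (⟨z ^ p, hFp z⟩ : F) := fun e he => hz (by
        have h1 : (e : k) ^ p = z ^ p := congrArg Subtype.val he
        exact frobenius_inj k p h1 ▸ e.2)
      have hint : IsIntegral F z := ⟨X ^ p - C (⟨z ^ p, hFp z⟩ : F), monic_X_pow_sub_C _ hp.out.ne_zero, by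
        rw [← aeval_def]
        simp only [map_sub, map_pow, aeval_X, aeval_C]
        exact sub_eq_zero.mpr rfl⟩
      rw [IntermediateField.adjoin.finrank hint,
        ← minpoly.eq_of_irreducible_of_monic (X_pow_sub_C_irreducible_of_prime hp.out hz')
          (by simp only [map_sub, map_pow, aeval_X, aeval_C]; exact sub_eq_zero.mpr rfl)
          (monic_X_pow_sub_C _ hp.out.ne_zero)]
      exact natDegree_X_pow_sub_C
    have hle : K' ≤ G := IntermediateField.adjoin_le_iff.mpr (Set.singleton_subset_iff.mpr haG)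
    have : FiniteDimensional F G := FiniteDimensional.of_finrank_pos (by rw [hdeg y hy]; exact hp.out.pos)
    have := IntermediateField.eq_of_le_of_finrank_eq hle ((hdeg a haF).trans (hdeg y hy).symm)
    show y ∈ K'
    rw [this]
    exact IntermediateField.subset_adjoin F _ rfl
  obtain ⟨-, d, -, hda, -⟩ := exists_radical_derivations p hb (x := a) rfl hgen
  exact one_ne_zero (hda.symm.trans (h d))

/-! ### Permanence of fullness -/

theorem IsFull.of_radical {R R' K L : Type u} [CommRing R] [IsDomain R] [CommRing R'] [IsDomain R'] [Field K] [Field L]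
    [Algebra R K] [IsFractionRing R K] [Algebra R R'] [Module.Finite R R'] [Algebra R' L] [IsFractionRing R' L]
    [Algebra K L] [Algebra R L] [IsScalarTower R K L] [IsScalarTower R R' L]
    (p : ℕ) [hp : Fact p.Prime] [CharP K p] {b : K} (hb : ∀ e, e ^ p ≠ b) {x : L} (hx : x ^ p = algebraMap K L b)
    (hgen : IntermediateField.adjoin K {x} = ⊤) (h : IsFull R K p) : IsFull R' L p := by
  intro c hc
  have : CharP L p := charP_of_injective_algebraMap (algebraMap K L).injective p
  obtain ⟨hext, d, hdK, hdx, hdker⟩ := exists_radical_derivations p hb hx hgen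
  obtain ⟨c₀, rfl⟩ := hdker c (hc d (IsBdd.of_finite (R := R) (K := K) (D := 0) (fun a => by simpa using hdK a) IsBdd.zero))
  obtain ⟨e, he⟩ := exists_eq_sum_of_killed p h b hb c₀ fun D hD hDb => by
    obtain ⟨D', hD'⟩ := hext D hDb
    have h1 := hc D' (IsBdd.of_finite hD' hD)
    rw [hD'] at h1
    exact (map_eq_zero _).mp h1
  refine ⟨∑ j ∈ Finset.range p, algebraMap K L (e j) * x ^ j, ?_⟩
  rw [sum_pow_char, he, map_sum]
  refine Finset.sum_congr rfl fun j _ => ?_
  rw [map_mul, map_pow, map_pow, ← hx, mul_pow, ← pow_mul, ← pow_mul, mul_comm j p]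

theorem IsFull.of_separable {R R' K L : Type u} [CommRing R] [IsDomain R] [CommRing R'] [IsDomain R'] [Field K] [Field L]
    [Algebra R K] [IsFractionRing R K] [Algebra R R'] [Module.Finite R R'] [Algebra R' L] [IsFractionRing R' L]
    [Algebra K L] [Algebra R L] [IsScalarTower R K L] [IsScalarTower R R' L] [FiniteDimensional K L]
    [Algebra.IsSeparable K L] (p : ℕ) [hp : Fact p.Prime] [CharP K p] (h : IsFull R K p) : IsFull R' L p := by
  intro c hc
  classical
  have : CharP L p := charP_of_injective_algebraMap (algebraMap K L).injective p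
  have hspan : Submodule.span K (Set.range fun l : L => l ^ p) = ⊤ := by
    have h1 := IntermediateField.adjoin_eq_adjoin_pow_expChar_pow_of_isSeparable' (F := K) (E := L) (Set.univ : Set L) p 1
    rw [IntermediateField.adjoin_univ, pow_one, Set.image_univ] at h1
    have h2 : (IntermediateField.adjoin K (Set.range fun l : L => l ^ p)).toSubalgebra =
        Algebra.adjoin K (Set.range fun l : L => l ^ p) :=
      IntermediateField.adjoin_toSubalgebra_of_isAlgebraic fun _ _ => Algebra.IsAlgebraic.isAlgebraic _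
    have h3 : Algebra.adjoin K (Set.range fun l : L => l ^ p) = ⊤ := by rw [← h2, ← h1]; rfl
    have h4 := congrArg Subalgebra.toSubmodule h3
    rw [Algebra.adjoin_eq_span, Algebra.top_toSubmodule] at h4
    rw [← h4]
    refine congrArg _ (le_antisymm Submonoid.subset_closure ?_)
    intro z hz
    induction hz using Submonoid.closure_induction with
    | mem z hz => exact hz
    | one => exact ⟨1, one_pow p⟩
    | mul a b _ _ ha hb =>
      obtain ⟨u, rfl⟩ := ha
      obtain ⟨v, rfl⟩ := hb
      exact ⟨u * v, mul_pow u v p⟩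
  let B := Module.Basis.ofSpan hspan.ge
  have hB : ∀ i, ∃ l, B i = l ^ p := fun i => by
    obtain ⟨l, hl⟩ := Module.Basis.ofSpan_subset hspan.ge ⟨i, rfl⟩
    exact ⟨l, hl.symm⟩
  choose l hl using hB
  have := FiniteDimensional.fintypeBasisIndex B
  have : Algebra.FormallyEtale K L := Algebra.FormallyEtale.of_isSeparable K L
  have hk : ∀ i, ∃ e, e ^ p = B.repr c i := fun i => h _ fun D hD => by
    let D₁ : Derivation ℤ K L := (Algebra.linearMap K L).compDer D
    obtain ⟨D', hD'⟩ := exists_derivation_extend K L D₁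
    have h1 := hc D' (IsBdd.of_finite (fun a => hD' a) hD)
    rw [← B.sum_repr c, map_sum] at h1
    simp only [Algebra.smul_def, D'.leibniz, hl, derivation_pow_char, hD'] at h1
    have h2 : ∑ i, (D (B.repr c i)) • B i = 0 := by
      rw [← h1]
      refine Finset.sum_congr rfl fun i _ => ?_
      simp only [hl, Algebra.smul_def]
      simp [D₁, mul_comm]
    exact Fintype.linearIndependent_iff.mp B.linearIndependent _ h2 i
  choose e he using hk
  refine ⟨∑ i, algebraMap K L (e i) * l i, ?_⟩
  rw [sum_pow_char]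
  conv_rhs => rw [← B.sum_repr c]
  refine Finset.sum_congr rfl fun i _ => ?_
  rw [mul_pow, ← map_pow, he, ← hl, Algebra.smul_def]

/-- Fullness of formal power series rings over fields. -/
theorem isFull_mvPowerSeries {k : Type u} [Field k] {σ : Type v} [Finite σ] (p : ℕ) [hp : Fact p.Prime] [CharP k p]
    (K : Type u) [Field K] [Algebra (MvPowerSeries σ k) K] [IsFractionRing (MvPowerSeries σ k) K] :
    IsFull (MvPowerSeries σ k) K p := by
  classical
  intro c hc
  let iZ : Algebra ℤ (MvPowerSeries σ k) := Ring.toIntAlgebra _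
  have : CharP K p := charP_of_injective_ringHom (f := (algebraMap (MvPowerSeries σ k) K).comp MvPowerSeries.C)
    (RingHom.injective _) p
  have : Algebra.FormallyEtale (MvPowerSeries σ k) K := Algebra.FormallyEtale.of_isLocalization (nonZeroDivisors _)
  have hext : ∀ E : Derivation ℤ (MvPowerSeries σ k) (MvPowerSeries σ k), ∃ D : Derivation ℤ K K,
      IsBdd (MvPowerSeries σ k) D ∧ ∀ r, D (algebraMap _ K r) = algebraMap _ K (E r) := fun E => by
    obtain ⟨D, hD⟩ := exists_derivation_extend (MvPowerSeries σ k) K ((Algebra.linearMap _ K).compDer E)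
    exact ⟨D, ⟨1, by simp, fun r => ⟨E r, by rw [hD, map_one, one_mul]; rfl⟩⟩, hD⟩
  obtain ⟨a, b, hb, rfl⟩ := IsFractionRing.div_surjective (A := MvPowerSeries σ k) c
  have hb0 : algebraMap _ K b ≠ 0 := (IsLocalization.map_units K (⟨b, hb⟩ : nonZeroDivisors _)).ne_zero
  set a' := a * b ^ (p - 1)
  have hc' : algebraMap _ K a / algebraMap _ K b = algebraMap _ K a' / algebraMap _ K b ^ p := by
    have hpow : algebraMap _ K b ^ p = algebraMap _ K b * algebraMap _ K b ^ (p - 1) := by
      rw [← pow_succ', Nat.sub_add_cancel hp.out.one_le]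
    rw [map_mul, map_pow, hpow, mul_div_mul_right _ _ (pow_ne_zero _ hb0)]
  rw [hc'] at hc ⊢
  have hkill : ∀ E : Derivation ℤ (MvPowerSeries σ k) (MvPowerSeries σ k), E a' = 0 := fun E => by
    obtain ⟨D, hD, hD'⟩ := hext E
    have h1 := hc D hD
    have h2 : D (algebraMap _ K a' / algebraMap _ K b ^ p * algebraMap _ K b ^ p) = 0 := by
      rw [D.leibniz, derivation_pow_char, h1]; simp
    rw [div_mul_cancel₀ _ (pow_ne_zero _ hb0), hD'] at h2
    exact (map_eq_zero_iff _ (IsFractionRing.injective (MvPowerSeries σ k) K)).mp h2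
  have hcoeff : ∀ m, ∃ e, e ^ p = MvPowerSeries.coeff m a' := fun m => by
    refine exists_pow_of_forall_derivation p _ fun δ => ?_
    let F : MvPowerSeries σ k →+ MvPowerSeries σ k := AddMonoidHom.mk' (fun f n => δ (MvPowerSeries.coeff n f))
      fun f g => funext fun n => by
        show δ (MvPowerSeries.coeff n (f + g)) = δ (MvPowerSeries.coeff n f) + δ (MvPowerSeries.coeff n g)
        rw [map_add, map_add]
    have hFc : ∀ f n, MvPowerSeries.coeff n (F f) = δ (MvPowerSeries.coeff n f) := fun f n => rfl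
    let E : Derivation ℤ (MvPowerSeries σ k) (MvPowerSeries σ k) := Derivation.mk' F.toIntLinearMap fun f g => by
      ext n
      show MvPowerSeries.coeff n (F (f * g)) = MvPowerSeries.coeff n (f • F g + g • F f)
      rw [smul_eq_mul, smul_eq_mul, map_add, hFc, MvPowerSeries.coeff_mul, MvPowerSeries.coeff_mul, mul_comm g,
        MvPowerSeries.coeff_mul, map_sum, ← Finset.sum_add_distrib]
      refine Finset.sum_congr rfl fun ij _ => ?_
      rw [δ.leibniz, hFc, hFc, smul_eq_mul, smul_eq_mul]
      ring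
    have h1 := congrArg (MvPowerSeries.coeff m) (hkill E)
    rw [map_zero] at h1
    exact h1
  have hzero : ∀ (m : σ →₀ ℕ) (i : σ), ¬ p ∣ m i → MvPowerSeries.coeff m a' = 0 := fun m i hi => by
    have h1 := congrArg (MvPowerSeries.coeff (m - Finsupp.single i 1)) (hkill (Derivation.mk' (MvPowerSeries.pderiv k i).toLinearMap.toAddMonoidHom.toIntLinearMap (fun f g => (MvPowerSeries.pderiv k i).leibniz f g)))
    replace h1 : MvPowerSeries.coeff (m - Finsupp.single i 1) (MvPowerSeries.pderiv k i a') = 0 := h1.trans (map_zero _)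
    rw [MvPowerSeries.coeff_pderiv] at h1
    have hpos : 1 ≤ m i := Nat.one_le_iff_ne_zero.mpr fun h => hi (h ▸ dvd_zero p)
    rw [tsub_add_cancel_of_le (Finsupp.single_le_iff.mpr hpos)] at h1
    refine (mul_eq_zero.mp h1).resolve_right ?_
    rw [Finsupp.tsub_apply, Finsupp.single_eq_same, ← Nat.cast_add_one, Nat.sub_add_cancel hpos,
      CharP.cast_eq_zero_iff k p]
    exact hi
  choose e he using hcoeff
  let g : MvPowerSeries σ k := fun m => e (p • m)
  have hg : g ^ p = a' := by
    rw [← MvPowerSeries.map_frobenius_expand p hp.out.ne_zero]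
    ext m
    rw [MvPowerSeries.coeff_map]
    by_cases hm : ∀ i, p ∣ m i
    · obtain ⟨m', rfl⟩ : ∃ m' : σ →₀ ℕ, m = p • m' := ⟨m.mapRange (· / p) (Nat.zero_div p), Finsupp.ext fun i => by
        rw [Finsupp.smul_apply, Finsupp.mapRange_apply, smul_eq_mul, Nat.mul_div_cancel' (hm i)]⟩
      rw [MvPowerSeries.coeff_expand_smul, frobenius_def]
      exact he (p • m')
    · push Not at hm
      obtain ⟨i, hi⟩ := hm
      rw [MvPowerSeries.coeff_expand_of_not_dvd p hp.out.ne_zero g hi, map_zero, hzero m i hi]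
  exact ⟨algebraMap _ K g / algebraMap _ K b, by rw [div_pow, ← map_pow, hg]⟩

end Groth.Agent.H05EGA4
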