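import Mathlib
import Groth.Agent.H05EGA4.Derivations
import Groth.Agent.H05EGA4.J2
import Groth.Agent.H05EGA4.FormalCatenary
import Groth.Agent.S9226

/-!
# Finite normalisation and J-0 along finite extensions of fields with enough derivations (helper5)
-/

set_option autoImplicit false
set_option maxHeartbeats 600000
set_option synthInstance.maxHeartbeats 100000
universe u
open Polynomial IsLocalRing Groth.Agent

namespace Groth.Agent.H05EGA4

/-- Regularity of `R[X] / (X ^ p - b)` where a derivation does not kill `b`. -/
theorem isRegularLocalRing_quotient_of_derivation {R : Type u} [CommRing R] {A : Type u} [CommRing A] (π : R[X] →+* A)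
    (hπ : Function.Surjective π) (p : ℕ) (b : R) (hp : (p : R) = 0) (hk : RingHom.ker π = Ideal.span {X ^ p - C b})
    (D : Derivation ℤ R R) (Q : Ideal A) [Q.IsPrime]
    (hreg : IsRegularLocalRing (Localization.AtPrime (Q.comap π))) (hDb : π (C (D b)) ∉ Q) :
    IsRegularLocalRing (Localization.AtPrime Q) := by
  let P := Q.comap π
  let S := Localization.AtPrime P
  let E : Derivation ℤ R[X] R[X] := (PolynomialModule.equivPolynomialSelf (R := R)).toLinearMap.compDer D.mapCoeffs
  have hE : ∀ (q : R[X]) i, (E q).coeff i = D (q.coeff i) := fun q i => rfl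
  have hEg : E (X ^ p - C b) = -C (D b) := Polynomial.ext fun i => by
    rw [hE, coeff_sub, coeff_X_pow, coeff_C, coeff_neg, coeff_C, map_sub]
    split_ifs <;> simp
  have : Algebra.FormallyEtale R[X] S := Algebra.FormallyEtale.of_isLocalization P.primeCompl
  obtain ⟨D', hD'⟩ := exists_derivation_extend R[X] S ((Algebra.linearMap R[X] S).compDer E)
  have hgP : (X ^ p - C b : R[X]) ∈ RingHom.ker π := hk ▸ Ideal.mem_span_singleton_self _
  let f : Fin 1 → S := fun _ => algebraMap R[X] S (X ^ p - C b)
  have hf : ∀ i, f i ∈ maximalIdeal S := fun _ => by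
    rw [← Localization.AtPrime.map_eq_maximalIdeal]
    exact Ideal.mem_map_of_mem _ (show π _ ∈ Q by rw [RingHom.mem_ker.mp hgP]; exact zero_mem _)
  have hdet : IsUnit (Matrix.det (Matrix.of (fun i j : Fin 1 => (fun _ => D') i (f j)))) := by
    rw [Matrix.det_fin_one, Matrix.of_apply, hD']
    show IsUnit (algebraMap R[X] S (E (X ^ p - C b)))
    rw [show E (X ^ p - C b) = -C (D b) from hEg, map_neg]
    exact (IsLocalization.map_units S (⟨C (D b), hDb⟩ : P.primeCompl)).neg
  have : IsRegularLocalRing S := hreg
  obtain ⟨h1, -⟩ := S9226.result S 1 le_rfl f hf (fun _ => D') hdet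
  let φ := Localization.localRingHom P Q π rfl
  have hφ : Function.Surjective φ := (RingHom.surjectiveOnStalks_of_surjective hπ).localRingHom_surjective P Q rfl
  have hkφ : RingHom.ker φ = Ideal.span (Set.range f) := by
    rw [ker_localRingHom_of_surjective π hπ P Q rfl, hk, Ideal.map_span, Set.image_singleton, Set.range_const]
  let e : (S ⧸ Ideal.span (Set.range f)) ≃+* Localization.AtPrime Q :=
    (Ideal.quotEquivOfEq hkφ.symm).trans (RingHom.quotientKerEquivOfSurjective hφ)
  exact IsRegularLocalRing.of_ringEquiv (R := S ⧸ Ideal.span (Set.range f)) e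

/-- Regularity of the localizations of `R[X]` over the regular locus. -/
theorem isRegularLocalRing_polynomial_atPrime {R : Type u} [CommRing R] [IsNoetherianRing R] {h : R}
    (hreg : ∀ (q : Ideal R) [q.IsPrime], h ∉ q → IsRegularLocalRing (Localization.AtPrime q))
    (P : Ideal R[X]) [P.IsPrime] (hP : C h ∉ P) : IsRegularLocalRing (Localization.AtPrime P) := by
  let Rh := Localization.Away h
  have : IsNoetherianRing Rh := IsLocalization.isNoetherianRing (Submonoid.powers h) Rh inferInstance
  have hRh : IsRegularRing Rh := by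
    rw [isRegularRing_iff]
    intro q hq
    refine (isRegularLocalRing_localization_iff (Submonoid.powers h) Rh q).mpr (hreg _ fun hh => hq.ne_top ?_)
    exact q.eq_top_of_isUnit_mem hh (IsLocalization.Away.algebraMap_isUnit h)
  letI : Algebra R[X] Rh[X] := (Polynomial.mapRingHom (algebraMap R Rh)).toAlgebra
  have : IsLocalization ((Submonoid.powers h).map Polynomial.C) Rh[X] := Polynomial.isLocalization _ Rh
  have hd : Disjoint (((Submonoid.powers h).map Polynomial.C : Submonoid R[X]) : Set R[X]) P := by
    refine Set.disjoint_left.2 ?_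
    rintro _ ⟨_, ⟨n, rfl⟩, rfl⟩ hmem
    refine hP (‹P.IsPrime›.mem_of_pow_mem n ?_)
    rw [← map_pow]
    exact hmem
  have hP' := IsLocalization.isPrime_of_isPrime_disjoint ((Submonoid.powers h).map Polynomial.C) Rh[X] P ‹_› hd
  have hc := IsLocalization.under_map_of_isPrime_disjoint ((Submonoid.powers h).map Polynomial.C) Rh[X] ‹P.IsPrime› hd
  exact (isRegularLocalRing_localization_congr hc).mp
    ((isRegularLocalRing_localization_iff ((Submonoid.powers h).map Polynomial.C) Rh[X] _).mp
      (isRegularRing_iff.mp inferInstance _))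

section radical
variable {R K L : Type u} [CommRing R] [IsDomain R] [IsNoetherianRing R] [IsIntegrallyClosed R]
  [Field K] [Field L] [Algebra R K] [IsFractionRing R K] [Algebra K L] [Algebra R L] [IsScalarTower R K L]
  (p : ℕ) [hp : Fact p.Prime] [CharP K p]

/-- Bound on the coordinates of integral elements of a radical extension. -/
theorem exists_bound_radical (hfull : IsFull R K p) {b : K} (hb : ∀ e, e ^ p ≠ b) {x : L}
    (hx : x ^ p = algebraMap K L b) :
    ∃ t : R, t ≠ 0 ∧ ∀ f : K[X], f.natDegree < p → IsIntegral R (aeval x f) →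
      ∀ j, algebraMap R K t * f.coeff j ∈ (algebraMap R K).range := by
  have : CharP L p := charP_of_injective_algebraMap (algebraMap K L).injective p
  obtain ⟨D1, hD1, hD1b⟩ : ∃ D : Derivation ℤ K K, IsBdd R D ∧ D b ≠ 0 := by
    by_contra h
    push Not at h
    obtain ⟨e, he⟩ := hfull b h
    exact hb e he
  let D0 := (D1 b)⁻¹ • D1
  have hD0 : IsBdd R D0 := hD1.smul _
  have hD0b : D0 b = 1 := by simp [D0, inv_mul_cancel₀ hD1b]
  have hiter : ∀ (i j : ℕ) (e : K), D0^[i] (e ^ p * b ^ j) = e ^ p * ((j.descFactorial i : ℕ) : K) * b ^ (j - i) := by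
    intro i
    induction i with
    | zero => intro j e; simp
    | succ i ih =>
      intro j e
      rw [Function.iterate_succ_apply', ih, mul_comm (e ^ p), mul_assoc, D0.leibniz, derivation_natCast, smul_zero,
        add_zero, D0.leibniz, derivation_pow_char p, smul_zero, add_zero, D0.leibniz_pow, hD0b, Nat.descFactorial_succ,
        Nat.sub_sub]
      simp only [smul_eq_mul, nsmul_eq_mul, mul_one, Nat.cast_mul]
      ring
  have main : ∀ i ≤ p, ∃ t : R, t ≠ 0 ∧ ∀ c : ℕ → K,
      (∑ j ∈ Finset.range i, c j ^ p * b ^ j) ∈ (algebraMap R K).range →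
        ∀ j < i, algebraMap R K t * c j ∈ (algebraMap R K).range := by
    intro i
    induction i with
    | zero => exact fun _ => ⟨1, one_ne_zero, fun c _ j hj => absurd hj j.not_lt_zero⟩
    | succ i ih =>
      intro hi
      obtain ⟨t', ht', hrec⟩ := ih (Nat.le_of_succ_le hi)
      obtain ⟨s, hs, hsD⟩ := hD0.iterate i
      obtain ⟨⟨β, w, hw⟩, hβ⟩ := IsLocalization.surj (nonZeroDivisors R) (b ^ i)
      have hw0 : w ≠ 0 := nonZeroDivisors.ne_zero hw
      have hs0 : s ≠ 0 := fun h => hs (by rw [h, map_zero])
      refine ⟨t' * (s * w), mul_ne_zero ht' (mul_ne_zero hs0 hw0), fun c hc j hj => ?_⟩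
      have hsci : algebraMap R K s * c i ∈ (algebraMap R K).range := by
        obtain ⟨r, hr⟩ := hc
        have h1 := hsD r
        have hsum : ∀ (n m : ℕ) (g : ℕ → K), D0^[n] (∑ k ∈ Finset.range m, g k) = ∑ k ∈ Finset.range m, D0^[n] (g k) := by
          intro n
          induction n with
          | zero => intro m g; rfl
          | succ n ihn => intro m g; simp only [Function.iterate_succ_apply', ihn, map_sum]
        have hfac : ((i.factorial : ℕ) : K) ^ p = ((i.factorial : ℕ) : K) :=
          (frobenius_def p _).symm.trans (map_natCast (frobenius K p) _)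
        rw [hr, show D0^[i] (∑ k ∈ Finset.range (i + 1), c k ^ p * b ^ k) = c i ^ p * (i.factorial : K) by
          rw [hsum, Finset.sum_range_succ, Finset.sum_eq_zero fun k hk => by
              rw [hiter, Nat.descFactorial_eq_zero_iff_lt.mpr (Finset.mem_range.mp hk)]; simp,
            zero_add, hiter, Nat.descFactorial_self, Nat.sub_self, pow_zero, mul_one]] at h1
        have h2 : (algebraMap R K s * ((i.factorial : ℕ) : K) * c i) ^ p ∈ (algebraMap R K).range := by
          rw [mul_pow, mul_pow, hfac,
            show algebraMap R K s ^ p = algebraMap R K s ^ (p - 1) * algebraMap R K s by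
              rw [← pow_succ, Nat.sub_add_cancel hp.out.one_le],
            show algebraMap R K s ^ (p - 1) * algebraMap R K s * (i.factorial : K) * c i ^ p =
              algebraMap R K s ^ (p - 1) * (algebraMap R K s * (c i ^ p * (i.factorial : K))) by ring]
          exact mul_mem (pow_mem (RingHom.mem_range_self _ s) _) h1
        obtain ⟨y, hy⟩ := h2
        obtain ⟨z, hz⟩ := IsIntegrallyClosed.exists_algebraMap_eq_of_isIntegral_pow (K := K) hp.out.pos
          (hy ▸ isIntegral_algebraMap : IsIntegral R ((algebraMap R K s * ((i.factorial : ℕ) : K) * c i) ^ p))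
        have hnd : ¬ p ∣ i.factorial := fun h => absurd (hp.out.dvd_factorial.mp h) (by omega)
        obtain ⟨u, v, huv⟩ := ((Nat.Prime.coprime_iff_not_dvd hp.out).mpr hnd).symm.isCoprime
        have hu : (u : K) * ((i.factorial : ℕ) : K) = 1 := by
          have := congrArg (Int.cast : ℤ → K) huv
          push_cast at this
          rwa [CharP.cast_eq_zero K p, mul_zero, add_zero] at this
        refine ⟨(u : R) * z, ?_⟩
        rw [map_mul, map_intCast, hz]
        linear_combination (algebraMap R K s * c i) * hu
      rcases Nat.lt_succ_iff_lt_or_eq.mp hj with hj | rfl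
      · have hc' : (∑ k ∈ Finset.range i, (algebraMap R K (s * w) * c k) ^ p * b ^ k) ∈ (algebraMap R K).range := by
          have h3 : ∑ k ∈ Finset.range i, (algebraMap R K (s * w) * c k) ^ p * b ^ k =
              algebraMap R K (s * w) ^ p * (∑ k ∈ Finset.range (i + 1), c k ^ p * b ^ k) -
              (algebraMap R K s * c i) ^ p * algebraMap R K w ^ (p - 1) * (b ^ i * algebraMap R K w) := by
            rw [Finset.sum_range_succ, mul_add, Finset.mul_sum,
              show (algebraMap R K s * c i) ^ p * algebraMap R K w ^ (p - 1) * (b ^ i * algebraMap R K w) =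
                (algebraMap R K s * c i) ^ p * (algebraMap R K w ^ (p - 1) * algebraMap R K w) * b ^ i by ring,
              ← pow_succ, Nat.sub_add_cancel hp.out.one_le, ← mul_pow]
            rw [show (algebraMap R K s * c i * algebraMap R K w) ^ p * b ^ i =
              algebraMap R K (s * w) ^ p * (c i ^ p * b ^ i) by rw [map_mul, mul_pow, mul_pow, mul_pow]; ring,
              add_sub_cancel_right]
            exact Finset.sum_congr rfl fun k _ => by ring
          rw [h3]
          refine sub_mem (mul_mem (pow_mem (RingHom.mem_range_self _ _) _) hc) (mul_mem (mul_mem (pow_mem hsci _) (pow_mem (RingHom.mem_range_self _ _) _)) ⟨β, hβ.symm⟩)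
        rw [map_mul, mul_assoc]
        exact hrec _ hc' j hj
      · rw [map_mul, map_mul, show algebraMap R K t' * (algebraMap R K s * algebraMap R K w) * c j =
          algebraMap R K t' * algebraMap R K w * (algebraMap R K s * c j) by ring]
        exact mul_mem (mul_mem (RingHom.mem_range_self _ _) (RingHom.mem_range_self _ _)) hsci
  obtain ⟨t, ht, htt⟩ := main p le_rfl
  refine ⟨t, ht, fun f hf hint j => ?_⟩
  rcases le_or_gt p j with hj | hj
  · rw [coeff_eq_zero_of_natDegree_lt (lt_of_lt_of_le hf hj), mul_zero]
    exact zero_mem _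
  refine htt f.coeff ?_ j hj
  have h1 : algebraMap K L (∑ k ∈ Finset.range p, f.coeff k ^ p * b ^ k) = aeval x f ^ p := by
    rw [aeval_eq_sum_range' hf x, sum_pow_char, map_sum]
    refine Finset.sum_congr rfl fun k _ => ?_
    rw [Algebra.smul_def, map_mul, map_pow, map_pow, ← hx, mul_pow, ← pow_mul, ← pow_mul, mul_comm k p]
  have h2 : IsIntegral R (∑ k ∈ Finset.range p, f.coeff k ^ p * b ^ k) :=
    (isIntegral_algHom_iff (IsScalarTower.toAlgHom R K L) (algebraMap K L).injective).mp (h1 ▸ hint.pow p)
  obtain ⟨r, hr⟩ := IsIntegrallyClosed.isIntegral_iff.mp h2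
  exact ⟨r, hr⟩

/-- The integral closure in a radical extension of degree `p` is finite. -/
theorem finite_integralClosure_radical (hfull : IsFull R K p) {b : K} (hb : ∀ e, e ^ p ≠ b) {x : L}
    (hx : x ^ p = algebraMap K L b) (hgen : IntermediateField.adjoin K {x} = ⊤) :
    Module.Finite R (integralClosure R L) := by
  classical
  obtain ⟨t, ht, htt⟩ := exists_bound_radical (L := L) p hfull hb hx
  obtain ⟨hs, hk⟩ := radical_aeval p hb hx hgen
  let u : L := algebraMap R L t
  have hu : u ≠ 0 := by
    show algebraMap R L t ≠ 0
    rw [IsScalarTower.algebraMap_apply R K L]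
    exact (_root_.map_ne_zero (algebraMap K L)).mpr ((map_ne_zero_iff _ (IsFractionRing.injective R K)).mpr ht)
  let M : Submodule R L := Submodule.span R (Set.range fun j : Fin p => u⁻¹ * x ^ (j : ℕ))
  have hle : Subalgebra.toSubmodule (integralClosure R L) ≤ M := fun c hc => by
    obtain ⟨f, rfl⟩ := hs c
    have hgm : (X ^ p - C b : K[X]).Monic := monic_X_pow_sub_C b hp.out.ne_zero
    have hdeg : (f %ₘ (X ^ p - C b)).natDegree < p := by
      have := natDegree_modByMonic_lt f hgm (fun h => by
        have := congrArg natDegree h; rw [natDegree_X_pow_sub_C, natDegree_one] at this; exact hp.out.ne_zero this)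
      rwa [natDegree_X_pow_sub_C] at this
    have heq : aeval x f = aeval x (f %ₘ (X ^ p - C b)) := by
      conv_lhs => rw [← modByMonic_add_div f (X ^ p - C b)]
      simp [hx]
    rw [heq] at hc ⊢
    rw [aeval_eq_sum_range' hdeg x]
    refine Submodule.sum_mem _ fun j hj => ?_
    obtain ⟨r, hr⟩ := htt _ hdeg hc j
    have h1 : (f %ₘ (X ^ p - C b)).coeff j • x ^ j = r • (u⁻¹ * x ^ j) := by
      rw [Algebra.smul_def, Algebra.smul_def, IsScalarTower.algebraMap_apply R K L r, hr, map_mul,
        ← IsScalarTower.algebraMap_apply R K L]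
      show _ = u * _ * (u⁻¹ * _)
      field_simp
    rw [h1]
    exact Submodule.smul_mem _ _ (Submodule.subset_span ⟨⟨j, Finset.mem_range.mp hj⟩, rfl⟩)
  have hfg : M.FG := Submodule.fg_span (Set.finite_range _)
  have : Module.Finite R M := Module.Finite.of_fg hfg
  exact Module.Finite.of_fg (Submodule.FG.of_le hfg hle : (Subalgebra.toSubmodule (integralClosure R L)).FG)

/-- The integral closure in a radical extension of degree `p` is J-0. -/
theorem isJ0_integralClosure_radical (hfull : IsFull R K p) (hJ : IsJ0 R) {b : K} (hb : ∀ e, e ^ p ≠ b) {x : L}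
    (hx : x ^ p = algebraMap K L b) (hgen : IntermediateField.adjoin K {x} = ⊤) :
    IsJ0 (integralClosure R L) := by
  classical
  have : CharP L p := charP_of_injective_algebraMap (algebraMap K L).injective p
  have hfin := finite_integralClosure_radical p hfull hb hx hgen
  obtain ⟨D1, ⟨s, hs, hsD⟩, hD1b⟩ : ∃ D : Derivation ℤ K K, IsBdd R D ∧ D b ≠ 0 := by
    by_contra h
    push Not at h
    obtain ⟨e, he⟩ := hfull b h
    exact hb e he
  obtain ⟨⟨β, w, hw⟩, hβ⟩ := IsLocalization.surj (nonZeroDivisors R) b
  have hwK : algebraMap R K w ≠ 0 := (IsLocalization.map_units K (⟨w, hw⟩ : nonZeroDivisors R)).ne_zero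
  let b' : R := β * w ^ (p - 1)
  let x' : L := x * algebraMap R L w
  have hb' : algebraMap R K b' = b * algebraMap R K w ^ p := by
    rw [map_mul, map_pow, ← hβ, mul_assoc, ← pow_succ', Nat.sub_add_cancel hp.out.one_le]
  have hx' : x' ^ p = algebraMap R L b' := by
    rw [IsScalarTower.algebraMap_apply R K L, hb', map_mul, map_pow, ← hx, mul_pow, IsScalarTower.algebraMap_apply R K L]
  have hbne : ∀ e, e ^ p ≠ algebraMap R K b' := fun e he => hb (e / algebraMap R K w) (by
    rw [div_pow, he, hb', mul_div_cancel_right₀ _ (pow_ne_zero _ hwK)])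
  have hgen' : IntermediateField.adjoin K {x'} = ⊤ := by
    rw [eq_top_iff, ← hgen, IntermediateField.adjoin_le_iff, Set.singleton_subset_iff]
    have hwL : algebraMap R L w ≠ 0 := by
      rw [IsScalarTower.algebraMap_apply R K L]; exact (_root_.map_ne_zero (algebraMap K L)).mpr hwK
    have : x = x' * algebraMap K L (algebraMap R K w)⁻¹ := by
      rw [map_inv₀, ← IsScalarTower.algebraMap_apply, mul_assoc, mul_inv_cancel₀ hwL, mul_one]
    rw [SetLike.mem_coe, this]
    exact mul_mem (IntermediateField.subset_adjoin _ _ rfl) (IntermediateField.algebraMap_mem _ _)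
  obtain ⟨hsur, hker⟩ := radical_aeval p hbne (x := x') (by rw [hx', IsScalarTower.algebraMap_apply R K L]) hgen'
  -- the subring `A = R[x']`
  let A := Algebra.adjoin R ({x'} : Set L)
  have hxint : IsIntegral R x' := ⟨X ^ p - C b', monic_X_pow_sub_C b' hp.out.ne_zero, by simp [hx']⟩
  have hAle : A ≤ integralClosure R L := Algebra.adjoin_le (Set.singleton_subset_iff.mpr hxint)
  have : IsNoetherianRing A := by
    have : Module.Finite R A := Module.Finite.of_fg hxint.fg_adjoin_singleton
    exact IsNoetherianRing.of_finite R A
  let π : R[X] →+* A := ((aeval (R := R) x').codRestrict A fun f => by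
    show aeval x' f ∈ Algebra.adjoin R ({x'} : Set L)
    rw [Algebra.adjoin_singleton_eq_range_aeval]; exact ⟨f, rfl⟩).toRingHom
  have hπ : Function.Surjective π := fun a => by
    have ha : (a : L) ∈ Algebra.adjoin R ({x'} : Set L) := a.2
    rw [Algebra.adjoin_singleton_eq_range_aeval] at ha
    obtain ⟨f, hf⟩ := ha
    exact ⟨f, Subtype.ext hf⟩
  have hgm : (X ^ p - C b' : R[X]).Monic := monic_X_pow_sub_C b' hp.out.ne_zero
  have hinjRL : Function.Injective (algebraMap R L) := by
    rw [IsScalarTower.algebraMap_eq R K L]
    exact (algebraMap K L).injective.comp (IsFractionRing.injective R K)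
  have hkπ : RingHom.ker π = Ideal.span {(X ^ p - C b' : R[X])} := by
    refine le_antisymm (fun f hf => Ideal.mem_span_singleton.mpr ?_) ?_
    · have h1 : aeval x' (f.map (algebraMap R K)) = 0 := by
        rw [aeval_map_algebraMap]; exact congrArg Subtype.val (RingHom.mem_ker.mp hf)
      have h2 := (hker _).mp h1
      rw [show (X ^ p - C (algebraMap R K b') : K[X]) = (X ^ p - C b' : R[X]).map (algebraMap R K) by simp] at h2
      exact (Polynomial.map_dvd_map _ (IsFractionRing.injective R K) hgm).mp h2
    · rw [Ideal.span_le, Set.singleton_subset_iff]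
      refine RingHom.mem_ker.mpr (Subtype.ext ?_)
      show aeval x' (X ^ p - C b' : R[X]) = 0
      simp [hx']
  obtain ⟨U, hU, ⟨q₀, hq₀⟩, hUreg⟩ := hJ
  obtain ⟨_, ⟨h₀, rfl⟩, hh₀, hh₀U⟩ := PrimeSpectrum.isTopologicalBasis_basic_opens.exists_subset_of_mem_open hq₀ hU
  obtain ⟨E, hE⟩ : ∃ E : Derivation ℤ R R, ∀ r, algebraMap R K (E r) = algebraMap R K s * D1 (algebraMap R K r) := by
    choose g hg using hsD
    let d : R →+ R := AddMonoidHom.mk' g fun r r' => IsFractionRing.injective R K (by
      simp only [map_add, hg, mul_add])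
    refine ⟨Derivation.mk' d.toIntLinearMap fun r r' => IsFractionRing.injective R K ?_, hg⟩
    show algebraMap R K (g (r * r')) = algebraMap R K (r • g r' + r' • g r)
    simp only [smul_eq_mul, map_add, map_mul, hg, D1.leibniz]
    ring
  have hEb : E b' ≠ 0 := fun h => by
    have h1 := hE b'
    rw [h, map_zero, hb', D1.leibniz, derivation_pow_char p, smul_zero, zero_add, smul_eq_mul] at h1
    exact mul_ne_zero hs (mul_ne_zero (pow_ne_zero p hwK) hD1b) h1.symm
  have hh₀0 : h₀ ≠ 0 := fun h => hh₀ (h ▸ zero_mem _)
  let h := h₀ * E b'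
  have hreg : ∀ (q : Ideal R) [q.IsPrime], h ∉ q → IsRegularLocalRing (Localization.AtPrime q) := fun q _ hq =>
    hUreg (a := ⟨q, ‹_›⟩) (hh₀U fun h' => hq (q.mul_mem_right _ h'))
  have hπC : ∀ r, ((π (C r) : A) : L) = algebraMap R L r := fun r => aeval_C x' r
  have hAJ0 : IsJ0 A := by
    refine ⟨PrimeSpectrum.basicOpen (π (C h)), (PrimeSpectrum.basicOpen _).2, ⟨⟨⊥, Ideal.isPrime_bot⟩, ?_⟩, fun Q hQ => ?_⟩
    · show π (C h) ∉ (⊥ : Ideal A)
      rw [Ideal.mem_bot]
      intro h0
      refine mul_ne_zero hh₀0 hEb (hinjRL ?_)
      rw [← hπC, h0, ZeroMemClass.coe_zero, map_zero]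
    · have hC : C h ∉ Q.asIdeal.comap π := fun h' => hQ h'
      refine isRegularLocalRing_quotient_of_derivation π hπ p b' ?_ hkπ E Q.asIdeal
        (isRegularLocalRing_polynomial_atPrime hreg _ hC) fun h' => hQ ?_
      · exact IsFractionRing.injective R K (by rw [map_natCast, CharP.cast_eq_zero, map_zero])
      · show π (C h) ∈ Q.asIdeal
        rw [C_mul, map_mul]
        exact Q.asIdeal.mul_mem_left _ h'
  letI : Algebra A (integralClosure R L) := (Subalgebra.inclusion hAle).toRingHom.toAlgebra
  have : IsScalarTower R A (integralClosure R L) := IsScalarTower.of_algebraMap_eq fun r => rfl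
  have : IsScalarTower A (integralClosure R L) L := IsScalarTower.of_algebraMap_eq fun a => rfl
  have : Module.Finite A (integralClosure R L) := Module.Finite.of_restrictScalars_finite R A _
  have : FaithfulSMul A (integralClosure R L) :=
    (faithfulSMul_iff_algebraMap_injective _ _).mpr (Subalgebra.inclusion_injective hAle)
  have hAL : IsFractionRing A L := by
    have : FaithfulSMul A L := (faithfulSMul_iff_algebraMap_injective A L).mpr Subtype.val_injective
    refine IsFractionRing.of_field A L fun z => ?_
    obtain ⟨f, rfl⟩ := hsur z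
    obtain ⟨m, hm⟩ := IsLocalization.integerNormalization_map_to_map (nonZeroDivisors R) f
    refine ⟨π (IsLocalization.integerNormalization (nonZeroDivisors R) f), π (C (m : R)), ?_⟩
    symm
    show (π (IsLocalization.integerNormalization (nonZeroDivisors R) f) : L) / (π (C (m : R)) : L) = aeval x' f
    rw [hπC]
    have h1 : aeval x' (IsLocalization.integerNormalization (nonZeroDivisors R) f) = algebraMap R L m * aeval x' f := by
      rw [← aeval_map_algebraMap K, hm, Algebra.smul_def, map_mul, Polynomial.algebraMap_apply, aeval_C,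
        ← IsScalarTower.algebraMap_apply]
    show aeval x' _ / _ = _
    rw [h1, mul_div_cancel_left₀ _ fun h0 => nonZeroDivisors.ne_zero m.2 (hinjRL (h0.trans (map_zero _).symm))]
  have : Module.Finite K L := by
    have hxK : IsIntegral K x' := hxint.tower_top
    have := IntermediateField.adjoin.finiteDimensional hxK
    rw [hgen'] at this
    exact Module.Finite.equiv (IntermediateField.topEquiv (F := K) (E := L)).toLinearEquiv
  have : IsFractionRing (integralClosure R L) L := integralClosure.isFractionRing_of_finite_extension K L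
  exact isJ0_of_formallySmooth A (integralClosure R L) L L hAJ0

end radical

/-- A normal J-0 Noetherian domain with enough derivations. -/
structure IsGoodBase (R K : Type u) [CommRing R] [Field K] [Algebra R K] (p : ℕ) : Prop where
  noetherian : IsNoetherianRing R
  normal : IsIntegrallyClosed R
  j0 : IsJ0 R
  full : IsFull R K p

theorem finite_integralClosure_of_separable {R K L : Type u} [CommRing R] [IsDomain R] [IsNoetherianRing R]
    [IsIntegrallyClosed R] [Field K] [Field L] [Algebra R K] [IsFractionRing R K] [Algebra K L] [Algebra R L]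
    [IsScalarTower R K L] [FiniteDimensional K L] [Algebra.IsSeparable K L] :
    Module.Finite R (integralClosure R L) :=
  IsIntegralClosure.finite R K L (integralClosure R L)

theorem isJ0_integralClosure_of_separable {R K L : Type u} [CommRing R] [IsDomain R] [IsNoetherianRing R]
    [IsIntegrallyClosed R] [Field K] [Field L] [Algebra R K] [IsFractionRing R K] [Algebra K L] [Algebra R L]
    [IsScalarTower R K L] [FiniteDimensional K L] [Algebra.IsSeparable K L] (h : IsJ0 R) :
    IsJ0 (integralClosure R L) := by
  have := finite_integralClosure_of_separable (R := R) (K := K) (L := L)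
  have : IsFractionRing (integralClosure R L) L := integralClosure.isFractionRing_of_finite_extension K L
  have : Algebra.FormallyEtale K L := Algebra.FormallyEtale.of_isSeparable K L
  have : FaithfulSMul R (integralClosure R L) := (faithfulSMul_iff_algebraMap_injective _ _).mpr fun a b h => by
    refine IsFractionRing.injective R K ((algebraMap K L).injective ?_)
    rw [← IsScalarTower.algebraMap_apply, ← IsScalarTower.algebraMap_apply]
    exact congrArg Subtype.val h
  exact isJ0_of_formallySmooth R (integralClosure R L) K L h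

theorem finite_and_isJ0_of_purelyInseparable (p : ℕ) [hp : Fact p.Prime] :
    ∀ (n : ℕ) (R K L : Type u) [CommRing R] [IsDomain R] [Field K] [Field L] [Algebra R K] [IsFractionRing R K]
      [Algebra K L] [Algebra R L] [IsScalarTower R K L] [FiniteDimensional K L] [IsPurelyInseparable K L]
      [CharP K p], Module.finrank K L ≤ n → IsGoodBase R K p →
      Module.Finite R (integralClosure R L) ∧ IsJ0 (integralClosure R L) := by
  intro n
  induction n with
  | zero =>
    intro R K L _ _ _ _ _ _ _ _ _ _ _ _ hn _
    exact absurd hn (Module.finrank_pos.not_ge)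
  | succ n ih =>
    intro R K L _ _ _ _ _ _ _ _ _ _ _ _ hn hR
    have := hR.noetherian
    have := hR.normal
    by_cases htop : ∀ l : L, l ∈ (algebraMap K L).range
    · have hbij : Function.Bijective (algebraMap K L) := ⟨(algebraMap K L).injective, htop⟩
      have : Algebra.IsSeparable K L := AlgEquiv.Algebra.isSeparable (AlgEquiv.ofBijective (Algebra.ofId K L) hbij)
      exact ⟨finite_integralClosure_of_separable (K := K), isJ0_integralClosure_of_separable (K := K) hR.j0⟩
    push Not at htop
    obtain ⟨y, hy⟩ := htop
    obtain ⟨x, hxK, hxp⟩ : ∃ x : L, x ∉ (algebraMap K L).range ∧ x ^ p ∈ (algebraMap K L).range := by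
      have : ExpChar K p := ExpChar.prime hp.out
      obtain ⟨j, hj⟩ := IsPurelyInseparable.pow_mem K p y
      revert y
      induction j with
      | zero => intro y hy hj; exact absurd (by simpa using hj) hy
      | succ j ihj =>
        intro y hy hj
        by_cases h : y ^ p ^ j ∈ (algebraMap K L).range
        · exact ihj y hy h
        · exact ⟨y ^ p ^ j, h, by rwa [← pow_mul, ← pow_succ]⟩
    obtain ⟨b, hb⟩ := hxp
    have : CharP L p := charP_of_injective_algebraMap (algebraMap K L).injective p
    have hbne : ∀ e, e ^ p ≠ b := fun e he => hxK ⟨e, frobenius_inj L p (by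
      rw [frobenius_def, frobenius_def, ← map_pow, he, hb])⟩
    let E := IntermediateField.adjoin K {x}
    let xE : E := ⟨x, IntermediateField.subset_adjoin K _ rfl⟩
    have hgen : IntermediateField.adjoin K {xE} = ⊤ :=
      IntermediateField.map_injective E.val (by
        rw [IntermediateField.adjoin_map, Set.image_singleton, ← AlgHom.fieldRange_eq_map, IntermediateField.fieldRange_val]
        rfl)
    have hxE : xE ^ p = algebraMap K E b := Subtype.ext hb.symm
    have hf1 := finite_integralClosure_radical (R := R) (L := E) p hR.full hbne hxE hgen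
    have hj1 := isJ0_integralClosure_radical (R := R) (L := E) p hR.full hR.j0 hbne hxE hgen
    let R1 := integralClosure R E
    have : IsFractionRing R1 E := integralClosure.isFractionRing_of_finite_extension K E
    have : CharP E p := charP_of_injective_algebraMap (algebraMap K E).injective p
    have hgood : IsGoodBase R1 E p := ⟨IsNoetherianRing.of_finite R R1,
      integralClosure.isIntegrallyClosedOfFiniteExtension K, hj1,
      IsFull.of_radical (R := R) p hbne hxE hgen hR.full⟩
    have : IsPurelyInseparable E L := IsPurelyInseparable.tower_top K E L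
    have hdeg : Module.finrank E L ≤ n := by
      have h1 := Module.finrank_mul_finrank K E L
      have h2 : 2 ≤ Module.finrank K E := by
        rcases Nat.lt_or_ge (Module.finrank K E) 2 with h | h
        · exfalso
          have h1' : Module.finrank K E = 1 := le_antisymm (Nat.lt_succ_iff.mp h) Module.finrank_pos
          rw [IntermediateField.finrank_eq_one_iff] at h1'
          exact hxK (IntermediateField.mem_bot.mp (h1' ▸ IntermediateField.subset_adjoin K _ rfl : x ∈ (⊥ : IntermediateField K L)))
        · exact h
      have h3 : 2 * Module.finrank E L ≤ n + 1 := (Nat.mul_le_mul_right _ h2).trans (h1.le.trans hn)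
      have h4 : 0 < Module.finrank E L := Module.finrank_pos
      omega
    have : IsScalarTower R R1 L := IsScalarTower.of_algebraMap_eq fun r => rfl
    obtain ⟨hf2, hj2⟩ := ih R1 E L hdeg hgood
    have : Module.Finite R (integralClosure R1 L) := Module.Finite.trans R1 _
    have hmem : ∀ l : L, l ∈ integralClosure R1 L ↔ l ∈ integralClosure R L :=
      fun l => ⟨fun h => isIntegral_trans (R := R) (A := R1) l h, fun h => h.tower_top⟩
    let e : integralClosure R1 L →ₐ[R] integralClosure R L :=
      { toFun := fun l => ⟨l, (hmem l).mp l.2⟩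
        map_one' := rfl
        map_mul' := fun _ _ => rfl
        map_zero' := rfl
        map_add' := fun _ _ => rfl
        commutes' := fun r => Subtype.ext (IsScalarTower.algebraMap_apply R R1 L r).symm }
    have he : Function.Bijective e :=
      ⟨fun a b h => Subtype.ext (congrArg Subtype.val h :), fun l => ⟨⟨l, (hmem l).mpr l.2⟩, rfl⟩⟩
    exact ⟨Module.Finite.equiv (AlgEquiv.ofBijective e he).toLinearEquiv,
      hj2.of_ringEquiv (AlgEquiv.ofBijective e he).toRingEquiv⟩

/-- Finite normalisation and J-0 in all finite extensions. -/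
theorem finite_and_isJ0_of_isGoodBase (p : ℕ) [hp : Fact p.Prime] (R K L : Type u) [CommRing R] [IsDomain R]
    [Field K] [Field L] [Algebra R K] [IsFractionRing R K] [Algebra K L] [Algebra R L] [IsScalarTower R K L]
    [FiniteDimensional K L] [CharP K p] (hR : IsGoodBase R K p) :
    Module.Finite R (integralClosure R L) ∧ IsJ0 (integralClosure R L) := by
  have := hR.noetherian
  have := hR.normal
  let E := separableClosure K L
  let R1 := integralClosure R E
  have hf1 : Module.Finite R R1 := finite_integralClosure_of_separable (K := K)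
  have hj1 : IsJ0 R1 := isJ0_integralClosure_of_separable (K := K) hR.j0
  have : IsFractionRing R1 E := integralClosure.isFractionRing_of_finite_extension K E
  have : CharP E p := charP_of_injective_algebraMap (algebraMap K E).injective p
  have hgood : IsGoodBase R1 E p := ⟨IsNoetherianRing.of_finite R R1,
    integralClosure.isIntegrallyClosedOfFiniteExtension K, hj1, IsFull.of_separable (R := R) (K := K) p hR.full⟩
  have : IsScalarTower R R1 L := IsScalarTower.of_algebraMap_eq fun r => rfl
  obtain ⟨hf2, hj2⟩ := finite_and_isJ0_of_purelyInseparable p (Module.finrank E L) R1 E L le_rfl hgood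
  have : Module.Finite R (integralClosure R1 L) := Module.Finite.trans R1 _
  have hmem : ∀ l : L, l ∈ integralClosure R1 L ↔ l ∈ integralClosure R L :=
    fun l => ⟨fun h => isIntegral_trans (R := R) (A := R1) l h, fun h => h.tower_top⟩
  let e : integralClosure R1 L →ₐ[R] integralClosure R L :=
    { toFun := fun l => ⟨l, (hmem l).mp l.2⟩
      map_one' := rfl
      map_mul' := fun _ _ => rfl
      map_zero' := rfl
      map_add' := fun _ _ => rfl
      commutes' := fun r => Subtype.ext (IsScalarTower.algebraMap_apply R R1 L r).symm }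
  have he : Function.Bijective e :=
    ⟨fun a b h => Subtype.ext (congrArg Subtype.val h :), fun l => ⟨⟨l, (hmem l).mpr l.2⟩, rfl⟩⟩
  exact ⟨Module.Finite.equiv (AlgEquiv.ofBijective e he).toLinearEquiv,
    hj2.of_ringEquiv (AlgEquiv.ofBijective e he).toRingEquiv⟩

end Groth.Agent.H05EGA4
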