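import Mathlib
import Groth.Prelude.Def_Found
import Groth.Prelude.Def_EGA4b
import Groth.Agent.H05EGA4.RadicalExtension
import Groth.Agent.H05EGA4.CohenStructure
import Groth.Agent.H05EGA4.FormalCatenary
import Groth.Agent.H24Adic.Basic
import Groth.Agent.H02CA.PowerSeries
import Groth.Agent.H1CAlg.Serre
import Groth.Agent.H24Adic.Rig
import Groth.Agent.H9Hens.Local
import Groth.Agent.H9Hens.Pair

/-!
# Noether normalisation of complete local rings; complete local rings are J-2 and Nagata (helper5)
-/

set_option autoImplicit false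
set_option maxHeartbeats 600000
set_option synthInstance.maxHeartbeats 100000
universe u
open IsLocalRing Groth.Agent

namespace Groth.Agent.H05EGA4

/-- Regular local rings are integrally closed. -/
theorem isIntegrallyClosed_of_isRegularLocalRing (A : Type u) [CommRing A] [IsRegularLocalRing A] :
    IsIntegrallyClosed A := by
  have hR : LocCoh.HasRk 1 A := fun P _ _ => isRegularLocalRing_localization A P
  have hS : LocCoh.HasSk 2 A A := fun P _ => by
    have := isRegularLocalRing_localization A P
    obtain ⟨e⟩ := H4Depth.exists_localizedModule_self_equiv (R := A) P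
    rw [H4Depth.depth_congr e, Module.supportDim_eq_of_equiv e, Module.supportDim_self_eq_ringKrullDim]
    exact (min_le_right _ _).trans (H4Depth.depth_self_eq_ringKrullDim_of_regular (Localization.AtPrime P)).ge
  obtain ⟨hd, hi⟩ := H1CAlg.isDomain_and_isIntegrallyClosed_of_R1_S2 hR hS (maximalIdeal A)
  let e := (IsLocalization.atUnits A (maximalIdeal A).primeCompl
    (S := Localization.AtPrime (maximalIdeal A)) (fun x hx => (IsLocalRing.notMem_maximalIdeal.mp hx))).toRingEquiv
  exact IsIntegrallyClosed.of_equiv e.symm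

/-- Systems of parameters. -/
theorem exists_parameters {A : Type u} [CommRing A] [IsLocalRing A] [IsNoetherianRing A] {d : ℕ}
    (hd : ringKrullDim A = d) :
    ∃ x : Fin d → A, (∀ i, x i ∈ maximalIdeal A) ∧ maximalIdeal A ≤ (Ideal.span (Set.range x)).radical := by
  classical
  have hh : (maximalIdeal A).height = d := by
    have := maximalIdeal_height_eq_ringKrullDim (R := A)
    rw [hd] at this
    exact WithBot.coe_injective this
  obtain ⟨J, hJ, hJr, hJh⟩ := exists_spanRank_le_and_le_height_of_le_height (maximalIdeal A) d hh.ge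
  have hfg : J.FG := IsNoetherian.noetherian J
  have hle : Submodule.spanFinrank J ≤ d := by
    rw [Submodule.FG.spanRank_eq_spanFinrank hfg] at hJr; exact_mod_cast hJr
  obtain ⟨s, hs, hspan⟩ := Submodule.FG.exists_span_finset_card_eq_spanFinrank hfg
  let l := s.toList
  let x : Fin d → A := fun i => l.getD i.1 0
  have hl : l.length ≤ d := by rw [Finset.length_toList, hs]; exact hle
  have hxm : ∀ i, x i ∈ J := fun i => by
    show l.getD i.1 0 ∈ J
    rcases Nat.lt_or_ge i.1 l.length with h | h
    · rw [List.getD_eq_getElem _ _ h, ← hspan]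
      exact Submodule.subset_span (Finset.mem_coe.mpr (Finset.mem_toList.mp (List.getElem_mem h)))
    · rw [List.getD_eq_default _ _ h]; exact zero_mem _
  have hxJ : Ideal.span (Set.range x) = J := by
    refine le_antisymm (Ideal.span_le.mpr (Set.range_subset_iff.mpr hxm)) ?_
    rw [← hspan]
    refine Submodule.span_mono fun a ha => ?_
    obtain ⟨k, hk, rfl⟩ := List.getElem_of_mem (Finset.mem_toList.mpr (Finset.mem_coe.mp ha))
    exact ⟨⟨k, lt_of_lt_of_le hk hl⟩, List.getD_eq_getElem _ _ hk⟩
  refine ⟨x, fun i => hJ (hxm i), ?_⟩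
  rw [hxJ, ← Ideal.sInf_minimalPrimes]
  refine le_sInf fun P hP => ?_
  have := hP.isPrime
  refine (eq_maximalIdeal (Ideal.isMaximal_of_height_eq_ringKrullDim ?_)).ge
  have h1 : (d : ℕ∞) ≤ P.height := hJh.trans (Ideal.height_mono hP.le)
  have h2 : P.height ≤ (maximalIdeal A).height := Ideal.height_mono (le_maximalIdeal (Ideal.IsPrime.ne_top ‹_›))
  rw [le_antisymm (h2.trans hh.le) h1, hd]
  rfl

/-- Finiteness descends from a quotient by a nilpotent finitely generated ideal. -/
theorem finite_of_finite_quotient_nilpotent {Λ B : Type u} [CommRing Λ] [CommRing B] [Algebra Λ B] (I : Ideal B)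
    (hI : IsNilpotent I) (hfg : I.FG) [Module.Finite Λ (B ⧸ I)] : Module.Finite Λ B := by
  classical
  obtain ⟨G, hG⟩ := Module.Finite.fg_top (R := Λ) (M := B ⧸ I)
  choose g hg using Ideal.Quotient.mk_surjective (I := I)
  let M₁ : Submodule Λ B := Submodule.span Λ ↑(G.image g)
  have hM₁ : ∀ b : B, ∃ m ∈ M₁, b - m ∈ I := by
    intro b
    have hb : Ideal.Quotient.mk I b ∈ Submodule.span Λ (G : Set (B ⧸ I)) := hG ▸ Submodule.mem_top
    have hle : Submodule.span Λ (G : Set (B ⧸ I)) ≤ M₁.map (Ideal.Quotient.mkₐ Λ I).toLinearMap := by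
      rw [Submodule.span_le]
      exact fun y hy => ⟨g y, Submodule.subset_span (Finset.mem_coe.mpr (Finset.mem_image_of_mem g hy)), hg y⟩
    obtain ⟨m, hm, hm'⟩ := hle hb
    exact ⟨m, hm, Ideal.Quotient.eq.mp hm'.symm⟩
  have key : ∀ i, ∃ M : Submodule Λ B, M.FG ∧ ∀ b : B, ∃ m ∈ M, b - m ∈ I ^ i := by
    intro i
    induction i with
    | zero => exact ⟨⊥, Submodule.fg_bot, fun b => ⟨0, zero_mem _, by simp⟩⟩
    | succ i ih =>
      obtain ⟨M, hM, hMb⟩ := ih
      obtain ⟨S, hS⟩ : (I ^ i).FG := hfg.pow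
      refine ⟨M ⊔ M₁ * Submodule.span Λ (S : Set B),
        hM.sup ((Submodule.fg_span (Finset.finite_toSet _)).mul (Submodule.fg_span (Finset.finite_toSet _))), fun b => ?_⟩
      obtain ⟨m, hm, hbm⟩ := hMb b
      have hsuff : ∀ z ∈ I ^ i, ∃ w ∈ M₁ * Submodule.span Λ (S : Set B), z - w ∈ I ^ (i + 1) := by
        intro z hz
        rw [← hS] at hz
        induction hz using Submodule.span_induction with
        | mem s hs =>
          obtain ⟨e, he, he'⟩ := hM₁ 1
          refine ⟨e * s, Submodule.mul_mem_mul he (Submodule.subset_span hs), ?_⟩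
          rw [show s - e * s = (1 - e) * s by ring, pow_succ']
          exact Ideal.mul_mem_mul he' (hS ▸ Submodule.subset_span hs)
        | zero => exact ⟨0, zero_mem _, by simp⟩
        | add a b _ _ ha hb =>
          obtain ⟨v, hv, hv'⟩ := ha
          obtain ⟨w, hw, hw'⟩ := hb
          exact ⟨v + w, add_mem hv hw, by rw [add_sub_add_comm]; exact add_mem hv' hw'⟩
        | smul c z hz _ =>
          have hlin : ∀ t ∈ Submodule.span B (S : Set B), ∀ c : B,
              ∃ w ∈ M₁ * Submodule.span Λ (S : Set B), c * t - w ∈ I ^ (i + 1) := by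
            intro t ht
            induction ht using Submodule.span_induction with
            | mem s hs =>
              intro c
              obtain ⟨e, he, he'⟩ := hM₁ c
              refine ⟨e * s, Submodule.mul_mem_mul he (Submodule.subset_span hs), ?_⟩
              rw [← sub_mul, pow_succ']
              exact Ideal.mul_mem_mul he' (hS ▸ Submodule.subset_span hs)
            | zero => exact fun c => ⟨0, zero_mem _, by simp⟩
            | add a b _ _ ha hb =>
              intro c
              obtain ⟨v, hv, hv'⟩ := ha c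
              obtain ⟨w, hw, hw'⟩ := hb c
              exact ⟨v + w, add_mem hv hw, by rw [mul_add, add_sub_add_comm]; exact add_mem hv' hw'⟩
            | smul d t _ iht => intro c; rw [smul_eq_mul, ← mul_assoc]; exact iht (c * d)
          exact hlin z hz c
      obtain ⟨w, hw, hw'⟩ := hsuff _ hbm
      exact ⟨m + w, Submodule.add_mem_sup hm hw, by rwa [← sub_sub]⟩
  obtain ⟨n, hn⟩ := hI
  obtain ⟨M, hM, hMb⟩ := key n
  refine Module.Finite.of_fg_top ?_
  rwa [show (⊤ : Submodule Λ B) = M from eq_comm.mp (eq_top_iff.mpr fun b _ => by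
    obtain ⟨m, hm, h⟩ := hMb b
    rw [hn] at h
    rwa [sub_eq_zero.mp h])]

theorem isHausdorff_of_pow_smul_le {R A : Type u} [CommRing R] [CommRing A] [Algebra R A] (I : Ideal R) (m : Ideal A)
    [IsHausdorff m A] (h : I.map (algebraMap R A) ≤ m) : IsHausdorff I A := by
  refine ⟨fun x hx => IsHausdorff.haus (I := m) inferInstance x fun n => ?_⟩
  have h1 := hx n
  rw [SModEq.sub_mem, sub_zero] at h1 ⊢
  rw [smul_eq_mul, Ideal.mul_top]
  rw [Ideal.smul_top_eq_map, Submodule.restrictScalars_mem, Ideal.map_pow] at h1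
  exact Ideal.pow_right_mono h n h1

/-- The shape of the coefficient rings. -/
theorem coefficientRing_spec {Λ : Type u} [CommRing Λ] (h : IsField Λ ∨ CAlg.IsCohenRing Λ) :
    IsLocalRing Λ ∧ IsDomain Λ ∧ IsNoetherianRing Λ ∧ (∀ [IsLocalRing Λ], IsAdicComplete (maximalIdeal Λ) Λ) := by
  rcases h with h | ⟨hd, hv, hc, -⟩
  · letI := h.toField
    refine ⟨inferInstance, inferInstance, inferInstance, ?_⟩
    intro _
    rw [(IsLocalRing.isField_iff_maximalIdeal_eq.mp h : maximalIdeal Λ = ⊥)]
    infer_instance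
  · exact ⟨inferInstance, hd, inferInstance, fun {_} => hc⟩

/-- `e = dim Λ` for a coefficient ring. -/
theorem exists_generators_coefficientRing {Λ : Type u} [CommRing Λ] [IsLocalRing Λ]
    (h : IsField Λ ∨ CAlg.IsCohenRing Λ) : ∃ (e : ℕ) (c : Fin e → Λ), Ideal.span (Set.range c) = maximalIdeal Λ ∧
      e ≤ 1 ∧ (e = 0 ↔ IsField Λ) := by
  by_cases hF : IsField Λ
  · refine ⟨0, Fin.elim0, ?_, Nat.zero_le _, iff_of_true rfl hF⟩
    rw [IsLocalRing.isField_iff_maximalIdeal_eq.mp hF, Set.range_eq_empty, Ideal.span_empty]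
  · obtain ⟨_, _, -, p, -, hmax⟩ := h.resolve_left hF
    exact ⟨1, fun _ => (p : Λ), by rw [Set.range_const]; exact hmax.symm, le_rfl,
      iff_of_false one_ne_zero hF⟩

/-- Noether normalisation for complete local domains over a given coefficient ring. -/
theorem exists_finite_injective_mvPowerSeries {Λ A : Type u} [CommRing Λ] [IsLocalRing Λ]
    (hΛ : IsField Λ ∨ CAlg.IsCohenRing Λ) [CommRing A] [IsDomain A] [IsLocalRing A] [IsNoetherianRing A]
    [IsAdicComplete (maximalIdeal A) A] [Algebra Λ A] [IsLocalHom (algebraMap Λ A)]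
    (hfin : Module.Finite Λ (ResidueField A)) (hinj : Function.Injective (algebraMap Λ A)) :
    ∃ (n : ℕ) (ψ : MvPowerSeries (Fin n) Λ →ₐ[Λ] A), Function.Injective ψ ∧ ψ.toRingHom.Finite ∧
      IsLocalHom ψ.toRingHom := by
  classical
  obtain ⟨-, _, _, hcΛ⟩ := coefficientRing_spec hΛ
  have := hcΛ
  obtain ⟨e, c, hc, he1, he0⟩ := exists_generators_coefficientRing hΛ
  set J₀ := (maximalIdeal Λ).map (algebraMap Λ A) with hJ₀def
  have hJ₀ : J₀ ≠ ⊤ := ne_top_of_le_ne_top (maximalIdeal.isMaximal A).ne_top (map_maximalIdeal_le _)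
  have : Nontrivial (A ⧸ J₀) := Ideal.Quotient.nontrivial_iff.mpr hJ₀
  have : IsLocalRing (A ⧸ J₀) := .of_surjective' _ Ideal.Quotient.mk_surjective
  obtain ⟨d, hd⟩ := exists_dim_eq_nat (A ⧸ J₀)
  have : IsDomain (MvPowerSeries (Fin d) Λ) := NoZeroDivisors.to_isDomain _
  obtain ⟨xb, hxb, hrad⟩ := exists_parameters hd
  choose x hx using fun i => Ideal.Quotient.mk_surjective (xb i)
  have hxm : ∀ i, x i ∈ maximalIdeal A := fun i h => hxb i (hx i ▸ h.map _)
  obtain ⟨ψ, hψ⟩ := H02CA.PS.exists_algHom (R := Λ) (σ := Fin d) (maximalIdeal A) x hxm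
  -- finiteness
  letI : Algebra (MvPowerSeries (Fin d) Λ) A := ψ.toRingHom.toAlgebra
  have : IsScalarTower Λ (MvPowerSeries (Fin d) Λ) A := IsScalarTower.of_algebraMap_eq fun l => (ψ.commutes l).symm
  let V : Ideal (MvPowerSeries (Fin d) Λ) := Ideal.span (Set.range MvPowerSeries.X)
  have hV : V.map (algebraMap (MvPowerSeries (Fin d) Λ) A) = Ideal.span (Set.range x) := by
    rw [Ideal.map_span, ← Set.range_comp]
    exact congrArg (fun f => Ideal.span (Set.range f)) (funext hψ)
  have hVm : V.map (algebraMap (MvPowerSeries (Fin d) Λ) A) ≤ maximalIdeal A := by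
    rw [hV, Ideal.span_le]; exact Set.range_subset_iff.mpr hxm
  set I := Ideal.span (Set.range x) with hIdef
  have hIm : I ≤ maximalIdeal A := Ideal.span_le.mpr (Set.range_subset_iff.mpr hxm)
  have hradA : maximalIdeal A ≤ (I ⊔ J₀).radical := by
    intro z hz
    have h1 : Ideal.Quotient.mk J₀ z ∈ maximalIdeal (A ⧸ J₀) := by
      rw [← IsLocalRing.map_maximalIdeal_of_surjective _ (Ideal.Quotient.mk_surjective (I := J₀))]
      exact Ideal.mem_map_of_mem _ hz
    obtain ⟨k, hk⟩ := hrad h1
    refine ⟨k, ?_⟩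
    have h2 : Ideal.span (Set.range xb) = I.map (Ideal.Quotient.mk J₀) := by
      rw [hIdef, Ideal.map_span, ← Set.range_comp]
      exact congrArg (fun f => Ideal.span (Set.range f)) (funext fun i => (hx i).symm)
    rw [h2, ← map_pow, ← Ideal.mem_comap, Ideal.comap_map_of_surjective' _ Ideal.Quotient.mk_surjective,
      Ideal.mk_ker] at hk
    exact hk
  obtain ⟨k, hk⟩ := Ideal.exists_pow_le_of_le_radical_of_fg hradA (IsNoetherian.noetherian _)
  -- `A / (x, J₀)` is finite over `Λ`
  let B := A ⧸ (I ⊔ J₀)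
  have hmB : IsNilpotent ((maximalIdeal A).map (Ideal.Quotient.mk (I ⊔ J₀))) := ⟨k, by
    rw [← Ideal.map_pow]; exact (Ideal.map_eq_bot_iff_le_ker _).mpr (by rwa [Ideal.mk_ker])⟩
  have hfinB : Module.Finite Λ B := by
    have hle : I ⊔ J₀ ≤ maximalIdeal A := sup_le hIm (map_maximalIdeal_le _)
    have : Module.Finite Λ (A ⧸ maximalIdeal A) := hfin
    have : Module.Finite Λ (B ⧸ (maximalIdeal A).map (Ideal.Quotient.mk (I ⊔ J₀))) :=
      Module.Finite.equiv (((DoubleQuot.quotQuotEquivQuotSupₐ Λ (I ⊔ J₀) (maximalIdeal A)).trans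
        (Ideal.quotientEquivAlgOfEq Λ (sup_eq_right.mpr hle))).symm.toLinearEquiv :
          ResidueField A ≃ₗ[Λ] _)
    exact finite_of_finite_quotient_nilpotent _ hmB (IsNoetherian.noetherian _)
  -- `A / I` is finite over `Λ`
  have hfinI : Module.Finite Λ (A ⧸ I) := by
    have : Nontrivial (A ⧸ I) := Ideal.Quotient.nontrivial_iff.mpr (ne_top_of_le_ne_top (maximalIdeal.isMaximal A).ne_top hIm)
    have : IsLocalRing (A ⧸ I) := .of_surjective' _ Ideal.Quotient.mk_surjective
    have : IsHausdorff (maximalIdeal (A ⧸ I)) (A ⧸ I) := IsHausdorff.of_isLocalRing _ _ (maximalIdeal.isMaximal _).ne_top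
    have hmap : (maximalIdeal Λ).map (algebraMap Λ (A ⧸ I)) = J₀.map (Ideal.Quotient.mk I) := by
      rw [Ideal.map_map]; rfl
    have : IsHausdorff (maximalIdeal Λ) (A ⧸ I) := isHausdorff_of_pow_smul_le _ (maximalIdeal (A ⧸ I)) (by
      rw [hmap, ← IsLocalRing.map_maximalIdeal_of_surjective _ (Ideal.Quotient.mk_surjective (I := I))]
      exact Ideal.map_mono (map_maximalIdeal_le _))
    have : Module.Finite Λ ((A ⧸ I) ⧸ (maximalIdeal Λ • ⊤ : Submodule Λ (A ⧸ I))) := by
      let e₁ := (DoubleQuot.quotQuotEquivQuotSupₐ Λ I J₀).toLinearEquiv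
      have hfinQ : Module.Finite Λ ((A ⧸ I) ⧸ J₀.map (Ideal.Quotient.mk I)) := Module.Finite.equiv e₁.symm
      let e₂ : ((A ⧸ I) ⧸ (maximalIdeal Λ • ⊤ : Submodule Λ (A ⧸ I))) ≃ₗ[Λ] ((A ⧸ I) ⧸ J₀.map (Ideal.Quotient.mk I)) :=
        (Submodule.quotEquivOfEq _ _ (by rw [Ideal.smul_top_eq_map, hmap])).trans
          (Submodule.Quotient.restrictScalarsEquiv Λ (J₀.map (Ideal.Quotient.mk I)))
      exact Module.Finite.equiv e₂.symm
    exact H24Adic.finite_of_finite_quotient (I := maximalIdeal Λ)
  have hfinR : Module.Finite (MvPowerSeries (Fin d) Λ) A := by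
    have : IsHausdorff V A := isHausdorff_of_pow_smul_le V (maximalIdeal A) hVm
    have : IsAdicComplete V (MvPowerSeries (Fin d) Λ) := inferInstance
    have hfinQ : Module.Finite (MvPowerSeries (Fin d) Λ) (A ⧸ I) := Module.Finite.of_restrictScalars_finite Λ _ _
    have : Module.Finite (MvPowerSeries (Fin d) Λ) (A ⧸ (V • ⊤ : Submodule (MvPowerSeries (Fin d) Λ) A)) :=
      Module.Finite.equiv ((Submodule.quotEquivOfEq _ _ (by rw [Ideal.smul_top_eq_map, hV])).trans
        (Submodule.Quotient.restrictScalarsEquiv (MvPowerSeries (Fin d) Λ) I) :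
          (A ⧸ (V • ⊤ : Submodule (MvPowerSeries (Fin d) Λ) A)) ≃ₗ[MvPowerSeries (Fin d) Λ] A ⧸ I).symm
    exact H24Adic.finite_of_finite_quotient (I := V)
  -- injectivity by dimension
  have hreg : IsRegularRing (MvPowerSeries (Fin d) Λ) :=
    @S5784.result Λ _ (isRegularRing_of_isField_or_isCohenRing hΛ) d
  have : IsRegularLocalRing (MvPowerSeries (Fin d) Λ) := IsRegularLocalRing.of_isRegularRing_of_isLocalRing _
  have hmax : maximalIdeal (MvPowerSeries (Fin d) Λ) =
      Ideal.span (Set.range (Sum.elim (fun i => MvPowerSeries.C (σ := Fin d) (c i)) MvPowerSeries.X)) := by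
    refine le_antisymm (fun f hf => ?_) (Ideal.span_le.mpr ?_)
    · have hf0 : MvPowerSeries.constantCoeff f ∈ maximalIdeal Λ := fun hu => hf (MvPowerSeries.isUnit_iff_constantCoeff.mpr hu)
      rw [Set.Sum.elim_range, Ideal.span_union]
      rw [← sub_add_cancel f (MvPowerSeries.C (MvPowerSeries.constantCoeff f)), add_comm]
      refine Submodule.add_mem_sup ?_ (H02CA.PS.mem_vars_iff.mpr (by simp))
      rw [← hc] at hf0
      have := Ideal.mem_map_of_mem (MvPowerSeries.C (σ := Fin d)) hf0
      rwa [Ideal.map_span, ← Set.range_comp] at this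
    · rintro _ ⟨i | i, rfl⟩
      · show MvPowerSeries.C (c i) ∈ maximalIdeal _
        refine fun hu => (show c i ∈ maximalIdeal Λ from hc ▸ Ideal.subset_span ⟨i, rfl⟩) ?_
        simpa using MvPowerSeries.isUnit_iff_constantCoeff.mp hu
      · show MvPowerSeries.X i ∈ maximalIdeal _
        refine fun hu => ?_
        have := MvPowerSeries.isUnit_iff_constantCoeff.mp hu
        simp at this
  have hdimR : ringKrullDim (MvPowerSeries (Fin d) Λ) ≤ ((d + e : ℕ) : WithBot ℕ∞) := by
    refine (ringKrullDim_le_spanFinrank_maximalIdeal _).trans ?_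
    rw [hmax]
    refine Nat.cast_le.mpr ((Submodule.spanFinrank_span_le_ncard_of_finite (Set.finite_range _)).trans ?_)
    rw [← Set.image_univ]
    exact (Set.ncard_image_le Set.finite_univ).trans (by simp [Set.ncard_univ, add_comm])
  have hdimA : ringKrullDim A = ((d + e : ℕ) : WithBot ℕ∞) := by
    rcases Nat.eq_zero_or_pos e with rfl | hpos
    · have hb : J₀ = ⊥ := by rw [hJ₀def, IsLocalRing.isField_iff_maximalIdeal_eq.mp (he0.mp rfl), Ideal.map_bot]
      rw [add_zero, ← hd]
      exact (ringKrullDim_eq_of_ringEquiv ((Ideal.quotEquivOfEq hb).trans (RingEquiv.quotientBot A))).symm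
    · obtain rfl : e = 1 := le_antisymm he1 hpos
      have hJ : J₀ = Ideal.span {algebraMap Λ A (c 0)} := by
        rw [hJ₀def, ← hc, Ideal.map_span, ← Set.range_comp, Set.range_unique]; rfl
      have hne : algebraMap Λ A (c 0) ≠ 0 := by
        intro h0
        refine one_ne_zero (α := ℕ) (he0.mpr (IsLocalRing.isField_iff_maximalIdeal_eq.mpr ?_))
        rw [← hc, Set.range_unique, Ideal.span_singleton_eq_bot]
        exact hinj (by rw [map_zero]; exact h0)
      have hmem : algebraMap Λ A (c 0) ∈ maximalIdeal A :=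
        map_nonunit _ _ (hc ▸ Ideal.subset_span ⟨0, rfl⟩)
      rw [← ringKrullDim_quotient_span_singleton_succ_eq_ringKrullDim_of_mem_nonZeroDivisors
        (mem_nonZeroDivisors_of_ne_zero hne) hmem, ← hJ, hd]
      push_cast; rfl
  refine ⟨d, ψ, ?_, hfinR, ?_⟩
  · rw [← AlgHom.coe_toRingHom, RingHom.injective_iff_ker_eq_bot]
    by_contra hne
    set P := RingHom.ker (ψ : MvPowerSeries (Fin d) Λ →+* A)
    have : P.IsPrime := RingHom.ker_isPrime _
    have hintA : ringKrullDim A = ringKrullDim (MvPowerSeries (Fin d) Λ ⧸ P) := by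
      letI : Algebra (MvPowerSeries (Fin d) Λ ⧸ P) A := (RingHom.kerLift (ψ : MvPowerSeries (Fin d) Λ →+* A)).toAlgebra
      have : IsScalarTower (MvPowerSeries (Fin d) Λ) (MvPowerSeries (Fin d) Λ ⧸ P) A :=
        IsScalarTower.of_algebraMap_eq' (R := MvPowerSeries (Fin d) Λ) (S := MvPowerSeries (Fin d) Λ ⧸ P) (A := A) rfl
      have : Module.Finite (MvPowerSeries (Fin d) Λ ⧸ P) A := Module.Finite.of_restrictScalars_finite (MvPowerSeries (Fin d) Λ) _ _
      have : Algebra.IsIntegral (MvPowerSeries (Fin d) Λ ⧸ P) A := Algebra.IsIntegral.of_finite _ _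
      exact (dim_int _ A).2 (RingHom.kerLift_injective _)
    have h1 := height_add_dim_quotient_le P
    rw [← hintA, hdimA] at h1
    have h2 := h1.trans hdimR
    obtain ⟨hP, hhP⟩ := exists_nat_height_eq P
    have h3 : (1 : ℕ∞) ≤ P.height := by
      rw [Order.one_le_iff_pos, pos_iff_ne_zero, Ne, Ideal.height_eq_zero_iff_eq_bot]
      exact hne
    rw [hhP] at h2 h3
    norm_cast at h2 h3
    omega
  · refine ((IsLocalRing.local_hom_TFAE ψ.toRingHom).out 0 2).mpr ?_
    rw [hmax, Ideal.map_span, Ideal.span_le]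
    rintro _ ⟨_, ⟨i | i, rfl⟩, rfl⟩
    · show ψ (MvPowerSeries.C (c i)) ∈ maximalIdeal A
      rw [show MvPowerSeries.C (c i) = algebraMap Λ (MvPowerSeries (Fin d) Λ) (c i) from rfl, AlgHom.commutes]
      exact map_nonunit _ _ (hc ▸ Ideal.subset_span ⟨i, rfl⟩)
    · show ψ (MvPowerSeries.X i) ∈ maximalIdeal A
      rw [hψ]; exact hxm i

/-- Cohen: a complete local domain is finite over a formal power series ring over a coefficient ring. -/
theorem exists_coefficientRing_of_domain (A : Type u) [CommRing A] [IsDomain A] [IsLocalRing A] [IsNoetherianRing A]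
    [IsAdicComplete (maximalIdeal A) A] :
    ∃ (Λ : Type u) (_ : CommRing Λ) (n : ℕ) (f : MvPowerSeries (Fin n) Λ →+* A),
      ((IsField Λ ∧ CharP Λ (ringChar A)) ∨ (CAlg.IsCohenRing Λ ∧ CharZero Λ)) ∧ Function.Injective f ∧ f.Finite ∧
      Function.Surjective ((residue A).comp f) := by
  suffices h : ∃ (Λ : Type u) (_ : CommRing Λ) (_ : IsLocalRing Λ) (v : Λ →+* A),
      ((IsField Λ ∧ CharP Λ (ringChar A)) ∨ (CAlg.IsCohenRing Λ ∧ CharZero Λ)) ∧ Function.Injective v ∧ IsLocalHom v ∧
      Function.Surjective ((residue A).comp v) by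
    obtain ⟨Λ, _, _, v, hΛ, hinj, hloc, hsur⟩ := h
    letI := v.toAlgebra
    have : IsLocalHom (algebraMap Λ A) := hloc
    have hfin : Module.Finite Λ (ResidueField A) :=
      Module.Finite.of_surjective (Algebra.linearMap Λ (ResidueField A)) hsur
    obtain ⟨n, ψ, hψi, hψf, -⟩ := exists_finite_injective_mvPowerSeries (hΛ.imp And.left And.left) hfin hinj
    refine ⟨Λ, inferInstance, n, ψ.toRingHom, hΛ, hψi, hψf, fun z => ?_⟩
    obtain ⟨l, hl⟩ := hsur z
    refine ⟨algebraMap Λ _ l, ?_⟩
    show residue A (ψ (algebraMap Λ _ l)) = z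
    rw [AlgHom.commutes]; exact hl
  obtain h0 | ⟨p, hp, hpk⟩ := CharP.exists' (ResidueField A)
  · obtain ⟨s, hs⟩ := exists_coefficientField_of_charZero A
    refine ⟨ResidueField A, inferInstance, inferInstance, s, Or.inl ⟨Field.toIsField _, ?_⟩, s.injective, inferInstance,
      fun z => ⟨z, RingHom.congr_fun hs z⟩⟩
    have : CharZero (ResidueField A) := CharP.charP_to_charZero _
    have : CharZero A := charZero_of_injective_ringHom s.injective
    rw [ringChar.eq_zero]
    infer_instance
  · have hpA : (p : A) ∈ maximalIdeal A := by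
      rw [← residue_eq_zero_iff, map_natCast]; exact CharP.cast_eq_zero _ p
    by_cases hp0 : (p : A) = 0
    · have : CharP A p := (CharP.charP_iff_prime_eq_zero hp.out).mpr hp0
      letI : Algebra (ULift.{u} (ZMod p)) A :=
        ((ZMod.castHom (dvd_refl p) A).comp ULift.ringEquiv.toRingHom).toAlgebra
      have : Finite (ULift.{u} (ZMod p)) := Finite.of_equiv (ZMod p) Equiv.ulift.symm
      have : PerfectField (ULift.{u} (ZMod p)) := PerfectField.ofFinite
      have := formallySmooth_of_perfectField (ULift.{u} (ZMod p)) (ResidueField A)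
      obtain ⟨σ, hσ⟩ := exists_coefficientField (k := ULift.{u} (ZMod p)) (A := A)
      refine ⟨ResidueField A, inferInstance, inferInstance, σ.toRingHom, Or.inl ⟨Field.toIsField _, ?_⟩,
        σ.toRingHom.injective, inferInstance, fun z => ⟨z, hσ z⟩⟩
      rw [ringChar.eq A p]
      infer_instance
    · obtain ⟨W, _, _, hW, hmax, ⟨e⟩⟩ := exists_isCohenRing p (ResidueField A)
      obtain ⟨v, hv⟩ := exists_lift_cohenRing_adicComplete hW p (hmax ▸ (maximalIdeal.isMaximal W).ne_top) hpA
        (maximalIdeal A) le_rfl (e.toRingHom.comp (residue W))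
      have hres : ∀ x, residue A (v x) = e (residue W x) := fun x => by
        obtain ⟨c, hc⟩ := Ideal.Quotient.mk_surjective (e (residue W x))
        have := hv x c hc.symm 1
        rw [pow_one, sup_idem] at this
        exact (Ideal.Quotient.eq.mpr this).trans hc
      have hinj : Function.Injective v := by
        obtain ⟨_, _, -⟩ := id hW
        refine (injective_iff_map_eq_zero v).mpr fun x hx => ?_
        by_contra hx0
        obtain ⟨n, u, hu⟩ := IsDiscreteValuationRing.eq_unit_mul_pow_irreducible hx0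
          ((IsDiscreteValuationRing.irreducible_iff_uniformizer (p : W)).mpr hmax)
        rw [hu, map_mul, map_pow, map_natCast] at hx
        exact pow_ne_zero n hp0 ((u.isUnit.map v).mul_right_eq_zero.mp hx)
      have hW0 : CharZero W := by
        have hA0 : CharZero A := by
          obtain ⟨c, hc⟩ := CharP.exists A
          rcases CharP.char_is_prime_or_zero A c with hcp | rfl
          · exfalso
            have hck : ((c : ℕ) : ResidueField A) = 0 := by
              rw [← map_natCast (residue A), CharP.cast_eq_zero, map_zero]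
            have hpc : p = c := (Nat.prime_dvd_prime_iff_eq hp.out hcp).mp ((CharP.cast_eq_zero_iff (ResidueField A) p c).mp hck)
            exact hp0 (hpc ▸ CharP.cast_eq_zero A c)
          · exact CharP.charP_to_charZero A
        exact ⟨fun a b hab => Nat.cast_injective (R := A) (by rw [← map_natCast v, hab, map_natCast])⟩
      refine ⟨W, inferInstance, inferInstance, v, Or.inr ⟨hW, hW0⟩, hinj, ⟨fun x hx => ?_⟩, fun z => ?_⟩
      · by_contra h
        refine (hx.map (residue A)).ne_zero ?_
        rw [hres, (residue_eq_zero_iff x).mpr h, map_zero]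
      · obtain ⟨l, hl⟩ := residue_surjective (e.symm z)
        exact ⟨l, by rw [RingHom.comp_apply, hres, hl, RingEquiv.apply_symm_apply]⟩

/-- Complete local domains: finite integral closures and J-0 in finite field extensions. -/
theorem finite_and_isJ0_of_complete_domain (A : Type u) [CommRing A] [IsDomain A] [IsLocalRing A] [IsNoetherianRing A]
    [IsAdicComplete (maximalIdeal A) A] (L : Type u) [Field L] [Algebra A L] [FaithfulSMul A L]
    (hL : ∀ (K : Type u) [Field K] [Algebra A K] [IsFractionRing A K] [Algebra K L] [IsScalarTower A K L],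
      FiniteDimensional K L) :
    Module.Finite A (integralClosure A L) ∧ IsJ0 A := by
  obtain ⟨Λ, _, n, f, hΛ, hinj, hfin, -⟩ := exists_coefficientRing_of_domain A
  obtain ⟨_, _, _, -⟩ := coefficientRing_spec (hΛ.imp And.left And.left)
  have : IsDomain (MvPowerSeries (Fin n) Λ) := NoZeroDivisors.to_isDomain _
  have hreg : IsRegularRing (MvPowerSeries (Fin n) Λ) :=
    @S5784.result Λ _ (isRegularRing_of_isField_or_isCohenRing (hΛ.imp And.left And.left)) n
  have : IsRegularLocalRing (MvPowerSeries (Fin n) Λ) := IsRegularLocalRing.of_isRegularRing_of_isLocalRing _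
  have : IsIntegrallyClosed (MvPowerSeries (Fin n) Λ) := isIntegrallyClosed_of_isRegularLocalRing _
  have hJR : IsJ0 (MvPowerSeries (Fin n) Λ) :=
    ⟨Set.univ, isOpen_univ, ⟨⟨⊥, Ideal.isPrime_bot⟩, trivial⟩, fun P _ => (mem_regLocus_iff P).mpr (isRegularRing_iff.mp hreg _)⟩
  letI : Algebra (MvPowerSeries (Fin n) Λ) A := f.toAlgebra
  have : Module.Finite (MvPowerSeries (Fin n) Λ) A := hfin
  have : FaithfulSMul (MvPowerSeries (Fin n) Λ) A := (faithfulSMul_iff_algebraMap_injective _ _).mpr hinj
  letI : Algebra (MvPowerSeries (Fin n) Λ) L := ((algebraMap A L).comp f).toAlgebra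
  have : IsScalarTower (MvPowerSeries (Fin n) Λ) A L := IsScalarTower.of_algebraMap_eq fun _ => rfl
  have hinjAL : Function.Injective (algebraMap A L) := FaithfulSMul.algebraMap_injective A L
  let K₀ := FractionRing (MvPowerSeries (Fin n) Λ)
  let K₁ := FractionRing A
  letI : Algebra K₁ L := (IsFractionRing.lift hinjAL).toAlgebra
  have : IsScalarTower A K₁ L := IsScalarTower.of_algebraMap_eq fun a => (IsFractionRing.lift_algebraMap hinjAL a).symm
  have : FiniteDimensional K₁ L := hL K₁
  have : FaithfulSMul (MvPowerSeries (Fin n) Λ) K₁ := by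
    refine (faithfulSMul_iff_algebraMap_injective _ _).mpr ?_
    rw [IsScalarTower.algebraMap_eq (MvPowerSeries (Fin n) Λ) A K₁]
    exact (IsFractionRing.injective A K₁).comp hinj
  letI : Algebra K₀ K₁ := FractionRing.liftAlgebra _ _
  have : IsScalarTower (MvPowerSeries (Fin n) Λ) K₀ K₁ := inferInstance
  have hint : Algebra.IsIntegral (MvPowerSeries (Fin n) Λ) A := Algebra.IsIntegral.of_finite _ _
  have hfin01 : FiniteDimensional K₀ K₁ := by
    have : Algebra.IsAlgebraic (MvPowerSeries (Fin n) Λ) A := inferInstance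
    have hloc : IsLocalization (Algebra.algebraMapSubmonoid A (nonZeroDivisors (MvPowerSeries (Fin n) Λ))) K₁ :=
      inferInstance
    exact Module.Finite.of_isLocalizedModule (nonZeroDivisors (MvPowerSeries (Fin n) Λ))
      (IsScalarTower.toAlgHom (MvPowerSeries (Fin n) Λ) A K₁).toLinearMap
  letI : Algebra K₀ L := ((algebraMap K₁ L).comp (algebraMap K₀ K₁)).toAlgebra
  have : IsScalarTower K₀ K₁ L := IsScalarTower.of_algebraMap_eq fun _ => rfl
  have : IsScalarTower (MvPowerSeries (Fin n) Λ) K₀ L := IsScalarTower.of_algebraMap_eq fun r => by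
    rw [IsScalarTower.algebraMap_apply K₀ K₁ L, ← IsScalarTower.algebraMap_apply (MvPowerSeries (Fin n) Λ) K₀ K₁,
      IsScalarTower.algebraMap_apply (MvPowerSeries (Fin n) Λ) A K₁, ← IsScalarTower.algebraMap_apply A K₁ L]
    rfl
  have : FiniteDimensional K₀ L := Module.Finite.trans K₁ L
  have main : Module.Finite (MvPowerSeries (Fin n) Λ) (integralClosure (MvPowerSeries (Fin n) Λ) L) ∧
      IsJ0 (integralClosure (MvPowerSeries (Fin n) Λ) L) := by
    have hcase : CharZero K₀ ∨ ∃ p : ℕ, p.Prime ∧ IsField Λ ∧ CharP Λ p := by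
      have hC : Function.Injective ((algebraMap (MvPowerSeries (Fin n) Λ) K₀).comp MvPowerSeries.C) :=
        (IsFractionRing.injective (MvPowerSeries (Fin n) Λ) K₀).comp MvPowerSeries.C_injective
      rcases hΛ with ⟨hF, hc⟩ | ⟨-, h0⟩
      · rcases CharP.char_is_prime_or_zero A (ringChar A) with hp | h0
        · exact Or.inr ⟨_, hp, hF, hc⟩
        · have : CharP Λ 0 := h0 ▸ hc
          have : CharZero Λ := CharP.charP_to_charZero Λ
          exact Or.inl (charZero_of_injective_ringHom hC)
      · exact Or.inl (charZero_of_injective_ringHom hC)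
    rcases hcase with h0 | ⟨p, hp, hF, hc⟩
    · have : Algebra.IsSeparable K₀ L := Algebra.IsSeparable.of_integral K₀ L
      exact ⟨finite_integralClosure_of_separable (K := K₀), isJ0_integralClosure_of_separable (K := K₀) hJR⟩
    · have : Fact p.Prime := ⟨hp⟩
      letI := hF.toField
      have hfull : IsFull (MvPowerSeries (Fin n) Λ) K₀ p := by
        let e : MvPowerSeries (ULift.{u} (Fin n)) Λ ≃+* MvPowerSeries (Fin n) Λ :=
          (MvPowerSeries.renameEquiv (R := Λ) Equiv.ulift).toRingEquiv
        letI : Algebra (MvPowerSeries (ULift.{u} (Fin n)) Λ) K₀ :=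
          ((algebraMap (MvPowerSeries (Fin n) Λ) K₀).comp e.toRingHom).toAlgebra
        have : IsFractionRing (MvPowerSeries (ULift.{u} (Fin n)) Λ) K₀ :=
          IsFractionRing.of_ringEquiv_left e (fun _ => rfl)
        intro c hc'
        refine isFull_mvPowerSeries (σ := ULift.{u} (Fin n)) (k := Λ) p K₀ c fun D hD => hc' D ?_
        obtain ⟨s, hs, hsD⟩ := hD
        refine ⟨e s, hs, fun r => ?_⟩
        obtain ⟨r', hr'⟩ := hsD (e.symm r)
        refine ⟨e r', hr'.trans ?_⟩
        show algebraMap _ K₀ (e s) * D (algebraMap _ K₀ (e (e.symm r))) = _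
        rw [e.apply_symm_apply]
      have : CharP K₀ p := charP_of_injective_ringHom
        (f := (algebraMap (MvPowerSeries (Fin n) Λ) K₀).comp MvPowerSeries.C) (RingHom.injective _) p
      exact finite_and_isJ0_of_isGoodBase p (MvPowerSeries (Fin n) Λ) K₀ L ⟨inferInstance, inferInstance, hJR, hfull⟩
  have hmem : ∀ l : L, l ∈ integralClosure A L ↔ l ∈ integralClosure (MvPowerSeries (Fin n) Λ) L :=
    fun l => ⟨fun h => isIntegral_trans (A := A) l h, fun h => h.tower_top⟩
  let e : integralClosure (MvPowerSeries (Fin n) Λ) L →ₗ[MvPowerSeries (Fin n) Λ] integralClosure A L :=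
    { toFun := fun l => ⟨l, (hmem l).mpr l.2⟩
      map_add' := fun _ _ => rfl
      map_smul' := fun r l => Subtype.ext rfl }
  have : Module.Finite (MvPowerSeries (Fin n) Λ) (integralClosure (MvPowerSeries (Fin n) Λ) L) := main.1
  have : Module.Finite (MvPowerSeries (Fin n) Λ) (integralClosure A L) :=
    Module.Finite.of_surjective e fun l => ⟨⟨l, (hmem l).mp l.2⟩, rfl⟩
  refine ⟨Module.Finite.of_restrictScalars_finite (MvPowerSeries (Fin n) Λ) A _, ?_⟩
  have hAle : ∀ a : A, algebraMap A L a ∈ integralClosure (MvPowerSeries (Fin n) Λ) L :=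
    fun a => (hint.isIntegral a).map (IsScalarTower.toAlgHom (MvPowerSeries (Fin n) Λ) A L)
  letI : Algebra A (integralClosure (MvPowerSeries (Fin n) Λ) L) :=
    ((algebraMap A L).codRestrict (integralClosure (MvPowerSeries (Fin n) Λ) L).toSubring hAle).toAlgebra
  have : IsScalarTower (MvPowerSeries (Fin n) Λ) A (integralClosure (MvPowerSeries (Fin n) Λ) L) :=
    IsScalarTower.of_algebraMap_eq fun r => Subtype.ext rfl
  have : Module.Finite A (integralClosure (MvPowerSeries (Fin n) Λ) L) :=
    Module.Finite.of_restrictScalars_finite (MvPowerSeries (Fin n) Λ) A _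
  exact S9255.result A (integralClosure (MvPowerSeries (Fin n) Λ) L)
    (fun a b h => hinjAL (congrArg Subtype.val h)) main.2

theorem map_le_maximalIdeal_of_finite {A A' : Type u} [CommRing A] [IsLocalRing A] [CommRing A'] [IsLocalRing A']
    [Algebra A A'] [Module.Finite A A'] : (maximalIdeal A).map (algebraMap A A') ≤ maximalIdeal A' :=
  (H9Hens.map_le_jacobson_of_isIntegral (H9Hens.maximalIdeal_le_jac A)).trans
    (sInf_le ⟨bot_le, maximalIdeal.isMaximal A'⟩)

theorem isAdicComplete_of_finite_domain {A A' : Type u} [CommRing A] [IsLocalRing A] [IsNoetherianRing A]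
    [IsAdicComplete (maximalIdeal A) A] [CommRing A'] [IsDomain A'] [Algebra A A'] [Module.Finite A A'] :
    ∃ _ : IsLocalRing A', IsAdicComplete (maximalIdeal A') A' := by
  classical
  have : IsNoetherianRing A' := IsNoetherianRing.of_finite A A'
  set L := (maximalIdeal A).map (algebraMap A A') with hLdef
  have hc : IsAdicComplete L A' :=
    (IsAdicComplete.map_algebraMap_iff (maximalIdeal A) A' (S := A')).mpr (H24Adic.isAdicComplete_of_finite _)
  have hidem : ∀ n n' : MaximalSpectrum A', n' = n := by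
    intro n n'
    obtain ⟨e, he, hen, hen'⟩ := H9Hens.exists_idem_isolating (R := A)
      (fun b hb => H9Hens.exists_idem_lift (I := maximalIdeal A) b hb) n
    by_contra hne
    rcases IsIdempotentElem.iff_eq_zero_or_one.mp he with rfl | rfl
    · exact hen (zero_mem _)
    · exact n'.isMaximal.ne_top ((Ideal.eq_top_iff_one _).mpr (hen' n' hne))
  obtain ⟨M, hM⟩ := Ideal.exists_maximal A'
  have hloc : IsLocalRing A' := IsLocalRing.of_unique_max_ideal
    ⟨M, hM, fun M' hM' => congrArg MaximalSpectrum.asIdeal (hidem ⟨M, hM⟩ ⟨M', hM'⟩)⟩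
  refine ⟨hloc, ?_⟩
  have hrad : maximalIdeal A' ≤ L.radical := by
    rw [← Ideal.sInf_minimalPrimes]
    refine le_sInf fun P hP => ?_
    have := hP.isPrime
    have hPc : P.comap (algebraMap A A') = maximalIdeal A :=
      ((maximalIdeal.isMaximal A).eq_of_le (Ideal.IsPrime.ne_top inferInstance) (Ideal.map_le_iff_le_comap.mp hP.le)).symm
    have : (P.comap (algebraMap A A')).IsMaximal := hPc ▸ maximalIdeal.isMaximal A
    exact (eq_maximalIdeal (Ideal.isMaximal_of_isIntegral_of_isMaximal_comap P this)).ge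
  obtain ⟨k, hk⟩ := Ideal.exists_pow_le_of_le_radical_of_fg hrad (IsNoetherian.noetherian _)
  exact H24Adic.isAdicComplete_of_pow_le (I := L) (a := k) (b := 1) hk
    (by rw [pow_one]; exact map_le_maximalIdeal_of_finite) A'

/-- Complete Noetherian local rings are J-2. -/
theorem isJ2_of_isAdicComplete (A : Type u) [CommRing A] [IsLocalRing A] [IsNoetherianRing A]
    [IsAdicComplete (maximalIdeal A) A] : EGA4.IsJ2 A := by
  refine isJ2_of_finite_domains A fun A' _ _ _ hfin => ?_
  have : IsNoetherianRing A' := IsNoetherianRing.of_finite A A'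
  obtain ⟨_, _⟩ := isAdicComplete_of_finite_domain (A := A) (A' := A')
  exact (finite_and_isJ0_of_complete_domain A' (FractionRing A') fun K _ _ _ _ _ => by
    have : IsFractionRing A' (FractionRing A') := inferInstance
    exact Module.Finite.of_surjective (Algebra.linearMap K (FractionRing A')) fun z => by
      obtain ⟨a, b, hb, rfl⟩ := IsFractionRing.div_surjective (A := A') z
      exact ⟨algebraMap A' K a / algebraMap A' K b, by
        simp [← IsScalarTower.algebraMap_apply]⟩).2

/-- Complete Noetherian local rings are Nagata. -/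
theorem isNagata_of_isAdicComplete (A : Type u) [CommRing A] [IsLocalRing A] [IsNoetherianRing A]
    [IsAdicComplete (maximalIdeal A) A] : CAlg.IsNagata A := by
  refine ⟨inferInstance, fun p _ L _ _ _ _ hLfin => ?_⟩
  have : IsLocalRing (A ⧸ p) := .of_surjective' _ Ideal.Quotient.mk_surjective
  obtain ⟨_, _⟩ := isAdicComplete_of_finite_domain (A := A) (A' := A ⧸ p)
  have : FaithfulSMul (A ⧸ p) L := (faithfulSMul_iff_algebraMap_injective _ _).mpr (by
    rw [IsScalarTower.algebraMap_eq (A ⧸ p) (FractionRing (A ⧸ p)) L]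
    exact (algebraMap (FractionRing (A ⧸ p)) L).injective.comp (IsFractionRing.injective _ _))
  refine (finite_and_isJ0_of_complete_domain (A ⧸ p) L fun K _ _ _ _ _ => ?_).1
  let e := FractionRing.algEquiv (A ⧸ p) K
  letI : Algebra (FractionRing (A ⧸ p)) K := e.toRingEquiv.toRingHom.toAlgebra
  have : IsScalarTower (FractionRing (A ⧸ p)) K L := IsScalarTower.of_algebraMap_eq' (IsLocalization.ringHom_ext
    (nonZeroDivisors (A ⧸ p)) (RingHom.ext fun a => by
      show algebraMap (FractionRing (A ⧸ p)) L (algebraMap (A ⧸ p) _ a) = algebraMap K L (e (algebraMap (A ⧸ p) _ a))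
      rw [e.commutes, ← IsScalarTower.algebraMap_apply, ← IsScalarTower.algebraMap_apply]))
  exact Module.Finite.of_restrictScalars_finite (FractionRing (A ⧸ p)) K L

end Groth.Agent.H05EGA4
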