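import Mathlib
import Groth.Agent.H24Adic.CompletionMap
import Groth.Agent.H24Adic.Rig
import Groth.Agent.H05EGA4.Regular2
import Groth.Agent.H05EGA4.Derivations

/-!
# Derivations extend to completions (helper5)
-/

set_option autoImplicit false
set_option linter.style.haveILetI false
universe u v
open IsLocalRing TensorProduct Groth.Agent

namespace Groth.Agent.H05EGA4

/-- Every derivation of `R` into a finite `C`-module extends to `C`. -/
def DerivExt (R C : Type u) [CommRing R] [CommRing C] [Algebra R C] : Prop :=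
  ∀ (M : Type u) [AddCommGroup M] [Module C M] [Module R M] [IsScalarTower R C M] [Module.Finite C M]
    (d : Derivation ℤ R M), ∃ D : Derivation ℤ C M, ∀ r, D (algebraMap R C r) = d r

/-- Maps into adically complete rings extend to the completion. -/
theorem exists_completion_lift {A : Type u} {E : Type v} [CommRing A] [CommRing E] (I : Ideal A) (P : Ideal E)
    [IsAdicComplete P E] (ψ : A →+* E) (h : I.map ψ ≤ P) :
    ∃ F : AdicCompletion I A →+* E, F.comp (algebraMap A (AdicCompletion I A)) = ψ := by
  have hle : ∀ n, I ^ n ≤ (P ^ n).comap ψ := fun n => by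
    rw [← Ideal.map_le_iff_le_comap, Ideal.map_pow]
    exact Ideal.pow_right_mono h n
  let f : ∀ n, AdicCompletion I A →+* E ⧸ P ^ n := fun n =>
    (Ideal.quotientMap (P ^ n) ψ (hle n)).comp (AdicCompletion.evalₐ I n).toRingHom
  have hf : ∀ {m n : ℕ} (hmn : m ≤ n), (Ideal.Quotient.factorPow P hmn).comp (f n) = f m := by
    intro m n hmn
    refine RingHom.ext fun x => ?_
    induction x using AdicCompletion.induction_on with
    | _ a =>
      simp only [f, RingHom.comp_apply, AlgHom.toRingHom_eq_coe, RingHom.coe_coe, AdicCompletion.evalₐ_mk]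
      have h1 : a.1 m - a.1 n ∈ I ^ m := by
        have := a.2 hmn
        rwa [SModEq.sub_mem, smul_eq_mul, Ideal.mul_top] at this
      have h2 := hle m h1
      rw [Ideal.mem_comap, map_sub, ← Ideal.Quotient.eq] at h2
      exact h2.symm
  refine ⟨IsAdicComplete.liftRingHom P f hf, RingHom.ext fun a => ?_⟩
  refine sub_eq_zero.mp (IsHausdorff.haus (I := P) inferInstance _ fun n => ?_)
  rw [SModEq.sub_mem, sub_zero, smul_eq_mul, Ideal.mul_top, ← Ideal.Quotient.eq, RingHom.comp_apply,
    IsAdicComplete.mk_liftRingHom]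
  show Ideal.quotientMap (P ^ n) ψ (hle n) (AdicCompletion.evalₐ I n (algebraMap A (AdicCompletion I A) a)) = _
  rw [show AdicCompletion.evalₐ I n (algebraMap A (AdicCompletion I A) a) = Ideal.Quotient.mk _ a from
    AdicCompletion.evalₐ_of I n a]
  rfl

/-- Derivations extend to the completion of a local ring of a Noetherian ring. -/
theorem derivExt_completion (R : Type u) [CommRing R] [IsNoetherianRing R] (q : Ideal R) [q.IsPrime] :
    DerivExt R (AdicCompletion (maximalIdeal (Localization.AtPrime q)) (Localization.AtPrime q)) := by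
  intro M _ _ _ _ _ d
  let S := Localization.AtPrime q
  let C := AdicCompletion (maximalIdeal S) S
  have : IsNoetherianRing C := isNoetherianRing_adicCompletion S (maximalIdeal S)
  have hC : IsAdicComplete (maximalIdeal C) C := by
    rw [AdicCompletion.maximalIdeal_eq_map]
    exact AdicCompletion.isAdicComplete_self _ (IsNoetherian.noetherian _)
  letI : Module Cᵐᵒᵖ M := Module.compHom M ((RingHom.id C).fromOpposite mul_comm)
  have : IsCentralScalar C M := ⟨fun _ _ => rfl⟩
  have : Module.Finite C (TrivSqZeroExt C M) := (inferInstance : Module.Finite C (C × M))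
  let P : Ideal (TrivSqZeroExt C M) := (maximalIdeal C).comap (TrivSqZeroExt.fstHom C C M).toRingHom
  have hcE : IsAdicComplete ((maximalIdeal C).map (algebraMap C (TrivSqZeroExt C M))) (TrivSqZeroExt C M) :=
    (IsAdicComplete.map_algebraMap_iff (maximalIdeal C) (TrivSqZeroExt C M) (S := (TrivSqZeroExt C M))).mpr (H24Adic.isAdicComplete_of_finite _)
  have hJP : (maximalIdeal C).map (algebraMap C (TrivSqZeroExt C M)) ≤ P := Ideal.map_le_iff_le_comap.mpr fun c hc => by
    show TrivSqZeroExt.fst (algebraMap C (TrivSqZeroExt C M) c) ∈ maximalIdeal C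
    rw [show algebraMap C (TrivSqZeroExt C M) c = TrivSqZeroExt.inl c from rfl, TrivSqZeroExt.fst_inl]
    exact hc
  have hinr : ∀ (c : C) (m : M), c ∈ maximalIdeal C →
      (TrivSqZeroExt.inr (c • m) : (TrivSqZeroExt C M)) ∈ (maximalIdeal C).map (algebraMap C (TrivSqZeroExt C M)) := fun c m hc => by
    rw [← TrivSqZeroExt.inl_mul_inr]
    exact Ideal.mul_mem_right _ _ (Ideal.mem_map_of_mem _ hc)
  have hPJ : P ^ 2 ≤ (maximalIdeal C).map (algebraMap C (TrivSqZeroExt C M)) := by
    rw [pow_two, Ideal.mul_le]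
    intro x hx y hy
    have hx' : TrivSqZeroExt.fst x ∈ maximalIdeal C := hx
    have hy' : TrivSqZeroExt.fst y ∈ maximalIdeal C := hy
    rw [← TrivSqZeroExt.inl_fst_add_inr_snd_eq (x * y), TrivSqZeroExt.fst_mul, TrivSqZeroExt.snd_mul,
      TrivSqZeroExt.inr_add]
    refine add_mem ?_ (add_mem (hinr _ _ hx') ?_)
    · exact Ideal.mem_map_of_mem _ (Ideal.mul_mem_right _ _ hx')
    · rw [op_smul_eq_smul]; exact hinr _ _ hy'
  have : IsAdicComplete P (TrivSqZeroExt C M) :=
    H24Adic.isAdicComplete_of_pow_le (I := (maximalIdeal C).map (algebraMap C (TrivSqZeroExt C M))) (a := 2) (b := 1) hPJ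
      (by rwa [pow_one]) (TrivSqZeroExt C M)
  let g : R →+* (TrivSqZeroExt C M) :=
    { toFun := fun r => TrivSqZeroExt.inl (algebraMap R C r) + TrivSqZeroExt.inr (d r)
      map_one' := by simp
      map_mul' := fun a b => TrivSqZeroExt.ext (by simp; erw [add_zero, add_zero, add_zero]) (by
        simp only [TrivSqZeroExt.snd_add, TrivSqZeroExt.snd_inl, TrivSqZeroExt.snd_inr, zero_add,
          TrivSqZeroExt.snd_mul, TrivSqZeroExt.fst_add, TrivSqZeroExt.fst_inl, TrivSqZeroExt.fst_inr, add_zero,
          op_smul_eq_smul, algebraMap_smul, d.leibniz])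
      map_zero' := by simp
      map_add' := fun a b => by simp only [map_add, TrivSqZeroExt.inl_add]; erw [TrivSqZeroExt.inr_add]; abel }
  have hfst : ∀ r, TrivSqZeroExt.fst (g r) = algebraMap R C r := fun r => by
    show TrivSqZeroExt.fst (TrivSqZeroExt.inl (algebraMap R C r) + TrivSqZeroExt.inr (d r)) = _
    simp
  have hg : ∀ y : q.primeCompl, IsUnit (g y) := fun y => by
    rw [TrivSqZeroExt.isUnit_iff_isUnit_fst, hfst, IsScalarTower.algebraMap_apply R S C]
    exact (IsLocalization.map_units S y).map _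
  let ψ : S →+* (TrivSqZeroExt C M) := IsLocalization.lift hg
  have hψfst : ∀ s, TrivSqZeroExt.fst (ψ s) = algebraMap S C s := fun s => by
    refine RingHom.congr_fun (IsLocalization.ringHom_ext q.primeCompl
      (j := (TrivSqZeroExt.fstHom C C M).toRingHom.comp ψ) (k := algebraMap S C) (RingHom.ext fun r => ?_)) s
    show TrivSqZeroExt.fst (ψ (algebraMap R S r)) = algebraMap S C (algebraMap R S r)
    rw [IsLocalization.lift_eq, hfst, ← IsScalarTower.algebraMap_apply]
  have hψP : (maximalIdeal S).map ψ ≤ P := Ideal.map_le_iff_le_comap.mpr fun s hs => by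
    show TrivSqZeroExt.fst (ψ s) ∈ maximalIdeal C
    rw [hψfst]
    exact map_maximalIdeal_le (algebraMap S C) (Ideal.mem_map_of_mem _ hs)
  obtain ⟨F, hF⟩ := exists_completion_lift (maximalIdeal S) P ψ hψP
  have hid : ∀ c, TrivSqZeroExt.fst (F c) = c := fun c => by
    refine sub_eq_zero.mp (IsHausdorff.haus (I := maximalIdeal C) inferInstance _ fun n => ?_)
    rw [SModEq.sub_mem, sub_zero, smul_eq_mul, Ideal.mul_top]
    obtain ⟨a, ha⟩ := H24Adic.exists_sub_of_mem (IsNoetherian.noetherian (maximalIdeal S)) n c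
    have h1 : F (c - algebraMap S C a) ∈ P ^ n := by
      refine (Ideal.map_le_iff_le_comap.mpr (fun s hs => ?_) : ((maximalIdeal S ^ n).map (algebraMap S C)) ≤ (P ^ n).comap F) ha
      show F (algebraMap S C s) ∈ P ^ n
      rw [show F (algebraMap S C s) = ψ s from RingHom.congr_fun hF s]
      exact Ideal.pow_right_mono hψP n (Ideal.map_pow ψ _ n ▸ Ideal.mem_map_of_mem _ hs)
    have h2 : TrivSqZeroExt.fst (F (c - algebraMap S C a)) ∈ maximalIdeal C ^ n :=
      ((Ideal.le_comap_pow (TrivSqZeroExt.fstHom C C M).toRingHom n) h1 :)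
    rw [map_sub, show F (algebraMap S C a) = ψ a from RingHom.congr_fun hF a, TrivSqZeroExt.fst_sub, hψfst] at h2
    rw [show TrivSqZeroExt.fst (F c) - c = (TrivSqZeroExt.fst (F c) - algebraMap S C a) - (c - algebraMap S C a) by ring]
    refine sub_mem h2 ?_
    rw [AdicCompletion.maximalIdeal_eq_map, ← Ideal.map_pow]
    exact ha
  letI : Algebra ℤ C := Ring.toIntAlgebra C
  let D : C →+ M := AddMonoidHom.mk' (fun c => TrivSqZeroExt.snd (F c)) fun a b => by
    rw [map_add, TrivSqZeroExt.snd_add]
  refine ⟨Derivation.mk' D.toIntLinearMap fun a b => ?_, fun r => ?_⟩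
  · show TrivSqZeroExt.snd (F (a * b)) = a • TrivSqZeroExt.snd (F b) + b • TrivSqZeroExt.snd (F a)
    rw [map_mul, TrivSqZeroExt.snd_mul, hid, hid, op_smul_eq_smul]
  · show TrivSqZeroExt.snd (F (algebraMap R C r)) = d r
    rw [IsScalarTower.algebraMap_apply R S C, show F (algebraMap S C _) = ψ _ from RingHom.congr_fun hF _,
      IsLocalization.lift_eq]
    show TrivSqZeroExt.snd (TrivSqZeroExt.inl (algebraMap R C r) + TrivSqZeroExt.inr (d r)) = _
    simp

/-- Extension of derivations is stable under finite base change. -/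
theorem DerivExt.baseChange {R C : Type u} [CommRing R] [CommRing C] [Algebra R C] (h : DerivExt R C)
    (R1 : Type u) [CommRing R1] [Algebra R R1] [Module.Finite R R1] : DerivExt R1 (R1 ⊗[R] C) := by
  intro M _ _ _ _ _ d1
  letI : Algebra C (R1 ⊗[R] C) := Algebra.TensorProduct.rightAlgebra
  have : Module.Finite C (R1 ⊗[R] C) :=
    Module.Finite.equiv (Algebra.TensorProduct.commRight R C R1).toLinearEquiv
  letI : Module C M := Module.compHom M (algebraMap C (R1 ⊗[R] C))
  have : IsScalarTower C (R1 ⊗[R] C) M := IsScalarTower.of_algebraMap_smul fun _ _ => rfl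
  have : Module.Finite C M := Module.Finite.trans (R1 ⊗[R] C) M
  letI : Module R M := Module.compHom M (algebraMap R R1)
  have : IsScalarTower R R1 M := IsScalarTower.of_algebraMap_smul fun _ _ => rfl
  have hsmul : ∀ (a : R) (m : M), a • m = algebraMap R (R1 ⊗[R] C) a • m := fun a m => by
    show algebraMap R R1 a • m = _
    rw [IsScalarTower.algebraMap_apply R R1 (R1 ⊗[R] C)]
    exact (algebraMap_smul (R1 ⊗[R] C) (algebraMap R R1 a) m).symm
  have : IsScalarTower R C M := IsScalarTower.of_algebraMap_smul fun a m => by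
    rw [hsmul]
    show algebraMap C (R1 ⊗[R] C) (algebraMap R C a) • m = _
    congr 1
    show (1 : R1) ⊗ₜ[R] algebraMap R C a = algebraMap R (R1 ⊗[R] C) a
    rw [Algebra.TensorProduct.algebraMap_apply', ]
  have : SMulCommClass R1 C M := ⟨fun r c m => by
    rw [← algebraMap_smul (R1 ⊗[R] C) r, ← algebraMap_smul (R1 ⊗[R] C) r]
    exact smul_comm (algebraMap R1 (R1 ⊗[R] C) r) (algebraMap C (R1 ⊗[R] C) c) m⟩
  obtain ⟨dC, hdC⟩ := h M (d1.compAlgebraMap R)
  have hdC' : ∀ a, dC (algebraMap R C a) = d1 (algebraMap R R1 a) := hdC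
  let f : R1 →+ C →+ M := AddMonoidHom.mk'
    (fun r => AddMonoidHom.mk' (fun c => c • d1 r + r • dC c) fun c c' => by
      simp only [add_smul, map_add, smul_add]; abel)
    fun r r' => by ext c; simp only [AddMonoidHom.mk'_apply, AddMonoidHom.add_apply, map_add, add_smul, smul_add]; abel
  have hf : ∀ (a : R) (r : R1) (c : C), f (a • r) c = f r (a • c) := fun a r c => by
    show c • d1 (a • r) + (a • r) • dC c = (a • c) • d1 r + r • dC (a • c)
    rw [Algebra.smul_def a r, Algebra.smul_def a c, d1.leibniz, dC.leibniz, hdC', mul_smul, mul_smul, smul_add,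
      smul_add, algebraMap_smul, algebraMap_smul, algebraMap_smul, algebraMap_smul, smul_comm r c,
      smul_comm r a, smul_comm c a]
    abel
  let D := TensorProduct.liftAddHom f hf
  have hD : ∀ r c, D (r ⊗ₜ c) = c • d1 r + r • dC c := fun r c => rfl
  have hact : ∀ (r : R1) (c : C) (m : M), (r ⊗ₜ[R] c : R1 ⊗[R] C) • m = r • c • m := fun r c m => by
    rw [← algebraMap_smul (R1 ⊗[R] C) r (c • m)]
    show _ = algebraMap R1 (R1 ⊗[R] C) r • algebraMap C (R1 ⊗[R] C) c • m
    rw [← mul_smul]
    congr 1
    show r ⊗ₜ[R] c = (r ⊗ₜ 1) * (1 ⊗ₜ c)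
    rw [Algebra.TensorProduct.tmul_mul_tmul, mul_one, one_mul]
  refine ⟨Derivation.mk' D.toIntLinearMap fun x y => ?_, fun r => ?_⟩
  · show D (x * y) = x • D y + y • D x
    induction x using TensorProduct.induction_on with
    | zero => simp
    | add x x' hx hx' => rw [add_mul, map_add, hx, hx', map_add, add_smul, smul_add]; abel
    | tmul r c =>
      induction y using TensorProduct.induction_on with
      | zero => simp
      | add y y' hy hy' => rw [mul_add, map_add, hy, hy', map_add, add_smul, smul_add]; abel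
      | tmul r' c' =>
        rw [Algebra.TensorProduct.tmul_mul_tmul, hD, hD, hD, hact, hact, d1.leibniz, dC.leibniz]
        have hsw : ∀ (c : C) (r : R1) (m : M), c • r • m = r • c • m := fun c r m => (smul_comm r c m).symm
        simp only [mul_smul, smul_add, hsw]
        rw [smul_comm c' c (d1 r), smul_comm r' r (c' • dC c)]
        abel
  · show D (r ⊗ₜ (1 : C)) = d1 r
    rw [hD, one_smul, dC.map_one_eq_zero, smul_zero, add_zero]

end Groth.Agent.H05EGA4
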