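import Mathlib
import Groth.Agent.H05EGA4.DerivExt
import Groth.Agent.H05EGA4.RadicalExtension
import Groth.Agent.H02CA.SmoothRegular
import Groth.Agent.H02CA.RegularLocal

/-!
# Regularity of generic fibres after finite field extensions (helper5)
-/

set_option autoImplicit false
set_option linter.style.haveILetI false
set_option maxHeartbeats 600000
set_option synthInstance.maxHeartbeats 100000
universe u
open IsLocalRing TensorProduct Polynomial Groth.Agent

namespace Groth.Agent.H05EGA4

/-- Finite separable base change preserves regularity. -/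
theorem isRegularRing_tensor_of_separable (K L B : Type u) [Field K] [Field L] [CommRing B] [Algebra K L]
    [Algebra K B] [FiniteDimensional K L] [Algebra.IsSeparable K L] [IsRegularRing B] :
    IsRegularRing (L ⊗[K] B) := by
  have : Algebra.FormallyEtale K L := Algebra.FormallyEtale.of_isSeparable K L
  have : Algebra.FiniteType K L := Module.Finite.finiteType L
  have : Algebra.FinitePresentation K L := Algebra.FinitePresentation.of_finiteType.mp inferInstance
  have : Algebra.Etale K L := { }
  have : IsRegularRing (B ⊗[K] L) := H02CA.isRegularRing_of_smooth B (B ⊗[K] L)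
  exact IsRegularRing.of_ringEquiv (Algebra.TensorProduct.comm K B L).toRingEquiv

/-- Presentation of the base change to a radical extension of degree `p`. -/
theorem exists_radical_presentation (K L B : Type u) [Field K] [Field L] [CommRing B] [Algebra K L]
    [Algebra K B] (p : ℕ) [hp : Fact p.Prime] [CharP K p] {b : K} (hb : ∀ e, e ^ p ≠ b) {x : L}
    (hx : x ^ p = algebraMap K L b) (hgen : IntermediateField.adjoin K {x} = ⊤) :
    ∃ π : B[X] →+* L ⊗[K] B, Function.Surjective π ∧ (∀ c, π (C c) = 1 ⊗ₜ c) ∧ π X = x ⊗ₜ 1 ∧
      RingHom.ker π = Ideal.span {X ^ p - C (algebraMap K B b)} := by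
  obtain ⟨hs, hk⟩ := radical_aeval p hb hx hgen
  let π : B[X] →+* L ⊗[K] B :=
    eval₂RingHom (Algebra.TensorProduct.includeRight (R := K) (A := L) (B := B)).toRingHom (x ⊗ₜ 1)
  have hπC : ∀ c : B, π (C c) = 1 ⊗ₜ c := fun c => eval₂_C _ _
  have hπX : π X = x ⊗ₜ 1 := eval₂_X _ _
  have hπmap : ∀ f : K[X], π (f.map (algebraMap K B)) = aeval x f ⊗ₜ 1 := by
    intro f
    induction f using Polynomial.induction_on' with
    | add f g hf hg => rw [Polynomial.map_add, map_add, hf, hg, map_add, TensorProduct.add_tmul]
    | monomial n a =>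
      rw [map_monomial, ← C_mul_X_pow_eq_monomial, map_mul, map_pow, hπC, hπX, aeval_monomial,
        Algebra.TensorProduct.tmul_pow, one_pow, Algebra.TensorProduct.tmul_mul_tmul, one_mul, mul_one,
        Algebra.algebraMap_eq_smul_one a, ← TensorProduct.smul_tmul, Algebra.algebraMap_eq_smul_one a, smul_mul_assoc, one_mul]
  have hsur : Function.Surjective π := by
    intro z
    induction z using TensorProduct.induction_on with
    | zero => exact ⟨0, map_zero _⟩
    | add a c ha hc =>
      obtain ⟨f, rfl⟩ := ha
      obtain ⟨g, rfl⟩ := hc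
      exact ⟨f + g, map_add _ _ _⟩
    | tmul l c =>
      obtain ⟨f, rfl⟩ := hs l
      exact ⟨C c * f.map (algebraMap K B), by
        rw [map_mul, hπC, hπmap, Algebra.TensorProduct.tmul_mul_tmul, one_mul, mul_one]⟩
  let g : B[X] := X ^ p - C (algebraMap K B b)
  have hg0 : π g = 0 := by
    show π (X ^ p - C (algebraMap K B b)) = 0
    rw [show (X ^ p - C (algebraMap K B b) : B[X]) = (X ^ p - C b : K[X]).map (algebraMap K B) by simp, hπmap,
      (hk _).mpr dvd_rfl, TensorProduct.zero_tmul]
  have hker : RingHom.ker π = Ideal.span {g} := by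
    refine le_antisymm (fun f hf => ?_) ((Ideal.span_singleton_le_iff_mem _).mpr hg0)
    let q := Ideal.Quotient.mk (Ideal.span {g})
    let χ : K[X] →+* B[X] ⧸ Ideal.span {g} := q.comp (mapRingHom (algebraMap K B))
    have hχ : RingHom.ker (aeval (R := K) x).toRingHom ≤ RingHom.ker χ := fun f hf => by
      obtain ⟨h, rfl⟩ := (hk f).mp hf
      show χ _ = 0
      have : q g = 0 := Ideal.Quotient.eq_zero_iff_mem.mpr (Ideal.mem_span_singleton_self _)
      rw [map_mul, show χ (X ^ p - C b) = q g by simp [χ, g], this, zero_mul]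
    let φ₀ : L →+* B[X] ⧸ Ideal.span {g} := RingHom.liftOfSurjective (aeval (R := K) x).toRingHom hs ⟨χ, hχ⟩
    have hφ₀ : ∀ f : K[X], φ₀ (aeval x f) = χ f := fun f =>
      RingHom.liftOfRightInverse_comp_apply _ _ _ ⟨χ, hχ⟩ f
    let φ : L →ₐ[K] B[X] ⧸ Ideal.span {g} :=
      { φ₀ with
        commutes' := fun a => by
          show φ₀ (algebraMap K L a) = algebraMap K _ a
          rw [← aeval_C (R := K) x, hφ₀]
          show q ((C a).map (algebraMap K B)) = algebraMap K _ a
          rw [map_C]; rfl }
    let ψ : L ⊗[K] B →ₐ[K] B[X] ⧸ Ideal.span {g} :=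
      Algebra.TensorProduct.lift φ (IsScalarTower.toAlgHom K B _) fun _ _ => Commute.all _ _
    have hψ : ψ.toRingHom.comp π = q := by
      refine Polynomial.ringHom_ext (fun c => ?_) ?_
      · show ψ (π (C c)) = q (C c)
        rw [hπC, Algebra.TensorProduct.lift_tmul, map_one, one_mul]; rfl
      · show ψ (π X) = q X
        rw [hπX, Algebra.TensorProduct.lift_tmul, map_one, mul_one]
        show φ₀ x = q X
        rw [← aeval_X (R := K) x, hφ₀]
        show q (Polynomial.map _ X) = q X
        rw [map_X]
    refine Ideal.Quotient.eq_zero_iff_mem.mp ?_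
    rw [← RingHom.congr_fun hψ f]
    show ψ (π f) = 0
    rw [RingHom.mem_ker.mp hf, map_zero]
  exact ⟨π, hsur, hπC, hπX, hker⟩

/-- A radical extension of degree `p` preserves regularity in presence of a derivation. -/
theorem isRegularRing_tensor_of_radical (K L B : Type u) [Field K] [Field L] [CommRing B] [Algebra K L]
    [Algebra K B] [IsRegularRing B] (p : ℕ) [hp : Fact p.Prime] [CharP K p] {b : K} (hb : ∀ e, e ^ p ≠ b) {x : L}
    (hx : x ^ p = algebraMap K L b) (hgen : IntermediateField.adjoin K {x} = ⊤)
    (D : Derivation ℤ B B) (hD : IsUnit (D (algebraMap K B b))) : IsRegularRing (L ⊗[K] B) := by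
  obtain ⟨π, hsur, -, -, hker⟩ := exists_radical_presentation K L B p hb hx hgen
  have : IsNoetherianRing (L ⊗[K] B) := isNoetherianRing_of_surjective _ _ π hsur
  rw [isRegularRing_iff]
  intro Q hQ
  refine isRegularLocalRing_quotient_of_derivation π hsur p (algebraMap K B b) ?_ hker D Q
    (isRegularRing_iff.mp inferInstance _) fun h => hQ.ne_top (Ideal.eq_top_of_isUnit_mem _ h ((hD.map C).map π))
  rw [← map_natCast (algebraMap K B), CharP.cast_eq_zero, map_zero]

/-- A base with enough derivations extending to `C`, and regular generic fibre. -/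
structure IsDerivPair (R K C : Type u) [CommRing R] [Field K] [CommRing C] [Algebra R K] [Algebra R C] (p : ℕ) :
    Prop where
  noetherian : IsNoetherianRing R
  normal : IsIntegrallyClosed R
  full : IsFull R K p
  ext : DerivExt R C
  regular : IsRegularRing (K ⊗[R] C)

/-- A bounded derivation gives a derivation of the generic fibre. -/
theorem exists_derivation_fibre {R K C : Type u} [CommRing R] [IsDomain R] [Field K] [CommRing C] [Algebra R K]
    [IsFractionRing R K] [Algebra R C] (hext : DerivExt R C) (D : Derivation ℤ K K) (hD : IsBdd R D) :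
    ∃ (u : K) (E : Derivation ℤ (K ⊗[R] C) (K ⊗[R] C)), u ≠ 0 ∧
      ∀ a : K, E (algebraMap K (K ⊗[R] C) a) = algebraMap K (K ⊗[R] C) (u * D a) := by
  obtain ⟨s, hs, hsD⟩ := hD
  choose g hg using hsD
  have hinj := IsFractionRing.injective R K
  let d₀ : R →+ R := AddMonoidHom.mk' g fun a b => hinj (by simp only [map_add, hg, mul_add])
  let d : Derivation ℤ R R := Derivation.mk' d₀.toIntLinearMap fun a b => hinj (by
    show algebraMap R K (g (a * b)) = algebraMap R K (a • g b + b • g a)
    simp only [map_add, smul_eq_mul, map_mul, hg, D.leibniz]; ring)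
  obtain ⟨dC, hdC⟩ := hext C ((Algebra.linearMap R C).compDer d)
  letI : Algebra C (K ⊗[R] C) := Algebra.TensorProduct.rightAlgebra
  have : IsLocalization (Algebra.algebraMapSubmonoid C (nonZeroDivisors R)) (K ⊗[R] C) :=
    IsLocalization.tensorRight K (nonZeroDivisors R)
  have : Algebra.FormallyEtale C (K ⊗[R] C) :=
    Algebra.FormallyEtale.of_isLocalization (Algebra.algebraMapSubmonoid C (nonZeroDivisors R))
  obtain ⟨E, hE⟩ := exists_derivation_extend C (K ⊗[R] C) ((Algebra.linearMap C (K ⊗[R] C)).compDer dC)
  refine ⟨algebraMap R K s, E, hs, fun a => ?_⟩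
  let κ := algebraMap K (K ⊗[R] C)
  have hκ : ∀ r : R, algebraMap C (K ⊗[R] C) (algebraMap R C r) = κ (algebraMap R K r) := fun r => by
    show (1 : K) ⊗ₜ[R] algebraMap R C r = algebraMap R K r ⊗ₜ[R] (1 : C)
    rw [Algebra.algebraMap_eq_smul_one, Algebra.algebraMap_eq_smul_one, TensorProduct.smul_tmul]
  have hbase : ∀ r : R, E (κ (algebraMap R K r)) = κ (algebraMap R K s * D (algebraMap R K r)) := fun r => by
    rw [← hκ, hE]
    show algebraMap C (K ⊗[R] C) (dC (algebraMap R C r)) = _
    rw [hdC]
    show algebraMap C (K ⊗[R] C) (algebraMap R C (g r)) = _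
    rw [hκ, hg]
  obtain ⟨r, t, ht, rfl⟩ := IsFractionRing.div_surjective (A := R) a
  set at' := algebraMap R K t
  have ht0 : at' ≠ 0 := (map_ne_zero_iff _ hinj).mpr (nonZeroDivisors.ne_zero ht)
  set c := algebraMap R K r / at'
  have hc : c * at' = algebraMap R K r := div_mul_cancel₀ _ ht0
  have h1 := hbase r
  have h2 := hbase t
  rw [← hc, map_mul, E.leibniz, D.leibniz] at h1
  simp only [smul_eq_mul, map_mul, map_add] at h1 h2
  refine ((isUnit_iff_ne_zero.mpr ht0).map κ).mul_right_injective ?_
  show κ at' * E (κ c) = κ at' * κ (algebraMap R K s * D c)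
  rw [h2] at h1
  rw [map_mul]
  linear_combination h1

/-- Transport along the cancellation `L ⊗_R C = L ⊗_{R'} (R' ⊗_R C)`. -/
theorem isRegularRing_cancel_iff (R R' L C : Type u) [CommRing R] [CommRing R'] [CommRing L] [CommRing C]
    [Algebra R R'] [Algebra R' L] [Algebra R L] [IsScalarTower R R' L] [Algebra R C] :
    IsRegularRing (L ⊗[R'] (R' ⊗[R] C)) ↔ IsRegularRing (L ⊗[R] C) :=
  ⟨fun _ => IsRegularRing.of_ringEquiv (Algebra.TensorProduct.cancelBaseChange R R' L L C).toRingEquiv,
    fun _ => IsRegularRing.of_ringEquiv (Algebra.TensorProduct.cancelBaseChange R R' L L C).symm.toRingEquiv⟩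

theorem isRegularRing_tensor_of_purelyInseparable (p : ℕ) [hp : Fact p.Prime] :
    ∀ (n : ℕ) (R K L C : Type u) [CommRing R] [IsDomain R] [Field K] [Field L] [CommRing C] [Algebra R C]
      [Algebra R K] [IsFractionRing R K] [Algebra K L] [Algebra R L] [IsScalarTower R K L] [FiniteDimensional K L]
      [IsPurelyInseparable K L] [CharP K p], Module.finrank K L ≤ n → IsDerivPair R K C p →
      IsRegularRing (L ⊗[R] C) := by
  intro n
  induction n with
  | zero =>
    intro R K L C _ _ _ _ _ _ _ _ _ _ _ _ _ _ hn _
    exact absurd hn (Module.finrank_pos.not_ge)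
  | succ n ih =>
    intro R K L C _ _ _ _ _ _ _ _ _ _ _ _ _ _ hn hR
    have := hR.noetherian
    have := hR.normal
    have := hR.regular
    by_cases htop : ∀ l : L, l ∈ (algebraMap K L).range
    · have hbij : Function.Bijective (algebraMap K L) := ⟨(algebraMap K L).injective, htop⟩
      have : Algebra.IsSeparable K L := AlgEquiv.Algebra.isSeparable (AlgEquiv.ofBijective (Algebra.ofId K L) hbij)
      exact (isRegularRing_cancel_iff R K L C).mp (isRegularRing_tensor_of_separable K L (K ⊗[R] C))
    push Not at htop
    obtain ⟨y, hy⟩ := htop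
    obtain ⟨x, hxK, hxp⟩ : ∃ x : L, x ∉ (algebraMap K L).range ∧ x ^ p ∈ (algebraMap K L).range := by
      have : ExpChar K p := ExpChar.prime hp.out
      obtain ⟨j, hj⟩ := IsPurelyInseparable.pow_mem K p y
      revert y
      induction j with
      | zero => intro y hy hj; exact absurd (by simpa using hj) hy
      | succ j ihj =>
        intro y hy hj
        by_cases h : y ^ p ^ j ∈ (algebraMap K L).range
        · exact ihj y hy h
        · exact ⟨y ^ p ^ j, h, by rwa [← pow_mul, ← pow_succ]⟩
    obtain ⟨b, hb⟩ := hxp
    have : CharP L p := charP_of_injective_algebraMap (algebraMap K L).injective p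
    have hbne : ∀ e, e ^ p ≠ b := fun e he => hxK ⟨e, frobenius_inj L p (by
      rw [frobenius_def, frobenius_def, ← map_pow, he, hb])⟩
    let E := IntermediateField.adjoin K {x}
    let xE : E := ⟨x, IntermediateField.subset_adjoin K _ rfl⟩
    have hgen : IntermediateField.adjoin K {xE} = ⊤ :=
      IntermediateField.map_injective E.val (by
        rw [IntermediateField.adjoin_map, Set.image_singleton, ← AlgHom.fieldRange_eq_map, IntermediateField.fieldRange_val]
        rfl)
    have hxE : xE ^ p = algebraMap K E b := Subtype.ext hb.symm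
    obtain ⟨D, hD, hDb⟩ : ∃ D : Derivation ℤ K K, IsBdd R D ∧ D b ≠ 0 := by
      by_contra h
      push Not at h
      obtain ⟨e, he⟩ := hR.full b h
      exact hbne e he
    obtain ⟨v, E', hv, hE'⟩ := exists_derivation_fibre hR.ext D hD
    have hregE : IsRegularRing (E ⊗[R] C) := (isRegularRing_cancel_iff R K E C).mp
      (isRegularRing_tensor_of_radical K E (K ⊗[R] C) p hbne hxE hgen E'
        (hE' b ▸ (isUnit_iff_ne_zero.mpr (mul_ne_zero hv hDb)).map _))
    have hf1 := finite_integralClosure_radical (R := R) (L := E) p hR.full hbne hxE hgen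
    let R1 := integralClosure R E
    have : IsFractionRing R1 E := integralClosure.isFractionRing_of_finite_extension K E
    have : CharP E p := charP_of_injective_algebraMap (algebraMap K E).injective p
    have hgood : IsDerivPair R1 E (R1 ⊗[R] C) p := ⟨IsNoetherianRing.of_finite R R1,
      integralClosure.isIntegrallyClosedOfFiniteExtension K, IsFull.of_radical (R := R) p hbne hxE hgen hR.full,
      hR.ext.baseChange R1, (isRegularRing_cancel_iff R R1 E C).mpr hregE⟩
    have : IsPurelyInseparable E L := IsPurelyInseparable.tower_top K E L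
    have hdeg : Module.finrank E L ≤ n := by
      have h1 := Module.finrank_mul_finrank K E L
      have h2 : 2 ≤ Module.finrank K E := by
        rcases Nat.lt_or_ge (Module.finrank K E) 2 with h | h
        · exfalso
          have h1' : Module.finrank K E = 1 := le_antisymm (Nat.lt_succ_iff.mp h) Module.finrank_pos
          rw [IntermediateField.finrank_eq_one_iff] at h1'
          exact hxK (IntermediateField.mem_bot.mp (h1' ▸ IntermediateField.subset_adjoin K _ rfl : x ∈ (⊥ : IntermediateField K L)))
        · exact h
      have h3 : 2 * Module.finrank E L ≤ n + 1 := (Nat.mul_le_mul_right _ h2).trans (h1.le.trans hn)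
      have h4 : 0 < Module.finrank E L := Module.finrank_pos
      omega
    have : IsScalarTower R R1 L := IsScalarTower.of_algebraMap_eq fun r => rfl
    exact (isRegularRing_cancel_iff R R1 L C).mp (ih R1 E L (R1 ⊗[R] C) hdeg hgood)

/-- Regularity of the generic fibre after every finite extension, in characteristic `p`. -/
theorem isRegularRing_tensor_of_finite (p : ℕ) [hp : Fact p.Prime] (R K L C : Type u) [CommRing R] [IsDomain R]
    [Field K] [Field L] [CommRing C] [Algebra R C] [Algebra R K] [IsFractionRing R K] [Algebra K L] [Algebra R L]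
    [IsScalarTower R K L] [FiniteDimensional K L] [CharP K p] (hR : IsDerivPair R K C p) :
    IsRegularRing (L ⊗[R] C) := by
  have := hR.noetherian
  have := hR.normal
  have := hR.regular
  let E := separableClosure K L
  let R1 := integralClosure R E
  have hf1 : Module.Finite R R1 := finite_integralClosure_of_separable (K := K)
  have : IsFractionRing R1 E := integralClosure.isFractionRing_of_finite_extension K E
  have : CharP E p := charP_of_injective_algebraMap (algebraMap K E).injective p
  have hgood : IsDerivPair R1 E (R1 ⊗[R] C) p := ⟨IsNoetherianRing.of_finite R R1,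
    integralClosure.isIntegrallyClosedOfFiniteExtension K, IsFull.of_separable (R := R) (K := K) p hR.full,
    hR.ext.baseChange R1, (isRegularRing_cancel_iff R R1 E C).mpr
      ((isRegularRing_cancel_iff R K E C).mp (isRegularRing_tensor_of_separable K E (K ⊗[R] C)))⟩
  have : IsScalarTower R R1 L := IsScalarTower.of_algebraMap_eq fun r => rfl
  exact (isRegularRing_cancel_iff R R1 L C).mp
    (isRegularRing_tensor_of_purelyInseparable p (Module.finrank E L) R1 E L (R1 ⊗[R] C) le_rfl hgood)

end Groth.Agent.H05EGA4
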