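import Mathlib
import Groth.Agent.H05EGA4.FieldSmooth
import Groth.Agent.H05EGA4.GenericFibre
import Groth.Agent.H05EGA4.IntegralDim
import Groth.Agent.H05EGA4.CompleteNormalization

/-!
# Regularity after adjoining `p`-th roots implies formal smoothness (helper5)
-/

set_option autoImplicit false
set_option linter.style.haveILetI false
set_option maxHeartbeats 600000
set_option synthInstance.maxHeartbeats 100000
universe u
open IsLocalRing Polynomial TensorProduct Groth.Agent CAlgX

namespace Groth.Agent.H05EGA4

/-- Regularity after finite extensions generated by `p`-th roots of elements of `S`. -/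
def RootsRegular (p : ℕ) {k : Type u} [Field k] (S : Subfield k) (A : Type u) [CommRing A] [Algebra k A] : Prop :=
  ∀ (k' : Type u) [Field k'] [Algebra k k'], Module.Finite k k' →
    (∀ x : k', x ^ p ∈ S.map (algebraMap k k')) → IsRegularRing (k' ⊗[k] A)

/-- The base change of a local ring to a radical extension is local. -/
theorem isLocalRing_radical (k L A : Type u) [Field k] [Field L] [CommRing A] [IsLocalRing A] [Algebra k L]
    [Algebra k A] (p : ℕ) [hp : Fact p.Prime] [CharP k p] {b : k} (hb : ∀ e, e ^ p ≠ b) {x : L}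
    (hx : x ^ p = algebraMap k L b) (hgen : IntermediateField.adjoin k {x} = ⊤) :
    IsLocalRing (L ⊗[k] A) := by
  obtain ⟨π, hsur, hπC, hπX, hker⟩ := exists_radical_presentation k L A p hb hx hgen
  have hn : Nontrivial (L ⊗[k] A) := by
    refine nontrivial_iff.mpr ⟨0, 1, fun h => ?_⟩
    have h1 : (1 : A[X]) ∈ RingHom.ker π := by rw [RingHom.mem_ker, map_one, ← h]
    rw [hker, Ideal.mem_span_singleton] at h1
    have h2 := (monic_X_pow_sub_C (algebraMap k A b) hp.out.ne_zero).eq_one_of_isUnit (isUnit_of_dvd_one h1)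
    have := congrArg natDegree h2
    rw [natDegree_X_pow_sub_C, natDegree_one] at this
    exact hp.out.ne_zero this
  have : CharP (L ⊗[k] A) p := charP_of_injective_ringHom (algebraMap k (L ⊗[k] A)).injective p
  have hpow : ∀ f : A[X], ∃ a : A, π f ^ p = 1 ⊗ₜ a := by
    intro f
    induction f using Polynomial.induction_on' with
    | add f g hf hg =>
      obtain ⟨a, ha⟩ := hf
      obtain ⟨c, hc⟩ := hg
      exact ⟨a + c, by rw [map_add, add_pow_char, ha, hc, TensorProduct.tmul_add]⟩
    | monomial n c =>
      refine ⟨c ^ p * algebraMap k A b ^ n, ?_⟩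
      rw [← C_mul_X_pow_eq_monomial, map_mul, map_pow, mul_pow, hπC, hπX, ← pow_mul, mul_comm n p, pow_mul,
        Algebra.TensorProduct.tmul_pow, Algebra.TensorProduct.tmul_pow, hx, one_pow, one_pow]
      rw [show algebraMap k L b ⊗ₜ[k] (1 : A) = (1 : L) ⊗ₜ[k] algebraMap k A b by
        rw [Algebra.algebraMap_eq_smul_one, Algebra.algebraMap_eq_smul_one, TensorProduct.smul_tmul]]
      rw [Algebra.TensorProduct.tmul_pow, one_pow, Algebra.TensorProduct.tmul_mul_tmul, one_mul]
  refine IsLocalRing.of_isUnit_or_isUnit_one_sub_self fun z => ?_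
  obtain ⟨f, rfl⟩ := hsur z
  obtain ⟨a, ha⟩ := hpow f
  rcases IsLocalRing.isUnit_or_isUnit_one_sub_self a with h | h
  · left
    rw [← isUnit_pow_iff hp.out.ne_zero, ha]
    exact h.map (Algebra.TensorProduct.includeRight (R := k) (A := L) (B := A))
  · right
    rw [← isUnit_pow_iff hp.out.ne_zero, sub_pow_char, one_pow, ha]
    have := h.map (Algebra.TensorProduct.includeRight (R := k) (A := L) (B := A))
    rwa [map_sub, map_one] at this

/-- An additive retraction of a field extension normalised at a non-zero element. -/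
theorem exists_semilinear_functional {F V : Type u} [Field F] [Field V] (ψ : F →+* V) {c : V} (hc : c ≠ 0) :
    ∃ π0 : V →+ F, (∀ a z, π0 (ψ a * z) = a * π0 z) ∧ π0 c = 1 := by
  letI : Algebra F V := ψ.toAlgebra
  obtain ⟨π0, hπ0⟩ := (LinearMap.toSpanSingleton F V c).exists_leftInverse_of_injective
    (LinearMap.ker_eq_bot.mpr fun a a' h => smul_left_injective F hc (by simpa using h))
  refine ⟨π0.toAddMonoidHom, fun a z => ?_, by simpa using LinearMap.congr_fun hπ0 1⟩
  show π0 (algebraMap F V a * z) = a * π0 z
  rw [← Algebra.smul_def, map_smul, smul_eq_mul]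

/-- A derivation of a local ring of characteristic `p` into its residue field not killing `g ∈ 𝔪 ∖ 𝔪²`. -/
theorem exists_derivation_residue_ne_zero (R : Type u) [CommRing R] [IsLocalRing R] (p : ℕ) [hp : Fact p.Prime]
    [CharP R p] {g : R} (hgm' : g ∈ maximalIdeal R) (hgsq : g ∉ maximalIdeal R ^ 2) :
    ∃ δ : Derivation ℤ R (ResidueField R), δ g ≠ 0 := by
  classical
  let KR := ResidueField R
  letI : Algebra (ULift.{u} (ZMod p)) R :=
    ((ZMod.castHom (dvd_refl p) R).comp ULift.ringEquiv.toRingHom).toAlgebra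
  have : Finite (ULift.{u} (ZMod p)) := Finite.of_equiv (ZMod p) Equiv.ulift.symm
  have : PerfectField (ULift.{u} (ZMod p)) := PerfectField.ofFinite
  have := formallySmooth_of_perfectField (ULift.{u} (ZMod p)) KR
  let q := Ideal.Quotient.mk (maximalIdeal R ^ 2)
  let r2 : (R ⧸ maximalIdeal R ^ 2) →ₐ[ULift.{u} (ZMod p)] KR :=
    Ideal.Quotient.factorₐ _ (Ideal.pow_le_self two_ne_zero)
  have hr2 : Function.Surjective r2 := Ideal.Quotient.factor_surjective (Ideal.pow_le_self two_ne_zero)
  have hr2k : IsNilpotent (RingHom.ker (r2 : (R ⧸ maximalIdeal R ^ 2) →+* KR)) := by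
    refine ⟨2, ?_⟩
    rw [show RingHom.ker (r2 : (R ⧸ maximalIdeal R ^ 2) →+* KR) = (maximalIdeal R).map q from
      Ideal.Quotient.factor_ker (Ideal.pow_le_self two_ne_zero)]
    exact (Ideal.map_pow q (maximalIdeal R) 2).symm.trans (Ideal.map_quotient_self _)
  let σ := Algebra.FormallySmooth.liftOfSurjective (AlgHom.id (ULift.{u} (ZMod p)) KR) r2 hr2 hr2k
  have hσ : ∀ c, r2 (σ c) = c := fun c =>
    AlgHom.congr_fun (Algebra.FormallySmooth.comp_liftOfSurjective (AlgHom.id (ULift.{u} (ZMod p)) KR) r2 hr2 hr2k) c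
  choose sL hsL using fun c => Ideal.Quotient.mk_surjective (σ c)
  have hsres : ∀ c, residue R (sL c) = c := fun c => by
    have := hσ c; rw [← hsL c] at this; exact this
  have hmem : ∀ r : R, r - sL (residue R r) ∈ maximalIdeal R := fun r => by
    rw [← residue_eq_zero_iff, map_sub, hsres, sub_self]
  let ι : R → CotangentSpace R := fun r => (maximalIdeal R).toCotangent ⟨_, hmem r⟩
  have hιadd : ∀ r r', ι (r + r') = ι r + ι r' := fun r r' => by
    show _ = (maximalIdeal R).toCotangent _ + (maximalIdeal R).toCotangent _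
    rw [← map_add, Ideal.toCotangent_eq]
    show r + r' - sL (residue R (r + r')) - ((r - sL (residue R r)) + (r' - sL (residue R r'))) ∈ _
    rw [← Ideal.Quotient.eq_zero_iff_mem]
    simp only [map_sub, map_add, hsL]
    ring
  have hιmul : ∀ r r', ι (r * r') = r • ι r' + r' • ι r := fun r r' => by
    show (maximalIdeal R).toCotangent _ = r • (maximalIdeal R).toCotangent _ + r' • (maximalIdeal R).toCotangent _
    rw [← map_smul, ← map_smul, ← map_add, Ideal.toCotangent_eq]
    show r * r' - sL (residue R (r * r')) - (r * (r' - sL (residue R r')) + r' * (r - sL (residue R r))) ∈ _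
    have h1 : sL (residue R r) * sL (residue R r') - sL (residue R (r * r')) ∈ maximalIdeal R ^ 2 := by
      rw [← Ideal.Quotient.eq_zero_iff_mem]
      simp only [map_sub, map_mul, hsL, sub_self]
    have h2 : (r - sL (residue R r)) * (r' - sL (residue R r')) ∈ maximalIdeal R ^ 2 := by
      rw [pow_two]; exact Ideal.mul_mem_mul (hmem r) (hmem r')
    convert sub_mem h1 h2 using 1
    ring
  have hιg : ι g = (maximalIdeal R).toCotangent ⟨g, hgm'⟩ := by
    rw [Ideal.toCotangent_eq]
    show g - sL (residue R g) - g ∈ _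
    rw [(residue_eq_zero_iff _).mpr hgm', ← Ideal.Quotient.eq_zero_iff_mem]
    simp [hsL]
  have hne : (maximalIdeal R).toCotangent ⟨g, hgm'⟩ ≠ 0 := fun h => hgsq ((Ideal.toCotangent_eq_zero _ _).mp h)
  obtain ⟨ℓ, hℓ⟩ := not_forall.mp fun h => hne ((Module.forall_dual_apply_eq_zero_iff KR _).mp h)
  let δ₀ : R →+ KR := AddMonoidHom.mk' (fun r => ℓ (ι r)) fun r r' => by rw [hιadd, map_add]
  letI : Algebra ℤ R := Ring.toIntAlgebra R
  let δ : Derivation ℤ R KR := Derivation.mk' δ₀.toIntLinearMap fun r r' => by
    show ℓ (ι (r * r')) = r • ℓ (ι r') + r' • ℓ (ι r)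
    rw [hιmul, map_add, ← algebraMap_smul KR r (ι r'), ← algebraMap_smul KR r' (ι r), map_smul, map_smul,
      algebraMap_smul, algebraMap_smul]
  exact ⟨δ, fun h0 => hℓ (by rw [← hιg]; exact h0)⟩

/-- A derivation into the residue field normalised on an element whose `p`-th root keeps the algebra regular. -/
theorem exists_derivation_residue_radical (k L A : Type u) [Field k] [Field L] [CommRing A] [IsLocalRing A]
    [IsNoetherianRing A] [Algebra k L] [Algebra k A] (p : ℕ) [hp : Fact p.Prime] [CharP k p] {b : k}
    (hb : ∀ e, e ^ p ≠ b) {x : L} (hx : x ^ p = algebraMap k L b) (hgen : IntermediateField.adjoin k {x} = ⊤)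
    (hreg : IsRegularRing (L ⊗[k] A)) :
    ∃ E : Derivation ℤ A (ResidueField A), E (algebraMap k A b) = 1 := by
  classical
  obtain ⟨π, hsur, hπC, hπX, hker⟩ := exists_radical_presentation k L A p hb hx hgen
  have hloc : IsLocalRing (L ⊗[k] A) := isLocalRing_radical k L A p hb hx hgen
  let A2 := L ⊗[k] A
  have : IsRegularLocalRing A2 := IsRegularLocalRing.of_isRegularRing_of_isLocalRing _
  let P := (maximalIdeal A2).comap π
  have : P.IsPrime := Ideal.IsPrime.comap _
  let R := Localization.AtPrime P
  let θ : R →+* A2 := IsLocalization.lift (M := P.primeCompl) (g := π) fun y => IsLocalRing.notMem_maximalIdeal.mp y.2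
  have hθ : ∀ f, θ (algebraMap A[X] R f) = π f := fun f => IsLocalization.lift_eq _ _
  have hθs : Function.Surjective θ := fun z => ⟨algebraMap A[X] R (hsur z).choose, by rw [hθ]; exact (hsur z).choose_spec⟩
  let g : A[X] := X ^ p - C (algebraMap k A b)
  have hgm : g.Monic := monic_X_pow_sub_C _ hp.out.ne_zero
  have hgP : g ∈ P := by
    show π g ∈ maximalIdeal A2
    have : π g = 0 := RingHom.mem_ker.mp (hker ▸ Ideal.mem_span_singleton_self g)
    rw [this]; exact zero_mem _
  have hkerθ : ∀ z, θ z = 0 → z ∈ Ideal.span {algebraMap A[X] R g} := by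
    intro z hz
    obtain ⟨⟨f, s⟩, hfs⟩ := IsLocalization.surj P.primeCompl z
    have h1 : π f = 0 := by rw [← hθ, ← hfs, map_mul, hz, zero_mul]
    rw [← RingHom.mem_ker, hker, Ideal.mem_span_singleton] at h1
    refine (Ideal.mul_unit_mem_iff_mem _ (IsLocalization.map_units R s)).mp ?_
    rw [hfs, Ideal.mem_span_singleton]
    exact map_dvd _ h1
  -- `P` lies over the maximal ideal
  letI : Algebra A A2 := Algebra.TensorProduct.rightAlgebra
  have : Module.Finite k L := by
    have hint : IsIntegral k x := ⟨X ^ p - C b, monic_X_pow_sub_C b hp.out.ne_zero, by simp [hx]⟩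
    have := IntermediateField.adjoin.finiteDimensional hint
    rw [hgen] at this
    exact Module.Finite.equiv (IntermediateField.topEquiv (F := k) (E := L)).toLinearEquiv
  have : Module.Finite A A2 := Module.Finite.equiv (Algebra.TensorProduct.commRight k A L).toLinearEquiv
  have : Algebra.IsIntegral A A2 := Algebra.IsIntegral.of_finite _ _
  have halg : ∀ a, algebraMap A A2 a = π (C a) := fun a => (hπC a).symm
  have hPA : P.comap C = maximalIdeal A := by
    have h1 := eq_maximalIdeal (Ideal.isMaximal_comap_of_isIntegral_of_isMaximal (R := A) (maximalIdeal A2))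
    rw [← h1]
    ext a
    show π (C a) ∈ maximalIdeal A2 ↔ algebraMap A A2 a ∈ maximalIdeal A2
    rw [halg]
  have hinj : Function.Injective (algebraMap A A2) :=
    Algebra.TensorProduct.includeRight_injective (algebraMap k L).injective
  obtain ⟨d, hd⟩ := exists_dim_eq_nat A
  have hdim2 : ringKrullDim A2 = d := ((dim_int A A2).2 hinj).trans hd
  -- `R` has larger dimension
  have hdimR : ((d + 1 : ℕ) : WithBot ℕ∞) ≤ ringKrullDim R := by
    rw [IsLocalization.AtPrime.ringKrullDim_eq_height P R]
    have hlt : (maximalIdeal A).map C < P := by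
      refine lt_of_le_not_ge (Ideal.map_le_iff_le_comap.mpr hPA.ge) fun hle => ?_
      have := Ideal.mem_map_C_iff.mp (hle hgP) p
      rw [show g.coeff p = 1 by simp [g, coeff_C, hp.out.ne_zero]] at this
      exact (maximalIdeal.isMaximal A).ne_top ((Ideal.eq_top_iff_one _).mpr this)
    have : ((maximalIdeal A).map (C : A →+* A[X])).IsPrime := Ideal.isPrime_map_C_of_isPrime
    have h1 := Ideal.height_strict_mono_of_isPrime_of_isPrime hlt
    rw [Polynomial.height_map_C] at h1
    have h2 : (maximalIdeal A).height = (d : ℕ∞) := by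
      have := maximalIdeal_height_eq_ringKrullDim (R := A)
      rw [hd] at this
      exact WithBot.coe_injective this
    rw [h2] at h1
    have h3 : ((d + 1 : ℕ) : ℕ∞) ≤ P.height := by
      rw [Nat.cast_add, Nat.cast_one]
      exact Order.add_one_le_of_lt h1
    exact WithBot.coe_le_coe.mpr h3
  -- the equation is not in the square of the maximal ideal
  have hgsq : algebraMap A[X] R g ∉ maximalIdeal R ^ 2 := by
    intro hg2
    obtain ⟨s, hs, hspan⟩ := Submodule.FG.exists_span_finset_card_eq_spanFinrank (IsNoetherian.noetherian (maximalIdeal A2))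
    choose lft hlft using hθs
    have hθloc : ∀ z, θ z ∈ maximalIdeal A2 → z ∈ maximalIdeal R := fun z hz =>
      (IsLocalRing.mem_maximalIdeal _).mpr fun hu => (IsLocalRing.mem_maximalIdeal _).mp hz (hu.map θ)
    have hle : maximalIdeal R ≤ Ideal.span ↑(s.image lft) := by
      refine Submodule.le_of_le_smul_of_le_jacobson_bot (IsNoetherian.noetherian _) (maximalIdeal_le_jacobson ⊥) ?_
      intro z hz
      have hθz : θ z ∈ maximalIdeal A2 := (IsLocalRing.mem_maximalIdeal _).mpr fun hu => by
        obtain ⟨w, hw⟩ := hu.exists_right_inv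
        have h1 := hkerθ (z * lft w - 1) (by rw [map_sub, map_mul, hlft, hw, map_one, sub_self])
        rw [Ideal.mem_span_singleton'] at h1
        obtain ⟨c, hc⟩ := h1
        have h2 : (1 : R) ∈ maximalIdeal R := by
          have := sub_mem (Ideal.mul_mem_right (lft w) _ hz)
            (Ideal.mul_mem_left _ c (Ideal.pow_le_self two_ne_zero hg2))
          rwa [hc, sub_sub_cancel] at this
        exact (maximalIdeal.isMaximal R).ne_top ((Ideal.eq_top_iff_one _).mpr h2)
      have hmem : θ z ∈ (Ideal.span (↑(s.image lft) : Set R)).map θ := by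
        rw [Ideal.map_span, Finset.coe_image, ← Set.image_comp, show θ ∘ lft = id from funext hlft, Set.image_id]
        exact hspan.ge hθz
      obtain ⟨y, hy, hyz⟩ := (Ideal.mem_map_iff_of_surjective θ (fun z => ⟨lft z, hlft z⟩)).mp hmem
      have h1 := hkerθ (z - y) (by rw [map_sub, hyz, sub_self])
      refine Submodule.mem_sup.mpr ⟨y, hy, z - y, ?_, add_sub_cancel _ _⟩
      rw [smul_eq_mul, ← pow_two]
      obtain ⟨c, hc⟩ := Ideal.mem_span_singleton'.mp h1
      rw [← hc]
      exact Ideal.mul_mem_left _ c hg2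
    have heq : Ideal.span ↑(s.image lft) = maximalIdeal R := le_antisymm (Ideal.span_le.mpr fun z hz => by
      obtain ⟨a, ha, rfl⟩ := Finset.mem_image.mp (Finset.mem_coe.mp hz)
      exact hθloc _ (by rw [hlft]; exact hspan.le (Submodule.subset_span ha))) hle
    have h1 : (maximalIdeal R).spanFinrank ≤ (s.image lft).card := by
      rw [← heq]
      exact (Submodule.spanFinrank_span_le_ncard_of_finite (Finset.finite_toSet _)).trans (Set.ncard_coe_finset _).le
    have h2 : (maximalIdeal A2).spanFinrank = d := by
      have := IsRegularLocalRing.spanFinrank_maximalIdeal (R := A2)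
      rw [hdim2] at this
      exact_mod_cast this
    have h3 := hdimR.trans (ringKrullDim_le_spanFinrank_maximalIdeal (R := R))
    have h4 : d + 1 ≤ (maximalIdeal R).spanFinrank := by exact_mod_cast h3
    have h5 := Finset.card_image_le (s := s) (f := lft)
    omega
  -- the cotangent derivation
  let KR := ResidueField R
  have : CharP R p := by
    refine (CharP.charP_iff_prime_eq_zero hp.out).mpr ?_
    rw [← map_natCast ((algebraMap A[X] R).comp (C.comp (algebraMap k A))), CharP.cast_eq_zero, map_zero]
  have hgm' : algebraMap A[X] R g ∈ maximalIdeal R := by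
    rw [← Localization.AtPrime.map_eq_maximalIdeal]; exact Ideal.mem_map_of_mem _ hgP
  letI : Algebra ℤ R := Ring.toIntAlgebra R
  obtain ⟨δ, hδ⟩ := exists_derivation_residue_ne_zero R p hgm' hgsq
  have : CharP KR p := by
    refine (CharP.charP_iff_prime_eq_zero hp.out).mpr ?_
    rw [← map_natCast (residue R), CharP.cast_eq_zero, map_zero]
  -- restrict to `A`
  let φ : A →+* R := (algebraMap A[X] R).comp C
  have : IsLocalHom φ := ⟨fun a ha => by
    refine IsLocalRing.notMem_maximalIdeal.mp fun ha' => ?_
    rw [← hPA] at ha'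
    exact (IsLocalization.AtPrime.isUnit_to_map_iff R P (C a)).mp ha ha'⟩
  have hc0 : δ (φ (algebraMap k A b)) ≠ 0 := by
    intro h0
    refine hδ ?_
    show δ (algebraMap A[X] R (X ^ p - C (algebraMap k A b))) = 0
    rw [map_sub, map_pow, map_sub, δ.leibniz_pow, ← Nat.cast_smul_eq_nsmul KR, CharP.cast_eq_zero, zero_smul, zero_sub]
    rw [show δ (algebraMap A[X] R (C (algebraMap k A b))) = 0 from h0, neg_zero]
  obtain ⟨π0, hπ0, hπ01⟩ := exists_semilinear_functional (ResidueField.map φ) hc0
  letI : Algebra ℤ A := Ring.toIntAlgebra A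
  let E₀ : A →+ ResidueField A := AddMonoidHom.mk' (fun a => π0 (δ (φ a))) fun a c => by simp only [map_add]
  refine ⟨Derivation.mk' E₀.toIntLinearMap fun a c => ?_, hπ01⟩
  show π0 (δ (φ (a * c))) = a • π0 (δ (φ c)) + c • π0 (δ (φ a))
  have hsm : ∀ (a : A) (z : KR), π0 (φ a • z) = a • π0 z := fun a z => by
    rw [Algebra.smul_def (φ a) z, Algebra.smul_def a (π0 z)]
    exact hπ0 (residue A a) z
  rw [map_mul, δ.leibniz, map_add, hsm, hsm]

/-- Derivations extend to a radical extension when they kill the radicand. -/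
theorem exists_derivation_radical_module (k L V : Type u) [Field k] [Field L] [Field V] [Algebra k L] [Algebra L V]
    [Algebra k V] [IsScalarTower k L V] (p : ℕ) [hp : Fact p.Prime] [CharP k p] {b : k} (hb : ∀ e, e ^ p ≠ b) {x : L}
    (hx : x ^ p = algebraMap k L b) (hgen : IntermediateField.adjoin k {x} = ⊤) (D : Derivation ℤ k V) (hD : D b = 0) :
    ∃ D' : Derivation ℤ L V, ∀ a, D' (algebraMap k L a) = D a := by
  obtain ⟨hs, hk⟩ := radical_aeval p hb hx hgen
  have : CharP V p := charP_of_injective_algebraMap (algebraMap k V).injective p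
  let g : k →+* TrivSqZeroExt V V :=
    { toFun := fun a => TrivSqZeroExt.inl (algebraMap k V a) + TrivSqZeroExt.inr (D a)
      map_one' := by simp
      map_mul' := fun a c => TrivSqZeroExt.ext
        (by simp only [TrivSqZeroExt.fst_add, TrivSqZeroExt.fst_inl, TrivSqZeroExt.fst_inr, add_zero, TrivSqZeroExt.fst_mul, map_mul])
        (by simp only [TrivSqZeroExt.snd_add, TrivSqZeroExt.snd_inl, TrivSqZeroExt.snd_inr, zero_add, TrivSqZeroExt.snd_mul,
              TrivSqZeroExt.fst_add, TrivSqZeroExt.fst_inl, TrivSqZeroExt.fst_inr, add_zero, op_smul_eq_smul,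
              D.leibniz, algebraMap_smul])
      map_zero' := by simp
      map_add' := fun a c => TrivSqZeroExt.ext
        (by simp only [TrivSqZeroExt.fst_add, TrivSqZeroExt.fst_inl, TrivSqZeroExt.fst_inr, add_zero, map_add])
        (by simp only [TrivSqZeroExt.snd_add, TrivSqZeroExt.snd_inl, TrivSqZeroExt.snd_inr, zero_add, map_add]) }
  let ev : k[X] →+* TrivSqZeroExt V V := eval₂RingHom g (TrivSqZeroExt.inl (algebraMap L V x))
  have hev : RingHom.ker (aeval (R := k) x).toRingHom ≤ RingHom.ker ev := fun f hf => by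
    obtain ⟨h, rfl⟩ := (hk f).mp hf
    have h0 : ev (X ^ p - C b) = 0 := by
      show eval₂ g _ (X ^ p - C b) = 0
      rw [eval₂_sub, eval₂_pow, eval₂_X, eval₂_C, TrivSqZeroExt.inl_pow, ← map_pow, hx,
        ← IsScalarTower.algebraMap_apply]
      show TrivSqZeroExt.inl (algebraMap k V b) - (TrivSqZeroExt.inl (algebraMap k V b) + TrivSqZeroExt.inr (D b)) = 0
      rw [hD, TrivSqZeroExt.inr_zero, add_zero, sub_self]
    rw [RingHom.mem_ker, map_mul, h0, zero_mul]
  let F : L →+* TrivSqZeroExt V V := RingHom.liftOfSurjective (aeval (R := k) x).toRingHom hs ⟨ev, hev⟩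
  have hF : ∀ f : k[X], F (aeval x f) = ev f := fun f => RingHom.liftOfRightInverse_comp_apply _ _ _ ⟨ev, hev⟩ f
  have hfst : ∀ l, TrivSqZeroExt.fst (F l) = algebraMap L V l := fun l => by
    obtain ⟨f, rfl⟩ := hs l
    rw [hF]
    have : (TrivSqZeroExt.fstHom V V V).toRingHom.comp ev = (algebraMap L V).comp (aeval (R := k) x).toRingHom := by
      refine Polynomial.ringHom_ext (fun c => ?_) ?_
      · show TrivSqZeroExt.fst (eval₂ g _ (C c)) = algebraMap L V (aeval x (C c))
        rw [eval₂_C, aeval_C, ← IsScalarTower.algebraMap_apply]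
        show TrivSqZeroExt.fst (TrivSqZeroExt.inl (algebraMap k V c) + TrivSqZeroExt.inr (D c)) = _
        simp only [TrivSqZeroExt.fst_add, TrivSqZeroExt.fst_inl, TrivSqZeroExt.fst_inr, add_zero]
      · show TrivSqZeroExt.fst (eval₂ g _ X) = algebraMap L V (aeval x X)
        rw [eval₂_X, aeval_X, TrivSqZeroExt.fst_inl]
    exact RingHom.congr_fun this f
  letI : Algebra ℤ L := Ring.toIntAlgebra L
  let D₀ : L →+ V := AddMonoidHom.mk' (fun l => TrivSqZeroExt.snd (F l)) fun a c => by rw [map_add, TrivSqZeroExt.snd_add]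
  refine ⟨Derivation.mk' D₀.toIntLinearMap fun a c => ?_, fun a => ?_⟩
  · show TrivSqZeroExt.snd (F (a * c)) = a • TrivSqZeroExt.snd (F c) + c • TrivSqZeroExt.snd (F a)
    rw [map_mul, TrivSqZeroExt.snd_mul, hfst, hfst, op_smul_eq_smul, algebraMap_smul, algebraMap_smul]
  · show TrivSqZeroExt.snd (F (algebraMap k L a)) = D a
    rw [← aeval_C (R := k) x, hF]
    show TrivSqZeroExt.snd (eval₂ g _ (C a)) = D a
    rw [eval₂_C]
    show TrivSqZeroExt.snd (TrivSqZeroExt.inl (algebraMap k V a) + TrivSqZeroExt.inr (D a)) = _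
    simp only [TrivSqZeroExt.snd_add, TrivSqZeroExt.snd_inl, TrivSqZeroExt.snd_inr, zero_add]

/-- Prescribing a derivation into the residue field on finitely many elements. -/
theorem exists_derivation_eq_on_list (p : ℕ) [hp : Fact p.Prime] : ∀ (n : ℕ) (k : Type u) [Field k] [CharP k p]
    (A : Type u) [CommRing A] [IsLocalRing A] [IsNoetherianRing A] [Algebra k A] (S : Subfield k),
    (∀ z : k, z ^ p ∈ S) → RootsRegular p S A → ∀ (T : List k), T.length = n → (∀ t ∈ T, t ∈ S) →
    ∀ D : Derivation ℤ k (ResidueField A), ∃ E : Derivation ℤ A (ResidueField A),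
      ∀ t ∈ T, E (algebraMap k A t) = D t := by
  intro n
  induction n with
  | zero =>
    intro k _ _ A _ _ _ _ S _ _ T hT _ D
    refine ⟨0, fun t ht => ?_⟩
    rw [List.length_eq_zero_iff] at hT
    simp [hT] at ht
  | succ n ih =>
    intro k _ _ A _ _ _ _ S hS hA T hT hTS D
    obtain ⟨b, T', rfl⟩ := List.exists_cons_of_length_eq_add_one hT
    have hT' : T'.length = n := by simpa using hT
    have hTS' : ∀ t ∈ T', t ∈ S := fun t ht => hTS t (List.mem_cons_of_mem _ ht)
    have : CharP (ResidueField A) p := charP_of_injective_algebraMap (algebraMap k (ResidueField A)).injective p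
    by_cases hb : ∃ e, e ^ p = b
    · obtain ⟨e, he⟩ := hb
      obtain ⟨E, hE⟩ := ih k A S hS hA T' hT' hTS' D
      refine ⟨E, fun t ht => ?_⟩
      rcases List.mem_cons.mp ht with rfl | ht
      · rw [← he, map_pow, E.leibniz_pow, D.leibniz_pow, ← Nat.cast_smul_eq_nsmul (ResidueField A),
          ← Nat.cast_smul_eq_nsmul (ResidueField A), CharP.cast_eq_zero, zero_smul, zero_smul]
      · exact hE t ht
    push Not at hb
    have hirr := X_pow_sub_C_irreducible_of_prime hp.out hb
    have := Fact.mk hirr
    let L := AdjoinRoot (X ^ p - C b : k[X])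
    let x : L := AdjoinRoot.root _
    have hx : x ^ p = algebraMap k L b := by
      have h := AdjoinRoot.eval₂_root (X ^ p - C b : k[X])
      rw [eval₂_sub, eval₂_pow, eval₂_X, eval₂_C, sub_eq_zero] at h
      exact h
    have hgen : IntermediateField.adjoin k {x} = ⊤ := by
      refine eq_top_iff.mpr fun z _ => ?_
      exact IntermediateField.algebra_adjoin_le_adjoin k _ (by rw [AdjoinRoot.adjoinRoot_eq_top]; trivial)
    have hfin : Module.Finite k L := (AdjoinRoot.powerBasis hirr.ne_zero).finite
    have : CharP L p := charP_of_injective_algebraMap (algebraMap k L).injective p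
    have hSL : ∀ z : L, z ^ p ∈ S.map (algebraMap k L) := by
      intro z
      obtain ⟨f, rfl⟩ := (radical_aeval p hb hx hgen).1 z
      induction f using Polynomial.induction_on' with
      | add f g hf hg => rw [map_add, add_pow_char]; exact add_mem hf hg
      | monomial m c =>
        rw [aeval_monomial, mul_pow, ← pow_mul, mul_comm m p, pow_mul, hx, ← map_pow, ← map_pow, ← map_mul]
        exact ⟨_, S.mul_mem (hS c) (S.pow_mem (hTS b (List.mem_cons_self ..)) m), rfl⟩
    let A2 := L ⊗[k] A
    have hloc : IsLocalRing A2 := isLocalRing_radical k L A p hb hx hgen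
    have : IsNoetherianRing A2 := by
      obtain ⟨π, hsur, -, -, -⟩ := exists_radical_presentation k L A p hb hx hgen
      exact isNoetherianRing_of_surjective _ _ π hsur
    obtain ⟨E1, hE1⟩ := exists_derivation_residue_radical k L A p hb hx hgen (hA L hfin hSL)
    letI : Algebra A A2 := Algebra.TensorProduct.rightAlgebra
    have hcompat : ∀ a : k, algebraMap A A2 (algebraMap k A a) = algebraMap L A2 (algebraMap k L a) := fun a => by
      show (1 : L) ⊗ₜ[k] algebraMap k A a = algebraMap k L a ⊗ₜ[k] (1 : A)
      rw [Algebra.algebraMap_eq_smul_one, Algebra.algebraMap_eq_smul_one, TensorProduct.smul_tmul]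
    have : IsScalarTower k A A2 := IsScalarTower.of_algebraMap_eq fun a => by
      rw [hcompat, ← IsScalarTower.algebraMap_apply]
    have : Module.Finite A A2 := Module.Finite.equiv (Algebra.TensorProduct.commRight k A L).toLinearEquiv
    have : IsLocalHom (algebraMap A A2) := ((IsLocalRing.local_hom_TFAE _).out 0 2).mpr map_le_maximalIdeal_of_finite
    have : IsScalarTower k (ResidueField A) (ResidueField A2) := IsScalarTower.of_algebraMap_eq fun a => by
      rw [IsScalarTower.algebraMap_apply k A (ResidueField A), IsScalarTower.algebraMap_apply k A (ResidueField A2)]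
      rfl
    let D' : Derivation ℤ k (ResidueField A) := D - D b • (E1.compAlgebraMap k)
    have hD'b : D' b = 0 := by
      show D b - D b • E1 (algebraMap k A b) = 0
      rw [hE1, smul_eq_mul, mul_one, sub_self]
    letI : Algebra ℤ k := Ring.toIntAlgebra k
    let D2₀ : k →+ ResidueField A2 := (algebraMap (ResidueField A) (ResidueField A2)).toAddMonoidHom.comp
      (D' : k →ₗ[ℤ] ResidueField A).toAddMonoidHom
    let D2 : Derivation ℤ k (ResidueField A2) := Derivation.mk' D2₀.toIntLinearMap fun a c => by
      show algebraMap (ResidueField A) (ResidueField A2) (D' (a * c)) =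
        a • algebraMap (ResidueField A) (ResidueField A2) (D' c) + c • algebraMap (ResidueField A) (ResidueField A2) (D' a)
      rw [D'.leibniz]
      simp only [Algebra.smul_def, map_add, map_mul, ← IsScalarTower.algebraMap_apply]
    have hD2 : ∀ a, D2 a = algebraMap (ResidueField A) (ResidueField A2) (D' a) := fun a => rfl
    obtain ⟨D1, hD1⟩ := exists_derivation_radical_module k L (ResidueField A2) p hb hx hgen D2
      (by rw [hD2, hD'b, map_zero])
    obtain ⟨E', hE'⟩ := ih L A2 (S.map (algebraMap k L)) hSL (by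
      intro k' _ _ hfin' hroots
      letI : Algebra k k' := ((algebraMap L k').comp (algebraMap k L)).toAlgebra
      have : IsScalarTower k L k' := IsScalarTower.of_algebraMap_eq fun _ => rfl
      have hreg := hA k' (Module.Finite.trans L k') fun z => by
        rw [show algebraMap k k' = (algebraMap L k').comp (algebraMap k L) from rfl, ← Subfield.map_map]
        exact hroots z
      exact IsRegularRing.of_ringEquiv (Algebra.TensorProduct.cancelBaseChange k L L k' A).symm.toRingEquiv)
      (T'.map (algebraMap k L)) (by simpa using hT')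
      (fun t ht => by
        obtain ⟨a, ha, rfl⟩ := List.mem_map.mp ht
        exact ⟨a, hTS' a ha, rfl⟩) D1
    obtain ⟨r, hr⟩ := (Algebra.linearMap (ResidueField A) (ResidueField A2)).exists_leftInverse_of_injective
      (LinearMap.ker_eq_bot.mpr (algebraMap (ResidueField A) (ResidueField A2)).injective)
    letI : Algebra ℤ A := Ring.toIntAlgebra A
    let E₀ : A →+ ResidueField A := AddMonoidHom.mk' (fun a => r (E' (algebraMap A A2 a))) fun a c => by simp only [map_add]
    let E : Derivation ℤ A (ResidueField A) := Derivation.mk' E₀.toIntLinearMap fun a c => by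
      show r (E' (algebraMap A A2 (a * c))) = a • r (E' (algebraMap A A2 c)) + c • r (E' (algebraMap A A2 a))
      have hsm : ∀ (a : A) (z : ResidueField A2), algebraMap A A2 a • z = residue A a • z := fun a z => by
        rw [Algebra.smul_def (residue A a) z, Algebra.smul_def (algebraMap A A2 a) z]
        congr 1
      rw [map_mul, E'.leibniz, hsm, hsm, map_add, map_smul, map_smul]
      simp only [Algebra.smul_def]; rfl
    refine ⟨E + D b • E1, fun t ht => ?_⟩
    show r (E' (algebraMap A A2 (algebraMap k A t))) + D b • E1 (algebraMap k A t) = D t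
    rcases List.mem_cons.mp ht with rfl | ht
    · have h0 : E' (algebraMap A A2 (algebraMap k A t)) = 0 := by
        have : CharP (ResidueField A2) p := charP_of_injective_algebraMap (algebraMap k (ResidueField A2)).injective p
        rw [hcompat, ← hx, map_pow, E'.leibniz_pow, ← Nat.cast_smul_eq_nsmul (ResidueField A2), CharP.cast_eq_zero,
          zero_smul]
      rw [h0, map_zero, zero_add, hE1, smul_eq_mul, mul_one]
    · rw [hcompat, hE' _ (List.mem_map_of_mem ht), hD1, hD2]
      rw [show r (algebraMap (ResidueField A) (ResidueField A2) (D' t)) = D' t from LinearMap.congr_fun hr _]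
      show D t - D b • E1 (algebraMap k A t) + _ = _
      rw [sub_add_cancel]

/-- Prescribed values on finitely many elements give extensions of derivations. -/
theorem exists_derivation_extend_of_finset {k A : Type u} [Field k] [CommRing A] [IsLocalRing A] [Algebra k A]
    (h : ∀ (T : Finset k) (D : Derivation ℤ k (ResidueField A)), ∃ E : Derivation ℤ A (ResidueField A),
      ∀ t ∈ T, E (algebraMap k A t) = D t) (D : Derivation ℤ k (ResidueField A)) :
    ∃ E : Derivation ℤ A (ResidueField A), ∀ t, E (algebraMap k A t) = D t := by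
  classical
  let K := ResidueField A
  let W := K ⊗[A] (Ω[A⁄ℤ])
  have hkW : ∀ (a : k) (w : W), a • w = algebraMap k K a • w := fun a w => (algebraMap_smul K a w).symm
  let d₀ : k →+ W := AddMonoidHom.mk' (fun t => 1 ⊗ₜ KaehlerDifferential.D ℤ A (algebraMap k A t)) fun a b => by
    rw [map_add, map_add, TensorProduct.tmul_add]
  let d : Derivation ℤ k W := Derivation.mk' d₀.toIntLinearMap fun a b => by
    show (1 : K) ⊗ₜ[A] _ = a • ((1 : K) ⊗ₜ[A] _) + b • ((1 : K) ⊗ₜ[A] _)
    rw [map_mul, Derivation.leibniz, TensorProduct.tmul_add, TensorProduct.tmul_smul, TensorProduct.tmul_smul,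
      algebraMap_smul, algebraMap_smul]
  let φ : K ⊗[k] (Ω[k⁄ℤ]) →ₗ[K] W := LinearMap.liftBaseChange K d.liftKaehlerDifferential
  have hφ : ∀ t, φ (1 ⊗ₜ KaehlerDifferential.D ℤ k t) = 1 ⊗ₜ KaehlerDifferential.D ℤ A (algebraMap k A t) := fun t => by
    show LinearMap.liftBaseChange K d.liftKaehlerDifferential _ = _
    rw [LinearMap.liftBaseChange_tmul, one_smul, Derivation.liftKaehlerDifferential_comp_D]
    rfl
  have hinj : LinearMap.ker φ = ⊥ := by
    rw [LinearMap.ker_eq_bot']
    intro z hz
    have hspan : z ∈ Submodule.span K (Set.range fun t : k => (1 : K) ⊗ₜ[k] KaehlerDifferential.D ℤ k t) := by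
      clear hz
      induction z using TensorProduct.induction_on with
      | zero => exact zero_mem _
      | add a b ha hb => exact add_mem ha hb
      | tmul c ω =>
        have hω : ω ∈ Submodule.span k (Set.range (KaehlerDifferential.D ℤ k)) := by
          rw [KaehlerDifferential.span_range_derivation]; trivial
        induction hω using Submodule.span_induction with
        | mem y hy =>
          obtain ⟨t, rfl⟩ := hy
          rw [show c ⊗ₜ[k] KaehlerDifferential.D ℤ k t = c • ((1 : K) ⊗ₜ[k] KaehlerDifferential.D ℤ k t) by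
            rw [TensorProduct.smul_tmul', smul_eq_mul, mul_one]]
          exact Submodule.smul_mem _ _ (Submodule.subset_span ⟨t, rfl⟩)
        | zero => rw [TensorProduct.tmul_zero]; exact zero_mem _
        | add a b _ _ ha hb => rw [TensorProduct.tmul_add]; exact add_mem ha hb
        | smul a y _ hy =>
          rw [TensorProduct.tmul_smul, ← algebraMap_smul K a]
          exact Submodule.smul_mem _ _ hy
    obtain ⟨T, hT⟩ := Submodule.mem_span_finite_of_mem_span hspan
    refine (Module.forall_dual_apply_eq_zero_iff K z).mp fun ℓ => ?_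
    let D₀ : Derivation ℤ k K := ((ℓ.restrictScalars k).comp ((TensorProduct.mk k K _) 1)).compDer (KaehlerDifferential.D ℤ k)
    obtain ⟨T', hT'⟩ : ∃ T' : Finset k, T = T'.image (fun t : k => (1 : K) ⊗ₜ[k] KaehlerDifferential.D ℤ k t) := by
      choose pre hpre using fun y : T => hT.1 y.2
      refine ⟨T.attach.image pre, ?_⟩
      rw [Finset.image_image]
      ext y
      simp only [Finset.mem_image, Finset.mem_attach, true_and, Function.comp_apply]
      exact ⟨fun hy => ⟨⟨y, hy⟩, hpre _⟩, fun ⟨z, hz⟩ => hz ▸ (congrArg (· ∈ T) (hpre z)).mpr z.2⟩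
    obtain ⟨E, hE⟩ := h T' D₀
    let μ : W →ₗ[K] K := LinearMap.liftBaseChange K E.liftKaehlerDifferential
    have hμ : ∀ y ∈ Submodule.span K ((fun t : k => (1 : K) ⊗ₜ[k] KaehlerDifferential.D ℤ k t) '' ↑T'), μ (φ y) = ℓ y := by
      intro y hy
      refine LinearMap.eqOn_span (f := μ.comp φ) (g := ℓ) ?_ hy
      rintro _ ⟨t, ht, rfl⟩
      show μ (φ (1 ⊗ₜ KaehlerDifferential.D ℤ k t)) = _
      rw [hφ, LinearMap.liftBaseChange_tmul, one_smul, Derivation.liftKaehlerDifferential_comp_D, hE t ht]
      rfl
    rw [← hμ z (by rw [← Finset.coe_image, ← hT']; exact hT.2), hz, map_zero]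
  obtain ⟨ν, hν⟩ := φ.exists_leftInverse_of_injective hinj
  let ℓ : K ⊗[k] (Ω[k⁄ℤ]) →ₗ[K] K := LinearMap.liftBaseChange K D.liftKaehlerDifferential
  refine ⟨(((ℓ.comp ν).restrictScalars A).comp ((TensorProduct.mk A K _) 1)).compDer (KaehlerDifferential.D ℤ A), fun t => ?_⟩
  show ℓ (ν (1 ⊗ₜ KaehlerDifferential.D ℤ A (algebraMap k A t))) = D t
  rw [← hφ, show ν (φ _) = _ from LinearMap.congr_fun hν _]
  show ℓ (1 ⊗ₜ KaehlerDifferential.D ℤ k t) = D t
  rw [LinearMap.liftBaseChange_tmul, one_smul, Derivation.liftKaehlerDifferential_comp_D]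

/-- Regularity after adjoining `p`-th roots implies formal smoothness. -/
theorem isAdicFormallySmooth_of_rootsRegular {k A : Type u} [Field k] (p : ℕ) [hpc : ExpChar k p] [CommRing A]
    [IsLocalRing A] [IsNoetherianRing A] [Algebra k A]
    (h : ∀ (k' : Type u) [Field k'] [Algebra k k'], Module.Finite k k' →
      (∀ x : k', x ^ p ∈ (algebraMap k k').range) → IsRegularRing (k' ⊗[k] A)) :
    IsAdicFormallySmooth k A (maximalIdeal A) := by
  classical
  have hreg : IsRegularLocalRing A := by
    have := h k inferInstance fun x => ⟨_, Algebra.algebraMap_self_apply _⟩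
    have : IsRegularRing A := IsRegularRing.of_ringEquiv (Algebra.TensorProduct.lid k A).toRingEquiv
    exact IsRegularLocalRing.of_isRegularRing_of_isLocalRing _
  cases hpc with
  | zero =>
    have : PerfectField k := PerfectField.ofCharZero
    exact isAdicFormallySmooth_of_perfectField k A
  | @prime q hq =>
    have : Fact p.Prime := ⟨hq⟩
    letI : Algebra (ULift.{u} (ZMod p)) k :=
      ((ZMod.castHom (dvd_refl p) k).comp ULift.ringEquiv.toRingHom).toAlgebra
    letI : Algebra (ULift.{u} (ZMod p)) A := ((algebraMap k A).comp (algebraMap (ULift.{u} (ZMod p)) k)).toAlgebra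
    have : IsScalarTower (ULift.{u} (ZMod p)) k A := IsScalarTower.of_algebraMap_eq fun _ => rfl
    have : Finite (ULift.{u} (ZMod p)) := Finite.of_equiv (ZMod p) Equiv.ulift.symm
    have : PerfectField (ULift.{u} (ZMod p)) := PerfectField.ofFinite
    refine isAdicFormallySmooth_of_forall_derivation (ULift.{u} (ZMod p)) k A
      (exists_derivation_extend_of_finset fun T D => ?_)
    obtain ⟨E, hE⟩ := exists_derivation_eq_on_list p T.toList.length k A ⊤ (fun _ => trivial)
      (fun k' _ _ hfin hroots => h k' hfin fun x => by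
        obtain ⟨a, -, ha⟩ := hroots x
        exact ⟨a, ha⟩)
      T.toList rfl (fun _ _ => trivial) D
    exact ⟨E, fun t ht => hE t (Finset.mem_toList.mpr ht)⟩

end Groth.Agent.H05EGA4
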