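import Mathlib
import Groth.Agent.H05EGA4.RootsRegular
import Groth.Agent.H05EGA4.FSBaseChange

/-!
# Differential criterion for adic formal smoothness over a field (helper5)
-/

set_option autoImplicit false
set_option linter.style.haveILetI false
set_option maxHeartbeats 400000
universe u
open IsLocalRing TensorProduct Groth.Agent CAlgX

namespace Groth.Agent.H05EGA4

/-- Injectivity of the map on differentials amounts to extending all derivations. -/
theorem injective_lTensor_iff_forall_derivation (k A : Type u) [Field k] [CommRing A] [IsLocalRing A] [Algebra k A] :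
    Function.Injective ((KaehlerDifferential.mapBaseChange ℤ k A).lTensor (ResidueField A)) ↔
      ∀ D : Derivation ℤ k (ResidueField A), ∃ E : Derivation ℤ A (ResidueField A),
        ∀ t, E (algebraMap k A t) = D t := by
  classical
  let K := ResidueField A
  let L := (KaehlerDifferential.mapBaseChange ℤ k A).lTensor K
  let e : K ⊗[A] (A ⊗[k] (Ω[k⁄ℤ])) ≃ₗ[K] K ⊗[k] (Ω[k⁄ℤ]) :=
    TensorProduct.AlgebraTensorModule.cancelBaseChange k A K K (Ω[k⁄ℤ])
  let φ : K ⊗[k] (Ω[k⁄ℤ]) →ₗ[K] K ⊗[A] (Ω[A⁄ℤ]) :=
    ((KaehlerDifferential.mapBaseChange ℤ k A).baseChange K).comp e.symm.toLinearMap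
  have hφ : ∀ t, φ (1 ⊗ₜ KaehlerDifferential.D ℤ k t) = 1 ⊗ₜ KaehlerDifferential.D ℤ A (algebraMap k A t) := fun t => by
    show ((KaehlerDifferential.mapBaseChange ℤ k A).baseChange K) (e.symm (1 ⊗ₜ KaehlerDifferential.D ℤ k t)) = _
    rw [TensorProduct.AlgebraTensorModule.cancelBaseChange_symm_tmul, LinearMap.baseChange_tmul,
      KaehlerDifferential.mapBaseChange_tmul, one_smul, KaehlerDifferential.map_D]
  have hiff : Function.Injective L ↔ Function.Injective φ := by
    constructor
    · intro h x y hxy
      exact e.symm.injective (h hxy)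
    · intro h x y hxy
      refine e.injective (h ?_)
      show L (e.symm (e x)) = L (e.symm (e y))
      rwa [e.symm_apply_apply, e.symm_apply_apply]
  rw [hiff]
  have hspan : ∀ z : K ⊗[k] (Ω[k⁄ℤ]),
      z ∈ Submodule.span K (Set.range fun t : k => (1 : K) ⊗ₜ[k] KaehlerDifferential.D ℤ k t) := by
    intro z
    induction z using TensorProduct.induction_on with
    | zero => exact zero_mem _
    | add a b ha hb => exact add_mem ha hb
    | tmul c ω =>
      have hω : ω ∈ Submodule.span k (Set.range (KaehlerDifferential.D ℤ k)) := by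
        rw [KaehlerDifferential.span_range_derivation]; trivial
      induction hω using Submodule.span_induction with
      | mem y hy =>
        obtain ⟨t, rfl⟩ := hy
        rw [show c ⊗ₜ[k] KaehlerDifferential.D ℤ k t = c • ((1 : K) ⊗ₜ[k] KaehlerDifferential.D ℤ k t) by
          rw [TensorProduct.smul_tmul', smul_eq_mul, mul_one]]
        exact Submodule.smul_mem _ _ (Submodule.subset_span ⟨t, rfl⟩)
      | zero => rw [TensorProduct.tmul_zero]; exact zero_mem _
      | add a b _ _ ha hb => rw [TensorProduct.tmul_add]; exact add_mem ha hb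
      | smul a y _ hy =>
        rw [TensorProduct.tmul_smul, ← algebraMap_smul K a]
        exact Submodule.smul_mem _ _ hy
  constructor
  · intro h D
    obtain ⟨ν, hν⟩ := φ.exists_leftInverse_of_injective (LinearMap.ker_eq_bot.mpr h)
    let ℓ : K ⊗[k] (Ω[k⁄ℤ]) →ₗ[K] K := LinearMap.liftBaseChange K D.liftKaehlerDifferential
    refine ⟨(((ℓ.comp ν).restrictScalars A).comp ((TensorProduct.mk A K _) 1)).compDer (KaehlerDifferential.D ℤ A),
      fun t => ?_⟩
    show ℓ (ν (1 ⊗ₜ KaehlerDifferential.D ℤ A (algebraMap k A t))) = D t
    rw [← hφ, show ν (φ _) = _ from LinearMap.congr_fun hν _]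
    show ℓ (1 ⊗ₜ KaehlerDifferential.D ℤ k t) = D t
    rw [LinearMap.liftBaseChange_tmul, one_smul, Derivation.liftKaehlerDifferential_comp_D]
  · intro h
    rw [injective_iff_map_eq_zero]
    intro z hz
    refine (Module.forall_dual_apply_eq_zero_iff K z).mp fun ℓ => ?_
    obtain ⟨E, hE⟩ := h (((ℓ.restrictScalars k).comp ((TensorProduct.mk k K _) 1)).compDer (KaehlerDifferential.D ℤ k))
    let μ : K ⊗[A] (Ω[A⁄ℤ]) →ₗ[K] K := LinearMap.liftBaseChange K E.liftKaehlerDifferential
    have hμ : μ.comp φ = ℓ := by
      refine LinearMap.ext fun y => LinearMap.eqOn_span (f := μ.comp φ) (g := ℓ) ?_ (hspan y)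
      rintro _ ⟨t, rfl⟩
      show μ (φ (1 ⊗ₜ KaehlerDifferential.D ℤ k t)) = _
      rw [hφ, LinearMap.liftBaseChange_tmul, one_smul, Derivation.liftKaehlerDifferential_comp_D, hE t]
      rfl
    rw [← hμ, LinearMap.comp_apply, hz, map_zero]

/-- Regularity and extension of derivations give formal smoothness over any field. -/
theorem isAdicFormallySmooth_of_regular_of_derivation {k A : Type u} [Field k] [CommRing A] [IsRegularLocalRing A]
    [Algebra k A]
    (hext : ∀ D : Derivation ℤ k (ResidueField A), ∃ E : Derivation ℤ A (ResidueField A),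
      ∀ t, E (algebraMap k A t) = D t) : IsAdicFormallySmooth k A (maximalIdeal A) := by
  obtain ⟨P, _, _, ⟨i⟩⟩ := exists_perfect_subfield k
  letI : Algebra P k := i.toAlgebra
  letI : Algebra P A := ((algebraMap k A).comp i).toAlgebra
  have : IsScalarTower P k A := IsScalarTower.of_algebraMap_eq fun _ => rfl
  exact isAdicFormallySmooth_of_forall_derivation P k A hext

/-- Derivations extend along formally smooth residue fields and regular local algebras are then formally smooth. -/
theorem isAdicFormallySmooth_of_residue_formallySmooth {k A : Type u} [Field k] [CommRing A] [IsRegularLocalRing A]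
    [Algebra k A] [Algebra.FormallySmooth k (ResidueField A)] : IsAdicFormallySmooth k A (maximalIdeal A) := by
  refine isAdicFormallySmooth_of_regular_of_derivation fun D => ?_
  let K := ResidueField A
  let e : K ≃+* ResidueField K := RingEquiv.ofBijective (residue K) ⟨RingHom.injective _, residue_surjective⟩
  letI : Algebra ℤ k := Ring.toIntAlgebra k
  let D'₀ : k →+ ResidueField K := AddMonoidHom.mk' (fun t => e (D t)) fun a b => by simp only [map_add]
  let D' : Derivation ℤ k (ResidueField K) := Derivation.mk' D'₀.toIntLinearMap fun a b => by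
    show e (D (a * b)) = a • e (D b) + b • e (D a)
    rw [D.leibniz, map_add, Algebra.smul_def, Algebra.smul_def, map_mul, map_mul, Algebra.smul_def, Algebra.smul_def]
    rfl
  obtain ⟨E, hE⟩ := exists_derivation_of_isAdicFormallySmooth
    (isAdicFormallySmooth_of_formallySmooth (maximalIdeal K)) D'
  letI : Algebra ℤ A := Ring.toIntAlgebra A
  let E₀ : A →+ K := AddMonoidHom.mk' (fun a => e.symm (E (residue A a))) fun a b => by simp only [map_add]
  refine ⟨Derivation.mk' E₀.toIntLinearMap fun a b => ?_, fun t => ?_⟩
  · show e.symm (E (residue A (a * b))) = residue A a * e.symm (E (residue A b)) + residue A b * e.symm (E (residue A a))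
    refine e.injective ?_
    rw [map_mul (residue A), E.leibniz]
    simp only [map_add, map_mul, RingEquiv.apply_symm_apply, Algebra.smul_def]
    rfl
  · show e.symm (E (residue A (algebraMap k A t))) = D t
    rw [show residue A (algebraMap k A t) = algebraMap k K t from
      (IsScalarTower.algebraMap_apply k A K t).symm, hE]
    exact e.symm_apply_apply _

/-- A completion isomorphism over the ground field when the residue field is formally smooth. -/
theorem exists_completion_equiv_comp {k A : Type u} [Field k] [CommRing A] [IsLocalRing A] [IsNoetherianRing A]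
    [Algebra k A] [Algebra.FormallySmooth k (ResidueField A)] (h : IsAdicFormallySmooth k A (maximalIdeal A)) :
    ∃ (n : ℕ) (e : AdicCompletion (maximalIdeal A) A ≃+* MvPowerSeries (Fin n) (ResidueField A)),
      ∀ x : k, e (algebraMap A (AdicCompletion (maximalIdeal A) A) (algebraMap k A x)) =
        algebraMap (ResidueField A) (MvPowerSeries (Fin n) (ResidueField A)) (algebraMap k (ResidueField A) x) := by
  let Â := AdicCompletion (maximalIdeal A) A
  have : IsNoetherianRing Â := isNoetherianRing_adicCompletion A (maximalIdeal A)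
  have hcompl : IsAdicComplete (maximalIdeal Â) Â := by
    rw [AdicCompletion.maximalIdeal_eq_map]
    exact AdicCompletion.isAdicComplete_self _ (IsNoetherian.noetherian _)
  have hÂ : IsAdicFormallySmooth k Â (maximalIdeal Â) := by
    rw [AdicCompletion.maximalIdeal_eq_map]
    exact (H02CA.AdicSmooth.iff_adicCompletion (maximalIdeal A) (IsNoetherian.noetherian _)).mp h
  let hres : ResidueField A ≃+* ResidueField Â := RingEquiv.ofBijective (ResidueField.map (algebraMap A Â))
    (AdicCompletion.residueField_map_bijective A)
  let hresK : ResidueField A ≃ₐ[k] ResidueField Â := AlgEquiv.ofRingEquiv (f := hres) fun _ => rfl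
  have : Algebra.FormallySmooth k (ResidueField Â) := Algebra.FormallySmooth.of_equiv hresK
  obtain ⟨σ, hσ⟩ := exists_coefficientField (k := k) (A := Â)
  letI : Algebra (ResidueField Â) Â := σ.toRingHom.toAlgebra
  have : IsScalarTower k (ResidueField Â) Â := IsScalarTower.of_algebraMap_eq fun x => (σ.commutes x).symm
  obtain ⟨n, φ, hsur, hker⟩ := exists_surjective_ker_le_sq (K := ResidueField Â) (B := Â) fun x => ⟨x, hσ x⟩
  have : IsRegularLocalRing (MvPowerSeries (Fin n) (ResidueField Â)) := H02CA.PS.isRegularLocalRing_fin n
  have : IsHausdorff (maximalIdeal (MvPowerSeries (Fin n) (ResidueField Â))) (MvPowerSeries (Fin n) (ResidueField Â)) :=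
    IsHausdorff.of_isLocalRing _ _ (maximalIdeal.isMaximal _).ne_top
  have hinj := injective_of_isAdicFormallySmooth (φ.restrictScalars k) hsur hker hÂ
  let e := RingEquiv.ofBijective φ.toRingHom ⟨hinj, hsur⟩
  let eK : MvPowerSeries (Fin n) (ResidueField Â) ≃+* MvPowerSeries (Fin n) (ResidueField A) :=
    RingEquiv.ofRingHom (MvPowerSeries.map hres.symm.toRingHom) (MvPowerSeries.map hres.toRingHom)
      (RingHom.ext fun f => MvPowerSeries.ext fun d => by simp)
      (RingHom.ext fun f => MvPowerSeries.ext fun d => by simp)
  refine ⟨n, e.symm.trans eK, fun x => ?_⟩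
  have h1 : e.symm (algebraMap A Â (algebraMap k A x)) =
      algebraMap (ResidueField Â) _ (algebraMap k (ResidueField Â) x) := by
    refine e.injective ?_
    rw [e.apply_symm_apply]
    show _ = φ (algebraMap (ResidueField Â) _ (algebraMap k (ResidueField Â) x))
    rw [AlgHom.commutes, ← IsScalarTower.algebraMap_apply, ← IsScalarTower.algebraMap_apply]
  show MvPowerSeries.map hres.symm.toRingHom (e.symm (algebraMap A Â (algebraMap k A x))) = _
  rw [h1, MvPowerSeries.algebraMap_apply, MvPowerSeries.algebraMap_apply, MvPowerSeries.map_C]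
  congr 1
  show hres.symm (algebraMap k (ResidueField Â) x) = algebraMap k (ResidueField A) x
  refine hres.injective ?_
  rw [hres.apply_symm_apply]
  exact (hresK.commutes x).symm

end Groth.Agent.H05EGA4
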