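import Mathlib
import Groth.Agent.H05EGA4.FSCriteria
import Groth.Agent.H02CA.SmoothRegular

/-!
# Formal smoothness of localised geometrically regular fibres (helper5)
-/

set_option autoImplicit false
set_option linter.style.haveILetI false
set_option maxHeartbeats 400000
set_option synthInstance.maxHeartbeats 100000
universe u
open IsLocalRing TensorProduct Groth.Agent CAlgX

namespace Groth.Agent.H05EGA4

/-- Geometric regularity of a Noetherian local algebra gives formal smoothness. -/
theorem isAdicFormallySmooth_of_isGeometricallyRegular {k A : Type u} [Field k] [CommRing A] [IsLocalRing A]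
    [IsNoetherianRing A] [Algebra k A] (h : CAlg.IsGeometricallyRegular k A) :
    IsAdicFormallySmooth k A (maximalIdeal A) := by
  obtain ⟨p, hp⟩ := ExpChar.exists k
  exact isAdicFormallySmooth_of_rootsRegular p fun k' _ _ hfin _ => h k' hfin

theorem isAdicFormallySmooth_iff_isGeometricallyRegular {k A : Type u} [Field k] [CommRing A] [IsLocalRing A]
    [IsNoetherianRing A] [Algebra k A] :
    IsAdicFormallySmooth k A (maximalIdeal A) ↔ CAlg.IsGeometricallyRegular k A :=
  ⟨isGeometricallyRegular_of_isAdicFormallySmooth, isAdicFormallySmooth_of_isGeometricallyRegular⟩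

/-- Regularity of base changes passes to localisations. -/
theorem isRegularRing_tensor_of_isLocalization (R F B L : Type u) [CommRing R] [CommRing F] [CommRing B] [CommRing L]
    [Algebra R F] [Algebra R L] [Algebra F B] [Algebra R B] [IsScalarTower R F B] (M : Submonoid F)
    [IsLocalization M B] (h : IsRegularRing (L ⊗[R] F)) : IsRegularRing (L ⊗[R] B) := by
  let X := F ⊗[R] L
  have : IsRegularRing X := IsRegularRing.of_ringEquiv (Algebra.TensorProduct.comm R L F).toRingEquiv
  have : IsRegularRing (X ⊗[F] B) := isRegularRing_of_isLocalization (Algebra.algebraMapSubmonoid X M) _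
  have : IsRegularRing (B ⊗[F] X) := IsRegularRing.of_ringEquiv (Algebra.TensorProduct.comm F X B).toRingEquiv
  have : IsRegularRing (B ⊗[R] L) :=
    IsRegularRing.of_ringEquiv (Algebra.TensorProduct.cancelBaseChange R F B B L).toRingEquiv
  exact IsRegularRing.of_ringEquiv (Algebra.TensorProduct.comm R B L).toRingEquiv

/-- Geometrically regular algebras are geometrically reduced. -/
theorem isGeometricallyReduced_of_isGeometricallyRegular {k A : Type u} [Field k] [CommRing A] [Algebra k A]
    (h : CAlg.IsGeometricallyRegular k A) : Algebra.IsGeometricallyReduced k A := by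
  rw [Algebra.isGeometricallyReduced_field_iff]
  let Ω := AlgebraicClosure k
  have key : ∀ z : Ω ⊗[k] A, ∃ L : IntermediateField k Ω, FiniteDimensional k L ∧
      z ∈ LinearMap.range (TensorProduct.map L.val.toLinearMap (LinearMap.id (R := k) (M := A))) := by
    intro z
    induction z using TensorProduct.induction_on with
    | zero => exact ⟨⊥, inferInstance, zero_mem _⟩
    | tmul c a =>
      refine ⟨IntermediateField.adjoin k {c}, IntermediateField.adjoin.finiteDimensional
        (Algebra.IsIntegral.isIntegral c), ⟨c, IntermediateField.mem_adjoin_simple_self k c⟩ ⊗ₜ a, rfl⟩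
    | add x y hx hy =>
      obtain ⟨L, hL, x, rfl⟩ := hx
      obtain ⟨M, hM, y, rfl⟩ := hy
      refine ⟨L ⊔ M, IntermediateField.finiteDimensional_sup L M, ?_⟩
      refine add_mem ?_ ?_
      · refine ⟨TensorProduct.map (IntermediateField.inclusion (le_sup_left : L ≤ L ⊔ M)).toLinearMap LinearMap.id x, ?_⟩
        rw [← LinearMap.comp_apply, ← TensorProduct.map_comp, LinearMap.id_comp]
        rfl
      · refine ⟨TensorProduct.map (IntermediateField.inclusion (le_sup_right : M ≤ L ⊔ M)).toLinearMap LinearMap.id y, ?_⟩
        rw [← LinearMap.comp_apply, ← TensorProduct.map_comp, LinearMap.id_comp]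
        rfl
  refine ⟨fun z hz => ?_⟩
  obtain ⟨L, hL, y, rfl⟩ := key z
  have : IsRegularRing (L ⊗[k] A) := h L hL
  have := H02CA.isReduced_of_isRegularRing (L ⊗[k] A)
  let f : L ⊗[k] A →ₐ[k] Ω ⊗[k] A := Algebra.TensorProduct.map L.val (AlgHom.id k A)
  have hf : Function.Injective f :=
    Module.Flat.rTensor_preserves_injective_linearMap L.val.toLinearMap L.val.injective
  have hz' : IsNilpotent (f y) := hz
  have h0 : y = 0 := ((IsNilpotent.map_iff (f := f.toRingHom) hf).mp hz').eq_zero
  rw [h0, map_zero]

/-- Geometric regularity passes to localisations. -/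
theorem isGeometricallyRegular_of_isLocalization {k F B : Type u} [Field k] [CommRing F] [CommRing B]
    [Algebra k F] [Algebra F B] [Algebra k B] [IsScalarTower k F B] (M : Submonoid F) [IsLocalization M B]
    (h : CAlg.IsGeometricallyRegular k F) : CAlg.IsGeometricallyRegular k B :=
  fun k' _ _ hfin => isRegularRing_tensor_of_isLocalization k F B k' M (h k' hfin)

/-- A tower over a localisation from towers over the ring. -/
theorem isScalarTower_of_isLocalization (A S C K B : Type u) [CommRing A] [CommRing S] [CommRing C] [CommRing K]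
    [CommRing B] [Algebra A S] [Algebra S C] [Algebra A C] [IsScalarTower A S C] [Algebra C B] [Algebra A B]
    [IsScalarTower A C B] [Algebra A K] [Algebra S K] [IsScalarTower A S K] [Algebra K B] [IsScalarTower A K B]
    [Algebra S B] [IsScalarTower S C B] (M : Submonoid A) [IsLocalization M S] : IsScalarTower S K B := by
  refine IsScalarTower.of_algebraMap_eq' (IsLocalization.ringHom_ext M ?_)
  rw [RingHom.comp_assoc, ← IsScalarTower.algebraMap_eq A S K, ← IsScalarTower.algebraMap_eq A K B,
    IsScalarTower.algebraMap_eq S C B, RingHom.comp_assoc, ← IsScalarTower.algebraMap_eq A S C,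
    ← IsScalarTower.algebraMap_eq A C B]

/-- Generic formal fibres of a regular homomorphism are formally smooth. -/
theorem isAdicFormallySmooth_generic_fibre (S C K B : Type u) [CommRing S] [IsDomain S] [CommRing C]
    [IsNoetherianRing C] [Algebra S C] (hreg : CAlg.IsRegularHom S C) [Field K] [Algebra S K] [IsFractionRing S K]
    (q : Ideal C) [q.IsPrime] [CommRing B] [Algebra C B] [IsLocalization.AtPrime B q] [IsLocalRing B] [Algebra S B]
    [IsScalarTower S C B] [Algebra K B] [IsScalarTower S K B] :
    IsAdicFormallySmooth K B (maximalIdeal B) := by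
  have : IsNoetherianRing B := IsLocalization.isNoetherianRing q.primeCompl B inferInstance
  refine isAdicFormallySmooth_of_isGeometricallyRegular fun k' _ _ hfin => ?_
  letI : Algebra S k' := ((algebraMap K k').comp (algebraMap S K)).toAlgebra
  have : IsScalarTower S K k' := IsScalarTower.of_algebraMap_eq fun _ => rfl
  let κ := (⊥ : Ideal S).ResidueField
  let ψ : κ ≃ₐ[S] K := FractionRing.algEquiv S κ |>.symm.trans (FractionRing.algEquiv S K)
  letI : Algebra κ k' := ((algebraMap K k').comp ψ.toAlgHom.toRingHom).toAlgebra
  have : IsScalarTower S κ k' := IsScalarTower.of_algebraMap_eq fun s => by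
    show _ = algebraMap K k' (ψ (algebraMap S κ s))
    rw [ψ.commutes]; rfl
  letI : Algebra K κ := ψ.symm.toAlgHom.toRingHom.toAlgebra
  have : IsScalarTower K κ k' := IsScalarTower.of_algebraMap_eq fun a => by
    show _ = algebraMap K k' (ψ (ψ.symm a))
    rw [ψ.apply_symm_apply]
  have : Module.Finite κ k' := Module.Finite.of_restrictScalars_finite K κ k'
  have h1 : IsRegularRing (k' ⊗[κ] ((⊥ : Ideal S).Fiber C)) := (hreg.2 ⊥).2 k' this
  have h2 : IsRegularRing (k' ⊗[S] C) :=
    IsRegularRing.of_ringEquiv (Algebra.TensorProduct.cancelBaseChange S κ κ k' C).toRingEquiv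
  have h3 : IsRegularRing (k' ⊗[S] B) := isRegularRing_tensor_of_isLocalization S C B k' q.primeCompl h2
  exact IsRegularRing.of_ringEquiv
    (IsLocalization.algebraTensorEquiv (nonZeroDivisors S) K k' B).symm.toRingEquiv

end Groth.Agent.H05EGA4
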