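import Mathlib
import Groth.Prelude.Def_Found
import Groth.Agent.H05EGA4.CompleteNormalization
import Groth.Agent.H05EGA4.Regular2
import Groth.Agent.H05EGA4.CohenMisc
import Groth.Agent.H24Art.PowerSeries

/-!
# Flat presentations of local homomorphisms of complete Noetherian local rings (helper5)
-/

set_option autoImplicit false
set_option linter.style.haveILetI false
set_option maxHeartbeats 400000
universe u
open IsLocalRing Groth.Agent

namespace Groth.Agent.H05EGA4

/-- A coefficient ring for a field: unramified, with the lifting property. -/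
theorem exists_coefficientRing_lift (k : Type u) [Field k] (p : ℕ) [CharP k p] :
    ∃ (Λ : Type u) (_ : CommRing Λ) (_ : IsLocalRing Λ),
      ((p = 0 ∧ IsField Λ) ∨ (p ≠ 0 ∧ CAlg.IsCohenRing Λ)) ∧
      ringKrullDim Λ = ((if p = 0 then 0 else 1 : ℕ) : WithBot ℕ∞) ∧
      maximalIdeal Λ = Ideal.span {(p : Λ)} ∧
      Nonempty (ResidueField Λ ≃+* k) ∧
      ∀ (C : Type u) [CommRing C] [IsLocalRing C] [IsNoetherianRing C] [IsAdicComplete (maximalIdeal C) C]
        [CharP (ResidueField C) p] (J : Ideal C), J ≤ maximalIdeal C → ∀ u : Λ →+* C ⧸ J,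
        ∃ v : Λ →+* C, (Ideal.Quotient.mk J).comp v = u := by
  rcases CharP.char_is_prime_or_zero k p with hp | rfl
  · have := Fact.mk hp
    obtain ⟨W, _, _, hW, hmax, he⟩ := exists_isCohenRing p k
    refine ⟨W, inferInstance, inferInstance, Or.inr ⟨hp.ne_zero, hW⟩, ?_, hmax, he, ?_⟩
    · obtain ⟨_, _, -, -⟩ := hW
      rw [if_neg hp.ne_zero]
      exact IsPrincipalIdealRing.ringKrullDim_eq_one W (IsDiscreteValuationRing.not_isField W)
    · intro C _ _ _ _ _ J hJ u
      have hpC : (p : C) ∈ maximalIdeal C := by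
        rw [← residue_eq_zero_iff, map_natCast]; exact CharP.cast_eq_zero _ p
      obtain ⟨v, hv⟩ := exists_lift_cohenRing_adicComplete hW p (hmax ▸ (maximalIdeal.isMaximal W).ne_top) hpC J hJ u
      refine ⟨v, RingHom.ext fun x => ?_⟩
      obtain ⟨c, hc⟩ := Ideal.Quotient.mk_surjective (u x)
      rw [RingHom.comp_apply, ← hc]
      exact Ideal.Quotient.eq.mpr (mem_of_forall_mem_sup_pow (hv x c hc.symm))
  · have : CharZero k := CharP.charP_to_charZero k
    refine ⟨k, inferInstance, inferInstance, Or.inl ⟨rfl, Field.toIsField k⟩, ?_, ?_,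
      ⟨(RingEquiv.ofBijective (residue k) ⟨RingHom.injective _, residue_surjective⟩).symm⟩, ?_⟩
    · rw [if_pos rfl, ringKrullDim_eq_zero_of_field]; rfl
    · rw [Nat.cast_zero, Ideal.span_singleton_eq_bot.mpr rfl]
      exact IsLocalRing.isField_iff_maximalIdeal_eq.mp (Field.toIsField k)
    · intro C _ _ _ _ _ J hJ u
      have : CharZero (ResidueField C) := CharP.charP_to_charZero _
      have hu : ∀ n : ℕ+, IsUnit ((n : ℕ) : C) := fun n => by
        by_contra h
        have h1 := (residue_eq_zero_iff _).mpr h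
        rw [map_natCast] at h1
        exact n.ne_zero (Nat.cast_eq_zero.mp h1)
      let f : ℤ →+* C := Int.castRingHom C
      have hf : ∀ m : nonZeroDivisors ℤ, IsUnit (f m) := fun m => by
        have hm : (m : ℤ) ≠ 0 := nonZeroDivisors.ne_zero m.2
        have h := hu ⟨(m : ℤ).natAbs, Int.natAbs_pos.mpr hm⟩
        rcases Int.natAbs_eq (m : ℤ) with h' | h' <;> rw [h'] <;> simpa [f] using h
      letI : Algebra ℚ C := (IsLocalization.lift (S := ℚ) hf).toAlgebra
      have := formallySmooth_of_perfectField ℚ k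
      obtain ⟨v, hv⟩ := exists_lift_formallySmooth_adicComplete (R := ℚ) (W := k) (C := C) J hJ
        { u with
          commutes' := fun q => RingHom.congr_fun
            (Subsingleton.elim (u.comp (algebraMap ℚ k)) (algebraMap ℚ (C ⧸ J))) q }
      refine ⟨v.toRingHom, RingHom.ext fun x => ?_⟩
      obtain ⟨c, hc⟩ := Ideal.Quotient.mk_surjective (u x)
      rw [RingHom.comp_apply, ← hc]
      exact Ideal.Quotient.eq.mpr (mem_of_forall_mem_sup_pow (hv x c hc.symm))

/-- Extending a lift of the residue field along generators of the maximal ideal. -/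
theorem exists_surjective_mvPowerSeries_of_generators {Λ A : Type u} [CommRing Λ] [CommRing A] [IsLocalRing A]
    [IsAdicComplete (maximalIdeal A) A] (v : Λ →+* A) (hv : ∀ a, ∃ l, v l - a ∈ maximalIdeal A)
    {n : ℕ} (b : Fin n → A) (hb : Ideal.span (Set.range b) = maximalIdeal A) :
    ∃ ψ : MvPowerSeries (Fin n) Λ →+* A, Function.Surjective ψ ∧ (∀ l, ψ (MvPowerSeries.C l) = v l) ∧
      ∀ i, ψ (MvPowerSeries.X i) = b i := by
  letI := v.toAlgebra
  have hbm : ∀ i, b i ∈ maximalIdeal A := fun i => hb ▸ Ideal.subset_span ⟨i, rfl⟩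
  obtain ⟨ψ, hψ⟩ := H02CA.PS.exists_algHom (R := Λ) (σ := Fin n) (maximalIdeal A) b hbm
  refine ⟨ψ.toRingHom, ?_, fun l => ?_, hψ⟩
  · refine H02CA.PS.surjective_of_approx ψ.toRingHom (H02CA.PS.vars (Fin n) Λ) (maximalIdeal A) ?_ ?_ ?_
    · intro x hx
      refine (Ideal.map_le_iff_le_comap (f := ψ.toRingHom) (K := maximalIdeal A).mp ?_) hx
      rw [Ideal.map_span, Ideal.span_le]
      rintro _ ⟨_, ⟨i, rfl⟩, rfl⟩
      show ψ (MvPowerSeries.X i) ∈ _
      rw [hψ]; exact hbm i
    · intro s
      obtain ⟨l, hl⟩ := hv s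
      exact ⟨algebraMap Λ _ l, by show ψ (algebraMap Λ _ l) - s ∈ _; rwa [AlgHom.commutes]⟩
    · intro s hs
      rw [← hb, Ideal.mem_span_range_iff_exists_fun] at hs
      obtain ⟨r, hr⟩ := hs
      choose l hl using fun i => hv (r i)
      refine ⟨∑ i, algebraMap Λ _ (l i) * MvPowerSeries.X i,
        Ideal.sum_mem _ fun i _ => Ideal.mul_mem_left _ _ (Ideal.subset_span ⟨i, rfl⟩), ?_⟩
      show ψ _ - s ∈ _
      rw [map_sum, ← hr, ← Finset.sum_sub_distrib, pow_two]
      refine Ideal.sum_mem _ fun i _ => ?_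
      rw [map_mul, AlgHom.commutes, hψ, ← sub_mul]
      exact Ideal.mul_mem_mul (hl i) (hbm i)
  · exact ψ.commutes l

/-- The maximal ideal of a power series ring over a local ring. -/
theorem maximalIdeal_mvPowerSeries (R : Type u) [CommRing R] [IsLocalRing R] (n : ℕ) :
    maximalIdeal (MvPowerSeries (Fin n) R) =
      (maximalIdeal R).map MvPowerSeries.C ⊔ Ideal.span (Set.range MvPowerSeries.X) := by
  refine le_antisymm (fun f hf => ?_) (sup_le ?_ (Ideal.span_le.mpr ?_))
  · have hf0 : MvPowerSeries.constantCoeff f ∈ maximalIdeal R :=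
      fun hu => hf (MvPowerSeries.isUnit_iff_constantCoeff.mpr hu)
    rw [← sub_add_cancel f (MvPowerSeries.C (MvPowerSeries.constantCoeff f)), add_comm]
    exact Submodule.add_mem_sup (Ideal.mem_map_of_mem _ hf0) (H02CA.PS.mem_vars_iff.mpr (by simp))
  · refine Ideal.map_le_iff_le_comap.mpr fun c hc hu => hc ?_
    simpa using MvPowerSeries.isUnit_iff_constantCoeff.mp hu
  · rintro _ ⟨i, rfl⟩
    refine fun hu => ?_
    have := MvPowerSeries.isUnit_iff_constantCoeff.mp hu
    simp at this

theorem add_le_ringKrullDim_mvPowerSeries (R : Type u) [CommRing R] [Nontrivial R] (d : ℕ) :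
    ringKrullDim R + ((d : ℕ∞) : WithBot ℕ∞) ≤ ringKrullDim (MvPowerSeries (Fin d) R) := by
  induction d with
  | zero =>
    rw [Nat.cast_zero]
    refine le_trans (le_of_eq (by simp)) (ringKrullDim_le_of_surjective
      (MvPowerSeries.constantCoeff (σ := Fin 0) (R := R)) fun r => ⟨MvPowerSeries.C r, by simp⟩)
  | succ d ih =>
    rw [ringKrullDim_eq_of_ringEquiv (MvPowerSeries.finSuccEquiv R d).toRingEquiv]
    refine le_trans ?_ ringKrullDim_succ_le_ringKrullDim_powerseries
    push_cast
    rw [← add_assoc]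
    exact add_le_add ih le_rfl

/-- Dimension of a power series ring over a regular local ring. -/
theorem ringKrullDim_mvPowerSeries_regular (R : Type u) [CommRing R] [IsRegularLocalRing R] (d c : ℕ)
    (hc : ringKrullDim R = (c : WithBot ℕ∞)) :
    ringKrullDim (MvPowerSeries (Fin d) R) = ((c + d : ℕ) : WithBot ℕ∞) := by
  refine le_antisymm ?_ ?_
  · have := isRegularRing_of_isRegularLocalRing R
    have : IsRegularRing (MvPowerSeries (Fin d) R) := S5784.result R d
    refine (ringKrullDim_le_spanFinrank_maximalIdeal _).trans ?_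
    obtain ⟨g, hg⟩ := H4Depth.exists_fun_fin_span_eq (I := maximalIdeal R)
    have hr : (maximalIdeal R).spanFinrank = c := by
      have := IsRegularLocalRing.spanFinrank_maximalIdeal (R := R)
      rw [hc] at this
      exact_mod_cast this
    have hspan : maximalIdeal (MvPowerSeries (Fin d) R) =
        Ideal.span (Set.range (Sum.elim (fun i => MvPowerSeries.C (σ := Fin d) (g i)) MvPowerSeries.X)) := by
      rw [maximalIdeal_mvPowerSeries, Set.Sum.elim_range, Ideal.span_union]
      congr 1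
      refine (congrArg (Ideal.map MvPowerSeries.C) hg).symm.trans ?_
      rw [Ideal.map_span, ← Set.range_comp]
      rfl
    rw [hspan]
    refine Nat.cast_le.mpr ((Submodule.spanFinrank_span_le_ncard_of_finite (Set.finite_range _)).trans ?_)
    rw [← Set.image_univ]
    exact (Set.ncard_image_le Set.finite_univ).trans (by simp [Set.ncard_univ, hr])
  · refine le_trans (le_of_eq ?_) (add_le_ringKrullDim_mvPowerSeries R d)
    rw [hc, Nat.cast_add]
    rfl

/-- Killing some variables and the residual uniformiser leaves a power series ring over the residue field. -/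
theorem exists_surjective_residual {Λ' K : Type u} [CommRing Λ'] [Field K] [Algebra Λ' K]
    (hK : Function.Surjective (algebraMap Λ' K)) (n m : ℕ) :
    ∃ π : MvPowerSeries (Fin (n + m)) Λ' →ₐ[Λ'] MvPowerSeries (Fin m) K, Function.Surjective π ∧
      ∀ i, π (MvPowerSeries.X (Fin.castAdd m i)) = 0 := by
  classical
  let y : Fin (n + m) → MvPowerSeries (Fin m) K := Fin.append (fun _ => 0) MvPowerSeries.X
  have hym : ∀ i, y i ∈ H02CA.PS.vars (Fin m) K := fun i => by
    refine Fin.addCases (fun i => ?_) (fun i => ?_) i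
    · simp [y]
    · simpa [y] using Ideal.subset_span (α := MvPowerSeries (Fin m) K) (Set.mem_range_self i)
  obtain ⟨π, hπ⟩ := H02CA.PS.exists_algHom (R := Λ') (σ := Fin (n + m)) (H02CA.PS.vars (Fin m) K) y hym
  refine ⟨π, ?_, fun i => by rw [hπ]; simp [y]⟩
  refine H02CA.PS.surjective_of_approx π.toRingHom (H02CA.PS.vars (Fin (n + m)) Λ') (H02CA.PS.vars (Fin m) K) ?_ ?_ ?_
  · intro f hf
    refine (Ideal.map_le_iff_le_comap (f := π.toRingHom) (K := H02CA.PS.vars (Fin m) K).mp ?_) hf
    rw [Ideal.map_span, Ideal.span_le]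
    rintro _ ⟨_, ⟨i, rfl⟩, rfl⟩
    show π (MvPowerSeries.X i) ∈ _
    rw [hπ]; exact hym i
  · intro s
    obtain ⟨l, hl⟩ := hK (MvPowerSeries.constantCoeff s)
    refine ⟨algebraMap Λ' _ l, H02CA.PS.mem_vars_iff.mpr ?_⟩
    show MvPowerSeries.constantCoeff (π (algebraMap Λ' _ l) - s) = 0
    rw [AlgHom.commutes, map_sub, ← hl, sub_eq_zero]
    simp [MvPowerSeries.algebraMap_apply]
  · intro s hs
    obtain ⟨r, hr⟩ := Ideal.mem_span_range_iff_exists_fun.mp hs
    choose l hl using fun i => hK (MvPowerSeries.constantCoeff (r i))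
    refine ⟨∑ i, algebraMap Λ' _ (l i) * MvPowerSeries.X (Fin.natAdd n i),
      Ideal.sum_mem _ fun i _ => Ideal.mul_mem_left _ _ (Ideal.subset_span ⟨_, rfl⟩), ?_⟩
    show π _ - s ∈ _
    rw [map_sum, ← hr, ← Finset.sum_sub_distrib, pow_two]
    refine Ideal.sum_mem _ fun i _ => ?_
    rw [map_mul, AlgHom.commutes, hπ, show y (Fin.natAdd n i) = MvPowerSeries.X i by simp [y], ← sub_mul]
    refine Ideal.mul_mem_mul (H02CA.PS.mem_vars_iff.mpr ?_) (Ideal.subset_span ⟨i, rfl⟩)
    rw [map_sub, ← hl, sub_eq_zero]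
    simp [MvPowerSeries.algebraMap_apply]

/-- A map of power series rings over unramified coefficient rings sending variables to variables is flat. -/
theorem flat_powerSeries_map {Λ Λ' : Type u} [CommRing Λ] [IsRegularLocalRing Λ] [CommRing Λ']
    [IsRegularLocalRing Λ'] (p c : ℕ) (hmΛ : maximalIdeal Λ = Ideal.span {(p : Λ)})
    (hmΛ' : maximalIdeal Λ' = Ideal.span {(p : Λ')}) (hdΛ : ringKrullDim Λ = (c : WithBot ℕ∞))
    (hdΛ' : ringKrullDim Λ' = (c : WithBot ℕ∞)) {n m : ℕ}
    (τ : MvPowerSeries (Fin n) Λ →+* MvPowerSeries (Fin (n + m)) Λ')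
    (hτX : ∀ i, τ (MvPowerSeries.X i) = MvPowerSeries.X (Fin.castAdd m i)) :
    IsLocalHom τ ∧ τ.Flat ∧
      IsRegularLocalRing (MvPowerSeries (Fin (n + m)) Λ' ⧸ (maximalIdeal (MvPowerSeries (Fin n) Λ)).map τ) := by
  classical
  let W' := MvPowerSeries (Fin (n + m)) Λ'
  have := isRegularRing_of_isRegularLocalRing Λ'
  have := isRegularRing_of_isRegularLocalRing Λ
  have : IsRegularRing W' := S5784.result Λ' _
  have : IsRegularRing (MvPowerSeries (Fin n) Λ) := S5784.result Λ _
  have : IsRegularLocalRing W' := IsRegularLocalRing.of_isRegularRing_of_isLocalRing _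
  have : IsRegularLocalRing (MvPowerSeries (Fin n) Λ) := IsRegularLocalRing.of_isRegularRing_of_isLocalRing _
  have : IsAdicComplete (H02CA.PS.vars (Fin (n + m)) Λ') W' := inferInstance
  let x : Fin n → W' := fun i => MvPowerSeries.X (Fin.castAdd m i)
  have hXm : ∀ j, (MvPowerSeries.X j : W') ∈ maximalIdeal W' := fun j => by
    rw [maximalIdeal_mvPowerSeries]; exact Submodule.mem_sup_right (Ideal.subset_span ⟨j, rfl⟩)
  -- the closed fibre
  let I : Ideal W' := (maximalIdeal (MvPowerSeries (Fin n) Λ)).map τ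
  have hI : I = Ideal.span {(p : W')} ⊔ Ideal.span (Set.range x) := by
    show Ideal.map τ _ = _
    rw [maximalIdeal_mvPowerSeries, Ideal.map_sup, hmΛ, Ideal.map_span, Ideal.map_span, Ideal.map_span,
      Set.image_singleton, Set.image_singleton, map_natCast, map_natCast, ← Set.range_comp]
    congr 3
    exact funext hτX
  have hIm : I ≤ maximalIdeal W' := by
    rw [hI, maximalIdeal_mvPowerSeries, hmΛ', Ideal.map_span, Set.image_singleton, map_natCast]
    exact sup_le_sup_left (Ideal.span_mono (by rintro _ ⟨i, rfl⟩; exact ⟨Fin.castAdd m i, rfl⟩)) _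
  have hloc : IsLocalHom τ := ((local_hom_TFAE _).out 0 2).mpr hIm
  have : Nontrivial (W' ⧸ I) :=
    Ideal.Quotient.nontrivial_iff.mpr (ne_top_of_le_ne_top (maximalIdeal.isMaximal W').ne_top hIm)
  have : IsLocalRing (W' ⧸ I) := .of_surjective' _ Ideal.Quotient.mk_surjective
  -- lower bound for the fibre
  have hlow : ((m : ℕ∞) : WithBot ℕ∞) ≤ ringKrullDim (W' ⧸ I) := by
    obtain ⟨π, hπs, hπx⟩ := exists_surjective_residual (Λ' := Λ') (K := ResidueField Λ') residue_surjective n m
    have hp0 : (p : ResidueField Λ') = 0 := by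
      rw [← map_natCast (residue Λ'), residue_eq_zero_iff, hmΛ']
      exact Ideal.mem_span_singleton_self _
    have hIπ : I ≤ RingHom.ker π.toRingHom := by
      rw [hI]
      refine sup_le (Ideal.span_le.mpr ?_) (Ideal.span_le.mpr ?_)
      · rintro _ rfl
        show π.toRingHom (p : W') = 0
        rw [map_natCast, ← map_natCast (MvPowerSeries.C (σ := Fin m) (R := ResidueField Λ')), hp0, map_zero]
      · rintro _ ⟨i, rfl⟩
        exact hπx i
    refine le_trans (H02CA.PS.le_ringKrullDim (k := ResidueField Λ') m)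
      (ringKrullDim_le_of_surjective (Ideal.Quotient.lift I π.toRingHom fun f hf => hIπ hf) ?_)
    intro s
    obtain ⟨f, rfl⟩ := hπs s
    exact ⟨Ideal.Quotient.mk I f, rfl⟩
  have hup : (maximalIdeal (W' ⧸ I)).spanFinrank ≤ m := by
    have : maximalIdeal (W' ⧸ I) =
        Ideal.span (Set.range fun i => Ideal.Quotient.mk I (MvPowerSeries.X (Fin.natAdd n i))) := by
      rw [← IsLocalRing.map_maximalIdeal_of_surjective _ (Ideal.Quotient.mk_surjective (I := I))]
      refine le_antisymm (Ideal.map_le_iff_le_comap.mpr ?_) (Ideal.span_le.mpr ?_)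
      · rw [maximalIdeal_mvPowerSeries, hmΛ', Ideal.map_span, Set.image_singleton, map_natCast]
        refine sup_le ?_ (Ideal.span_le.mpr ?_)
        · refine Ideal.span_le.mpr ?_
          rintro _ rfl
          rw [SetLike.mem_coe, Ideal.mem_comap, Ideal.Quotient.eq_zero_iff_mem.mpr
            (hI ▸ Submodule.mem_sup_left (Ideal.mem_span_singleton_self _))]
          exact zero_mem _
        · rintro _ ⟨j, rfl⟩
          rw [SetLike.mem_coe, Ideal.mem_comap]
          refine Fin.addCases (fun i => ?_) (fun i => ?_) j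
          · rw [Ideal.Quotient.eq_zero_iff_mem.mpr (hI ▸ Submodule.mem_sup_right (Ideal.subset_span ⟨i, rfl⟩))]
            exact zero_mem _
          · exact Ideal.subset_span ⟨i, rfl⟩
      · rintro _ ⟨i, rfl⟩
        exact Ideal.mem_map_of_mem _ (hXm _)
    rw [this]
    refine (Submodule.spanFinrank_span_le_ncard_of_finite (Set.finite_range _)).trans ?_
    rw [← Set.image_univ]
    exact (Set.ncard_image_le Set.finite_univ).trans (by simp [Set.ncard_univ])
  have hfibreg : IsRegularLocalRing (W' ⧸ I) :=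
    IsRegularLocalRing.of_spanFinrank_maximalIdeal_le _ (le_trans (by exact_mod_cast hup) hlow)
  have hfdim : ringKrullDim (W' ⧸ I) = ((m : ℕ) : WithBot ℕ∞) :=
    le_antisymm ((ringKrullDim_le_spanFinrank_maximalIdeal _).trans (by exact_mod_cast hup)) hlow
  letI : Algebra (MvPowerSeries (Fin n) Λ) W' := τ.toAlgebra
  have : IsLocalHom (algebraMap (MvPowerSeries (Fin n) Λ) W') := hloc
  have : IsRegularLocalRing (W' ⧸ (maximalIdeal (MvPowerSeries (Fin n) Λ)).map (algebraMap _ W')) := hfibreg
  obtain ⟨-, hflat⟩ := flat_of_ringKrullDim_eq_add (A := MvPowerSeries (Fin n) Λ) (B := W') (by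
    rw [ringKrullDim_mvPowerSeries_regular Λ n c hdΛ, ringKrullDim_mvPowerSeries_regular Λ' (n + m) c hdΛ',
      show ringKrullDim (W' ⧸ (maximalIdeal (MvPowerSeries (Fin n) Λ)).map (algebraMap _ W')) = _ from hfdim,
      ← Nat.cast_add, add_assoc])
  exact ⟨hloc, hflat, hfibreg⟩

/-- Flat presentation: a local map of complete local rings is covered by a flat map of power series rings over
coefficient rings with regular closed fibre. -/
theorem exists_flat_presentation (A B : Type u) [CommRing A] [CommRing B]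
    [IsLocalRing A] [IsLocalRing B] [IsNoetherianRing A] [IsNoetherianRing B]
    [IsAdicComplete (maximalIdeal A) A] [IsAdicComplete (maximalIdeal B) B]
    [Algebra A B] [IsLocalHom (algebraMap A B)] :
    ∃ (Λ Λ' : Type u) (_ : CommRing Λ) (_ : CommRing Λ') (_ : IsLocalRing Λ) (_ : IsLocalRing Λ') (n m : ℕ)
      (ρ : MvPowerSeries (Fin n) Λ →+* A) (σ : MvPowerSeries (Fin m) Λ' →+* B)
      (τ : MvPowerSeries (Fin n) Λ →+* MvPowerSeries (Fin m) Λ'),
      ((CharZero (ResidueField A) ∧ IsField Λ ∧ IsField Λ') ∨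
        (¬ CharZero (ResidueField A) ∧ CAlg.IsCohenRing Λ ∧ CAlg.IsCohenRing Λ')) ∧
      Function.Surjective ρ ∧ Function.Surjective σ ∧ σ.comp τ = (algebraMap A B).comp ρ ∧
      IsLocalHom τ ∧ τ.Flat ∧
      IsRegularLocalRing (MvPowerSeries (Fin m) Λ' ⧸ (maximalIdeal (MvPowerSeries (Fin n) Λ)).map τ) := by
  classical
  obtain ⟨p, hpk⟩ := CharP.exists (ResidueField A)
  have hpK : CharP (ResidueField B) p :=
    charP_of_injective_ringHom (ResidueField.map (algebraMap A B)).injective p
  obtain ⟨Λ, _, _, hΛ, hdΛ, hmΛ, ⟨e⟩, hliftΛ⟩ := exists_coefficientRing_lift (ResidueField A) p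
  obtain ⟨Λ', _, _, hΛ', hdΛ', hmΛ', ⟨e'⟩, hliftΛ'⟩ := exists_coefficientRing_lift (ResidueField B) p
  have hΛ0 : IsField Λ ∨ CAlg.IsCohenRing Λ := hΛ.imp And.right And.right
  have hΛ'0 : IsField Λ' ∨ CAlg.IsCohenRing Λ' := hΛ'.imp And.right And.right
  -- lifts of the residue fields
  obtain ⟨v, hv⟩ := hliftΛ A (maximalIdeal A) le_rfl (e.toRingHom.comp (residue Λ))
  obtain ⟨v', hv'⟩ := hliftΛ' B (maximalIdeal B) le_rfl (e'.toRingHom.comp (residue Λ'))
  have hvs : ∀ a, ∃ l, v l - a ∈ maximalIdeal A := fun a => by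
    obtain ⟨l, hl⟩ := residue_surjective (e.symm (residue A a))
    refine ⟨l, Ideal.Quotient.eq.mp ((RingHom.congr_fun hv l).trans ?_)⟩
    show e (residue Λ l) = residue A a
    rw [hl, e.apply_symm_apply]
  have hv's : ∀ a, ∃ l, v' l - a ∈ maximalIdeal B := fun a => by
    obtain ⟨l, hl⟩ := residue_surjective (e'.symm (residue B a))
    refine ⟨l, Ideal.Quotient.eq.mp ((RingHom.congr_fun hv' l).trans ?_)⟩
    show e' (residue Λ' l) = residue B a
    rw [hl, e'.apply_symm_apply]
  obtain ⟨n, a, ha⟩ := Submodule.fg_iff_exists_fin_generating_family.mp (IsNoetherian.noetherian (maximalIdeal A))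
  obtain ⟨m, b, hb⟩ := Submodule.fg_iff_exists_fin_generating_family.mp (IsNoetherian.noetherian (maximalIdeal B))
  obtain ⟨ρ, hρs, hρC, hρX⟩ := exists_surjective_mvPowerSeries_of_generators v hvs a ha
  have ham : ∀ i, algebraMap A B (a i) ∈ maximalIdeal B := fun i =>
    map_nonunit _ _ (ha ▸ Ideal.subset_span ⟨i, rfl⟩)
  let b' : Fin (n + m) → B := Fin.append (algebraMap A B ∘ a) b
  have hb' : Ideal.span (Set.range b') = maximalIdeal B := by
    refine le_antisymm (Ideal.span_le.mpr ?_) ?_
    · rintro _ ⟨i, rfl⟩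
      refine Fin.addCases (fun i => ?_) (fun i => ?_) i
      · simpa [b'] using ham i
      · simpa [b'] using hb.le (Submodule.subset_span ⟨i, rfl⟩)
    · rw [← hb]
      refine Ideal.span_le.mpr ?_
      rintro _ ⟨i, rfl⟩
      exact Ideal.subset_span ⟨Fin.natAdd n i, by simp [b']⟩
  obtain ⟨σ, hσs, hσC, hσX⟩ := exists_surjective_mvPowerSeries_of_generators v' hv's b' hb'
  -- the target ring
  let W' := MvPowerSeries (Fin (n + m)) Λ'
  obtain ⟨_, _, _, hcΛ'⟩ := coefficientRing_spec hΛ'0
  have := hcΛ'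
  obtain ⟨_, _, _, hcΛ⟩ := coefficientRing_spec hΛ0
  have := isRegularRing_of_isField_or_isCohenRing hΛ'0
  have := isRegularRing_of_isField_or_isCohenRing hΛ0
  have : IsRegularRing W' := S5784.result Λ' _
  have : IsRegularRing (MvPowerSeries (Fin n) Λ) := S5784.result Λ _
  have : IsRegularLocalRing Λ := IsRegularLocalRing.of_isRegularRing_of_isLocalRing _
  have : IsRegularLocalRing Λ' := IsRegularLocalRing.of_isRegularRing_of_isLocalRing _
  have : IsRegularLocalRing W' := IsRegularLocalRing.of_isRegularRing_of_isLocalRing _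
  have : IsRegularLocalRing (MvPowerSeries (Fin n) Λ) := IsRegularLocalRing.of_isRegularRing_of_isLocalRing _
  have hcW : IsAdicComplete (maximalIdeal W') W' := H24Art.isAdicComplete_mvPowerSeries
  have hpW : CharP (ResidueField W') p := by
    have : IsLocalHom σ := Function.Surjective.isLocalHom σ hσs
    exact (RingHom.charP_iff_charP (ResidueField.map σ) p).mpr hpK
  obtain ⟨θ, hθ⟩ := hliftΛ W' (RingHom.ker σ) (le_maximalIdeal (RingHom.ker_ne_top σ))
    ((RingHom.quotientKerEquivOfSurjective hσs).symm.toRingHom.comp ((algebraMap A B).comp v))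
  have hθ' : ∀ l, σ (θ l) = algebraMap A B (v l) := fun l => by
    have h1 := congrArg (RingHom.quotientKerEquivOfSurjective hσs) (RingHom.congr_fun hθ l)
    simp only [RingHom.comp_apply, RingEquiv.toRingHom_eq_coe, RingHom.coe_coe, RingEquiv.apply_symm_apply] at h1
    exact h1
  let x : Fin n → W' := fun i => MvPowerSeries.X (Fin.castAdd m i)
  have hXm : ∀ j, (MvPowerSeries.X j : W') ∈ maximalIdeal W' := fun j => by
    rw [maximalIdeal_mvPowerSeries]; exact Submodule.mem_sup_right (Ideal.subset_span ⟨j, rfl⟩)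
  letI : Algebra Λ W' := θ.toAlgebra
  obtain ⟨τ, hτX⟩ := H02CA.PS.exists_algHom (R := Λ) (σ := Fin n) (maximalIdeal W') x fun i => hXm _
  have hτC : ∀ l, τ (MvPowerSeries.C l) = θ l := fun l => τ.commutes l
  have hcomm : σ.comp τ.toRingHom = (algebraMap A B).comp ρ := by
    letI : Algebra Λ B := ((algebraMap A B).comp v).toAlgebra
    let f1 : MvPowerSeries (Fin n) Λ →ₐ[Λ] B :=
      { σ.comp τ.toRingHom with commutes' := fun l => (congrArg σ (hτC l)).trans (hθ' l) }
    let f2 : MvPowerSeries (Fin n) Λ →ₐ[Λ] B :=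
      { (algebraMap A B).comp ρ with commutes' := fun l => congrArg (algebraMap A B) (hρC l) }
    have hX1 : ∀ i, σ (τ (MvPowerSeries.X i)) = algebraMap A B (a i) := fun i => by
      rw [hτX, hσX]; simp [b']
    have h12 : f1 = f2 := H02CA.PS.algHom_ext (maximalIdeal B)
      (fun i => by show σ (τ (MvPowerSeries.X i)) ∈ _; rw [hX1]; exact ham i)
      (fun i => by show σ (τ (MvPowerSeries.X i)) = algebraMap A B (ρ (MvPowerSeries.X i)); rw [hX1, hρX])
    exact congrArg AlgHom.toRingHom h12
  obtain ⟨hloc, hflat, hfibreg⟩ :=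
    flat_powerSeries_map p (if p = 0 then 0 else 1) hmΛ hmΛ' hdΛ hdΛ' τ.toRingHom hτX
  refine ⟨Λ, Λ', inferInstance, inferInstance, inferInstance, inferInstance, n, n + m, ρ, σ, τ.toRingHom, ?_,
    hρs, hσs, hcomm, hloc, hflat, hfibreg⟩
  rcases hΛ with ⟨rfl, hF⟩ | ⟨hp, hC⟩
  · exact Or.inl ⟨CharP.charP_to_charZero _, hF, (hΛ'.resolve_right fun h => h.1 rfl).2⟩
  · refine Or.inr ⟨fun h0 => hp ?_, hC, (hΛ'.resolve_left fun h => hp h.1).2⟩
    exact (CharP.eq (ResidueField A) hpk (CharP.ofCharZero _))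

end Groth.Agent.H05EGA4
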