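import Mathlib
import Groth.Prelude.Def_CAlgX
import Groth.Agent.H05EGA4.FlatPresentation
import Groth.Agent.H05EGA4.FSBaseChange
import Groth.Agent.H05EGA4.FlatRegular
import Groth.Agent.H02CA.RegularKer
import Groth.Agent.H02CA.RegularQuotient
import Groth.Agent.S9317
import Groth.Agent.H06Desc.FlatAlg

/-!
# Formally smooth local homomorphisms are flat (helper5)
-/

set_option autoImplicit false
set_option linter.style.haveILetI false
set_option maxHeartbeats 400000
universe u
open IsLocalRing CAlgX TensorProduct Groth.Agent RingTheory.Sequence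

namespace Groth.Agent.H05EGA4

/-- Adic formal smoothness lifts along nilpotent thickenings. -/
theorem exists_lift_nilpotent {R S : Type u} [CommRing R] [CommRing S] [Algebra R S] {n : Ideal S}
    (h : IsAdicFormallySmooth R S n) (i : ℕ) :
    ∀ (C : Type u) [CommRing C] [Algebra R C] (J : Ideal C), J ^ (2 ^ i) = ⊥ → ∀ ψ : S →ₐ[R] C ⧸ J,
      (∃ k : ℕ, ∀ x ∈ n ^ k, ψ x = 0) →
      ∃ χ : S →ₐ[R] C, (Ideal.Quotient.mkₐ R J).comp χ = ψ ∧ ∃ k : ℕ, ∀ x ∈ n ^ k, χ x = 0 := by
  induction i with
  | zero =>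
    intro C _ _ J hJ ψ hk
    rw [pow_zero, pow_one] at hJ
    let e : C ≃ₐ[R] C ⧸ J := AlgEquiv.ofBijective (Ideal.Quotient.mkₐ R J) ⟨by
      rw [injective_iff_map_eq_zero]; intro x hx
      exact Ideal.mem_bot.mp (hJ ▸ Ideal.Quotient.eq_zero_iff_mem.mp hx), Ideal.Quotient.mk_surjective⟩
    refine ⟨e.symm.toAlgHom.comp ψ, AlgHom.ext fun x => e.apply_symm_apply _, ?_⟩
    obtain ⟨k, hk⟩ := hk
    exact ⟨k, fun x hx => by show e.symm (ψ x) = 0; rw [hk x hx, map_zero]⟩
  | succ i ih =>
    intro C _ _ J hJ ψ hk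
    obtain ⟨k, hk⟩ := hk
    let q := Ideal.Quotient.mk (J ^ 2)
    let J' : Ideal (C ⧸ J ^ 2) := J.map q
    have hJ' : J' ^ 2 = ⊥ := by rw [← Ideal.map_pow]; exact Ideal.map_quotient_self _
    let e : ((C ⧸ J ^ 2) ⧸ J') ≃ₐ[R] C ⧸ J :=
      (DoubleQuot.quotQuotEquivQuotSupₐ R (J ^ 2) J).trans
        (Ideal.quotientEquivAlgOfEq R (sup_eq_right.mpr (Ideal.pow_le_self two_ne_zero)))
    obtain ⟨χ, hχ⟩ := h (C ⧸ J ^ 2) J' hJ' (e.symm.toAlgHom.comp ψ) ⟨k, fun x hx => by
      show e.symm (ψ x) = 0; rw [hk x hx, map_zero]⟩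
    have hχ' : ∀ x, Ideal.Quotient.mk J' (χ x) = e.symm (ψ x) := fun x => AlgHom.congr_fun hχ x
    have hkill : ∀ x ∈ n ^ (k + k), χ x = 0 := by
      intro x hx
      rw [pow_add] at hx
      induction hx using Submodule.mul_induction_on' with
      | mem_mul_mem a ha b hb =>
        rw [map_mul]
        refine Ideal.mem_bot.mp (hJ' ▸ (pow_two J').symm ▸ Ideal.mul_mem_mul ?_ ?_)
        · exact Ideal.Quotient.eq_zero_iff_mem.mp (by rw [hχ', hk a ha, map_zero])
        · exact Ideal.Quotient.eq_zero_iff_mem.mp (by rw [hχ', hk b hb, map_zero])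
      | add a _ b _ ha hb => rw [map_add, ha, hb, add_zero]
    obtain ⟨χ', hχ'', hk'⟩ := ih C (J ^ 2) (by rw [← pow_mul, ← pow_succ']; exact hJ) χ ⟨_, hkill⟩
    refine ⟨χ', AlgHom.ext fun x => ?_, hk'⟩
    have h1 : Ideal.Quotient.mk (J ^ 2) (χ' x) = χ x := AlgHom.congr_fun hχ'' x
    have h2 := congrArg e (hχ' x)
    rw [e.apply_symm_apply, ← h1] at h2
    exact h2

/-- A surjection onto a formally smooth algebra from an algebra with kernel inside `𝔪_A` is bijective. -/
theorem injective_of_isAdicFormallySmooth_of_ker_le {A B P : Type u} [CommRing A] [CommRing B] [CommRing P]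
    [IsLocalRing A] [IsLocalRing B] [IsLocalRing P] [IsNoetherianRing P] [Algebra A B] [Algebra A P]
    [IsLocalHom (algebraMap A P)] (hB : IsAdicFormallySmooth A B (maximalIdeal B)) (π : P →ₐ[A] B)
    (hπ : Function.Surjective π) (hker : ∀ x, π x = 0 → x ∈ (maximalIdeal A).map (algebraMap A P)) :
    Function.Injective π := by
  rw [injective_iff_map_eq_zero]
  intro x hx
  refine Ideal.mem_bot.mp ?_
  rw [← Ideal.iInf_pow_eq_bot_of_isLocalRing (maximalIdeal P) (maximalIdeal.isMaximal P).ne_top, Ideal.mem_iInf]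
  intro t
  rcases Nat.eq_zero_or_pos t with rfl | ht
  · simp
  let mP := (maximalIdeal A).map (algebraMap A P)
  have hmP : mP ≤ maximalIdeal P := map_maximalIdeal_le _
  let q := Ideal.Quotient.mk (maximalIdeal P ^ t)
  let C := P ⧸ maximalIdeal P ^ t
  let J : Ideal C := mP.map q
  have hJt : J ^ t = ⊥ := by
    rw [← Ideal.map_pow]
    exact le_bot_iff.mp ((Ideal.map_mono (Ideal.pow_right_mono hmP t)).trans (Ideal.map_quotient_self _).le)
  -- the map `B → C/J`
  let g : P →ₐ[A] C ⧸ J := (Ideal.Quotient.mkₐ A J).comp (Ideal.Quotient.mkₐ A (maximalIdeal P ^ t))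
  have hg : RingHom.ker π.toRingHom ≤ RingHom.ker g.toRingHom := fun y hy =>
    Ideal.Quotient.eq_zero_iff_mem.mpr (Ideal.mem_map_of_mem q (hker y hy))
  let u : B →ₐ[A] C ⧸ J :=
    { RingHom.liftOfSurjective π.toRingHom hπ ⟨g.toRingHom, hg⟩ with
      commutes' := fun a => by
        show RingHom.liftOfSurjective π.toRingHom hπ ⟨g.toRingHom, hg⟩ (algebraMap A B a) = _
        rw [← π.commutes a]
        exact (RingHom.liftOfRightInverse_comp_apply _ _ _ ⟨g.toRingHom, hg⟩ _).trans (g.commutes a) }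
  have hu : ∀ y, u (π y) = g y := fun y => RingHom.liftOfRightInverse_comp_apply _ _ _ ⟨g.toRingHom, hg⟩ y
  have hπloc : ∀ b ∈ maximalIdeal B, ∃ y ∈ maximalIdeal P, π y = b := fun b hb => by
    obtain ⟨y, rfl⟩ := hπ b
    exact ⟨y, fun hy => hb (hy.map π), rfl⟩
  have hkill : ∀ b ∈ maximalIdeal B ^ t, u b = 0 := by
    intro b hb
    have h1 : maximalIdeal B ≤ (maximalIdeal P).map π.toRingHom := fun b hb => by
      obtain ⟨y, hy, rfl⟩ := hπloc b hb
      exact Ideal.mem_map_of_mem _ hy
    have h2 := Ideal.pow_right_mono h1 t hb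
    rw [← Ideal.map_pow] at h2
    obtain ⟨y, hy, rfl⟩ := (Ideal.mem_map_iff_of_surjective π.toRingHom hπ).mp h2
    show u (π y) = 0
    rw [hu]
    show Ideal.Quotient.mk J (q y) = 0
    rw [Ideal.Quotient.eq_zero_iff_mem.mpr hy, map_zero]
  obtain ⟨v, hv, -⟩ := exists_lift_nilpotent hB t C J
    (le_bot_iff.mp ((Ideal.pow_le_pow_right Nat.lt_two_pow_self.le).trans hJt.le)) u ⟨t, hkill⟩
  let f : P →ₐ[A] C := v.comp π
  have hf : ∀ y, f y - q y ∈ J := fun y => Ideal.Quotient.eq.mp ((AlgHom.congr_fun hv (π y)).trans (hu y))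
  have hqA : ∀ a, q (algebraMap A P a) = algebraMap A C a := fun a => rfl
  -- surjectivity
  have hs : ∀ i, ∀ c : C, ∃ y, c - f y ∈ J ^ i := by
    intro i
    induction i with
    | zero => exact fun c => ⟨0, by simp⟩
    | succ i ih =>
      intro c
      obtain ⟨y, hy⟩ := ih c
      have key : ∀ z ∈ mP ^ i, ∃ y', q z - f y' ∈ J ^ (i + 1) := by
        intro z hz
        rw [show mP ^ i = (maximalIdeal A ^ i).map (algebraMap A P) from (Ideal.map_pow _ _ _).symm] at hz
        induction hz using Submodule.span_induction with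
        | mem z hz =>
          obtain ⟨a, -, rfl⟩ := hz
          exact ⟨algebraMap A P a, by rw [hqA, f.commutes, sub_self]; exact zero_mem _⟩
        | zero => exact ⟨0, by simp⟩
        | add a b _ _ ha hb =>
          obtain ⟨y1, h1⟩ := ha
          obtain ⟨y2, h2⟩ := hb
          exact ⟨y1 + y2, by rw [map_add, map_add, add_sub_add_comm]; exact add_mem h1 h2⟩
        | smul r z hz' hz'' =>
          obtain ⟨y', hy'⟩ := hz''
          have hzJ : q z ∈ J ^ i := by
            rw [← Ideal.map_pow]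
            refine Ideal.mem_map_of_mem q ?_
            rw [show mP ^ i = (maximalIdeal A ^ i).map (algebraMap A P) from (Ideal.map_pow _ _ _).symm]
            exact hz'
          refine ⟨r * y', ?_⟩
          rw [smul_eq_mul, map_mul, map_mul, show q r * q z - f r * f y' =
            (q r - f r) * q z + f r * (q z - f y') by ring]
          refine add_mem ?_ (Ideal.mul_mem_left _ _ hy')
          rw [pow_succ']
          exact Ideal.mul_mem_mul (by rw [← neg_sub]; exact neg_mem (hf r)) hzJ
      rw [← Ideal.map_pow] at hy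
      obtain ⟨z, hz, hzy⟩ := (Ideal.mem_map_iff_of_surjective q Ideal.Quotient.mk_surjective).mp hy
      obtain ⟨y', hy'⟩ := key z hz
      refine ⟨y + y', ?_⟩
      rw [map_add, ← sub_sub, ← hzy]
      exact hy'
  have hf0 : ∀ y ∈ maximalIdeal P ^ t, f y = 0 := by
    intro y hy
    have hmC : (maximalIdeal P).map f.toRingHom ≤ (maximalIdeal P).map q := by
      refine Ideal.map_le_iff_le_comap.mpr fun z hz => ?_
      have h1 : f z = (f z - q z) + q z := by ring
      show f z ∈ (maximalIdeal P).map q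
      rw [h1]
      exact add_mem (Ideal.map_mono hmP (hf z)) (Ideal.mem_map_of_mem q hz)
    have h2 := Ideal.pow_right_mono hmC t (Ideal.map_pow f.toRingHom _ t ▸ Ideal.mem_map_of_mem f.toRingHom hy)
    rw [← Ideal.map_pow, Ideal.map_quotient_self] at h2
    exact Ideal.mem_bot.mp h2
  let fC : C →+* C := Ideal.Quotient.lift _ f.toRingHom hf0
  have hfC : Function.Surjective fC := fun c => by
    obtain ⟨y, hy⟩ := hs t c
    rw [hJt, Ideal.mem_bot, sub_eq_zero] at hy
    exact ⟨q y, hy.symm⟩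
  have h0 : fC (q x) = 0 := by show v (π x) = 0; rw [hx, map_zero]
  exact Ideal.Quotient.eq_zero_iff_mem.mp
    (injective_of_surjective_endomorphism fC hfC (h0.trans (map_zero fC).symm))

/-- Formal smoothness passes to the closed fibre. -/
theorem isAdicFormallySmooth_quotient_fibre {A B : Type u} [CommRing A] [CommRing B] [Algebra A B] (m : Ideal A)
    (n : Ideal B) (h : IsAdicFormallySmooth A B n) :
    IsAdicFormallySmooth (A ⧸ m) (B ⧸ m.map (algebraMap A B))
      (n.map (Ideal.Quotient.mk (m.map (algebraMap A B)))) := by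
  intro C _ _ J hJ ψ hψ
  obtain ⟨j, hj⟩ := hψ
  letI : Algebra A C := ((algebraMap (A ⧸ m) C).comp (Ideal.Quotient.mk m)).toAlgebra
  have : IsScalarTower A (A ⧸ m) C := IsScalarTower.of_algebraMap_eq fun _ => rfl
  obtain ⟨v, hv⟩ := h C J hJ ((ψ.restrictScalars A).comp (Ideal.Quotient.mkₐ A _)) ⟨j, fun x hx =>
    hj _ (by rw [← Ideal.map_pow]; exact Ideal.mem_map_of_mem _ hx)⟩
  have hv0 : ∀ x ∈ m.map (algebraMap A B), v x = 0 := by
    refine fun x hx => (Ideal.map_le_iff_le_comap.mpr fun a ha => ?_ : m.map (algebraMap A B) ≤ RingHom.ker v.toRingHom) hx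
    show v (algebraMap A B a) = 0
    rw [v.commutes]
    show algebraMap (A ⧸ m) C (Ideal.Quotient.mk m a) = 0
    rw [Ideal.Quotient.eq_zero_iff_mem.mpr ha, map_zero]
  let w : B ⧸ m.map (algebraMap A B) →+* C := Ideal.Quotient.lift _ v.toRingHom hv0
  refine ⟨{ w with commutes' := fun a => ?_ }, AlgHom.ext fun y => ?_⟩
  · obtain ⟨a, rfl⟩ := Ideal.Quotient.mk_surjective a
    exact v.commutes a
  · obtain ⟨y, rfl⟩ := Ideal.Quotient.mk_surjective y
    exact AlgHom.congr_fun hv y

/-- Kernels of surjections of regular local rings are generated by regular sequences. -/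
theorem exists_regular_generators_ker {R S : Type u} [CommRing R] [IsRegularLocalRing R] [CommRing S]
    [IsRegularLocalRing S] (f : R →+* S) (hf : Function.Surjective f) :
    ∃ (r : ℕ) (g : Fin r → R), Ideal.span (Set.range g) = RingHom.ker f ∧ IsWeaklyRegular R (List.ofFn g) := by
  classical
  let K := RingHom.ker f
  have : IsRegularLocalRing (R ⧸ K) :=
    IsRegularLocalRing.of_ringEquiv (R := S) (RingHom.quotientKerEquivOfSurjective hf).symm
  have hKm : K ≤ maximalIdeal R := le_maximalIdeal (RingHom.ker_ne_top f)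
  have hfg : K.FG := IsNoetherian.noetherian K
  obtain ⟨g, hg⟩ := Submodule.FG.exists_span_finset_card_eq_spanFinrank hfg |>.imp fun _ h => h
  let r := g.card
  let x : Fin r → R := fun i => (g.equivFin.symm i : R)
  have hrange : Set.range x = (g : Set R) := by
    ext z
    exact ⟨by rintro ⟨i, rfl⟩; exact (g.equivFin.symm i).2, fun hz => ⟨g.equivFin ⟨z, hz⟩, by simp [x]⟩⟩
  have hspan : Ideal.span (Set.range x) = K := by rw [hrange]; exact hg.2
  have hxK : ∀ i, x i ∈ K := fun i => hspan ▸ Ideal.subset_span ⟨i, rfl⟩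
  refine ⟨r, x, hspan, (H02CA.regular_quotient_of_independent x (fun i => hKm (hxK i)) fun a ha j => ?_).2.1⟩
  by_contra hj
  have hu : IsUnit (a j) := by simpa using hj
  have h1 : ∑ i, a i * x i ∈ K * maximalIdeal R :=
    H02CA.inf_sq_le_mul_of_isRegularLocalRing K ⟨Ideal.sum_mem _ fun i _ => Ideal.mul_mem_left _ _ (hxK i), ha⟩
  let G : Ideal R := Ideal.span (x '' {i | i ≠ j})
  have hle : K ≤ G := by
    refine Submodule.le_of_le_smul_of_le_jacobson_bot hfg (maximalIdeal_le_jacobson ⊥) ?_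
    rw [smul_eq_mul, mul_comm (maximalIdeal R)]
    nth_rewrite 1 [← hspan]
    rw [Ideal.span_le]
    rintro _ ⟨i, rfl⟩
    by_cases hij : i = j
    · subst hij
      refine (Ideal.unit_mul_mem_iff_mem _ hu).mp ?_
      rw [← Finset.add_sum_erase _ _ (Finset.mem_univ i)] at h1
      have h3 : a i * x i = (a i * x i + ∑ l ∈ Finset.univ.erase i, a l * x l) - ∑ l ∈ Finset.univ.erase i, a l * x l := by
        ring
      rw [h3]
      refine sub_mem (Submodule.mem_sup_right h1) (Submodule.mem_sup_left (Ideal.sum_mem _ fun l hl => ?_))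
      exact Ideal.mul_mem_left _ _ (Ideal.subset_span ⟨l, (Finset.mem_erase.mp hl).1, rfl⟩)
    · exact Submodule.mem_sup_left (Ideal.subset_span ⟨i, hij, rfl⟩)
  have hcard : (x '' {i | i ≠ j}).ncard < r := by
    refine lt_of_le_of_lt (Set.ncard_image_le (Set.toFinite _)) ?_
    rw [Set.ncard_eq_toFinset_card', Set.toFinset_ofPred, Finset.filter_ne']
    rw [Finset.card_erase_of_mem (Finset.mem_univ j), Finset.card_univ, Fintype.card_fin]
    have := j.pos
    omega
  have heq : G = K := le_antisymm (Ideal.span_le.mpr (by rintro _ ⟨i, -, rfl⟩; exact hxK i)) hle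
  have h5 : Submodule.spanFinrank K ≤ (x '' {i | i ≠ j}).ncard := by
    rw [← heq]
    exact Submodule.spanFinrank_span_le_ncard_of_finite (Set.toFinite _)
  have h6 : g.card = Submodule.spanFinrank K := hg.1
  omega

/-- Formally smooth quotients of flat algebras with regular closed fibre are flat. -/
theorem flat_of_isAdicFormallySmooth_of_surjective {A B P : Type u} [CommRing A] [CommRing B] [CommRing P]
    [IsLocalRing A] [IsLocalRing B] [IsLocalRing P] [IsNoetherianRing A] [IsNoetherianRing B] [IsNoetherianRing P]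
    [Algebra A B] [Algebra A P] [IsLocalHom (algebraMap A P)] [IsLocalHom (algebraMap A B)] [Module.Flat A P]
    [IsRegularLocalRing (P ⧸ (maximalIdeal A).map (algebraMap A P))]
    (hB : IsAdicFormallySmooth A B (maximalIdeal B)) (π : P →ₐ[A] B) (hπ : Function.Surjective π) :
    Module.Flat A B := by
  classical
  let mP := (maximalIdeal A).map (algebraMap A P)
  let mB := (maximalIdeal A).map (algebraMap A B)
  have hmap : mP.map π.toRingHom = mB := by
    rw [Ideal.map_map, show π.toRingHom.comp (algebraMap A P) = algebraMap A B from π.comp_algebraMap]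
  have : Nontrivial (B ⧸ mB) := Ideal.Quotient.nontrivial_iff.mpr
    (ne_top_of_le_ne_top (maximalIdeal.isMaximal B).ne_top (map_maximalIdeal_le _))
  have : IsLocalRing (B ⧸ mB) := .of_surjective' _ Ideal.Quotient.mk_surjective
  have hB0 : IsRegularLocalRing (B ⧸ mB) := by
    letI : Field (A ⧸ maximalIdeal A) := Ideal.Quotient.field _
    have h1 := isAdicFormallySmooth_quotient_fibre (maximalIdeal A) (maximalIdeal B) hB
    rw [IsLocalRing.map_maximalIdeal_of_surjective _ Ideal.Quotient.mk_surjective] at h1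
    exact (isRegularLocalRing_of_isAdicFormallySmooth h1).1
  let π0 : P ⧸ mP →+* B ⧸ mB := Ideal.quotientMap mB π.toRingHom (by rw [← hmap]; exact Ideal.le_comap_map)
  have hπ0 : Function.Surjective π0 := fun y => by
    obtain ⟨b, rfl⟩ := Ideal.Quotient.mk_surjective y
    obtain ⟨z, rfl⟩ := hπ b
    exact ⟨Ideal.Quotient.mk mP z, rfl⟩
  obtain ⟨r, gb, hgspan, hgreg⟩ := exists_regular_generators_ker π0 hπ0
  -- lifts into the kernel
  have hlift : ∀ i, ∃ g : P, Ideal.Quotient.mk mP g = gb i ∧ π g = 0 := by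
    intro i
    obtain ⟨g, hg⟩ := Ideal.Quotient.mk_surjective (gb i)
    have h1 : π0 (gb i) = 0 := RingHom.mem_ker.mp (hgspan ▸ Ideal.subset_span ⟨i, rfl⟩)
    rw [← hg] at h1
    have h2 : π g ∈ mP.map π.toRingHom := hmap ▸ Ideal.Quotient.eq_zero_iff_mem.mp h1
    obtain ⟨z, hz, hzg⟩ := (Ideal.mem_map_iff_of_surjective π.toRingHom hπ).mp h2
    refine ⟨g - z, by rw [map_sub, Ideal.Quotient.eq_zero_iff_mem.mpr hz, sub_zero, hg], ?_⟩
    rw [map_sub]
    exact sub_eq_zero.mpr hzg.symm
  choose g hg hg0 using hlift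
  have hreg : IsWeaklyRegular (P ⧸ (mP • ⊤ : Submodule P P)) (List.ofFn g) := by
    have h1 : IsWeaklyRegular (P ⧸ mP) (List.ofFn g) := by
      rw [← isWeaklyRegular_map_algebraMap_iff (P ⧸ mP), List.map_ofFn,
        show algebraMap P (P ⧸ mP) ∘ g = gb from funext hg]
      exact hgreg
    exact ((Submodule.quotEquivOfEq (mP • ⊤ : Submodule P P) mP (by rw [smul_eq_mul, Ideal.mul_top])).isWeaklyRegular_congr _).mpr h1
  have hflat := (isWeaklyRegular_and_flat_of_fibre (A := A) (List.ofFn g) P hreg).2 _ le_rfl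
  rw [List.take_length] at hflat
  let G : Ideal P := Ideal.ofList (List.ofFn g)
  have hG : ∀ y ∈ G, π y = 0 := by
    intro y hy
    refine (Ideal.span_le.mpr ?_ : G ≤ RingHom.ker π.toRingHom) hy
    intro z hz
    obtain ⟨i, rfl⟩ := List.mem_ofFn.mp hz
    exact hg0 i
  have : Nontrivial (P ⧸ G) := Ideal.Quotient.nontrivial_iff.mpr fun h =>
    one_ne_zero (α := B) ((map_one π).symm.trans (hG 1 (h ▸ Submodule.mem_top)))
  have : IsLocalRing (P ⧸ G) := .of_surjective' _ Ideal.Quotient.mk_surjective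
  have : IsLocalHom (algebraMap A (P ⧸ G)) := by
    refine ((local_hom_TFAE _).out 0 2).mpr ?_
    rw [IsScalarTower.algebraMap_eq A P (P ⧸ G), ← Ideal.map_map,
      ← IsLocalRing.map_maximalIdeal_of_surjective _ (Ideal.Quotient.mk_surjective (I := G))]
    exact Ideal.map_mono (map_maximalIdeal_le _)
  have : Module.Flat A (P ⧸ G) := Module.Flat.of_linearEquiv
    ((Submodule.quotEquivOfEq G (G • ⊤ : Submodule P P) (by rw [smul_eq_mul, Ideal.mul_top])).restrictScalars A)
  let π1 : P ⧸ G →ₐ[A] B := Ideal.Quotient.liftₐ G π hG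
  have hπ1 : Function.Surjective π1 := fun b => ⟨Ideal.Quotient.mk G (hπ b).choose, (hπ b).choose_spec⟩
  have hinj := injective_of_isAdicFormallySmooth_of_ker_le hB π1 hπ1 fun y hy => by
    obtain ⟨y, rfl⟩ := Ideal.Quotient.mk_surjective y
    have h1 : Ideal.Quotient.mk mP y ∈ RingHom.ker π0 := by
      show Ideal.Quotient.mk mB (π y) = 0
      rw [show π y = 0 from hy, map_zero]
    rw [← hgspan, show gb = Ideal.Quotient.mk mP ∘ g from funext fun i => (hg i).symm, Set.range_comp,
      ← Ideal.map_span] at h1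
    have h2 : y ∈ Ideal.span (Set.range g) ⊔ mP := by
      have := Ideal.mem_comap.mpr h1
      rwa [Ideal.comap_map_of_surjective' _ Ideal.Quotient.mk_surjective, Ideal.mk_ker] at this
    obtain ⟨a, ha, c, hc, rfl⟩ := Submodule.mem_sup.mp h2
    have ha' : a ∈ G := by
      rw [show G = Ideal.span (Set.range g) by
        show Ideal.span _ = _
        congr 1; ext z; simp [List.mem_ofFn]]
      exact ha
    rw [map_add, Ideal.Quotient.eq_zero_iff_mem.mpr ha', zero_add, IsScalarTower.algebraMap_eq A P (P ⧸ G),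
      ← Ideal.map_map]
    exact Ideal.mem_map_of_mem _ hc
  exact Module.Flat.of_linearEquiv (AlgEquiv.ofBijective π1 ⟨hinj, hπ1⟩).toLinearEquiv.symm

/-- Formally smooth local maps of complete Noetherian local rings are flat. -/
theorem flat_of_isAdicFormallySmooth_complete {A B : Type u} [CommRing A] [CommRing B]
    [IsLocalRing A] [IsLocalRing B] [IsNoetherianRing A] [IsNoetherianRing B]
    [IsAdicComplete (maximalIdeal A) A] [IsAdicComplete (maximalIdeal B) B]
    [Algebra A B] [IsLocalHom (algebraMap A B)] (h : IsAdicFormallySmooth A B (maximalIdeal B)) :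
    Module.Flat A B := by
  obtain ⟨Λ, Λ', _, _, _, _, n, m, ρ, σ, τ, hcases, hρ, hσ, hcomm, hτloc, hτflat, hfib⟩ := exists_flat_presentation A B
  let W := MvPowerSeries (Fin n) Λ
  let W' := MvPowerSeries (Fin m) Λ'
  have hΛ' : IsField Λ' ∨ CAlg.IsCohenRing Λ' := hcases.imp (fun h => h.2.2) (fun h => h.2.2)
  have := isRegularRing_of_isField_or_isCohenRing hΛ'
  have : IsRegularRing W' := S5784.result Λ' _
  letI : Algebra W A := ρ.toAlgebra
  letI : Algebra W W' := τ.toAlgebra
  have : Module.Flat W W' := hτflat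
  letI : Algebra W B := ((algebraMap A B).comp ρ).toAlgebra
  have : IsScalarTower W A B := IsScalarTower.of_algebraMap_eq fun _ => rfl
  let P := A ⊗[W] W'
  let σ' : W' →ₐ[W] B := { σ with commutes' := fun w => RingHom.congr_fun hcomm w }
  let π : P →ₐ[A] B := Algebra.TensorProduct.lift (Algebra.ofId A B) σ' fun _ _ => Commute.all _ _
  have hπ : Function.Surjective π := fun b => by
    obtain ⟨w, rfl⟩ := hσ b
    exact ⟨1 ⊗ₜ w, by show algebraMap A B 1 * σ w = σ w; rw [map_one, one_mul]⟩
  let ι : W' →+* P := (Algebra.TensorProduct.includeRight : W' →ₐ[W] P).toRingHom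
  have hι : Function.Surjective ι := fun z => by
    induction z using TensorProduct.induction_on with
    | zero => exact ⟨0, map_zero _⟩
    | add a b ha hb => obtain ⟨x, hx⟩ := ha; obtain ⟨y, hy⟩ := hb; exact ⟨x + y, by rw [map_add, hx, hy]⟩
    | tmul a w' =>
      obtain ⟨w, rfl⟩ := hρ a
      refine ⟨τ w * w', ?_⟩
      show (1 : A) ⊗ₜ[W] (w • w') = ρ w ⊗ₜ[W] w'
      rw [← TensorProduct.smul_tmul, Algebra.smul_def, mul_one]
      rfl
  have : IsNoetherianRing P := isNoetherianRing_of_surjective _ _ ι hι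
  have : Nontrivial P := π.toRingHom.domain_nontrivial
  have : IsLocalRing P := .of_surjective' ι hι
  have hmW : (maximalIdeal W).map ρ = maximalIdeal A := IsLocalRing.map_maximalIdeal_of_surjective ρ hρ
  have hιC : ∀ w, ι (τ w) = algebraMap A P (ρ w) := fun w =>
    (Algebra.TensorProduct.includeRight : W' →ₐ[W] P).commutes w
  have : IsLocalHom (algebraMap A P) := by
    refine ((local_hom_TFAE _).out 0 2).mpr ?_
    rw [← hmW, Ideal.map_map, ← show ι.comp τ = (algebraMap A P).comp ρ from RingHom.ext hιC, ← Ideal.map_map,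
      ← IsLocalRing.map_maximalIdeal_of_surjective ι hι]
    exact Ideal.map_mono (((local_hom_TFAE τ).out 0 2).mp hτloc)
  have : Module.Flat A P := Module.Flat.baseChange W A W'
  have : IsRegularLocalRing (P ⧸ (maximalIdeal A).map (algebraMap A P)) := by
    let I := (maximalIdeal W).map τ
    let mP := (maximalIdeal A).map (algebraMap A P)
    have hIm : I.map ι = mP := by
      show _ = Ideal.map (algebraMap A P) (maximalIdeal A)
      rw [← hmW, Ideal.map_map, Ideal.map_map]
      exact congrArg (fun f => Ideal.map f (maximalIdeal W)) (RingHom.ext hιC)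
    let f : W' ⧸ I →+* P ⧸ mP := Ideal.quotientMap mP ι (by rw [← hIm]; exact Ideal.le_comap_map)
    refine IsRegularLocalRing.of_ringEquiv (R := W' ⧸ I) (RingEquiv.ofBijective f ⟨?_, ?_⟩)
    · refine Ideal.quotientMap_injective' ?_
      intro y hy
      have h1 : ι y ∈ I.map ι := hIm ▸ hy
      rw [← Ideal.mem_comap, Ideal.comap_map_of_surjective' ι hι] at h1
      refine (show I ⊔ RingHom.ker ι ≤ I from sup_le le_rfl ?_) h1
      intro z hz
      have hle : RingHom.ker ρ ≤ RingHom.ker ((Ideal.Quotient.mk I).comp τ) := fun w hw =>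
        Ideal.Quotient.eq_zero_iff_mem.mpr
          (Ideal.mem_map_of_mem τ (le_maximalIdeal (RingHom.ker_ne_top ρ) hw))
      let hA : A →ₐ[W] W' ⧸ I :=
        { RingHom.liftOfSurjective ρ hρ ⟨(Ideal.Quotient.mk I).comp τ, hle⟩ with
          commutes' := fun w => RingHom.liftOfRightInverse_comp_apply _ _ _ ⟨(Ideal.Quotient.mk I).comp τ, hle⟩ w }
      let Φ := Algebra.TensorProduct.lift hA (Ideal.Quotient.mkₐ W I) fun _ _ => Commute.all _ _
      have hΦ : Φ (ι z) = Ideal.Quotient.mk I z := by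
        show hA 1 * Ideal.Quotient.mk I z = _
        rw [map_one, one_mul]
      rw [show ι z = 0 from hz, map_zero] at hΦ
      exact Ideal.Quotient.eq_zero_iff_mem.mp hΦ.symm
    · exact Ideal.quotientMap_surjective hι
  exact flat_of_isAdicFormallySmooth_of_surjective h π hπ

/-- Formally smooth local homomorphisms of Noetherian local rings are flat. -/
theorem flat_of_isAdicFormallySmooth {A B : Type u} [CommRing A] [CommRing B]
    [IsLocalRing A] [IsLocalRing B] [IsNoetherianRing A] [IsNoetherianRing B]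
    [Algebra A B] [IsLocalHom (algebraMap A B)] (h : IsAdicFormallySmooth A B (maximalIdeal B)) :
    Module.Flat A B := by
  let Ah := AdicCompletion (maximalIdeal A) A
  let Bh := AdicCompletion (maximalIdeal B) B
  let f : ∀ k, Ah →ₐ[A] B ⧸ maximalIdeal B ^ k := fun k =>
    (Ideal.quotientMapₐ (maximalIdeal B ^ k) (Algebra.ofId A B) (Ideal.map_le_iff_le_comap.mp
      ((Ideal.map_pow (algebraMap A B) _ k).le.trans (Ideal.pow_right_mono (map_maximalIdeal_le _) k)))).comp
      (AdicCompletion.evalₐ (maximalIdeal A) k)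
  let ψ : Ah →ₐ[A] Bh := AdicCompletion.liftAlgHom (maximalIdeal B) f fun {j k} hle => AlgHom.ext fun x => by
    obtain ⟨x, rfl⟩ : ∃ c, AdicCompletion.mkₐ (maximalIdeal A) c = x := AdicCompletion.mk_surjective _ _ x
    simp only [AlgHom.comp_apply, f, AdicCompletion.evalₐ_mkₐ]
    show Ideal.Quotient.mk _ (algebraMap A B (x.val k)) = Ideal.Quotient.mk _ (algebraMap A B (x.val j))
    have hx := Ideal.Quotient.eq.mp (AdicCompletion.Ideal.mk_eq_mk (maximalIdeal A) hle x)
    rw [Ideal.Quotient.eq, ← map_sub]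
    refine Ideal.pow_right_mono (map_maximalIdeal_le (f := algebraMap A B)) j ?_
    rw [← Ideal.map_pow]
    exact Ideal.mem_map_of_mem _ hx
  letI : Algebra Ah Bh := ψ.toRingHom.toAlgebra
  have : IsScalarTower A Ah Bh := IsScalarTower.of_algebraMap_eq fun a => (ψ.commutes a).symm
  have hFS := (S9317.result (maximalIdeal A) (maximalIdeal B) (IsNoetherian.noetherian _) (IsNoetherian.noetherian _)
    ⟨1, by rw [pow_one]; exact map_maximalIdeal_le _⟩ ψ.toRingHom
    (RingHom.ext fun a => (ψ.commutes a).trans (IsScalarTower.algebraMap_apply A B Bh a))).mp h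
  rw [← AdicCompletion.maximalIdeal_eq_map] at hFS
  have : IsNoetherianRing Ah := isNoetherianRing_adicCompletion A (maximalIdeal A)
  have : IsNoetherianRing Bh := isNoetherianRing_adicCompletion B (maximalIdeal B)
  have : IsAdicComplete (maximalIdeal Ah) Ah := by
    rw [AdicCompletion.maximalIdeal_eq_map]
    exact AdicCompletion.isAdicComplete_self _ (IsNoetherian.noetherian _)
  have : IsAdicComplete (maximalIdeal Bh) Bh := by
    rw [AdicCompletion.maximalIdeal_eq_map]
    exact AdicCompletion.isAdicComplete_self _ (IsNoetherian.noetherian _)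
  have : IsLocalHom (algebraMap Ah Bh) := by
    refine ((local_hom_TFAE _).out 0 2).mpr ?_
    rw [AdicCompletion.maximalIdeal_eq_map, Ideal.map_map, ← IsScalarTower.algebraMap_eq,
      IsScalarTower.algebraMap_eq A B Bh, ← Ideal.map_map, AdicCompletion.maximalIdeal_eq_map]
    exact Ideal.map_mono (map_maximalIdeal_le _)
  have : Module.Flat Ah Bh := flat_of_isAdicFormallySmooth_complete hFS
  have : Module.Flat A Ah := AdicCompletion.flat_of_isNoetherian _
  have : Module.Flat A Bh := Module.Flat.trans A Ah Bh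
  have : Module.Flat B Bh := AdicCompletion.flat_of_isNoetherian _
  have : IsLocalHom (algebraMap B Bh) := by
    refine ((local_hom_TFAE _).out 0 2).mpr ?_
    rw [← AdicCompletion.maximalIdeal_eq_map]
  have : Module.FaithfullyFlat B Bh := Module.FaithfullyFlat.of_flat_of_isLocalHom
  exact H06Desc.flat_of_faithfullyFlat_top (T := Bh)

/-- Adic formal smoothness is invariant under isomorphisms of base and algebra. -/
theorem isAdicFormallySmooth_of_ringEquiv {R R' S S' : Type u} [CommRing R] [CommRing R'] [CommRing S] [CommRing S']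
    [Algebra R S] [Algebra R' S'] (e₀ : R ≃+* R') (e : S ≃+* S')
    (he : ∀ r, e (algebraMap R S r) = algebraMap R' S' (e₀ r)) {n : Ideal S} {n' : Ideal S'}
    (hn : n.map e.toRingHom = n') (h : IsAdicFormallySmooth R S n) : IsAdicFormallySmooth R' S' n' := by
  intro C _ _ J hJ ψ hψ
  obtain ⟨j, hj⟩ := hψ
  letI : Algebra R C := ((algebraMap R' C).comp e₀.toRingHom).toAlgebra
  let ψ' : S →ₐ[R] C ⧸ J :=
    { ψ.toRingHom.comp e.toRingHom with
      commutes' := fun r => by
        show ψ (e (algebraMap R S r)) = Ideal.Quotient.mk J (algebraMap R' C (e₀ r))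
        rw [he, ψ.commutes]
        rfl }
  obtain ⟨χ, hχ⟩ := h C J hJ ψ' ⟨j, fun x hx => hj _ (by
    rw [← hn, ← Ideal.map_pow]; exact Ideal.mem_map_of_mem _ hx)⟩
  refine ⟨{ χ.toRingHom.comp e.symm.toRingHom with
    commutes' := fun r => by
      show χ (e.symm (algebraMap R' S' r)) = _
      obtain ⟨r, rfl⟩ := e₀.surjective r
      rw [← he, e.symm_apply_apply]
      exact χ.commutes r }, AlgHom.ext fun x => ?_⟩
  show Ideal.Quotient.mk J (χ (e.symm x)) = ψ x
  refine (AlgHom.congr_fun hχ (e.symm x)).trans ?_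
  show ψ (e (e.symm x)) = ψ x
  rw [e.apply_symm_apply]

/-- The closed fibre in the form `κ ⊗ B`. -/
theorem exists_fibre_equiv (A B : Type u) [CommRing A] [IsLocalRing A] [CommRing B] [Algebra A B] :
    ∃ (e₀ : (A ⧸ maximalIdeal A) ≃+* (maximalIdeal A).ResidueField)
      (e : (B ⧸ (maximalIdeal A).map (algebraMap A B)) ≃+* (maximalIdeal A).Fiber B),
      ∀ r, e (algebraMap (A ⧸ maximalIdeal A) _ r) =
        algebraMap (maximalIdeal A).ResidueField _ (e₀ r) := by
  let m := maximalIdeal A
  let κ := m.ResidueField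
  have h0 := Ideal.bijective_algebraMap_quotient_residueField m
  let e₀ : (A ⧸ m) ≃+* κ := RingEquiv.ofBijective _ h0
  let fwd : B →ₐ[A] κ ⊗[A] B := Algebra.TensorProduct.includeRight
  have hfwd : ∀ x ∈ m.map (algebraMap A B), fwd x = 0 := fun x hx =>
    (Ideal.map_le_iff_le_comap.mpr fun a ha => by
      show fwd (algebraMap A B a) = 0
      rw [fwd.commutes, IsScalarTower.algebraMap_apply A κ (κ ⊗[A] B),
        Ideal.algebraMap_residueField_eq_zero.mpr ha, map_zero] : m.map (algebraMap A B) ≤ RingHom.ker fwd.toRingHom) hx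
  let f := Ideal.Quotient.liftₐ _ fwd hfwd
  let e₀A : (A ⧸ m) ≃ₐ[A] κ := AlgEquiv.ofRingEquiv (f := e₀) fun a => (IsScalarTower.algebraMap_apply A (A ⧸ m) κ a).symm
  let g0 : κ →ₐ[A] B ⧸ m.map (algebraMap A B) :=
    (IsScalarTower.toAlgHom A (A ⧸ m) _).comp e₀A.symm.toAlgHom
  let g : κ ⊗[A] B →ₐ[A] B ⧸ m.map (algebraMap A B) :=
    Algebra.TensorProduct.lift g0 (Ideal.Quotient.mkₐ A _) fun _ _ => Commute.all _ _
  have h1 : f.comp g = AlgHom.id A _ := by
    refine Algebra.TensorProduct.ext (Ideal.ResidueField.algHom_ext (Subsingleton.elim _ _)) (AlgHom.ext fun b => ?_)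
    show f (g0 1 * Ideal.Quotient.mk _ b) = 1 ⊗ₜ b
    rw [map_one, one_mul]
    rfl
  have h2 : g.comp f = AlgHom.id A _ := by
    refine Ideal.Quotient.algHom_ext A (AlgHom.ext fun b => ?_)
    show g (1 ⊗ₜ b) = Ideal.Quotient.mk _ b
    show g0 1 * Ideal.Quotient.mk _ b = _
    rw [map_one, one_mul]
  refine ⟨e₀, (AlgEquiv.ofAlgHom f g h1 h2).toRingEquiv, fun r => ?_⟩
  obtain ⟨a, rfl⟩ := Ideal.Quotient.mk_surjective r
  show f (algebraMap A _ a) = algebraMap κ (κ ⊗[A] B) (algebraMap (A ⧸ m) κ (Ideal.Quotient.mk m a))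
  rw [f.commutes, IsScalarTower.algebraMap_apply A κ (κ ⊗[A] B), IsScalarTower.algebraMap_apply A (A ⧸ m) κ]
  rfl

end Groth.Agent.H05EGA4
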