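import Mathlib
import Groth.Prelude.Def_CAlgX
import Groth.Agent.S9316

/-!
# Flat local homomorphisms with formally smooth closed fibre (helper5)
-/

set_option autoImplicit false
set_option linter.style.haveILetI false
set_option maxHeartbeats 800000
set_option synthInstance.maxHeartbeats 200000
universe u
open IsLocalRing TensorProduct CAlgX

namespace Groth.Agent.H05EGA4

/-- If `P` is flat and `f : N → P` is surjective with kernel `g(M)`, then `g` stays injective modulo `I`. -/
theorem mem_smul_top_of_flat {R M N P : Type u} [CommRing R] [AddCommGroup M] [Module R M] [AddCommGroup N]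
    [Module R N] [AddCommGroup P] [Module R P] [Module.Flat R P] (g : M →ₗ[R] N) (f : N →ₗ[R] P)
    (hg : Function.Injective g) (hf : Function.Surjective f) (H : Function.Exact g f) (I : Ideal R) (z : M)
    (hz : g z ∈ I • (⊤ : Submodule R N)) : z ∈ I • (⊤ : Submodule R M) := by
  have hinj := LinearMap.lTensor_injective_of_exact_of_flat f hf g hg H (R ⧸ I)
  have h1 : (1 : R ⧸ I) ⊗ₜ[R] g z = 0 := by
    refine (TensorProduct.quotTensorEquivQuotSMul N I).injective ?_
    rw [← map_one (Ideal.Quotient.mk I), TensorProduct.quotTensorEquivQuotSMul_mk_tmul, one_smul, map_zero]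
    exact (Submodule.Quotient.mk_eq_zero _).mpr hz
  have h2 : (1 : R ⧸ I) ⊗ₜ[R] z = 0 := hinj (by rw [LinearMap.lTensor_tmul, h1, map_zero])
  have h3 := congrArg (TensorProduct.quotTensorEquivQuotSMul M I) h2
  rw [← map_one (Ideal.Quotient.mk I), TensorProduct.quotTensorEquivQuotSMul_mk_tmul, one_smul, map_zero] at h3
  exact (Submodule.Quotient.mk_eq_zero _).mp h3

/-- Lifting through a square-zero surjection. -/
theorem exists_lift_of_surjective {k B₀ E₀ B₁ : Type u} [CommRing k] [CommRing B₀] [CommRing E₀] [CommRing B₁]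
    [Algebra k B₀] [Algebra k E₀] [Algebra k B₁] {n : Ideal B₀} (h : IsAdicFormallySmooth k B₀ n)
    (π : E₀ →ₐ[k] B₁) (hπ : Function.Surjective π) (hsq : ∀ x y, π x = 0 → π y = 0 → x * y = 0) (g : B₀ →ₐ[k] B₁)
    (hg : ∃ j : ℕ, ∀ x ∈ n ^ j, g x = 0) : ∃ χ : B₀ →ₐ[k] E₀, ∀ x, π (χ x) = g x := by
  let J₀ := RingHom.ker π
  have hJ : J₀ ^ 2 = ⊥ := by
    rw [pow_two, ← le_bot_iff, Ideal.mul_le]
    exact fun x hx y hy => Ideal.mem_bot.mpr (hsq x y hx hy)
  let e := Ideal.quotientKerAlgEquivOfSurjective hπ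
  obtain ⟨j, hj⟩ := hg
  obtain ⟨χ, hχ⟩ := h E₀ J₀ hJ (e.symm.toAlgHom.comp g) ⟨j, fun x hx => by
    show e.symm (g x) = 0
    rw [hj x hx, map_zero]⟩
  refine ⟨χ, fun x => ?_⟩
  have h1 : Ideal.Quotient.mk J₀ (χ x) = e.symm (g x) := AlgHom.congr_fun hχ x
  have h2 := congrArg e h1
  rw [e.apply_symm_apply] at h2
  exact h2

/-- A section of a surjection from compatible data modulo a complementary quotient. -/
theorem exists_section_of_quotient {A E B E₀ : Type u} [CommRing A] [CommRing E] [CommRing B] [CommRing E₀]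
    [Algebra A E] [Algebra A B] [Algebra A E₀] (p : E →ₐ[A] B) (hp : Function.Surjective p) (q : E →ₐ[A] E₀)
    (σ : B →ₐ[A] E₀) (hker : ∀ e, p e = 0 → q e = 0 → e = 0)
    (hlift : ∀ e, ∃ e', p e' = 0 ∧ q e' = q e - σ (p e)) : ∃ s : B →ₐ[A] E, ∀ b, p (s b) = b := by
  let E' : Subalgebra A E := AlgHom.equalizer q (σ.comp p)
  have hbij : Function.Bijective (p.comp E'.val) := by
    constructor
    · intro x y hxy
      have h0 : p (x.1 - y.1) = 0 := by rw [map_sub]; exact sub_eq_zero.mpr hxy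
      refine Subtype.ext (sub_eq_zero.mp (hker _ h0 ?_))
      rw [map_sub, show q x.1 = σ (p x.1) from x.2, show q y.1 = σ (p y.1) from y.2, ← map_sub, ← map_sub, h0,
        map_zero]
    · intro b
      obtain ⟨e, rfl⟩ := hp b
      obtain ⟨e', he', hqe'⟩ := hlift e
      refine ⟨⟨e - e', ?_⟩, show p (e - e') = p e by rw [map_sub, he', sub_zero]⟩
      show q (e - e') = σ (p (e - e'))
      rw [map_sub, map_sub, hqe', he', sub_zero, sub_sub_cancel]
  exact ⟨E'.val.comp (AlgEquiv.ofBijective _ hbij).symm.toAlgHom,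
    fun b => (AlgEquiv.ofBijective _ hbij).apply_symm_apply b⟩

/-- Flat with formally smooth closed fibre implies formally smooth. -/
theorem isAdicFormallySmooth_of_flat_of_fibre {A B : Type u} [CommRing A] [IsLocalRing A] [CommRing B]
    [IsLocalRing B] [IsNoetherianRing B] [Algebra A B] [IsLocalHom (algebraMap A B)] [Module.Flat A B]
    (h : IsAdicFormallySmooth (A ⧸ maximalIdeal A) (B ⧸ (maximalIdeal A).map (algebraMap A B))
      ((maximalIdeal B).map (Ideal.Quotient.mk ((maximalIdeal A).map (algebraMap A B))))) :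
    IsAdicFormallySmooth A B (maximalIdeal B) := by
  classical
  refine S9316.result.mpr ?_
  intro C _ _ _ _ _ J hJ hlen _ ψ hψloc _
  let m := maximalIdeal A
  have hsimp : IsSimpleModule C J := Module.length_eq_one_iff.mp hlen
  have hann : ∀ c ∈ maximalIdeal C, ∀ z ∈ J, c * z = 0 := by
    intro c hc z hz
    by_contra h0
    obtain ⟨d, hd⟩ := IsSimpleModule.toSpanSingleton_surjective C
      (m := (⟨c * z, J.mul_mem_left c hz⟩ : J)) (fun h => h0 (congrArg Subtype.val h)) ⟨z, hz⟩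
    have hd' : d * (c * z) = z := congrArg Subtype.val hd
    have h1 : IsUnit (1 - d * c) :=
      (IsLocalRing.isUnit_or_isUnit_one_sub_self (d * c)).resolve_left fun hu =>
        (IsLocalRing.mem_maximalIdeal _).mp hc (IsUnit.mul_iff.mp hu).2
    have hz0 : z = 0 := (h1.mul_right_eq_zero).mp (by linear_combination -hd')
    exact h0 (by rw [hz0, mul_zero])
  -- `ψ` kills a power of the maximal ideal
  obtain ⟨j, hj⟩ : ∃ j : ℕ, ∀ x ∈ maximalIdeal B ^ j, ψ x = 0 := by
    obtain ⟨N, hN⟩ := (isArtinianRing_iff_isNilpotent_maximalIdeal C).mp ‹_›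
    refine ⟨N, fun x hx => ?_⟩
    have h1 : (maximalIdeal B).map ψ.toRingHom ≤ maximalIdeal (C ⧸ J) :=
      Ideal.map_le_iff_le_comap.mpr fun y hy => map_nonunit _ y hy
    have h2 := (Ideal.pow_right_mono h1 N) (Ideal.map_pow ψ.toRingHom _ N ▸ Ideal.mem_map_of_mem ψ.toRingHom hx)
    rw [← IsLocalRing.map_maximalIdeal_of_surjective _ (Ideal.Quotient.mk_surjective (I := J)), ← Ideal.map_pow,
      hN] at h2
    simpa using h2
  -- the fibre product
  let E : Subalgebra A (C × B) :=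
    AlgHom.equalizer ((Ideal.Quotient.mkₐ A J).comp (AlgHom.fst A C B)) (ψ.comp (AlgHom.snd A C B))
  have hE : ∀ x : C × B, x ∈ E ↔ Ideal.Quotient.mk J x.1 = ψ x.2 := fun x => Iff.rfl
  let p2 : E →ₐ[A] B := (AlgHom.snd A C B).comp E.val
  let p1 : E →ₐ[A] C := (AlgHom.fst A C B).comp E.val
  have hp2 : Function.Surjective p2 := fun b => by
    obtain ⟨c, hc⟩ := Ideal.Quotient.mk_surjective (ψ b)
    exact ⟨⟨(c, b), hc⟩, rfl⟩
  have hJmem : ∀ z : J, ((z : C), (0 : B)) ∈ E := fun z => by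
    show Ideal.Quotient.mk J (z : C) = ψ 0
    rw [map_zero, Ideal.Quotient.eq_zero_iff_mem]; exact z.2
  let ι : J →ₗ[A] E :=
    { toFun := fun z => ⟨((z : C), 0), hJmem z⟩
      map_add' := fun _ _ => Subtype.ext (Prod.ext rfl (add_zero 0).symm)
      map_smul' := fun _ _ => Subtype.ext (Prod.ext rfl (smul_zero _).symm) }
  have hι : Function.Injective ι := fun z z' hzz => Subtype.ext (congrArg (fun e : E => e.1.1) hzz)
  have hexact : Function.Exact ι p2.toLinearMap := by
    intro e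
    constructor
    · intro he
      have he2 : e.1.2 = 0 := he
      refine ⟨⟨e.1.1, ?_⟩, Subtype.ext (Prod.ext rfl he2.symm)⟩
      have := (hE _).mp e.2
      rw [he2, map_zero, Ideal.Quotient.eq_zero_iff_mem] at this
      exact this
    · rintro ⟨z, rfl⟩; rfl
  have hinj : ∀ z : J, ι z ∈ m.map (algebraMap A E) → z = 0 := by
    intro z hz
    have hz' : ι z ∈ m • (⊤ : Submodule A E) := by rw [Ideal.smul_top_eq_map]; exact hz
    have h1 := mem_smul_top_of_flat ι p2.toLinearMap hι hp2 hexact m z hz'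
    have h2 : m • (⊤ : Submodule A J) = ⊥ := by
      refine le_bot_iff.mp (Submodule.smul_le.mpr fun a ha w _ => ?_)
      refine (Submodule.mem_bot A).mpr (Subtype.ext ?_)
      show a • (w : C) = 0
      rw [Algebra.smul_def]
      exact hann _ (map_nonunit _ a ha) _ w.2
    rw [h2] at h1
    exact (Submodule.mem_bot A).mp h1
  -- Artin–Rees
  let mB := m.map (algebraMap A B)
  obtain ⟨k₀, hk₀⟩ := Ideal.exists_pow_inf_eq_pow_smul (maximalIdeal B) (mB : Submodule B B)
  let j' := j + k₀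
  let I : Ideal E := RingHom.ker p1.toRingHom ⊓ (maximalIdeal B ^ j').comap p2.toRingHom
  have hI : ∀ e : E, e.1.1 = 0 → e.1.2 ∈ maximalIdeal B ^ j' → e.1.2 ∈ mB → e ∈ m.map (algebraMap A E) := by
    intro e he1 he2 he3
    have h1 : e.1.2 ∈ (maximalIdeal B ^ j' • ⊤ ⊓ (mB : Submodule B B) : Submodule B B) :=
      ⟨by rw [smul_eq_mul, Ideal.mul_top]; exact he2, he3⟩
    rw [hk₀ j' (Nat.le_add_left _ _), show j' - k₀ = j from Nat.add_sub_cancel ..] at h1
    have h2 : e.1.2 ∈ mB * maximalIdeal B ^ j := by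
      rw [mul_comm]
      exact Ideal.mul_mono_right inf_le_right h1
    have key : ∀ y ∈ mB * maximalIdeal B ^ j, ∃ e' : E, e' ∈ m.map (algebraMap A E) ∧ e'.1 = ((0 : C), y) := by
      intro y hy
      induction hy using Submodule.mul_induction_on' with
      | mem_mul_mem x hx w hw =>
        change x ∈ m.map (algebraMap A B) at hx
        induction hx using Submodule.span_induction generalizing w with
        | mem x hx =>
          obtain ⟨a, ha, rfl⟩ := hx
          have hwE : ((0 : C), w) ∈ E := by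
            show Ideal.Quotient.mk J 0 = ψ w
            rw [map_zero, hj w hw]
          refine ⟨algebraMap A E a * ⟨_, hwE⟩, Ideal.mul_mem_right _ _ (Ideal.mem_map_of_mem _ ha), ?_⟩
          show (algebraMap A C a * 0, algebraMap A B a * w) = _
          rw [mul_zero]
        | zero => exact ⟨0, zero_mem _, by rw [zero_mul]; rfl⟩
        | add x y _ _ hx hy =>
          obtain ⟨e1, he1, h1⟩ := hx w hw
          obtain ⟨e2, he2, h2⟩ := hy w hw
          refine ⟨e1 + e2, add_mem he1 he2, ?_⟩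
          show e1.1 + e2.1 = _
          rw [h1, h2, add_mul, Prod.mk_add_mk, add_zero]
        | smul c x _ hx =>
          obtain ⟨e1, he1, h1⟩ := hx (c * w) (Ideal.mul_mem_left _ c hw)
          refine ⟨e1, he1, ?_⟩
          rw [h1, smul_eq_mul, mul_comm c x, mul_assoc]
      | add x _ y _ hx hy =>
        obtain ⟨e1, he1, h1⟩ := hx
        obtain ⟨e2, he2, h2⟩ := hy
        refine ⟨e1 + e2, add_mem he1 he2, ?_⟩
        show e1.1 + e2.1 = _
        rw [h1, h2, Prod.mk_add_mk, add_zero]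
    obtain ⟨e', he', heq⟩ := key _ h2
    have : e' = e := Subtype.ext (heq.trans (Prod.ext he1.symm rfl))
    exact this ▸ he'
  let Q : Ideal E := m.map (algebraMap A E) ⊔ I
  let E0 := E ⧸ Q
  letI : Algebra (A ⧸ m) E0 :=
    Ideal.Quotient.algebraQuotientOfLEComap (Ideal.le_comap_map.trans (Ideal.comap_mono le_sup_left))
  have : IsScalarTower A (A ⧸ m) E0 := IsScalarTower.of_algebraMap_eq fun _ => rfl
  have hQ : ∀ z : J, ι z ∈ Q → z = 0 := by
    intro z hz
    obtain ⟨u, hu, i, hi, hui⟩ := Submodule.mem_sup.mp hz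
    refine hinj z (hui ▸ add_mem hu (hI i hi.1 hi.2 ?_))
    have h1 : p2 u + p2 i = 0 := by rw [← map_add, hui]; rfl
    have h2 : p2 u ∈ mB := by
      have := Ideal.mem_map_of_mem p2.toRingHom hu
      rwa [Ideal.map_map, show p2.toRingHom.comp (algebraMap A E) = algebraMap A B from p2.comp_algebraMap] at this
    show p2 i ∈ mB
    rw [eq_neg_of_add_eq_zero_right h1]
    exact neg_mem h2
  -- the square-zero extension of the fibre
  let P : Ideal B := mB ⊔ maximalIdeal B ^ j'
  have hQP : ∀ e ∈ Q, p2 e ∈ P := by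
    intro e he
    obtain ⟨u, hu, i, hi, rfl⟩ := Submodule.mem_sup.mp he
    rw [map_add]
    refine add_mem (Submodule.mem_sup_left ?_) (Submodule.mem_sup_right hi.2)
    have := Ideal.mem_map_of_mem p2.toRingHom hu
    rwa [Ideal.map_map, show p2.toRingHom.comp (algebraMap A E) = algebraMap A B from p2.comp_algebraMap] at this
  have hPle : mB ≤ P := le_sup_left
  letI : Algebra (A ⧸ m) (B ⧸ P) :=
    Ideal.Quotient.algebraQuotientOfLEComap (Ideal.le_comap_map.trans (Ideal.comap_mono hPle))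
  let π0 : E0 →+* B ⧸ P :=
    Ideal.Quotient.lift Q ((Ideal.Quotient.mk P).comp p2.toRingHom) fun e he =>
      Ideal.Quotient.eq_zero_iff_mem.mpr (hQP e he)
  let π1 : E0 →ₐ[A ⧸ m] B ⧸ P :=
    { π0 with
      commutes' := fun a => by
        obtain ⟨a, rfl⟩ := Ideal.Quotient.mk_surjective a
        exact congrArg (Ideal.Quotient.mk P) (p2.commutes a) }
  have hJ0 : ∀ x, π1 x = 0 → ∃ z : J, x = Ideal.Quotient.mk Q (ι z) := by
    intro x hx
    obtain ⟨e, rfl⟩ := Ideal.Quotient.mk_surjective x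
    have he : p2 e ∈ P := Ideal.Quotient.eq_zero_iff_mem.mp hx
    obtain ⟨u, hu, v, hv, huv⟩ := Submodule.mem_sup.mp he
    have hv' : ((0 : C), v) ∈ E := by
      show Ideal.Quotient.mk J 0 = ψ v
      rw [map_zero, hj v (Ideal.pow_le_pow_right (Nat.le_add_right j k₀) hv)]
    obtain ⟨u', hu', hu'2⟩ := (Ideal.mem_map_iff_of_surjective p2.toRingHom hp2).mp (show u ∈ (m.map (algebraMap A E)).map p2.toRingHom by
      rwa [Ideal.map_map, show p2.toRingHom.comp (algebraMap A E) = algebraMap A B from p2.comp_algebraMap])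
    obtain ⟨z, hz⟩ := (hexact (e - u' - ⟨_, hv'⟩)).mp (by
      show p2 e - p2 u' - v = 0
      rw [show p2 u' = u from hu'2, ← huv]; ring)
    refine ⟨z, Ideal.Quotient.eq.mpr ?_⟩
    rw [hz, sub_sub, sub_sub_cancel]
    exact add_mem (Submodule.mem_sup_left hu') (Submodule.mem_sup_right ⟨rfl, hv⟩)
  have hsq : ∀ x y, π1 x = 0 → π1 y = 0 → x * y = 0 := by
    intro x y hx hy
    obtain ⟨z, rfl⟩ := hJ0 x hx
    obtain ⟨w, rfl⟩ := hJ0 y hy
    rw [← map_mul]
    have : ι z * ι w = 0 := Subtype.ext (Prod.ext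
      (show (z : C) * w = 0 from Ideal.mem_bot.mp (hJ ▸ (pow_two J).symm ▸ Ideal.mul_mem_mul z.2 w.2)) (mul_zero 0))
    rw [this, map_zero]
  have hπ1 : Function.Surjective π1 := fun y => by
    obtain ⟨b, rfl⟩ := Ideal.Quotient.mk_surjective y
    obtain ⟨e, rfl⟩ := hp2 b
    exact ⟨Ideal.Quotient.mk Q e, rfl⟩
  let g : B ⧸ mB →ₐ[A ⧸ m] B ⧸ P :=
    { Ideal.Quotient.factor hPle with
      commutes' := fun a => by
        obtain ⟨a, rfl⟩ := Ideal.Quotient.mk_surjective a
        rfl }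
  obtain ⟨χ0, hχ0⟩ := exists_lift_of_surjective (E₀ := E0) (B₁ := B ⧸ P) h π1 hπ1 hsq g ⟨j', fun x hx => by
    rw [← Ideal.map_pow] at hx
    obtain ⟨b, hb, rfl⟩ := (Ideal.mem_map_iff_of_surjective _ Ideal.Quotient.mk_surjective).mp hx
    exact Ideal.Quotient.eq_zero_iff_mem.mpr (Submodule.mem_sup_right hb)⟩
  -- the section
  have hker : ∀ e : E, p2 e = 0 → Ideal.Quotient.mk Q e = 0 → e = 0 := fun e he he' => by
    obtain ⟨z, rfl⟩ := (hexact e).mp he
    rw [hQ z (Ideal.Quotient.eq_zero_iff_mem.mp he'), map_zero]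
  have hlift : ∀ e : E, ∃ e', p2 e' = 0 ∧
      Ideal.Quotient.mk Q e' = Ideal.Quotient.mk Q e - χ0 (Ideal.Quotient.mk mB (p2 e)) := fun e => by
    obtain ⟨z, hz⟩ := hJ0 (Ideal.Quotient.mk Q e - χ0 (Ideal.Quotient.mk mB (p2 e))) (by
      rw [map_sub, hχ0]; exact sub_self _)
    exact ⟨ι z, rfl, hz.symm⟩
  let σ : B →ₐ[A] E0 := (χ0.restrictScalars A).comp (Ideal.Quotient.mkₐ A mB)
  obtain ⟨sec, hsec⟩ := exists_section_of_quotient (E₀ := E0) p2 hp2 (Ideal.Quotient.mkₐ A Q) σ hker hlift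
  refine ⟨p1.comp sec, AlgHom.ext fun b => ?_⟩
  show Ideal.Quotient.mk J (sec b).1.1 = ψ b
  rw [(hE _).mp (sec b).2]
  exact congrArg ψ (hsec b)

end Groth.Agent.H05EGA4
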