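import Mathlib
import Groth.Prelude.Def_EGA41
import Groth.Agent.H05EGA4.FSFlat
import Groth.Agent.H05EGA4.FlatFibreFS
import Groth.Agent.H05EGA4.GeomFibre
import Groth.Agent.H02CA.RegularLocal

/-!
# Regular homomorphisms and adic formal smoothness (helper5)
-/

set_option autoImplicit false
set_option linter.style.haveILetI false
set_option maxHeartbeats 400000
set_option synthInstance.maxHeartbeats 100000
universe u
open IsLocalRing CAlgX TensorProduct Groth.Agent

namespace Groth.Agent.H05EGA4

/-- Base change of a localisation, on the right. -/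
theorem isLocalization_tensor_right (A B S L : Type u) [CommRing A] [CommRing B] [CommRing S] [CommRing L]
    [Algebra A B] [Algebra A L] [Algebra B S] [Algebra A S] [IsScalarTower A B S] (M : Submonoid B) [IsLocalization M S] :
    letI := (Algebra.TensorProduct.map (AlgHom.id A L) (IsScalarTower.toAlgHom A B S)).toRingHom.toAlgebra
    IsLocalization (M.map (Algebra.TensorProduct.includeRight : B →ₐ[A] L ⊗[A] B).toRingHom) (L ⊗[A] S) := by
  letI := (Algebra.TensorProduct.map (AlgHom.id A L) (IsScalarTower.toAlgHom A B S)).toRingHom.toAlgebra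
  letI : Algebra B (L ⊗[A] B) := Algebra.TensorProduct.rightAlgebra
  let X := L ⊗[A] B
  let e1 : X ⊗[B] S ≃ₐ[B] S ⊗[B] X := Algebra.TensorProduct.comm B X S
  let e : X ⊗[B] S ≃+* L ⊗[A] S :=
    e1.toRingEquiv.trans (((Algebra.TensorProduct.congr (AlgEquiv.refl : S ≃ₐ[S] S)
      ((Algebra.TensorProduct.commRight A B L).symm : X ≃ₐ[B] B ⊗[A] L)).toRingEquiv).trans
      ((Algebra.TensorProduct.cancelBaseChange A B S S L).toRingEquiv.trans (Algebra.TensorProduct.comm A S L).toRingEquiv))
  have he : ∀ x : X, e (x ⊗ₜ 1) = algebraMap X (L ⊗[A] S) x := by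
    intro x
    induction x using TensorProduct.induction_on with
    | zero => rw [TensorProduct.zero_tmul, map_zero, map_zero]
    | add a b ha hb => rw [TensorProduct.add_tmul, map_add, map_add, ha, hb]
    | tmul l b =>
      show e ((l ⊗ₜ b) ⊗ₜ 1) = l ⊗ₜ algebraMap B S b
      simp [e, e1, Algebra.algebraMap_eq_smul_one]
  have : IsLocalization (M.map (Algebra.TensorProduct.includeRight : B →ₐ[A] X).toRingHom) (X ⊗[B] S) :=
    IsLocalization.tensor (R := B) (S := X) S M
  exact IsLocalization.isLocalization_of_algEquiv _ (AlgEquiv.ofRingEquiv (f := e) he : X ⊗[B] S ≃ₐ[X] L ⊗[A] S)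

/-- Residual base changes of adically formally smooth local homomorphisms are regular. -/
theorem isRegularRing_tensor_of_isAdicFormallySmooth {R S : Type u} [CommRing R] [CommRing S] [IsLocalRing S]
    [IsNoetherianRing S] [Algebra R S] (h : IsAdicFormallySmooth R S (maximalIdeal S)) (k' : Type u) [Field k']
    [Algebra R k'] [Module.Finite R k'] : IsRegularRing (k' ⊗[R] S) := by
  letI : Algebra S (k' ⊗[R] S) := Algebra.TensorProduct.rightAlgebra
  have : Module.Finite S (k' ⊗[R] S) := Module.Finite.equiv (Algebra.TensorProduct.commRight R S k').toLinearEquiv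
  have : IsNoetherianRing (k' ⊗[R] S) := IsNoetherianRing.of_finite S _
  have : Algebra.IsIntegral S (k' ⊗[R] S) := Algebra.IsIntegral.of_finite _ _
  refine isRegularRing_of_forall_isMaximal _ fun P' _ => ?_
  refine (isRegularLocalRing_of_isAdicFormallySmooth (isAdicFormallySmooth_localization_tensor h k' P' fun a ha => ?_)).1
  have h1 := eq_maximalIdeal (Ideal.isMaximal_comap_of_isIntegral_of_isMaximal (R := S) P')
  rw [← h1] at ha
  exact ha

/-- Formally smooth local homomorphisms have geometrically regular closed fibre. -/
theorem isGeometricallyRegular_fibre_of_isAdicFormallySmooth {A B : Type u} [CommRing A] [IsLocalRing A]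
    [CommRing B] [IsLocalRing B] [IsNoetherianRing B] [Algebra A B] (h : IsAdicFormallySmooth A B (maximalIdeal B)) :
    CAlg.IsGeometricallyRegular (maximalIdeal A).ResidueField ((maximalIdeal A).Fiber B) := by
  intro k' _ _ hfin
  let κ := (maximalIdeal A).ResidueField
  letI : Algebra A k' := ((algebraMap κ k').comp (algebraMap A κ)).toAlgebra
  have : IsScalarTower A κ k' := IsScalarTower.of_algebraMap_eq fun _ => rfl
  have : Module.Finite A k' := Module.Finite.trans κ k'
  have := isRegularRing_tensor_of_isAdicFormallySmooth h k'
  exact IsRegularRing.of_ringEquiv (Algebra.TensorProduct.cancelBaseChange A κ κ k' B).symm.toRingEquiv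

/-- Flat with geometrically regular closed fibre implies formally smooth. -/
theorem isAdicFormallySmooth_of_flat_of_geometricallyRegular {A B : Type u} [CommRing A] [IsLocalRing A]
    [CommRing B] [IsLocalRing B] [IsNoetherianRing B] [Algebra A B] [IsLocalHom (algebraMap A B)] [Module.Flat A B]
    (h : CAlg.IsGeometricallyRegular (maximalIdeal A).ResidueField ((maximalIdeal A).Fiber B)) :
    IsAdicFormallySmooth A B (maximalIdeal B) := by
  obtain ⟨e₀, e, he⟩ := exists_fibre_equiv A B
  let mB := (maximalIdeal A).map (algebraMap A B)
  have : Nontrivial (B ⧸ mB) := Ideal.Quotient.nontrivial_iff.mpr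
    (ne_top_of_le_ne_top (maximalIdeal.isMaximal B).ne_top (map_maximalIdeal_le _))
  have : IsLocalRing (B ⧸ mB) := .of_surjective' _ Ideal.Quotient.mk_surjective
  have : IsLocalRing ((maximalIdeal A).Fiber B) := RingEquiv.isLocalRing e
  have : IsNoetherianRing ((maximalIdeal A).Fiber B) := isNoetherianRing_of_ringEquiv _ e
  have h1 := isAdicFormallySmooth_of_isGeometricallyRegular h
  refine isAdicFormallySmooth_of_flat_of_fibre ?_
  rw [IsLocalRing.map_maximalIdeal_of_surjective _ Ideal.Quotient.mk_surjective]
  refine isAdicFormallySmooth_of_ringEquiv e₀.symm e.symm (fun r => ?_) (IsLocalRing.map_ringEquiv_maximalIdeal _) h1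
  refine e.injective ?_
  rw [e.apply_symm_apply, he, e₀.apply_symm_apply]

/-- A regular homomorphism has formally smooth local homomorphisms. -/
theorem isAdicFormallySmooth_of_isRegularHom {R Λ : Type u} [CommRing R] [CommRing Λ] [Algebra R Λ]
    [IsNoetherianRing Λ] (h : CAlg.IsRegularHom R Λ) (p : Ideal R) [p.IsPrime] (q : Ideal Λ) [q.IsPrime]
    [q.LiesOver p] [Algebra (Localization.AtPrime p) (Localization.AtPrime q)]
    [Localization.AtPrime.IsLiesOverAlgebra p q] :
    IsAdicFormallySmooth (Localization.AtPrime p) (Localization.AtPrime q) (maximalIdeal (Localization.AtPrime q)) := by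
  have : IsNoetherianRing (Localization.AtPrime q) := IsLocalization.isNoetherianRing q.primeCompl _ inferInstance
  obtain ⟨hflat, hfib⟩ := H02CA.isRegularHom_localization h p q
  have : IsLocalHom (algebraMap (Localization.AtPrime p) (Localization.AtPrime q)) := inferInstance
  exact isAdicFormallySmooth_of_flat_of_geometricallyRegular (hfib (maximalIdeal _)).2

/-- Formal smoothness of all local homomorphisms gives a regular homomorphism. -/
theorem isRegularHom_of_forall_isAdicFormallySmooth (A B : Type u) [CommRing A] [CommRing B] [Algebra A B]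
    [IsNoetherianRing A] [IsNoetherianRing B]
    (h : ∀ (q : Ideal B) [q.IsPrime],
      letI := (Localization.localRingHom (Ideal.comap (algebraMap A B) q) q (algebraMap A B) rfl).toAlgebra
      IsAdicFormallySmooth (Localization.AtPrime (Ideal.comap (algebraMap A B) q))
        (Localization.AtPrime q) (maximalIdeal (Localization.AtPrime q))) :
    CAlg.IsRegularHom A B := by
  have : Module.Flat A B := by
    refine Module.flat_of_isLocalized_maximal (R := A) (S := B) (M := B) (fun P => Localization.AtPrime P)
      (fun P => Algebra.linearMap B (Localization.AtPrime P)) fun P _ => ?_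
    letI := (Localization.localRingHom (Ideal.comap (algebraMap A B) P) P (algebraMap A B) rfl).toAlgebra
    haveI : IsScalarTower A (Localization.AtPrime (Ideal.comap (algebraMap A B) P)) (Localization.AtPrime P) :=
      .of_algebraMap_eq fun r => (Localization.localRingHom_to_map _ _ _ rfl r).symm
    haveI : IsNoetherianRing (Localization.AtPrime (Ideal.comap (algebraMap A B) P)) :=
      IsLocalization.isNoetherianRing (Ideal.comap (algebraMap A B) P).primeCompl _ inferInstance
    haveI : IsNoetherianRing (Localization.AtPrime P) := IsLocalization.isNoetherianRing P.primeCompl _ inferInstance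
    haveI : IsLocalHom (algebraMap (Localization.AtPrime (Ideal.comap (algebraMap A B) P)) (Localization.AtPrime P)) :=
      Localization.isLocalHom_localRingHom _ _ _ rfl
    haveI := flat_of_isAdicFormallySmooth (h P)
    exact Module.Flat.trans A (Localization.AtPrime (Ideal.comap (algebraMap A B) P)) _
  refine H02CA.isRegularHom_of_forall
    (fun P0 _ =>
      have : IsNoetherianRing (B ⊗[A] P0.ResidueField) :=
        Algebra.EssFiniteType.isNoetherianRing B (B ⊗[A] P0.ResidueField)
      isNoetherianRing_of_ringEquiv _ (Algebra.TensorProduct.comm A B P0.ResidueField).toRingEquiv) ?_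
  intro P0 _ k' _ _ _ _ _
  haveI : Algebra.EssFiniteType A k' := Algebra.EssFiniteType.comp A P0.ResidueField k'
  haveI : IsNoetherianRing (B ⊗[A] k') := Algebra.EssFiniteType.isNoetherianRing B (B ⊗[A] k')
  haveI : IsNoetherianRing (k' ⊗[A] B) :=
    isNoetherianRing_of_ringEquiv _ (Algebra.TensorProduct.comm A B k').toRingEquiv
  let X := k' ⊗[A] B
  refine isRegularRing_of_forall_isMaximal X fun Q _ => ?_
  let ι : B →ₐ[A] X := Algebra.TensorProduct.includeRight
  let q := Q.comap ι.toRingHom
  haveI : q.IsPrime := Ideal.IsPrime.comap _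
  let p := Ideal.comap (algebraMap A B) q
  have hp : p = P0 := by
    ext a
    show ι (algebraMap A B a) ∈ Q ↔ a ∈ P0
    rw [ι.commutes, IsScalarTower.algebraMap_apply A k' X]
    constructor
    · intro ha
      by_contra h0
      have hne : algebraMap A k' a ≠ 0 := by
        rw [IsScalarTower.algebraMap_apply A P0.ResidueField k', Ne, map_eq_zero, Ideal.algebraMap_residueField_eq_zero]
        exact h0
      exact Ideal.IsPrime.ne_top inferInstance (Ideal.eq_top_of_isUnit_mem _ ha ((IsUnit.mk0 _ hne).map _))
    · intro ha
      rw [IsScalarTower.algebraMap_apply A P0.ResidueField k', Ideal.algebraMap_residueField_eq_zero.mpr ha, map_zero,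
        map_zero]
      exact zero_mem _
  let R := Localization.AtPrime p
  let S := Localization.AtPrime q
  letI : Algebra R S := (Localization.localRingHom p q (algebraMap A B) rfl).toAlgebra
  haveI : IsScalarTower A R S := .of_algebraMap_eq fun r => (Localization.localRingHom_to_map _ _ _ rfl r).symm
  letI : Algebra R k' := (IsLocalization.lift (M := p.primeCompl) (g := algebraMap A k') fun y =>
    IsUnit.mk0 _ (by
      rw [IsScalarTower.algebraMap_apply A P0.ResidueField k', Ne, map_eq_zero, Ideal.algebraMap_residueField_eq_zero,
        ← hp]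
      exact y.2)).toAlgebra
  haveI : IsScalarTower A R k' := .of_algebraMap_eq fun a => (IsLocalization.lift_eq _ a).symm
  haveI : Module.Finite R k' := by
    subst hp
    haveI : Module.Finite R p.ResidueField :=
      Module.Finite.of_surjective (Algebra.linearMap R p.ResidueField) residue_surjective
    haveI : IsScalarTower R p.ResidueField k' := IsScalarTower.of_algebraMap_eq' (IsLocalization.ringHom_ext p.primeCompl
      (RingHom.ext fun a => (IsLocalization.lift_eq _ a).trans (IsScalarTower.algebraMap_apply A p.ResidueField k' a)))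
    exact Module.Finite.trans p.ResidueField k'
  haveI : IsNoetherianRing S := IsLocalization.isNoetherianRing q.primeCompl _ inferInstance
  haveI : IsRegularRing (k' ⊗[R] S) := isRegularRing_tensor_of_isAdicFormallySmooth (h q) k'
  haveI hX' : IsRegularRing (k' ⊗[A] S) :=
    IsRegularRing.of_ringEquiv (IsLocalization.algebraTensorEquiv p.primeCompl R k' S).toRingEquiv
  -- `X_Q` is a localisation of `k' ⊗ B_q`
  let X' := k' ⊗[A] S
  let j : X →ₐ[A] X' := Algebra.TensorProduct.map (AlgHom.id A k') (IsScalarTower.toAlgHom A B S)
  let M : Submonoid X := q.primeCompl.map ι.toRingHom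
  letI : Algebra X X' := j.toRingHom.toAlgebra
  haveI : IsLocalization M X' := isLocalization_tensor_right A B S k' q.primeCompl
  have hM : M ≤ Q.primeCompl := by
    rintro _ ⟨b, hb, rfl⟩; exact hb
  let l : X' →+* Localization.AtPrime Q := IsLocalization.lift (M := M) (g := algebraMap X (Localization.AtPrime Q))
    fun y => IsLocalization.map_units (Localization.AtPrime Q) ⟨(y : X), hM y.2⟩
  letI : Algebra X' (Localization.AtPrime Q) := l.toAlgebra
  haveI : IsScalarTower X X' (Localization.AtPrime Q) :=
    .of_algebraMap_eq fun x => (IsLocalization.lift_eq _ x).symm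
  haveI : IsLocalization (Q.primeCompl.map (algebraMap X X')) (Localization.AtPrime Q) :=
    IsLocalization.isLocalization_of_submonoid_le X' (Localization.AtPrime Q) M Q.primeCompl hM
  haveI : IsRegularRing (Localization.AtPrime Q) :=
    isRegularRing_of_isLocalization (Q.primeCompl.map (algebraMap X X')) _
  exact IsRegularLocalRing.of_isRegularRing_of_isLocalRing _

end Groth.Agent.H05EGA4
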