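import Mathlib
import Groth.Agent.H05EGA4.RegHomFS
import Groth.Agent.H05EGA4.GeomFibre

/-!
# Geometric regularity and arbitrary field extensions (helper5)
-/

set_option autoImplicit false
set_option linter.style.haveILetI false
set_option synthInstance.maxHeartbeats 100000
universe u
open IsLocalRing TensorProduct CAlgX Groth.Agent

namespace Groth.Agent.H05EGA4

/-- Formal smoothness at the image point gives regularity after a Noetherian field extension. -/
theorem isRegularLocalRing_tensor_of_fs {k T : Type u} [Field k] [CommRing T] [Algebra k T]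
    (L : Type u) [Field L] [Algebra k L] [IsNoetherianRing (L ⊗[k] T)] (Q : Ideal (L ⊗[k] T)) [Q.IsPrime]
    (h : IsAdicFormallySmooth k (Localization.AtPrime (Q.comap (Algebra.TensorProduct.includeRight : T →ₐ[k] L ⊗[k] T).toRingHom))
      (maximalIdeal (Localization.AtPrime (Q.comap (Algebra.TensorProduct.includeRight : T →ₐ[k] L ⊗[k] T).toRingHom)))) :
    IsRegularLocalRing (Localization.AtPrime Q) := by
  let X := L ⊗[k] T
  let ι : T →ₐ[k] X := Algebra.TensorProduct.includeRight
  let q := Q.comap ι.toRingHom
  haveI : q.IsPrime := Ideal.IsPrime.comap _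
  let S := Localization.AtPrime q
  let X' := L ⊗[k] S
  let j : X →ₐ[k] X' := Algebra.TensorProduct.map (AlgHom.id k L) (IsScalarTower.toAlgHom k T S)
  let M : Submonoid X := q.primeCompl.map ι.toRingHom
  letI : Algebra X X' := j.toRingHom.toAlgebra
  haveI : IsLocalization M X' := isLocalization_tensor_right k T S L q.primeCompl
  have hM : M ≤ Q.primeCompl := by
    rintro _ ⟨b, hb, rfl⟩; exact hb
  have hdisj : Disjoint (M : Set X) Q := Set.disjoint_left.mpr fun x hx hxQ => hM hx hxQ
  haveI : (Q.map (algebraMap X X')).IsPrime := IsLocalization.isPrime_of_isPrime_disjoint M X' Q inferInstance hdisj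
  let Q' := Q.map (algebraMap X X')
  haveI : IsNoetherianRing X' := IsLocalization.isNoetherianRing M X' inferInstance
  haveI : IsNoetherianRing (Localization.AtPrime Q') := IsLocalization.isNoetherianRing Q'.primeCompl _ inferInstance
  have hmem : ∀ a ∈ maximalIdeal S, (Algebra.TensorProduct.includeRight : S →ₐ[k] X') a ∈ Q' := by
    intro a ha
    have hcomp : ((Algebra.TensorProduct.includeRight : S →ₐ[k] X').toRingHom).comp (algebraMap T S) =
        (algebraMap X X').comp ι.toRingHom := RingHom.ext fun t => rfl
    rw [← Localization.AtPrime.map_eq_maximalIdeal] at ha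
    have h1 := Ideal.mem_map_of_mem (Algebra.TensorProduct.includeRight : S →ₐ[k] X').toRingHom ha
    rw [Ideal.map_map, hcomp, ← Ideal.map_map] at h1
    exact Ideal.map_mono Ideal.map_comap_le h1
  have h1 := (isRegularLocalRing_of_isAdicFormallySmooth (isAdicFormallySmooth_localization_tensor h L Q' hmem)).1
  haveI hloc : IsLocalization.AtPrime (Localization.AtPrime Q') (Q'.comap (algebraMap X X')) :=
    IsLocalization.isLocalization_isLocalization_atPrime_isLocalization M _ _
  have hc := IsLocalization.under_map_of_isPrime_disjoint M X' (I := Q) inferInstance hdisj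
  have aux : ∀ (r : Ideal X) [r.IsPrime], r = Q → IsLocalization.AtPrime (Localization.AtPrime Q') r →
      IsRegularLocalRing (Localization.AtPrime Q) := by
    intro r _ hr H
    subst hr
    exact IsRegularLocalRing.of_ringEquiv (R := Localization.AtPrime Q')
      (IsLocalization.algEquiv r.primeCompl (Localization.AtPrime r) (Localization.AtPrime Q')).toRingEquiv.symm
  exact aux _ hc hloc

/-- Formal smoothness of all local rings gives regularity after every Noetherian field extension. -/
theorem isRegularRing_tensor_of_forall_fs {k T : Type u} [Field k] [CommRing T] [Algebra k T]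
    (h : ∀ (q : Ideal T) [q.IsPrime],
      IsAdicFormallySmooth k (Localization.AtPrime q) (maximalIdeal (Localization.AtPrime q)))
    (L : Type u) [Field L] [Algebra k L] [IsNoetherianRing (L ⊗[k] T)] : IsRegularRing (L ⊗[k] T) :=
  isRegularRing_iff.mpr fun Q _ => isRegularLocalRing_tensor_of_fs L Q (h _)

/-- Local rings of a geometrically regular algebra are formally smooth. -/
theorem isAdicFormallySmooth_localization_of_isGeometricallyRegular {k T : Type u} [Field k] [CommRing T]
    [IsNoetherianRing T] [Algebra k T] (h : CAlg.IsGeometricallyRegular k T) (q : Ideal T) [q.IsPrime] :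
    IsAdicFormallySmooth k (Localization.AtPrime q) (maximalIdeal (Localization.AtPrime q)) := by
  have : IsNoetherianRing (Localization.AtPrime q) := IsLocalization.isNoetherianRing q.primeCompl _ inferInstance
  exact isAdicFormallySmooth_of_isGeometricallyRegular (isGeometricallyRegular_of_isLocalization q.primeCompl h)

/-- Geometrically regular algebras stay regular after Noetherian field extensions. -/
theorem isRegularRing_tensor_of_isGeometricallyRegular {k T : Type u} [Field k] [CommRing T]
    [IsNoetherianRing T] [Algebra k T] (h : CAlg.IsGeometricallyRegular k T) (L : Type u) [Field L] [Algebra k L]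
    [IsNoetherianRing (L ⊗[k] T)] : IsRegularRing (L ⊗[k] T) :=
  isRegularRing_tensor_of_forall_fs (fun q _ => isAdicFormallySmooth_localization_of_isGeometricallyRegular h q) L

/-- Regularity descends along extensions of the base field. -/
theorem isRegularRing_tensor_of_extension (A L' L B : Type u) [CommRing A] [Field L'] [Field L] [CommRing B]
    [Algebra A L'] [Algebra A L] [Algebra A B] [Algebra L' L] [IsScalarTower A L' L]
    [IsRegularRing (L ⊗[A] B)] : IsRegularRing (L' ⊗[A] B) := by
  let Y := L' ⊗[A] B
  have : IsRegularRing (L ⊗[L'] Y) := IsRegularRing.of_ringEquiv (R := L ⊗[A] B)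
    (Algebra.TensorProduct.cancelBaseChange A L' L L B).symm.toRingEquiv
  have : IsRegularRing (Y ⊗[L'] L) :=
    IsRegularRing.of_ringEquiv (R := L ⊗[L'] Y) (Algebra.TensorProduct.comm L' L Y).toRingEquiv
  exact H02CA.isRegularRing_of_faithfullyFlat Y (Y ⊗[L'] L)

/-- A common extension of a field and a finite extension of a subfield. -/
theorem exists_compositum (k K k' : Type u) [Field k] [Field K] [Field k'] [Algebra k K] [Algebra k k']
    [Module.Finite k k'] :
    ∃ (L : Type u) (_ : Field L) (_ : Algebra K L) (_ : Algebra k' L) (_ : Algebra k L),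
      IsScalarTower k K L ∧ IsScalarTower k k' L ∧ Module.Finite K L := by
  obtain ⟨m, hm⟩ := Ideal.exists_maximal (K ⊗[k] k')
  letI : Field ((K ⊗[k] k') ⧸ m) := Ideal.Quotient.field m
  let g : k' →ₐ[k] (K ⊗[k] k') ⧸ m := (Ideal.Quotient.mkₐ k m).comp Algebra.TensorProduct.includeRight
  letI : Algebra k' ((K ⊗[k] k') ⧸ m) := g.toRingHom.toAlgebra
  exact ⟨(K ⊗[k] k') ⧸ m, inferInstance, inferInstance, inferInstance, inferInstance, inferInstance,
    IsScalarTower.of_algebraMap_eq fun x => (g.commutes x).symm,
    Module.Finite.of_surjective (Ideal.Quotient.mkₐ K m).toLinearMap Ideal.Quotient.mk_surjective⟩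

/-- A regular homomorphism stays regular after every Noetherian base change to a field. -/
theorem isRegularRing_tensor_field_of_isRegularHom {A B : Type u} [CommRing A] [CommRing B] [Algebra A B]
    (h : CAlg.IsRegularHom A B) (L : Type u) [Field L] [Algebra A L] [IsNoetherianRing (L ⊗[A] B)] :
    IsRegularRing (L ⊗[A] B) := by
  let p := RingHom.ker (algebraMap A L)
  haveI : p.IsPrime := RingHom.ker_isPrime _
  letI : Algebra p.ResidueField L := (Ideal.ResidueField.lift p (algebraMap A L) le_rfl fun x hx =>
    isUnit_iff_ne_zero.mpr fun h0 => hx h0).toAlgebra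
  haveI : IsScalarTower A p.ResidueField L :=
    .of_algebraMap_eq fun r => (Ideal.ResidueField.lift_algebraMap (I := p) (algebraMap A L) le_rfl _ r).symm
  haveI := (h.2 p).1
  let e := H02CA.fiberBaseChangeEquiv p L B
  haveI : IsNoetherianRing (L ⊗[p.ResidueField] (p.Fiber B)) := isNoetherianRing_of_ringEquiv _ e.symm
  haveI := isRegularRing_tensor_of_isGeometricallyRegular (h.2 p).2 L
  exact IsRegularRing.of_ringEquiv (R := L ⊗[p.ResidueField] (p.Fiber B)) e

/-- Base change of a regular homomorphism. -/
theorem isRegularHom_baseChange {A B A' : Type u} [CommRing A] [CommRing B] [CommRing A'] [Algebra A B]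
    [Algebra A A'] (h : CAlg.IsRegularHom A B)
    (hN : ∀ (L : Type u) [Field L] [Algebra A' L] [Algebra A L] [IsScalarTower A A' L],
      Algebra.EssFiniteType A' L → IsNoetherianRing (L ⊗[A] B)) :
    CAlg.IsRegularHom A' (A' ⊗[A] B) := by
  haveI := h.1
  refine H02CA.isRegularHom_of_forall (fun P _ => ?_) fun P _ k' _ _ _ _ _ => ?_
  · haveI := hN P.ResidueField inferInstance
    exact isNoetherianRing_of_ringEquiv _
      (Algebra.TensorProduct.cancelBaseChange A A' P.ResidueField P.ResidueField B).symm.toRingEquiv
  · letI : Algebra A k' := ((algebraMap A' k').comp (algebraMap A A')).toAlgebra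
    haveI : IsScalarTower A A' k' := .of_algebraMap_eq fun _ => rfl
    haveI := hN k' (Algebra.EssFiniteType.comp A' P.ResidueField k')
    haveI := isRegularRing_tensor_field_of_isRegularHom h k'
    exact IsRegularRing.of_ringEquiv (Algebra.TensorProduct.cancelBaseChange A A' k' k' B).symm.toRingEquiv

/-- Regularity of homomorphisms descends along faithfully flat changes of the base. -/
theorem isRegularHom_of_baseChange {A B A' : Type u} [CommRing A] [CommRing B] [CommRing A'] [Algebra A B]
    [Algebra A A'] [IsNoetherianRing B] [Module.FaithfullyFlat A A'] (h : CAlg.IsRegularHom A' (A' ⊗[A] B)) :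
    CAlg.IsRegularHom A B := by
  haveI := h.1
  haveI : Module.Flat A B := Module.Flat.of_flat_tensorProduct A B A'
  refine H02CA.isRegularHom_of_forall (fun p _ => H02CA.isNoetherianRing_tensor_of_essFiniteType _ _ _)
    fun p _ k' _ _ _ _ _ => ?_
  obtain ⟨P, hP⟩ := PrimeSpectrum.comap_surjective_of_faithfullyFlat (A := A) (B := A') ⟨p, inferInstance⟩
  let P0 := P.asIdeal
  haveI : P0.LiesOver p := ⟨(congrArg PrimeSpectrum.asIdeal hP).symm⟩
  letI := Localization.AtPrime.algebraOfLiesOver p P0
  obtain ⟨L, _, _, _, _, _, _, _⟩ := exists_compositum p.ResidueField P0.ResidueField k'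
  letI : Algebra A' L := ((algebraMap P0.ResidueField L).comp (algebraMap A' P0.ResidueField)).toAlgebra
  haveI : IsScalarTower A' P0.ResidueField L := .of_algebraMap_eq fun _ => rfl
  haveI : IsRegularRing (L ⊗[A'] (A' ⊗[A] B)) := H02CA.isRegularRing_tensor_of_isRegularHom h P0 L
  letI : Algebra A L := ((algebraMap A' L).comp (algebraMap A A')).toAlgebra
  haveI : IsScalarTower A A' L := .of_algebraMap_eq fun _ => rfl
  haveI : IsScalarTower A k' L := .of_algebraMap_eq fun a => by
    rw [IsScalarTower.algebraMap_apply A p.ResidueField k', ← IsScalarTower.algebraMap_apply p.ResidueField k' L,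
      IsScalarTower.algebraMap_apply p.ResidueField P0.ResidueField L,
      ← IsScalarTower.algebraMap_apply A p.ResidueField P0.ResidueField]
    show algebraMap P0.ResidueField L (algebraMap A' P0.ResidueField (algebraMap A A' a)) = _
    rw [← IsScalarTower.algebraMap_apply A A' P0.ResidueField]
  haveI : IsRegularRing (L ⊗[A] B) :=
    IsRegularRing.of_ringEquiv (Algebra.TensorProduct.cancelBaseChange A A' L L B).toRingEquiv
  exact isRegularRing_tensor_of_extension A k' L B

/-- The tensor product of a regular and a geometrically regular algebra over a field. -/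
theorem isRegularRing_tensor_of_regular {k S T : Type u} [Field k] [CommRing S] [CommRing T] [Algebra k S]
    [Algebra k T] [IsNoetherianRing T] [IsRegularRing S] [IsNoetherianRing (S ⊗[k] T)]
    (hft : Algebra.FiniteType k S ∨ Algebra.FiniteType k T) (hT : CAlg.IsGeometricallyRegular k T) :
    IsRegularRing (S ⊗[k] T) := by
  refine H02CA.isRegularRing_of_flat_of_fibre S (S ⊗[k] T) fun q _ => ?_
  haveI : IsNoetherianRing (q.ResidueField ⊗[k] T) := by
    rcases hft with h | h
    · haveI : Algebra.EssFiniteType k q.ResidueField := Algebra.EssFiniteType.comp k S q.ResidueField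
      exact H02CA.isNoetherianRing_tensor_of_essFiniteType _ _ _
    · exact Algebra.FiniteType.isNoetherianRing q.ResidueField _
  haveI := isRegularRing_tensor_of_isGeometricallyRegular hT q.ResidueField
  exact IsRegularRing.of_ringEquiv
    (Algebra.TensorProduct.cancelBaseChange k S q.ResidueField q.ResidueField T).symm.toRingEquiv

end Groth.Agent.H05EGA4
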