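import Mathlib
import Groth.Agent.H05EGA4.SerreCond
import Groth.Agent.H05EGA4.GeomRegular

/-!
# Serre conditions and field extensions (helper5)

`GRS r n k S`: all finite base field extensions of `S` satisfy `RS r n`. This gives `RS r n` after every
Noetherian base change to a field extension, when one side is essentially of finite type.
-/

set_option autoImplicit false
set_option linter.style.haveILetI false
set_option synthInstance.maxHeartbeats 100000
universe u
open IsLocalRing TensorProduct CAlgX Groth.Agent

namespace Groth.Agent.H05EGA4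

theorem rs_bot_of_krullDimLE_zero {n : WithBot ℕ∞} (R : Type u) [CommRing R] [IsNoetherianRing R]
    [Ring.KrullDimLE 0 R] : RS ⊥ n R := by
  intro p _
  refine ⟨fun hd => absurd (ringKrullDim_nonneg_of_nontrivial.trans hd) (by simp),
    (min_le_right _ _).trans (le_trans ?_ (zero_le_coe_enat _))⟩
  rw [IsLocalization.AtPrime.ringKrullDim_eq_height p]
  exact le_trans (Ideal.height_le_ringKrullDim_of_ne_top (Ideal.IsPrime.ne_top inferInstance))
    (Ring.krullDimLE_iff.mp inferInstance)

theorem rs_bot_of_finite_field {n : WithBot ℕ∞} (L R : Type u) [Field L] [CommRing R] [Algebra L R]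
    [Module.Finite L R] : RS ⊥ n R := by
  have : IsArtinianRing R := IsArtinianRing.of_finite L R
  exact rs_bot_of_krullDimLE_zero R

/-- Finite flat extensions keep the condition on the depth. -/
theorem rs_bot_of_finite_flat {n : WithBot ℕ∞} (Y X : Type u) [CommRing Y] [CommRing X] [Algebra Y X]
    [IsNoetherianRing Y] [IsNoetherianRing X] [Module.Finite Y X] [Module.Flat Y X] (hY : RS ⊥ n Y) : RS ⊥ n X :=
  RS.of_flat hY fun q _ => rs_bot_of_finite_field q.ResidueField (q.Fiber X)

/-- The tensor product of two fields, one finitely generated, is Cohen–Macaulay (that side first). -/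
theorem rs_bot_tensor_fields_left {n : WithBot ℕ∞} (k K L : Type u) [Field k] [Field K] [Field L] [Algebra k K]
    [Algebra k L] [Algebra.EssFiniteType k K] : RS ⊥ n (K ⊗[k] L) := by
  obtain ⟨s, hs⟩ := exists_finset_isTranscendenceBasis k K
  let x : s → K := fun a => a.1
  let P := MvPolynomial s k
  letI : Algebra P K := (MvPolynomial.aeval x).toRingHom.toAlgebra
  haveI : IsScalarTower k P K := .of_algebraMap_eq fun a => ((MvPolynomial.aeval x).commutes a).symm
  haveI : FaithfulSMul P K := (faithfulSMul_iff_algebraMap_injective _ _).mpr hs.1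
  haveI : Algebra.IsAlgebraic (Algebra.adjoin k (Set.range x)) K := hs.isAlgebraic
  have halg : Algebra.IsAlgebraic P K :=
    Algebra.IsAlgebraic.of_ringHom_of_comp_eq (S := Algebra.adjoin k (Set.range x)) (B := K)
      (hs.1.aevalEquiv).toRingEquiv.toRingHom (RingHom.id K) (hs.1.aevalEquiv).surjective
      Function.injective_id (by ext a <;> simp [RingHom.algebraMap_toAlgebra, x])
  let F := FractionRing P
  letI : Algebra F K := FractionRing.liftAlgebra _ _
  haveI : IsScalarTower P F K := FractionRing.isScalarTower_liftAlgebra _ _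
  haveI : IsScalarTower k F K := .of_algebraMap_eq fun a => by
    rw [IsScalarTower.algebraMap_apply k P F, ← IsScalarTower.algebraMap_apply P F K,
      ← IsScalarTower.algebraMap_apply k P K]
  haveI : Algebra.IsAlgebraic F K := IsFractionRing.comap_isAlgebraic_iff.mp halg
  haveI : Algebra.EssFiniteType F K := Algebra.EssFiniteType.of_comp k F K
  haveI : Module.Finite F K := Algebra.finite_of_essFiniteType_of_isAlgebraic
  have h1 : IsRegularRing (L ⊗[k] P) :=
    IsRegularRing.of_ringEquiv (MvPolynomial.algebraTensorAlgEquiv (σ := s) k L).toRingEquiv.symm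
  have h2 : IsRegularRing (L ⊗[k] F) := isRegularRing_tensor_of_isLocalization k P F L (nonZeroDivisors P) h1
  let Y := F ⊗[k] L
  haveI : IsRegularRing Y := IsRegularRing.of_ringEquiv (Algebra.TensorProduct.comm k L F).toRingEquiv
  let X := Y ⊗[F] K
  haveI : IsNoetherianRing X := IsNoetherianRing.of_finite Y X
  have hX : RS ⊥ n X := rs_bot_of_finite_flat Y X (rs_of_isRegularRing Y)
  exact RS.of_ringEquiv ((Algebra.TensorProduct.comm F Y K).toRingEquiv.trans
    (Algebra.TensorProduct.cancelBaseChange k F F K L).toRingEquiv) hX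

/-- The tensor product of two fields, one finitely generated, is Cohen–Macaulay. -/
theorem rs_bot_tensor_fields {n : WithBot ℕ∞} (k K L : Type u) [Field k] [Field K] [Field L] [Algebra k K]
    [Algebra k L] (h : Algebra.EssFiniteType k K ∨ Algebra.EssFiniteType k L) : RS ⊥ n (K ⊗[k] L) := by
  rcases h with h | h
  · exact rs_bot_tensor_fields_left k K L
  · haveI : IsNoetherianRing (L ⊗[k] K) := H02CA.isNoetherianRing_tensor_of_essFiniteType _ _ _
    exact RS.of_ringEquiv (Algebra.TensorProduct.comm k L K).toRingEquiv (rs_bot_tensor_fields_left k L K)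

theorem isNoetherianRing_tensor_fields (k K L : Type u) [Field k] [Field K] [Field L] [Algebra k K]
    [Algebra k L] (h : Algebra.EssFiniteType k K ∨ Algebra.EssFiniteType k L) : IsNoetherianRing (K ⊗[k] L) := by
  rcases h with h | h
  · exact H02CA.isNoetherianRing_tensor_of_essFiniteType _ _ _
  · exact Algebra.EssFiniteType.isNoetherianRing K _

/-- The residue fields inherit finite generation. -/
theorem essFiniteType_residueField_or {k S K : Type u} [CommRing k] [CommRing S] [CommRing K] [Algebra k S]
    [Algebra k K] (h : Algebra.EssFiniteType k K ∨ Algebra.EssFiniteType k S) (q : Ideal S) [q.IsPrime] :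
    Algebra.EssFiniteType k q.ResidueField ∨ Algebra.EssFiniteType k K := by
  rcases h with h | h
  · exact .inr h
  · exact .inl (Algebra.EssFiniteType.comp k S q.ResidueField)

/-- A field extension keeps the condition on the depth. -/
theorem rs_bot_tensor_field {n : WithBot ℕ∞} (k S K : Type u) [Field k] [CommRing S] [Algebra k S]
    [IsNoetherianRing S] [Field K] [Algebra k K] [IsNoetherianRing (S ⊗[k] K)]
    (h : Algebra.EssFiniteType k K ∨ Algebra.EssFiniteType k S) (hS : RS ⊥ n S) : RS ⊥ n (S ⊗[k] K) := by
  refine RS.of_flat hS fun q _ => ?_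
  have hq := essFiniteType_residueField_or h q
  haveI := isNoetherianRing_tensor_fields k q.ResidueField K hq
  exact RS.of_ringEquiv (Algebra.TensorProduct.cancelBaseChange k S q.ResidueField q.ResidueField K).symm.toRingEquiv
    (rs_bot_tensor_fields k q.ResidueField K hq)

/-- All finite base field extensions satisfy `RS r n`. -/
def GRS (r n : WithBot ℕ∞) (k S : Type u) [Field k] [CommRing S] [Algebra k S] : Prop :=
  ∀ (k' : Type u) [Field k'] [Algebra k k'], Module.Finite k k' → RS r n (k' ⊗[k] S)

variable {r n : WithBot ℕ∞}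

theorem GRS.mono {r' n' : WithBot ℕ∞} {k S : Type u} [Field k] [CommRing S] [Algebra k S] (hr : r' ≤ r)
    (hn : n' ≤ n) (h : GRS r n k S) : GRS r' n' k S :=
  fun k' _ _ hfin => (h k' hfin).mono hr hn

theorem GRS.self {k S : Type u} [Field k] [CommRing S] [Algebra k S] [IsNoetherianRing S] (h : GRS r n k S) :
    RS r n S := by
  haveI : IsNoetherianRing (k ⊗[k] S) := H02CA.isNoetherianRing_tensor_of_essFiniteType _ _ _
  exact RS.of_ringEquiv (Algebra.TensorProduct.lid k S).toRingEquiv (h k inferInstance)

theorem GRS.of_isLocalization {k S B : Type u} [Field k] [CommRing S] [CommRing B] [Algebra k S] [Algebra S B]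
    [Algebra k B] [IsScalarTower k S B] [IsNoetherianRing S] (M : Submonoid S) [IsLocalization M B]
    (h : GRS r n k S) : GRS r n k B := by
  intro k' _ _ hfin
  letI := (Algebra.TensorProduct.map (AlgHom.id k k') (IsScalarTower.toAlgHom k S B)).toRingHom.toAlgebra
  haveI := isLocalization_tensor_right k S B k' M
  haveI : IsNoetherianRing (k' ⊗[k] S) := H02CA.isNoetherianRing_tensor_of_essFiniteType _ _ _
  exact (h k' hfin).of_isLocalization (M.map (Algebra.TensorProduct.includeRight : S →ₐ[k] k' ⊗[k] S).toRingHom) _

theorem GRS.of_algEquiv {k S S' : Type u} [Field k] [CommRing S] [CommRing S'] [Algebra k S] [Algebra k S']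
    [IsNoetherianRing S] (e : S ≃ₐ[k] S') (h : GRS r n k S) : GRS r n k S' := by
  intro k' _ _ hfin
  haveI : IsNoetherianRing (k' ⊗[k] S) := H02CA.isNoetherianRing_tensor_of_essFiniteType _ _ _
  exact (h k' hfin).of_ringEquiv (Algebra.TensorProduct.congr (AlgEquiv.refl : k' ≃ₐ[k] k') e).toRingEquiv

/-- At points of dimension at most `r` one field extension of the local ring is regular. -/
theorem isRegularRing_tensor_atPrime_of_rs {k S : Type u} [Field k] [CommRing S] [Algebra k S] [IsNoetherianRing S]
    (k' : Type u) [Field k'] [Algebra k k'] [Module.Finite k k'] (h : RS r n (k' ⊗[k] S)) (q : Ideal S) [q.IsPrime]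
    (hq : ringKrullDim (Localization.AtPrime q) ≤ r) : IsRegularRing (k' ⊗[k] Localization.AtPrime q) := by
  let Sq := Localization.AtPrime q
  haveI : IsNoetherianRing Sq := IsLocalization.isNoetherianRing q.primeCompl _ inferInstance
  haveI : IsNoetherianRing (k' ⊗[k] Sq) := H02CA.isNoetherianRing_tensor_of_essFiniteType _ _ _
  haveI : IsNoetherianRing (k' ⊗[k] S) := H02CA.isNoetherianRing_tensor_of_essFiniteType _ _ _
  letI := (Algebra.TensorProduct.map (AlgHom.id k k') (IsScalarTower.toAlgHom k S Sq)).toRingHom.toAlgebra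
  haveI := isLocalization_tensor_right k S Sq k' q.primeCompl
  have hloc : RS r n (k' ⊗[k] Sq) :=
    h.of_isLocalization (q.primeCompl.map (Algebra.TensorProduct.includeRight : S →ₐ[k] k' ⊗[k] S).toRingHom) _
  have hdim : ringKrullDim (k' ⊗[k] Sq) ≤ ringKrullDim Sq := by
    rw [ringKrullDim_eq_of_ringEquiv (Algebra.TensorProduct.comm k k' Sq).toRingEquiv]
    haveI : Algebra.IsIntegral Sq (Sq ⊗[k] k') := Algebra.IsIntegral.of_finite _ _
    exact Order.krullDim_le_of_strictMono (fun P => PrimeSpectrum.comap (algebraMap Sq (Sq ⊗[k] k')) P)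
      (fun _ _ hPQ => Ideal.IsIntegral.comap_lt_comap (R := Sq) hPQ)
  refine isRegularRing_iff.mpr fun P _ => (hloc P).1 ?_
  rw [IsLocalization.AtPrime.ringKrullDim_eq_height P]
  exact ((Ideal.height_le_ringKrullDim_of_ne_top (Ideal.IsPrime.ne_top inferInstance)).trans hdim).trans hq

/-- At points of dimension at most `r` the local rings are geometrically regular. -/
theorem GRS.isGeometricallyRegular_atPrime {k S : Type u} [Field k] [CommRing S] [Algebra k S] [IsNoetherianRing S]
    (h : GRS r n k S) (q : Ideal S) [q.IsPrime] (hq : ringKrullDim (Localization.AtPrime q) ≤ r) :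
    CAlg.IsGeometricallyRegular k (Localization.AtPrime q) :=
  fun k' _ _ hfin => isRegularRing_tensor_atPrime_of_rs k' (h k' hfin) q hq

/-- The two conditions defining `RS` after any finitely generated field extension. -/
theorem rs_tensor_field_of_geom {k S : Type u} [Field k] [CommRing S] [Algebra k S] [IsNoetherianRing S]
    (hS : RS ⊥ n S) (hreg : ∀ (q : Ideal S) [q.IsPrime], ringKrullDim (Localization.AtPrime q) ≤ r →
      CAlg.IsGeometricallyRegular k (Localization.AtPrime q))
    (K : Type u) [Field K] [Algebra k K] (h : Algebra.EssFiniteType k K ∨ Algebra.EssFiniteType k S) :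
    RS r n (K ⊗[k] S) := by
  haveI : IsNoetherianRing (S ⊗[k] K) := by
    rcases h with h | h
    · exact Algebra.EssFiniteType.isNoetherianRing S _
    · exact H02CA.isNoetherianRing_tensor_of_essFiniteType _ _ _
  let X := K ⊗[k] S
  haveI : IsNoetherianRing X := isNoetherianRing_of_ringEquiv _ (Algebra.TensorProduct.comm k S K).toRingEquiv
  have hdepth : RS ⊥ n X :=
    (rs_bot_tensor_field k S K h hS).of_ringEquiv (Algebra.TensorProduct.comm k S K).toRingEquiv
  intro Q _
  refine ⟨fun hd => ?_, (hdepth Q).2⟩
  set q := Q.comap (Algebra.TensorProduct.includeRight : S →ₐ[k] X).toRingHom with hq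
  refine isRegularLocalRing_tensor_of_fs K Q
    (@isAdicFormallySmooth_of_isGeometricallyRegular k (Localization.AtPrime q) _ _ _
      (IsLocalization.isNoetherianRing q.primeCompl _ inferInstance) _ (hreg q (le_trans ?_ hd)))
  letI : Algebra S X := Algebra.TensorProduct.rightAlgebra
  haveI : Module.Flat S X := Module.Flat.of_linearEquiv
    (AlgEquiv.ofRingEquiv (R := S) (f := (Algebra.TensorProduct.comm k S K).toRingEquiv) fun _ => rfl).symm.toLinearEquiv
  haveI : Q.LiesOver q := ⟨rfl⟩
  letI := Localization.AtPrime.algebraOfLiesOver q Q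
  haveI : IsLocalHom (algebraMap (Localization.AtPrime q) (Localization.AtPrime Q)) := by
    rw [Localization.AtPrime.IsLiesOverAlgebra.algebraMap_eq]
    infer_instance
  haveI : IsNoetherianRing (Localization.AtPrime q) := IsLocalization.isNoetherianRing q.primeCompl _ inferInstance
  haveI : IsNoetherianRing (Localization.AtPrime Q) := IsLocalization.isNoetherianRing Q.primeCompl _ inferInstance
  haveI : Nontrivial (Localization.AtPrime Q ⧸ (maximalIdeal (Localization.AtPrime q)).map
      (algebraMap (Localization.AtPrime q) (Localization.AtPrime Q))) := Ideal.Quotient.nontrivial_iff.mpr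
    (ne_top_of_le_ne_top (maximalIdeal.isMaximal _).ne_top (map_maximalIdeal_le _))
  haveI : IsLocalRing (Localization.AtPrime Q ⧸ (maximalIdeal (Localization.AtPrime q)).map
      (algebraMap (Localization.AtPrime q) (Localization.AtPrime Q))) :=
    .of_surjective' _ Ideal.Quotient.mk_surjective
  rw [H8Props.FlatDepth.ringKrullDim_eq_add (Localization.AtPrime q) (Localization.AtPrime Q)]
  exact le_add_of_nonneg_right ringKrullDim_nonneg_of_nontrivial

theorem GRS.tensor_field {k S : Type u} [Field k] [CommRing S] [Algebra k S] [IsNoetherianRing S]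
    (hS : GRS r n k S) (K : Type u) [Field K] [Algebra k K]
    (h : Algebra.EssFiniteType k K ∨ Algebra.EssFiniteType k S) : RS r n (K ⊗[k] S) :=
  rs_tensor_field_of_geom (hS.self.mono bot_le le_rfl) (fun q _ => hS.isGeometricallyRegular_atPrime q) K h

/-- `GRS` from the two conditions. -/
theorem grs_of_geom {k S : Type u} [Field k] [CommRing S] [Algebra k S] [IsNoetherianRing S]
    (hS : RS ⊥ n S) (hreg : ∀ (q : Ideal S) [q.IsPrime], ringKrullDim (Localization.AtPrime q) ≤ r →
      CAlg.IsGeometricallyRegular k (Localization.AtPrime q)) : GRS r n k S :=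
  fun k' _ _ _ => rs_tensor_field_of_geom hS hreg k' (.inl inferInstance)

theorem grs_of_isGeometricallyRegular {k S : Type u} [Field k] [CommRing S] [Algebra k S]
    (h : CAlg.IsGeometricallyRegular k S) : GRS r n k S :=
  fun k' _ _ hfin => haveI := h k' hfin; rs_of_isRegularRing _

theorem grs_bot_iff {k S : Type u} [Field k] [CommRing S] [Algebra k S] [IsNoetherianRing S] :
    GRS ⊥ n k S ↔ RS ⊥ n S :=
  ⟨GRS.self, fun h => grs_of_geom h fun q _ hq =>
    absurd (ringKrullDim_nonneg_of_nontrivial.trans hq) (by simp)⟩

theorem isGeomNormal_iff_grs {k S : Type u} [Field k] [CommRing S] [Algebra k S] [IsNoetherianRing S] :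
    EGA4.IsGeomNormal k S ↔ GRS 1 2 k S := by
  refine forall_congr' fun k' => forall₂_congr fun _ _ => imp_congr_right fun hfin => ?_
  haveI : IsNoetherianRing (k' ⊗[k] S) := H02CA.isNoetherianRing_tensor_of_essFiniteType _ _ _
  exact isNormalRing_iff_rs

theorem isGeometricallyRegular_iff_grs {k S : Type u} [Field k] [CommRing S] [Algebra k S] [IsNoetherianRing S] :
    CAlg.IsGeometricallyRegular k S ↔ GRS ⊤ ⊤ k S := by
  refine forall_congr' fun k' => forall₂_congr fun _ _ => imp_congr_right fun hfin => ?_
  haveI : IsNoetherianRing (k' ⊗[k] S) := H02CA.isNoetherianRing_tensor_of_essFiniteType _ _ _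
  exact isRegularRing_iff_rs

/-- Geometric reducedness is tested on finite extensions. -/
theorem isGeometricallyReduced_iff_finite {k A : Type u} [Field k] [CommRing A] [Algebra k A] :
    Algebra.IsGeometricallyReduced k A ↔
      ∀ (k' : Type u) [Field k'] [Algebra k k'], Module.Finite k k' → IsReduced (k' ⊗[k] A) := by
  refine ⟨fun h k' _ _ hfin => inferInstance, fun h => ?_⟩
  rw [Algebra.isGeometricallyReduced_field_iff]
  let Ω := AlgebraicClosure k
  have key : ∀ z : Ω ⊗[k] A, ∃ L : IntermediateField k Ω, FiniteDimensional k L ∧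
      z ∈ LinearMap.range (TensorProduct.map L.val.toLinearMap (LinearMap.id (R := k) (M := A))) := by
    intro z
    induction z using TensorProduct.induction_on with
    | zero => exact ⟨⊥, inferInstance, zero_mem _⟩
    | tmul c a =>
      refine ⟨IntermediateField.adjoin k {c}, IntermediateField.adjoin.finiteDimensional
        (Algebra.IsIntegral.isIntegral c), ⟨c, IntermediateField.mem_adjoin_simple_self k c⟩ ⊗ₜ a, rfl⟩
    | add x y hx hy =>
      obtain ⟨L, hL, x, rfl⟩ := hx
      obtain ⟨M, hM, y, rfl⟩ := hy
      refine ⟨L ⊔ M, IntermediateField.finiteDimensional_sup L M, ?_⟩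
      refine add_mem ?_ ?_
      · refine ⟨TensorProduct.map (IntermediateField.inclusion (le_sup_left : L ≤ L ⊔ M)).toLinearMap LinearMap.id x, ?_⟩
        rw [← LinearMap.comp_apply, ← TensorProduct.map_comp, LinearMap.id_comp]
        rfl
      · refine ⟨TensorProduct.map (IntermediateField.inclusion (le_sup_right : M ≤ L ⊔ M)).toLinearMap LinearMap.id y, ?_⟩
        rw [← LinearMap.comp_apply, ← TensorProduct.map_comp, LinearMap.id_comp]
        rfl
  refine ⟨fun z hz => ?_⟩
  obtain ⟨L, hL, y, rfl⟩ := key z
  have := h L hL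
  let f : L ⊗[k] A →ₐ[k] Ω ⊗[k] A := Algebra.TensorProduct.map L.val (AlgHom.id k A)
  have hf : Function.Injective f :=
    Module.Flat.rTensor_preserves_injective_linearMap L.val.toLinearMap L.val.injective
  have hz' : IsNilpotent (f y) := hz
  have h0 : y = 0 := ((IsNilpotent.map_iff (f := f.toRingHom) hf).mp hz').eq_zero
  rw [h0, map_zero]

theorem isGeometricallyReduced_iff_grs {k S : Type u} [Field k] [CommRing S] [Algebra k S] [IsNoetherianRing S] :
    Algebra.IsGeometricallyReduced k S ↔ GRS 0 1 k S := by
  rw [isGeometricallyReduced_iff_finite]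
  refine forall_congr' fun k' => forall₂_congr fun _ _ => imp_congr_right fun hfin => ?_
  haveI : IsNoetherianRing (k' ⊗[k] S) := H02CA.isNoetherianRing_tensor_of_essFiniteType _ _ _
  exact isReduced_iff_rs

/-- Separable field extensions are geometrically regular. -/
theorem isGeometricallyRegular_of_isGeometricallyReduced_field {k L : Type u} [Field k] [Field L] [Algebra k L]
    [h : Algebra.IsGeometricallyReduced k L] : CAlg.IsGeometricallyRegular k L := by
  refine isGeometricallyRegular_iff_grs.mpr (grs_of_geom
    ((rs_of_isRegularRing L)) fun q _ _ => ?_)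
  refine GRS.isGeometricallyRegular_atPrime (r := 0) (n := 1) (isGeometricallyReduced_iff_grs.mp h) q ?_
  rw [IsLocalization.AtPrime.ringKrullDim_eq_height q]
  exact (Ideal.height_le_ringKrullDim_of_ne_top (Ideal.IsPrime.ne_top inferInstance)).trans
    (ringKrullDim_eq_zero_of_field L).le

end Groth.Agent.H05EGA4
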