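import Mathlib
import Groth.Agent.H05EGA4.GeomSerre
import Groth.Agent.H06Desc.FlatAlg

/-!
# Flat homomorphisms with fibres geometrically `(R_r)` and `(S_n)` (helper5)
-/

set_option autoImplicit false
set_option linter.style.haveILetI false
set_option synthInstance.maxHeartbeats 100000
universe u
open IsLocalRing TensorProduct Groth.Agent

namespace Groth.Agent.H05EGA4

/-- A flat homomorphism all of whose fibres satisfy `GRS r n`. -/
def GRSHom (r n : WithBot ℕ∞) (A B : Type u) [CommRing A] [CommRing B] [Algebra A B] : Prop :=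
  Module.Flat A B ∧ ∀ (p : Ideal A) [p.IsPrime], GRS r n p.ResidueField (p.Fiber B)

variable {r n : WithBot ℕ∞}

/-- The base change to a field of a `GRSHom`. -/
theorem GRSHom.tensor_field {A B : Type u} [CommRing A] [CommRing B] [Algebra A B] [IsNoetherianRing B]
    (h : GRSHom r n A B) (L : Type u) [Field L] [Algebra A L]
    (hL : Algebra.EssFiniteType A L ∨ Algebra.EssFiniteType A B) : RS r n (L ⊗[A] B) := by
  let p := RingHom.ker (algebraMap A L)
  haveI : p.IsPrime := RingHom.ker_isPrime _
  letI : Algebra p.ResidueField L := (Ideal.ResidueField.lift p (algebraMap A L) le_rfl fun x hx =>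
    isUnit_iff_ne_zero.mpr fun h0 => hx h0).toAlgebra
  haveI : IsScalarTower A p.ResidueField L :=
    .of_algebraMap_eq fun a => (Ideal.ResidueField.lift_algebraMap (I := p) (algebraMap A L) le_rfl _ a).symm
  haveI : IsNoetherianRing (p.Fiber B) := H02CA.isNoetherianRing_tensor_of_essFiniteType _ _ _
  have hor : Algebra.EssFiniteType p.ResidueField L ∨ Algebra.EssFiniteType p.ResidueField (p.Fiber B) := by
    rcases hL with hL | hL
    · exact .inl (Algebra.EssFiniteType.of_comp A p.ResidueField L)
    · exact .inr inferInstance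
  haveI : IsNoetherianRing (L ⊗[p.ResidueField] (p.Fiber B)) := by
    rcases hor with hor | hor
    · exact H02CA.isNoetherianRing_tensor_of_essFiniteType _ _ _
    · exact Algebra.EssFiniteType.isNoetherianRing L (L ⊗[p.ResidueField] (p.Fiber B))
  exact (GRS.tensor_field (h.2 p) L hor).of_ringEquiv (H02CA.fiberBaseChangeEquiv p L B)

/-- A criterion. -/
theorem grsHom_of_forall {A B : Type u} [CommRing A] [CommRing B] [Algebra A B] [IsNoetherianRing B]
    (hflat : Module.Flat A B)
    (h : ∀ (p : Ideal A) [p.IsPrime] (k' : Type u) [Field k'] [Algebra p.ResidueField k'] [Algebra A k']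
      [IsScalarTower A p.ResidueField k'] [Module.Finite p.ResidueField k'] [Algebra.EssFiniteType A k'],
      RS r n (k' ⊗[A] B)) :
    GRSHom r n A B := by
  refine ⟨hflat, fun p _ k' _ _ hfin => ?_⟩
  letI : Algebra A k' := ((algebraMap p.ResidueField k').comp (algebraMap A p.ResidueField)).toAlgebra
  haveI : IsScalarTower A p.ResidueField k' := .of_algebraMap_eq' rfl
  haveI : Algebra.EssFiniteType A k' := Algebra.EssFiniteType.comp A p.ResidueField k'
  haveI : IsNoetherianRing (k' ⊗[A] B) := H02CA.isNoetherianRing_tensor_of_essFiniteType _ _ _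
  exact (h p k').of_ringEquiv (H02CA.fiberBaseChangeEquiv p k' B).symm

theorem GRSHom.mono {A B : Type u} [CommRing A] [CommRing B] [Algebra A B] {r' n' : WithBot ℕ∞} (hr : r' ≤ r)
    (hn : n' ≤ n) (h : GRSHom r n A B) : GRSHom r' n' A B :=
  ⟨h.1, fun p _ => (h.2 p).mono hr hn⟩

/-- Composition. -/
theorem GRSHom.comp {A B C : Type u} [CommRing A] [CommRing B] [CommRing C] [IsNoetherianRing B]
    [IsNoetherianRing C] [Algebra A B] [Algebra B C] [Algebra A C] [IsScalarTower A B C]
    (hAB : GRSHom r n A B) (hBC : GRSHom r n B C) : GRSHom r n A C := by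
  haveI := hAB.1
  haveI := hBC.1
  refine grsHom_of_forall (Module.Flat.trans A B C) fun p _ k' _ _ _ _ _ _ => ?_
  let Y := B ⊗[A] k'
  haveI : IsNoetherianRing Y := Algebra.EssFiniteType.isNoetherianRing B _
  haveI : IsNoetherianRing (k' ⊗[A] B) := H02CA.isNoetherianRing_tensor_of_essFiniteType _ _ _
  have hY : RS r n Y :=
    (hAB.tensor_field k' (.inl inferInstance)).of_ringEquiv (Algebra.TensorProduct.comm A k' B).toRingEquiv
  let e := Algebra.TensorProduct.cancelBaseChange A B B C k'
  let X := Y ⊗[B] C
  haveI : IsNoetherianRing (C ⊗[A] k') := Algebra.EssFiniteType.isNoetherianRing C _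
  let eX : C ⊗[A] k' ≃+* X := e.symm.toRingEquiv.trans (Algebra.TensorProduct.comm B C Y).toRingEquiv
  haveI : IsNoetherianRing X := isNoetherianRing_of_ringEquiv _ eX
  have hX : RS r n X := RS.of_flat hY fun Q _ => by
    haveI : Algebra.EssFiniteType B Q.ResidueField := Algebra.EssFiniteType.comp B Y Q.ResidueField
    haveI : IsNoetherianRing (Q.ResidueField ⊗[B] C) := H02CA.isNoetherianRing_tensor_of_essFiniteType _ _ _
    exact (hBC.tensor_field Q.ResidueField (.inl inferInstance)).of_ringEquiv
      (Algebra.TensorProduct.cancelBaseChange B Y Q.ResidueField Q.ResidueField C).symm.toRingEquiv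
  exact hX.of_ringEquiv (eX.symm.trans (Algebra.TensorProduct.comm A C k').toRingEquiv)

/-- Descent along a faithfully flat homomorphism on top. -/
theorem GRSHom.of_comp_faithfullyFlat {A B C : Type u} [CommRing A] [CommRing B] [CommRing C] [IsNoetherianRing B]
    [IsNoetherianRing C] [Algebra A B] [Algebra B C] [Algebra A C] [IsScalarTower A B C]
    [Module.FaithfullyFlat B C] (hAC : GRSHom r n A C) : GRSHom r n A B := by
  haveI := hAC.1
  refine grsHom_of_forall (H06Desc.flat_of_faithfullyFlat_top (R := A) (S := B) (T := C)) fun p _ k' _ _ _ _ _ _ => ?_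
  let Y := B ⊗[A] k'
  haveI : IsNoetherianRing Y := Algebra.EssFiniteType.isNoetherianRing B _
  let e := Algebra.TensorProduct.cancelBaseChange A B B C k'
  let X := Y ⊗[B] C
  haveI : IsNoetherianRing (C ⊗[A] k') := Algebra.EssFiniteType.isNoetherianRing C _
  let eX : C ⊗[A] k' ≃+* X := e.symm.toRingEquiv.trans (Algebra.TensorProduct.comm B C Y).toRingEquiv
  haveI : IsNoetherianRing X := isNoetherianRing_of_ringEquiv _ eX
  haveI : IsNoetherianRing (k' ⊗[A] C) := H02CA.isNoetherianRing_tensor_of_essFiniteType _ _ _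
  have hX : RS r n X := (hAC.tensor_field k' (.inl inferInstance)).of_ringEquiv
    ((Algebra.TensorProduct.comm A k' C).toRingEquiv.trans eX)
  exact (RS.of_faithfullyFlat (A := Y) hX).of_ringEquiv (Algebra.TensorProduct.comm A B k').toRingEquiv

/-- Base change. -/
theorem GRSHom.baseChange {A B A' : Type u} [CommRing A] [CommRing B] [CommRing A'] [IsNoetherianRing B]
    [Algebra A B] [Algebra A A'] [IsNoetherianRing (A' ⊗[A] B)] (h : GRSHom r n A B)
    (hft : Algebra.EssFiniteType A A' ∨ Algebra.EssFiniteType A B) : GRSHom r n A' (A' ⊗[A] B) := by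
  haveI := h.1
  refine grsHom_of_forall inferInstance fun P _ k' _ _ _ _ _ _ => ?_
  letI : Algebra A k' := ((algebraMap A' k').comp (algebraMap A A')).toAlgebra
  haveI : IsScalarTower A A' k' := .of_algebraMap_eq fun _ => rfl
  have hL : Algebra.EssFiniteType A k' ∨ Algebra.EssFiniteType A B := by
    rcases hft with hft | hft
    · exact .inl (Algebra.EssFiniteType.comp A A' k')
    · exact .inr hft
  haveI : IsNoetherianRing (k' ⊗[A] B) := by
    rcases hL with hL | hL
    · exact H02CA.isNoetherianRing_tensor_of_essFiniteType _ _ _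
    · exact Algebra.EssFiniteType.isNoetherianRing k' _
  exact (h.tensor_field k' hL).of_ringEquiv (Algebra.TensorProduct.cancelBaseChange A A' k' k' B).symm.toRingEquiv

theorem GRSHom.of_algEquiv {A B B' : Type u} [CommRing A] [CommRing B] [CommRing B'] [Algebra A B] [Algebra A B']
    [IsNoetherianRing B] (e : B ≃ₐ[A] B') (h : GRSHom r n A B) : GRSHom r n A B' := by
  haveI := h.1
  refine ⟨Module.Flat.of_linearEquiv e.symm.toLinearEquiv, fun p _ => ?_⟩
  haveI : IsNoetherianRing (p.Fiber B) := H02CA.isNoetherianRing_tensor_of_essFiniteType _ _ _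
  exact (h.2 p).of_algEquiv (Algebra.TensorProduct.congr (AlgEquiv.refl : p.ResidueField ≃ₐ[p.ResidueField] _) e)

/-- Descent along extensions of the field. -/
theorem rs_tensor_of_extension (A L' L B : Type u) [CommRing A] [Field L'] [Field L] [CommRing B]
    [Algebra A L'] [Algebra A L] [Algebra A B] [Algebra L' L] [IsScalarTower A L' L]
    [IsNoetherianRing (L' ⊗[A] B)] [IsNoetherianRing (L ⊗[A] B)] (h : RS r n (L ⊗[A] B)) :
    RS r n (L' ⊗[A] B) := by
  let Y := L' ⊗[A] B
  let e : L ⊗[A] B ≃+* Y ⊗[L'] L := (Algebra.TensorProduct.cancelBaseChange A L' L L B).symm.toRingEquiv.trans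
    (Algebra.TensorProduct.comm L' L Y).toRingEquiv
  haveI : IsNoetherianRing (Y ⊗[L'] L) := isNoetherianRing_of_ringEquiv _ e
  exact RS.of_faithfullyFlat (A := Y) (h.of_ringEquiv e)

/-- Descent along faithfully flat changes of the base. -/
theorem GRSHom.of_baseChange {A B A' : Type u} [CommRing A] [CommRing B] [CommRing A'] [Algebra A B]
    [Algebra A A'] [IsNoetherianRing B] [Module.FaithfullyFlat A A'] [IsNoetherianRing (A' ⊗[A] B)]
    (h : GRSHom r n A' (A' ⊗[A] B)) : GRSHom r n A B := by
  haveI := h.1
  refine grsHom_of_forall (Module.Flat.of_flat_tensorProduct A B A') fun p _ k' _ _ _ _ _ _ => ?_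
  obtain ⟨P, hP⟩ := PrimeSpectrum.comap_surjective_of_faithfullyFlat (A := A) (B := A') ⟨p, inferInstance⟩
  let P0 := P.asIdeal
  haveI : P0.LiesOver p := ⟨(congrArg PrimeSpectrum.asIdeal hP).symm⟩
  letI := Localization.AtPrime.algebraOfLiesOver p P0
  obtain ⟨L, _, _, _, _, _, _, _⟩ := exists_compositum p.ResidueField P0.ResidueField k'
  letI : Algebra A' L := ((algebraMap P0.ResidueField L).comp (algebraMap A' P0.ResidueField)).toAlgebra
  haveI : IsScalarTower A' P0.ResidueField L := .of_algebraMap_eq fun _ => rfl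
  letI : Algebra A L := ((algebraMap A' L).comp (algebraMap A A')).toAlgebra
  haveI : IsScalarTower A A' L := .of_algebraMap_eq fun _ => rfl
  haveI : IsScalarTower A k' L := .of_algebraMap_eq fun a => by
    rw [IsScalarTower.algebraMap_apply A p.ResidueField k', ← IsScalarTower.algebraMap_apply p.ResidueField k' L,
      IsScalarTower.algebraMap_apply p.ResidueField P0.ResidueField L,
      ← IsScalarTower.algebraMap_apply A p.ResidueField P0.ResidueField]
    show algebraMap P0.ResidueField L (algebraMap A' P0.ResidueField (algebraMap A A' a)) = _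
    rw [← IsScalarTower.algebraMap_apply A A' P0.ResidueField]
  haveI : Algebra.EssFiniteType A' L := Algebra.EssFiniteType.comp A' P0.ResidueField L
  haveI : IsNoetherianRing (L ⊗[A'] (A' ⊗[A] B)) := H02CA.isNoetherianRing_tensor_of_essFiniteType _ _ _
  let e := (Algebra.TensorProduct.cancelBaseChange A A' L L B).toRingEquiv
  haveI : IsNoetherianRing (L ⊗[A] B) := isNoetherianRing_of_ringEquiv _ e
  haveI : IsNoetherianRing (k' ⊗[A] B) := H02CA.isNoetherianRing_tensor_of_essFiniteType _ _ _
  exact rs_tensor_of_extension A k' L B ((h.tensor_field L (.inl inferInstance)).of_ringEquiv e)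

/-- Localisation of source and target. -/
theorem GRSHom.localization {A B : Type u} [CommRing A] [CommRing B] [Algebra A B] [IsNoetherianRing B]
    (h : GRSHom r n A B) (S : Submonoid A) (A' B' : Type u) [CommRing A'] [CommRing B'] [Algebra A A']
    [Algebra B B'] [Algebra A' B'] [Algebra A B'] [IsScalarTower A A' B'] [IsScalarTower A B B']
    [IsLocalization S A'] (M : Submonoid B) [IsLocalization M B'] : GRSHom r n A' B' := by
  haveI := h.1
  haveI : IsNoetherianRing B' := IsLocalization.isNoetherianRing M B' inferInstance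
  haveI : Module.Flat B B' := IsLocalization.flat B' M
  haveI : Module.Flat A B' := Module.Flat.trans A B B'
  refine grsHom_of_forall ((Module.flat_iff_of_isLocalization (R := A) A' S (M := B')).mpr inferInstance) fun P _ k' _ _ _ _ _ _ => ?_
  letI : Algebra A k' := ((algebraMap A' k').comp (algebraMap A A')).toAlgebra
  haveI : IsScalarTower A A' k' := .of_algebraMap_eq fun _ => rfl
  haveI : Algebra.EssFiniteType A A' := Algebra.EssFiniteType.of_isLocalization A' S
  haveI : Algebra.EssFiniteType A k' := Algebra.EssFiniteType.comp A A' k'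
  haveI : IsNoetherianRing (k' ⊗[A] B) := H02CA.isNoetherianRing_tensor_of_essFiniteType _ _ _
  haveI : IsNoetherianRing (k' ⊗[A] B') := H02CA.isNoetherianRing_tensor_of_essFiniteType _ _ _
  letI := (Algebra.TensorProduct.map (AlgHom.id A k') (IsScalarTower.toAlgHom A B B')).toRingHom.toAlgebra
  haveI := isLocalization_tensor_right A B B' k' M
  exact ((h.tensor_field k' (.inl inferInstance)).of_isLocalization
    (M.map (Algebra.TensorProduct.includeRight : B →ₐ[A] k' ⊗[A] B).toRingHom) _).of_ringEquiv
    (IsLocalization.algebraTensorEquiv S A' k' B').symm.toRingEquiv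

/-! ### The named properties -/

theorem grsHom_of_isRegularHom {A B : Type u} [CommRing A] [CommRing B] [Algebra A B]
    (h : CAlg.IsRegularHom A B) : GRSHom r n A B :=
  ⟨h.1, fun p _ => grs_of_isGeometricallyRegular (h.2 p).2⟩

theorem isRegularHom_iff_grsHom {A B : Type u} [CommRing A] [CommRing B] [Algebra A B] [IsNoetherianRing B] :
    CAlg.IsRegularHom A B ↔ GRSHom ⊤ ⊤ A B := by
  refine ⟨grsHom_of_isRegularHom, fun h => ⟨h.1, fun p _ => ?_⟩⟩
  haveI : IsNoetherianRing (p.Fiber B) := H02CA.isNoetherianRing_tensor_of_essFiniteType _ _ _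
  exact ⟨inferInstance, isGeometricallyRegular_iff_grs.mpr (h.2 p)⟩

theorem isNormalHom_iff_grsHom {A B : Type u} [CommRing A] [CommRing B] [Algebra A B] [IsNoetherianRing B] :
    EGA4.IsNormalHom A B ↔ GRSHom 1 2 A B := by
  refine and_congr_right fun _ => forall₂_congr fun p _ => ?_
  haveI : IsNoetherianRing (p.Fiber B) := H02CA.isNoetherianRing_tensor_of_essFiniteType _ _ _
  exact isGeomNormal_iff_grs

theorem geomReducedHom_iff_grsHom {A B : Type u} [CommRing A] [CommRing B] [Algebra A B] [IsNoetherianRing B] :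
    (Module.Flat A B ∧ ∀ (p : Ideal A) [p.IsPrime], Algebra.IsGeometricallyReduced p.ResidueField (p.Fiber B)) ↔
      GRSHom 0 1 A B := by
  refine and_congr_right fun _ => forall₂_congr fun p _ => ?_
  haveI : IsNoetherianRing (p.Fiber B) := H02CA.isNoetherianRing_tensor_of_essFiniteType _ _ _
  exact isGeometricallyReduced_iff_grs

theorem cmHom_iff_grsHom {A B : Type u} [CommRing A] [CommRing B] [Algebra A B] [IsNoetherianRing B] :
    (Module.Flat A B ∧ ∀ (p : Ideal A) [p.IsPrime], LocCoh.IsCohenMacaulayRing (p.Fiber B)) ↔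
      GRSHom ⊥ ⊤ A B := by
  refine and_congr_right fun _ => forall₂_congr fun p _ => ?_
  haveI : IsNoetherianRing (p.Fiber B) := H02CA.isNoetherianRing_tensor_of_essFiniteType _ _ _
  exact isCohenMacaulayRing_iff_rs.trans grs_bot_iff.symm

theorem snHom_iff_grsHom {k : ℕ} {A B : Type u} [CommRing A] [CommRing B] [Algebra A B] [IsNoetherianRing B] :
    (Module.Flat A B ∧ ∀ (p : Ideal A) [p.IsPrime], LocCoh.HasSk k (p.Fiber B) (p.Fiber B)) ↔
      GRSHom ⊥ (k : WithBot ℕ∞) A B := by
  refine and_congr_right fun _ => forall₂_congr fun p _ => ?_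
  haveI : IsNoetherianRing (p.Fiber B) := H02CA.isNoetherianRing_tensor_of_essFiniteType _ _ _
  exact hasSk_self_iff_rs.trans grs_bot_iff.symm

/-- An algebra over a field, as a homomorphism. -/
theorem grsHom_of_grs {k T : Type u} [Field k] [CommRing T] [Algebra k T] [IsNoetherianRing T] (h : GRS r n k T) :
    GRSHom r n k T := by
  refine grsHom_of_forall inferInstance fun p _ k' _ _ _ _ _ _ => ?_
  haveI : Module.Finite k p.ResidueField :=
    Module.Finite.equiv p.algEquivResidueFieldOfField.toLinearEquiv
  haveI : Module.Finite k k' := Module.Finite.trans p.ResidueField k'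
  exact h k' inferInstance

/-- Properties ascend. -/
theorem GRSHom.rs {A B : Type u} [CommRing A] [CommRing B] [Algebra A B] [IsNoetherianRing A] [IsNoetherianRing B]
    (h : GRSHom r n A B) (hA : RS r n A) : RS r n B := by
  haveI := h.1
  refine RS.of_flat hA fun p _ => ?_
  haveI : IsNoetherianRing (p.Fiber B) := H02CA.isNoetherianRing_tensor_of_essFiniteType _ _ _
  exact (h.2 p).self

end Groth.Agent.H05EGA4
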