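import Mathlib
import Groth.Agent.H11Val.Dominating
import Groth.Agent.H17.LocalRange

/-!
# Integral closure and flat base change with reduced fibres (helper5)
-/

set_option autoImplicit false
set_option linter.style.haveILetI false
set_option linter.unusedSectionVars false
set_option linter.deprecated false
set_option linter.unusedSimpArgs false
set_option maxHeartbeats 800000
set_option synthInstance.maxHeartbeats 200000
universe u v
open TensorProduct Groth.Agent

namespace Groth.Agent.H05EGA4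

/-- All base changes of an algebra to fields are reduced. -/
def RedFibres (A A' : Type u) [CommRing A] [CommRing A'] [Algebra A A'] : Prop :=
  ∀ (L : Type u) [Field L] [Algebra A L], IsReduced (A' ⊗[A] L)

/-- Componentwise vanishing in a tensor product with a finite product. -/
theorem lTensor_pi_eq_zero {A A' : Type u} [CommRing A] [AddCommGroup A'] [Module A A'] {ι : Type u} [Fintype ι]
    [DecidableEq ι] {M : Type u} [AddCommGroup M] [Module A M] {N : ι → Type u} [∀ i, AddCommGroup (N i)]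
    [∀ i, Module A (N i)] (g : ∀ i, M →ₗ[A] N i) (x : A' ⊗[A] M) (h : ∀ i, (g i).lTensor A' x = 0) :
    (LinearMap.pi g).lTensor A' x = 0 := by
  apply (TensorProduct.piRight A A A' N).injective
  rw [map_zero]
  funext i
  rw [Pi.zero_apply, ← h i]
  clear h
  induction x using TensorProduct.induction_on with
  | zero => simp
  | tmul a l => simp
  | add z w hz hw => rw [map_add, map_add, Pi.add_apply, hz, hw, map_add]

/-- A nonintegral element of a finitely generated field extension avoids some discrete valuation ring. -/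
theorem exists_dvr_notMem {A K : Type u} [CommRing A] [IsNoetherianRing A] [Field K] [Algebra A K] (S : Finset K)
    (hS : Subfield.closure (Set.range (algebraMap A K) ∪ S) = ⊤) {z : K} (hz : ¬ IsIntegral A z) :
    ∃ V : ValuationSubring K, IsDiscreteValuationRing V ∧ (∀ a, algebraMap A K a ∈ V) ∧ z ∉ V := by
  classical
  have hz0 : z ≠ 0 := fun h => hz (h ▸ isIntegral_zero)
  let D := Algebra.adjoin A ({z⁻¹} : Set K)
  haveI : Algebra.FiniteType A D := (Subalgebra.fg_iff_finiteType _).mp (by simpa using Subalgebra.fg_adjoin_finset (R := A) ({z⁻¹} : Finset K))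
  haveI : IsNoetherianRing D := Algebra.FiniteType.isNoetherianRing A D
  let w : D := ⟨z⁻¹, Algebra.subset_adjoin rfl⟩
  have hw : ¬ IsUnit w := fun hu => by
    obtain ⟨w', hw'⟩ := hu.exists_right_inv
    have h1 : z⁻¹ * (w' : K) = 1 := congrArg Subtype.val hw'
    have h2 : (w' : K) = z := by
      rw [← mul_one z, ← h1, ← mul_assoc, mul_inv_cancel₀ hz0, one_mul]
    refine hz (H17.LocalRange.isIntegral_of_mem_adjoin_inv hz0 ?_)
    have h3 := w'.2
    rwa [h2] at h3
  obtain ⟨P, hP, hwP⟩ := exists_max_ideal_of_mem_nonunits hw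
  have hPne : P ≠ ⊥ := fun h => by
    rw [h, Ideal.mem_bot] at hwP
    exact inv_ne_zero hz0 (congrArg Subtype.val hwP)
  have hS' : Subfield.closure (Set.range (algebraMap D K) ∪ S) = ⊤ := by
    refine top_le_iff.mp (hS ▸ Subfield.closure_mono (Set.union_subset_union_left _ ?_))
    rintro _ ⟨a, rfl⟩
    exact ⟨algebraMap A D a, rfl⟩
  obtain ⟨V, hV, hc⟩ := H11Val.exists_dvr_center K (fun a b h => Subtype.ext h) S hS' P hPne
  refine ⟨V, hV, fun a => (hc (algebraMap A D a)).1, fun hzV => ?_⟩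
  have h1 : V.valuation z⁻¹ < 1 := (hc w).2.mp hwP
  have h2 : V.valuation z ≤ 1 := (V.valuation_le_one_iff z).mpr hzV
  have h3 : V.valuation z⁻¹ * V.valuation z = 1 := by rw [← map_mul, inv_mul_cancel₀ hz0, map_one]
  exact absurd h3 (ne_of_lt (mul_lt_one_of_lt_of_le h1 h2))

/-- Finitely many submodules detect a finitely generated module. -/
theorem exists_finset_inf_eq_bot {A : Type u} [CommRing A] [IsNoetherianRing A] {M : Type u} [AddCommGroup M]
    [Module A M] {I : Type v} (W : I → Submodule A M)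
    (h : ∀ (P : Ideal A) [P.IsPrime] (n : M), (∀ c, c • n = 0 ↔ c ∈ P) → ∃ i, ∀ c ∉ P, c • n ∉ W i)
    (L : Submodule A M) (hL : L.FG) : ∃ T : Finset I, L ⊓ T.inf W = ⊥ := by
  classical
  haveI : Module.Finite A L := Module.Finite.iff_fg.mpr hL
  suffices ∀ (N : Type u) [AddCommGroup N] [Module A N] [Module.Finite A N],
      ∀ (L' : Submodule A M) (π : L' →ₗ[A] N), Function.Injective π → ∃ T : Finset I, L' ⊓ T.inf W = ⊥ from
    this L L LinearMap.id Function.injective_id
  intro N _ _ hN
  refine IsNoetherianRing.induction_on_isQuotientEquivQuotientPrime A (M := N) hN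
    (motive := fun N _ _ _ => ∀ (L' : Submodule A M) (π : L' →ₗ[A] N), Function.Injective π →
      ∃ T : Finset I, L' ⊓ T.inf W = ⊥) ?_ ?_ ?_
  · intro N _ _ _ _ L' π hπ
    refine ⟨∅, eq_bot_iff.mpr fun x hx => ?_⟩
    have : (⟨x, hx.1⟩ : L') = 0 := hπ (Subsingleton.elim _ _)
    exact congrArg Subtype.val this
  · intro N _ _ _ Q e L' π hπ
    by_cases hbot : L' = ⊥
    · exact ⟨∅, by rw [hbot, bot_inf_eq]⟩
    obtain ⟨n, hn, hn0⟩ := Submodule.exists_mem_ne_zero_of_ne_bot hbot
    let ρ : L' →ₗ[A] A ⧸ Q.1 := e.toLinearMap.comp π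
    have hρ : Function.Injective ρ := e.injective.comp hπ
    obtain ⟨a, ha⟩ := Ideal.Quotient.mk_surjective (ρ ⟨n, hn⟩)
    have haQ : a ∉ Q.1 := fun hm => hn0 (congrArg Subtype.val (hρ (show ρ ⟨n, hn⟩ = ρ 0 by
      rw [map_zero, ← ha, Ideal.Quotient.eq_zero_iff_mem.mpr hm])))
    have hann : ∀ c, c • n = 0 ↔ c ∈ Q.1 := fun c => by
      have h1 : c • (⟨n, hn⟩ : L') = 0 ↔ c • n = 0 := Subtype.ext_iff
      have h2 : ρ (c • (⟨n, hn⟩ : L')) = Ideal.Quotient.mk Q.1 (c * a) := by
        rw [map_smul, ← ha, map_mul, Algebra.smul_def, Ideal.Quotient.algebraMap_eq]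
      rw [← h1, ← hρ.eq_iff, map_zero, h2, Ideal.Quotient.eq_zero_iff_mem]
      exact ⟨fun hm => (Q.2.mem_or_mem hm).resolve_right haQ, fun hm => Ideal.mul_mem_right _ _ hm⟩
    obtain ⟨i, hi⟩ := h Q.1 n hann
    refine ⟨{i}, eq_bot_iff.mpr fun m hm => ?_⟩
    rw [Finset.inf_singleton] at hm
    by_contra hm0
    obtain ⟨b, hb⟩ := Ideal.Quotient.mk_surjective (ρ ⟨m, hm.1⟩)
    have hbQ : b ∉ Q.1 := fun hmem => hm0 (congrArg Subtype.val (hρ (show ρ ⟨m, hm.1⟩ = ρ 0 by
      rw [map_zero, ← hb, Ideal.Quotient.eq_zero_iff_mem.mpr hmem])))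
    have heq : b • (⟨n, hn⟩ : L') = a • ⟨m, hm.1⟩ := hρ (by
      rw [map_smul, map_smul, ← ha, ← hb, Algebra.smul_def, Algebra.smul_def, Ideal.Quotient.algebraMap_eq]
      ring)
    have hbn : b • n = a • m := congrArg Subtype.val heq
    refine hi b hbQ ?_
    rw [hbn]; exact Submodule.smul_mem _ _ hm.2
  · intro N₁ _ _ _ N₂ _ _ _ N₃ _ _ _ f g hf hg hfg h1 h3 L' π hπ
    let L1 : Submodule A M := ((LinearMap.range f).comap π).map L'.subtype
    have hL1 : L1 ≤ L' := by rintro _ ⟨x, -, rfl⟩; exact x.2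
    let π1' : L1 →ₗ[A] LinearMap.range f := LinearMap.codRestrict _ (π.comp (Submodule.inclusion hL1)) (by
      rintro ⟨_, x, hx, rfl⟩; exact hx)
    have hπ1' : Function.Injective π1' := fun x y hxy =>
      Submodule.inclusion_injective hL1 (hπ (congrArg Subtype.val hxy))
    obtain ⟨T1, hT1⟩ := h1 L1 ((LinearEquiv.ofInjective f hf).symm.toLinearMap.comp π1')
      ((LinearEquiv.ofInjective f hf).symm.injective.comp hπ1')
    let L3 := L' ⊓ T1.inf W
    obtain ⟨T3, hT3⟩ := h3 L3 (g.comp (π.comp (Submodule.inclusion inf_le_left))) (by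
      refine (injective_iff_map_eq_zero _).mpr fun x hx => ?_
      have hxr : π (Submodule.inclusion inf_le_left x) ∈ LinearMap.range f := (hfg _).mp hx
      have hx1 : (x : M) ∈ L1 := ⟨Submodule.inclusion inf_le_left x, hxr, rfl⟩
      exact Subtype.ext ((Submodule.mem_bot A).mp (hT1 ▸ ⟨hx1, x.2.2⟩)))
    refine ⟨T1 ∪ T3, ?_⟩
    rw [Finset.inf_union, ← inf_assoc]
    exact hT3

/-- A valuation subring containing the image of the base, as a subalgebra. -/
def valSubalgebra {A K : Type u} [CommRing A] [Field K] [Algebra A K] (V : ValuationSubring K)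
    (hV : ∀ a, algebraMap A K a ∈ V) : Subalgebra A K :=
  { V.toSubring with algebraMap_mem' := hV }

/-- Reduction of an integral equation. -/
theorem map_pow_eq_zero_of_root_aux {R S R' : Type u} [CommRing R] [CommRing S] [CommRing R'] (ι : R →+* S)
    (hι : Function.Injective ι) (q : R →+* R') (t y : R) (x : S) (m : ℕ) (hm : m ≠ 0) (hy : ι y = ι t ^ m * x)
    {p : Polynomial R} (hp : p.Monic) (hx : Polynomial.eval₂ ι x p = 0) (ht : q t = 0) :
    q (y ^ p.natDegree) = 0 := by
  rcases subsingleton_or_nontrivial R' with hs | hn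
  · exact Subsingleton.elim _ _
  have h1 := Polynomial.scaleRoots_eval₂_eq_zero ι (s := t ^ m) hx
  rw [map_pow, ← hy, Polynomial.eval₂_hom] at h1
  have h2 : (p.scaleRoots (t ^ m)).eval y = 0 := hι (h1.trans (map_zero ι).symm)
  have h3 := congrArg q h2
  rw [map_zero, ← Polynomial.eval_map_apply, Polynomial.map_scaleRoots _ _ _ (by
      rw [hp.leadingCoeff, map_one]; exact one_ne_zero),
    map_pow, ht, zero_pow hm, Polynomial.scaleRoots_zero, Polynomial.eval_smul, Polynomial.eval_pow,
    Polynomial.eval_X, (hp.map q).leadingCoeff, one_smul, hp.natDegree_map] at h3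
  rw [map_pow]; exact h3

/-- Reduction of an integral element to a reduced ring. -/
theorem map_eq_zero_of_isIntegral {C R S R' : Type u} [CommRing C] [CommRing R] [CommRing S] [CommRing R']
    [IsReduced R'] [Algebra C R] [Algebra C S] (ι : R →ₐ[C] S) (hι : Function.Injective ι) (q : R →+* R') (t y : R)
    (x : S) (m : ℕ) (hm : m ≠ 0) (hy : ι y = ι t ^ m * x) (hx : IsIntegral C x) (ht : q t = 0) : q y = 0 := by
  obtain ⟨p, hp, hpx⟩ := hx
  rcases subsingleton_or_nontrivial R' with hs | hn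
  · exact Subsingleton.elim _ _
  have h := map_pow_eq_zero_of_root_aux (ι : R →+* S) hι q t y x m hm hy (hp.map (algebraMap C R))
    (by rw [Polynomial.eval₂_map, ι.comp_algebraMap]; exact hpx) ht
  exact IsReduced.eq_zero _ ⟨_, (map_pow q y _).symm.trans h⟩

/-- Over a discrete valuation ring, an integral element of the base change lies in the base change. -/
theorem mem_range_of_dvr_aux {A A' K Vs : Type u} [CommRing A] [CommRing A'] [Field K] [CommRing Vs] [IsDomain Vs]
    [IsDiscreteValuationRing Vs] [Algebra A A'] [Algebra A K] [Algebra A Vs] [Module.Flat A A']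
    (hred : RedFibres A A') (φ : Vs →ₐ[A] K) (hφ : Function.Injective φ)
    (hfrac : ∀ k : K, (∃ v, φ v = k) ∨ ∃ w, φ w = k⁻¹) (x : A' ⊗[A] K) (hx : IsIntegral A' x) :
    x ∈ Set.range (Algebra.TensorProduct.map (AlgHom.id A' A') φ) := by
  classical
  obtain ⟨t, ht⟩ := IsDiscreteValuationRing.exists_irreducible Vs
  let J : Ideal Vs := Ideal.span {t}
  haveI : J.IsMaximal := PrincipalIdealRing.isMaximal_of_irreducible ht
  let m : Vs →ₗ[A] Vs := LinearMap.mulLeft A t
  let q : Vs →ₗ[A] Vs ⧸ J := (Ideal.Quotient.mkₐ A J).toLinearMap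
  have hmq : Function.Exact m q := fun y => by
    refine ⟨fun hy => ?_, ?_⟩
    · obtain ⟨c, hc⟩ := Ideal.mem_span_singleton'.mp (Ideal.Quotient.eq_zero_iff_mem.mp hy)
      exact ⟨c, by rw [LinearMap.mulLeft_apply, mul_comm]; exact hc⟩
    · rintro ⟨c, rfl⟩
      exact Ideal.Quotient.eq_zero_iff_mem.mpr (Ideal.mul_mem_right c J (Ideal.mem_span_singleton_self t))
  let ι : A' ⊗[A] Vs →ₐ[A'] A' ⊗[A] K := Algebra.TensorProduct.map (AlgHom.id A' A') φ
  have hι : Function.Injective ι := by
    have h := Module.Flat.lTensor_preserves_injective_linearMap (M := A') φ.toLinearMap hφ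
    exact h
  let T : A' ⊗[A] Vs := 1 ⊗ₜ t
  let qa : A' ⊗[A] Vs →+* A' ⊗[A] (Vs ⧸ J) :=
    (Algebra.TensorProduct.map (AlgHom.id A' A') (Ideal.Quotient.mkₐ A J)).toRingHom
  have hTm : ∀ z, T * z = m.lTensor A' z := fun z => by
    induction z using TensorProduct.induction_on with
    | zero => simp
    | tmul a v => rw [LinearMap.lTensor_tmul, Algebra.TensorProduct.tmul_mul_tmul, one_mul]; rfl
    | add z w hz hw => rw [mul_add, hz, hw, map_add]
  have hker : ∀ y, qa y = 0 → ∃ z, T * z = y := fun y hy => by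
    obtain ⟨z, rfl⟩ := ((lTensor_exact A' hmq Ideal.Quotient.mk_surjective) y).mp hy
    exact ⟨z, hTm z⟩
  haveI : IsReduced (A' ⊗[A] (Vs ⧸ J)) :=
    letI : Field (Vs ⧸ J) := Ideal.Quotient.field J
    hred (Vs ⧸ J)
  have hclear : ∀ s : A' ⊗[A] K, ∃ (n : ℕ) (y : A' ⊗[A] Vs), ι y = (ι T) ^ n * s := by
    intro s
    induction s using TensorProduct.induction_on with
    | zero => exact ⟨0, 0, by simp⟩
    | tmul a k =>
      have ht0 : φ t ≠ 0 := fun h => ht.ne_zero (hφ (h.trans (map_zero φ).symm))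
      obtain ⟨n, v, hv⟩ : ∃ (n : ℕ) (v : Vs), φ v = φ t ^ n * k := by
        rcases hfrac k with ⟨v, hv⟩ | ⟨w, hw⟩
        · exact ⟨0, v, by rw [pow_zero, one_mul]; exact hv⟩
        by_cases hk0 : k = 0
        · exact ⟨0, 0, by simp [hk0]⟩
        obtain ⟨n, u, hu⟩ := IsDiscreteValuationRing.eq_unit_mul_pow_irreducible
          (x := w) (fun h => inv_ne_zero hk0 (by rw [← hw, h, map_zero])) ht
        refine ⟨n, (↑u⁻¹ : Vs), ?_⟩
        have h1 : k⁻¹ = φ u * φ t ^ n := by rw [← hw, hu, map_mul, map_pow]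
        have h2 : φ (u⁻¹ : Vsˣ) * φ u = 1 := by rw [← map_mul, Units.inv_mul, map_one]
        calc φ (u⁻¹ : Vsˣ) = φ (u⁻¹ : Vsˣ) * (k⁻¹ * k) := by rw [inv_mul_cancel₀ hk0, mul_one]
          _ = _ := by rw [h1, ← mul_assoc, ← mul_assoc, h2, one_mul]
      refine ⟨n, a ⊗ₜ v, ?_⟩
      simp only [ι, T, Algebra.TensorProduct.map_tmul, ← map_pow, Algebra.TensorProduct.tmul_pow, one_pow,
        Algebra.TensorProduct.tmul_mul_tmul, one_mul, AlgHom.coe_id, id_eq]
      rw [hv]
      simp [Algebra.TensorProduct.tmul_mul_tmul]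
    | add s r hs hr =>
      obtain ⟨n, y, hy⟩ := hs
      obtain ⟨n', y', hy'⟩ := hr
      exact ⟨n + n', T ^ n' * y + T ^ n * y', by
        rw [map_add, map_mul, map_mul, map_pow, map_pow, hy, hy', pow_add]; ring⟩
  have hT : qa T = 0 := by
    show (Algebra.TensorProduct.map (AlgHom.id A' A') (Ideal.Quotient.mkₐ A J)) ((1 : A') ⊗ₜ[A] t) = 0
    rw [Algebra.TensorProduct.map_tmul, Ideal.Quotient.mkₐ_eq_mk,
      Ideal.Quotient.eq_zero_iff_mem.mpr (Ideal.mem_span_singleton_self t), TensorProduct.tmul_zero]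
  have hstep : ∀ n : ℕ, (∃ y, ι y = (ι T) ^ (n + 1) * x) → ∃ y, ι y = (ι T) ^ n * x := by
    rintro n ⟨y, hy⟩
    obtain ⟨z, hz⟩ := hker y (map_eq_zero_of_isIntegral ι hι qa T y x (n + 1) (Nat.add_one_ne_zero n) hy hx hT)
    refine ⟨z, ?_⟩
    have hTreg : IsLeftRegular (ι T) := by
      have ht0 : φ t ≠ 0 := fun h => ht.ne_zero (hφ (h.trans (map_zero φ).symm))
      have hu : IsUnit (ι T) := by
        refine IsUnit.of_mul_eq_one ((1 : A') ⊗ₜ[A] (φ t)⁻¹) ?_
        show (1 : A') ⊗ₜ[A] φ t * _ = _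
        rw [Algebra.TensorProduct.tmul_mul_tmul, one_mul, mul_inv_cancel₀ ht0]
        rfl
      exact hu.isRegular.left
    refine hTreg ?_
    show ι T * ι z = ι T * (ι T ^ n * x)
    rw [← map_mul, hz, hy, pow_succ']
    ring
  obtain ⟨n, hn⟩ : ∃ n, ∃ y, ι y = (ι T) ^ n * x := hclear x
  have h0 : ∃ y, ι y = (ι T) ^ 0 * x := by
    clear hclear
    induction n with
    | zero => exact hn
    | succ n ih => exact ih (hstep n hn)
  obtain ⟨y, hy⟩ := h0
  exact ⟨y, by rw [pow_zero, one_mul] at hy; exact hy⟩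

/-- Over a discrete valuation subring, an integral element of the base change lies in the base change. -/
theorem mem_range_of_dvr {A A' K : Type u} [CommRing A] [CommRing A'] [Field K] [Algebra A A'] [Algebra A K]
    [Module.Flat A A'] (hred : RedFibres A A') (V : ValuationSubring K) (hDVR : IsDiscreteValuationRing V)
    (hV : ∀ a, algebraMap A K a ∈ V) (x : A' ⊗[A] K) (hx : IsIntegral A' x) :
    x ∈ Set.range (Algebra.TensorProduct.map (AlgHom.id A' A') (valSubalgebra V hV).val) :=
  haveI : IsDiscreteValuationRing (valSubalgebra V hV) := hDVR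
  mem_range_of_dvr_aux hred (valSubalgebra V hV).val Subtype.val_injective
    (fun k => (V.mem_or_inv_mem k).imp (fun h => ⟨⟨k, h⟩, rfl⟩) (fun h => ⟨⟨k⁻¹, h⟩, rfl⟩)) x hx

theorem exists_fg_subfield {A K : Type u} [CommRing A] [Field K] [Algebra A K] {A' : Type u} [CommRing A']
    [Algebra A A'] (x : A' ⊗[A] K) : ∃ (S : Finset K) (L : Subalgebra A K),
      (L : Set K) = (Subfield.closure (Set.range (algebraMap A K) ∪ (S : Set K)) : Set K) ∧
      x ∈ Set.range (Algebra.TensorProduct.map (AlgHom.id A' A') L.val) := by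
  classical
  obtain ⟨S, rfl⟩ := TensorProduct.exists_finset x
  let F := Subfield.closure (Set.range (algebraMap A K) ∪ (S.image Prod.snd : Finset K))
  let L : Subalgebra A K := { F.toSubring with algebraMap_mem' := fun a => Subfield.subset_closure (.inl ⟨a, rfl⟩) }
  refine ⟨S.image Prod.snd, L, by rfl, ?_⟩
  refine ⟨∑ i ∈ S.attach, i.1.1 ⊗ₜ[A] (⟨i.1.2, Subfield.subset_closure (.inr (Finset.mem_image_of_mem _ i.2))⟩ : L), ?_⟩
  rw [map_sum]
  exact (Finset.sum_congr rfl fun i _ => Algebra.TensorProduct.map_tmul _ _ _ _).trans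
    (S.sum_attach fun i => i.1 ⊗ₜ[A] i.2)

/-- Integral closure in a field commutes with flat base change with reduced fibres. -/
theorem mem_range_integralClosure_field {A A' K : Type u} [CommRing A] [IsNoetherianRing A] [CommRing A'] [Field K]
    [Algebra A A'] [Algebra A K] [Module.Flat A A'] (hred : RedFibres A A') (x : A' ⊗[A] K) (hx : IsIntegral A' x) :
    x ∈ Set.range (Algebra.TensorProduct.map (AlgHom.id A' A') (integralClosure A K).val) := by
  classical
  obtain ⟨S, L, hL, x0, rfl⟩ := exists_fg_subfield x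
  have hmemL : ∀ {y : K}, y ∈ L → y⁻¹ ∈ L := fun {y} hy => by
    have h : y ∈ (Subfield.closure (Set.range (algebraMap A K) ∪ S) : Set K) := hL ▸ hy
    show y⁻¹ ∈ (L : Set K)
    rw [hL]; exact inv_mem h
  letI : Field L := IsField.toField
    ⟨⟨0, 1, zero_ne_one⟩, mul_comm, fun {a} ha => ⟨⟨_, hmemL a.2⟩, Subtype.ext (mul_inv_cancel₀ fun h => ha (Subtype.ext h))⟩⟩
  have hinj : Function.Injective (Algebra.TensorProduct.map (AlgHom.id A' A') L.val) :=
    Module.Flat.lTensor_preserves_injective_linearMap (M := A') L.val.toLinearMap Subtype.val_injective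
  have hx0 : IsIntegral A' x0 := (isIntegral_algHom_iff _ hinj).mp hx
  have hSL : ∀ s ∈ S, s ∈ L := fun s hs => by
    show s ∈ (L : Set K)
    rw [hL]; exact Subfield.subset_closure (.inr hs)
  let S0 : Finset L := S.attach.image fun s => ⟨s.1, hSL _ s.2⟩
  have htop : Subfield.closure (Set.range (algebraMap A L) ∪ S0) = ⊤ := by
    refine top_le_iff.mp fun y _ => ?_
    have hy : (y : K) ∈ Subfield.closure (Set.range (algebraMap A K) ∪ S) := by
      rw [← SetLike.mem_coe]
      rw [← hL]; exact y.2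
    let φ : L →+* K := L.val.toRingHom
    have hle : Subfield.closure (Set.range (algebraMap A K) ∪ S) ≤
        (Subfield.closure (Set.range (algebraMap A L) ∪ S0)).map φ := by
      rw [Subfield.closure_le]
      rintro w (⟨a, rfl⟩ | hw)
      · exact ⟨algebraMap A L a, Subfield.subset_closure (.inl ⟨a, rfl⟩), rfl⟩
      · exact ⟨⟨w, hSL w hw⟩, Subfield.subset_closure (.inr (Finset.mem_image.mpr ⟨⟨w, hw⟩, Finset.mem_attach _ _, rfl⟩)), rfl⟩
    obtain ⟨y', hy', he⟩ := hle hy
    rwa [← Subtype.ext he]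
  -- valuation rings
  let C := Subalgebra.toSubmodule (integralClosure A L)
  let I := {V : ValuationSubring L // IsDiscreteValuationRing V ∧ ∀ a, algebraMap A L a ∈ V}
  let Vm : I → Submodule A L := fun V => Subalgebra.toSubmodule (valSubalgebra V.1 V.2.2)
  have hCV : ∀ V, C ≤ Vm V := fun V z hz => by
    let Vs := valSubalgebra V.1 V.2.2
    have hz' : IsIntegral A z := hz
    have h1 : IsIntegral Vs z := hz'.tower_top
    obtain ⟨v, hv⟩ := IsIntegrallyClosed.isIntegral_iff.mp (show IsIntegral V.1 z from h1)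
    exact hv ▸ v.2
  let W : I → Submodule A (L ⧸ C) := fun V => (Vm V).map C.mkQ
  have hsep : ∀ (P : Ideal A) [P.IsPrime] (n : L ⧸ C), (∀ c, c • n = 0 ↔ c ∈ P) → ∃ V, ∀ c ∉ P, c • n ∉ W V := by
    intro P _ n hn
    obtain ⟨z, rfl⟩ := C.mkQ_surjective n
    have hcne : ∀ c ∉ P, algebraMap A L c ≠ 0 := fun c hc h0 => hc ((hn c).mp (by
      rw [← map_smul, Algebra.smul_def, h0, zero_mul, map_zero]))
    let AP := Localization.AtPrime P
    have hu : ∀ y : P.primeCompl, IsUnit (algebraMap A L y) := fun y => isUnit_iff_ne_zero.mpr (hcne y y.2)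
    letI : Algebra AP L := (IsLocalization.lift hu).toAlgebra
    haveI : IsScalarTower A AP L := .of_algebraMap_eq fun a => (IsLocalization.lift_eq hu a).symm
    haveI : IsNoetherianRing AP := IsLocalization.isNoetherianRing P.primeCompl _ inferInstance
    have hni : ¬ IsIntegral AP z := fun hi => by
      obtain ⟨c, hc⟩ := IsIntegral.exists_multiple_integral_of_isLocalization P.primeCompl z hi
      exact c.2 ((hn c).mp ((Submodule.Quotient.mk_eq_zero C).mpr hc))
    have htopP : Subfield.closure (Set.range (algebraMap AP L) ∪ S0) = ⊤ := by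
      refine top_le_iff.mp (htop ▸ Subfield.closure_mono (Set.union_subset_union_left _ ?_))
      rintro _ ⟨a, rfl⟩
      exact ⟨algebraMap A AP a, (IsScalarTower.algebraMap_apply A AP L a).symm⟩
    obtain ⟨V, hV, hAP, hzV⟩ := exists_dvr_notMem S0 htopP hni
    refine ⟨⟨V, hV, fun a => IsScalarTower.algebraMap_apply A AP L a ▸ hAP _⟩, fun c hc hcn => hzV ?_⟩
    obtain ⟨v, hv, hvn⟩ := hcn
    rw [← map_smul, Submodule.mkQ_apply, Submodule.mkQ_apply, Submodule.Quotient.eq] at hvn
    have hcz : algebraMap A L c * z ∈ V := by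
      have h := sub_mem hv (hCV ⟨V, hV, fun a => IsScalarTower.algebraMap_apply A AP L a ▸ hAP _⟩ hvn)
      rw [sub_sub_cancel, Algebra.smul_def] at h
      exact h
    obtain ⟨w, hw⟩ := (IsLocalization.map_units AP (⟨c, hc⟩ : P.primeCompl)).exists_left_inv
    have h := mul_mem (hAP w) hcz
    rwa [← mul_assoc, IsScalarTower.algebraMap_apply A AP L c, ← map_mul, hw, map_one, one_mul] at h
  -- the image of `x0` modulo `C`
  let xb := C.mkQ.lTensor A' x0
  obtain ⟨Sx, hSx⟩ := TensorProduct.exists_finset xb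
  let N : Submodule A (L ⧸ C) := Submodule.span A (Sx.image Prod.snd : Finset (L ⧸ C))
  obtain ⟨T, hT⟩ := exists_finset_inf_eq_bot W hsep N (Submodule.fg_span (Finset.finite_toSet _))
  let δ : (L ⧸ C) →ₗ[A] ∀ i : T, (L ⧸ C) ⧸ W i := LinearMap.pi fun i => (W i).mkQ
  have hδ : Function.Injective (δ.comp N.subtype) := by
    refine (injective_iff_map_eq_zero _).mpr fun n hn => Subtype.ext ((Submodule.mem_bot A).mp (hT ▸ ⟨n.2, ?_⟩))
    exact Submodule.mem_finsetInf.mpr fun i hi => (Submodule.Quotient.mk_eq_zero _).mp (congrFun hn ⟨i, hi⟩)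
  obtain ⟨xn, hxn⟩ : ∃ xn : A' ⊗[A] N, N.subtype.lTensor A' xn = xb := by
    refine ⟨∑ i ∈ Sx.attach, i.1.1 ⊗ₜ[A] (⟨i.1.2, Submodule.subset_span (Finset.mem_image_of_mem _ i.2)⟩ : N), ?_⟩
    rw [map_sum, hSx]
    exact Sx.sum_attach fun i => i.1 ⊗ₜ[A] i.2
  have hinjδ := Module.Flat.lTensor_preserves_injective_linearMap (M := A') _ hδ
  have hxn0 : xn = 0 := by
    apply hinjδ
    rw [map_zero, LinearMap.lTensor_comp_apply, hxn]
    apply (TensorProduct.piRight A A A' fun i : T => (L ⧸ C) ⧸ W i).injective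
    rw [map_zero]
    funext i
    obtain ⟨y, hy⟩ := mem_range_of_dvr (A := A) (A' := A') hred i.1.1 i.1.2.1 i.1.2.2 x0 hx0
    let μ : L →ₗ[A] (L ⧸ C) ⧸ W i := (W i).mkQ.comp C.mkQ
    have h2 : ∀ z : A' ⊗[A] (L ⧸ C),
        TensorProduct.piRight A A A' (fun i : T => (L ⧸ C) ⧸ W i) (δ.lTensor A' z) i = (W i).mkQ.lTensor A' z := by
      intro z
      induction z using TensorProduct.induction_on with
      | zero => simp
      | tmul a l => simp [δ]
      | add z w hz hw => rw [map_add, map_add, Pi.add_apply, hz, hw, map_add]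
    rw [Pi.zero_apply, h2, ← LinearMap.lTensor_comp_apply, ← hy]
    clear hy
    induction y using TensorProduct.induction_on with
    | zero => simp
    | tmul a v =>
      rw [Algebra.TensorProduct.map_tmul, LinearMap.lTensor_tmul]
      show a ⊗ₜ[A] (W i).mkQ (C.mkQ (v : L)) = 0
      rw [Submodule.mkQ_apply (W i), (Submodule.Quotient.mk_eq_zero (W i)).mpr ⟨v, v.2, rfl⟩, TensorProduct.tmul_zero]
    | add y w hy hw => rw [map_add, map_add, hy, hw, add_zero]
  have hxb0 : xb = 0 := by rw [← hxn, hxn0, map_zero]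
  obtain ⟨c, hc⟩ := ((lTensor_exact A' (LinearMap.exact_subtype_mkQ C) C.mkQ_surjective) x0).mp hxb0
  let κ : integralClosure A L →ₐ[A] integralClosure A K :=
    (L.val.comp (integralClosure A L).val).codRestrict _ fun z => z.2.map L.val
  refine ⟨Algebra.TensorProduct.map (AlgHom.id A' A') κ c, ?_⟩
  rw [← hc]
  clear hc hxb0
  induction c using TensorProduct.induction_on with
  | zero => simp
  | tmul a v => simp [κ]
  | add y w hy hw => simp [map_add] at hy hw ⊢; rw [hy, hw]

/-- Reducedness of base changes of reduced algebras. -/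
theorem isReduced_tensor_of_redFibres {A A' B : Type u} [CommRing A] [IsNoetherianRing A] [CommRing A'] [CommRing B]
    [Algebra A A'] [Algebra A B] [Module.Flat A A'] (hred : RedFibres A A') [IsReduced B] : IsReduced (A' ⊗[A] B) := by
  classical
  refine ⟨fun x hx => ?_⟩
  obtain ⟨S, rfl⟩ := TensorProduct.exists_finset x
  let B0 := Algebra.adjoin A (↑(S.image Prod.snd) : Set B)
  haveI : Algebra.FiniteType A B0 := (Subalgebra.fg_iff_finiteType _).mp (Subalgebra.fg_adjoin_finset _)
  haveI : IsNoetherianRing B0 := Algebra.FiniteType.isNoetherianRing A B0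
  haveI : IsReduced B0 := isReduced_of_injective B0.val Subtype.val_injective
  let Ps := (minimalPrimes.finite_of_isNoetherianRing B0).toFinset
  haveI : ∀ P : Ps, (P : Ideal B0).IsPrime := fun P => Ideal.minimalPrimes_isPrime ((Set.Finite.mem_toFinset _).mp P.2)
  let δ : B0 →ₐ[A] (∀ P : Ps, FractionRing (B0 ⧸ (P : Ideal B0))) :=
    AlgHom.pi fun P => (IsScalarTower.toAlgHom A (B0 ⧸ (P : Ideal B0)) _).comp (Ideal.Quotient.mkₐ A _)
  have hδ : Function.Injective δ := by
    refine (injective_iff_map_eq_zero δ).mpr fun b hb => ?_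
    have hmem : b ∈ nilradical B0 := by
      rw [nilradical, ← Ideal.sInf_minimalPrimes]
      refine Submodule.mem_sInf.mpr fun P hP => Ideal.Quotient.eq_zero_iff_mem.mp ?_
      have hb' := congrFun hb ⟨P, (Set.Finite.mem_toFinset _).mpr hP⟩
      haveI := Ideal.minimalPrimes_isPrime hP
      exact IsFractionRing.injective (B0 ⧸ P) (FractionRing (B0 ⧸ P)) (by rw [map_zero]; exact hb')
    rwa [nilradical_eq_zero] at hmem
  let x0 : A' ⊗[A] B0 := ∑ i ∈ S.attach, i.1.1 ⊗ₜ[A]
    (⟨i.1.2, Algebra.subset_adjoin (Finset.mem_image_of_mem _ i.2)⟩ : B0)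
  have hx0 : Algebra.TensorProduct.map (AlgHom.id A A') B0.val x0 = ∑ i ∈ S, i.1 ⊗ₜ[A] i.2 := by
    rw [map_sum]; exact S.sum_attach fun i => i.1 ⊗ₜ[A] i.2
  rw [← hx0] at hx ⊢
  have hinj : Function.Injective (Algebra.TensorProduct.map (AlgHom.id A A') B0.val) :=
    Module.Flat.lTensor_preserves_injective_linearMap (M := A') B0.val.toLinearMap Subtype.val_injective
  have hn0 : IsNilpotent x0 := (IsNilpotent.map_iff hinj).mp hx
  have hinjδ := Module.Flat.lTensor_preserves_injective_linearMap (M := A') δ.toLinearMap hδ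
  suffices x0 = 0 by rw [this, map_zero]
  apply hinjδ
  rw [map_zero]
  apply (TensorProduct.piRight A A A' fun P : Ps => FractionRing (B0 ⧸ (P : Ideal B0))).injective
  rw [map_zero]
  funext P
  haveI := hred (FractionRing (B0 ⧸ (P : Ideal B0)))
  let φ := (Pi.evalAlgHom A (fun P : Ps => FractionRing (B0 ⧸ (P : Ideal B0))) P).comp δ
  have h2 : ∀ z : A' ⊗[A] B0, TensorProduct.piRight A A A' (fun P : Ps => FractionRing (B0 ⧸ (P : Ideal B0)))
      (δ.toLinearMap.lTensor A' z) P = Algebra.TensorProduct.map (AlgHom.id A A') φ z := by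
    intro z
    induction z using TensorProduct.induction_on with
    | zero => simp
    | tmul a l => simp [φ]
    | add z w hz hw => rw [map_add, map_add, Pi.add_apply, hz, hw, map_add]
  rw [Pi.zero_apply, h2]
  exact IsReduced.eq_zero _ (hn0.map _)

-- Integral closure commutes with flat base change with reduced fibres.
set_option maxHeartbeats 3200000 in
theorem mem_range_integralClosure {A A' B : Type u} [CommRing A] [IsNoetherianRing A] [CommRing A'] [CommRing B]
    [Algebra A A'] [Algebra A B] [Module.Flat A A'] (hred : RedFibres A A') (x : A' ⊗[A] B) (hx : IsIntegral A' x) :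
    x ∈ Set.range (Algebra.TensorProduct.map (AlgHom.id A' A') (integralClosure A B).val) := by
  classical
  obtain ⟨S, rfl⟩ := TensorProduct.exists_finset x
  let B0 := Algebra.adjoin A (↑(S.image Prod.snd) : Set B)
  haveI : Algebra.FiniteType A B0 := (Subalgebra.fg_iff_finiteType _).mp (Subalgebra.fg_adjoin_finset _)
  haveI : IsNoetherianRing B0 := Algebra.FiniteType.isNoetherianRing A B0
  let x0 : A' ⊗[A] B0 := ∑ i ∈ S.attach, i.1.1 ⊗ₜ[A]
    (⟨i.1.2, Algebra.subset_adjoin (Finset.mem_image_of_mem _ i.2)⟩ : B0)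
  let ι0 : A' ⊗[A] B0 →ₐ[A'] A' ⊗[A] B := Algebra.TensorProduct.map (AlgHom.id A' A') B0.val
  have hinj : Function.Injective ι0 :=
    Module.Flat.lTensor_preserves_injective_linearMap (M := A') B0.val.toLinearMap Subtype.val_injective
  have hx0eq : ι0 x0 = ∑ i ∈ S, i.1 ⊗ₜ[A] i.2 := by
    rw [map_sum]; exact S.sum_attach fun i => i.1 ⊗ₜ[A] i.2
  rw [← hx0eq] at hx ⊢
  have hx0 : IsIntegral A' x0 := (isIntegral_algHom_iff _ hinj).mp hx
  let Ps := (minimalPrimes.finite_of_isNoetherianRing B0).toFinset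
  haveI : ∀ P : Ps, (P : Ideal B0).IsPrime := fun P => Ideal.minimalPrimes_isPrime ((Set.Finite.mem_toFinset _).mp P.2)
  let K := fun P : Ps => FractionRing (B0 ⧸ (P : Ideal B0))
  let φ : ∀ P : Ps, B0 →ₐ[A] K P := fun P =>
    (IsScalarTower.toAlgHom A (B0 ⧸ (P : Ideal B0)) _).comp (Ideal.Quotient.mkₐ A _)
  let δ : B0 →ₐ[A] (∀ P : Ps, K P) := AlgHom.pi φ
  let Q := fun P : Ps => K P ⧸ Subalgebra.toSubmodule (integralClosure A (K P))
  let ρ : B0 →ₗ[A] ∀ P : Ps, Q P :=
    LinearMap.pi fun P => (Subalgebra.toSubmodule (integralClosure A (K P))).mkQ.comp (φ P).toLinearMap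
  have hker : Function.Exact (Subalgebra.toSubmodule (integralClosure A B0)).subtype ρ := by
    intro b
    refine ⟨fun hb => ⟨⟨b, ?_⟩, rfl⟩, ?_⟩
    · have hb' : ∀ P : Ps, IsIntegral A (φ P b) := fun P => (Submodule.Quotient.mk_eq_zero _).mp (congrFun hb P)
      obtain ⟨f, hf, hfb⟩ : ∃ f : Polynomial A, f.Monic ∧ ∀ P, Polynomial.aeval (φ P b) f = 0 := by
        choose g hg hgb using fun P => hb' P
        refine ⟨∏ P, g P, Polynomial.monic_prod_of_monic _ _ fun P _ => hg P, fun P => ?_⟩
        rw [map_prod]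
        exact Finset.prod_eq_zero (Finset.mem_univ P) (hgb P)
      have hnil : IsNilpotent (Polynomial.aeval b f) := by
        rw [← mem_nilradical, nilradical, ← Ideal.sInf_minimalPrimes]
        refine Submodule.mem_sInf.mpr fun P hP => Ideal.Quotient.eq_zero_iff_mem.mp ?_
        haveI := Ideal.minimalPrimes_isPrime hP
        refine IsFractionRing.injective (B0 ⧸ P) (FractionRing (B0 ⧸ P)) ?_
        rw [map_zero]
        have := hfb ⟨P, (Set.Finite.mem_toFinset _).mpr hP⟩
        rwa [Polynomial.aeval_algHom_apply] at this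
      obtain ⟨k, hk⟩ := hnil
      exact ⟨f ^ k, hf.pow k, by rw [← Polynomial.aeval_def, map_pow, hk]⟩
    · rintro ⟨z, rfl⟩
      funext P
      exact (Submodule.Quotient.mk_eq_zero _).mpr (z.2.map (φ P))
  have hρ0 : ρ.lTensor A' x0 = 0 := by
    refine lTensor_pi_eq_zero _ x0 fun P => ?_
    obtain ⟨c, hc⟩ := mem_range_integralClosure_field hred _ (hx0.map (Algebra.TensorProduct.map (AlgHom.id A' A') (φ P)))
    have h2 : ∀ z : A' ⊗[A] B0, ((Subalgebra.toSubmodule (integralClosure A (K P))).mkQ.comp (φ P).toLinearMap).lTensor A' z =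
        (Subalgebra.toSubmodule (integralClosure A (K P))).mkQ.lTensor A'
          (Algebra.TensorProduct.map (AlgHom.id A' A') (φ P) z) := by
      intro z
      rw [LinearMap.lTensor_comp_apply]
      rfl
    rw [h2, ← hc]
    clear hc
    induction c using TensorProduct.induction_on with
    | zero => simp
    | tmul a v =>
      rw [Algebra.TensorProduct.map_tmul, LinearMap.lTensor_tmul, Submodule.mkQ_apply,
        (Submodule.Quotient.mk_eq_zero _).mpr (show (integralClosure A (K P)).val v ∈ Subalgebra.toSubmodule (integralClosure A (K P)) from v.2),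
        TensorProduct.tmul_zero]
    | add y w hy hw => rw [map_add, map_add, hy, hw, add_zero]
  obtain ⟨c, hc⟩ := ((Module.Flat.lTensor_exact A' hker) x0).mp hρ0
  let κ : integralClosure A B0 →ₐ[A] integralClosure A B :=
    (B0.val.comp (integralClosure A B0).val).codRestrict _ fun z => z.2.map B0.val
  refine ⟨Algebra.TensorProduct.map (AlgHom.id A' A') κ c, ?_⟩
  rw [← hc]
  clear hc
  induction c using TensorProduct.induction_on with
  | zero => simp
  | tmul a v => simp [κ, ι0]
  | add y w hy hw => simp only [map_add, hy, hw]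

end Groth.Agent.H05EGA4
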