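import Mathlib
import Groth.Agent.H05EGA4.GRSHom
import Groth.Agent.H05EGA4.RegHomFS
import Groth.Agent.H05EGA4.NormalUnion
import Groth.Agent.H05EGA4.TensorIntClosed

/-!
# Normality of tensor products, no finiteness on the second factor (helper5)
-/

set_option autoImplicit false
set_option linter.style.haveILetI false
set_option linter.unusedSectionVars false
set_option linter.deprecated false
set_option maxHeartbeats 800000
set_option synthInstance.maxHeartbeats 200000
universe u v
open TensorProduct Groth.Agent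

namespace Groth.Agent.H05EGA4

/-- A localisation of a normal ring is normal. -/
theorem isNormalRing_of_isLocalization {R S : Type u} [CommRing R] [CommRing S] [Algebra R S] (M : Submonoid R)
    [IsLocalization M S] (h : EGA4.IsNormalRing R) : EGA4.IsNormalRing S := by
  intro q _
  haveI := IsLocalization.isLocalization_isLocalization_atPrime_isLocalization M (Localization.AtPrime q) q
  let e := IsLocalization.algEquiv (q.comap (algebraMap R S)).primeCompl
    (Localization.AtPrime (q.comap (algebraMap R S))) (Localization.AtPrime q)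
  obtain ⟨h1, h2⟩ := h (q.comap (algebraMap R S))
  exact ⟨e.symm.toMulEquiv.isDomain _, IsIntegrallyClosed.of_equiv e.toRingEquiv⟩

theorem isNormalRing_of_ringEquiv {R R' : Type u} [CommRing R] [CommRing R'] (e : R ≃+* R')
    (h : EGA4.IsNormalRing R) : EGA4.IsNormalRing R' := by
  intro p _
  obtain ⟨h1, h2⟩ := h (p.comap e.toRingHom)
  let ψ := IsLocalization.ringEquivOfRingEquiv (M := (p.comap e.toRingHom).primeCompl) (T := p.primeCompl)
    (Localization.AtPrime (p.comap e.toRingHom)) (Localization.AtPrime p) e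
    (by ext y
        simp only [Submonoid.mem_map, Ideal.mem_primeCompl_iff, Ideal.mem_comap]
        exact ⟨by rintro ⟨x, hx, rfl⟩; exact hx,
          fun hy => ⟨e.symm y, by simpa using hy, by simp⟩⟩)
  exact ⟨ψ.symm.toMulEquiv.isDomain _, IsIntegrallyClosed.of_equiv ψ⟩

/-- Normality at a prime only depends on a localisation. -/
theorem normal_atPrime_of_isLocalization {R S : Type u} [CommRing R] [CommRing S] [Algebra R S] (M : Submonoid R)
    [IsLocalization M S] (h : EGA4.IsNormalRing S) (Q : Ideal R) [hQ : Q.IsPrime] (hdisj : ∀ m ∈ M, m ∉ Q) :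
    IsDomain (Localization.AtPrime Q) ∧ IsIntegrallyClosed (Localization.AtPrime Q) := by
  have hd : Disjoint (M : Set R) (Q : Set R) := Set.disjoint_left.mpr hdisj
  haveI := IsLocalization.isPrime_of_isPrime_disjoint M S Q hQ hd
  haveI := IsLocalization.isLocalization_isLocalization_atPrime_isLocalization M (Localization.AtPrime (Q.map (algebraMap R S))) (Q.map (algebraMap R S))
  have hc : (Q.map (algebraMap R S)).comap (algebraMap R S) = Q :=
    IsLocalization.comap_map_of_isPrime_disjoint M S hQ hd
  obtain ⟨h1, h2⟩ := h (Q.map (algebraMap R S))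
  haveI : IsLocalization Q.primeCompl (Localization.AtPrime (Q.map (algebraMap R S))) := by
    convert (inferInstance : IsLocalization.AtPrime (Localization.AtPrime (Q.map (algebraMap R S)))
      ((Q.map (algebraMap R S)).comap (algebraMap R S))) using 3
    rw [hc]
  let e := IsLocalization.algEquiv Q.primeCompl (Localization.AtPrime Q) (Localization.AtPrime (Q.map (algebraMap R S)))
  exact ⟨e.toMulEquiv.isDomain _, IsIntegrallyClosed.of_equiv e.symm.toRingEquiv⟩

/-- Splitting idempotents pass to integrally closed subrings. -/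
theorem HasSplittingIdempotents.of_integrallyClosed_in {R S : Type u} [CommRing R] [CommRing S] [Algebra R S]
    (hinj : Function.Injective (algebraMap R S)) (hic : ∀ x : S, IsIntegral R x → x ∈ Set.range (algebraMap R S))
    (hSI : HasSplittingIdempotents S) : HasSplittingIdempotents R := by
  intro a b hab
  obtain ⟨e, he, hea, heb⟩ := hSI (algebraMap R S a) (algebraMap R S b) (by rw [← map_mul, hab, map_zero])
  obtain ⟨e', rfl⟩ := hic e ⟨Polynomial.X ^ 2 - Polynomial.X,
    Polynomial.monic_X_pow_sub (Polynomial.degree_X_le.trans_lt (by norm_num)), by simp [sq, he]⟩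
  exact ⟨e', hinj (by rw [map_mul, he]), hinj (by rw [map_mul, hea]), hinj (by rw [map_mul, heb, map_zero])⟩

theorem HasSplittingIdempotents.of_ringEquiv {R R' : Type u} [CommRing R] [CommRing R'] (e : R ≃+* R')
    (h : HasSplittingIdempotents R) : HasSplittingIdempotents R' := by
  intro a b hab
  obtain ⟨d, h1, h2, h3⟩ := h (e.symm a) (e.symm b) (by rw [← map_mul, hab, map_zero])
  exact ⟨e d, by rw [← map_mul, h1], by simpa using congrArg e h2, by simpa using congrArg e h3⟩

/-- Finitely many tensors come from a finitely generated subalgebra. -/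
theorem exists_fg_subalgebra_finset {A A' B : Type u} [CommRing A] [CommRing A'] [CommRing B] [Algebra A A']
    [Algebra A B] (Fs : Finset (A' ⊗[A] B)) : ∃ B0 : Subalgebra A B, B0.FG ∧
      (Fs : Set (A' ⊗[A] B)) ⊆ Set.range (Algebra.TensorProduct.map (AlgHom.id A A') B0.val) := by
  classical
  choose S hS using fun x : A' ⊗[A] B => TensorProduct.exists_finset x
  refine ⟨Algebra.adjoin A ↑((Fs.biUnion S).image Prod.snd), Subalgebra.fg_adjoin_finset _, fun x hx => ?_⟩
  refine ⟨∑ i ∈ (S x).attach, i.1.1 ⊗ₜ[A] (⟨i.1.2, Algebra.subset_adjoin (Finset.mem_coe.mpr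
    (Finset.mem_image_of_mem _ (Finset.mem_biUnion.mpr ⟨x, hx, i.2⟩)))⟩ : Algebra.adjoin A _), ?_⟩
  rw [map_sum]
  conv_rhs => rw [hS x]
  exact (Finset.sum_congr rfl fun i _ => Algebra.TensorProduct.map_tmul _ _ _ _).trans
    ((S x).sum_attach fun i => i.1 ⊗ₜ[A] i.2)

theorem tensorProductMap_injective {A A' B C : Type u} [CommRing A] [CommRing A'] [CommRing B] [CommRing C] [Algebra A A']
    [Algebra A B] [Algebra A C] [Module.Flat A A'] (φ : B →ₐ[A] C) (hφ : Function.Injective φ) :
    Function.Injective (Algebra.TensorProduct.map (AlgHom.id A A') φ) :=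
  Module.Flat.lTensor_preserves_injective_linearMap (M := A') φ.toLinearMap hφ

/-- Finitely many tensors with a field come from an essentially finite type subfield. -/
theorem exists_eft_field_finset {A A' L : Type u} [CommRing A] [CommRing A'] [Field L] [Algebra A A'] [Algebra A L]
    (Fs : Finset (A' ⊗[A] L)) : ∃ (F : Type u) (_ : Field F) (_ : Algebra A F), Algebra.EssFiniteType A F ∧
      ∃ φ : F →ₐ[A] L, Function.Injective φ ∧
        (Fs : Set (A' ⊗[A] L)) ⊆ Set.range (Algebra.TensorProduct.map (AlgHom.id A A') φ) := by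
  obtain ⟨B0, hB0, hFs⟩ := exists_fg_subalgebra_finset Fs
  haveI : Algebra.FiniteType A B0 := (Subalgebra.fg_iff_finiteType _).mp hB0
  haveI : Algebra.EssFiniteType B0 (FractionRing B0) :=
    Algebra.EssFiniteType.of_isLocalization _ (nonZeroDivisors B0)
  let φ : FractionRing B0 →ₐ[A] L := IsFractionRing.liftAlgHom (g := B0.val) Subtype.val_injective
  refine ⟨FractionRing B0, inferInstance, inferInstance, Algebra.EssFiniteType.comp A B0 _, φ,
    φ.toRingHom.injective, fun x hx => ?_⟩
  obtain ⟨y, rfl⟩ := hFs hx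
  refine ⟨Algebra.TensorProduct.map (AlgHom.id A A') (IsScalarTower.toAlgHom A B0 (FractionRing B0)) y, ?_⟩
  clear hx
  induction y using TensorProduct.induction_on with
  | zero => simp
  | tmul a b => simp [φ]
  | add z w hz hw => rw [map_add, map_add, map_add, hz, hw]

/-- Homomorphisms with geometrically reduced fibres. -/
theorem redFibres_of_grsHom {A A' : Type u} [CommRing A] [CommRing A'] [IsNoetherianRing A'] [Algebra A A']
    {r n : WithBot ℕ∞} (hr : 0 ≤ r) (hn : 1 ≤ n) (h : GRSHom r n A A') : RedFibres A A' := by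
  intro L _ _
  haveI := h.1
  refine ⟨fun x hx => ?_⟩
  obtain ⟨F, _, _, hF, φ, hφ, hsub⟩ := exists_eft_field_finset {x}
  obtain ⟨x0, rfl⟩ := hsub (by simp : x ∈ _)
  haveI : IsNoetherianRing (F ⊗[A] A') := H02CA.isNoetherianRing_tensor_of_essFiniteType _ _ _
  haveI : IsReduced (F ⊗[A] A') := isReduced_iff_rs.mpr ((h.tensor_field F (.inl hF)).mono hr hn)
  haveI : IsReduced (A' ⊗[A] F) :=
    isReduced_of_injective (Algebra.TensorProduct.comm A A' F).toRingHom (Algebra.TensorProduct.comm A A' F).injective
  rw [((IsNilpotent.map_iff (tensorProductMap_injective φ hφ)).mp hx).eq_zero, map_zero]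

/-- Base change of a field along a homomorphism with geometrically normal fibres. -/
theorem isNormalRing_tensor_field_of_grsHom {A A' : Type u} [CommRing A] [CommRing A'] [IsNoetherianRing A']
    [Algebra A A'] (h : GRSHom 1 2 A A') (L : Type u) [Field L] [Algebra A L] :
    EGA4.IsNormalRing (A' ⊗[A] L) ∧ HasSplittingIdempotents (A' ⊗[A] L) := by
  haveI := h.1
  have key : ∀ Fs : Finset (A' ⊗[A] L), ∃ (S0 : Type u) (_ : CommRing S0) (φ : S0 →+* A' ⊗[A] L),
      Function.Injective φ ∧ (EGA4.IsNormalRing S0 ∧ HasSplittingIdempotents S0) ∧ (Fs : Set _) ⊆ Set.range φ := by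
    intro Fs
    obtain ⟨F, _, _, hF, φ, hφ, hsub⟩ := exists_eft_field_finset Fs
    haveI : IsNoetherianRing (F ⊗[A] A') := H02CA.isNoetherianRing_tensor_of_essFiniteType _ _ _
    let e := (Algebra.TensorProduct.comm A F A').toRingEquiv
    haveI : IsNoetherianRing (A' ⊗[A] F) := isNoetherianRing_of_ringEquiv _ e
    have hn : EGA4.IsNormalRing (A' ⊗[A] F) :=
      isNormalRing_of_ringEquiv e (isNormalRing_iff_rs.mpr (h.tensor_field F (.inl hF)))
    exact ⟨_, inferInstance, (Algebra.TensorProduct.map (AlgHom.id A A') φ).toRingHom,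
      tensorProductMap_injective φ hφ, ⟨hn, hasSplittingIdempotents_of_isNoetherianRing hn⟩, hsub⟩
  refine ⟨isNormalRing_of_cover fun Fs => ?_, hasSplittingIdempotents_of_cover fun Fs => ?_⟩
  · obtain ⟨S0, _, φ, h1, h2, h3⟩ := key Fs
    exact ⟨S0, _, φ, h1, h2.1, h3⟩
  · obtain ⟨S0, _, φ, h1, h2, h3⟩ := key Fs
    exact ⟨S0, _, φ, h1, h2.2, h3⟩

/-- A change of base in a tensor product. -/
theorem exists_rebase_equiv (A A' B0 K : Type u) [CommRing A] [CommRing A'] [CommRing B0] [CommRing K] [Algebra A A']
    [Algebra A B0] [Algebra A K] [Algebra B0 K] [IsScalarTower A B0 K] :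
    ∃ e : (B0 ⊗[A] A') ⊗[B0] K ≃+* A' ⊗[A] K,
      ∀ (b : B0) (a : A') (k : K), e ((b ⊗ₜ a) ⊗ₜ k) = a ⊗ₜ (b • k) := by
  refine ⟨(Algebra.TensorProduct.comm B0 (B0 ⊗[A] A') K).toRingEquiv.trans
    ((Algebra.TensorProduct.cancelBaseChange A B0 B0 K A').toRingEquiv.trans
      (Algebra.TensorProduct.comm A K A').toRingEquiv), fun b a k => ?_⟩
  simp

theorem RedFibres.baseChange {A A' B0 : Type u} [CommRing A] [CommRing A'] [CommRing B0] [Algebra A A']
    [Algebra A B0] (h : RedFibres A A') : RedFibres B0 (B0 ⊗[A] A') := by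
  intro L _ _
  letI : Algebra A L := ((algebraMap B0 L).comp (algebraMap A B0)).toAlgebra
  haveI : IsScalarTower A B0 L := .of_algebraMap_eq fun _ => rfl
  obtain ⟨e, -⟩ := exists_rebase_equiv A A' B0 L
  haveI := h L
  exact isReduced_of_injective e.toRingHom e.injective

theorem isIntegral_map_of_square {R0 R T U V : Type u} [CommRing R0] [CommRing R] [CommRing T] [CommRing U] [CommRing V]
    [Algebra R V] (c : R0 →+* R) (ι : R0 →+* T) (φ : T →+* U) (ψ : U →+* V)
    (h : ∀ z, algebraMap R V (c z) = ψ (φ (ι z))) (q : Polynomial R0) (hq : q.Monic) (x : U)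
    (hx : Polynomial.eval₂ φ x (q.map ι) = 0) : IsIntegral R (ψ x) := by
  refine ⟨q.map c, hq.map c, ?_⟩
  have hc : (algebraMap R V).comp c = ψ.comp (φ.comp ι) := RingHom.ext h
  rw [Polynomial.eval₂_map, hc, ← Polynomial.hom_eval₂, ← Polynomial.eval₂_map, hx, map_zero]

/-- An element of `A' ⊗ K` integral over `A' ⊗ B` lies in `A' ⊗ B`, for `B` integrally closed with fraction
field `K`. -/
theorem mem_range_of_isIntegral_tensor {A A' B K : Type u} [CommRing A] [IsNoetherianRing A] [CommRing A']
    [CommRing B] [IsDomain B] [IsIntegrallyClosed B] [Field K] [Algebra A A'] [Algebra A B] [Algebra A K]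
    [Algebra B K] [IsScalarTower A B K] [IsFractionRing B K] [Module.Flat A A'] (hred : RedFibres A A')
    (x : A' ⊗[A] K)
    (hx : (Algebra.TensorProduct.map (AlgHom.id A A') (IsScalarTower.toAlgHom A B K)).toRingHom.IsIntegralElem x) :
    x ∈ Set.range (Algebra.TensorProduct.map (AlgHom.id A A') (IsScalarTower.toAlgHom A B K)) := by
  classical
  obtain ⟨p, hp, hpx⟩ := hx
  obtain ⟨B0, hB0, hsub⟩ := exists_fg_subalgebra_finset ((Finset.range (p.natDegree + 1)).image p.coeff)
  haveI : Algebra.FiniteType A B0 := (Subalgebra.fg_iff_finiteType _).mp hB0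
  haveI : IsNoetherianRing B0 := Algebra.FiniteType.isNoetherianRing A B0
  let ι0 := Algebra.TensorProduct.map (AlgHom.id A A') B0.val
  have hlift : p ∈ Polynomial.lifts ι0.toRingHom := by
    rw [Polynomial.lifts_iff_coeff_lifts]
    intro i
    rcases lt_or_ge i (p.natDegree + 1) with hi | hi
    · exact hsub (Finset.mem_coe.mpr (Finset.mem_image_of_mem _ (Finset.mem_range.mpr hi)))
    · exact ⟨0, by rw [map_zero, Polynomial.coeff_eq_zero_of_natDegree_lt (by omega)]⟩
  obtain ⟨q, hq, -, hqm⟩ := Polynomial.lifts_and_natDegree_eq_and_monic hlift hp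
  obtain ⟨e, he⟩ := exists_rebase_equiv A A' B0 K
  have hx' : IsIntegral (B0 ⊗[A] A') (e.symm x) := by
    refine isIntegral_map_of_square (Algebra.TensorProduct.comm A A' B0).toRingHom ι0.toRingHom
      (Algebra.TensorProduct.map (AlgHom.id A A') (IsScalarTower.toAlgHom A B K)).toRingHom e.symm.toRingHom
      (fun z => ?_) q hqm x (by rw [hq]; exact hpx)
    induction z using TensorProduct.induction_on with
    | zero => simp
    | tmul a b =>
      apply e.injective
      simp [ι0, Algebra.TensorProduct.algebraMap_apply, he, Algebra.smul_def]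
      rfl
    | add z w hz hw => simp only [map_add, hz, hw]
  obtain ⟨c, hc⟩ := mem_range_integralClosure_field (A := B0) (RedFibres.baseChange hred) _ hx'
  have hkey : ∀ c, e (Algebra.TensorProduct.map (AlgHom.id (B0 ⊗[A] A') (B0 ⊗[A] A')) (integralClosure B0 K).val c) ∈
      (Algebra.TensorProduct.map (AlgHom.id A A') (IsScalarTower.toAlgHom A B K)).range := by
    intro c
    induction c using TensorProduct.induction_on with
    | zero => rw [map_zero, map_zero]; exact zero_mem _
    | add z w hz hw => rw [map_add, map_add]; exact add_mem hz hw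
    | tmul y z =>
      induction y using TensorProduct.induction_on with
      | zero => rw [TensorProduct.zero_tmul, map_zero, map_zero]; exact zero_mem _
      | add y w hy hw => rw [TensorProduct.add_tmul, map_add, map_add]; exact add_mem hy hw
      | tmul b a =>
        obtain ⟨b', hb'⟩ := IsIntegrallyClosed.isIntegral_iff.mp (show IsIntegral B (z : K) from z.2.tower_top)
        refine ⟨a ⊗ₜ ((b : B) * b'), ?_⟩
        show _ = e ((b ⊗ₜ[A] a) ⊗ₜ[B0] (z : K))
        rw [he, AlgHom.toRingHom_eq_coe, RingHom.coe_coe, Algebra.TensorProduct.map_tmul, AlgHom.id_apply,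
          IsScalarTower.coe_toAlgHom', map_mul, hb', Algebra.smul_def]
        rfl
  obtain ⟨y, hy⟩ := hkey c
  exact ⟨y, hy.trans (by rw [hc]; exact e.apply_symm_apply x)⟩

/-- `A' ⊗ B` for `B` a normal domain. -/
theorem isNormalRing_tensor_of_isIntegrallyClosed {A A' B K : Type u} [CommRing A] [IsNoetherianRing A] [CommRing A']
    [CommRing B] [IsDomain B] [IsIntegrallyClosed B] [Field K] [Algebra A A'] [Algebra A B] [Algebra A K]
    [Algebra B K] [IsScalarTower A B K] [IsFractionRing B K] [Module.Flat A A'] (hred : RedFibres A A')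
    (hK : EGA4.IsNormalRing (A' ⊗[A] K) ∧ HasSplittingIdempotents (A' ⊗[A] K)) :
    EGA4.IsNormalRing (A' ⊗[A] B) ∧ HasSplittingIdempotents (A' ⊗[A] B) := by
  letI := (Algebra.TensorProduct.map (AlgHom.id A A') (IsScalarTower.toAlgHom A B K)).toRingHom.toAlgebra
  haveI := isLocalization_tensor_right A B K A' (nonZeroDivisors B)
  have hinj : Function.Injective (algebraMap (A' ⊗[A] B) (A' ⊗[A] K)) :=
    tensorProductMap_injective _ (IsFractionRing.injective B K)
  have hic : ∀ x : A' ⊗[A] K, IsIntegral (A' ⊗[A] B) x → x ∈ Set.range (algebraMap (A' ⊗[A] B) (A' ⊗[A] K)) :=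
    fun x hx => mem_range_of_isIntegral_tensor hred x hx
  exact ⟨isNormalRing_of_integrallyClosed_in ((nonZeroDivisors B).map
    (Algebra.TensorProduct.includeRight : B →ₐ[A] A' ⊗[A] B).toRingHom) hinj hic hK.1 hK.2,
    .of_integrallyClosed_in hinj hic hK.2⟩

/-- `A' ⊗ B` is normal for `B` normal when all `A' ⊗ K` are normal with splitting idempotents. -/
theorem isNormalRing_tensor_of_fields {A A' B : Type u} [CommRing A] [IsNoetherianRing A] [CommRing A'] [CommRing B]
    [Algebra A A'] [Algebra A B] [Module.Flat A A'] (hred : RedFibres A A')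
    (hK : ∀ (K : Type u) [Field K] [Algebra A K],
      EGA4.IsNormalRing (A' ⊗[A] K) ∧ HasSplittingIdempotents (A' ⊗[A] K))
    (hB : EGA4.IsNormalRing B) : EGA4.IsNormalRing (A' ⊗[A] B) := by
  intro Q _
  let P := Q.comap (Algebra.TensorProduct.includeRight : B →ₐ[A] A' ⊗[A] B).toRingHom
  obtain ⟨h1, h2⟩ := hB P
  letI := (Algebra.TensorProduct.map (AlgHom.id A A')
    (IsScalarTower.toAlgHom A B (Localization.AtPrime P))).toRingHom.toAlgebra
  haveI := isLocalization_tensor_right A B (Localization.AtPrime P) A' P.primeCompl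
  refine normal_atPrime_of_isLocalization (P.primeCompl.map
    (Algebra.TensorProduct.includeRight : B →ₐ[A] A' ⊗[A] B).toRingHom)
    (isNormalRing_tensor_of_isIntegrallyClosed (B := Localization.AtPrime P) (K := FractionRing (Localization.AtPrime P))
      hred (hK _)).1 Q ?_
  rintro _ ⟨b, hb, rfl⟩ hmem
  exact hb hmem

/-- Over a field, a geometrically reduced extension has geometrically normal fibre. -/
theorem grsHom_of_isGeometricallyReduced (k k' : Type u) [Field k] [Field k'] [Algebra k k']
    [Algebra.IsGeometricallyReduced k k'] : GRSHom 1 2 k k' := by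
  refine grsHom_of_grs (isGeomNormal_iff_grs.mp fun L _ _ hfin => ?_)
  haveI : IsNoetherianRing (L ⊗[k] k') := H02CA.isNoetherianRing_tensor_of_essFiniteType _ _ _
  haveI : IsReduced (L ⊗[k] k') :=
    isReduced_iff_rs.mpr ((isGeometricallyReduced_iff_grs.mp inferInstance) L hfin)
  haveI : Module.Finite k' (k' ⊗[k] L) := inferInstance
  haveI : IsArtinianRing (k' ⊗[k] L) := IsArtinianRing.of_finite k' _
  haveI : IsArtinianRing (L ⊗[k] k') := (Algebra.TensorProduct.comm k k' L).toRingEquiv.surjective.isArtinianRing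
    (f := (Algebra.TensorProduct.comm k k' L).toRingHom)
  intro p _
  haveI : IsReduced (Localization.AtPrime p) := inferInstance
  haveI : IsArtinianRing (Localization.AtPrime p) := inferInstance
  letI := (IsArtinianRing.isField_of_isReduced_of_isLocalRing (Localization.AtPrime p)).toField
  exact ⟨inferInstance, inferInstance⟩

/-- Intersection of `K ⊗ B` and `A ⊗ L` in `K ⊗ L` over a field. -/
theorem mem_range_of_mem_range_tensor {k B K C L : Type u} [Field k] [CommRing B] [CommRing K] [CommRing C]
    [CommRing L] [Algebra k B] [Algebra k K] [Algebra k C] [Algebra k L] (f : B →ₐ[k] K) (hf : Function.Injective f)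
    (g : C →ₐ[k] L) (x : B ⊗[k] L)
    (hx : Algebra.TensorProduct.map f (AlgHom.id k L) x ∈ Set.range (Algebra.TensorProduct.map (AlgHom.id k K) g)) :
    x ∈ Set.range (Algebra.TensorProduct.map (AlgHom.id k B) g) := by
  obtain ⟨y, hy⟩ := hx
  let q := (LinearMap.range g.toLinearMap).mkQ
  have hex : Function.Exact g.toLinearMap q := fun z => by
    rw [Submodule.mkQ_apply, Submodule.Quotient.mk_eq_zero]; rfl
  have h0 : q.lTensor K (Algebra.TensorProduct.map (AlgHom.id k K) g y) = 0 :=
    (lTensor_exact K hex (Submodule.mkQ_surjective _) _).mpr ⟨y, rfl⟩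
  have hsq : ∀ z : B ⊗[k] L, f.toLinearMap.rTensor _ (q.lTensor B z) =
      q.lTensor K (Algebra.TensorProduct.map f (AlgHom.id k L) z) := fun z => by
    induction z using TensorProduct.induction_on with
    | zero => simp
    | tmul a b => simp
    | add z w hz hw => rw [map_add, map_add, map_add, map_add, hz, hw]
  have h1 : q.lTensor B x = 0 :=
    Module.Flat.rTensor_preserves_injective_linearMap (M := L ⧸ LinearMap.range g.toLinearMap) f.toLinearMap hf
      (by rw [hsq, ← hy, h0, map_zero])
  exact (lTensor_exact B hex (Submodule.mkQ_surjective _) x).mp h1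

/-- Tensor products of normal domains with separable fraction fields. -/
theorem isNormalRing_tensor_domains {k A B K L : Type u} [Field k] [CommRing A] [CommRing B] [Field K] [Field L]
    [IsDomain A] [IsDomain B] [IsIntegrallyClosed A] [IsIntegrallyClosed B] [Algebra k A] [Algebra k B] [Algebra k K]
    [Algebra k L] [Algebra A K] [Algebra B L] [IsScalarTower k A K] [IsScalarTower k B L] [IsFractionRing A K]
    [IsFractionRing B L] [Algebra.IsGeometricallyReduced k K] [Algebra.IsGeometricallyReduced k L] :
    EGA4.IsNormalRing (B ⊗[k] A) ∧ HasSplittingIdempotents (B ⊗[k] A) := by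
  have hgK := grsHom_of_isGeometricallyReduced k K
  have hgL := grsHom_of_isGeometricallyReduced k L
  have hredK := redFibres_of_grsHom zero_le_one one_le_two hgK
  have hredL := redFibres_of_grsHom zero_le_one one_le_two hgL
  obtain ⟨hKB, hKB'⟩ := isNormalRing_tensor_of_isIntegrallyClosed (A := k) (A' := K) (B := B) (K := L) hredK
    (isNormalRing_tensor_field_of_grsHom hgK L)
  let e := (Algebra.TensorProduct.comm k K B).toRingEquiv
  let fA := IsScalarTower.toAlgHom k A K
  let fB := IsScalarTower.toAlgHom k B L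
  letI := (Algebra.TensorProduct.map (AlgHom.id k B) fA).toRingHom.toAlgebra
  haveI := isLocalization_tensor_right k A K B (nonZeroDivisors A)
  have hinj : Function.Injective (algebraMap (B ⊗[k] A) (B ⊗[k] K)) :=
    tensorProductMap_injective _ (IsFractionRing.injective A K)
  have hic : ∀ x : B ⊗[k] K, IsIntegral (B ⊗[k] A) x → x ∈ Set.range (algebraMap (B ⊗[k] A) (B ⊗[k] K)) := by
    rintro x ⟨p, hp, hpx⟩
    refine mem_range_of_mem_range_tensor fB (IsFractionRing.injective B L) fA x
      (mem_range_of_isIntegral_tensor (A := k) (A' := L) (B := A) (K := K) hredL _ ?_)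
    refine ⟨p.map (Algebra.TensorProduct.map fB (AlgHom.id k A)).toRingHom, hp.map _, ?_⟩
    have hcomp : ((Algebra.TensorProduct.map (AlgHom.id k L) fA).toRingHom).comp
        (Algebra.TensorProduct.map fB (AlgHom.id k A)).toRingHom =
        (Algebra.TensorProduct.map fB (AlgHom.id k K)).toRingHom.comp (algebraMap (B ⊗[k] A) (B ⊗[k] K)) := by
      refine RingHom.ext fun z => ?_
      induction z using TensorProduct.induction_on with
      | zero => simp
      | tmul a b => simp [RingHom.algebraMap_toAlgebra]
      | add z w hz hw => rw [map_add, map_add, hz, hw]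
    rw [Polynomial.eval₂_map, hcomp]
    exact (Polynomial.hom_eval₂ _ _ _ _).symm.trans ((congrArg _ hpx).trans (map_zero _))
  exact ⟨isNormalRing_of_integrallyClosed_in ((nonZeroDivisors A).map
    (Algebra.TensorProduct.includeRight : A →ₐ[k] B ⊗[k] A).toRingHom) hinj hic (isNormalRing_of_ringEquiv e hKB)
      (hKB'.of_ringEquiv e), .of_integrallyClosed_in hinj hic (hKB'.of_ringEquiv e)⟩

end Groth.Agent.H05EGA4
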