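import Mathlib.AlgebraicGeometry.Noetherian
import Mathlib.RingTheory.Ideal.KrullsHeightTheorem
import Mathlib.Topology.Sober
import Mathlib.Topology.LocallyClosed

set_option autoImplicit false
universe u
open AlgebraicGeometry CategoryTheory Topology

namespace Groth.Agent.H05EGA4

theorem isMaximal_of_mem_nonzero_primes {B : Type u} [CommRing B] [IsDomain B] [IsNoetherianRing B]
    (f : B) (hf : f ≠ 0) (h : ∀ P : Ideal B, P.IsPrime → P ≠ ⊥ → f ∈ P)
    {q r : Ideal B} [q.IsPrime] [r.IsPrime] (hq : q ≠ ⊥) (hqr : q ≤ r) : q = r := by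
  by_contra hne
  have hlt : q < r := lt_of_le_of_ne hqr hne
  have key : ∀ {s t : Ideal B}, s.IsPrime → t.IsPrime → s ≠ ⊥ → s < t → ¬ t.height ≤ 1 := by
    intro s t hs ht hs0 hst h1
    have e0 : (⊥ : Ideal B).height + 1 ≤ s.height :=
      Ideal.height_add_one_le_of_lt_of_isPrime (bot_lt_iff_ne_bot.2 hs0)
    have e1 : s.height + 1 ≤ t.height := Ideal.height_add_one_le_of_lt_of_isPrime hst
    rw [Ideal.height_bot, zero_add] at e0
    have : (1 : ℕ∞) + 1 ≤ 1 := (add_le_add e0 le_rfl).trans (e1.trans h1)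
    exact absurd this (by decide)
  have hS : (Ideal.span {f}).minimalPrimes.Finite := Ideal.finite_minimalPrimes_of_isNoetherianRing B _
  have hS1 : ∀ s ∈ (Ideal.span {f}).minimalPrimes, s.height ≤ 1 := fun s hs =>
    haveI : (Ideal.span {f}).IsPrincipal := ⟨⟨f, rfl⟩⟩
    Ideal.height_le_one_of_isPrincipal_of_mem_minimalPrimes _ _ hs
  have hr : ¬ (r : Set B) ⊆ ⋃ s ∈ (Ideal.span {f}).minimalPrimes, (s : Set B) := by
    intro hsub
    have := (Ideal.subset_union_prime_finite hS ⊥ ⊥ (fun s hs _ _ => hs.1.1)).1 hsub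
    obtain ⟨s, hs, hrs⟩ := this
    exact key inferInstance hs.1.1 hq (hlt.trans_le hrs) (hS1 s hs)
  obtain ⟨g, hgr, hg⟩ := Set.not_subset.1 hr
  simp only [Set.mem_iUnion, SetLike.mem_coe, not_exists] at hg
  obtain ⟨t, ht, htr⟩ := Ideal.exists_minimalPrimes_le (I := Ideal.span {g}) (J := r)
    ((Ideal.span_singleton_le_iff_mem _).2 hgr)
  have htp := ht.1.1
  have hgt : g ∈ t := (Ideal.span_singleton_le_iff_mem _).1 ht.1.2
  have ht1 : t.height ≤ 1 :=
    haveI : (Ideal.span {g}).IsPrincipal := ⟨⟨g, rfl⟩⟩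
    Ideal.height_le_one_of_isPrincipal_of_mem_minimalPrimes _ _ ht
  by_cases ht0 : t = ⊥
  · rw [ht0, Ideal.mem_bot] at hgt
    subst hgt
    obtain ⟨s, hs, -⟩ := Ideal.exists_minimalPrimes_le (I := Ideal.span {f}) (J := r)
      ((Ideal.span_singleton_le_iff_mem _).2 (h r inferInstance (ne_bot_of_gt hlt)))
    exact hg s hs (zero_mem _)
  · obtain ⟨s, hs, hst⟩ := Ideal.exists_minimalPrimes_le (I := Ideal.span {f}) (J := t)
      ((Ideal.span_singleton_le_iff_mem _).2 (h t htp ht0))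
    have hs0 : s ≠ ⊥ := fun e => hf (by
      have := hs.1.2 (Ideal.mem_span_singleton_self f)
      rwa [e, Ideal.mem_bot] at this)
    rcases hst.eq_or_lt with e | hlt'
    · exact hg s hs (e ▸ hgt)
    · exact key hs.1.1 htp hs0 hlt' ht1

theorem spec_eq_of_locallyClosed {A : Type u} [CommRing A] [IsNoetherianRing A]
    {a b c : PrimeSpectrum A} (ha : IsLocallyClosed ({a} : Set (PrimeSpectrum A)))
    (hab : a ⤳ b) (hne : b ≠ a) (hbc : b ⤳ c) : b = c := by
  obtain ⟨U, C, hU, hC, e⟩ := ha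
  have ha' : a ∈ U ∩ C := e ▸ rfl
  obtain ⟨_, ⟨f, rfl⟩, haf, hfU⟩ :=
    PrimeSpectrum.isTopologicalBasis_basic_opens.exists_subset_of_mem_open ha'.1 hU
  rw [← PrimeSpectrum.le_iff_specializes] at hab hbc
  let π := Ideal.Quotient.mk a.asIdeal
  have hprime : ∀ {s : Ideal A}, a.asIdeal ≤ s → s.IsPrime → (s.map π).IsPrime := fun hle hs =>
    haveI := hs
    Ideal.map_isPrime_of_surjective Ideal.Quotient.mk_surjective (by rwa [Ideal.mk_ker])
  have hcomap : ∀ {s : Ideal A}, a.asIdeal ≤ s → (s.map π).comap π = s := fun hle => by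
    rw [Ideal.comap_map_of_surjective _ Ideal.Quotient.mk_surjective, ← RingHom.ker_eq_comap_bot,
      Ideal.mk_ker, sup_eq_left.2 hle]
  have := hprime (show a.asIdeal ≤ b.asIdeal from hab) b.2
  have := hprime (show a.asIdeal ≤ c.asIdeal from le_trans hab hbc) c.2
  have key := isMaximal_of_mem_nonzero_primes (π f)
    (fun h => haf (Ideal.Quotient.eq_zero_iff_mem.1 h))
    (fun P hP hP0 => by
      by_contra hfP
      let P' : PrimeSpectrum A := ⟨P.comap π, inferInstance⟩
      have hP' : a ⤳ P' := (PrimeSpectrum.le_iff_specializes _ _).1 (Ideal.le_comap_of_map_le (by simp [π]))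
      have : P' ∈ U ∩ C := ⟨hfU hfP, hP'.mem_closed hC ha'.2⟩
      rw [← e] at this
      refine hP0 ?_
      rw [← Ideal.map_comap_of_surjective _ Ideal.Quotient.mk_surjective P]
      show Ideal.map π P'.asIdeal = ⊥
      rw [this, Ideal.map_quotient_self])
    (q := b.asIdeal.map π) (r := c.asIdeal.map π)
    (fun h => hne (PrimeSpectrum.ext (by
      rw [← hcomap (show a.asIdeal ≤ b.asIdeal from hab), h, ← RingHom.ker_eq_comap_bot, Ideal.mk_ker])))
    (Ideal.map_mono hbc)
  exact PrimeSpectrum.ext (by rw [← hcomap (show a.asIdeal ≤ b.asIdeal from hab), key,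
    hcomap (le_trans hab hbc)])

theorem isClosed_of_specializes_of_locallyClosed (X : Scheme.{u}) [IsLocallyNoetherian X] {x y : X}
    (hx : IsLocallyClosed ({x} : Set X)) (hy : x ⤳ y) (hne : y ≠ x) : IsClosed ({y} : Set X) := by
  rw [← closure_eq_iff_isClosed]
  refine Set.Subset.antisymm (fun z hz => ?_) subset_closure
  have hyz : y ⤳ z := specializes_iff_mem_closure.2 hz
  obtain ⟨_, ⟨V, hV, rfl⟩, hzV, -⟩ := X.isBasis_affineOpens.exists_subset_of_mem_open (Set.mem_univ z) isOpen_univ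
  have hyV : y ∈ V := hyz.mem_open V.2 hzV
  have hxV : x ∈ V := hy.mem_open V.2 hyV
  rw [← hV.range_fromSpec] at hzV
  obtain ⟨c, rfl⟩ := hzV
  obtain ⟨b, rfl⟩ := hV.range_fromSpec.ge hyV
  obtain ⟨a, rfl⟩ := hV.range_fromSpec.ge hxV
  have := hV.isOpenImmersion_fromSpec
  have emb := hV.fromSpec.isOpenEmbedding
  have : IsNoetherianRing Γ(X, V) := IsLocallyNoetherian.component_noetherian ⟨V, hV⟩
  have ha : IsLocallyClosed ({a} : Set (PrimeSpectrum Γ(X, V))) := by
    have := hx.preimage emb.continuous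
    rwa [← Set.image_singleton, emb.injective.preimage_image] at this
  rw [spec_eq_of_locallyClosed ha (emb.isEmbedding.specializes_iff.1 hy) (fun h => hne (by rw [h]))
    (emb.isEmbedding.specializes_iff.1 hyz)]
  rfl

theorem exists_singleton_locallyClosed_of_inter (X : Scheme.{u}) {U C : Set X} (hU : IsOpen U)
    (hC : IsClosed C) (hne : (U ∩ C).Nonempty) :
    ∃ x ∈ U ∩ C, IsLocallyClosed ({x} : Set X) := by
  obtain ⟨x₀, hx₀U, hx₀C⟩ := hne
  obtain ⟨_, ⟨W, hW, rfl⟩, hxW, hWU⟩ := X.isBasis_affineOpens.exists_subset_of_mem_open hx₀U hU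
  have hWc := hW.isCompact
  have : CompactSpace (W : Set X) := isCompact_iff_compactSpace.1 hWc
  obtain ⟨w, hwC, hw⟩ := (hC.preimage continuous_subtype_val : IsClosed ((↑) ⁻¹' C : Set (W : Set X))).exists_closed_singleton
    ⟨⟨x₀, hxW⟩, hx₀C⟩
  refine ⟨w.1, ⟨hWU w.2, hwC⟩, ?_⟩
  have := hw.isLocallyClosed.image W.2.isOpenEmbedding_subtypeVal.isInducing
    (by rw [Subtype.range_coe]; exact W.2.isLocallyClosed)
  rwa [Set.image_singleton] at this

theorem exists_closedPoint (X : Scheme.{u}) [IsLocallyNoetherian X] (Z : Set X) (hZ : IsClosed Z)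
    (hne : Z.Nonempty) : ∃ x ∈ Z, IsClosed ({x} : Set X) := by
  obtain ⟨x, ⟨-, hx⟩, hlc⟩ := exists_singleton_locallyClosed_of_inter X isOpen_univ hZ (by simpa using hne)
  by_cases h : ∀ y, x ⤳ y → y = x
  · refine ⟨x, hx, ?_⟩
    rw [← closure_eq_iff_isClosed]
    exact Set.Subset.antisymm (fun y hy => h y (specializes_iff_mem_closure.2 hy)) subset_closure
  · push Not at h
    obtain ⟨y, hxy, hne⟩ := h
    exact ⟨y, hxy.mem_closed hZ hx, isClosed_of_specializes_of_locallyClosed X hlc hxy hne⟩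

end Groth.Agent.H05EGA4
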