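import Mathlib.AlgebraicGeometry.Noetherian
import Mathlib.AlgebraicGeometry.Morphisms.QuasiCompact
import Mathlib.AlgebraicGeometry.Morphisms.QuasiFinite
import Mathlib.AlgebraicGeometry.PullbackCarrier
import Mathlib.RingTheory.Ideal.MinimalPrime.Localization
import Mathlib.Topology.KrullDimension
import Mathlib.Topology.Sober

set_option autoImplicit false
set_option backward.isDefEq.respectTransparency.types false
universe u
open AlgebraicGeometry CategoryTheory CategoryTheory.Limits Topology TopologicalSpace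

namespace Groth.Agent.H05EGA4

variable {X Y : Type u} [TopologicalSpace X] [TopologicalSpace Y] [QuasiSober X] [T0Space X]
  [QuasiSober Y] [T0Space Y]

omit [T0Space X] [QuasiSober Y] in
theorem dim_le_of_fibre_discrete {f : X → Y} (hf : Continuous f)
    (h : ∀ a b : X, a ⤳ b → f a = f b → a = b) : topologicalKrullDim X ≤ topologicalKrullDim Y := by
  let φ : IrreducibleCloseds X → IrreducibleCloseds Y := fun S =>
    ⟨closure (f '' S), (S.2.image f hf.continuousOn).closure, isClosed_closure⟩
  refine Order.krullDim_le_of_strictMono φ fun S T hST => ?_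
  have hS := S.2.isGenericPoint_genericPoint S.3
  have hT := T.2.isGenericPoint_genericPoint T.3
  have hle : φ S ≤ φ T := closure_mono (Set.image_mono hST.le)
  refine lt_of_le_of_ne hle fun e => hST.ne ?_
  have e' : closure (f '' (S : Set X)) = closure (f '' (T : Set X)) := congrArg (fun Z : IrreducibleCloseds Y => (Z : Set Y)) e
  have ab := h _ _ (hT.specializes (hST.le hS.mem))
    ((hS.image hf).eq (e' ▸ hT.image hf)).symm
  exact IrreducibleCloseds.ext (hS.def.symm.trans (ab ▸ hT.def))

omit [T0Space X] in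
theorem dim_le_of_lift {f : X → Y} (hf : Continuous f) (hs : Function.Surjective f)
    (h : SpecializingMap f ∨ GeneralizingMap f) :
    topologicalKrullDim Y ≤ topologicalKrullDim X := by
  let gX : IrreducibleCloseds X → X := fun S => S.2.genericPoint
  let gY : IrreducibleCloseds Y → Y := fun S => S.2.genericPoint
  have hgY : ∀ S : IrreducibleCloseds Y, IsGenericPoint (gY S) (S : Set Y) := fun S =>
    S.2.isGenericPoint_genericPoint S.3
  let cl : X → IrreducibleCloseds X := fun x => ⟨closure {x}, isIrreducible_singleton.closure, isClosed_closure⟩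
  have hlt : ∀ {a b : X} {A B : IrreducibleCloseds Y}, a ⤳ b → f a = gY A → f b = gY B → B < A → cl b < cl a := by
    intro a b A B hab ha hb hBA
    refine lt_of_le_of_ne (hab.closure_subset) fun e => hBA.ne ?_
    have e' : closure ({b} : Set X) = closure {a} := congrArg (fun Z : IrreducibleCloseds X => (Z : Set X)) e
    have : b ⤳ a := specializes_iff_closure_subset.2 e'.ge
    have : gY B = gY A := by rw [← ha, ← hb]; exact ((this.map hf).antisymm (hab.map hf)).eq
    exact IrreducibleCloseds.ext ((hgY B).def.symm.trans (this ▸ (hgY A).def))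
  refine iSup_le fun l => ?_
  rcases h with h | h
  · suffices H : ∃ L : LTSeries (IrreducibleCloseds X), ∃ a, L.head = cl a ∧ f a = gY l.head ∧ L.length = l.length by
      obtain ⟨L, a, -, -, e⟩ := H; exact le_iSup_of_le L (by rw [e])
    induction l using RelSeries.inductionOn with
    | singleton S =>
      obtain ⟨a, ha⟩ := hs (gY S)
      exact ⟨RelSeries.singleton _ (cl a), a, rfl, ha, rfl⟩
    | cons p S hS ih =>
      obtain ⟨L, a, hL, ha, e⟩ := ih
      have : f a ⤳ gY S := by
        rw [ha]; exact (hgY _).specializes ((show S < p.head from hS).le (hgY S).mem)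
      obtain ⟨b, hab, hb⟩ := h this
      have hlt' : cl b < L.head := by rw [hL]; exact hlt hab ha hb hS
      exact ⟨RelSeries.cons L (cl b) hlt', b, RelSeries.head_cons _ _ _, (congrArg gY (RelSeries.head_cons p S hS)).symm ▸ hb, by simp [RelSeries.cons_length, e]⟩
  · suffices H : ∃ L : LTSeries (IrreducibleCloseds X), ∃ a, L.last = cl a ∧ f a = gY l.last ∧ L.length = l.length by
      obtain ⟨L, a, -, -, e⟩ := H; exact le_iSup_of_le L (by rw [e])
    induction l using RelSeries.inductionOn' with
    | singleton S =>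
      obtain ⟨a, ha⟩ := hs (gY S)
      exact ⟨RelSeries.singleton _ (cl a), a, rfl, ha, rfl⟩
    | snoc p S hS ih =>
      obtain ⟨L, a, hL, ha, e⟩ := ih
      have : gY S ⤳ f a := by
        rw [ha]; exact (hgY _).specializes ((show p.last < S from hS).le (hgY _).mem)
      obtain ⟨b, hba, hb⟩ := h this
      have hlt' : L.last < cl b := by rw [hL]; exact hlt hba hb ha hS
      exact ⟨RelSeries.snoc L (cl b) hlt', b, RelSeries.last_snoc _ _ _, (congrArg gY (RelSeries.last_snoc p S hS)).symm ▸ hb, by simp [RelSeries.snoc_length, e]⟩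

theorem exists_specializes_of_mem_closure_range {X Y : Scheme.{u}} (f : X ⟶ Y) [QuasiCompact f]
    {y : Y} (hy : y ∈ closure (Set.range f.base)) : ∃ x : X, f.base x ⤳ y := by
  obtain ⟨_, ⟨V, hV, rfl⟩, hyV, -⟩ := Y.isBasis_affineOpens.exists_subset_of_mem_open (Set.mem_univ y) isOpen_univ
  rw [← hV.range_fromSpec] at hyV
  obtain ⟨p, rfl⟩ := hyV
  have := hV.isOpenImmersion_fromSpec
  have hp : p ∈ closure (Set.range (pullback.snd f hV.fromSpec)) := by
    rw [Scheme.Pullback.range_snd, ← hV.fromSpec.isOpenEmbedding.isOpenMap.preimage_closure_eq_closure_preimage hV.fromSpec.continuous]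
    exact hy
  have : CompactSpace ↥(pullback f hV.fromSpec) :=
    QuasiCompact.compactSpace_of_compactSpace (pullback.snd f hV.fromSpec)
  obtain ⟨R, g, hg⟩ := compactSpace_iff_exists.1 this
  obtain ⟨φ, hφ⟩ := Spec.homEquiv.symm.surjective (g ≫ pullback.snd f hV.fromSpec)
  have e : Set.range (pullback.snd f hV.fromSpec) = Set.range (PrimeSpectrum.comap φ.hom) := by
    rw [show (PrimeSpectrum.comap φ.hom) = (Spec.map φ).base from rfl, show Spec.map φ = _ from hφ,
      Scheme.Hom.comp_base, TopCat.coe_comp]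
    exact (hg.range_comp _).symm
  rw [e] at hp
  have hp' : RingHom.ker φ.hom ≤ p.asIdeal := (PrimeSpectrum.closure_range_comap φ.hom).le hp
  obtain ⟨q, hq, hqp⟩ := Ideal.exists_minimalPrimes_le hp'
  obtain ⟨P, hP, hPq⟩ := Ideal.exists_comap_eq_of_mem_minimalPrimes (I := ⊥) φ.hom q hq
  let q' : PrimeSpectrum Γ(Y, V) := ⟨q, hq.1.1⟩
  have hq' : q' ∈ Set.range (pullback.snd f hV.fromSpec) := e.symm ▸ ⟨⟨P, hP⟩, PrimeSpectrum.ext hPq.2⟩
  obtain ⟨w, hw⟩ := hq'
  refine ⟨pullback.fst f hV.fromSpec w, ?_⟩
  rw [← Scheme.Hom.comp_apply, pullback.condition, Scheme.Hom.comp_apply, hw]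
  exact ((PrimeSpectrum.le_iff_specializes q' p).1 hqp).map hV.fromSpec.continuous

theorem eq_of_specializes_of_fibre {X Y : Scheme.{u}} (f : X ⟶ Y) [LocallyQuasiFinite f] {a b : X}
    (hab : a ⤳ b) (e : f.base a = f.base b) : a = b := by
  have := (f.isDiscrete_preimage_singleton (f.base a)).to_subtype
  let a' : ↥(f.base ⁻¹' {f.base a}) := ⟨a, rfl⟩
  let b' : ↥(f.base ⁻¹' {f.base a}) := ⟨b, e.symm⟩
  have : a' ⤳ b' := IsInducing.subtypeVal.specializes_iff.1 hab
  exact congrArg Subtype.val this.eq

theorem generalizingMap_of_isOpenMap {X Y : Scheme.{u}} (f : X ⟶ Y) [IsLocallyNoetherian X]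
    (h : IsOpenMap f.base) : GeneralizingMap f.base := by
  intro x y hy
  obtain ⟨_, ⟨U, hU, rfl⟩, hxU, -⟩ := X.isBasis_affineOpens.exists_subset_of_mem_open (Set.mem_univ x) isOpen_univ
  let S : Set X := f.base ⁻¹' {y} ∩ (U : Set X)
  have hx : x ∈ closure S := by
    rw [mem_closure_iff]
    intro W hW hxW
    obtain ⟨z, hz, e⟩ := hy.mem_open (h _ (hW.inter U.2)) ⟨x, ⟨hxW, hxU⟩, rfl⟩
    exact ⟨z, hz.1, e, hz.2⟩
  have : IsNoetherianRing Γ(X, U) := IsLocallyNoetherian.component_noetherian ⟨U, hU⟩
  have hUn : NoetherianSpace (U : Set X) :=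
    noetherianSpace_of_isAffineOpen U hU
  have : NoetherianSpace S :=
    (IsEmbedding.inclusion (Set.inter_subset_right : S ⊆ (U : Set X))).isInducing.noetherianSpace
  have hfin := NoetherianSpace.finite_irreducibleComponents (α := S)
  have hSeq : S = ⋃ T ∈ irreducibleComponents S, (Subtype.val '' T : Set X) := by
    rw [← Set.image_iUnion₂, ← Set.sUnion_eq_biUnion, sUnion_irreducibleComponents, Set.image_univ,
      Subtype.range_coe]
  rw [hSeq, hfin.closure_biUnion] at hx
  simp only [Set.mem_iUnion] at hx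
  obtain ⟨T, hT, hxT⟩ := hx
  have hTi : IsIrreducible (Subtype.val '' T : Set X) := hT.1.image _ continuous_subtype_val.continuousOn
  have ht := hTi.isGenericPoint_genericPoint_closure
  refine ⟨_, ht.specializes hxT, ?_⟩
  obtain ⟨s, hs⟩ := hTi.nonempty
  have hsy : f.base s = y := by
    obtain ⟨s', -, rfl⟩ := hs; exact s'.2.1
  have h1 : f.base hTi.genericPoint ⤳ y := hsy ▸ (ht.specializes (subset_closure hs)).map f.continuous
  have h2 : y ⤳ f.base hTi.genericPoint := by
    rw [specializes_iff_mem_closure]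
    refine map_mem_closure f.continuous ht.mem ?_
    rintro _ ⟨s', -, rfl⟩; exact s'.2.1
  exact (h1.antisymm h2).eq

end Groth.Agent.H05EGA4
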