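import Mathlib
import Groth.Prelude.Def_EGA4b
import Groth.Agent.H05EGA4.Rk
import Groth.Agent.H05EGA4.J2
import Groth.Agent.S9829

/-!
# The normal locus (EGA IV 6.13)
-/

open IsLocalRing
universe u
set_option maxHeartbeats 400000

namespace Groth.Agent.H05EGA4

section domain
variable {B : Type u} [CommRing B] [IsDomain B] [IsNoetherianRing B]

theorem isIntegrallyClosed_atPrime_iff (P : Ideal B) [P.IsPrime] :
    IsIntegrallyClosed (Localization.AtPrime P) ↔
      ∀ x : FractionRing B,
        IsIntegral (Localization.subalgebra.ofField (FractionRing B) P.primeCompl P.primeCompl_le_nonZeroDivisors) x →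
        x ∈ Localization.subalgebra.ofField (FractionRing B) P.primeCompl P.primeCompl_le_nonZeroDivisors := by
  let S := Localization.subalgebra.ofField (FractionRing B) P.primeCompl P.primeCompl_le_nonZeroDivisors
  let e := (IsLocalization.algEquiv P.primeCompl (Localization.AtPrime P) S).toRingEquiv
  refine Iff.trans ⟨fun _ => IsIntegrallyClosed.of_equiv e, fun _ => IsIntegrallyClosed.of_equiv e.symm⟩ ?_
  rw [isIntegrallyClosed_iff (FractionRing B)]
  exact ⟨fun h x hx => by obtain ⟨y, rfl⟩ := h hx; exact y.2, fun h x hx => ⟨⟨x, h x hx⟩, rfl⟩⟩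

theorem isIntegral_ofField_mono {P Q : Ideal B} [P.IsPrime] [Q.IsPrime] (h : Q ≤ P) {x : FractionRing B}
    (hx : IsIntegral (Localization.subalgebra.ofField (FractionRing B) P.primeCompl P.primeCompl_le_nonZeroDivisors) x) :
    IsIntegral (Localization.subalgebra.ofField (FractionRing B) Q.primeCompl Q.primeCompl_le_nonZeroDivisors) x := by
  have hle : Localization.subalgebra.ofField (FractionRing B) P.primeCompl P.primeCompl_le_nonZeroDivisors ≤
      Localization.subalgebra.ofField (FractionRing B) Q.primeCompl Q.primeCompl_le_nonZeroDivisors := by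
    rintro _ ⟨a, s, hs, rfl⟩
    exact ⟨a, s, fun hsQ => hs (h hsQ), rfl⟩
  letI := (Subalgebra.inclusion hle).toRingHom.toAlgebra
  have : IsScalarTower (Localization.subalgebra.ofField (FractionRing B) P.primeCompl P.primeCompl_le_nonZeroDivisors)
      (Localization.subalgebra.ofField (FractionRing B) Q.primeCompl Q.primeCompl_le_nonZeroDivisors)
      (FractionRing B) := IsScalarTower.of_algebraMap_eq fun _ => rfl
  exact hx.tower_top

theorem isIntegrallyClosed_atPrime_of_le {P Q : Ideal B} [P.IsPrime] [Q.IsPrime] (h : Q ≤ P)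
    (hP : IsIntegrallyClosed (Localization.AtPrime P)) : IsIntegrallyClosed (Localization.AtPrime Q) := by
  rw [isIntegrallyClosed_atPrime_iff] at hP ⊢
  intro x hx
  obtain ⟨⟨s, hs⟩, hsx⟩ := hx.exists_multiple_integral_of_isLocalization Q.primeCompl x
  obtain ⟨a, t, ht, hat⟩ := hP _ hsx.tower_top
  have hs0 : algebraMap B (FractionRing B) s ≠ 0 :=
    (map_ne_zero_iff _ (IsFractionRing.injective B _)).mpr fun h0 => hs (h0 ▸ zero_mem Q)
  refine ⟨a, t * s, fun hts => (‹Q.IsPrime›.mem_or_mem hts).elim (fun h' => ht (h h')) hs, ?_⟩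
  rw [Submonoid.smul_def, Algebra.smul_def] at hat
  rw [map_mul, mul_inv, ← mul_assoc, ← hat, mul_comm (algebraMap B _ s) x, mul_assoc, mul_inv_cancel₀ hs0, mul_one]

/-- Normality is detected by the associated primes of `B / fB`. -/
theorem isIntegrallyClosed_atPrime_of_ass {f : B} (hf : f ≠ 0)
    (hgen : ∀ (Q : Ideal B) [Q.IsPrime], f ∉ Q → IsIntegrallyClosed (Localization.AtPrime Q))
    (P : Ideal B) [P.IsPrime]
    (hass : ∀ Q ∈ associatedPrimes B (B ⧸ Ideal.span {f}), Q ≤ P → ∀ [Q.IsPrime],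
      IsIntegrallyClosed (Localization.AtPrime Q)) :
    IsIntegrallyClosed (Localization.AtPrime P) := by
  rw [isIntegrallyClosed_atPrime_iff]
  intro x hx
  by_contra hxP
  obtain ⟨a, c, hc, rfl⟩ := IsFractionRing.div_surjective B x
  have hc0 : c ≠ 0 := nonZeroDivisors.ne_zero hc
  have hcK : algebraMap B (FractionRing B) c ≠ 0 := (map_ne_zero_iff _ (IsFractionRing.injective B _)).mpr hc0
  let N := Submodule.span B {Ideal.Quotient.mk (Ideal.span {c}) a}
  have hJ : ∀ b, b ∈ Module.annihilator B N ↔ b * a ∈ Ideal.span {c} := by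
    intro b
    constructor
    · intro hb
      have h1 := congrArg Subtype.val (Module.mem_annihilator.mp hb ⟨_, Submodule.mem_span_singleton_self _⟩)
      rw [Submodule.coe_smul, Submodule.coe_zero, Algebra.smul_def, Ideal.Quotient.algebraMap_eq, ← map_mul,
        Ideal.Quotient.eq_zero_iff_mem] at h1
      exact h1
    · intro hb
      rw [Module.mem_annihilator]
      rintro ⟨m, hm⟩
      obtain ⟨r, rfl⟩ := Submodule.mem_span_singleton.mp hm
      refine Subtype.ext ?_
      show b • r • Ideal.Quotient.mk _ a = 0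
      rw [smul_comm, Algebra.smul_def b, Ideal.Quotient.algebraMap_eq, ← map_mul,
        Ideal.Quotient.eq_zero_iff_mem.mpr hb, smul_zero]
  have hJP : Module.annihilator B N ≤ P := by
    intro b hb
    by_contra hbP
    obtain ⟨a', ha'⟩ := Ideal.mem_span_singleton'.mp ((hJ b).mp hb)
    refine hxP ⟨a', b, hbP, ?_⟩
    have hb0 : algebraMap B (FractionRing B) b ≠ 0 :=
      (map_ne_zero_iff _ (IsFractionRing.injective B _)).mpr fun h => hbP (h ▸ zero_mem P)
    rw [← div_eq_mul_inv, div_eq_div_iff hcK hb0, ← map_mul, ← map_mul, ha', mul_comm a b]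
  obtain ⟨Q, hQ, hQP⟩ := Ideal.exists_minimalPrimes_le hJP
  have hQp : Q.IsPrime := hQ.isPrime
  have hQass : Q ∈ associatedPrimes B (B ⧸ Ideal.span {c}) :=
    associatedPrimes.subset_of_injective (f := N.subtype) N.injective_subtype
      (Module.associatedPrimes.minimalPrimes_annihilator_subset_associatedPrimes B N hQ)
  have hnot : ¬ IsIntegrallyClosed (Localization.AtPrime Q) := by
    intro hIC
    obtain ⟨a', s, hs, h⟩ := (isIntegrallyClosed_atPrime_iff Q).mp hIC _ (isIntegral_ofField_mono hQP hx)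
    have hs0 : algebraMap B (FractionRing B) s ≠ 0 :=
      (map_ne_zero_iff _ (IsFractionRing.injective B _)).mpr fun h => hs (h ▸ zero_mem Q)
    rw [← div_eq_mul_inv, div_eq_div_iff hcK hs0, ← map_mul, ← map_mul] at h
    refine hs (hQ.le ((hJ s).mpr ?_))
    rw [mul_comm, IsFractionRing.injective B _ h]
    exact Ideal.mul_mem_left _ _ (Ideal.mem_span_singleton_self c)
  have hfQ : f ∈ Q := by
    by_contra h
    exact hnot (hgen Q h)
  refine hnot (hass Q ?_ hQP)
  rw [AssociatedPrimes.mem_iff, IsAssociatedPrime, Submodule.isAssociatedPrime_iff] at hQass ⊢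
  obtain ⟨-, y, hy⟩ := hQass
  obtain ⟨y, rfl⟩ := Ideal.Quotient.mk_surjective y
  have hy' : ∀ b, b ∈ Q ↔ b * y ∈ Ideal.span {c} := by
    intro b
    rw [hy, Submodule.mem_colon_singleton, Submodule.mem_bot, Algebra.smul_def, Ideal.Quotient.algebraMap_eq,
      ← map_mul, Ideal.Quotient.eq_zero_iff_mem]
  obtain ⟨z, hz⟩ := Ideal.mem_span_singleton'.mp ((hy' f).mp hfQ)
  refine ⟨hQp, Ideal.Quotient.mk _ z, Ideal.ext fun b => ?_⟩
  rw [Submodule.mem_colon_singleton, Submodule.mem_bot, Algebra.smul_def, Ideal.Quotient.algebraMap_eq,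
    ← map_mul, Ideal.Quotient.eq_zero_iff_mem, hy', Ideal.mem_span_singleton', Ideal.mem_span_singleton']
  constructor
  · rintro ⟨w, hw⟩
    exact ⟨w, mul_right_cancel₀ hc0 (by linear_combination f * hw - b * hz)⟩
  · rintro ⟨w, hw⟩
    exact ⟨w, mul_right_cancel₀ hf (by linear_combination c * hw + b * hz)⟩

end domain

/-! ### The locus -/

theorem isIntegrallyClosed_atPrime_congr {R : Type u} [CommRing R] {p q : Ideal R} [p.IsPrime] [q.IsPrime]
    (h : p = q) : IsIntegrallyClosed (Localization.AtPrime p) ↔ IsIntegrallyClosed (Localization.AtPrime q) := by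
  subst h; rfl


/-- Near a point with domain local ring, the local rings are those of the quotient domain. -/
theorem exists_nhd_domain {A : Type u} [CommRing A] [IsNoetherianRing A] (p : Ideal A) [p.IsPrime]
    [IsDomain (Localization.AtPrime p)] :
    ∃ (q : Ideal A) (g : A), q ∈ minimalPrimes A ∧ q ≤ p ∧ g ∉ p ∧ ∀ a ∈ q, g * a = 0 := by
  classical
  let q := RingHom.ker (algebraMap A (Localization.AtPrime p))
  have hq : q.IsPrime := RingHom.ker_isPrime _
  obtain ⟨gens, hgens⟩ : q.FG := IsNoetherian.noetherian q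
  have key : ∀ a ∈ gens, ∃ t ∉ p, t * a = 0 := by
    intro a ha
    obtain ⟨⟨t, ht⟩, hta⟩ := (IsLocalization.map_eq_zero_iff p.primeCompl (Localization.AtPrime p) a).mp
      (hgens ▸ Ideal.subset_span ha : a ∈ q)
    exact ⟨t, ht, hta⟩
  choose! t ht hta using key
  have hg : ∏ a ∈ gens, t a ∉ p := fun h => by
    obtain ⟨a, ha, hap⟩ := (Ideal.IsPrime.prod_mem_iff (x := t) (p := p) (s := gens)).mp h
    exact ht a ha hap
  have hann : ∀ a ∈ q, (∏ a ∈ gens, t a) * a = 0 := by
    intro a ha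
    rw [← hgens] at ha
    induction ha using Submodule.span_induction with
    | mem g hg' => rw [← Finset.prod_erase_mul _ _ hg', mul_assoc, hta g hg', mul_zero]
    | zero => simp
    | add u v _ _ hu hv => rw [mul_add, hu, hv, add_zero]
    | smul r u _ hu => rw [smul_eq_mul, mul_left_comm, hu, mul_zero]
  have hqp : q ≤ p := by
    intro a ha
    exact (IsLocalization.AtPrime.to_map_mem_maximal_iff (Localization.AtPrime p) p a).mp (by
      rw [RingHom.mem_ker.mp ha]; exact zero_mem _)
  refine ⟨q, _, ⟨⟨hq, bot_le⟩, fun r hr hrq => ?_⟩, hqp, hg, hann⟩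
  intro a ha
  have : (∏ a ∈ gens, t a) * a ∈ r := (hann a ha).symm ▸ zero_mem r
  exact (hr.1.mem_or_mem this).resolve_left fun h => hg (hqp (hrq h))

theorem mem_norLocus_iff_of_nhd {A : Type u} [CommRing A] {q : Ideal A} [q.IsPrime] {g : A}
    (hg : ∀ a ∈ q, g * a = 0) (P : PrimeSpectrum A) (hP : g ∉ P.asIdeal) :
    q ≤ P.asIdeal ∧ ∀ [(P.asIdeal.map (Ideal.Quotient.mk q)).IsPrime], (P ∈ EGA4.norLocus A ↔
      IsIntegrallyClosed (Localization.AtPrime (P.asIdeal.map (Ideal.Quotient.mk q)))) := by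
  have hqP : q ≤ P.asIdeal := fun a ha =>
    (P.2.mem_or_mem ((hg a ha).symm ▸ zero_mem _)).resolve_left hP
  refine ⟨hqP, fun {hQ} => ?_⟩
  let AP := Localization.AtPrime P.asIdeal
  let Q := P.asIdeal.map (Ideal.Quotient.mk q)
  have hsub : Algebra.algebraMapSubmonoid (A ⧸ q) P.asIdeal.primeCompl = Q.primeCompl := by
    ext y
    constructor
    · rintro ⟨a, ha, rfl⟩ hay
      have : a ∈ Q.comap (Ideal.Quotient.mk q) := hay
      rw [Ideal.comap_map_of_surjective' _ Ideal.Quotient.mk_surjective, Ideal.mk_ker, sup_eq_left.mpr hqP] at this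
      exact ha this
    · intro hy
      obtain ⟨a, rfl⟩ := Ideal.Quotient.mk_surjective y
      exact ⟨a, fun ha => hy (Ideal.mem_map_of_mem _ ha), rfl⟩
  have hloc : IsLocalization Q.primeCompl (AP ⧸ q.map (algebraMap A AP)) := by
    rw [← hsub]; infer_instance
  have hbot : q.map (algebraMap A AP) = ⊥ := by
    refine le_bot_iff.mp (Ideal.map_le_iff_le_comap.mpr fun a ha => ?_)
    rw [Ideal.mem_comap, Ideal.mem_bot, IsLocalization.map_eq_zero_iff P.asIdeal.primeCompl]
    exact ⟨⟨g, hP⟩, hg a ha⟩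
  let e : AP ≃+* Localization.AtPrime Q :=
    ((RingEquiv.quotientBot AP).symm.trans (Ideal.quotEquivOfEq hbot.symm)).trans
      (IsLocalization.algEquiv Q.primeCompl (AP ⧸ q.map (algebraMap A AP)) (Localization.AtPrime Q)).toRingEquiv
  constructor
  · rintro ⟨_, hIC⟩
    exact IsIntegrallyClosed.of_equiv e
  · intro hIC
    exact ⟨e.toMulEquiv.isDomain (Localization.AtPrime Q), IsIntegrallyClosed.of_equiv e.symm⟩

/-- EGA IV 6.13.2. -/
theorem isOpen_norLocus_of_nhds {A : Type u} [CommRing A] [IsNoetherianRing A]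
    (h : ∀ p : PrimeSpectrum A, p.asIdeal ∈ minimalPrimes A → p ∈ EGA4.norLocus A →
      ∃ U : Set (PrimeSpectrum A), IsOpen U ∧ p ∈ U ∧ U ⊆ EGA4.norLocus A) :
    IsOpen (EGA4.norLocus A) := by
  classical
  refine isOpen_iff_forall_mem_open.mpr fun p hp => ?_
  have := hp.1
  obtain ⟨q, g, hq, hqp, hg, hann⟩ := exists_nhd_domain p.asIdeal
  have hqp' : q.IsPrime := hq.isPrime
  have hgq : g ∉ q := fun h => hg (hqp h)
  obtain ⟨-, hiff⟩ := mem_norLocus_iff_of_nhd hann (⟨q, hqp'⟩ : PrimeSpectrum A) hgq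
  have hq0 : (q.map (Ideal.Quotient.mk q)) = ⊥ := Ideal.map_quotient_self q
  have hqnor : (⟨q, hqp'⟩ : PrimeSpectrum A) ∈ EGA4.norLocus A := by
    have : (q.map (Ideal.Quotient.mk q)).IsPrime := hq0 ▸ Ideal.isPrime_bot
    refine hiff.mpr ?_
    have h1 := isRegularLocalRing_bot (A ⧸ q)
    have h2 := (isRegularLocalRing_localization_congr hq0).mpr h1
    exact S9829.result _
  obtain ⟨U, hU, hqU, hUsub⟩ := h ⟨q, hqp'⟩ hq hqnor
  obtain ⟨_, ⟨f, rfl⟩, hqf, hfU⟩ := PrimeSpectrum.isTopologicalBasis_basic_opens.exists_subset_of_mem_open hqU hU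
  let B := A ⧸ q
  let fg : B := Ideal.Quotient.mk q (f * g)
  have hfg0 : fg ≠ 0 := fun h0 => (hqp'.mem_or_mem (Ideal.Quotient.eq_zero_iff_mem.mp h0)).elim hqf hgq
  have hmapcomap : ∀ (Q : Ideal B), (Q.comap (Ideal.Quotient.mk q)).map (Ideal.Quotient.mk q) = Q :=
    fun Q => Ideal.map_comap_of_surjective _ Ideal.Quotient.mk_surjective Q
  have hgen : ∀ (Q : Ideal B) [Q.IsPrime], fg ∉ Q → IsIntegrallyClosed (Localization.AtPrime Q) := by
    intro Q hQ hfgQ
    let P : PrimeSpectrum A := ⟨Q.comap (Ideal.Quotient.mk q), inferInstance⟩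
    have hfgP : f * g ∉ P.asIdeal := hfgQ
    have hgP : g ∉ P.asIdeal := fun h => hfgP (P.asIdeal.mul_mem_left f h)
    obtain ⟨-, hiff⟩ := mem_norLocus_iff_of_nhd hann P hgP
    have hQ' : (P.asIdeal.map (Ideal.Quotient.mk q)).IsPrime := by rw [hmapcomap]; exact hQ
    have := hiff.mp (hUsub (hfU fun h => hfgP (P.asIdeal.mul_mem_right g h)))
    exact (isIntegrallyClosed_atPrime_congr (hmapcomap Q)).mp this
  let T := {Q ∈ associatedPrimes B (B ⧸ Ideal.span {fg}) | ∀ [Q.IsPrime], ¬ IsIntegrallyClosed (Localization.AtPrime Q)}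
  have hT : T.Finite := (associatedPrimes.finite B (B ⧸ Ideal.span {fg})).subset fun Q hQ => hQ.1
  let Z : Set (PrimeSpectrum A) := ⋃ Q ∈ T, PrimeSpectrum.zeroLocus ((Q.comap (Ideal.Quotient.mk q) : Ideal A) : Set A)
  have hZ : IsClosed Z := hT.isClosed_biUnion fun Q _ => PrimeSpectrum.isClosed_zeroLocus _
  refine ⟨(PrimeSpectrum.basicOpen g : Set (PrimeSpectrum A)) ∩ Zᶜ, fun P hP => ?_,
    (PrimeSpectrum.basicOpen g).2.inter hZ.isOpen_compl, hg, fun hpZ => ?_⟩
  · obtain ⟨hqP, hiffP⟩ := mem_norLocus_iff_of_nhd hann P hP.1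
    have hP' : (P.asIdeal.map (Ideal.Quotient.mk q)).IsPrime := Ideal.isPrime_map_quotientMk_of_isPrime hqP
    refine hiffP.mpr (isIntegrallyClosed_atPrime_of_ass hfg0 hgen _ fun Q hQ hQP {hQp} => ?_)
    by_contra hn
    refine hP.2 (Set.mem_biUnion (show Q ∈ T from ⟨hQ, fun {_} => hn⟩) ?_)
    show Q.comap (Ideal.Quotient.mk q) ≤ P.asIdeal
    refine (Ideal.comap_mono hQP).trans ?_
    rw [Ideal.comap_map_of_surjective' _ Ideal.Quotient.mk_surjective, Ideal.mk_ker, sup_eq_left.mpr hqP]
  · simp only [Z, Set.mem_iUnion₂] at hpZ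
    obtain ⟨Q, ⟨hQass, hQbad⟩, hQp⟩ := hpZ
    have hQpr : Q.IsPrime := hQass.isPrime
    have hp' : (p.asIdeal.map (Ideal.Quotient.mk q)).IsPrime := Ideal.isPrime_map_quotientMk_of_isPrime hqp
    obtain ⟨-, hiffp⟩ := mem_norLocus_iff_of_nhd hann p hg
    have hIC := (isIntegrallyClosed_atPrime_iff _).mp (hiffp.mp hp)
    refine hQbad (isIntegrallyClosed_atPrime_of_le ?_ ((isIntegrallyClosed_atPrime_iff _).mpr hIC))
    rw [← hmapcomap Q]
    exact Ideal.map_mono hQp

/-- A domain with finite normalization is normal on a non-empty open subset. -/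
theorem exists_forall_isIntegrallyClosed_of_finite (B : Type u) [CommRing B] [IsDomain B] [IsNoetherianRing B]
    (h : Module.Finite B (integralClosure B (FractionRing B))) :
    ∃ c : B, c ≠ 0 ∧ ∀ (Q : Ideal B) [Q.IsPrime], c ∉ Q → IsIntegrallyClosed (Localization.AtPrime Q) := by
  obtain ⟨gens, hgens⟩ := h.fg_top
  obtain ⟨⟨c, hc⟩, hcg⟩ := IsLocalization.exist_integer_multiples (nonZeroDivisors B) gens fun x => (x : FractionRing B)
  have hall : ∀ z : integralClosure B (FractionRing B), ∃ a : B, algebraMap B (FractionRing B) a = c • (z : FractionRing B) := by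
    intro z
    have hz : z ∈ Submodule.span B (gens : Set (integralClosure B (FractionRing B))) := hgens ▸ trivial
    induction hz using Submodule.span_induction with
    | mem y hy => exact hcg y hy
    | zero => exact ⟨0, by simp⟩
    | add y z _ _ hy hz =>
      obtain ⟨a, ha⟩ := hy
      obtain ⟨b, hb⟩ := hz
      exact ⟨a + b, by rw [map_add, ha, hb, ← smul_add]; rfl⟩
    | smul r y _ hy =>
      obtain ⟨a, ha⟩ := hy
      exact ⟨r * a, by rw [map_mul, ha, ← Algebra.smul_def, smul_comm]; rfl⟩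
  refine ⟨c, nonZeroDivisors.ne_zero hc, fun Q _ hcQ => (isIntegrallyClosed_atPrime_iff Q).mpr fun x hx => ?_⟩
  obtain ⟨⟨s, hs⟩, hsx⟩ := hx.exists_multiple_integral_of_isLocalization Q.primeCompl x
  obtain ⟨a, ha⟩ := hall ⟨_, hsx⟩
  have hcs0 : algebraMap B (FractionRing B) (c * s) ≠ 0 :=
    (map_ne_zero_iff _ (IsFractionRing.injective B _)).mpr fun h0 =>
      (‹Q.IsPrime›.mem_or_mem (h0 ▸ zero_mem Q)).elim hcQ hs
  refine ⟨a, c * s, fun hh => (‹Q.IsPrime›.mem_or_mem hh).elim hcQ hs, ?_⟩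
  have ha' : algebraMap B (FractionRing B) a = c • (s • x) := ha
  rw [ha', smul_smul, Algebra.smul_def, mul_comm (algebraMap B (FractionRing B) (c * s)) x,
    mul_assoc, mul_inv_cancel₀ hcs0, mul_one]

/-- Normalization of an irreducible component from that of a reduced ring. -/
theorem finite_integralClosure_quotient_minimalPrime {A : Type u} [CommRing A] [IsNoetherianRing A] [IsReduced A]
    (h : Module.Finite A (integralClosure A (FractionRing A))) (q : Ideal A) [q.IsPrime] (hq : q ∈ minimalPrimes A)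
    {g : A} (hgq : g ∉ q) (hg : ∀ a ∈ q, g * a = 0) :
    Module.Finite (A ⧸ q) (integralClosure (A ⧸ q) (FractionRing (A ⧸ q))) := by
  classical
  have hfin := minimalPrimes.finite_of_isNoetherianRing A
  have hnzd : ∀ d : A, (∀ r ∈ minimalPrimes A, d ∉ r) → d ∈ nonZeroDivisors A := by
    intro d hd
    refine mem_nonZeroDivisors_iff_right.mpr fun x hx => ?_
    have : x ∈ nilradical A := by
      rw [nilradical, ← Ideal.sInf_minimalPrimes, Ideal.mem_sInf]
      intro r hr
      exact (hr.1.1.mem_or_mem (hx ▸ zero_mem r)).resolve_right (hd r hr)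
    exact (mem_nilradical.mp this).eq_zero
  obtain ⟨h0, hh0q, hh0⟩ : ∃ h0 ∈ q, ∀ r ∈ minimalPrimes A, r ≠ q → h0 ∉ r := by
    have hnot : ¬ (q : Set A) ⊆ ⋃ r ∈ ((hfin.toFinset.erase q : Finset (Ideal A)) : Set (Ideal A)), (r : Set A) := by
      intro hsub
      obtain ⟨r, hr, hqr⟩ := (Ideal.subset_union_prime (f := id) ⊥ ⊥ fun r hr _ _ =>
        (hfin.mem_toFinset.mp (Finset.mem_of_mem_erase hr)).1.1).mp hsub
      rw [Finset.mem_erase, Set.Finite.mem_toFinset] at hr
      exact hr.1 (le_antisymm (hr.2.2 ⟨‹q.IsPrime›, bot_le⟩ hqr) hqr)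
    obtain ⟨h0, hh0q, hh0⟩ := Set.not_subset.mp hnot
    refine ⟨h0, hh0q, fun r hr hne hmem => hh0 ?_⟩
    exact Set.mem_biUnion (x := r) (by simp [hne, hr]) hmem
  let K := FractionRing A
  let L := FractionRing (A ⧸ q)
  have hunit : ∀ y : nonZeroDivisors A, IsUnit ((algebraMap (A ⧸ q) L).comp (Ideal.Quotient.mk q) y) := by
    intro y
    refine IsUnit.mk0 _ ((map_ne_zero_iff _ (IsFractionRing.injective (A ⧸ q) L)).mpr fun hy => ?_)
    exact Set.disjoint_left.mp (Ideal.disjoint_nonZeroDivisors_of_mem_minimalPrimes hq)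
      (Ideal.Quotient.eq_zero_iff_mem.mp hy) y.2
  let π : K →ₐ[A] L :=
    { IsLocalization.lift hunit with
      commutes' := fun a => by
        show IsLocalization.lift hunit (algebraMap A K a) = _
        rw [IsLocalization.lift_eq]; rfl }
  have hker : ∀ k : K, π k = 0 → algebraMap A K g * k = 0 := by
    intro k hk
    obtain ⟨⟨a, d⟩, hk'⟩ := IsLocalization.surj (nonZeroDivisors A) k
    have ha : a ∈ q := by
      rw [← Ideal.Quotient.eq_zero_iff_mem, ← map_eq_zero_iff _ (IsFractionRing.injective (A ⧸ q) L)]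
      have h1 := congrArg π hk'
      rw [map_mul, hk, zero_mul, AlgHom.commutes] at h1
      exact h1.symm
    apply (IsLocalization.map_units K d).mul_left_injective
    show algebraMap A K g * k * algebraMap A K d = 0 * algebraMap A K d
    rw [zero_mul, mul_assoc, hk', ← map_mul, hg a ha, map_zero]
  let C := integralClosure A K
  have hsub : ∀ y : L, IsIntegral (A ⧸ q) y → y ∈ C.toSubmodule.map π.toLinearMap := by
    intro y hy
    have hyA : IsIntegral A y := isIntegral_trans y hy
    obtain ⟨pol, hmon, hroot⟩ := hyA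
    obtain ⟨a, b, hb, rfl⟩ := IsFractionRing.div_surjective (A ⧸ q) y
    obtain ⟨a, rfl⟩ := Ideal.Quotient.mk_surjective a
    obtain ⟨b, rfl⟩ := Ideal.Quotient.mk_surjective b
    have hbq : b ∉ q := fun hb' => nonZeroDivisors.ne_zero hb (Ideal.Quotient.eq_zero_iff_mem.mpr hb')
    have hd : g * b + h0 ∈ nonZeroDivisors A := by
      refine hnzd _ fun r hr hmem => ?_
      by_cases hrq : r = q
      · subst hrq
        exact (‹r.IsPrime›.mem_or_mem ((r.add_mem_iff_left hh0q).mp hmem)).elim hgq hbq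
      · have hgr : g ∈ r := by
          by_contra hgr
          exact hh0 r hr hrq ((hr.1.1.mem_or_mem (hg h0 hh0q ▸ zero_mem r)).resolve_left hgr)
        exact hh0 r hr hrq ((r.add_mem_iff_right (r.mul_mem_right b hgr)).mp hmem)
    let y' : K := algebraMap A K (g * a) * (IsLocalization.map_units K (⟨_, hd⟩ : nonZeroDivisors A)).unit⁻¹.1
    have hy' : y' * algebraMap A K (g * b + h0) = algebraMap A K (g * a) := by
      show _ * _ * _ = _
      rw [mul_assoc, IsUnit.val_inv_mul, mul_one]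
    have hπ : π y' = algebraMap (A ⧸ q) L (Ideal.Quotient.mk q a) / algebraMap (A ⧸ q) L (Ideal.Quotient.mk q b) := by
      have h1 : π y' * algebraMap A L (g * b + h0) = algebraMap A L (g * a) := by
        rw [← π.commutes, ← π.commutes, ← map_mul, hy']
      have hb0 : algebraMap (A ⧸ q) L (Ideal.Quotient.mk q b) ≠ 0 :=
        (map_ne_zero_iff _ (IsFractionRing.injective (A ⧸ q) L)).mpr (nonZeroDivisors.ne_zero hb)
      have hg0 : algebraMap (A ⧸ q) L (Ideal.Quotient.mk q g) ≠ 0 :=
        (map_ne_zero_iff _ (IsFractionRing.injective (A ⧸ q) L)).mpr fun h => hgq (Ideal.Quotient.eq_zero_iff_mem.mp h)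
      rw [IsScalarTower.algebraMap_apply A (A ⧸ q) L, IsScalarTower.algebraMap_apply A (A ⧸ q) L (g * a),
        Ideal.Quotient.algebraMap_eq] at h1
      simp only [map_add, map_mul, Ideal.Quotient.eq_zero_iff_mem.mpr hh0q, map_zero, add_zero] at h1
      rw [eq_div_iff hb0]
      apply mul_left_cancel₀ hg0
      linear_combination h1
    refine ⟨y', ⟨Polynomial.X * pol, Polynomial.monic_X.mul hmon, ?_⟩, hπ⟩
    rw [← Polynomial.aeval_def, map_mul, Polynomial.aeval_X]
    have h2 : algebraMap A K g * Polynomial.aeval y' pol = 0 := by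
      refine hker _ ?_
      rw [← Polynomial.aeval_algHom_apply, hπ]
      exact hroot
    show algebraMap A K (g * a) * _ * _ = 0
    rw [map_mul]
    linear_combination (algebraMap A K a *
      (IsLocalization.map_units K (⟨_, hd⟩ : nonZeroDivisors A)).unit⁻¹.1) * h2
  have hfg : (C.toSubmodule.map π.toLinearMap).FG := by
    refine Submodule.FG.map _ ?_
    exact Module.Finite.iff_fg.mp h
  have : IsNoetherian A ↥(C.toSubmodule.map π.toLinearMap) :=
    have := Module.Finite.iff_fg.mpr hfg; inferInstance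
  have hle : (integralClosure (A ⧸ q) L).toSubmodule.restrictScalars A ≤ C.toSubmodule.map π.toLinearMap :=
    fun y hy => hsub y hy
  have : Module.Finite A ((integralClosure (A ⧸ q) L).toSubmodule.restrictScalars A) :=
    Module.Finite.of_injective (Submodule.inclusion hle) (Submodule.inclusion_injective hle)
  have : Module.Finite A (integralClosure (A ⧸ q) L) := this
  exact Module.Finite.of_restrictScalars_finite A (A ⧸ q) _

theorem isOpen_norLocus_of_finite_normalization {A : Type u} [CommRing A] [IsNoetherianRing A] [IsReduced A]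
    (h : Module.Finite A (integralClosure A (FractionRing A))) : IsOpen (EGA4.norLocus A) := by
  refine isOpen_norLocus_of_nhds fun p hp hpn => ?_
  have := hpn.1
  obtain ⟨q, g, hq, hqp, hg, hann⟩ := exists_nhd_domain p.asIdeal
  have hqp' : q.IsPrime := hq.isPrime
  obtain ⟨c, hc0, hc⟩ := exists_forall_isIntegrallyClosed_of_finite (A ⧸ q)
    (finite_integralClosure_quotient_minimalPrime h q hq (fun h' => hg (hqp h')) hann)
  obtain ⟨c, rfl⟩ := Ideal.Quotient.mk_surjective c
  have hcq : c ∉ q := fun h' => hc0 (Ideal.Quotient.eq_zero_iff_mem.mpr h')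
  have hpq : q = p.asIdeal := le_antisymm hqp (hp.2 ⟨hqp', bot_le⟩ hqp)
  refine ⟨(PrimeSpectrum.basicOpen (c * g) : Set (PrimeSpectrum A)), (PrimeSpectrum.basicOpen _).2,
    fun hmem => (p.2.mem_or_mem hmem).elim (hpq ▸ hcq) hg, fun P hP => ?_⟩
  have hgP : g ∉ P.asIdeal := fun h' => hP (P.asIdeal.mul_mem_left c h')
  obtain ⟨hqP, hiff⟩ := mem_norLocus_iff_of_nhd hann P hgP
  have := Ideal.isPrime_map_quotientMk_of_isPrime hqP
  refine hiff.mpr (hc _ fun hmem => hP ?_)
  have h1 : c ∈ (P.asIdeal.map (Ideal.Quotient.mk q)).comap (Ideal.Quotient.mk q) := hmem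
  rw [Ideal.comap_map_of_surjective' _ Ideal.Quotient.mk_surjective, Ideal.mk_ker, sup_eq_left.mpr hqP] at h1
  exact P.asIdeal.mul_mem_right g h1

theorem mem_norLocus_of_mem_regLocus {A : Type u} [CommRing A] {p : PrimeSpectrum A}
    (hp : p ∈ EGA4.regLocus A) : p ∈ EGA4.norLocus A := by
  have : IsRegularLocalRing (Localization.AtPrime p.asIdeal) := hp
  exact ⟨H4Depth.isDomain_of_isRegularLocalRing _, S9829.result _⟩

theorem isOpen_norLocus_of_isOpen_regLocus {A : Type u} [CommRing A] [IsNoetherianRing A]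
    (h : IsOpen (EGA4.regLocus A)) : IsOpen (EGA4.norLocus A) := by
  refine isOpen_norLocus_of_nhds fun p hp hpn => ⟨_, h, ?_, fun P hP => mem_norLocus_of_mem_regLocus hP⟩
  have := hpn.1
  have : Ring.KrullDimLE 0 (Localization.AtPrime p.asIdeal) := by
    rw [Ring.krullDimLE_iff, IsLocalization.AtPrime.ringKrullDim_eq_height p.asIdeal,
      Ideal.height_eq_zero_iff.mpr hp]
    rfl
  exact isRegularLocalRing_of_maximalIdeal_eq_bot _ (IsLocalRing.isField_iff_maximalIdeal_eq.mp Ring.KrullDimLE.isField_of_isDomain)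

end Groth.Agent.H05EGA4
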