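import Mathlib
import Groth.Prelude.Def_EGA4b
import Groth.Agent.H05EGA4.NorLocus

/-!
# Finiteness of normalization is local (EGA IV 6.13.6)
-/

open IsLocalRing
universe u
set_option maxHeartbeats 1600000
set_option synthInstance.maxHeartbeats 100000

namespace Groth.Agent.H05EGA4

/-- Generators of a finite localized module can be taken in the module. -/
theorem exists_finset_smul_mem_span_of_finite_localized {A M : Type u} [CommRing A] [AddCommGroup M] [Module A M]
    (S : Submonoid A) [Module.Finite (Localization S) (LocalizedModule S M)] :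
    ∃ T : Finset M, ∀ x : M, ∃ s ∈ S, s • x ∈ Submodule.span A (T : Set M) := by
  classical
  obtain ⟨gens, hgens⟩ := Module.Finite.fg_top (R := Localization S) (M := LocalizedModule S M)
  choose num den hnd using fun g : LocalizedModule S M => LocalizedModule.induction_on
    (β := fun g => ∃ (m : M) (s : S), g = LocalizedModule.mk m s) (fun m s => ⟨m, s, rfl⟩) g
  refine ⟨gens.image num, fun x => ?_⟩
  have key : ∀ z : LocalizedModule S M, z ∈ Submodule.span (Localization S) (gens : Set (LocalizedModule S M)) →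
      ∃ y ∈ Submodule.span A ((gens.image num : Finset M) : Set M), ∃ s : S, s • z = LocalizedModule.mkLinearMap S M y := by
    intro z hz
    induction hz using Submodule.span_induction with
    | mem g hg =>
      refine ⟨num g, Submodule.subset_span (Finset.mem_image_of_mem _ hg), den g, ?_⟩
      refine (congrArg (fun w => den g • w) (hnd g)).trans ?_
      rw [Submonoid.smul_def, LocalizedModule.smul'_mk, LocalizedModule.mkLinearMap_apply]
      exact LocalizedModule.mk_eq.mpr ⟨1, by simp [Submonoid.smul_def]⟩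
    | zero => exact ⟨0, zero_mem _, 1, by simp⟩
    | add u v _ _ hu hv =>
      obtain ⟨y, hy, s, hs⟩ := hu
      obtain ⟨y', hy', t, ht⟩ := hv
      refine ⟨(t : A) • y + (s : A) • y', add_mem (Submodule.smul_mem _ _ hy) (Submodule.smul_mem _ _ hy'), s * t, ?_⟩
      rw [map_add, map_smul, map_smul, ← hs, ← ht, Submonoid.smul_def, Submonoid.smul_def, Submonoid.smul_def,
        Submonoid.coe_mul, smul_add, smul_smul, smul_smul, mul_comm (t : A) (s : A)]
    | smul r v _ hv =>
      obtain ⟨y, hy, s, hs⟩ := hv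
      obtain ⟨⟨a, t⟩, hat⟩ := IsLocalization.surj S r
      refine ⟨a • y, Submodule.smul_mem _ _ hy, s * t, ?_⟩
      rw [map_smul, ← hs, Submonoid.smul_def, Submonoid.smul_def, Submonoid.coe_mul, smul_smul,
        ← algebraMap_smul (Localization S) ((s : A) * t), ← algebraMap_smul (Localization S) (a * (s : A)),
        smul_smul, map_mul, map_mul, ← hat]
      congr 1
      ring
  obtain ⟨y, hy, s, hs⟩ := key (LocalizedModule.mkLinearMap S M x) (hgens ▸ Submodule.mem_top)
  rw [Submonoid.smul_def, ← map_smul] at hs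
  obtain ⟨t, ht⟩ := (IsLocalizedModule.eq_iff_exists S (LocalizedModule.mkLinearMap S M)).mp hs
  refine ⟨(t : A) * s, S.mul_mem t.2 s.2, ?_⟩
  rw [mul_smul]
  rw [Submonoid.smul_def, Submonoid.smul_def] at ht
  rw [ht]
  exact Submodule.smul_mem _ _ hy

theorem isIntegrallyClosed_atPrime_of_multiples {A : Type u} [CommRing A] {K' : Type u} [Field K'] [Algebra A K']
    (B : Subalgebra A K') [IsNoetherianRing B] [IsFractionRing B K'] [Algebra.IsIntegral A B] (Q : Ideal B) [Q.IsPrime]
    (h : ∀ x ∈ integralClosure A K', ∃ t : A, algebraMap A B t ∉ Q ∧ t • x ∈ B) :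
    IsIntegrallyClosed (Localization.AtPrime Q) := by
  rw [isIntegrallyClosed_atPrime_iff]
  intro x hx
  let φ := FractionRing.algEquiv B K'
  obtain ⟨⟨s, hs⟩, hsx⟩ := hx.exists_multiple_integral_of_isLocalization Q.primeCompl x
  have hint : IsIntegral A (φ (s • x)) := isIntegral_trans _ (hsx.map φ)
  obtain ⟨t, ht, htx⟩ := h _ hint
  refine ⟨⟨_, htx⟩, algebraMap A B t * s, fun hts => (‹Q.IsPrime›.mem_or_mem hts).elim ht hs, ?_⟩
  have hne : algebraMap B (FractionRing B) (algebraMap A B t * s) ≠ 0 :=
    (map_ne_zero_iff _ (IsFractionRing.injective B _)).mpr fun h0 =>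
      (‹Q.IsPrime›.mem_or_mem (h0.symm ▸ zero_mem Q)).elim ht hs
  rw [← div_eq_mul_inv, eq_div_iff hne]
  apply φ.injective
  rw [map_mul, φ.commutes, φ.commutes]
  show φ x * ((algebraMap A B t * s : B) : K') = t • φ (s • x)
  rw [map_smul, Algebra.smul_def, Algebra.smul_def]
  show φ x * (algebraMap A K' t * (s : K')) = algebraMap A K' t * ((s : K') * φ x)
  ring

/-- EGA IV 6.13.6: finiteness of the normalization is local. -/
theorem finite_integralClosure_of_local {A : Type u} [CommRing A] [IsDomain A] [IsNoetherianRing A]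
    (K' : Type u) [Field K'] [Algebra A K'] [Algebra (FractionRing A) K']
    [IsScalarTower A (FractionRing A) K'] [FiniteDimensional (FractionRing A) K']
    {f : A} (hf0 : f ≠ 0)
    (hf : Module.Finite (Localization.Away f) (LocalizedModule (Submonoid.powers f) (integralClosure A K')))
    (hloc : ∀ (p : Ideal A) [p.IsPrime],
      Module.Finite (Localization.AtPrime p) (LocalizedModule p.primeCompl (integralClosure A K'))) :
    Module.Finite A (integralClosure A K') := by
  classical
  let C := integralClosure A K'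
  have hinj : Function.Injective (algebraMap A K') := by
    rw [IsScalarTower.algebraMap_eq A (FractionRing A) K']
    exact (algebraMap (FractionRing A) K').injective.comp (IsFractionRing.injective A _)
  have : Algebra.IsAlgebraic A K' := IsFractionRing.comap_isAlgebraic_iff.mpr
    (inferInstance : Algebra.IsAlgebraic (FractionRing A) K')
  obtain ⟨T0, hT0⟩ := exists_finset_smul_mem_span_of_finite_localized (M := C) (Submonoid.powers f)
  choose Tp hTp using fun p : PrimeSpectrum A =>
    haveI := hloc p.asIdeal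
    exists_finset_smul_mem_span_of_finite_localized (M := C) p.asIdeal.primeCompl
  let B : PrimeSpectrum A → Subalgebra A K' := fun p =>
    Algebra.adjoin A (((T0 ∪ Tp p).image Subtype.val : Finset K') : Set K')
  have hBfin : ∀ p, Module.Finite A (B p) := fun p => Module.Finite.iff_fg.mpr
    (fg_adjoin_of_finite (Finset.finite_toSet _) (by
      intro x hx
      obtain ⟨y, -, rfl⟩ := Finset.mem_image.mp (Finset.mem_coe.mp hx)
      exact y.2))
  have hspan : ∀ p, ∀ T : Finset C, T ⊆ T0 ∪ Tp p → ∀ y : C, y ∈ Submodule.span A (T : Set C) → (y : K') ∈ B p := by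
    intro p T hT y hy
    induction hy using Submodule.span_induction with
    | mem y hy => exact Algebra.subset_adjoin (Finset.mem_coe.mpr (Finset.mem_image_of_mem _ (hT hy)))
    | zero => exact zero_mem _
    | add u v _ _ hu hv => exact add_mem hu hv
    | smul r u _ hu => exact Subalgebra.smul_mem _ hu r
  have hgenf : ∀ p, ∀ x ∈ C, ∃ t : A, t ∈ Submonoid.powers f ∧ t • x ∈ B p := by
    intro p x hx
    obtain ⟨t, ht, htx⟩ := hT0 ⟨x, hx⟩
    exact ⟨t, ht, hspan p T0 Finset.subset_union_left _ htx⟩
  have hgenp : ∀ p, ∀ x ∈ C, ∃ t : A, t ∉ p.asIdeal ∧ t • x ∈ B p := by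
    intro p x hx
    obtain ⟨t, ht, htx⟩ := hTp p ⟨x, hx⟩
    exact ⟨t, ht, hspan p (Tp p) Finset.subset_union_right _ htx⟩
  let bad : PrimeSpectrum A → Set (PrimeSpectrum A) := fun p =>
    PrimeSpectrum.comap (algebraMap A (B p)) '' (EGA4.norLocus (B p))ᶜ
  have hsetup : ∀ p, IsOpen (bad p)ᶜ ∧ p ∉ bad p ∧ ∀ q ∉ bad p, ∀ x ∈ C, ∃ t : A, t ∉ q.asIdeal ∧ t • x ∈ B p := by
    intro p
    have : Module.Finite A (B p) := hBfin p
    have : IsNoetherianRing (B p) := IsNoetherianRing.of_finite A (B p)
    have : IsFractionRing (B p) K' := by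
      refine IsFractionRing.of_field _ _ fun z => ?_
      obtain ⟨r, hr0, hrz⟩ := (Algebra.IsAlgebraic.isAlgebraic (R := A) z).exists_integral_multiple
      obtain ⟨t, ht, htz⟩ := hgenf p _ hrz
      refine ⟨⟨_, htz⟩, algebraMap A (B p) (t * r), ?_⟩
      have hne : algebraMap A K' (t * r) ≠ 0 := (map_ne_zero_iff _ hinj).mpr
        (mul_ne_zero (by obtain ⟨n, rfl⟩ := ht; exact pow_ne_zero n hf0) hr0)
      show z = t • r • z / algebraMap A K' (t * r)
      rw [smul_smul, Algebra.smul_def, mul_div_cancel_left₀ _ hne]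
    have hopen : IsOpen (EGA4.norLocus (B p)) := by
      refine isOpen_norLocus_of_nhds fun P hP _ => ?_
      refine ⟨_, (PrimeSpectrum.basicOpen (algebraMap A (B p) f)).2, ?_, fun Q hQ => ?_⟩
      · show algebraMap A (B p) f ∉ P.asIdeal
        intro hmem
        have : P.asIdeal = ⊥ := le_bot_iff.mp (hP.2 ⟨Ideal.isPrime_bot, le_rfl⟩ bot_le)
        rw [this, Ideal.mem_bot] at hmem
        exact hf0 (hinj (by rw [map_zero]; exact congrArg Subtype.val hmem))
      · refine ⟨inferInstance, isIntegrallyClosed_atPrime_of_multiples (B p) Q.asIdeal fun x hx => ?_⟩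
        obtain ⟨t, ⟨n, rfl⟩, htx⟩ := hgenf p x hx
        refine ⟨f ^ n, fun hmem => hQ ?_, htx⟩
        rw [map_pow] at hmem
        exact Q.2.mem_of_pow_mem n hmem
    refine ⟨?_, ?_, ?_⟩
    · exact ((PrimeSpectrum.isClosedMap_comap_of_isIntegral _
        (algebraMap_isIntegral_iff.mpr inferInstance)) _ hopen.isClosed_compl).isOpen_compl
    · rintro ⟨Q, hQ, hQp⟩
      refine hQ ⟨inferInstance, isIntegrallyClosed_atPrime_of_multiples (B p) Q.asIdeal fun x hx => ?_⟩
      obtain ⟨t, ht, htx⟩ := hgenp p x hx
      exact ⟨t, fun h => ht (hQp ▸ h), htx⟩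
    · intro q hq x hx
      let J : Ideal A := (B p).toSubmodule.comap (LinearMap.toSpanSingleton A K' x)
      by_contra hcon
      push Not at hcon
      let J' : Ideal (B p) :=
        { carrier := {b | (b : K') * x ∈ B p}
          add_mem' := fun {a b} ha hb => by
            show ((a + b : B p) : K') * x ∈ B p
            rw [Subalgebra.coe_add, add_mul]; exact add_mem ha hb
          zero_mem' := by show ((0 : B p) : K') * x ∈ B p; simp
          smul_mem' := fun c b hb => by
            show ((c * b : B p) : K') * x ∈ B p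
            rw [Subalgebra.coe_mul, mul_assoc]; exact mul_mem c.2 hb }
      have hJ : J'.comap (algebraMap A (B p)) ≤ q.asIdeal := fun t ht => by
        by_contra htq
        refine hcon t htq ?_
        rw [Algebra.smul_def]
        exact ht
      obtain ⟨Q, hQJ, hQp, hQc⟩ := Ideal.exists_ideal_over_prime_of_isIntegral q.asIdeal J' hJ
      refine hq ⟨⟨Q, hQp⟩, fun hQn => ?_, PrimeSpectrum.ext hQc⟩
      have hint : IsIntegral (B p) x := hx.tower_top
      have hICQ := (isIntegrallyClosed_atPrime_iff Q).mp hQn.2 ((FractionRing.algEquiv (B p) K').symm x)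
        ((hint.map (FractionRing.algEquiv (B p) K').symm).tower_top)
      obtain ⟨a, s, hs, has⟩ := hICQ
      refine hs (hQJ (show (s : K') * x ∈ B p from ?_))
      have h2 := congrArg (FractionRing.algEquiv (B p) K') has
      rw [AlgEquiv.apply_symm_apply, map_mul, map_inv₀, AlgEquiv.commutes, AlgEquiv.commutes] at h2
      have hs0 : (algebraMap (B p) K' s) ≠ 0 := (map_ne_zero_iff _ (IsFractionRing.injective (B p) K')).mpr fun h0 => hs (h0.symm ▸ zero_mem Q)
      have h3 : (s : K') * x = a := by
        rw [h2]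
        show algebraMap (B p) K' s * (algebraMap (B p) K' a * (algebraMap (B p) K' s)⁻¹) = _
        rw [mul_left_comm, mul_inv_cancel₀ hs0, mul_one]
        rfl
      rw [h3]
      exact a.2
  obtain ⟨F, hF⟩ := isCompact_univ.elim_finite_subcover (fun p => (bad p)ᶜ) (fun p => (hsetup p).1)
    fun p _ => Set.mem_iUnion.mpr ⟨p, (hsetup p).2.1⟩
  let N : Submodule A K' := ⨆ p ∈ F, (B p).toSubmodule
  have hNfg : N.FG := Submodule.fg_biSup F (fun p => (B p).toSubmodule) fun p _ => Module.Finite.iff_fg.mp (hBfin p)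
  have hCN : C.toSubmodule ≤ N := by
    intro x hx
    by_contra hxN
    let J : Ideal A := N.comap (LinearMap.toSpanSingleton A K' x)
    have hJ : J ≠ ⊤ := fun h => hxN (by simpa [J] using (h.symm ▸ Submodule.mem_top : (1 : A) ∈ J))
    obtain ⟨m, hm, hJm⟩ := Ideal.exists_le_maximal J hJ
    obtain ⟨p, hp⟩ := Set.mem_iUnion.mp (hF (Set.mem_univ (⟨m, hm.isPrime⟩ : PrimeSpectrum A)))
    obtain ⟨hpF, hp⟩ := Set.mem_iUnion.mp hp
    obtain ⟨t, ht, htx⟩ := (hsetup p).2.2 _ hp x hx
    exact ht (hJm (show t • x ∈ N from (le_biSup (fun p => (B p).toSubmodule) hpF) htx))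
  have : Module.Finite A N := Module.Finite.iff_fg.mpr hNfg
  have : IsNoetherian A N := inferInstance
  exact Module.Finite.of_injective (Submodule.inclusion hCN) (Submodule.inclusion_injective hCN)

end Groth.Agent.H05EGA4
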