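import Mathlib
import Groth.Prelude.Def_Found
import Groth.Agent.H05EGA4.GenericFibre
import Groth.Agent.H05EGA4.CompleteNormalization
import Groth.Agent.H02CA.RegularHom

/-!
# Complete Noetherian local rings are G-rings (helper5)
-/

set_option autoImplicit false
set_option linter.style.haveILetI false
set_option maxHeartbeats 800000
set_option synthInstance.maxHeartbeats 100000
universe u
open IsLocalRing TensorProduct Groth.Agent

namespace Groth.Agent.H05EGA4

section transfer

variable {R0 A : Type u} [CommRing R0] [IsNoetherianRing R0] [CommRing A] [Algebra R0 A] [Module.Finite R0 A]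
  (q : Ideal R0) [q.IsPrime] (pb : Ideal A) [pb.IsPrime]
  (C : Type u) [CommRing C] [IsLocalRing C] [IsNoetherianRing C] [IsAdicComplete (maximalIdeal C) C] [Algebra A C]

/-- Comparison of the completion of a localization of a finite algebra with the base-changed completion. -/
theorem exists_completion_finite_map (hq : pb.comap (algebraMap R0 A) = q)
    (hmax : pb.map (algebraMap A C) = maximalIdeal C)
    (hres : ∀ c : C, ∃ a t : A, t ∉ pb ∧ c * algebraMap A C t - algebraMap A C a ∈ maximalIdeal C)
    (hJ : ∀ (J : Ideal A) (a : A), algebraMap A C a ∈ J.map (algebraMap A C) → ∃ t ∉ pb, t * a ∈ J) :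
    ∃ Ψ : (A ⊗[R0] AdicCompletion (maximalIdeal (Localization.AtPrime q)) (Localization.AtPrime q)) →ₐ[A] C,
      Function.Surjective Ψ ∧ ∀ x, Ψ x = 0 → ∃ w, IsUnit (Ψ w) ∧ w * x = 0 := by
  classical
  let S := Localization.AtPrime q
  let Ŝ := AdicCompletion (maximalIdeal S) S
  have hcomapC : (maximalIdeal C).comap (algebraMap A C) = pb := by
    refine le_antisymm (fun t ht => by_contra fun htp => ?_) (Ideal.map_le_iff_le_comap.mp hmax.le)
    have ht' : algebraMap A C t ∈ pb.map (algebraMap A C) := hmax ▸ ht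
    obtain ⟨t', ht'p, hmem⟩ := hJ pb t ht'
    exact (‹pb.IsPrime›.mem_or_mem hmem).elim ht'p htp
  have hunit : ∀ t : A, t ∉ pb → IsUnit (algebraMap A C t) := fun t ht =>
    IsLocalRing.notMem_maximalIdeal.mp fun h => ht (hcomapC ▸ h)
  letI : Algebra R0 C := ((algebraMap A C).comp (algebraMap R0 A)).toAlgebra
  have : IsScalarTower R0 A C := IsScalarTower.of_algebraMap_eq fun r => rfl
  let ψ : S →+* C := IsLocalization.lift (M := q.primeCompl) (g := algebraMap R0 C)
    fun y => hunit _ fun h => y.2 (hq ▸ h)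
  have hψq : (maximalIdeal S).map ψ ≤ maximalIdeal C := by
    rw [← Localization.AtPrime.map_eq_maximalIdeal, Ideal.map_map, IsLocalization.lift_comp, Ideal.map_le_iff_le_comap]
    intro r hr
    show algebraMap A C (algebraMap R0 A r) ∈ maximalIdeal C
    rw [← Ideal.mem_comap, hcomapC, ← Ideal.mem_comap, hq]
    exact hr
  obtain ⟨Φ, hΦ⟩ := exists_completion_lift (maximalIdeal S) (maximalIdeal C) ψ hψq
  have hΦR : ∀ r : R0, Φ (algebraMap R0 Ŝ r) = algebraMap R0 C r := fun r => by
    rw [IsScalarTower.algebraMap_apply R0 S Ŝ]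
    exact (RingHom.congr_fun hΦ _).trans (IsLocalization.lift_eq _ _)
  let Φ' : Ŝ →ₐ[R0] C := { Φ with commutes' := hΦR }
  let D := A ⊗[R0] Ŝ
  let Ψ : D →ₐ[A] C := Algebra.TensorProduct.lift (Algebra.ofId A C) Φ' fun _ _ => Commute.all _ _
  have hΨ : ∀ a s, Ψ (a ⊗ₜ s) = algebraMap A C a * Φ s := fun a s => Algebra.TensorProduct.lift_tmul _ _ _ a s
  have hΨa : ∀ a, Ψ (a ⊗ₜ (1 : Ŝ)) = algebraMap A C a := fun a => by rw [hΨ, map_one, mul_one]
  have : IsNoetherianRing Ŝ := isNoetherianRing_adicCompletion S (maximalIdeal S)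
  have hŜ : IsAdicComplete (maximalIdeal Ŝ) Ŝ := by
    rw [AdicCompletion.maximalIdeal_eq_map]
    exact AdicCompletion.isAdicComplete_self _ (IsNoetherian.noetherian _)
  have hmapŜ : maximalIdeal Ŝ = q.map (algebraMap R0 Ŝ) := by
    rw [AdicCompletion.maximalIdeal_eq_map, IsScalarTower.algebraMap_eq R0 S Ŝ, ← Ideal.map_map]
    exact congrArg (Ideal.map _) Localization.AtPrime.map_eq_maximalIdeal.symm
  have hlocΦ : (maximalIdeal Ŝ).map Φ ≤ maximalIdeal C := by
    rw [hmapŜ, Ideal.map_map, show Φ.comp (algebraMap R0 Ŝ) = algebraMap R0 C from RingHom.ext hΦR]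
    refine Ideal.map_le_iff_le_comap.mpr fun r hr => ?_
    show algebraMap A C (algebraMap R0 A r) ∈ maximalIdeal C
    rw [← Ideal.mem_comap, hcomapC, ← Ideal.mem_comap, hq]
    exact hr
  have : IsLocalHom Φ := ((IsLocalRing.local_hom_TFAE Φ).out 0 2).mpr hlocΦ
  refine ⟨Ψ, ?_, ?_⟩
  · -- surjectivity
    letI : Algebra (ResidueField Ŝ) (ResidueField C) := (ResidueField.map Φ).toAlgebra
    let ρ : D →+* ResidueField C := (residue C).comp Ψ.toRingHom
    let T : Subalgebra (ResidueField Ŝ) (ResidueField C) :=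
      { ρ.range.toSubsemiring with
        algebraMap_mem' := fun k => by
          obtain ⟨s, rfl⟩ := residue_surjective k
          refine ⟨1 ⊗ₜ s, ?_⟩
          show residue C (Ψ (1 ⊗ₜ s)) = ResidueField.map Φ (residue Ŝ s)
          rw [ResidueField.map_residue, hΨ, map_one, one_mul] }
    have hres' : ∀ c : C, ∃ x, c - Ψ x ∈ maximalIdeal C := by
      intro c
      obtain ⟨a, t, ht, hc⟩ := hres c
      have halg : IsAlgebraic (ResidueField Ŝ) (residue C (algebraMap A C t)) := by
        refine IsIntegral.isAlgebraic ?_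
        exact (Algebra.IsIntegral.isIntegral (R := R0) t).map_of_comp_eq ((residue Ŝ).comp (algebraMap R0 Ŝ))
          ((residue C).comp (algebraMap A C)) (RingHom.ext fun r => by
            show ResidueField.map Φ (residue Ŝ (algebraMap R0 Ŝ r)) = residue C (algebraMap A C (algebraMap R0 A r))
            rw [ResidueField.map_residue, hΦR]; rfl)
      have htT : residue C (algebraMap A C t) ∈ T := ⟨t ⊗ₜ 1, congrArg (residue C) (hΨa t)⟩
      obtain ⟨y, hy⟩ : (residue C (algebraMap A C t))⁻¹ ∈ T := T.inv_mem_of_algebraic (x := ⟨_, htT⟩) halg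
      refine ⟨(a ⊗ₜ 1) * y, ?_⟩
      have hy' : residue C (Ψ y) = (residue C (algebraMap A C t))⁻¹ := hy
      have h1 : residue C c * residue C (algebraMap A C t) = residue C (algebraMap A C a) := by
        rw [← map_mul]; exact Ideal.Quotient.eq.mpr hc
      rw [← residue_eq_zero_iff, map_sub, map_mul Ψ, map_mul, hy', hΨa, ← h1,
        mul_inv_cancel_right₀ ((hunit t ht).map (residue C)).ne_zero, sub_self]
    have happrox : ∀ (k : ℕ) (c : C), ∃ x, c - Ψ x ∈ maximalIdeal C ^ k := by
      intro k
      induction k with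
      | zero => exact fun c => ⟨0, by simp⟩
      | succ k ih =>
        intro c
        obtain ⟨x, hx⟩ := ih c
        suffices h : ∀ y ∈ (pb ^ k).map (algebraMap A C), ∀ c : C, ∃ x, c * y - Ψ x ∈ maximalIdeal C ^ (k + 1) by
          obtain ⟨x', hx'⟩ := h (c - Ψ x) (by rw [Ideal.map_pow, hmax]; exact hx) 1
          exact ⟨x + x', by rw [map_add, ← sub_sub]; simpa using hx'⟩
        intro y hy
        induction hy using Submodule.span_induction with
        | mem y hy =>
          obtain ⟨a, ha, rfl⟩ := hy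
          intro c
          obtain ⟨x, hx⟩ := hres' c
          refine ⟨x * (a ⊗ₜ 1), ?_⟩
          rw [map_mul, hΨa, ← sub_mul, pow_succ']
          refine Ideal.mul_mem_mul hx ?_
          rw [← hmax, ← Ideal.map_pow]
          exact Ideal.mem_map_of_mem _ ha
        | zero => exact fun c => ⟨0, by simp⟩
        | add y y' _ _ hy hy' =>
          intro c
          obtain ⟨v, hv⟩ := hy c
          obtain ⟨w, hw⟩ := hy' c
          exact ⟨v + w, by rw [mul_add, map_add, add_sub_add_comm]; exact add_mem hv hw⟩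
        | smul d y _ ih => intro c; rw [smul_eq_mul, ← mul_assoc]; exact ih (c * d)
    obtain ⟨k, hk⟩ : ∃ k, maximalIdeal C ^ k ≤ q.map (algebraMap R0 C) := by
      refine Ideal.exists_pow_le_of_le_radical_of_fg ?_ (IsNoetherian.noetherian _)
      rw [← Ideal.sInf_minimalPrimes]
      refine le_sInf fun P hP => ?_
      have := hP.isPrime
      have h2 : P.comap (algebraMap A C) ≤ pb :=
        hcomapC ▸ Ideal.comap_mono (le_maximalIdeal (Ideal.IsPrime.ne_top inferInstance))
      have h3 : q ≤ (P.comap (algebraMap A C)).comap (algebraMap R0 A) := by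
        rw [Ideal.comap_comap]
        exact Ideal.map_le_iff_le_comap.mp hP.le
      have h4 : P.comap (algebraMap A C) = pb := by
        refine h2.eq_of_not_lt fun hlt => ?_
        have := Ideal.IsIntegral.comap_lt_comap (R := R0) hlt
        exact (lt_of_le_of_lt h3 this).ne hq.symm
      rw [← hmax, ← h4]
      exact Ideal.map_comap_le
    obtain ⟨m, g, hg⟩ := Module.Finite.exists_fin (R := R0) (M := A)
    letI : Algebra Ŝ C := Φ.toAlgebra
    have hHaus : IsHausdorff (maximalIdeal Ŝ) C := isHausdorff_of_pow_smul_le _ (maximalIdeal C) hlocΦ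
    let xs : Fin m → C := fun i => algebraMap A C (g i)
    have hspan : ∀ x, Ψ x ∈ Submodule.span Ŝ (Set.range xs) := by
      intro x
      induction x using TensorProduct.induction_on with
      | zero => rw [map_zero]; exact zero_mem _
      | add a b ha hb => rw [map_add]; exact add_mem ha hb
      | tmul a s =>
        rw [hΨ, mul_comm]
        refine Submodule.smul_mem _ s ?_
        have ha : a ∈ Submodule.span R0 (Set.range g) := hg ▸ Submodule.mem_top
        induction ha using Submodule.span_induction with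
        | mem a ha => obtain ⟨i, rfl⟩ := ha; exact Submodule.subset_span ⟨i, rfl⟩
        | zero => rw [map_zero]; exact zero_mem _
        | add a b _ _ ha hb => rw [map_add]; exact add_mem ha hb
        | smul r a _ ha =>
          have he : algebraMap A C (r • a) = algebraMap R0 Ŝ r • algebraMap A C a := by
            rw [Algebra.smul_def, map_mul]
            show _ = Φ (algebraMap R0 Ŝ r) * _
            rw [hΦR]; rfl
          rw [he]
          exact Submodule.smul_mem _ _ ha
    have htop : Submodule.span Ŝ (Set.range xs) = ⊤ := by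
      refine H24Adic.span_eq_top_of_sup_smul_eq_top (I := maximalIdeal Ŝ) xs (eq_top_iff.mpr fun c _ => ?_)
      obtain ⟨x, hx⟩ := happrox k c
      have h := Submodule.add_mem_sup (hspan x) (show c - Ψ x ∈ maximalIdeal Ŝ • (⊤ : Submodule Ŝ C) by
        rw [Ideal.smul_top_eq_map, Submodule.restrictScalars_mem, hmapŜ, Ideal.map_map,
          show (algebraMap Ŝ C).comp (algebraMap R0 Ŝ) = algebraMap R0 C from RingHom.ext hΦR]
        exact hk hx)
      rwa [add_sub_cancel] at h
    intro c
    have hc : c ∈ Submodule.span Ŝ (Set.range xs) := htop ▸ Submodule.mem_top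
    induction hc using Submodule.span_induction with
    | mem y hy => obtain ⟨i, rfl⟩ := hy; exact ⟨g i ⊗ₜ 1, hΨa _⟩
    | zero => exact ⟨0, map_zero _⟩
    | add a b _ _ ha hb => obtain ⟨v, rfl⟩ := ha; obtain ⟨w, rfl⟩ := hb; exact ⟨v + w, map_add _ _ _⟩
    | smul s y _ hy =>
      obtain ⟨v, rfl⟩ := hy
      refine ⟨(1 ⊗ₜ s) * v, ?_⟩
      rw [map_mul, hΨ, map_one, one_mul]; rfl
  · -- the kernel
    intro x hx
    have : Module.Finite Ŝ (Ŝ ⊗[R0] A) := inferInstance
    have : IsNoetherianRing (Ŝ ⊗[R0] A) := IsNoetherianRing.of_finite Ŝ _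
    have : IsNoetherianRing D := isNoetherianRing_of_ringEquiv _ (Algebra.TensorProduct.comm R0 Ŝ A).toRingEquiv
    have happrox : ∀ (n : ℕ) (y : D), ∃ s ∈ q.primeCompl, ∃ a : A,
        (1 ⊗ₜ algebraMap R0 Ŝ s) * y - a ⊗ₜ 1 ∈ (q ^ n).map (algebraMap R0 D) := by
      intro n y
      induction y using TensorProduct.induction_on with
      | zero => exact ⟨1, one_mem _, 0, by simp⟩
      | tmul a c =>
        obtain ⟨e, he⟩ := H24Adic.exists_sub_of_mem (IsNoetherian.noetherian (maximalIdeal S)) n c
        obtain ⟨⟨r, s, hs⟩, hrs⟩ := IsLocalization.surj q.primeCompl e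
        refine ⟨s, hs, r • a, ?_⟩
        have he' : algebraMap R0 Ŝ s * c - algebraMap R0 Ŝ r ∈ (q ^ n).map (algebraMap R0 Ŝ) := by
          have h1 : algebraMap R0 Ŝ s * (c - algebraMap S Ŝ e) ∈ (q ^ n).map (algebraMap R0 Ŝ) := by
            refine Ideal.mul_mem_left _ _ ?_
            rwa [IsScalarTower.algebraMap_eq R0 S Ŝ, ← Ideal.map_map, Ideal.map_pow,
              Localization.AtPrime.map_eq_maximalIdeal]
          rwa [mul_sub, IsScalarTower.algebraMap_apply R0 S Ŝ s, ← map_mul (algebraMap S Ŝ) _ e, mul_comm _ e, hrs,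
            ← IsScalarTower.algebraMap_apply, ← IsScalarTower.algebraMap_apply] at h1
        rw [Algebra.TensorProduct.tmul_mul_tmul, one_mul, TensorProduct.smul_tmul, ← Algebra.algebraMap_eq_smul_one,
          ← TensorProduct.tmul_sub, show a ⊗ₜ[R0] (algebraMap R0 Ŝ s * c - algebraMap R0 Ŝ r) =
            (a ⊗ₜ 1) * (1 ⊗ₜ (algebraMap R0 Ŝ s * c - algebraMap R0 Ŝ r)) by
              rw [Algebra.TensorProduct.tmul_mul_tmul, mul_one, one_mul]]
        refine Ideal.mul_mem_left _ _ ?_
        have := Ideal.mem_map_of_mem (Algebra.TensorProduct.includeRight (R := R0) (A := A) (B := Ŝ)).toRingHom he'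
        rwa [Ideal.map_map, AlgHom.toRingHom_eq_coe, AlgHom.comp_algebraMap] at this
      | add y y' hy hy' =>
        obtain ⟨s, hs, a, ha⟩ := hy
        obtain ⟨s', hs', a', ha'⟩ := hy'
        refine ⟨s * s', mul_mem hs hs', s' • a + s • a', ?_⟩
        have h1 : ∀ (t : R0) (b : A), ((1 : A) ⊗ₜ[R0] algebraMap R0 Ŝ t) * (b ⊗ₜ 1) = (t • b) ⊗ₜ 1 := fun t b => by
          rw [Algebra.TensorProduct.tmul_mul_tmul, one_mul, mul_one, Algebra.algebraMap_eq_smul_one, TensorProduct.smul_tmul]
        have h2 := add_mem (Ideal.mul_mem_left _ ((1 : A) ⊗ₜ[R0] algebraMap R0 Ŝ s') ha)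
          (Ideal.mul_mem_left _ ((1 : A) ⊗ₜ[R0] algebraMap R0 Ŝ s) ha')
        have h3 : ((1 : A) ⊗ₜ[R0] algebraMap R0 Ŝ (s * s')) = (1 ⊗ₜ algebraMap R0 Ŝ s) * (1 ⊗ₜ algebraMap R0 Ŝ s') := by
          rw [Algebra.TensorProduct.tmul_mul_tmul, one_mul, map_mul]
        rw [h3, TensorProduct.add_tmul, ← h1, ← h1]
        convert h2 using 1
        ring
    let N := (maximalIdeal C).comap Ψ.toRingHom
    have : N.IsPrime := Ideal.IsPrime.comap _
    have hzero : algebraMap D (Localization.AtPrime N) x = 0 := by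
      have hJne : (q.map (algebraMap R0 D)).map (algebraMap D (Localization.AtPrime N)) ≠ ⊤ := by
        refine ne_top_of_le_ne_top (maximalIdeal.isMaximal _).ne_top
          (le_of_le_of_eq ?_ (Localization.AtPrime.map_eq_maximalIdeal (I := N)))
        refine Ideal.map_mono (Ideal.map_le_iff_le_comap.mpr fun r hr => ?_)
        show Ψ (algebraMap R0 A r ⊗ₜ 1) ∈ maximalIdeal C
        rw [hΨa, ← Ideal.mem_comap, hcomapC, ← Ideal.mem_comap, hq]
        exact hr
      refine Submodule.mem_bot (R := Localization.AtPrime N) |>.mp ?_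
      refine (Ideal.ext_iff.mp (Ideal.iInf_pow_eq_bot_of_isLocalRing (R := Localization.AtPrime N) _ hJne) _).mp ?_
      rw [Submodule.mem_iInf]
      intro n
      obtain ⟨s, hs, a, ha⟩ := happrox n x
      have hmemC : algebraMap A C a ∈ ((q ^ n).map (algebraMap R0 A)).map (algebraMap A C) := by
        have := Ideal.mem_map_of_mem Ψ.toRingHom ha
        rw [Ideal.map_map, AlgHom.toRingHom_eq_coe, RingHom.coe_coe, map_sub, map_mul, hx, mul_zero, zero_sub, hΨa,
          Ideal.neg_mem_iff] at this
        rw [Ideal.map_map]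
        convert this using 2
        exact RingHom.ext fun r => (Ψ.commutes _).symm
      obtain ⟨t, ht, hta⟩ := hJ _ a hmemC
      have h1 : (t ⊗ₜ[R0] (1 : Ŝ)) * (1 ⊗ₜ algebraMap R0 Ŝ s) * x ∈ (q ^ n).map (algebraMap R0 D) := by
        have h2 : (t * a) ⊗ₜ[R0] (1 : Ŝ) ∈ (q ^ n).map (algebraMap R0 D) := by
          have := Ideal.mem_map_of_mem (Algebra.TensorProduct.includeLeft (R := R0) (S := R0) (A := A) (B := Ŝ)).toRingHom hta
          rwa [Ideal.map_map, AlgHom.toRingHom_eq_coe, AlgHom.comp_algebraMap] at this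
        have h3 := add_mem (Ideal.mul_mem_left _ (t ⊗ₜ[R0] (1 : Ŝ)) ha) h2
        rwa [mul_sub, Algebra.TensorProduct.tmul_mul_tmul t a (1 : Ŝ) 1, one_mul, sub_add_cancel, ← mul_assoc] at h3
      have hu : IsUnit (algebraMap D (Localization.AtPrime N) ((t ⊗ₜ[R0] (1 : Ŝ)) * (1 ⊗ₜ algebraMap R0 Ŝ s))) := by
        refine IsLocalization.map_units _ (⟨_, fun h => ?_⟩ : N.primeCompl)
        have h' : Ψ ((t ⊗ₜ[R0] (1 : Ŝ)) * (1 ⊗ₜ algebraMap R0 Ŝ s)) ∈ maximalIdeal C := h
        rw [map_mul, hΨa, hΨ, map_one, one_mul, hΦR] at h'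
        exact h' ((hunit t ht).mul (hunit _ fun h'' => hs (hq ▸ h'')))
      have h4 := Ideal.mem_map_of_mem (algebraMap D (Localization.AtPrime N)) h1
      rw [map_mul, Ideal.map_pow, Ideal.map_pow] at h4
      exact (Ideal.unit_mul_mem_iff_mem _ hu).mp h4
    obtain ⟨w, hw⟩ := (IsLocalization.map_eq_zero_iff N.primeCompl (Localization.AtPrime N) x).mp hzero
    exact ⟨w, IsLocalRing.notMem_maximalIdeal.mp w.2, hw⟩

/-- Transfer of regularity of generic fibres along finite maps. -/
theorem isRegularRing_tensor_transfer (hq : pb.comap (algebraMap R0 A) = q)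
    (hmax : pb.map (algebraMap A C) = maximalIdeal C)
    (hres : ∀ c : C, ∃ a t : A, t ∉ pb ∧ c * algebraMap A C t - algebraMap A C a ∈ maximalIdeal C)
    (hJ : ∀ (J : Ideal A) (a : A), algebraMap A C a ∈ J.map (algebraMap A C) → ∃ t ∉ pb, t * a ∈ J)
    (L : Type u) [CommRing L] [Algebra A L] [Algebra R0 L] [IsScalarTower R0 A L]
    [IsRegularRing (L ⊗[R0] AdicCompletion (maximalIdeal (Localization.AtPrime q)) (Localization.AtPrime q))] :
    IsRegularRing (L ⊗[A] C) := by
  obtain ⟨Ψ, hsur, hker⟩ := exists_completion_finite_map q pb C hq hmax hres hJ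
  let Ŝ := AdicCompletion (maximalIdeal (Localization.AtPrime q)) (Localization.AtPrime q)
  have hG0 : IsRegularRing (L ⊗[A] (A ⊗[R0] Ŝ)) :=
    IsRegularRing.of_ringEquiv (Algebra.TensorProduct.cancelBaseChange R0 A L L Ŝ).symm.toRingEquiv
  let f := Algebra.TensorProduct.map (AlgHom.id A L) Ψ
  have hf : Function.Surjective f := by
    intro z
    induction z using TensorProduct.induction_on with
    | zero => exact ⟨0, map_zero _⟩
    | add a b ha hb => obtain ⟨v, rfl⟩ := ha; obtain ⟨w, rfl⟩ := hb; exact ⟨v + w, map_add _ _ _⟩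
    | tmul l c => obtain ⟨d, rfl⟩ := hsur c; exact ⟨l ⊗ₜ d, rfl⟩
  have hfker : ∀ z, f z = 0 → ∃ u, IsUnit (f u) ∧ u * z = 0 := by
    intro z hz
    have hz' : z ∈ (RingHom.ker Ψ).map (Algebra.TensorProduct.includeRight (R := A) (A := L) (B := A ⊗[R0] Ŝ)) := by
      rw [← Algebra.TensorProduct.lTensor_ker Ψ hsur]
      exact hz
    clear hz
    induction hz' using Submodule.span_induction with
    | mem y hy =>
      obtain ⟨x, hx, rfl⟩ := hy
      obtain ⟨w, hw, hwx⟩ := hker x hx
      refine ⟨1 ⊗ₜ w, ?_, ?_⟩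
      · rw [Algebra.TensorProduct.map_tmul]
        exact hw.map (Algebra.TensorProduct.includeRight (R := A) (A := L) (B := C))
      · show (1 ⊗ₜ w) * ((1 : L) ⊗ₜ[A] x) = 0
        rw [Algebra.TensorProduct.tmul_mul_tmul, hwx, TensorProduct.tmul_zero]
    | zero => exact ⟨1, by rw [map_one]; exact isUnit_one, mul_zero _⟩
    | add y y' _ _ hy hy' =>
      obtain ⟨u, hu, huy⟩ := hy
      obtain ⟨u', hu', huy'⟩ := hy'
      exact ⟨u * u', by rw [map_mul]; exact hu.mul hu', by linear_combination u' * huy + u * huy'⟩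
    | smul c y _ hy =>
      obtain ⟨u, hu, huy⟩ := hy
      exact ⟨u, hu, by rw [smul_eq_mul]; linear_combination c * huy⟩
  letI : Algebra (L ⊗[A] (A ⊗[R0] Ŝ)) (L ⊗[A] C) := f.toRingHom.toAlgebra
  let M : Submonoid (L ⊗[A] (A ⊗[R0] Ŝ)) :=
    { carrier := {x | IsUnit (f x)}
      one_mem' := by show IsUnit (f 1); rw [map_one]; exact isUnit_one
      mul_mem' := fun {a b} ha hb => by show IsUnit (f (a * b)); rw [map_mul]; exact IsUnit.mul ha hb }
  have : IsLocalization M (L ⊗[A] C) :=
    ⟨⟨fun y => y.2, fun z => ⟨⟨(hf z).choose, 1⟩, by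
      show z * f _ = f _
      rw [(hf z).choose_spec]; simp⟩, fun {x y} h => by
      obtain ⟨u, hu, huy⟩ := hfker (x - y) (by rw [map_sub]; exact sub_eq_zero.mpr h)
      exact ⟨⟨u, hu⟩, sub_eq_zero.mp (by rw [← mul_sub]; exact huy)⟩⟩⟩
  exact H02CA.isRegularRing_of_isLocalization (S := L ⊗[A] (A ⊗[R0] Ŝ)) (T := L ⊗[A] C) M

end transfer

/-- Geometric regularity of the generic formal fibres of power series rings over coefficient rings. -/
theorem isRegularRing_tensor_mvPowerSeries {Λ : Type u} [CommRing Λ] (n : ℕ)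
    (hΛ : (IsField Λ ∧ ∃ c, CharP Λ c) ∨ (CAlg.IsCohenRing Λ ∧ CharZero Λ))
    (q : Ideal (MvPowerSeries (Fin n) Λ)) [q.IsPrime] [IsDomain (MvPowerSeries (Fin n) Λ)]
    (L : Type u) [Field L] [Algebra (MvPowerSeries (Fin n) Λ) L] [Algebra (FractionRing (MvPowerSeries (Fin n) Λ)) L]
    [IsScalarTower (MvPowerSeries (Fin n) Λ) (FractionRing (MvPowerSeries (Fin n) Λ)) L]
    [FiniteDimensional (FractionRing (MvPowerSeries (Fin n) Λ)) L] :
    IsRegularRing (L ⊗[MvPowerSeries (Fin n) Λ]
      AdicCompletion (maximalIdeal (Localization.AtPrime q)) (Localization.AtPrime q)) := by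
  obtain ⟨_, _, _, -⟩ := coefficientRing_spec (hΛ.imp And.left And.left)
  let R := MvPowerSeries (Fin n) Λ
  let K := FractionRing R
  let C := AdicCompletion (maximalIdeal (Localization.AtPrime q)) (Localization.AtPrime q)
  have hreg : IsRegularRing R :=
    @S5784.result Λ _ (isRegularRing_of_isField_or_isCohenRing (hΛ.imp And.left And.left)) n
  have : IsRegularLocalRing R := IsRegularLocalRing.of_isRegularRing_of_isLocalRing _
  have : IsIntegrallyClosed R := isIntegrallyClosed_of_isRegularLocalRing _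
  have : IsRegularLocalRing (Localization.AtPrime q) := isRegularRing_iff.mp hreg q
  have : IsRegularRing (Localization.AtPrime q) := isRegularRing_of_isRegularLocalRing _
  have : IsRegularRing C := isRegularRing_adicCompletion _ (maximalIdeal (Localization.AtPrime q))
  have hB : IsRegularRing (K ⊗[R] C) := by
    letI : Algebra C (K ⊗[R] C) := Algebra.TensorProduct.rightAlgebra
    have : IsLocalization (Algebra.algebraMapSubmonoid C (nonZeroDivisors R)) (K ⊗[R] C) :=
      IsLocalization.tensorRight K (nonZeroDivisors R)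
    exact H02CA.isRegularRing_of_isLocalization (Algebra.algebraMapSubmonoid C (nonZeroDivisors R))
  have hC : Function.Injective ((algebraMap R K).comp MvPowerSeries.C) :=
    (IsFractionRing.injective R K).comp MvPowerSeries.C_injective
  have hcase : CharZero K ∨ ∃ p : ℕ, p.Prime ∧ IsField Λ ∧ CharP Λ p := by
    rcases hΛ with ⟨hF, c, hc⟩ | ⟨-, h0⟩
    · rcases CharP.char_is_prime_or_zero Λ c with hp | rfl
      · exact Or.inr ⟨_, hp, hF, hc⟩
      · have : CharZero Λ := CharP.charP_to_charZero Λ
        exact Or.inl (charZero_of_injective_ringHom hC)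
    · exact Or.inl (charZero_of_injective_ringHom hC)
  rcases hcase with h0 | ⟨p, hp, hF, hc⟩
  · exact (isRegularRing_cancel_iff R K L C).mp
      (have : Algebra.IsSeparable K L := Algebra.IsSeparable.of_integral K L
       isRegularRing_tensor_of_separable K L (K ⊗[R] C))
  · have : Fact p.Prime := ⟨hp⟩
    letI := hF.toField
    have : CharP K p := charP_of_injective_ringHom (f := (algebraMap R K).comp MvPowerSeries.C) hC p
    have hfull : IsFull R K p := by
      let e : MvPowerSeries (ULift.{u} (Fin n)) Λ ≃+* R :=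
        (MvPowerSeries.renameEquiv (R := Λ) Equiv.ulift).toRingEquiv
      letI : Algebra (MvPowerSeries (ULift.{u} (Fin n)) Λ) K := ((algebraMap R K).comp e.toRingHom).toAlgebra
      have : IsFractionRing (MvPowerSeries (ULift.{u} (Fin n)) Λ) K :=
        IsFractionRing.of_ringEquiv_left e (fun _ => rfl)
      intro c hc'
      refine isFull_mvPowerSeries (σ := ULift.{u} (Fin n)) (k := Λ) p K c fun D hD => hc' D ?_
      obtain ⟨s, hs, hsD⟩ := hD
      refine ⟨e s, hs, fun r => ?_⟩
      obtain ⟨r', hr'⟩ := hsD (e.symm r)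
      refine ⟨e r', hr'.trans ?_⟩
      show algebraMap _ K (e s) * D (algebraMap _ K (e (e.symm r))) = _
      rw [e.apply_symm_apply]
    exact isRegularRing_tensor_of_finite p R K L C ⟨inferInstance, inferInstance, hfull, derivExt_completion R q, hB⟩

/-- Complete Noetherian local rings are G-rings. -/
theorem isGRing_of_isAdicComplete (R : Type u) [CommRing R] [IsLocalRing R] [IsNoetherianRing R]
    [IsAdicComplete (maximalIdeal R) R] : CAlg.IsGRing R := by
  refine ⟨inferInstance, fun p hp => ?_⟩
  let S := Localization.AtPrime p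
  let C := AdicCompletion (maximalIdeal S) S
  have : IsNoetherianRing C := isNoetherianRing_adicCompletion S (maximalIdeal S)
  have : Module.Flat S C := AdicCompletion.flat_of_isNoetherian _
  refine H02CA.isRegularHom_of_forall (fun P _ => ?_) fun P _ k' _ _ _ _ _ => ?_
  · have : IsNoetherianRing (C ⊗[S] P.ResidueField) :=
      Algebra.EssFiniteType.isNoetherianRing C (C ⊗[S] P.ResidueField)
    exact isNoetherianRing_of_ringEquiv _ (Algebra.TensorProduct.comm S C P.ResidueField).toRingEquiv
  let P0 := P.comap (algebraMap R S)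
  let A := R ⧸ P0
  have hP0p : P0 ≤ p := by
    rw [← IsLocalization.AtPrime.under_maximalIdeal S p]
    exact Ideal.comap_mono (le_maximalIdeal (Ideal.IsPrime.ne_top inferInstance))
  let pb : Ideal A := p.map (Ideal.Quotient.mk P0)
  have : pb.IsPrime := Ideal.map_isPrime_of_surjective Ideal.Quotient.mk_surjective (by rwa [Ideal.mk_ker])
  have hpb : pb.comap (Ideal.Quotient.mk P0) = p := by
    rw [Ideal.comap_map_of_surjective' _ Ideal.Quotient.mk_surjective, Ideal.mk_ker, sup_eq_left]; exact hP0p
  have : IsLocalRing A := .of_surjective' _ Ideal.Quotient.mk_surjective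
  obtain ⟨_, _⟩ := isAdicComplete_of_finite_domain (A := R) (A' := A)
  obtain ⟨Λ, _, n, f, hΛ, hinj, hfin, -⟩ := exists_coefficientRing_of_domain A
  obtain ⟨_, _, _, -⟩ := coefficientRing_spec (hΛ.imp And.left And.left)
  let R0 := MvPowerSeries (Fin n) Λ
  have : IsDomain R0 := NoZeroDivisors.to_isDomain _
  letI : Algebra R0 A := f.toAlgebra
  have : Module.Finite R0 A := hfin
  have : IsRegularRing R0 :=
    @S5784.result Λ _ (isRegularRing_of_isField_or_isCohenRing (hΛ.imp And.left And.left)) n
  let q := pb.comap (algebraMap R0 A)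
  -- the fibre of the completion
  let PC : Ideal C := P0.map (algebraMap R C)
  let C' := C ⧸ PC
  have hPC : PC ≤ maximalIdeal C := by
    refine Ideal.map_le_iff_le_comap.mpr fun r hr => ?_
    show algebraMap R C r ∈ maximalIdeal C
    rw [IsScalarTower.algebraMap_apply R S C, AdicCompletion.maximalIdeal_eq_map]
    exact Ideal.mem_map_of_mem _ ((IsLocalization.AtPrime.to_map_mem_maximal_iff S p r).mpr (hP0p hr))
  have : Nontrivial C' := Ideal.Quotient.nontrivial_iff.mpr (ne_top_of_le_ne_top (maximalIdeal.isMaximal C).ne_top hPC)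
  have : IsLocalRing C' := .of_surjective' _ Ideal.Quotient.mk_surjective
  have hC : IsAdicComplete (maximalIdeal C) C := by
    rw [AdicCompletion.maximalIdeal_eq_map]
    exact AdicCompletion.isAdicComplete_self _ (IsNoetherian.noetherian _)
  have hC' : IsAdicComplete (maximalIdeal C') C' := by
    rw [← IsLocalRing.map_maximalIdeal_of_surjective _ (Ideal.Quotient.mk_surjective (I := PC))]
    exact H24Adic.isAdicComplete_map_quotient PC
  letI : Algebra A C' := (Ideal.quotientMap PC (algebraMap R C) Ideal.le_comap_map).toAlgebra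
  have hAC : ∀ r : R, algebraMap A C' (Ideal.Quotient.mk P0 r) = Ideal.Quotient.mk PC (algebraMap R C r) :=
    fun r => rfl
  have hcompAC : (algebraMap A C').comp (Ideal.Quotient.mk P0) = (Ideal.Quotient.mk PC).comp (algebraMap R C) :=
    RingHom.ext hAC
  have hmax : pb.map (algebraMap A C') = maximalIdeal C' := by
    rw [Ideal.map_map, hcompAC, ← Ideal.map_map, IsScalarTower.algebraMap_eq R S C, ← Ideal.map_map,
      Localization.AtPrime.map_eq_maximalIdeal, ← AdicCompletion.maximalIdeal_eq_map,
      IsLocalRing.map_maximalIdeal_of_surjective _ (Ideal.Quotient.mk_surjective (I := PC))]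
  have hres : ∀ c : C', ∃ a t : A, t ∉ pb ∧ c * algebraMap A C' t - algebraMap A C' a ∈ maximalIdeal C' := by
    intro c'
    obtain ⟨c, rfl⟩ := Ideal.Quotient.mk_surjective c'
    obtain ⟨e, he⟩ := H24Adic.exists_sub_of_mem (IsNoetherian.noetherian (maximalIdeal S)) 1 c
    obtain ⟨⟨r, s, hs⟩, hrs⟩ := IsLocalization.surj p.primeCompl e
    refine ⟨Ideal.Quotient.mk P0 r, Ideal.Quotient.mk P0 s, fun h => hs (by rw [← hpb]; exact h), ?_⟩
    rw [hAC, hAC, ← map_mul, ← map_sub, ← IsLocalRing.map_maximalIdeal_of_surjective _ (Ideal.Quotient.mk_surjective (I := PC))]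
    refine Ideal.mem_map_of_mem _ ?_
    rw [IsScalarTower.algebraMap_apply R S C r, ← hrs, map_mul, ← IsScalarTower.algebraMap_apply, ← sub_mul]
    refine Ideal.mul_mem_right _ _ ?_
    rw [AdicCompletion.maximalIdeal_eq_map]
    simpa using he
  have hJ : ∀ (J : Ideal A) (a : A), algebraMap A C' a ∈ J.map (algebraMap A C') → ∃ t ∉ pb, t * a ∈ J := by
    intro J a ha
    obtain ⟨r, rfl⟩ := Ideal.Quotient.mk_surjective a
    let J0 := J.comap (Ideal.Quotient.mk P0)
    have hP0J : P0 ≤ J0 := fun y hy => by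
      show Ideal.Quotient.mk P0 y ∈ J
      rw [Ideal.Quotient.eq_zero_iff_mem.mpr hy]
      exact zero_mem _
    rw [← Ideal.map_comap_of_surjective _ Ideal.Quotient.mk_surjective J, Ideal.map_map, hcompAC, ← Ideal.map_map, hAC,
      ← Ideal.mem_comap, Ideal.comap_map_of_surjective' _ Ideal.Quotient.mk_surjective, Ideal.mk_ker,
      sup_eq_left.mpr (Ideal.map_mono hP0J)] at ha
    have : Module.FaithfullyFlat S C := Module.FaithfullyFlat.of_flat_of_isLocalHom
    have hr : algebraMap R S r ∈ J0.map (algebraMap R S) := by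
      rw [← Ideal.comap_map_eq_self_of_faithfullyFlat (B := C) (J0.map (algebraMap R S)), Ideal.mem_comap,
        Ideal.map_map, ← IsScalarTower.algebraMap_eq, ← IsScalarTower.algebraMap_apply]
      exact ha
    obtain ⟨t, ht, htr⟩ := (IsLocalization.algebraMap_mem_map_algebraMap_iff p.primeCompl S J0 r).mp hr
    exact ⟨Ideal.Quotient.mk P0 t, fun h => ht (by rw [← hpb]; exact h), by rw [← map_mul]; exact htr⟩
  -- the residue extension
  letI : Algebra R k' := ((algebraMap S k').comp (algebraMap R S)).toAlgebra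
  let ι : A →+* P.ResidueField := Ideal.Quotient.lift P0 ((algebraMap S P.ResidueField).comp (algebraMap R S))
    fun r hr => Ideal.algebraMap_residueField_eq_zero.mpr hr
  have hι : Function.Injective ι := RingHom.lift_injective_of_ker_le_ideal _ _ fun r hr => by
    rw [RingHom.mem_ker, RingHom.comp_apply, Ideal.algebraMap_residueField_eq_zero] at hr
    exact hr
  letI : Algebra A k' := ((algebraMap P.ResidueField k').comp ι).toAlgebra
  letI : Algebra R0 k' := ((algebraMap A k').comp (algebraMap R0 A)).toAlgebra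
  have : IsScalarTower R0 A k' := IsScalarTower.of_algebraMap_eq fun _ => rfl
  have hA : ∀ r : R, algebraMap A k' (Ideal.Quotient.mk P0 r) = algebraMap S k' (algebraMap R S r) := fun r => by
    show algebraMap P.ResidueField k' (algebraMap S P.ResidueField (algebraMap R S r)) = _
    rw [← IsScalarTower.algebraMap_apply]
  have hAk : Function.Injective (algebraMap A k') := (algebraMap P.ResidueField k').injective.comp hι
  let K0 := FractionRing R0
  let K1 := FractionRing A
  let j : K1 →+* P.ResidueField := IsFractionRing.lift hι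
  have hj : Function.Surjective j := by
    intro z
    obtain ⟨x, y, hy, rfl⟩ := IsFractionRing.div_surjective (A := S ⧸ P) z
    obtain ⟨x, rfl⟩ := Ideal.Quotient.mk_surjective x
    obtain ⟨y, rfl⟩ := Ideal.Quotient.mk_surjective y
    have key : ∀ x : S, algebraMap S P.ResidueField x ∈ j.range := fun x => by
      obtain ⟨⟨r, s, hs⟩, hrs⟩ := IsLocalization.surj p.primeCompl x
      refine ⟨algebraMap A K1 (Ideal.Quotient.mk P0 r) / algebraMap A K1 (Ideal.Quotient.mk P0 s), ?_⟩
      rw [map_div₀, IsFractionRing.lift_algebraMap, IsFractionRing.lift_algebraMap]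
      show algebraMap S P.ResidueField (algebraMap R S r) / algebraMap S P.ResidueField (algebraMap R S s) = _
      rw [← hrs, map_mul, mul_div_assoc, div_self, mul_one]
      exact ((IsLocalization.map_units S (⟨s, hs⟩ : p.primeCompl)).map _).ne_zero
    obtain ⟨v, hv⟩ := key x
    obtain ⟨w, hw⟩ := key y
    exact ⟨v / w, by rw [map_div₀, hv, hw]; rfl⟩
  letI : Algebra K1 P.ResidueField := j.toAlgebra
  have : Module.Finite K1 P.ResidueField := Module.Finite.of_surjective (Algebra.linearMap K1 P.ResidueField) hj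
  letI : Algebra K1 k' := ((algebraMap P.ResidueField k').comp j).toAlgebra
  have : IsScalarTower K1 P.ResidueField k' := IsScalarTower.of_algebraMap_eq fun _ => rfl
  have : Module.Finite K1 k' := Module.Finite.trans P.ResidueField k'
  have : IsScalarTower A K1 k' := IsScalarTower.of_algebraMap_eq fun a => by
    show algebraMap P.ResidueField k' (ι a) = algebraMap P.ResidueField k' (j (algebraMap A K1 a))
    rw [IsFractionRing.lift_algebraMap]
  have : FaithfulSMul R0 K1 := by
    refine (faithfulSMul_iff_algebraMap_injective _ _).mpr ?_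
    rw [IsScalarTower.algebraMap_eq R0 A K1]
    exact (IsFractionRing.injective A K1).comp hinj
  letI : Algebra K0 K1 := FractionRing.liftAlgebra _ _
  have : Algebra.IsIntegral R0 A := Algebra.IsIntegral.of_finite _ _
  have : FiniteDimensional K0 K1 := by
    have : FaithfulSMul R0 A := (faithfulSMul_iff_algebraMap_injective _ _).mpr hinj
    have : Algebra.IsAlgebraic R0 A := inferInstance
    have hloc : IsLocalization (Algebra.algebraMapSubmonoid A (nonZeroDivisors R0)) K1 := inferInstance
    exact Module.Finite.of_isLocalizedModule (nonZeroDivisors R0) (IsScalarTower.toAlgHom R0 A K1).toLinearMap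
  letI : Algebra K0 k' := ((algebraMap K1 k').comp (algebraMap K0 K1)).toAlgebra
  have : IsScalarTower K0 K1 k' := IsScalarTower.of_algebraMap_eq fun _ => rfl
  have : IsScalarTower R0 K0 k' := IsScalarTower.of_algebraMap_eq fun r => by
    rw [IsScalarTower.algebraMap_apply K0 K1 k', ← IsScalarTower.algebraMap_apply R0 K0 K1,
      IsScalarTower.algebraMap_apply R0 A K1, ← IsScalarTower.algebraMap_apply A K1 k',
      ← IsScalarTower.algebraMap_apply]
  have : FiniteDimensional K0 k' := Module.Finite.trans K1 k'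
  have := isRegularRing_tensor_mvPowerSeries n (hΛ.imp (fun h => ⟨h.1, _, h.2⟩) id) q k'
  have hG : IsRegularRing (k' ⊗[A] C') := isRegularRing_tensor_transfer q pb C' rfl hmax hres hJ k'
  -- identification
  have hcompat : ∀ x : S, algebraMap S k' x ⊗ₜ[A] (1 : C') =
      (1 : k') ⊗ₜ[A] Ideal.Quotient.mk PC (algebraMap S C x) := by
    intro x
    refine RingHom.congr_fun (IsLocalization.ringHom_ext p.primeCompl
      (j := (Algebra.TensorProduct.includeLeft (R := A) (S := A) (A := k') (B := C')).toRingHom.comp (algebraMap S k'))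
      (k := (Algebra.TensorProduct.includeRight (R := A) (A := k') (B := C')).toRingHom.comp
        ((Ideal.Quotient.mk PC).comp (algebraMap S C))) (RingHom.ext fun r => ?_)) x
    show algebraMap S k' (algebraMap R S r) ⊗ₜ[A] (1 : C') = (1 : k') ⊗ₜ[A] Ideal.Quotient.mk PC (algebraMap S C (algebraMap R S r))
    rw [← IsScalarTower.algebraMap_apply R S C, ← hA, ← hAC, Algebra.algebraMap_eq_smul_one,
      Algebra.algebraMap_eq_smul_one (R := A) (A := C'), TensorProduct.smul_tmul]
  let fwd : k' ⊗[S] C →+* k' ⊗[A] C' :=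
    (Algebra.TensorProduct.lift
      ({ (Algebra.TensorProduct.includeLeft (R := A) (S := A) (A := k') (B := C')).toRingHom with commutes' := fun _ => rfl } : k' →ₐ[S] k' ⊗[A] C')
      ({ (Algebra.TensorProduct.includeRight (R := A) (A := k') (B := C')).toRingHom.comp (Ideal.Quotient.mk PC) with
          commutes' := fun x => (hcompat x).symm } : C →ₐ[S] k' ⊗[A] C')
      fun _ _ => Commute.all _ _).toRingHom
  have hPC0 : ∀ c ∈ PC, (Algebra.TensorProduct.includeRight (R := S) (A := k') (B := C)) c = 0 := by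
    intro c hc
    rw [← RingHom.mem_ker]
    refine Ideal.map_le_iff_le_comap.mpr (fun r hr => ?_) hc
    show (1 : k') ⊗ₜ[S] algebraMap R C r = 0
    rw [IsScalarTower.algebraMap_apply R S C, Algebra.algebraMap_eq_smul_one (R := S) (A := C), ← TensorProduct.smul_tmul,
      ← Algebra.algebraMap_eq_smul_one, ← hA, Ideal.Quotient.eq_zero_iff_mem.mpr hr, map_zero, TensorProduct.zero_tmul]
  let bwd : k' ⊗[A] C' →+* k' ⊗[S] C :=
    (Algebra.TensorProduct.lift (Algebra.TensorProduct.includeLeft (R := S) (S := A) (A := k') (B := C))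
      ({ Ideal.Quotient.lift PC (Algebra.TensorProduct.includeRight (R := S) (A := k') (B := C)).toRingHom hPC0 with
          commutes' := fun a => by
            obtain ⟨r, rfl⟩ := Ideal.Quotient.mk_surjective a
            show (1 : k') ⊗ₜ[S] algebraMap R C r = algebraMap A k' (Ideal.Quotient.mk P0 r) ⊗ₜ[S] (1 : C)
            rw [hA, IsScalarTower.algebraMap_apply R S C, Algebra.algebraMap_eq_smul_one (R := S) (A := C),
              ← TensorProduct.smul_tmul, ← Algebra.algebraMap_eq_smul_one] } : C' →ₐ[A] k' ⊗[S] C)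
      fun _ _ => Commute.all _ _).toRingHom
  have hfb : ∀ z, fwd (bwd z) = z := by
    intro z
    induction z using TensorProduct.induction_on with
    | zero => simp
    | add a b ha hb => rw [map_add, map_add, ha, hb]
    | tmul l c =>
      obtain ⟨c, rfl⟩ := Ideal.Quotient.mk_surjective c
      simp [fwd, bwd, Algebra.TensorProduct.tmul_mul_tmul]
      erw [Ideal.Quotient.lift_mk]
      simp [Algebra.TensorProduct.tmul_mul_tmul]
  have hbf : ∀ z, bwd (fwd z) = z := by
    intro z
    induction z using TensorProduct.induction_on with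
    | zero => simp
    | add a b ha hb => rw [map_add, map_add, ha, hb]
    | tmul l c =>
      simp [fwd, bwd, Algebra.TensorProduct.tmul_mul_tmul]
      erw [Ideal.Quotient.lift_mk]
      simp [Algebra.TensorProduct.tmul_mul_tmul]
  exact IsRegularRing.of_ringEquiv (R := k' ⊗[A] C')
    (RingEquiv.ofRingHom bwd fwd (RingHom.ext hbf) (RingHom.ext hfb))

end Groth.Agent.H05EGA4
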