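import Mathlib
import Groth.Agent.H05EGA4.CohenStructure
import Groth.Agent.H05EGA4.DerivExt
import Groth.Agent.H05EGA4.FSFlat

/-!
# Lifting adically formally smooth algebras into complete rings (helper5)
-/

set_option autoImplicit false
set_option linter.style.haveILetI false
set_option maxHeartbeats 400000
universe u v
open IsLocalRing CAlgX Groth.Agent

namespace Groth.Agent.H05EGA4

/-- Lifting into an adically complete ring, the partial lifts being compatible with the given map. -/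
theorem exists_lift_adicComplete_of_compatible {R : Type v} {W C : Type u} [CommRing R] [CommRing W] [CommRing C] [Algebra R W] [Algebra R C]
    (𝔪 : Ideal C) [IsAdicComplete 𝔪 C] (J : Ideal C) (hJ : J ≤ 𝔪)
    (u : W →ₐ[R] C ⧸ J)
    (hlift : ∀ (n : ℕ) (K : Ideal C), K ≤ 𝔪 → 𝔪 ^ (n + 1) ≤ K → ∀ u' : W →ₐ[R] C ⧸ K,
      (∀ x c d, u' x = Ideal.Quotient.mk K c → u x = Ideal.Quotient.mk J d → c - d ∈ 𝔪) →
      ∃ v : W →ₐ[R] C ⧸ 𝔪 ^ (n + 1), ∀ x c, v x = Ideal.Quotient.mk _ c → u' x = Ideal.Quotient.mk K c) :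
    ∃ v : W →ₐ[R] C, ∀ x c, u x = Ideal.Quotient.mk J c → ∀ n, v x - c ∈ J ⊔ 𝔪 ^ n := by
  let P : ℕ → Type u := fun n => {v : W →ₐ[R] C ⧸ 𝔪 ^ (n + 1) //
    ∀ x c d, v x = Ideal.Quotient.mk _ c → u x = Ideal.Quotient.mk J d → c - d ∈ J ⊔ 𝔪 ^ (n + 1)}
  have h0 : ∃ v : P 0, True := by
    obtain ⟨v, hv⟩ := hlift 0 𝔪 le_rfl (by simp) ((Ideal.Quotient.factorₐ R hJ).comp u)
      (fun x c d hc hd => by rw [AlgHom.comp_apply, hd] at hc; exact Ideal.Quotient.eq.mp hc.symm)
    refine ⟨⟨v, fun x c d hc hd => ?_⟩, trivial⟩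
    have h := hv x c hc
    rw [AlgHom.comp_apply, hd] at h
    rw [← neg_sub]
    refine neg_mem (Ideal.mem_sup_right ?_)
    rw [zero_add, pow_one]
    exact Ideal.Quotient.eq.mp h
  have hstep : ∀ n (v : P n), ∃ v' : P (n + 1),
      ∀ x c, v'.1 x = Ideal.Quotient.mk _ c → v.1 x = Ideal.Quotient.mk _ c := by
    intro n v
    let uJ : W →ₐ[R] C ⧸ (J ⊔ 𝔪 ^ (n + 2)) := (Ideal.Quotient.factorₐ R le_sup_left).comp u
    obtain ⟨z, hz⟩ := exists_combine (𝔪 ^ (n + 1)) (J ⊔ 𝔪 ^ (n + 2)) v.1 uJ (by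
      intro x a b ha hb
      obtain ⟨d, hd⟩ := Ideal.Quotient.mk_surjective (u x)
      have hb' : Ideal.Quotient.mk (J ⊔ 𝔪 ^ (n + 2)) d = Ideal.Quotient.mk _ b := by
        rw [← hb]; show _ = Ideal.Quotient.factorₐ R le_sup_left (u x); rw [← hd]; rfl
      have h1 := v.2 x a d ha hd.symm
      have h2 := Ideal.Quotient.eq.mp hb'
      have : a - b = (a - d) + (d - b) := by ring
      rw [this]
      refine add_mem ?_ (Ideal.mem_sup_right h2)
      exact (show J ⊔ 𝔪 ^ (n + 1) ≤ 𝔪 ^ (n + 1) ⊔ (J ⊔ 𝔪 ^ (n + 2)) from sup_le (le_sup_of_le_right le_sup_left) le_sup_left) h1)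
    obtain ⟨v', hv'⟩ := hlift (n + 1) (𝔪 ^ (n + 1) ⊓ (J ⊔ 𝔪 ^ (n + 2))) (inf_le_left.trans (Ideal.pow_le_self (Nat.succ_ne_zero n)))
      (le_inf (Ideal.pow_le_pow_right (Nat.le_succ _)) le_sup_right) z (fun x c d hc hd => by
        have h := (hz x c hc).2
        rw [show uJ x = Ideal.Quotient.mk _ d by show Ideal.Quotient.factorₐ R le_sup_left (u x) = _; rw [hd]; rfl] at h
        rw [← neg_sub]
        exact neg_mem (sup_le hJ (Ideal.pow_le_self (Nat.succ_ne_zero _)) (Ideal.Quotient.eq.mp h)))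
    refine ⟨⟨v', fun x c d hc hd => ?_⟩, fun x c hc => (hz x c (hv' x c hc)).1⟩
    have h := (hz x c (hv' x c hc)).2
    rw [show uJ x = Ideal.Quotient.mk _ d by show Ideal.Quotient.factorₐ R le_sup_left (u x) = _; rw [hd]; rfl] at h
    rw [← neg_sub]
    exact neg_mem (Ideal.Quotient.eq.mp h)
  choose next hnext using hstep
  let vs : ∀ n, P n := fun n => Nat.rec h0.choose (fun n v => next n v) n
  let f : ∀ n, W →ₐ[R] C ⧸ 𝔪 ^ n := fun n =>
    (Ideal.Quotient.factorₐ R (Ideal.pow_le_pow_right (Nat.le_succ n))).comp (vs n).1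
  have hf : ∀ n, (Ideal.Quotient.factorₐ R (Ideal.pow_le_pow_right (Nat.le_succ n))).comp (f (n + 1)) = f n := by
    intro n
    ext x
    obtain ⟨c, hc⟩ := Ideal.Quotient.mk_surjective ((vs (n + 1)).1 x)
    have h : (vs n).1 x = Ideal.Quotient.mk _ c := hnext n (vs n) x c hc.symm
    simp only [f, AlgHom.comp_apply, h, ← hc]
    rfl
  have hf' : ∀ {m n : ℕ} (hle : m ≤ n), (Ideal.Quotient.factorₐ R (Ideal.pow_le_pow_right hle)).comp (f n) = f m := by
    intro m n hle
    induction n, hle using Nat.le_induction with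
    | base =>
      ext x
      obtain ⟨c, hc⟩ := Ideal.Quotient.mk_surjective (f m x)
      rw [AlgHom.comp_apply, ← hc]; rfl
    | succ n hn ih =>
      rw [← ih, ← hf n]
      refine DFunLike.ext _ _ fun x => ?_
      obtain ⟨c, hc⟩ := Ideal.Quotient.mk_surjective (f (n + 1) x)
      simp only [AlgHom.comp_apply, ← hc]
      rfl
  refine ⟨IsAdicComplete.liftAlgHom 𝔪 f hf', fun x c hc n => ?_⟩
  obtain ⟨d, hd⟩ := Ideal.Quotient.mk_surjective ((vs n).1 x)
  have h1 := (vs n).2 x d c hd.symm hc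
  have h2 := IsAdicComplete.mk_liftAlgHom 𝔪 f hf' n x
  have h3 : Ideal.Quotient.mk (𝔪 ^ n) d = f n x := by
    simp only [f, AlgHom.comp_apply, ← hd]; rfl
  rw [← h3, Ideal.Quotient.eq] at h2
  have : IsAdicComplete.liftAlgHom 𝔪 f hf' x - c = (IsAdicComplete.liftAlgHom 𝔪 f hf' x - d) + (d - c) := by ring
  rw [this]
  exact add_mem (Ideal.mem_sup_right h2) ((show J ⊔ 𝔪 ^ (n + 1) ≤ J ⊔ 𝔪 ^ n from
    sup_le le_sup_left (le_sup_of_le_right (Ideal.pow_le_pow_right (Nat.le_succ n)))) h1)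

/-- Adically formally smooth algebras lift into adically complete rings. -/
theorem exists_lift_adicFormallySmooth {R W C : Type u} [CommRing R] [CommRing W] [CommRing C] [Algebra R W]
    [Algebra R C] {n : Ideal W} (h : IsAdicFormallySmooth R W n) (𝔪 : Ideal C) [IsAdicComplete 𝔪 C] (J : Ideal C)
    (hJ : J ≤ 𝔪) (u : W →ₐ[R] C ⧸ J) (hu : ∀ x ∈ n, ∀ c, u x = Ideal.Quotient.mk J c → c ∈ 𝔪) :
    ∃ v : W →ₐ[R] C, ∀ x c, u x = Ideal.Quotient.mk J c → ∀ t, v x - c ∈ J ⊔ 𝔪 ^ t := by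
  refine exists_lift_adicComplete_of_compatible 𝔪 J hJ u fun t K hK htK u' hu' => ?_
  let q := Ideal.Quotient.mk (𝔪 ^ (t + 1))
  let K' : Ideal (C ⧸ 𝔪 ^ (t + 1)) := K.map q
  let e : ((C ⧸ 𝔪 ^ (t + 1)) ⧸ K') ≃ₐ[R] C ⧸ K :=
    (DoubleQuot.quotQuotEquivQuotSupₐ R (𝔪 ^ (t + 1)) K).trans
      (Ideal.quotientEquivAlgOfEq R (sup_eq_right.mpr htK))
  have hK' : K' ^ (2 ^ (t + 1)) = ⊥ := by
    rw [← Ideal.map_pow]
    refine le_bot_iff.mp ((Ideal.map_mono ?_).trans (Ideal.map_quotient_self _).le)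
    exact (Ideal.pow_right_mono hK _).trans (Ideal.pow_le_pow_right Nat.lt_two_pow_self.le)
  have hn : ∀ x ∈ n, ∀ c, u' x = Ideal.Quotient.mk K c → c ∈ 𝔪 := by
    intro x hx c hc
    obtain ⟨d, hd⟩ := Ideal.Quotient.mk_surjective (u x)
    have := add_mem (hu' x c d hc hd.symm) (hu x hx d hd.symm)
    rwa [sub_add_cancel] at this
  obtain ⟨χ, hχ, -⟩ := exists_lift_nilpotent h (t + 1) (C ⧸ 𝔪 ^ (t + 1)) K' hK' (e.symm.toAlgHom.comp u') ⟨t + 1, by
    intro x hx
    have h1 : n.map u'.toRingHom ≤ 𝔪.map (Ideal.Quotient.mk K) := Ideal.map_le_iff_le_comap.mpr fun y hy => by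
      obtain ⟨c, hc⟩ := Ideal.Quotient.mk_surjective (u' y)
      show u' y ∈ 𝔪.map (Ideal.Quotient.mk K)
      rw [← hc]
      exact Ideal.mem_map_of_mem _ (hn y hy c hc.symm)
    have h2 := Ideal.pow_right_mono h1 (t + 1) (Ideal.map_pow u'.toRingHom n _ ▸ Ideal.mem_map_of_mem u'.toRingHom hx)
    rw [← Ideal.map_pow] at h2
    have h3 : u' x ∈ (⊥ : Ideal (C ⧸ K)) :=
      (Ideal.map_mono htK).trans (Ideal.map_quotient_self K).le h2
    show e.symm (u' x) = 0
    rw [Ideal.mem_bot.mp h3, map_zero]⟩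
  refine ⟨χ, fun x c hc => ?_⟩
  have h1 := congrArg e (AlgHom.congr_fun hχ x)
  simp only [AlgHom.comp_apply] at h1
  rw [hc] at h1
  exact (e.apply_symm_apply _).symm.trans h1.symm

/-- Derivations extend along formally smooth maps into complete local rings. -/
theorem derivExt_of_isAdicFormallySmooth {R C : Type u} [CommRing R] [CommRing C] [IsLocalRing C] [IsNoetherianRing C]
    [IsAdicComplete (maximalIdeal C) C] [Algebra R C] (h : IsAdicFormallySmooth R C (maximalIdeal C)) :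
    DerivExt R C := by
  intro M _ _ _ _ _ d
  letI : Module Cᵐᵒᵖ M := Module.compHom M ((RingHom.id C).fromOpposite mul_comm)
  have : IsCentralScalar C M := ⟨fun _ _ => rfl⟩
  have : Module.Finite C (TrivSqZeroExt C M) := (inferInstance : Module.Finite C (C × M))
  let π : TrivSqZeroExt C M →+* C := (TrivSqZeroExt.fstHom C C M).toRingHom
  let P : Ideal (TrivSqZeroExt C M) := (maximalIdeal C).comap π
  have hcE : IsAdicComplete ((maximalIdeal C).map (algebraMap C (TrivSqZeroExt C M))) (TrivSqZeroExt C M) :=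
    (IsAdicComplete.map_algebraMap_iff (maximalIdeal C) (TrivSqZeroExt C M) (S := (TrivSqZeroExt C M))).mpr
      (H24Adic.isAdicComplete_of_finite _)
  have hJP : (maximalIdeal C).map (algebraMap C (TrivSqZeroExt C M)) ≤ P :=
    Ideal.map_le_iff_le_comap.mpr fun c hc => by
      show TrivSqZeroExt.fst (algebraMap C (TrivSqZeroExt C M) c) ∈ maximalIdeal C
      rw [show algebraMap C (TrivSqZeroExt C M) c = TrivSqZeroExt.inl c from rfl, TrivSqZeroExt.fst_inl]
      exact hc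
  have hinr : ∀ (c : C) (m : M), c ∈ maximalIdeal C →
      (TrivSqZeroExt.inr (c • m) : (TrivSqZeroExt C M)) ∈ (maximalIdeal C).map (algebraMap C (TrivSqZeroExt C M)) :=
    fun c m hc => by
      rw [← TrivSqZeroExt.inl_mul_inr]
      exact Ideal.mul_mem_right _ _ (Ideal.mem_map_of_mem _ hc)
  have hPJ : P ^ 2 ≤ (maximalIdeal C).map (algebraMap C (TrivSqZeroExt C M)) := by
    rw [pow_two, Ideal.mul_le]
    intro x hx y hy
    have hx' : TrivSqZeroExt.fst x ∈ maximalIdeal C := hx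
    have hy' : TrivSqZeroExt.fst y ∈ maximalIdeal C := hy
    rw [← TrivSqZeroExt.inl_fst_add_inr_snd_eq (x * y), TrivSqZeroExt.fst_mul, TrivSqZeroExt.snd_mul,
      TrivSqZeroExt.inr_add]
    refine add_mem ?_ (add_mem (hinr _ _ hx') ?_)
    · exact Ideal.mem_map_of_mem _ (Ideal.mul_mem_right _ _ hx')
    · rw [op_smul_eq_smul]; exact hinr _ _ hy'
  have hPc : IsAdicComplete P (TrivSqZeroExt C M) :=
    H24Adic.isAdicComplete_of_pow_le (I := (maximalIdeal C).map (algebraMap C (TrivSqZeroExt C M))) (a := 2) (b := 1) hPJ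
      (by rwa [pow_one]) (TrivSqZeroExt C M)
  let g : R →+* (TrivSqZeroExt C M) :=
    { toFun := fun r => TrivSqZeroExt.inl (algebraMap R C r) + TrivSqZeroExt.inr (d r)
      map_one' := by simp
      map_mul' := fun a b => TrivSqZeroExt.ext (by simp) (by
        simp only [TrivSqZeroExt.snd_add, TrivSqZeroExt.snd_inl, TrivSqZeroExt.snd_inr, zero_add,
          TrivSqZeroExt.snd_mul, TrivSqZeroExt.fst_add, TrivSqZeroExt.fst_inl, TrivSqZeroExt.fst_inr, add_zero,
          op_smul_eq_smul, algebraMap_smul, d.leibniz])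
      map_zero' := by simp
      map_add' := fun a b => by simp only [map_add, TrivSqZeroExt.inl_add]; erw [TrivSqZeroExt.inr_add]; abel }
  have hfst : ∀ r, π (g r) = algebraMap R C r := fun r => by
    show TrivSqZeroExt.fst (TrivSqZeroExt.inl (algebraMap R C r) + TrivSqZeroExt.inr (d r)) = _
    simp
  letI iE : Algebra R (TrivSqZeroExt C M) := g.toAlgebra
  let πA : TrivSqZeroExt C M →ₐ[R] C := { π with commutes' := hfst }
  have hπ : Function.Surjective πA := fun c => ⟨TrivSqZeroExt.inl c, TrivSqZeroExt.fst_inl M c⟩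
  let J : Ideal (TrivSqZeroExt C M) := RingHom.ker πA
  have hJ : J ≤ P := fun x hx => by
    show π x ∈ maximalIdeal C
    rw [show π x = 0 from hx]
    exact zero_mem _
  let e := Ideal.quotientKerAlgEquivOfSurjective hπ
  obtain ⟨v, hv⟩ := exists_lift_adicFormallySmooth (W := C) h P J hJ e.symm.toAlgHom fun x hx c hc => by
    show π c ∈ maximalIdeal C
    have h1 := congrArg e hc
    rw [show e (e.symm.toAlgHom x) = x from e.apply_symm_apply x] at h1
    rw [show π c = x from h1.symm]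
    exact hx
  have hid : ∀ c, TrivSqZeroExt.fst (v c) = c := fun c => by
    refine sub_eq_zero.mp (IsHausdorff.haus (I := maximalIdeal C) inferInstance _ fun t => ?_)
    rw [SModEq.sub_mem, sub_zero, smul_eq_mul, Ideal.mul_top]
    obtain ⟨x, hx⟩ := Ideal.Quotient.mk_surjective (e.symm c)
    have hπx : π x = c := by
      have h1 := congrArg e hx
      rw [e.apply_symm_apply] at h1
      exact h1
    have h2 : π (v c - x) ∈ maximalIdeal C ^ t := by
      obtain ⟨a, ha, b, hb, hab⟩ := Submodule.mem_sup.mp (hv c x hx.symm t)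
      rw [← hab, map_add, show π a = 0 from ha, zero_add]
      exact Ideal.le_comap_pow π t hb
    rw [map_sub, hπx] at h2
    exact h2
  letI : Algebra ℤ C := Ring.toIntAlgebra C
  let D : C →+ M := AddMonoidHom.mk' (fun c => TrivSqZeroExt.snd (v c)) fun a b => by
    rw [map_add, TrivSqZeroExt.snd_add]
  refine ⟨Derivation.mk' D.toIntLinearMap fun a b => ?_, fun r => ?_⟩
  · show TrivSqZeroExt.snd (v (a * b)) = a • TrivSqZeroExt.snd (v b) + b • TrivSqZeroExt.snd (v a)
    rw [map_mul, TrivSqZeroExt.snd_mul, hid, hid, op_smul_eq_smul]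
  · show TrivSqZeroExt.snd (v (algebraMap R C r)) = d r
    rw [v.commutes]
    show TrivSqZeroExt.snd (TrivSqZeroExt.inl (algebraMap R C r) + TrivSqZeroExt.inr (d r)) = d r
    simp

end Groth.Agent.H05EGA4
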