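import Mathlib
import Groth.Agent.H05EGA4.FlatPresentation
import Groth.Agent.H05EGA4.FSFlat

/-!
# Flat lifts of complete regular local rings over power series rings (helper5)
-/

set_option autoImplicit false
set_option linter.style.haveILetI false
set_option maxHeartbeats 400000
universe u
open IsLocalRing Groth.Agent RingTheory.Sequence

namespace Groth.Agent.H05EGA4

/-- A regular quotient containing the closed fibre lifts to a flat regular quotient. -/
theorem exists_flat_lift_quotient {R P B₀ : Type u} [CommRing R] [IsRegularLocalRing R] [CommRing P]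
    [IsLocalRing P] [IsNoetherianRing P] [Algebra R P] [IsLocalHom (algebraMap R P)] [Module.Flat R P]
    [IsRegularLocalRing (P ⧸ (maximalIdeal R).map (algebraMap R P))]
    [CommRing B₀] [IsRegularLocalRing B₀] (π : P →+* B₀) (hπ : Function.Surjective π)
    (hker : (maximalIdeal R).map (algebraMap R P) ≤ RingHom.ker π) :
    ∃ G : Ideal P, G ≤ RingHom.ker π ∧ RingHom.ker π ≤ G ⊔ (maximalIdeal R).map (algebraMap R P) ∧
      Module.Flat R (P ⧸ G) ∧ IsRegularLocalRing (P ⧸ G) := by
  classical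
  let mP := (maximalIdeal R).map (algebraMap R P)
  let π0 : P ⧸ mP →+* B₀ := Ideal.Quotient.lift mP π fun x hx => hker hx
  have hπ0 : Function.Surjective π0 := fun y => ⟨Ideal.Quotient.mk mP (hπ y).choose, (hπ y).choose_spec⟩
  obtain ⟨r, gb, hgspan, hgreg⟩ := exists_regular_generators_ker π0 hπ0
  choose g hg using fun i => Ideal.Quotient.mk_surjective (gb i)
  have hg0 : ∀ i, π (g i) = 0 := fun i => by
    have : π0 (gb i) = 0 := RingHom.mem_ker.mp (hgspan ▸ Ideal.subset_span ⟨i, rfl⟩)
    rw [← hg i] at this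
    exact this
  have hreg : IsWeaklyRegular (P ⧸ (mP • ⊤ : Submodule P P)) (List.ofFn g) := by
    have h1 : IsWeaklyRegular (P ⧸ mP) (List.ofFn g) := by
      rw [← isWeaklyRegular_map_algebraMap_iff (P ⧸ mP), List.map_ofFn,
        show algebraMap P (P ⧸ mP) ∘ g = gb from funext hg]
      exact hgreg
    exact ((Submodule.quotEquivOfEq (mP • ⊤ : Submodule P P) mP (by rw [smul_eq_mul, Ideal.mul_top])).isWeaklyRegular_congr _).mpr h1
  have hflat := (isWeaklyRegular_and_flat_of_fibre (A := R) (List.ofFn g) P hreg).2 _ le_rfl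
  rw [List.take_length] at hflat
  let G : Ideal P := Ideal.ofList (List.ofFn g)
  have hGspan : G = Ideal.span (Set.range g) := by
    show Ideal.span _ = _
    congr 1; ext z; simp [List.mem_ofFn]
  have hG : G ≤ RingHom.ker π := by
    rw [hGspan, Ideal.span_le]
    rintro _ ⟨i, rfl⟩
    exact hg0 i
  have hker' : RingHom.ker π ≤ G ⊔ mP := by
    intro x hx
    have h1 : Ideal.Quotient.mk mP x ∈ RingHom.ker π0 := hx
    rw [← hgspan, show gb = Ideal.Quotient.mk mP ∘ g from funext fun i => (hg i).symm, Set.range_comp,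
      ← Ideal.map_span, ← hGspan] at h1
    have := Ideal.mem_comap.mpr h1
    rwa [Ideal.comap_map_of_surjective' _ Ideal.Quotient.mk_surjective, Ideal.mk_ker] at this
  have hflatG : Module.Flat R (P ⧸ G) := Module.Flat.of_linearEquiv
    ((Submodule.quotEquivOfEq G (G • ⊤ : Submodule P P) (by rw [smul_eq_mul, Ideal.mul_top])).restrictScalars R)
  refine ⟨G, hG, hker', hflatG, ?_⟩
  have : Nontrivial (P ⧸ G) := Ideal.Quotient.nontrivial_iff.mpr (ne_top_of_le_ne_top (RingHom.ker_ne_top π) hG)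
  have : IsLocalRing (P ⧸ G) := .of_surjective' _ Ideal.Quotient.mk_surjective
  have : IsLocalHom (algebraMap R (P ⧸ G)) := by
    refine ((local_hom_TFAE _).out 0 2).mpr ?_
    rw [IsScalarTower.algebraMap_eq R P (P ⧸ G), ← Ideal.map_map,
      ← IsLocalRing.map_maximalIdeal_of_surjective _ (Ideal.Quotient.mk_surjective (I := G))]
    exact Ideal.map_mono (map_maximalIdeal_le _)
  let π1 : P ⧸ G →+* B₀ := Ideal.Quotient.lift G π fun x hx => hG hx
  have hπ1 : Function.Surjective π1 := fun y => ⟨Ideal.Quotient.mk G (hπ y).choose, (hπ y).choose_spec⟩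
  have hk1 : RingHom.ker π1 = (maximalIdeal R).map (algebraMap R (P ⧸ G)) := by
    rw [Ideal.ker_quotient_lift, IsScalarTower.algebraMap_eq R P (P ⧸ G), ← Ideal.map_map]
    refine le_antisymm ((Ideal.map_mono hker').trans ?_) (Ideal.map_mono hker)
    rw [Ideal.map_sup, Ideal.Quotient.algebraMap_eq, Ideal.map_quotient_self, bot_sup_eq]
  have : IsRegularLocalRing ((P ⧸ G) ⧸ (maximalIdeal R).map (algebraMap R (P ⧸ G))) :=
    IsRegularLocalRing.of_ringEquiv (R := B₀)
      ((Ideal.quotEquivOfEq hk1.symm).trans (RingHom.quotientKerEquivOfSurjective hπ1)).symm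
  exact isRegularLocalRing_of_flat_of_fibre R (P ⧸ G)

/-- A coefficient ring cover of a complete local ring, compatible with a given coefficient map. -/
theorem exists_coefficient_cover {Λ : Type u} [CommRing Λ] [IsLocalRing Λ]
    (hΛ : IsField Λ ∨ CAlg.IsCohenRing Λ) {B₀ : Type u} [CommRing B₀] [IsLocalRing B₀] [IsNoetherianRing B₀]
    [IsAdicComplete (maximalIdeal B₀) B₀] (v₀ : Λ →+* B₀) (hv₀ : ∀ x ∈ maximalIdeal Λ, v₀ x = 0) (n : ℕ) :
    ∃ (Λ' : Type u) (_ : CommRing Λ') (_ : IsLocalRing Λ') (p c m : ℕ)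
      (σ : MvPowerSeries (Fin (n + m)) Λ' →+* B₀) (θ : Λ →+* MvPowerSeries (Fin (n + m)) Λ'),
      (IsField Λ' ∨ CAlg.IsCohenRing Λ') ∧
      maximalIdeal Λ = Ideal.span {(p : Λ)} ∧ maximalIdeal Λ' = Ideal.span {(p : Λ')} ∧
      ringKrullDim Λ = (c : WithBot ℕ∞) ∧ ringKrullDim Λ' = (c : WithBot ℕ∞) ∧
      Function.Surjective σ ∧ (∀ i, σ (MvPowerSeries.X (Fin.castAdd m i)) = 0) ∧ σ.comp θ = v₀ := by
  classical
  obtain ⟨m, b, hb⟩ := Submodule.fg_iff_exists_fin_generating_family.mp (IsNoetherian.noetherian (maximalIdeal B₀))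
  let b' : Fin (n + m) → B₀ := Fin.append (fun _ => 0) b
  have hb' : Ideal.span (Set.range b') = maximalIdeal B₀ := by
    refine le_antisymm (Ideal.span_le.mpr ?_) ?_
    · rintro _ ⟨i, rfl⟩
      refine Fin.addCases (fun i => ?_) (fun i => ?_) i
      · simp [b']
      · simpa [b'] using hb.le (Submodule.subset_span ⟨i, rfl⟩)
    · rw [← hb]
      refine Ideal.span_le.mpr ?_
      rintro _ ⟨i, rfl⟩
      exact Ideal.subset_span ⟨Fin.natAdd n i, by simp [b']⟩
  by_cases hF : IsField Λ
  · letI : Field Λ := hF.toField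
    let K := ResidueField B₀
    obtain ⟨P, _, _, ⟨j⟩⟩ := exists_perfect_subfield Λ
    letI : Algebra P Λ := j.toAlgebra
    letI : Algebra P B₀ := (v₀.comp j).toAlgebra
    have := formallySmooth_of_perfectField P K
    have := formallySmooth_of_perfectField P Λ
    obtain ⟨s, hs⟩ := exists_coefficientField (k := P) (A := B₀)
    obtain ⟨σ, hσs, hσC, hσX⟩ := exists_surjective_mvPowerSeries_of_generators s.toRingHom
      (fun a => ⟨residue B₀ a, by rw [← residue_eq_zero_iff, map_sub]; exact sub_eq_zero.mpr (hs _)⟩) b' hb'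
    let W' := MvPowerSeries (Fin (n + m)) K
    have hcW : IsAdicComplete (maximalIdeal W') W' := by
      have : IsAdicComplete (maximalIdeal K) K := (coefficientRing_spec (Or.inl (Field.toIsField K))).2.2.2
      exact H24Art.isAdicComplete_mvPowerSeries
    letI : Algebra P W' := (MvPowerSeries.C.comp (algebraMap P K)).toAlgebra
    let σ' : W' →ₐ[P] B₀ := { σ with commutes' := fun x => (hσC _).trans (s.commutes x) }
    let e := Ideal.quotientKerAlgEquivOfSurjective (f := σ') hσs
    let u : Λ →ₐ[P] B₀ := { v₀ with commutes' := fun _ => rfl }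
    obtain ⟨θ, hθ⟩ := exists_lift_formallySmooth_adicComplete (R := P) (W := Λ) (C := W') (RingHom.ker σ')
      (le_maximalIdeal (RingHom.ker_ne_top σ')) (e.symm.toAlgHom.comp u)
    have hθ' : ∀ l, σ (θ l) = v₀ l := fun l => by
      obtain ⟨w, hw⟩ := Ideal.Quotient.mk_surjective (e.symm (v₀ l))
      have h1 := mem_of_forall_mem_sup_pow (hθ l w hw.symm)
      have h2 : σ w = v₀ l := (congrArg e hw).trans (e.apply_symm_apply _)
      rw [← h2, ← sub_eq_zero, ← map_sub]
      exact h1
    refine ⟨K, inferInstance, inferInstance, 0, 0, m, σ, θ.toRingHom, Or.inl (Field.toIsField K), ?_, ?_, ?_, ?_, hσs,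
      fun i => by rw [hσX]; simp [b'], RingHom.ext hθ'⟩
    · rw [IsLocalRing.isField_iff_maximalIdeal_eq.mp hF, Nat.cast_zero, Ideal.span_singleton_eq_bot.mpr rfl]
    · rw [IsLocalRing.isField_iff_maximalIdeal_eq.mp (Field.toIsField K), Nat.cast_zero,
        Ideal.span_singleton_eq_bot.mpr rfl]
    · exact ringKrullDim_eq_zero_of_field Λ
    · exact ringKrullDim_eq_zero_of_field K
  · have hC := hΛ.resolve_left hF
    obtain ⟨_, _, -, q, hq, hmax⟩ := id hC
    have := Fact.mk hq
    have hq0 : (q : B₀) = 0 := by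
      rw [← map_natCast v₀]
      exact hv₀ _ (hmax ▸ Ideal.mem_span_singleton_self _)
    have : CharP (ResidueField B₀) q :=
      (CharP.charP_iff_prime_eq_zero hq).mpr (by rw [← map_natCast (residue B₀), hq0, map_zero])
    obtain ⟨Λ', _, _, hW, hmax', ⟨e'⟩⟩ := exists_isCohenRing q (ResidueField B₀)
    obtain ⟨v', hv'⟩ := exists_lift_cohenRing_adicComplete hW q (hmax' ▸ (maximalIdeal.isMaximal Λ').ne_top)
      (hq0 ▸ zero_mem _) (maximalIdeal B₀) le_rfl (e'.toRingHom.comp (residue Λ'))
    obtain ⟨σ, hσs, hσC, hσX⟩ := exists_surjective_mvPowerSeries_of_generators v' (fun a => by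
      obtain ⟨l, hl⟩ := residue_surjective (e'.symm (residue B₀ a))
      refine ⟨l, mem_of_forall_mem_sup_pow (hv' l a ?_)⟩
      show e' (residue Λ' l) = residue B₀ a
      rw [hl, e'.apply_symm_apply]) b' hb'
    let W' := MvPowerSeries (Fin (n + m)) Λ'
    obtain ⟨_, _, _, hcΛ'⟩ := coefficientRing_spec (Or.inr hW)
    have := hcΛ'
    have hcW : IsAdicComplete (maximalIdeal W') W' := H24Art.isAdicComplete_mvPowerSeries
    have hqW : (q : W') ∈ maximalIdeal W' := by
      refine le_maximalIdeal (RingHom.ker_ne_top σ) ?_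
      show σ (q : W') = 0
      rw [map_natCast, hq0]
    obtain ⟨θ, hθ⟩ := exists_lift_cohenRing_adicComplete hC q (hmax ▸ (maximalIdeal.isMaximal Λ).ne_top) hqW
      (RingHom.ker σ) (le_maximalIdeal (RingHom.ker_ne_top σ))
      ((RingHom.quotientKerEquivOfSurjective hσs).symm.toRingHom.comp v₀)
    have hθ' : ∀ l, σ (θ l) = v₀ l := fun l => by
      let e := RingHom.quotientKerEquivOfSurjective hσs
      obtain ⟨w, hw⟩ := Ideal.Quotient.mk_surjective (e.symm (v₀ l))
      have h1 := mem_of_forall_mem_sup_pow (hθ l w hw.symm)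
      have h2 : σ w = v₀ l := (congrArg e hw).trans (e.apply_symm_apply _)
      rw [← h2, ← sub_eq_zero, ← map_sub]
      exact h1
    obtain ⟨_, _, -⟩ := id hW
    refine ⟨Λ', inferInstance, inferInstance, q, 1, m, σ, θ, Or.inr hW, hmax, hmax', ?_, ?_, hσs,
      fun i => by rw [hσX]; simp [b'], RingHom.ext hθ'⟩
    · exact IsPrincipalIdealRing.ringKrullDim_eq_one Λ hF
    · exact IsPrincipalIdealRing.ringKrullDim_eq_one Λ' (IsDiscreteValuationRing.not_isField Λ')

/-- A complete regular local ring killed by the maximal ideal of a power series ring over a coefficient ring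
lifts to a complete regular local ring flat over the power series ring. -/
theorem exists_flat_lift_regular {Λ : Type u} [CommRing Λ] [IsLocalRing Λ]
    (hΛ : IsField Λ ∨ CAlg.IsCohenRing Λ) (n : ℕ) {B₀ : Type u} [CommRing B₀] [IsRegularLocalRing B₀]
    [IsAdicComplete (maximalIdeal B₀) B₀] (φ : MvPowerSeries (Fin n) Λ →+* B₀)
    (hφ : ∀ x ∈ maximalIdeal (MvPowerSeries (Fin n) Λ), φ x = 0) :
    ∃ (C : Type u) (_ : CommRing C) (_ : IsRegularLocalRing C) (_ : Algebra (MvPowerSeries (Fin n) Λ) C)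
      (π : C →+* B₀), IsLocalHom (algebraMap (MvPowerSeries (Fin n) Λ) C) ∧
      Module.Flat (MvPowerSeries (Fin n) Λ) C ∧ IsAdicComplete (maximalIdeal C) C ∧ Function.Surjective π ∧
      RingHom.ker π = (maximalIdeal (MvPowerSeries (Fin n) Λ)).map (algebraMap (MvPowerSeries (Fin n) Λ) C) ∧
      π.comp (algebraMap (MvPowerSeries (Fin n) Λ) C) = φ := by
  classical
  let R := MvPowerSeries (Fin n) Λ
  obtain ⟨_, _, _, -⟩ := coefficientRing_spec hΛ
  have := isRegularRing_of_isField_or_isCohenRing hΛ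
  have : IsRegularLocalRing Λ := IsRegularLocalRing.of_isRegularRing_of_isLocalRing _
  have : IsRegularRing R := S5784.result Λ _
  have : IsRegularLocalRing R := IsRegularLocalRing.of_isRegularRing_of_isLocalRing _
  have hmR := maximalIdeal_mvPowerSeries Λ n
  obtain ⟨Λ', _, _, p, c, m, σ, θ, hΛ', hm, hm', hd, hd', hσ, hσX, hσθ⟩ :=
    exists_coefficient_cover hΛ (φ.comp MvPowerSeries.C)
      (fun x hx => hφ _ (hmR ▸ Submodule.mem_sup_left (Ideal.mem_map_of_mem _ hx))) n
  let W' := MvPowerSeries (Fin (n + m)) Λ'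
  obtain ⟨_, _, _, hcΛ'⟩ := coefficientRing_spec hΛ'
  have := hcΛ'
  have hcW : IsAdicComplete (maximalIdeal W') W' := H24Art.isAdicComplete_mvPowerSeries
  have := isRegularRing_of_isField_or_isCohenRing hΛ'
  have : IsRegularLocalRing Λ' := IsRegularLocalRing.of_isRegularRing_of_isLocalRing _
  have : IsRegularRing W' := S5784.result Λ' _
  have hXm : ∀ j, (MvPowerSeries.X j : W') ∈ maximalIdeal W' := fun j => by
    rw [maximalIdeal_mvPowerSeries]; exact Submodule.mem_sup_right (Ideal.subset_span ⟨j, rfl⟩)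
  letI : Algebra Λ W' := θ.toAlgebra
  obtain ⟨τ, hτX⟩ := H02CA.PS.exists_algHom (R := Λ) (σ := Fin n) (maximalIdeal W')
    (fun i => MvPowerSeries.X (Fin.castAdd m i)) fun i => hXm _
  obtain ⟨hloc, hflat, hfib⟩ := flat_powerSeries_map p c hm hm' hd hd' τ.toRingHom hτX
  have hcomm : σ.comp τ.toRingHom = φ := by
    letI : Algebra Λ B₀ := (φ.comp MvPowerSeries.C).toAlgebra
    let f1 : R →ₐ[Λ] B₀ :=
      { σ.comp τ.toRingHom with
        commutes' := fun l => (congrArg σ (τ.commutes l)).trans (RingHom.congr_fun hσθ l) }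
    let f2 : R →ₐ[Λ] B₀ := { φ with commutes' := fun _ => rfl }
    have hX1 : ∀ i, σ (τ (MvPowerSeries.X i)) = 0 := fun i => by rw [hτX, hσX]
    have h12 : f1 = f2 := H02CA.PS.algHom_ext (maximalIdeal B₀)
      (fun i => by show σ (τ (MvPowerSeries.X i)) ∈ _; rw [hX1]; exact zero_mem _)
      (fun i => by
        show σ (τ (MvPowerSeries.X i)) = φ (MvPowerSeries.X i)
        rw [hX1, hφ _ (hmR ▸ Submodule.mem_sup_right (Ideal.subset_span ⟨i, rfl⟩))])
    exact congrArg AlgHom.toRingHom h12
  letI : Algebra R W' := τ.toRingHom.toAlgebra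
  have : IsLocalHom (algebraMap R W') := hloc
  have : Module.Flat R W' := hflat
  have : IsRegularLocalRing (W' ⧸ (maximalIdeal R).map (algebraMap R W')) := hfib
  have hle : (maximalIdeal R).map (algebraMap R W') ≤ RingHom.ker σ := Ideal.map_le_iff_le_comap.mpr fun x hx => by
    show σ (τ x) = 0
    exact (RingHom.congr_fun hcomm x).trans (hφ x hx)
  obtain ⟨G, hG, hker, hflatG, hregG⟩ := exists_flat_lift_quotient σ hσ hle
  let π : W' ⧸ G →+* B₀ := Ideal.Quotient.lift G σ fun x hx => hG hx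
  have hkerπ : RingHom.ker π = (maximalIdeal R).map (algebraMap R (W' ⧸ G)) := by
    rw [Ideal.ker_quotient_lift, IsScalarTower.algebraMap_eq R W' (W' ⧸ G), ← Ideal.map_map]
    refine le_antisymm ((Ideal.map_mono hker).trans ?_) (Ideal.map_mono hle)
    rw [Ideal.map_sup, Ideal.Quotient.algebraMap_eq, Ideal.map_quotient_self, bot_sup_eq]
  refine ⟨W' ⧸ G, inferInstance, hregG, inferInstance, π, ?_, hflatG, ?_, ?_, hkerπ, RingHom.ext fun x => ?_⟩
  · refine ((local_hom_TFAE _).out 0 2).mpr ?_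
    rw [IsScalarTower.algebraMap_eq R W' (W' ⧸ G), ← Ideal.map_map,
      ← IsLocalRing.map_maximalIdeal_of_surjective _ (Ideal.Quotient.mk_surjective (I := G))]
    exact Ideal.map_mono (map_maximalIdeal_le _)
  · rw [← IsLocalRing.map_maximalIdeal_of_surjective _ (Ideal.Quotient.mk_surjective (I := G))]
    exact H24Adic.isAdicComplete_map_quotient G
  · exact fun y => ⟨Ideal.Quotient.mk G (hσ y).choose, (hσ y).choose_spec⟩
  · exact RingHom.congr_fun hcomm x

end Groth.Agent.H05EGA4
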