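import Mathlib
import Groth.Prelude.Def_CAlgX
import Groth.Agent.H05EGA4.FlatLift
import Groth.Agent.H05EGA4.AdicLift
import Groth.Agent.H05EGA4.RegHomFS
import Groth.Agent.H05EGA4.GRing

/-!
# Fibres of formally smooth homomorphisms of complete local rings (helper5)
-/

set_option autoImplicit false
set_option linter.style.haveILetI false
set_option maxHeartbeats 600000
set_option synthInstance.maxHeartbeats 100000
universe u
open IsLocalRing TensorProduct CAlgX Groth.Agent

namespace Groth.Agent.H05EGA4

/-- Enough derivations on the fraction field of a power series ring over a field. -/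
theorem isFull_mvPowerSeries_fin (k : Type u) [Field k] (n p : ℕ) [Fact p.Prime] [CharP k p]
    [IsDomain (MvPowerSeries (Fin n) k)] :
    IsFull (MvPowerSeries (Fin n) k) (FractionRing (MvPowerSeries (Fin n) k)) p := by
  let R := MvPowerSeries (Fin n) k
  let K := FractionRing R
  have hC : Function.Injective ((algebraMap R K).comp MvPowerSeries.C) := RingHom.injective _
  have : CharP K p := charP_of_injective_ringHom hC p
  let e : MvPowerSeries (ULift.{u} (Fin n)) k ≃+* R := (MvPowerSeries.renameEquiv (R := k) Equiv.ulift).toRingEquiv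
  letI : Algebra (MvPowerSeries (ULift.{u} (Fin n)) k) K := ((algebraMap R K).comp e.toRingHom).toAlgebra
  have : IsFractionRing (MvPowerSeries (ULift.{u} (Fin n)) k) K := IsFractionRing.of_ringEquiv_left e (fun _ => rfl)
  intro c hc'
  refine isFull_mvPowerSeries (σ := ULift.{u} (Fin n)) (k := k) p K c fun D hD => hc' D ?_
  obtain ⟨s, hs, hsD⟩ := hD
  refine ⟨e s, hs, fun r => ?_⟩
  obtain ⟨r', hr'⟩ := hsD (e.symm r)
  refine ⟨e r', hr'.trans ?_⟩
  show algebraMap _ K (e s) * D (algebraMap _ K (e (e.symm r))) = _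
  rw [e.apply_symm_apply]

/-- Geometric regularity of the generic fibre of a formally smooth algebra over a power series ring. -/
theorem isRegularRing_tensor_mvPowerSeries_of_isAdicFormallySmooth {Λ : Type u} [CommRing Λ] [IsLocalRing Λ] (n : ℕ)
    (hΛ : (IsField Λ ∧ ∃ c, CharP Λ c) ∨ (CAlg.IsCohenRing Λ ∧ CharZero Λ))
    [IsDomain (MvPowerSeries (Fin n) Λ)] (C : Type u) [CommRing C] [IsRegularLocalRing C]
    [IsAdicComplete (maximalIdeal C) C] [Algebra (MvPowerSeries (Fin n) Λ) C]
    (h : IsAdicFormallySmooth (MvPowerSeries (Fin n) Λ) C (maximalIdeal C))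
    (L : Type u) [Field L] [Algebra (MvPowerSeries (Fin n) Λ) L] [Algebra (FractionRing (MvPowerSeries (Fin n) Λ)) L]
    [IsScalarTower (MvPowerSeries (Fin n) Λ) (FractionRing (MvPowerSeries (Fin n) Λ)) L]
    [FiniteDimensional (FractionRing (MvPowerSeries (Fin n) Λ)) L] :
    IsRegularRing (L ⊗[MvPowerSeries (Fin n) Λ] C) := by
  let R := MvPowerSeries (Fin n) Λ
  let K := FractionRing R
  have hreg : IsRegularRing R :=
    @S5784.result Λ _ (isRegularRing_of_isField_or_isCohenRing (hΛ.imp And.left And.left)) n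
  obtain ⟨_, _, _, -⟩ := coefficientRing_spec (hΛ.imp And.left And.left)
  have : IsRegularLocalRing R := IsRegularLocalRing.of_isRegularRing_of_isLocalRing _
  have : IsIntegrallyClosed R := isIntegrallyClosed_of_isRegularLocalRing _
  have : IsRegularRing C := isRegularRing_of_isRegularLocalRing C
  have hB : IsRegularRing (K ⊗[R] C) := by
    letI : Algebra C (K ⊗[R] C) := Algebra.TensorProduct.rightAlgebra
    have : IsLocalization (Algebra.algebraMapSubmonoid C (nonZeroDivisors R)) (K ⊗[R] C) :=
      IsLocalization.tensorRight K (nonZeroDivisors R)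
    exact H02CA.isRegularRing_of_isLocalization (Algebra.algebraMapSubmonoid C (nonZeroDivisors R))
  have hC : Function.Injective ((algebraMap R K).comp MvPowerSeries.C) :=
    (IsFractionRing.injective R K).comp MvPowerSeries.C_injective
  have hcase : CharZero K ∨ ∃ p : ℕ, p.Prime ∧ IsField Λ ∧ CharP Λ p := by
    rcases hΛ with ⟨hF, c, hc⟩ | ⟨-, h0⟩
    · rcases CharP.char_is_prime_or_zero Λ c with hp | rfl
      · exact Or.inr ⟨_, hp, hF, hc⟩
      · have : CharZero Λ := CharP.charP_to_charZero Λ
        exact Or.inl (charZero_of_injective_ringHom hC)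
    · exact Or.inl (charZero_of_injective_ringHom hC)
  rcases hcase with h0 | ⟨p, hp, hF, hc⟩
  · exact (isRegularRing_cancel_iff R K L C).mp
      (have : Algebra.IsSeparable K L := Algebra.IsSeparable.of_integral K L
       isRegularRing_tensor_of_separable K L (K ⊗[R] C))
  · have : Fact p.Prime := ⟨hp⟩
    letI := hF.toField
    have : CharP K p := charP_of_injective_ringHom hC p
    exact isRegularRing_tensor_of_finite p R K L C
      ⟨inferInstance, inferInstance, isFull_mvPowerSeries_fin Λ n p, derivExt_of_isAdicFormallySmooth h, hB⟩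

/-- Approximations for the map out of a base change. -/
theorem surjective_tensor_of_approx {R A C B : Type u} [CommRing R] [CommRing A] [CommRing C] [CommRing B]
    [Algebra R A] [Algebra R C] [Algebra A B] [Algebra R B] [IsScalarTower R A B] [IsLocalRing A] [IsLocalRing C]
    [IsLocalRing B] [IsLocalHom (algebraMap A B)] [IsAdicComplete (maximalIdeal B) B]
    (J : Ideal (A ⊗[R] C)) [IsPrecomplete J (A ⊗[R] C)] (χ : C →ₐ[R] B)
    (hJA : ∀ a ∈ maximalIdeal A, a ⊗ₜ[R] (1 : C) ∈ J) (hJC : ∀ c ∈ maximalIdeal C, (1 : A) ⊗ₜ[R] c ∈ J)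
    (hJ : ∀ x ∈ J, Algebra.TensorProduct.lift (Algebra.ofId A B) χ (fun _ _ => Commute.all _ _) x ∈ maximalIdeal B)
    (happ : ∀ b, ∃ c, χ c - b ∈ (maximalIdeal A).map (algebraMap A B))
    (hloc : ∀ c, χ c ∈ maximalIdeal B → c ∈ maximalIdeal C) :
    Function.Surjective (Algebra.TensorProduct.lift (Algebra.ofId A B) χ (fun _ _ => Commute.all _ _)) := by
  set ψ := Algebra.TensorProduct.lift (Algebra.ofId A B) χ (fun _ _ => Commute.all _ _) with hψ
  have hψt : ∀ a c, ψ (a ⊗ₜ c) = algebraMap A B a * χ c := fun a c => Algebra.TensorProduct.lift_tmul _ _ _ a c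
  have hmAB : (maximalIdeal A).map (algebraMap A B) ≤ maximalIdeal B := map_maximalIdeal_le _
  have hmem : ∀ y ∈ (maximalIdeal A).map (algebraMap A B),
      ∃ x ∈ J, ψ x - y ∈ maximalIdeal B ^ 2 := by
    intro y hy
    induction hy using Submodule.span_induction with
    | mem z hz =>
      obtain ⟨a, ha, rfl⟩ := hz
      exact ⟨a ⊗ₜ 1, hJA a ha, by rw [hψt, map_one, mul_one, sub_self]; exact zero_mem _⟩
    | zero => exact ⟨0, zero_mem _, by rw [map_zero, sub_zero]; exact zero_mem _⟩
    | add y z _ _ hy hz =>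
      obtain ⟨x, hx, hxy⟩ := hy
      obtain ⟨x', hx', hxz⟩ := hz
      exact ⟨x + x', add_mem hx hx', by rw [map_add, add_sub_add_comm]; exact add_mem hxy hxz⟩
    | smul r y hymem hy =>
      obtain ⟨x, hx, hxy⟩ := hy
      obtain ⟨c, hc⟩ := happ r
      refine ⟨x * (1 ⊗ₜ c), Ideal.mul_mem_right _ _ hx, ?_⟩
      rw [map_mul, hψt, map_one, one_mul, smul_eq_mul,
        show ψ x * χ c - r * y = (ψ x - y) * χ c + y * (χ c - r) by ring]
      exact add_mem (Ideal.mul_mem_right _ _ hxy)
        (pow_two (maximalIdeal B) ▸ Ideal.mul_mem_mul (hmAB hymem) (hmAB hc))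
  refine H02CA.PS.surjective_of_approx ψ.toRingHom J (maximalIdeal B) hJ (fun s => ?_) fun s hs => ?_
  · obtain ⟨c, hc⟩ := happ s
    exact ⟨1 ⊗ₜ c, by show ψ (1 ⊗ₜ c) - s ∈ _; rw [hψt, map_one, one_mul]; exact hmAB hc⟩
  · obtain ⟨c, hc⟩ := happ s
    obtain ⟨x, hx, hxc⟩ := hmem _ hc
    have hcm : c ∈ maximalIdeal C := hloc c (by
      have := add_mem (hmAB hc) hs
      rwa [sub_add_cancel] at this)
    refine ⟨1 ⊗ₜ c - x, sub_mem (hJC c hcm) hx, ?_⟩
    show ψ (1 ⊗ₜ c - x) - s ∈ _
    rw [map_sub, hψt, map_one, one_mul, show χ c - ψ x - s = -(ψ x - (χ c - s)) by ring]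
    exact neg_mem hxc

/-- A formally smooth complete algebra over a complete local domain comes from a regular one over a power series
ring. -/
theorem exists_equiv_tensor_of_domain (A B : Type u) [CommRing A] [IsDomain A] [CommRing B] [IsLocalRing A]
    [IsLocalRing B] [IsNoetherianRing A] [IsNoetherianRing B] [IsAdicComplete (maximalIdeal A) A]
    [IsAdicComplete (maximalIdeal B) B] [Algebra A B] [IsLocalHom (algebraMap A B)]
    (h : IsAdicFormallySmooth A B (maximalIdeal B)) :
    ∃ (Λ : Type u) (_ : CommRing Λ) (_ : IsLocalRing Λ) (n : ℕ) (f : MvPowerSeries (Fin n) Λ →+* A)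
      (C : Type u) (_ : CommRing C) (_ : IsRegularLocalRing C) (_ : IsAdicComplete (maximalIdeal C) C)
      (_ : Algebra (MvPowerSeries (Fin n) Λ) C),
      ((IsField Λ ∧ ∃ c, CharP Λ c) ∨ (CAlg.IsCohenRing Λ ∧ CharZero Λ)) ∧ Function.Injective f ∧ f.Finite ∧
      IsAdicFormallySmooth (MvPowerSeries (Fin n) Λ) C (maximalIdeal C) ∧
      (letI := f.toAlgebra; Nonempty ((A ⊗[MvPowerSeries (Fin n) Λ] C) ≃ₐ[A] B)) := by
  classical
  obtain ⟨Λ, _, n, f, hΛ, hinj, hfin, hres⟩ := exists_coefficientRing_of_domain A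
  have hΛ' : IsField Λ ∨ CAlg.IsCohenRing Λ := hΛ.imp And.left And.left
  obtain ⟨_, _, _, -⟩ := coefficientRing_spec hΛ'
  let R := MvPowerSeries (Fin n) Λ
  have : IsNoetherianRing R := by
    have := isRegularRing_of_isField_or_isCohenRing hΛ'
    have : IsRegularRing R := S5784.result Λ _
    infer_instance
  letI : Algebra R A := f.toAlgebra
  have : Module.Finite R A := hfin
  have hmA : (maximalIdeal R).map (algebraMap R A) ≤ maximalIdeal A := map_le_maximalIdeal_of_finite
  letI : Algebra R B := ((algebraMap A B).comp f).toAlgebra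
  have : IsScalarTower R A B := IsScalarTower.of_algebraMap_eq fun _ => rfl
  let mB := (maximalIdeal A).map (algebraMap A B)
  have hmAB : mB ≤ maximalIdeal B := map_maximalIdeal_le _
  have : Nontrivial (B ⧸ mB) :=
    Ideal.Quotient.nontrivial_iff.mpr (ne_top_of_le_ne_top (maximalIdeal.isMaximal B).ne_top hmAB)
  have : IsLocalRing (B ⧸ mB) := .of_surjective' _ Ideal.Quotient.mk_surjective
  letI : Field (A ⧸ maximalIdeal A) := Ideal.Quotient.field _
  have hFS0 := isAdicFormallySmooth_quotient_fibre (maximalIdeal A) (maximalIdeal B) h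
  rw [IsLocalRing.map_maximalIdeal_of_surjective _ Ideal.Quotient.mk_surjective] at hFS0
  have : IsRegularLocalRing (B ⧸ mB) := (isRegularLocalRing_of_isAdicFormallySmooth hFS0).1
  have : IsAdicComplete (maximalIdeal (B ⧸ mB)) (B ⧸ mB) := by
    rw [← IsLocalRing.map_maximalIdeal_of_surjective _ (Ideal.Quotient.mk_surjective (I := mB))]
    exact H24Adic.isAdicComplete_map_quotient mB
  have hφ : ∀ x ∈ maximalIdeal R, (Ideal.Quotient.mk mB).comp (algebraMap R B) x = 0 := fun x hx =>
    Ideal.Quotient.eq_zero_iff_mem.mpr (Ideal.mem_map_of_mem _ (hmA (Ideal.mem_map_of_mem _ hx)))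
  obtain ⟨C, _, _, _, π, _, _, hcC, hπ, hkerπ, hπφ⟩ :=
    exists_flat_lift_regular hΛ' n ((Ideal.Quotient.mk mB).comp (algebraMap R B)) hφ
  have := hcC
  have hloc : IsLocalHom π := Function.Surjective.isLocalHom π hπ
  -- formal smoothness of `C`
  have hFSC : IsAdicFormallySmooth R C (maximalIdeal C) := by
    refine isAdicFormallySmooth_of_flat_of_fibre ?_
    let q : R ⧸ maximalIdeal R →+* A ⧸ maximalIdeal A :=
      Ideal.quotientMap _ f (Ideal.map_le_iff_le_comap.mp hmA)
    have hq : Function.Bijective q := by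
      refine ⟨?_, fun z => ?_⟩
      · letI : Field (R ⧸ maximalIdeal R) := Ideal.Quotient.field _
        exact q.injective
      · obtain ⟨x, hx⟩ := hres z
        exact ⟨Ideal.Quotient.mk _ x, hx⟩
    let e₀ := RingEquiv.ofBijective q hq
    let mC := (maximalIdeal R).map (algebraMap R C)
    let e : C ⧸ mC ≃+* B ⧸ mB := (Ideal.quotEquivOfEq hkerπ.symm).trans (RingHom.quotientKerEquivOfSurjective hπ)
    have : Nontrivial (C ⧸ mC) :=
      Ideal.Quotient.nontrivial_iff.mpr (ne_top_of_le_ne_top (maximalIdeal.isMaximal C).ne_top (map_maximalIdeal_le _))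
    have : IsLocalRing (C ⧸ mC) := .of_surjective' _ Ideal.Quotient.mk_surjective
    rw [IsLocalRing.map_maximalIdeal_of_surjective _ Ideal.Quotient.mk_surjective]
    refine isAdicFormallySmooth_of_ringEquiv e₀.symm e.symm (fun r => ?_) (IsLocalRing.map_ringEquiv_maximalIdeal _) hFS0
    refine e.injective ?_
    rw [e.apply_symm_apply]
    obtain ⟨x, rfl⟩ := e₀.surjective r
    rw [e₀.symm_apply_apply]
    obtain ⟨x, rfl⟩ := Ideal.Quotient.mk_surjective x
    show Ideal.Quotient.mk mB (algebraMap A B (f x)) = π (algebraMap R C x)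
    exact (RingHom.congr_fun hπφ x).symm
  -- the lift
  obtain ⟨χ, hχ⟩ := exists_lift_adicFormallySmooth hFSC (maximalIdeal B) mB hmAB
    { π with commutes' := fun x => RingHom.congr_fun hπφ x } fun x hx c hc => by
      have h1 : π x ∈ maximalIdeal (B ⧸ mB) := map_nonunit π x hx
      rw [show π x = Ideal.Quotient.mk mB c from hc] at h1
      exact fun hu => h1 (hu.map _)
  have hχπ : ∀ c, Ideal.Quotient.mk mB (χ c) = π c := fun c => by
    obtain ⟨b, hb⟩ := Ideal.Quotient.mk_surjective (π c)
    rw [← hb, Ideal.Quotient.eq]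
    exact mem_of_forall_mem_sup_pow (hχ c b hb.symm)
  have hχloc : ∀ c, χ c ∈ maximalIdeal B → c ∈ maximalIdeal C := fun c hc hu => by
    have h1 := hu.map π
    rw [← hχπ] at h1
    have := Function.Surjective.isLocalHom (Ideal.Quotient.mk mB) Ideal.Quotient.mk_surjective
    exact hc ((IsLocalHom.map_nonunit (f := Ideal.Quotient.mk mB) _ h1))
  have happ : ∀ b, ∃ c, χ c - b ∈ mB := fun b => by
    obtain ⟨c, hc⟩ := hπ (Ideal.Quotient.mk mB b)
    exact ⟨c, Ideal.Quotient.eq.mp ((hχπ c).trans hc)⟩
  -- the base change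
  let P := A ⊗[R] C
  letI : Algebra C P := Algebra.TensorProduct.rightAlgebra
  have : Module.Finite C P := Module.Finite.equiv (Algebra.TensorProduct.commRight R C A).toLinearEquiv
  have : IsNoetherianRing P := IsNoetherianRing.of_finite C P
  let ψ : P →ₐ[A] B := Algebra.TensorProduct.lift (Algebra.ofId A B) χ fun _ _ => Commute.all _ _
  let IA : Ideal P := (maximalIdeal A).map (algebraMap A P)
  let IC : Ideal P := (maximalIdeal C).map (algebraMap C P)
  let J : Ideal P := IA ⊔ IC
  have hcJ : IsAdicComplete J P := by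
    have hcIC : IsAdicComplete IC P :=
      (IsAdicComplete.map_algebraMap_iff (maximalIdeal C) P (S := P)).mpr (H24Adic.isAdicComplete_of_finite _)
    have hrad : maximalIdeal A ≤ ((maximalIdeal R).map (algebraMap R A)).radical := by
      rw [← Ideal.sInf_minimalPrimes]
      refine le_sInf fun Q hQ => ?_
      have := hQ.isPrime
      have hQc : Q.comap (algebraMap R A) = maximalIdeal R :=
        ((maximalIdeal.isMaximal R).eq_of_le (Ideal.IsPrime.ne_top inferInstance)
          (Ideal.map_le_iff_le_comap.mp hQ.le)).symm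
      have hQmax : (Q.comap (algebraMap R A)).IsMaximal := hQc ▸ maximalIdeal.isMaximal R
      have : Algebra.IsIntegral R A := Algebra.IsIntegral.of_finite _ _
      exact (eq_maximalIdeal (Ideal.isMaximal_of_isIntegral_of_isMaximal_comap Q hQmax)).ge
    obtain ⟨k, hk⟩ := Ideal.exists_pow_le_of_le_radical_of_fg hrad (IsNoetherian.noetherian _)
    have hIk : IA ^ k ≤ IC := by
      rw [← Ideal.map_pow]
      refine (Ideal.map_mono hk).trans ?_
      rw [Ideal.map_map, ← IsScalarTower.algebraMap_eq, show algebraMap R P = (algebraMap C P).comp (algebraMap R C) from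
        (Algebra.TensorProduct.includeRight (R := R) (A := A) (B := C)).comp_algebraMap.symm, ← Ideal.map_map]
      exact Ideal.map_mono (map_maximalIdeal_le _)
    refine H24Adic.isAdicComplete_of_pow_le (I := IC) (a := k + 1) (b := 1) ?_ (by rw [pow_one]; exact le_sup_right) P
    exact (Ideal.sup_pow_add_le_pow_sup_pow (n := k) (m := 1)).trans (sup_le hIk (by rw [pow_one]))
  have hψJ : ∀ x ∈ J, ψ x ∈ maximalIdeal B := by
    intro x hx
    refine (sup_le (Ideal.map_le_iff_le_comap.mpr ?_) (Ideal.map_le_iff_le_comap.mpr ?_) : J ≤ (maximalIdeal B).comap ψ.toRingHom) hx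
    · intro a ha
      show ψ (algebraMap A P a) ∈ maximalIdeal B
      rw [ψ.commutes]
      exact hmAB (Ideal.mem_map_of_mem _ ha)
    · intro c hc
      show ψ (1 ⊗ₜ c) ∈ maximalIdeal B
      rw [Algebra.TensorProduct.lift_tmul, map_one, one_mul]
      have h1 : π c ∈ maximalIdeal (B ⧸ mB) := map_nonunit π c hc
      rw [← hχπ] at h1
      exact fun hu => h1 (hu.map _)
  have hψs : Function.Surjective ψ := surjective_tensor_of_approx J χ
    (fun a ha => Submodule.mem_sup_left (Ideal.mem_map_of_mem (algebraMap A P) ha))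
    (fun c hc => Submodule.mem_sup_right (Ideal.mem_map_of_mem (algebraMap C P) hc)) hψJ happ hχloc
  -- every element is congruent to one from `C`
  have hdecomp : ∀ z : P, ∃ c, z - (1 : A) ⊗ₜ c ∈ IA := by
    intro z
    induction z using TensorProduct.induction_on with
    | zero => exact ⟨0, by simp⟩
    | add x y hx hy =>
      obtain ⟨c, hc⟩ := hx
      obtain ⟨d, hd⟩ := hy
      exact ⟨c + d, by rw [TensorProduct.tmul_add, add_sub_add_comm]; exact add_mem hc hd⟩
    | tmul a c =>
      obtain ⟨x, hx⟩ := hres (residue A a)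
      refine ⟨x • c, ?_⟩
      rw [← TensorProduct.smul_tmul, ← TensorProduct.sub_tmul, Algebra.smul_def, mul_one,
        show (a - algebraMap R A x) ⊗ₜ[R] c = algebraMap A P (a - algebraMap R A x) * (1 ⊗ₜ c) by
          show _ = ((a - algebraMap R A x) ⊗ₜ[R] (1 : C)) * _
          rw [Algebra.TensorProduct.tmul_mul_tmul, mul_one, one_mul]]
      exact Ideal.mul_mem_right _ _ (Ideal.mem_map_of_mem _ (Ideal.Quotient.eq.mp hx.symm))
  have hkerψ : ∀ z, ψ z = 0 → z ∈ IA := by
    intro z hz
    obtain ⟨c, hc⟩ := hdecomp z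
    have h1 : ψ (z - 1 ⊗ₜ c) ∈ mB := by
      have := Ideal.mem_map_of_mem ψ.toRingHom hc
      rw [Ideal.map_map, show ψ.toRingHom.comp (algebraMap A P) = algebraMap A B from ψ.comp_algebraMap] at this
      exact this
    rw [map_sub, hz, zero_sub, Algebra.TensorProduct.lift_tmul, map_one, one_mul, neg_mem_iff] at h1
    have h2 : π c = 0 := by rw [← hχπ]; exact Ideal.Quotient.eq_zero_iff_mem.mpr h1
    have h3 : (1 : A) ⊗ₜ c ∈ IA := by
      have h4 : c ∈ (maximalIdeal R).map (algebraMap R C) := hkerπ ▸ (RingHom.mem_ker.mpr h2)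
      have h5 := Ideal.mem_map_of_mem (algebraMap C P) h4
      rw [Ideal.map_map, show (algebraMap C P).comp (algebraMap R C) = algebraMap R P from
        (Algebra.TensorProduct.includeRight (R := R) (A := A) (B := C)).comp_algebraMap,
        IsScalarTower.algebraMap_eq R A P, ← Ideal.map_map] at h5
      exact Ideal.map_mono hmA h5
    have := add_mem hc h3
    rwa [sub_add_cancel] at this
  have hJeq : J = (maximalIdeal B).comap ψ.toRingHom := by
    refine le_antisymm hψJ fun z hz => ?_
    obtain ⟨c, hc⟩ := hdecomp z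
    have h1 : ψ (z - 1 ⊗ₜ c) ∈ maximalIdeal B := hψJ _ (Submodule.mem_sup_left hc)
    have h2 : χ c ∈ maximalIdeal B := by
      have := sub_mem (show ψ z ∈ maximalIdeal B from hz) h1
      rwa [map_sub, sub_sub_cancel, Algebra.TensorProduct.lift_tmul, map_one, one_mul] at this
    have := add_mem (Submodule.mem_sup_left hc : z - 1 ⊗ₜ c ∈ J)
      (Submodule.mem_sup_right (Ideal.mem_map_of_mem (algebraMap C P) (hχloc c h2)) : (1 : A) ⊗ₜ c ∈ J)
    rwa [sub_add_cancel] at this
  have hJmax : J.IsMaximal := hJeq ▸ Ideal.comap_isMaximal_of_surjective ψ.toRingHom hψs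
  have : IsLocalRing P := IsLocalRing.of_unique_max_ideal ⟨J, hJmax, fun M hM =>
    (hJmax.eq_of_le hM.ne_top ((IsAdicComplete.le_jacobson_bot J).trans (sInf_le ⟨bot_le, hM⟩))).symm⟩
  have : IsLocalHom (algebraMap A P) := by
    refine ((local_hom_TFAE _).out 0 2).mpr ?_
    rw [← eq_maximalIdeal hJmax]
    exact le_sup_left
  have hψi := injective_of_isAdicFormallySmooth_of_ker_le h ψ hψs hkerψ
  exact ⟨Λ, inferInstance, inferInstance, n, f, C, inferInstance, inferInstance, hcC, inferInstance,
    hΛ.imp (fun h => ⟨h.1, _, h.2⟩) id, hinj, hfin, hFSC, ⟨AlgEquiv.ofBijective ψ ⟨hψi, hψs⟩⟩⟩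

/-- Generic fibres of formally smooth homomorphisms of complete local domains. -/
theorem isRegularRing_tensor_of_domain {A B : Type u} [CommRing A] [IsDomain A] [CommRing B] [IsLocalRing A]
    [IsLocalRing B] [IsNoetherianRing A] [IsNoetherianRing B] [IsAdicComplete (maximalIdeal A) A]
    [IsAdicComplete (maximalIdeal B) B] [Algebra A B] [IsLocalHom (algebraMap A B)]
    (h : IsAdicFormallySmooth A B (maximalIdeal B)) (K L : Type u) [Field K] [Field L] [Algebra A K]
    [IsFractionRing A K] [Algebra K L] [Algebra A L] [IsScalarTower A K L] [FiniteDimensional K L] :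
    IsRegularRing (L ⊗[A] B) := by
  obtain ⟨Λ, _, _, n, f, C, _, _, _, _, hΛ, hinj, hfin, hFS, he⟩ := exists_equiv_tensor_of_domain A B h
  obtain ⟨_, _, _, -⟩ := coefficientRing_spec (hΛ.imp And.left And.left)
  let R := MvPowerSeries (Fin n) Λ
  have : IsDomain R := NoZeroDivisors.to_isDomain _
  letI : Algebra R A := f.toAlgebra
  obtain ⟨e⟩ := he
  have : Module.Finite R A := hfin
  have : FaithfulSMul R A := (faithfulSMul_iff_algebraMap_injective _ _).mpr hinj
  letI : Algebra R K := ((algebraMap A K).comp f).toAlgebra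
  have : IsScalarTower R A K := IsScalarTower.of_algebraMap_eq fun _ => rfl
  have : FaithfulSMul R K := (faithfulSMul_iff_algebraMap_injective _ _).mpr ((IsFractionRing.injective A K).comp hinj)
  let K0 := FractionRing R
  letI : Algebra K0 K := FractionRing.liftAlgebra _ _
  have : Algebra.IsIntegral R A := Algebra.IsIntegral.of_finite _ _
  have : FiniteDimensional K0 K := by
    have : Algebra.IsAlgebraic R A := inferInstance
    have hloc : IsLocalization (Algebra.algebraMapSubmonoid A (nonZeroDivisors R)) K := inferInstance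
    exact Module.Finite.of_isLocalizedModule (nonZeroDivisors R) (IsScalarTower.toAlgHom R A K).toLinearMap
  letI : Algebra R L := ((algebraMap A L).comp f).toAlgebra
  have : IsScalarTower R A L := IsScalarTower.of_algebraMap_eq fun _ => rfl
  letI : Algebra K0 L := ((algebraMap K L).comp (algebraMap K0 K)).toAlgebra
  have : IsScalarTower K0 K L := IsScalarTower.of_algebraMap_eq fun _ => rfl
  have : IsScalarTower R K0 L := IsScalarTower.of_algebraMap_eq fun r => by
    rw [IsScalarTower.algebraMap_apply K0 K L, ← IsScalarTower.algebraMap_apply R K0 K,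
      IsScalarTower.algebraMap_apply R A K, ← IsScalarTower.algebraMap_apply A K L,
      ← IsScalarTower.algebraMap_apply]
  have : FiniteDimensional K0 L := Module.Finite.trans K L
  have := isRegularRing_tensor_mvPowerSeries_of_isAdicFormallySmooth n hΛ C hFS L
  exact IsRegularRing.of_ringEquiv (R := L ⊗[R] C)
    ((Algebra.TensorProduct.cancelBaseChange R A A L C).symm.trans
      (Algebra.TensorProduct.congr AlgEquiv.refl e)).toRingEquiv

/-- Formally smooth local homomorphisms of complete Noetherian local rings are regular. -/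
theorem isRegularHom_of_isAdicFormallySmooth_complete {A B : Type u} [CommRing A] [CommRing B]
    [IsLocalRing A] [IsLocalRing B] [IsNoetherianRing A] [IsNoetherianRing B]
    [IsAdicComplete (maximalIdeal A) A] [IsAdicComplete (maximalIdeal B) B]
    [Algebra A B] [IsLocalHom (algebraMap A B)] (h : IsAdicFormallySmooth A B (maximalIdeal B)) :
    CAlg.IsRegularHom A B := by
  have := flat_of_isAdicFormallySmooth_complete h
  refine H02CA.isRegularHom_of_forall (fun p _ => ?_) fun P _ k' _ _ _ _ _ => ?_
  · have : IsNoetherianRing (B ⊗[A] p.ResidueField) :=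
      Algebra.EssFiniteType.isNoetherianRing B (B ⊗[A] p.ResidueField)
    exact isNoetherianRing_of_ringEquiv _ (Algebra.TensorProduct.comm A B p.ResidueField).toRingEquiv
  let PB : Ideal B := P.map (algebraMap A B)
  have hPB : PB ≤ maximalIdeal B :=
    (Ideal.map_mono (le_maximalIdeal (Ideal.IsPrime.ne_top inferInstance))).trans (map_maximalIdeal_le _)
  have : Nontrivial (B ⧸ PB) :=
    Ideal.Quotient.nontrivial_iff.mpr (ne_top_of_le_ne_top (maximalIdeal.isMaximal B).ne_top hPB)
  have : IsLocalRing (B ⧸ PB) := .of_surjective' _ Ideal.Quotient.mk_surjective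
  have : IsLocalRing (A ⧸ P) := .of_surjective' _ Ideal.Quotient.mk_surjective
  have : IsAdicComplete (maximalIdeal (B ⧸ PB)) (B ⧸ PB) := by
    rw [← IsLocalRing.map_maximalIdeal_of_surjective _ (Ideal.Quotient.mk_surjective (I := PB))]
    exact H24Adic.isAdicComplete_map_quotient PB
  have : IsAdicComplete (maximalIdeal (A ⧸ P)) (A ⧸ P) := by
    rw [← IsLocalRing.map_maximalIdeal_of_surjective _ (Ideal.Quotient.mk_surjective (I := P))]
    exact H24Adic.isAdicComplete_map_quotient P
  have : IsLocalHom (algebraMap (A ⧸ P) (B ⧸ PB)) := by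
    refine ((local_hom_TFAE _).out 0 2).mpr ?_
    rw [← IsLocalRing.map_maximalIdeal_of_surjective _ (Ideal.Quotient.mk_surjective (I := P)), Ideal.map_map,
      ← IsLocalRing.map_maximalIdeal_of_surjective _ (Ideal.Quotient.mk_surjective (I := PB)),
      show (algebraMap (A ⧸ P) (B ⧸ PB)).comp (Ideal.Quotient.mk P) = (Ideal.Quotient.mk PB).comp (algebraMap A B)
        from rfl, ← Ideal.map_map]
    exact Ideal.map_mono (map_maximalIdeal_le _)
  have h' := isAdicFormallySmooth_quotient_fibre P (maximalIdeal B) h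
  rw [IsLocalRing.map_maximalIdeal_of_surjective _ Ideal.Quotient.mk_surjective] at h'
  letI : Algebra (A ⧸ P) k' := ((algebraMap P.ResidueField k').comp (algebraMap (A ⧸ P) P.ResidueField)).toAlgebra
  have : IsScalarTower (A ⧸ P) P.ResidueField k' := IsScalarTower.of_algebraMap_eq fun _ => rfl
  have : IsScalarTower A (A ⧸ P) k' := IsScalarTower.of_algebraMap_eq fun a => by
    rw [IsScalarTower.algebraMap_apply A P.ResidueField k']
    rfl
  have := isRegularRing_tensor_of_domain h' P.ResidueField k'
  exact IsRegularRing.of_ringEquiv (R := k' ⊗[A ⧸ P] (B ⧸ PB))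
    ((Algebra.TensorProduct.congr (AlgEquiv.refl : k' ≃ₐ[k'] k')
      (Algebra.TensorProduct.quotIdealMapEquivQuotTensor B P)).trans
      (Algebra.TensorProduct.cancelBaseChange A (A ⧸ P) k' k' B)).toRingEquiv

/-- The map of completions of a formally smooth local homomorphism. -/
theorem exists_completion_map {A B : Type u} [CommRing A] [CommRing B] [IsLocalRing A] [IsLocalRing B]
    [IsNoetherianRing A] [IsNoetherianRing B] [Algebra A B] [IsLocalHom (algebraMap A B)]
    (h : IsAdicFormallySmooth A B (maximalIdeal B)) :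
    ∃ ψ : AdicCompletion (maximalIdeal A) A →ₐ[A] AdicCompletion (maximalIdeal B) B,
      IsLocalHom ψ.toRingHom ∧
      (letI := ψ.toRingHom.toAlgebra
       IsAdicFormallySmooth (AdicCompletion (maximalIdeal A) A) (AdicCompletion (maximalIdeal B) B)
        (maximalIdeal (AdicCompletion (maximalIdeal B) B))) := by
  let Ah := AdicCompletion (maximalIdeal A) A
  let Bh := AdicCompletion (maximalIdeal B) B
  let f : ∀ k, Ah →ₐ[A] B ⧸ maximalIdeal B ^ k := fun k =>
    (Ideal.quotientMapₐ (maximalIdeal B ^ k) (Algebra.ofId A B) (Ideal.map_le_iff_le_comap.mp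
      ((Ideal.map_pow (algebraMap A B) _ k).le.trans (Ideal.pow_right_mono (map_maximalIdeal_le _) k)))).comp
      (AdicCompletion.evalₐ (maximalIdeal A) k)
  let ψ : Ah →ₐ[A] Bh := AdicCompletion.liftAlgHom (maximalIdeal B) f fun {j k} hle => AlgHom.ext fun x => by
    obtain ⟨x, rfl⟩ : ∃ c, AdicCompletion.mkₐ (maximalIdeal A) c = x := AdicCompletion.mk_surjective _ _ x
    simp only [AlgHom.comp_apply, f]
    show Ideal.Quotient.mk _ (algebraMap A B (x.val k)) = Ideal.Quotient.mk _ (algebraMap A B (x.val j))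
    have hx := Ideal.Quotient.eq.mp (AdicCompletion.Ideal.mk_eq_mk (maximalIdeal A) hle x)
    rw [Ideal.Quotient.eq, ← map_sub]
    refine Ideal.pow_right_mono (map_maximalIdeal_le (f := algebraMap A B)) j ?_
    rw [← Ideal.map_pow]
    exact Ideal.mem_map_of_mem _ hx
  refine ⟨ψ, ?_, ?_⟩
  · refine ((local_hom_TFAE ψ.toRingHom).out 0 2).mpr ?_
    rw [AdicCompletion.maximalIdeal_eq_map, Ideal.map_map,
      show ψ.toRingHom.comp (algebraMap A Ah) = algebraMap A Bh from ψ.comp_algebraMap,
      IsScalarTower.algebraMap_eq A B Bh, ← Ideal.map_map, AdicCompletion.maximalIdeal_eq_map]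
    exact Ideal.map_mono (map_maximalIdeal_le _)
  · letI := ψ.toRingHom.toAlgebra
    have hFS := (S9317.result (maximalIdeal A) (maximalIdeal B) (IsNoetherian.noetherian _) (IsNoetherian.noetherian _)
      ⟨1, by rw [pow_one]; exact map_maximalIdeal_le _⟩ ψ.toRingHom
      (RingHom.ext fun a => (ψ.commutes a).trans (IsScalarTower.algebraMap_apply A B Bh a))).mp h
    rw [← AdicCompletion.maximalIdeal_eq_map] at hFS
    exact hFS

/-- André's localisation theorem for a base with geometrically regular formal fibres. -/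
theorem isRegularHom_of_isAdicFormallySmooth {A B : Type u} [CommRing A] [CommRing B] [IsLocalRing A] [IsLocalRing B]
    [IsNoetherianRing A] [IsNoetherianRing B] [Algebra A B] [IsLocalHom (algebraMap A B)]
    (hA : CAlg.IsRegularHom A (AdicCompletion (maximalIdeal A) A))
    (h : IsAdicFormallySmooth A B (maximalIdeal B)) : CAlg.IsRegularHom A B := by
  let Ah := AdicCompletion (maximalIdeal A) A
  let Bh := AdicCompletion (maximalIdeal B) B
  obtain ⟨ψ, hψ, hFS⟩ := exists_completion_map h
  letI : Algebra Ah Bh := ψ.toRingHom.toAlgebra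
  have : IsScalarTower A Ah Bh := IsScalarTower.of_algebraMap_eq fun a => (ψ.commutes a).symm
  have : IsLocalHom (algebraMap Ah Bh) := hψ
  have : IsNoetherianRing Ah := isNoetherianRing_adicCompletion A (maximalIdeal A)
  have : IsNoetherianRing Bh := isNoetherianRing_adicCompletion B (maximalIdeal B)
  have : IsAdicComplete (maximalIdeal Ah) Ah := by
    rw [AdicCompletion.maximalIdeal_eq_map]
    exact AdicCompletion.isAdicComplete_self _ (IsNoetherian.noetherian _)
  have : IsAdicComplete (maximalIdeal Bh) Bh := by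
    rw [AdicCompletion.maximalIdeal_eq_map]
    exact AdicCompletion.isAdicComplete_self _ (IsNoetherian.noetherian _)
  have h2 : CAlg.IsRegularHom Ah Bh := isRegularHom_of_isAdicFormallySmooth_complete hFS
  have h3 : CAlg.IsRegularHom A Bh := H02CA.isRegularHom_comp A Ah Bh hA h2 fun p _ =>
    have : IsNoetherianRing (Bh ⊗[A] p.ResidueField) :=
      Algebra.EssFiniteType.isNoetherianRing Bh (Bh ⊗[A] p.ResidueField)
    isNoetherianRing_of_ringEquiv _ (Algebra.TensorProduct.comm A Bh p.ResidueField).toRingEquiv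
  have : Module.Flat B Bh := AdicCompletion.flat_of_isNoetherian _
  have : IsLocalHom (algebraMap B Bh) := by
    refine ((local_hom_TFAE _).out 0 2).mpr ?_
    rw [← AdicCompletion.maximalIdeal_eq_map]
  have : Module.FaithfullyFlat B Bh := Module.FaithfullyFlat.of_flat_of_isLocalHom
  exact H02CA.isRegularHom_of_comp A B Bh h3

/-- Regularity of formal fibres descends along regular local homomorphisms. -/
theorem isRegularHom_completion_of_isRegularHom {A B : Type u} [CommRing A] [CommRing B] [IsLocalRing A]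
    [IsLocalRing B] [IsNoetherianRing A] [IsNoetherianRing B] [Algebra A B] [IsLocalHom (algebraMap A B)]
    (hf : CAlg.IsRegularHom A B) (hB : CAlg.IsRegularHom B (AdicCompletion (maximalIdeal B) B)) :
    CAlg.IsRegularHom A (AdicCompletion (maximalIdeal A) A) := by
  let Ah := AdicCompletion (maximalIdeal A) A
  let Bh := AdicCompletion (maximalIdeal B) B
  have := hf.1
  obtain ⟨ψ, hψ, hFS⟩ := exists_completion_map
    (isAdicFormallySmooth_of_flat_of_geometricallyRegular (hf.2 (maximalIdeal A)).2)
  letI : Algebra Ah Bh := ψ.toRingHom.toAlgebra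
  have : IsScalarTower A Ah Bh := IsScalarTower.of_algebraMap_eq fun a => (ψ.commutes a).symm
  have : IsLocalHom (algebraMap Ah Bh) := hψ
  have : IsNoetherianRing Ah := isNoetherianRing_adicCompletion A (maximalIdeal A)
  have : IsNoetherianRing Bh := isNoetherianRing_adicCompletion B (maximalIdeal B)
  have : Module.Flat Ah Bh := flat_of_isAdicFormallySmooth hFS
  have : Module.FaithfullyFlat Ah Bh := Module.FaithfullyFlat.of_flat_of_isLocalHom
  refine H02CA.isRegularHom_of_comp A Ah Bh ?_
  exact H02CA.isRegularHom_comp A B Bh hf hB fun p _ =>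
    have : IsNoetherianRing (Bh ⊗[A] p.ResidueField) :=
      Algebra.EssFiniteType.isNoetherianRing Bh (Bh ⊗[A] p.ResidueField)
    isNoetherianRing_of_ringEquiv _ (Algebra.TensorProduct.comm A Bh p.ResidueField).toRingEquiv

end Groth.Agent.H05EGA4
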