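import Mathlib
import Groth.Agent.H05EGA4.GRSHom
import Groth.Agent.H05EGA4.Equidim
import Groth.Agent.H05EGA4.DerivExt
import Groth.Agent.H05EGA4.Completion
import Groth.Agent.H02CA.CompletionFlat

/-!
# Properties of formal fibres (helper5)
-/

set_option autoImplicit false
set_option linter.style.haveILetI false
set_option synthInstance.maxHeartbeats 100000
universe u
open IsLocalRing TensorProduct Groth.Agent

namespace Groth.Agent.H05EGA4

variable {r n : WithBot ℕ∞}

section cpl

variable (A : Type u) [CommRing A] [IsNoetherianRing A] [IsLocalRing A]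

theorem isNoetherianRing_cpl : IsNoetherianRing (EGA4.Cpl A) :=
  isNoetherianRing_adicCompletion A (maximalIdeal A)

theorem flat_cpl : Module.Flat A (EGA4.Cpl A) := AdicCompletion.flat_of_isNoetherian _

theorem faithfullyFlat_cpl : Module.FaithfullyFlat A (EGA4.Cpl A) := by
  haveI := flat_cpl A
  haveI : IsLocalHom (algebraMap A (EGA4.Cpl A)) := ((local_hom_TFAE _).out 0 2).mpr (by
    rw [AdicCompletion.maximalIdeal_eq_map])
  exact Module.FaithfullyFlat.of_flat_of_isLocalHom

theorem hasGeomNormalFormalFibres_iff :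
    EGA4.HasGeomNormalFormalFibres A ↔ GRSHom 1 2 A (EGA4.Cpl A) :=
  haveI := isNoetherianRing_cpl A
  ⟨fun h => isNormalHom_iff_grsHom.mp ⟨flat_cpl A, h⟩, fun h => (isNormalHom_iff_grsHom.mpr h).2⟩

theorem hasGeomReducedFormalFibres_iff :
    EGA4.HasGeomReducedFormalFibres A ↔ GRSHom 0 1 A (EGA4.Cpl A) :=
  haveI := isNoetherianRing_cpl A
  ⟨fun h => geomReducedHom_iff_grsHom.mp ⟨flat_cpl A, h⟩, fun h => (geomReducedHom_iff_grsHom.mpr h).2⟩

theorem hasCMFormalFibres_iff : EGA4.HasCMFormalFibres A ↔ GRSHom ⊥ ⊤ A (EGA4.Cpl A) :=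
  haveI := isNoetherianRing_cpl A
  ⟨fun h => cmHom_iff_grsHom.mp ⟨flat_cpl A, h⟩, fun h => (cmHom_iff_grsHom.mpr h).2⟩

theorem hasSnFormalFibres_iff (k : ℕ) :
    EGA4.HasSnFormalFibres k A ↔ GRSHom ⊥ (k : WithBot ℕ∞) A (EGA4.Cpl A) :=
  haveI := isNoetherianRing_cpl A
  ⟨fun h => snHom_iff_grsHom.mp ⟨flat_cpl A, h⟩, fun h => (snHom_iff_grsHom.mpr h).2⟩

/-- A property of the fibres transfers the property between a ring and its completion. -/
theorem GRSHom.rs_cpl_iff (h : GRSHom r n A (EGA4.Cpl A)) : RS r n A ↔ RS r n (EGA4.Cpl A) := by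
  haveI := isNoetherianRing_cpl A
  haveI := faithfullyFlat_cpl A
  exact ⟨h.rs, RS.of_faithfullyFlat⟩

end cpl

/-- Formal fibres of a quotient. -/
theorem GRSHom.cpl_quotient {A : Type u} [CommRing A] [IsNoetherianRing A] [IsLocalRing A]
    (hA : GRSHom r n A (EGA4.Cpl A)) (I : Ideal A) [Nontrivial (A ⧸ I)] :
    GRSHom r n (A ⧸ I) (EGA4.Cpl (A ⧸ I)) := by
  let Ah := EGA4.Cpl A
  let C := EGA4.Cpl (A ⧸ I)
  haveI := isNoetherianRing_cpl A
  haveI : IsNoetherianRing ((A ⧸ I) ⊗[A] Ah) := H02CA.isNoetherianRing_tensor_of_essFiniteType _ _ _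
  have h1 : GRSHom r n (A ⧸ I) ((A ⧸ I) ⊗[A] Ah) := hA.baseChange (.inl inferInstance)
  obtain ⟨e, he⟩ := exists_completion_quotient_equiv_comm (IsLocalRing.maximalIdeal A) (A ⧸ I) (Ideal.Quotient.mk I)
    Ideal.Quotient.mk_surjective (IsLocalRing.maximalIdeal (A ⧸ I))
    (IsLocalRing.map_maximalIdeal_of_surjective _ Ideal.Quotient.mk_surjective)
  let e1 : (Ah ⧸ I.map (algebraMap A Ah)) ≃+* C := (Ideal.quotEquivOfEq (by rw [Ideal.mk_ker])).trans e
  let e2 : (Ah ⧸ I.map (algebraMap A Ah)) ≃ₐ[A ⧸ I] C := AlgEquiv.ofRingEquiv (f := e1) fun x => by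
    obtain ⟨a, rfl⟩ := Ideal.Quotient.mk_surjective x
    exact he a
  exact h1.of_algEquiv ((Algebra.TensorProduct.quotIdealMapEquivQuotTensor Ah I).symm.trans e2)

/-- Descent of properties of formal fibres along flat local homomorphisms. -/
theorem GRSHom.cpl_of_flat_local {A A' : Type u} [CommRing A] [CommRing A'] [IsNoetherianRing A]
    [IsNoetherianRing A'] [IsLocalRing A] [IsLocalRing A'] [Algebra A A'] [IsLocalHom (algebraMap A A')]
    (hf : GRSHom r n A A') (hA' : GRSHom r n A' (EGA4.Cpl A')) : GRSHom r n A (EGA4.Cpl A) := by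
  haveI := isNoetherianRing_cpl A
  haveI := isNoetherianRing_cpl A'
  haveI : IsAdicComplete (maximalIdeal (EGA4.Cpl A')) (EGA4.Cpl A') := by
    rw [AdicCompletion.maximalIdeal_eq_map]
    exact AdicCompletion.isAdicComplete_self _ (IsNoetherian.noetherian _)
  obtain ⟨ψ, hψ⟩ := exists_completion_lift (maximalIdeal A) (maximalIdeal (EGA4.Cpl A'))
    ((algebraMap A' (EGA4.Cpl A')).comp (algebraMap A A')) (by
      rw [← Ideal.map_map, AdicCompletion.maximalIdeal_eq_map]
      exact Ideal.map_mono (map_maximalIdeal_le _))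
  have hflat := (H02CA.flat_completion_iff (algebraMap A A') ψ hψ).mpr (RingHom.flat_algebraMap_iff.mpr hf.1)
  haveI := H02CA.isLocalHom_completion (algebraMap A A') ψ hψ
  letI : Algebra (EGA4.Cpl A) (EGA4.Cpl A') := ψ.toAlgebra
  haveI : Module.Flat (EGA4.Cpl A) (EGA4.Cpl A') := hflat
  haveI : IsLocalHom (algebraMap (EGA4.Cpl A) (EGA4.Cpl A')) := ‹IsLocalHom ψ›
  haveI : Module.FaithfullyFlat (EGA4.Cpl A) (EGA4.Cpl A') := Module.FaithfullyFlat.of_flat_of_isLocalHom
  haveI : IsScalarTower A (EGA4.Cpl A) (EGA4.Cpl A') := IsScalarTower.of_algebraMap_eq fun a => by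
    rw [IsScalarTower.algebraMap_apply A A' (EGA4.Cpl A')]
    exact (RingHom.congr_fun hψ a).symm
  exact (hf.comp hA').of_comp_faithfullyFlat

/-! ### Loci -/

theorem rs_atPrime_iff {R : Type u} [CommRing R] [IsNoetherianRing R] (p : Ideal R) [p.IsPrime] :
    RS r n (Localization.AtPrime p) ↔
      ∀ (p' : Ideal R) [p'.IsPrime], p' ≤ p → RSLocal r n (Localization.AtPrime p') := by
  refine ⟨fun h p' _ hle => ?_, fun h P _ => ?_⟩
  · have hdisj : Disjoint (p.primeCompl : Set R) p' := Set.disjoint_left.mpr fun x hx hx' => hx (hle hx')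
    haveI := IsLocalization.isPrime_of_isPrime_disjoint p.primeCompl (Localization.AtPrime p) p' inferInstance hdisj
    have h1 := (rsLocal_localization_iff p.primeCompl (Localization.AtPrime p) _).mp
      (h (p'.map (algebraMap R (Localization.AtPrime p))))
    exact (rsLocal_congr (IsLocalization.under_map_of_isPrime_disjoint p.primeCompl _ inferInstance hdisj)).mp h1
  · exact (rsLocal_localization_iff p.primeCompl _ P).mpr (h _ ((Ideal.comap_mono
      (le_maximalIdeal (Ideal.IsPrime.ne_top inferInstance))).trans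
      (Localization.AtPrime.under_maximalIdeal (I := p)).le))

theorem rs_atPrime_descent {A B : Type u} [CommRing A] [CommRing B] [Algebra A B] [IsNoetherianRing A]
    [IsNoetherianRing B] [Module.Flat A B] (q : Ideal B) [q.IsPrime] (hq : RS r n (Localization.AtPrime q)) :
    RS r n (Localization.AtPrime (q.comap (algebraMap A B))) := by
  rw [rs_atPrime_iff] at hq ⊢
  intro p' _ hle
  haveI : q.LiesOver (q.comap (algebraMap A B)) := ⟨rfl⟩
  obtain ⟨q', hq'q, hq', hq'p⟩ := Ideal.exists_ideal_le_liesOver_of_le q hle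
  obtain ⟨q'', _, hq'', _, hmin⟩ := exists_prime_fibre_dim_zero p' q'
  exact rsLocal_of_flat_descent p' q'' hmin (hq q'' (hq''.trans hq'q))

theorem rs_atPrime_iff_of_grsHom {A B : Type u} [CommRing A] [CommRing B] [Algebra A B] [IsNoetherianRing A]
    [IsNoetherianRing B] (h : GRSHom r n A B) (q : Ideal B) [q.IsPrime] :
    RS r n (Localization.AtPrime q) ↔ RS r n (Localization.AtPrime (q.comap (algebraMap A B))) := by
  haveI := h.1
  refine ⟨fun hq => rs_atPrime_descent q hq, fun hp => ?_⟩
  rw [rs_atPrime_iff] at hp ⊢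
  intro q' _ hle
  let p' := q'.comap (algebraMap A B)
  let Q := PrimeSpectrum.preimageEquivFiber A B ⟨p', inferInstance⟩ ⟨⟨q', inferInstance⟩, rfl⟩
  have hQ : Q.asIdeal.comap Algebra.TensorProduct.includeRight = q' :=
    congr($((PrimeSpectrum.preimageEquivFiber A B ⟨p', inferInstance⟩).left_inv ⟨⟨q', inferInstance⟩, rfl⟩).1.asIdeal)
  haveI : IsNoetherianRing (p'.Fiber B) := H02CA.isNoetherianRing_tensor_of_essFiniteType _ _ _
  exact (rsLocal_congr hQ).mp
    (rsLocal_of_flat_of_fibre p' Q.asIdeal (hp p' (Ideal.comap_mono hle)) ((h.2 p').self Q.asIdeal))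

/-- Openness of a locus descends from a faithfully flat extension with good fibres. -/
theorem isOpen_rs_of_grsHom {A B : Type u} [CommRing A] [CommRing B] [Algebra A B] [IsNoetherianRing A]
    [IsNoetherianRing B] [Module.FaithfullyFlat A B] (h : GRSHom r n A B)
    (hB : IsOpen {q : PrimeSpectrum B | RS r n (Localization.AtPrime q.asIdeal)}) :
    IsOpen {p : PrimeSpectrum A | RS r n (Localization.AtPrime p.asIdeal)} := by
  have hq : Topology.IsQuotientMap (PrimeSpectrum.comap (algebraMap A B)) :=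
    PrimeSpectrum.isQuotientMap_of_generalizingMap PrimeSpectrum.comap_surjective_of_faithfullyFlat
      (RingHom.Flat.generalizingMap_comap (RingHom.flat_algebraMap_iff.mpr inferInstance))
  rw [← hq.isOpen_preimage]
  convert hB using 1
  ext q
  exact (rs_atPrime_iff_of_grsHom h q.asIdeal).symm

/-- The local rings of the fibres. -/
theorem rsLocal_fibre {A B : Type u} [CommRing A] [CommRing B] [Algebra A B] [IsNoetherianRing A]
    [IsNoetherianRing B] (h : GRSHom r n A B) (q : Ideal B) [q.IsPrime] {p : Ideal A} [p.IsPrime] [q.LiesOver p]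
    [Algebra (Localization.AtPrime p) (Localization.AtPrime q)] [Localization.AtPrime.IsLiesOverAlgebra p q]
    [IsLocalRing (Localization.AtPrime q ⧸
      (maximalIdeal (Localization.AtPrime p)).map (algebraMap (Localization.AtPrime p) (Localization.AtPrime q)))] :
    RSLocal r n (Localization.AtPrime q ⧸
      (maximalIdeal (Localization.AtPrime p)).map (algebraMap (Localization.AtPrime p) (Localization.AtPrime q))) := by
  let Q := PrimeSpectrum.preimageEquivFiber A B ⟨p, inferInstance⟩
    ⟨⟨q, inferInstance⟩, PrimeSpectrum.ext (Ideal.LiesOver.over (P := q) (p := p)).symm⟩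
  have hQ : Q.asIdeal.comap Algebra.TensorProduct.includeRight = q :=
    congr($((PrimeSpectrum.preimageEquivFiber A B ⟨p, inferInstance⟩).left_inv
      ⟨⟨q, inferInstance⟩, PrimeSpectrum.ext (Ideal.LiesOver.over (P := q) (p := p)).symm⟩).1.asIdeal)
  haveI : IsNoetherianRing (p.Fiber B) := H02CA.isNoetherianRing_tensor_of_essFiniteType _ _ _
  have hF := (h.2 p).self Q.asIdeal
  revert hF
  generalize Q = Q' at hQ ⊢
  subst hQ
  intro hF
  have heq : (maximalIdeal (Localization.AtPrime p)).map (algebraMap (Localization.AtPrime p)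
      (Localization.AtPrime (Q'.asIdeal.comap Algebra.TensorProduct.includeRight))) =
      p.map (algebraMap A (Localization.AtPrime (Q'.asIdeal.comap Algebra.TensorProduct.includeRight))) := by
    rw [← Localization.AtPrime.map_eq_maximalIdeal, Ideal.map_map, ← IsScalarTower.algebraMap_eq]
  exact hF.of_ringEquiv
    ((Ideal.Fiber.localizationAlgEquivQuotient p Q'.asIdeal).toRingEquiv.trans (Ideal.quotEquivOfEq heq.symm))

/-- Serre's condition at a prime, for the ring itself. -/
theorem hasSkAt_iff_rs {A : Type u} [CommRing A] [IsNoetherianRing A] (k : ℕ) (p : Ideal A) [p.IsPrime] :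
    EGA4.HasSkAt k A A p ↔ RS ⊥ (k : WithBot ℕ∞) (Localization.AtPrime p) := by
  haveI : IsNoetherianRing (Localization.AtPrime p) := IsLocalization.isNoetherianRing p.primeCompl _ inferInstance
  exact hasSk_self_iff_rs

theorem norLocus_eq (A : Type u) [CommRing A] [IsNoetherianRing A] :
    EGA4.norLocus A = {p : PrimeSpectrum A | RS 1 2 (Localization.AtPrime p.asIdeal)} := by
  ext p
  refine ⟨fun hp => ?_, fun hp => ?_⟩
  · haveI := hp.1
    haveI := hp.2
    refine (isNormalRing_iff_rs).mp fun P _ => ⟨inferInstance, ?_⟩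
    exact isIntegrallyClosed_of_isLocalization _ P.primeCompl P.primeCompl_le_nonZeroDivisors
  · have h1 := (isNormalRing_iff_rs).mpr hp (maximalIdeal _)
    let e := (IsLocalization.atUnits (Localization.AtPrime p.asIdeal) (maximalIdeal _).primeCompl
      (S := Localization.AtPrime (maximalIdeal (Localization.AtPrime p.asIdeal)))
      fun x hx => IsLocalRing.notMem_maximalIdeal.mp hx).toRingEquiv
    haveI := h1.1
    haveI : IsIntegrallyClosed _ := h1.2
    exact ⟨e.toMulEquiv.isDomain, IsIntegrallyClosed.of_equiv e.symm⟩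

theorem regLocus_eq (A : Type u) [CommRing A] [IsNoetherianRing A] :
    EGA4.regLocus A = {p : PrimeSpectrum A | RS ⊤ ⊤ (Localization.AtPrime p.asIdeal)} := by
  ext p
  refine ⟨fun hp => ?_, fun hp => ?_⟩
  · haveI : IsRegularLocalRing (Localization.AtPrime p.asIdeal) := hp
    haveI := isRegularRing_of_isRegularLocalRing (Localization.AtPrime p.asIdeal)
    exact rs_of_isRegularRing _
  · have := ((rs_atPrime_iff p.asIdeal).mp hp p.asIdeal le_rfl).1 le_top
    exact this

end Groth.Agent.H05EGA4
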