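import Mathlib
import Groth.Agent.H05EGA4.FormalFibres
import Groth.Agent.H05EGA4.FormalFibreFS
import Groth.Agent.H02CA.AdicSmooth

/-!
# Fibre properties of adically formally smooth homomorphisms, globally (helper5)
-/

set_option autoImplicit false
set_option linter.style.haveILetI false
set_option synthInstance.maxHeartbeats 100000
universe u
open IsLocalRing TensorProduct CAlgX Groth.Agent

namespace Groth.Agent.H05EGA4

variable {r n : WithBot ℕ∞}

theorem grsHom_self (A : Type u) [CommRing A] [IsNoetherianRing A] : GRSHom r n A A :=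
  grsHom_of_forall inferInstance fun _ _ k' _ _ _ _ _ _ =>
    (rs_of_isRegularRing k').of_ringEquiv (Algebra.TensorProduct.rid A A k').symm.toRingEquiv

theorem grsHom_atPrime {A : Type u} [CommRing A] [IsNoetherianRing A] (p : Ideal A) [p.IsPrime] :
    GRSHom r n A (Localization.AtPrime p) :=
  haveI : IsLocalization (⊥ : Submonoid A) A := IsLocalization.self bot_le
  (grsHom_self A).localization ⊥ A (Localization.AtPrime p) p.primeCompl

/-- The fibre conditions are local on the target. -/
theorem grsHom_of_forall_maximal {A B : Type u} [CommRing A] [CommRing B] [Algebra A B] [IsNoetherianRing B]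
    (h : ∀ (M : Ideal B) [M.IsMaximal], GRSHom r n A (Localization.AtPrime M)) : GRSHom r n A B := by
  refine grsHom_of_forall (Module.flat_of_isLocalized_maximal (R := A) (S := B) (M := B)
    (fun P => Localization.AtPrime P) (fun P => Algebra.linearMap B (Localization.AtPrime P)) fun P _ => (h P).1)
    fun p _ k' _ _ _ _ _ _ => ?_
  haveI : IsNoetherianRing (k' ⊗[A] B) := H02CA.isNoetherianRing_tensor_of_essFiniteType _ _ _
  let X := k' ⊗[A] B
  intro P _
  let ι : B →ₐ[A] X := Algebra.TensorProduct.includeRight
  let q := P.comap ι.toRingHom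
  haveI : q.IsPrime := Ideal.IsPrime.comap _
  obtain ⟨M, hM, hqM⟩ := Ideal.exists_le_maximal q (Ideal.IsPrime.ne_top inferInstance)
  let X' := k' ⊗[A] Localization.AtPrime M
  haveI : IsNoetherianRing (Localization.AtPrime M) := IsLocalization.isNoetherianRing M.primeCompl _ inferInstance
  letI : Algebra X X' :=
    (Algebra.TensorProduct.map (AlgHom.id A k') (IsScalarTower.toAlgHom A B (Localization.AtPrime M))).toRingHom.toAlgebra
  haveI : IsLocalization (M.primeCompl.map ι.toRingHom) X' :=
    isLocalization_tensor_right A B (Localization.AtPrime M) k' M.primeCompl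
  have hdisj : Disjoint ((M.primeCompl.map ι.toRingHom : Submonoid X) : Set X) P :=
    Set.disjoint_left.mpr fun x hx hxP => by
      obtain ⟨b, hb, rfl⟩ := hx
      exact hb (hqM hxP)
  haveI := IsLocalization.isPrime_of_isPrime_disjoint (M.primeCompl.map ι.toRingHom) X' P inferInstance hdisj
  exact (rsLocal_congr (IsLocalization.under_map_of_isPrime_disjoint (M.primeCompl.map ι.toRingHom) X'
    inferInstance hdisj)).mp ((rsLocal_localization_iff (M.primeCompl.map ι.toRingHom) X' _).mp
      ((h M).tensor_field k' (.inl inferInstance) (P.map (algebraMap X X'))))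

/-- André's localisation theorem with properties of the formal fibres of the base. -/
theorem grsHom_of_isAdicFormallySmooth {A B : Type u} [CommRing A] [CommRing B] [IsLocalRing A] [IsLocalRing B]
    [IsNoetherianRing A] [IsNoetherianRing B] [Algebra A B] [IsLocalHom (algebraMap A B)]
    (hA : GRSHom r n A (EGA4.Cpl A)) (h : IsAdicFormallySmooth A B (maximalIdeal B)) : GRSHom r n A B := by
  let Ah := EGA4.Cpl A
  let Bh := EGA4.Cpl B
  obtain ⟨ψ, hψ, hFS⟩ := exists_completion_map h
  letI : Algebra Ah Bh := ψ.toRingHom.toAlgebra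
  haveI : IsScalarTower A Ah Bh := IsScalarTower.of_algebraMap_eq fun a => (ψ.commutes a).symm
  haveI : IsLocalHom (algebraMap Ah Bh) := hψ
  haveI := isNoetherianRing_cpl A
  haveI := isNoetherianRing_cpl B
  haveI : IsAdicComplete (maximalIdeal Ah) Ah := by
    rw [AdicCompletion.maximalIdeal_eq_map]
    exact AdicCompletion.isAdicComplete_self _ (IsNoetherian.noetherian _)
  haveI : IsAdicComplete (maximalIdeal Bh) Bh := by
    rw [AdicCompletion.maximalIdeal_eq_map]
    exact AdicCompletion.isAdicComplete_self _ (IsNoetherian.noetherian _)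
  have h2 : GRSHom r n Ah Bh := grsHom_of_isRegularHom (isRegularHom_of_isAdicFormallySmooth_complete hFS)
  haveI := faithfullyFlat_cpl B
  exact (hA.comp h2).of_comp_faithfullyFlat

/-- Adic formal smoothness passes to the local rings. -/
theorem isAdicFormallySmooth_atPrime {A B : Type u} [CommRing A] [CommRing B] [Algebra A B] (q : Ideal B) [q.IsPrime]
    (h : IsAdicFormallySmooth A B q) {p : Ideal A} [p.IsPrime]
    [Algebra (Localization.AtPrime p) (Localization.AtPrime q)]
    [IsScalarTower A (Localization.AtPrime p) (Localization.AtPrime q)] :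
    IsAdicFormallySmooth (Localization.AtPrime p) (Localization.AtPrime q) (maximalIdeal (Localization.AtPrime q)) := by
  intro C _ _ J hJ ψ hψ
  obtain ⟨j, hj⟩ := hψ
  letI : Algebra A C := ((algebraMap (Localization.AtPrime p) C).comp (algebraMap A (Localization.AtPrime p))).toAlgebra
  haveI : IsScalarTower A (Localization.AtPrime p) C := IsScalarTower.of_algebraMap_eq fun _ => rfl
  let u : B →ₐ[A] C ⧸ J :=
    (ψ.restrictScalars A).comp (IsScalarTower.toAlgHom A B (Localization.AtPrime q))
  obtain ⟨χ, hχ⟩ := h C J hJ u ⟨j, fun x hx => hj _ (by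
    rw [← Localization.AtPrime.map_eq_maximalIdeal, ← Ideal.map_pow]
    exact Ideal.mem_map_of_mem _ hx)⟩
  have hχ' : ∀ b, Ideal.Quotient.mk J (χ b) = ψ (algebraMap B (Localization.AtPrime q) b) := fun b =>
    AlgHom.congr_fun hχ b
  have hunit : ∀ y : q.primeCompl, IsUnit (χ y) := fun y =>
    isUnit_of_isUnit_mk_sq hJ (by rw [hχ']; exact (IsLocalization.map_units _ y).map ψ)
  let g : Localization.AtPrime q →ₐ[A] C := IsLocalization.liftAlgHom (M := q.primeCompl) (f := χ) hunit
  have hg : g.toRingHom.comp (algebraMap (Localization.AtPrime p) (Localization.AtPrime q)) =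
      algebraMap (Localization.AtPrime p) C := by
    refine IsLocalization.ringHom_ext p.primeCompl (RingHom.ext fun a => ?_)
    show g (algebraMap (Localization.AtPrime p) (Localization.AtPrime q) (algebraMap A _ a)) = _
    rw [← IsScalarTower.algebraMap_apply, AlgHom.commutes]
    rfl
  refine ⟨{ g with commutes' := RingHom.congr_fun hg }, ?_⟩
  refine AlgHom.coe_ringHom_injective (IsLocalization.ringHom_ext q.primeCompl (RingHom.ext fun b => ?_))
  show Ideal.Quotient.mk J (g (algebraMap B _ b)) = ψ (algebraMap B _ b)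
  rw [← hχ']
  exact congrArg _ (IsLocalization.lift_eq _ b)

/-- Adic formal smoothness at all maximal ideals transfers the properties of formal fibres to the fibres. -/
theorem grsHom_of_forall_maximal_fs {A B : Type u} [CommRing A] [CommRing B] [Algebra A B] [IsNoetherianRing A]
    [IsNoetherianRing B]
    (hA : ∀ (p : Ideal A) [p.IsPrime], GRSHom r n (Localization.AtPrime p) (EGA4.Cpl (Localization.AtPrime p)))
    (h : ∀ (M : Ideal B) [M.IsMaximal], IsAdicFormallySmooth A B M) : GRSHom r n A B := by
  refine grsHom_of_forall_maximal fun M _ => ?_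
  let p := M.comap (algebraMap A B)
  haveI : M.LiesOver p := ⟨rfl⟩
  letI := Localization.AtPrime.algebraOfLiesOver p M
  haveI : IsLocalHom (algebraMap (Localization.AtPrime p) (Localization.AtPrime M)) := by
    rw [Localization.AtPrime.IsLiesOverAlgebra.algebraMap_eq]
    infer_instance
  haveI : IsNoetherianRing (Localization.AtPrime p) := IsLocalization.isNoetherianRing p.primeCompl _ inferInstance
  haveI : IsNoetherianRing (Localization.AtPrime M) := IsLocalization.isNoetherianRing M.primeCompl _ inferInstance
  exact (grsHom_atPrime p).comp (grsHom_of_isAdicFormallySmooth (hA p) (isAdicFormallySmooth_atPrime M (h M)))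

theorem isAdicFormallySmooth_mono {A B : Type u} [CommRing A] [CommRing B] [Algebra A B] {I J : Ideal B}
    (hIJ : I ≤ J) (h : IsAdicFormallySmooth A B I) : IsAdicFormallySmooth A B J :=
  fun C _ _ N hN ψ ⟨k, hk⟩ => h C N hN ψ ⟨k, fun x hx => hk x (Ideal.pow_right_mono hIJ k hx)⟩

/-- Completions along ideals. -/
theorem grsHom_adicCompletion {A : Type u} [CommRing A] [IsNoetherianRing A]
    (hA : ∀ (p : Ideal A) [p.IsPrime], GRSHom r n (Localization.AtPrime p) (EGA4.Cpl (Localization.AtPrime p)))
    (I : Ideal A) : GRSHom r n A (AdicCompletion I A) := by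
  haveI := isNoetherianRing_adicCompletion A I
  refine grsHom_of_forall_maximal_fs hA fun M _ => ?_
  haveI : IsAdicComplete (I.map (algebraMap A (AdicCompletion I A))) (AdicCompletion I A) :=
    AdicCompletion.isAdicComplete_self _ (IsNoetherian.noetherian _)
  refine isAdicFormallySmooth_mono ?_ ((H02CA.AdicSmooth.iff_adicCompletion I (IsNoetherian.noetherian _)).mp
    fun C _ _ J _ ψ _ => ⟨Algebra.ofId A C, AlgHom.ext fun a => (ψ.commutes a).symm⟩)
  exact (IsAdicComplete.le_jacobson_bot _).trans (sInf_le ⟨bot_le, inferInstance⟩)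

/-- Rings of formal power series. -/
theorem grsHom_mvPowerSeries {A : Type u} [CommRing A] [IsNoetherianRing A]
    (hA : ∀ (p : Ideal A) [p.IsPrime], GRSHom r n (Localization.AtPrime p) (EGA4.Cpl (Localization.AtPrime p)))
    (m : ℕ) : GRSHom r n A (MvPowerSeries (Fin m) A) := by
  refine grsHom_of_forall_maximal_fs hA fun M _ => ?_
  refine H02CA.AdicSmooth.mvPowerSeries M (fun i => ?_) fun C _ _ J _ ψ _ =>
    ⟨Algebra.ofId A C, AlgHom.ext fun a => (ψ.commutes a).symm⟩
  have h : MvPowerSeries.X i ∈ (⊥ : Ideal (MvPowerSeries (Fin m) A)).jacobson := by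
    rw [Ideal.mem_jacobson_bot]
    intro y
    rw [MvPowerSeries.isUnit_iff_constantCoeff, map_add, map_mul, MvPowerSeries.constantCoeff_X, zero_mul, zero_add,
      map_one]
    exact isUnit_one
  exact (sInf_le ⟨bot_le, ‹M.IsMaximal›⟩ : (⊥ : Ideal (MvPowerSeries (Fin m) A)).jacobson ≤ M) h

end Groth.Agent.H05EGA4
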