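import Mathlib
import Groth.Agent.H05EGA4.LocalToGlobal
import Groth.Agent.H05EGA4.RadicalExtension

/-!
# Formal fibres of localisations of polynomial rings (helper5)

The formal fibres of `A[T]_Q` are cut out, in the regular ring `k' ⊗_A (A[T]_Q)^`, by the element `T - θ`, whose
derivative along `d/dT` is `1`; so they are geometrically regular when those of `A` are.
-/

set_option autoImplicit false
set_option linter.style.haveILetI false
set_option synthInstance.maxHeartbeats 400000
set_option maxHeartbeats 800000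
universe u
open Polynomial IsLocalRing TensorProduct CAlgX Groth.Agent

namespace Groth.Agent.H05EGA4

/-- The kernel of the comparison of tensor products over two bases. -/
theorem mem_of_map_eq_zero {A k C : Type u} [CommRing A] [CommRing k] [CommRing C] [Algebra A k] [Algebra A C]
    (D : Type u) [CommRing D] [Algebra D k] [Algebra D C] (φ : k ⊗[A] C →ₐ[A] k ⊗[D] C)
    [Algebra A D] [IsScalarTower A D k] [IsScalarTower A D C] (hφ : ∀ x c, φ (x ⊗ₜ[A] c) = x ⊗ₜ[D] c)
    (J : Ideal (k ⊗[A] C)) (hJ : ∀ d, (1 : k) ⊗ₜ[A] algebraMap D C d - algebraMap D k d ⊗ₜ[A] (1 : C) ∈ J)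
    {y : k ⊗[A] C} (hy : φ y = 0) : y ∈ J := by
  let g : k →+ C →+ (k ⊗[A] C) ⧸ J := AddMonoidHom.mk'
    (fun x => AddMonoidHom.mk' (fun c => Ideal.Quotient.mk J (x ⊗ₜ[A] c)) fun c c' => by rw [tmul_add, map_add])
    fun x x' => by ext c; simp [add_tmul]
  have hg : ∀ (d : D) (x : k) (c : C), g (d • x) c = g x (d • c) := fun d x c => by
    show Ideal.Quotient.mk J ((d • x) ⊗ₜ[A] c) = Ideal.Quotient.mk J (x ⊗ₜ[A] (d • c))
    rw [Ideal.Quotient.eq, Algebra.smul_def, Algebra.smul_def,
      show algebraMap D k d * x = algebraMap D k d * x from rfl]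
    have h1 := J.mul_mem_left (x ⊗ₜ[A] c) (hJ d)
    rw [mul_sub, Algebra.TensorProduct.tmul_mul_tmul, Algebra.TensorProduct.tmul_mul_tmul, mul_one, mul_one,
      ← neg_mem_iff, neg_sub, mul_comm x, mul_comm c] at h1
    exact h1
  let ψ := TensorProduct.liftAddHom g hg
  have hψ : ∀ z, ψ (φ z) = Ideal.Quotient.mk J z := fun z => by
    induction z using TensorProduct.induction_on with
    | zero => simp
    | add x y hx hy => simp only [map_add, hx, hy]
    | tmul x c => rw [hφ]; rfl
  rw [← Ideal.Quotient.eq_zero_iff_mem, ← hψ, hy, map_zero]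

/-- Regularity of the quotient identifying the two images of the variable. -/
theorem isRegularRing_tensor_polynomial_atPrime {A : Type u} [CommRing A] (Q : Ideal A[X]) [Q.IsPrime]
    (k' C : Type u) [CommRing k'] [CommRing C] [Algebra A k'] [Algebra A C]
    [Algebra (Localization.AtPrime Q) k'] [IsScalarTower A (Localization.AtPrime Q) k']
    [Algebra A[X] C] [Algebra (Localization.AtPrime Q) C] [IsScalarTower A (Localization.AtPrime Q) C]
    [IsScalarTower A[X] (Localization.AtPrime Q) C]
    (δ : C →ₗ[A] C) (hδ : ∀ a b, δ (a * b) = a * δ b + b * δ a) (hδT : δ (algebraMap A[X] C X) = 1)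
    [IsRegularRing (k' ⊗[A] C)] [IsNoetherianRing (k' ⊗[Localization.AtPrime Q] C)] :
    IsRegularRing (k' ⊗[Localization.AtPrime Q] C) := by
  let D := Localization.AtPrime Q
  let Y := k' ⊗[A] C
  let Z := k' ⊗[D] C
  let φ : Y →ₐ[A] Z := Algebra.TensorProduct.lift
    (Algebra.TensorProduct.includeLeft : k' →ₐ[A] Z)
    ((Algebra.TensorProduct.includeRight : C →ₐ[D] Z).restrictScalars A) fun _ _ => Commute.all _ _
  have hφ : ∀ k c, φ (k ⊗ₜ c) = k ⊗ₜ c := fun k c => by
    rw [Algebra.TensorProduct.lift_tmul]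
    show (k ⊗ₜ[D] (1 : C)) * ((1 : k') ⊗ₜ[D] c) = _
    rw [Algebra.TensorProduct.tmul_mul_tmul, mul_one, one_mul]
  have hsurj : Function.Surjective φ := fun z => by
    induction z using TensorProduct.induction_on with
    | zero => exact ⟨0, map_zero φ⟩
    | add x y hx hy =>
      obtain ⟨x, rfl⟩ := hx
      obtain ⟨y, rfl⟩ := hy
      exact ⟨x + y, map_add φ x y⟩
    | tmul k c => exact ⟨k ⊗ₜ c, hφ k c⟩
  let θ : k' := algebraMap D k' (algebraMap A[X] D X)
  let t : Y := (1 : k') ⊗ₜ[A] algebraMap A[X] C X - θ ⊗ₜ[A] (1 : C)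
  have htk : φ t = 0 := by
    rw [map_sub, hφ, hφ, sub_eq_zero, IsScalarTower.algebraMap_apply A[X] D C, Algebra.algebraMap_eq_smul_one,
      tmul_smul, smul_tmul', ← Algebra.algebraMap_eq_smul_one]
  have hker : RingHom.ker φ.toRingHom = Ideal.span {t} := by
    refine le_antisymm (fun y hy => ?_) ((Ideal.span_singleton_le_iff_mem _).mpr htk)
    refine mem_of_map_eq_zero D φ hφ _ (fun d => ?_) hy
    let J := Ideal.span {t}
    refine Ideal.Quotient.eq.mp (RingHom.congr_fun (?_ :
      (Ideal.Quotient.mk J).comp ((Algebra.TensorProduct.includeRight : C →ₐ[A] Y).toRingHom.comp (algebraMap D C)) =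
      (Ideal.Quotient.mk J).comp
        ((Algebra.TensorProduct.includeLeftRingHom (R := A) (A := k') (B := C)).comp (algebraMap D k'))) d)
    refine IsLocalization.ringHom_ext Q.primeCompl (Polynomial.ringHom_ext (fun a => ?_) ?_)
    · show Ideal.Quotient.mk J ((1 : k') ⊗ₜ[A] algebraMap D C (algebraMap A[X] D (Polynomial.C a))) =
        Ideal.Quotient.mk J (algebraMap D k' (algebraMap A[X] D (Polynomial.C a)) ⊗ₜ[A] (1 : C))
      rw [show algebraMap A[X] D (Polynomial.C a) = algebraMap A D a from
        (IsScalarTower.algebraMap_apply A A[X] D a).symm, ← IsScalarTower.algebraMap_apply,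
        ← IsScalarTower.algebraMap_apply, Algebra.algebraMap_eq_smul_one, Algebra.algebraMap_eq_smul_one, smul_tmul]
    · show Ideal.Quotient.mk J ((1 : k') ⊗ₜ[A] algebraMap D C (algebraMap A[X] D X)) =
        Ideal.Quotient.mk J (θ ⊗ₜ[A] (1 : C))
      rw [Ideal.Quotient.eq, ← IsScalarTower.algebraMap_apply]
      exact Ideal.mem_span_singleton_self _
  -- the derivation
  letI : Algebra ℤ Y := Ring.toIntAlgebra Y
  let E0 : Y →ₗ[A] Y := δ.lTensor k'
  have hE0 : ∀ k c, E0 (k ⊗ₜ c) = k ⊗ₜ δ c := fun k c => rfl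
  let E : Derivation ℤ Y Y := Derivation.mk' E0.toAddMonoidHom.toIntLinearMap fun x y => by
    show E0 (x * y) = x * E0 y + y * E0 x
    induction x using TensorProduct.induction_on with
    | zero => simp
    | add x x' hx hx' => rw [add_mul, map_add, hx, hx', map_add]; ring
    | tmul r c =>
      induction y using TensorProduct.induction_on with
      | zero => simp
      | add y y' hy hy' => rw [mul_add, map_add, hy, hy', map_add]; ring
      | tmul r' c' =>
        rw [Algebra.TensorProduct.tmul_mul_tmul, hE0, hE0, hE0, Algebra.TensorProduct.tmul_mul_tmul,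
          Algebra.TensorProduct.tmul_mul_tmul, hδ, tmul_add, mul_comm r' r]
  have hEt : E t = 1 := by
    show E0 t = 1
    have h1 : δ 1 = 0 := by
      have := hδ 1 1
      rw [one_mul, one_mul] at this
      exact left_eq_add.mp this
    rw [map_sub, hE0, hE0, hδT, h1, tmul_zero, sub_zero]
    rfl
  refine isRegularRing_iff.mpr fun x _ => ?_
  let π := φ.toRingHom
  let P := x.comap π
  let S := Localization.AtPrime P
  haveI : Algebra.FormallyEtale Y S := Algebra.FormallyEtale.of_isLocalization P.primeCompl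
  obtain ⟨E', hE'⟩ := exists_derivation_extend Y S ((Algebra.linearMap Y S).compDer E)
  let f : Fin 1 → S := fun _ => algebraMap Y S t
  have hf : ∀ i, f i ∈ maximalIdeal S := fun _ => by
    rw [← Localization.AtPrime.map_eq_maximalIdeal]
    refine Ideal.mem_map_of_mem _ ?_
    show φ t ∈ x
    rw [htk]
    exact zero_mem _
  have hdet : IsUnit (Matrix.det (Matrix.of (fun i j : Fin 1 => (fun _ => E') i (f j)))) := by
    rw [Matrix.det_fin_one, Matrix.of_apply, hE']
    show IsUnit (algebraMap Y S (E t))
    rw [hEt, map_one]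
    exact isUnit_one
  haveI : IsRegularLocalRing S := isRegularRing_iff.mp (inferInstance : IsRegularRing Y) P
  obtain ⟨h1, -⟩ := S9226.result S 1 le_rfl f hf (fun _ => E') hdet
  let ρ := Localization.localRingHom P x π rfl
  have hρ : Function.Surjective ρ := (RingHom.surjectiveOnStalks_of_surjective hsurj).localRingHom_surjective P x rfl
  have hkρ : RingHom.ker ρ = Ideal.span (Set.range f) := by
    rw [ker_localRingHom_of_surjective π hsurj P x rfl, hker, Ideal.map_span, Set.image_singleton, Set.range_const]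
  let e : (S ⧸ Ideal.span (Set.range f)) ≃+* Localization.AtPrime x :=
    (Ideal.quotEquivOfEq hkρ.symm).trans (RingHom.quotientKerEquivOfSurjective hρ)
  exact IsRegularLocalRing.of_ringEquiv (R := S ⧸ Ideal.span (Set.range f)) e

/-- Localisations of polynomial rings keep geometrically regular formal fibres. -/
theorem isRegularHom_cpl_polynomial {A : Type u} [CommRing A] [IsNoetherianRing A] (Q : Ideal A[X]) [Q.IsPrime]
    (hA : CAlg.IsRegularHom (Localization.AtPrime (Q.comap (algebraMap A A[X])))
      (EGA4.Cpl (Localization.AtPrime (Q.comap (algebraMap A A[X]))))) :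
    CAlg.IsRegularHom (Localization.AtPrime Q) (EGA4.Cpl (Localization.AtPrime Q)) := by
  let p := Q.comap (algebraMap A A[X])
  let Ap := Localization.AtPrime p
  let D := Localization.AtPrime Q
  let C := EGA4.Cpl D
  haveI : IsNoetherianRing Ap := IsLocalization.isNoetherianRing p.primeCompl _ inferInstance
  haveI : IsNoetherianRing D := IsLocalization.isNoetherianRing Q.primeCompl _ inferInstance
  haveI : IsNoetherianRing C := isNoetherianRing_cpl D
  haveI : Q.LiesOver p := ⟨rfl⟩
  letI := Localization.AtPrime.algebraOfLiesOver p Q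
  haveI : IsLocalHom (algebraMap Ap D) := by
    rw [Localization.AtPrime.IsLiesOverAlgebra.algebraMap_eq]
    infer_instance
  have hFS : IsAdicFormallySmooth A A[X] Q := fun B _ _ J hJ ψ _ =>
    ⟨Algebra.FormallySmooth.lift J ⟨2, hJ⟩ ψ, Algebra.FormallySmooth.comp_lift J ⟨2, hJ⟩ ψ⟩
  have hFSC : IsAdicFormallySmooth Ap C (maximalIdeal C) := by
    rw [AdicCompletion.maximalIdeal_eq_map]
    exact (H02CA.AdicSmooth.iff_adicCompletion _ (IsNoetherian.noetherian _)).mp (isAdicFormallySmooth_atPrime Q hFS)
  haveI : IsLocalHom (algebraMap D C) := ((local_hom_TFAE _).out 0 2).mpr (by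
    rw [AdicCompletion.maximalIdeal_eq_map])
  haveI : IsLocalHom (algebraMap Ap C) := by
    rw [IsScalarTower.algebraMap_eq Ap D C]
    infer_instance
  have hAC : GRSHom ⊤ ⊤ A C :=
    (grsHom_atPrime p).comp (grsHom_of_isAdicFormallySmooth (A := Ap) (grsHom_of_isRegularHom hA) hFSC)
  refine isRegularHom_iff_grsHom.mpr (grsHom_of_forall (flat_cpl D) fun P _ k' _ _ _ _ _ _ => ?_)
  letI : Algebra A k' := ((algebraMap D k').comp (algebraMap A D)).toAlgebra
  haveI : IsScalarTower A D k' := .of_algebraMap_eq fun _ => rfl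
  haveI : Algebra.EssFiniteType A[X] D := Algebra.EssFiniteType.of_isLocalization D Q.primeCompl
  haveI : Algebra.EssFiniteType A D := Algebra.EssFiniteType.comp A A[X] D
  haveI : Algebra.EssFiniteType A k' := Algebra.EssFiniteType.comp A D k'
  haveI : IsNoetherianRing (k' ⊗[A] C) := H02CA.isNoetherianRing_tensor_of_essFiniteType _ _ _
  haveI : IsRegularRing (k' ⊗[A] C) := isRegularRing_iff_rs.mpr (hAC.tensor_field k' (.inl inferInstance))
  haveI := H02CA.isNoetherianRing_tensor_of_essFiniteType (Localization.AtPrime Q) C k'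
  letI : Algebra ℤ C := Ring.toIntAlgebra C
  obtain ⟨Dc, hDc⟩ := derivExt_completion A[X] Q C
    ((Algebra.linearMap A[X] C).compDer ((Polynomial.derivative' (R := A)).restrictScalars ℤ))
  have hDA : ∀ a, Dc (algebraMap A C a) = 0 := fun a => by
    rw [IsScalarTower.algebraMap_apply A A[X] C, hDc]
    show algebraMap A[X] C (derivative (Polynomial.C a)) = 0
    rw [derivative_C, map_zero]
  let δ : C →ₗ[A] C :=
    { toFun := fun c => Dc c
      map_add' := fun a b => map_add Dc a b
      map_smul' := fun a c => by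
        show Dc (a • c) = a • Dc c
        rw [Algebra.smul_def, Dc.leibniz, hDA, smul_zero, add_zero, smul_eq_mul, ← Algebra.smul_def] }
  refine isRegularRing_iff_rs.mp (isRegularRing_tensor_polynomial_atPrime Q k' C δ
    (fun a b => by show Dc (a * b) = _; rw [Dc.leibniz]; rfl)
    (by
      show Dc (algebraMap A[X] C X) = 1
      rw [hDc]
      show algebraMap A[X] C (derivative X) = 1
      rw [derivative_X, map_one]))

end Groth.Agent.H05EGA4
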