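import Mathlib
import Groth.Agent.H05EGA4.GPoly
import Groth.Agent.H05EGA4.GRing

/-!
# G-rings and formal fibres of algebras essentially of finite type (helper5)
-/

set_option autoImplicit false
set_option linter.style.haveILetI false
set_option synthInstance.maxHeartbeats 400000
set_option maxHeartbeats 800000
universe u
open IsLocalRing TensorProduct Groth.Agent

namespace Groth.Agent.H05EGA4

variable {r n : WithBot ℕ∞}

/-- Formal fibres of a local ring which is a quotient. -/
theorem GRSHom.cpl_of_surjective {A B : Type u} [CommRing A] [CommRing B] [IsNoetherianRing A] [IsLocalRing A]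
    [IsNoetherianRing B] [IsLocalRing B] (f : A →+* B) (hf : Function.Surjective f)
    (hA : GRSHom r n A (EGA4.Cpl A)) : GRSHom r n B (EGA4.Cpl B) := by
  let I := RingHom.ker f
  haveI : Nontrivial (A ⧸ I) := Ideal.Quotient.nontrivial_iff.mpr (RingHom.ker_ne_top f)
  let e : B ≃+* A ⧸ I := (RingHom.quotientKerEquivOfSurjective hf).symm
  letI : Algebra B (A ⧸ I) := e.toRingHom.toAlgebra
  haveI : IsLocalHom (algebraMap B (A ⧸ I)) := ⟨fun x hx => by
    have h := hx.map e.symm.toRingHom
    rwa [show e.symm.toRingHom (algebraMap B (A ⧸ I) x) = x from e.symm_apply_apply x] at h⟩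
  exact GRSHom.cpl_of_flat_local ((grsHom_self B).of_algEquiv (AlgEquiv.ofRingEquiv (f := e) fun _ => rfl))
    (hA.cpl_quotient I)

/-- Localisations keep the properties of formal fibres. -/
theorem GRSHom.cpl_atPrime {A : Type u} [CommRing A] [IsNoetherianRing A] [IsLocalRing A]
    (hA : GRSHom r n A (EGA4.Cpl A)) (p : Ideal A) [p.IsPrime] :
    GRSHom r n (Localization.AtPrime p) (EGA4.Cpl (Localization.AtPrime p)) := by
  let Ah := EGA4.Cpl A
  haveI := isNoetherianRing_cpl A
  haveI := faithfullyFlat_cpl A
  haveI : IsAdicComplete (maximalIdeal Ah) Ah := by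
    rw [AdicCompletion.maximalIdeal_eq_map]
    exact AdicCompletion.isAdicComplete_self _ (IsNoetherian.noetherian _)
  obtain ⟨⟨q, hq⟩, hqp⟩ := PrimeSpectrum.comap_surjective_of_faithfullyFlat (A := A) (B := Ah) ⟨p, inferInstance⟩
  haveI : q.LiesOver p := ⟨(congrArg PrimeSpectrum.asIdeal hqp).symm⟩
  letI := Localization.AtPrime.algebraOfLiesOver p q
  haveI : IsLocalHom (algebraMap (Localization.AtPrime p) (Localization.AtPrime q)) := by
    rw [Localization.AtPrime.IsLiesOverAlgebra.algebraMap_eq]
    infer_instance
  haveI : IsNoetherianRing (Localization.AtPrime p) := IsLocalization.isNoetherianRing p.primeCompl _ inferInstance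
  haveI : IsNoetherianRing (Localization.AtPrime q) := IsLocalization.isNoetherianRing q.primeCompl _ inferInstance
  exact GRSHom.cpl_of_flat_local (hA.localization p.primeCompl (Localization.AtPrime p) (Localization.AtPrime q) q.primeCompl)
    (grsHom_of_isRegularHom ((isGRing_of_isAdicComplete Ah).2 q))

theorem isGRing_of_surjective {R S : Type u} [CommRing R] [CommRing S] (f : R →+* S) (hf : Function.Surjective f)
    (h : CAlg.IsGRing R) : CAlg.IsGRing S := by
  haveI := h.1
  haveI : IsNoetherianRing S := isNoetherianRing_of_surjective R S f hf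
  refine ⟨inferInstance, fun Q _ => ?_⟩
  let P := Q.comap f
  haveI : IsNoetherianRing (Localization.AtPrime P) := IsLocalization.isNoetherianRing P.primeCompl _ inferInstance
  haveI : IsNoetherianRing (Localization.AtPrime Q) := IsLocalization.isNoetherianRing Q.primeCompl _ inferInstance
  haveI := isNoetherianRing_cpl (Localization.AtPrime Q)
  exact isRegularHom_iff_grsHom.mpr (GRSHom.cpl_of_surjective (Localization.localRingHom P Q f rfl)
    ((RingHom.surjectiveOnStalks_of_surjective hf).localRingHom_surjective P Q rfl) (grsHom_of_isRegularHom (h.2 P)))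

theorem isGRing_polynomial {R : Type u} [CommRing R] (h : CAlg.IsGRing R) : CAlg.IsGRing (Polynomial R) :=
  haveI := h.1
  ⟨inferInstance, fun Q _ => isRegularHom_cpl_polynomial Q (h.2 _)⟩

theorem isGRing_mvPolynomial {R : Type u} [CommRing R] (h : CAlg.IsGRing R) (m : ℕ) :
    CAlg.IsGRing (MvPolynomial (Fin m) R) := by
  induction m with
  | zero => exact isGRing_of_surjective (MvPolynomial.isEmptyAlgEquiv R (Fin 0)).symm.toRingEquiv.toRingHom (AlgEquiv.surjective _) h
  | succ k ih => exact isGRing_of_surjective (MvPolynomial.finSuccEquiv R k).symm.toRingEquiv.toRingHom (AlgEquiv.surjective _) (isGRing_polynomial ih)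

theorem isGRing_of_finiteType {R S : Type u} [CommRing R] [CommRing S] [Algebra R S] [hS : Algebra.FiniteType R S]
    (h : CAlg.IsGRing R) : CAlg.IsGRing S := by
  obtain ⟨m, f, hf⟩ := Algebra.FiniteType.iff_quotient_mvPolynomial''.mp hS
  exact isGRing_of_surjective f.toRingHom hf (isGRing_mvPolynomial h m)

theorem isGRing_of_isLocalization {R S : Type u} [CommRing R] [CommRing S] [Algebra R S] (M : Submonoid R)
    [IsLocalization M S] (h : CAlg.IsGRing R) : CAlg.IsGRing S := by
  haveI := h.1
  haveI : IsNoetherianRing S := IsLocalization.isNoetherianRing M S inferInstance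
  refine ⟨inferInstance, fun Q _ => ?_⟩
  let P := Q.comap (algebraMap R S)
  haveI : IsNoetherianRing (Localization.AtPrime P) := IsLocalization.isNoetherianRing P.primeCompl _ inferInstance
  haveI : IsNoetherianRing (Localization.AtPrime Q) := IsLocalization.isNoetherianRing Q.primeCompl _ inferInstance
  haveI := isNoetherianRing_cpl (Localization.AtPrime Q)
  haveI := IsLocalization.isLocalization_isLocalization_atPrime_isLocalization M (Localization.AtPrime Q) Q
  exact isRegularHom_iff_grsHom.mpr (GRSHom.cpl_of_surjective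
    (IsLocalization.algEquiv P.primeCompl (Localization.AtPrime P) (Localization.AtPrime Q)).toRingEquiv.toRingHom
    (AlgEquiv.surjective _) (grsHom_of_isRegularHom (h.2 P)))

/-- The G-ring property is tested at maximal ideals. -/
theorem isGRing_of_maximal {R : Type u} [CommRing R] [IsNoetherianRing R]
    (h : ∀ (m : Ideal R) [m.IsMaximal],
      CAlg.IsRegularHom (Localization.AtPrime m) (EGA4.Cpl (Localization.AtPrime m))) : CAlg.IsGRing R := by
  refine ⟨inferInstance, fun p hp => ?_⟩
  obtain ⟨m, hm, hpm⟩ := Ideal.exists_le_maximal p hp.ne_top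
  let A := Localization.AtPrime m
  haveI : IsNoetherianRing A := IsLocalization.isNoetherianRing m.primeCompl _ inferInstance
  have hdisj : Disjoint (m.primeCompl : Set R) p := Set.disjoint_left.mpr fun x hx hx' => hx (hpm hx')
  haveI := IsLocalization.isPrime_of_isPrime_disjoint m.primeCompl A p inferInstance hdisj
  let p' := p.map (algebraMap R A)
  have hloc := IsLocalization.isLocalization_isLocalization_atPrime_isLocalization m.primeCompl (Localization.AtPrime p') p'
  haveI : IsNoetherianRing (Localization.AtPrime p') := IsLocalization.isNoetherianRing p'.primeCompl _ inferInstance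
  haveI : IsNoetherianRing (Localization.AtPrime p) := IsLocalization.isNoetherianRing p.primeCompl _ inferInstance
  haveI := isNoetherianRing_cpl (Localization.AtPrime p)
  have key : ∀ (q : Ideal R) [q.IsPrime], q = p → IsLocalization.AtPrime (Localization.AtPrime p') q →
      GRSHom ⊤ ⊤ (Localization.AtPrime p) (EGA4.Cpl (Localization.AtPrime p)) := by
    intro q _ hq H
    subst hq
    exact GRSHom.cpl_of_surjective
      (IsLocalization.algEquiv q.primeCompl (Localization.AtPrime p') (Localization.AtPrime q)).toRingEquiv.toRingHom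
      (AlgEquiv.surjective _) ((grsHom_of_isRegularHom (h m)).cpl_atPrime p')
  exact isRegularHom_iff_grsHom.mpr
    (key _ (IsLocalization.under_map_of_isPrime_disjoint m.primeCompl A inferInstance hdisj) hloc)

/-- Properties of formal fibres pass to local rings essentially of finite type. -/
theorem GRSHom.cpl_essFiniteType {A : Type u} [CommRing A] [IsNoetherianRing A] [IsLocalRing A]
    (hA : GRSHom r n A (EGA4.Cpl A)) (B : Type u) [CommRing B] [IsNoetherianRing B] [IsLocalRing B] [Algebra A B]
    [Algebra.EssFiniteType A B] : GRSHom r n B (EGA4.Cpl B) := by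
  let s := Algebra.EssFiniteType.finset A B
  let φ : MvPolynomial s A →ₐ[A] B := MvPolynomial.aeval fun x => (x : B)
  have hrange : φ.range = Algebra.adjoin A (s : Set B) :=
    (Algebra.adjoin_eq_range A (s : Set B)).symm
  let Q := (maximalIdeal B).comap φ.toRingHom
  haveI : IsNoetherianRing (Localization.AtPrime Q) := IsLocalization.isNoetherianRing Q.primeCompl _ inferInstance
  let ψ : Localization.AtPrime Q →+* B := IsLocalization.lift (M := Q.primeCompl) (g := φ.toRingHom) fun y =>
    IsLocalRing.notMem_maximalIdeal.mp y.2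
  have hψ : Function.Surjective ψ := fun b => by
    obtain ⟨⟨⟨a, ha⟩, ⟨⟨t, ht⟩, hu⟩⟩, hb⟩ := IsLocalization.surj (Algebra.EssFiniteType.submonoid A B) b
    rw [show Algebra.EssFiniteType.subalgebra A B = φ.range from hrange.symm] at ha ht
    obtain ⟨a', ha'⟩ := ha
    obtain ⟨t', ht'⟩ := ht
    have htQ : t' ∈ Q.primeCompl := fun hmem => by
      have hu' : IsUnit t := hu
      rw [← ht'] at hu'
      exact (mem_maximalIdeal _).mp hmem hu'
    refine ⟨IsLocalization.mk' _ a' ⟨t', htQ⟩, ?_⟩
    rw [IsLocalization.lift_mk'_spec]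
    show φ a' = φ t' * b
    rw [show φ t' = t from ht', show φ a' = a from ha', mul_comm]
    exact hb.symm
  refine GRSHom.cpl_of_surjective ψ hψ ?_
  let P := MvPolynomial s A
  haveI := isNoetherianRing_cpl A
  haveI := faithfullyFlat_cpl A
  let Ah := EGA4.Cpl A
  haveI : IsAdicComplete (maximalIdeal Ah) Ah := by
    rw [AdicCompletion.maximalIdeal_eq_map]
    exact AdicCompletion.isAdicComplete_self _ (IsNoetherian.noetherian _)
  let P' := P ⊗[A] Ah
  haveI : Algebra.FiniteType Ah (Ah ⊗[A] P) := inferInstance
  have hG : CAlg.IsGRing P' := isGRing_of_surjective (Algebra.TensorProduct.comm A Ah P).toRingEquiv.toRingHom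
    (AlgEquiv.surjective _) (isGRing_of_finiteType (isGRing_of_isAdicComplete Ah))
  haveI := hG.1
  have hPP' : GRSHom r n P P' := hA.baseChange (.inl inferInstance)
  obtain ⟨⟨Q', _⟩, hQ'⟩ := PrimeSpectrum.comap_surjective_of_faithfullyFlat (A := P) (B := P') ⟨Q, inferInstance⟩
  haveI : Q'.LiesOver Q := ⟨(congrArg PrimeSpectrum.asIdeal hQ').symm⟩
  letI := Localization.AtPrime.algebraOfLiesOver Q Q'
  haveI : IsLocalHom (algebraMap (Localization.AtPrime Q) (Localization.AtPrime Q')) := by
    rw [Localization.AtPrime.IsLiesOverAlgebra.algebraMap_eq]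
    infer_instance
  haveI : IsNoetherianRing (Localization.AtPrime Q') := IsLocalization.isNoetherianRing Q'.primeCompl _ inferInstance
  exact GRSHom.cpl_of_flat_local (hPP'.localization Q.primeCompl (Localization.AtPrime Q) (Localization.AtPrime Q')
    Q'.primeCompl) (grsHom_of_isRegularHom (hG.2 Q'))

end Groth.Agent.H05EGA4
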