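import Mathlib
import Groth.Agent.H05EGA4.GRingPoly
import Groth.Agent.H05EGA4.FiniteNormalization
import Groth.Agent.H05EGA4.Rk
import Groth.Agent.H1CAlg.AnUnramified
import Groth.Agent.H02CA.N2
import Groth.Agent.S4562
import Groth.Agent.H05EGA4.GenericFibre
import Groth.Agent.H05EGA4.GRing

/-!
# Nagata rings from geometrically reduced formal fibres (helper5)
-/

set_option autoImplicit false
set_option linter.style.haveILetI false
set_option maxHeartbeats 800000
set_option synthInstance.maxHeartbeats 100000
universe u
open IsLocalRing TensorProduct Groth.Agent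

namespace Groth.Agent.H05EGA4

theorem isNoetherian_of_finite_of_noeth (R M : Type u) [CommRing R] [IsNoetherianRing R] [AddCommGroup M] [Module R M]
    [Module.Finite R M] : IsNoetherian R M :=
  isNoetherian_of_isNoetherianRing_of_finite R M

/-- Finite normalisation for a local domain with geometrically reduced formal fibres. -/
theorem finite_integralClosure_of_geomReduced {A : Type u} [CommRing A] [IsDomain A] [IsLocalRing A]
    [IsNoetherianRing A] (hA : GRSHom 0 1 A (EGA4.Cpl A)) (K' : Type u) [Field K'] [Algebra A K']
    [Algebra (FractionRing A) K'] [IsScalarTower A (FractionRing A) K'] [FiniteDimensional (FractionRing A) K'] :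
    Module.Finite A (integralClosure A K') := by
  let Ah := EGA4.Cpl A
  haveI := isNoetherianRing_cpl A
  have hred : IsReduced Ah := isReduced_iff_rs.mpr ((hA.rs_cpl_iff A).mp (isReduced_iff_rs.mp inferInstance))
  let R := FractionRing Ah
  haveI : Algebra.EssFiniteType A (FractionRing A) := Algebra.EssFiniteType.of_isLocalization _ (nonZeroDivisors A)
  haveI : Algebra.EssFiniteType A K' := Algebra.EssFiniteType.comp A (FractionRing A) K'
  haveI : IsNoetherianRing (K' ⊗[A] Ah) := H02CA.isNoetherianRing_tensor_of_essFiniteType _ _ _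
  haveI h1 : IsReduced (K' ⊗[A] Ah) := isReduced_iff_rs.mpr (hA.tensor_field K' (.inl inferInstance))
  haveI : IsReduced (Ah ⊗[A] K') :=
    isReduced_of_injective _ (Algebra.TensorProduct.comm A Ah K').injective
  letI := (Algebra.TensorProduct.map (AlgHom.id A K') (IsScalarTower.toAlgHom A Ah R)).toRingHom.toAlgebra
  haveI hloc := isLocalization_tensor_right A Ah R K' (nonZeroDivisors Ah)
  haveI : IsReduced (K' ⊗[A] R) := isReduced_localizationPreserves
    ((nonZeroDivisors Ah).map (Algebra.TensorProduct.includeRight : Ah →ₐ[A] K' ⊗[A] Ah).toRingHom) _ h1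
  exact H1CAlg.finite_integralClosure_of_isReduced_tensor (R := R) hred
    (isReduced_of_injective _ (Algebra.TensorProduct.comm A R K').injective)

/-- Local rings with geometrically reduced formal fibres are Nagata. -/
theorem isNagata_of_geomReduced {A : Type u} [CommRing A] [IsLocalRing A]
    [IsNoetherianRing A] (hA : GRSHom 0 1 A (EGA4.Cpl A)) : CAlg.IsNagata A := by
  refine ⟨inferInstance, fun p _ L _ _ _ _ _ => ?_⟩
  haveI : IsLocalRing (A ⧸ p) := .of_surjective' _ Ideal.Quotient.mk_surjective
  exact finite_integralClosure_of_geomReduced (hA.cpl_quotient p) L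

/-- Nagata from geometrically reduced formal fibres of the local rings and openness of regular loci. -/
theorem isNagata_of_geomReduced_of_isJ2 {A : Type u} [CommRing A] [IsNoetherianRing A]
    (hloc : ∀ (p : Ideal A) [p.IsPrime], GRSHom 0 1 (Localization.AtPrime p) (EGA4.Cpl (Localization.AtPrime p)))
    (h2 : EGA4.IsJ2 A) : CAlg.IsNagata A := by
  classical
  refine ⟨inferInstance, fun P _ K' _ _ _ _ hfd => ?_⟩
  let D := A ⧸ P
  let C := integralClosure D K'
  haveI : FiniteDimensional (FractionRing D) K' := hfd
  have hinj : Function.Injective (algebraMap D K') := by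
    rw [IsScalarTower.algebraMap_eq D (FractionRing D) K']
    exact (algebraMap (FractionRing D) K').injective.comp (IsFractionRing.injective D _)
  haveI : FaithfulSMul D K' := (faithfulSMul_iff_algebraMap_injective _ _).mpr hinj
  haveI halg : Algebra.IsAlgebraic D K' := IsFractionRing.comap_isAlgebraic_iff.mpr
    (inferInstance : Algebra.IsAlgebraic (FractionRing D) K')
  -- local finiteness
  have hfinloc : ∀ (q : Ideal D) [q.IsPrime],
      Module.Finite (Localization.AtPrime q) (LocalizedModule q.primeCompl C) := by
    intro q _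
    let Dq := Localization.AtPrime q
    let Q := q.comap (Ideal.Quotient.mk P)
    haveI : IsNoetherianRing (Localization.AtPrime Q) := IsLocalization.isNoetherianRing Q.primeCompl _ inferInstance
    haveI : IsNoetherianRing Dq := IsLocalization.isNoetherianRing q.primeCompl _ inferInstance
    have hDq : GRSHom 0 1 Dq (EGA4.Cpl Dq) :=
      GRSHom.cpl_of_surjective (Localization.localRingHom Q q (Ideal.Quotient.mk P) rfl)
        ((RingHom.surjectiveOnStalks_of_surjective Ideal.Quotient.mk_surjective).localRingHom_surjective Q q rfl) (hloc Q)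
    have hu : ∀ y : q.primeCompl, IsUnit (algebraMap D K' y) := fun y =>
      isUnit_iff_ne_zero.mpr ((map_ne_zero_iff _ hinj).mpr fun h => y.2 (h ▸ zero_mem q))
    letI : Algebra Dq K' := (IsLocalization.lift hu).toAlgebra
    haveI : IsScalarTower D Dq K' := .of_algebraMap_eq fun a => (IsLocalization.lift_eq hu a).symm
    haveI : IsFractionRing Dq (FractionRing D) :=
      IsFractionRing.isFractionRing_of_isDomain_of_isLocalization q.primeCompl _ _
    have hN2 : CAlg.IsN2 Dq := fun L _ _ _ _ hL => haveI := hL; finite_integralClosure_of_geomReduced hDq L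
    haveI : IsScalarTower Dq (FractionRing D) K' :=
      IsScalarTower.of_algebraMap_eq' (IsLocalization.ringHom_ext q.primeCompl (RingHom.ext fun a => by
        simp only [RingHom.comp_apply, ← IsScalarTower.algebraMap_apply]))
    haveI := H02CA.finite_integralClosure_of_isN2 hN2 (FractionRing D) K'
    let ι : C →ₗ[D] integralClosure Dq K' :=
      { toFun := fun x => ⟨x, x.2.tower_top⟩
        map_add' := fun _ _ => rfl
        map_smul' := fun _ _ => rfl }
    have hun : ∀ x : q.primeCompl, IsUnit ((algebraMap D (Module.End D (integralClosure Dq K'))) x) := fun x => by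
      rw [Module.End.isUnit_iff]
      have hx := IsLocalization.map_units Dq x
      refine ⟨fun a b hab => ?_, fun b => ⟨(hx.unit⁻¹ : Dqˣ).1 • b, ?_⟩⟩
      · have h1 : (x : D) • a = (x : D) • b := hab
        rw [← algebraMap_smul Dq (x : D) a, ← algebraMap_smul Dq (x : D) b] at h1
        exact hx.smul_left_cancel.mp h1
      · show (x : D) • ((hx.unit⁻¹ : Dqˣ).1 • b) = b
        rw [← algebraMap_smul Dq (x : D), smul_smul, hx.mul_val_inv, one_smul]
    let l : LocalizedModule q.primeCompl C →ₗ[D] integralClosure Dq K' := LocalizedModule.lift q.primeCompl ι hun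
    let l' : LocalizedModule q.primeCompl C →ₗ[Dq] integralClosure Dq K' :=
      l.extendScalarsOfIsLocalization q.primeCompl Dq
    haveI : IsNoetherian Dq (integralClosure Dq K') := by
      exact isNoetherian_of_finite_of_noeth Dq (integralClosure Dq K')
    refine Module.Finite.of_injective l' fun a b hab => ?_
    induction a using LocalizedModule.induction_on with
    | _ m s =>
      induction b using LocalizedModule.induction_on with
      | _ m' s' =>
        have h1 : l (LocalizedModule.mk m s) = l (LocalizedModule.mk m' s') := hab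
        rw [LocalizedModule.lift_mk, LocalizedModule.lift_mk, Module.End.algebraMap_isUnit_inv_apply_eq_iff,
          ← map_smul, eq_comm, Module.End.algebraMap_isUnit_inv_apply_eq_iff] at h1
        rw [LocalizedModule.mk_eq]
        refine ⟨1, ?_⟩
        rw [one_smul, one_smul]
        refine Subtype.ext ?_
        have h2 := congrArg (fun z : integralClosure Dq K' => (z : K')) h1
        simp only [ι, LinearMap.coe_mk, AddHom.coe_mk] at h2
        simpa [Submonoid.smul_def] using h2.symm
  -- a finite birational algebra with open regular locus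
  obtain ⟨s, hs⟩ : ∃ s : Finset K', Submodule.span (FractionRing D) (s : Set K') = ⊤ := Module.Finite.fg_top
  obtain ⟨y, hy0, hy⟩ := exists_integral_multiples (A := D) (K := FractionRing D) (L := K') s
  let B := Algebra.adjoin D ((fun x => y • x) '' (s : Set K'))
  haveI : Module.Finite D B := Module.Finite.iff_fg.mpr (fg_adjoin_of_finite (s.finite_toSet.image _) (by
    rintro _ ⟨x, hx, rfl⟩; exact hy x hx))
  haveI : Algebra.IsIntegral D B := Algebra.IsIntegral.of_finite D B
  haveI : IsNoetherianRing B := IsNoetherianRing.of_finite D B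
  letI : Algebra A B := ((algebraMap D B).comp (algebraMap A D)).toAlgebra
  haveI : IsScalarTower A D B := .of_algebraMap_eq fun _ => rfl
  haveI : Module.Finite A B := Module.Finite.trans D B
  have hopen : IsOpen (EGA4.regLocus B) := h2 B inferInstance
  have hbot : (⟨⊥, Ideal.isPrime_bot⟩ : PrimeSpectrum B) ∈ EGA4.regLocus B := isRegularLocalRing_bot B
  obtain ⟨_, ⟨g, rfl⟩, hg, hgreg⟩ :=
    PrimeSpectrum.isTopologicalBasis_basic_opens.exists_subset_of_mem_open hbot hopen
  have hg0 : g ≠ 0 := fun h => hg (h ▸ Submodule.zero_mem _)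
  obtain ⟨f, hf0, gf⟩ : ∃ f : D, f ≠ 0 ∧ g ∣ algebraMap D B f :=
    ((Algebra.IsIntegral.isIntegral g).isAlgebraic).exists_nonzero_dvd (mem_nonZeroDivisors_of_ne_zero hg0)
  have hBy : y ≠ 0 := hy0
  have hgenB : ∀ z : K', ∃ a : B, ∃ t : D, t ≠ 0 ∧ t • z = a := by
    intro z
    have hz : z ∈ Submodule.span (FractionRing D) (s : Set K') := hs ▸ Submodule.mem_top
    induction hz using Submodule.span_induction with
    | mem x hx => exact ⟨⟨y • x, Algebra.subset_adjoin ⟨x, hx, rfl⟩⟩, y, hBy, rfl⟩
    | zero => exact ⟨0, 1, one_ne_zero, by simp⟩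
    | add x x' _ _ hx hx' =>
      obtain ⟨a, t, ht, h⟩ := hx
      obtain ⟨a', t', ht', h'⟩ := hx'
      refine ⟨t' • a + t • a', t * t', mul_ne_zero ht ht', ?_⟩
      push_cast
      rw [← h, ← h', smul_add, smul_smul, smul_smul, mul_comm t t']
    | smul c x _ hx =>
      obtain ⟨a, t, ht, h⟩ := hx
      obtain ⟨c1, c2, hc2, rfl⟩ := IsFractionRing.div_surjective (A := D) c
      refine ⟨c1 • a, c2 * t, mul_ne_zero (nonZeroDivisors.ne_zero hc2) ht, ?_⟩
      push_cast
      rw [← h]
      simp only [Algebra.smul_def, map_mul, IsScalarTower.algebraMap_apply D (FractionRing D) K', map_div₀]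
      have h0 : algebraMap (FractionRing D) K' (algebraMap D (FractionRing D) c2) ≠ 0 :=
        (map_ne_zero_iff _ (algebraMap (FractionRing D) K').injective).mpr
          (IsFractionRing.to_map_ne_zero_of_mem_nonZeroDivisors hc2)
      field_simp
  haveI : FaithfulSMul B K' := (faithfulSMul_iff_algebraMap_injective _ _).mpr Subtype.val_injective
  haveI hBfrac : IsFractionRing B K' := IsFractionRing.of_field B K' fun z => by
    obtain ⟨a, t, ht, h⟩ := hgenB z
    exact ⟨a, algebraMap D B t, (eq_div_iff ((map_ne_zero_iff _ hinj).mpr ht)).mpr (by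
      show z * algebraMap D K' t = a
      rw [← h, Algebra.smul_def, mul_comm])⟩
  let fB := algebraMap D B f
  let Bf := Localization.Away fB
  have hfB : fB ≠ 0 := fun h => hf0 (by
    have : algebraMap D K' f = 0 := by rw [show algebraMap D K' f = (fB : K') from rfl, h]; rfl
    exact (map_eq_zero_iff _ hinj).mp this)
  have hle : Submonoid.powers fB ≤ nonZeroDivisors B := powers_le_nonZeroDivisors_of_noZeroDivisors hfB
  haveI : IsDomain Bf := IsLocalization.isDomain_localization hle
  haveI : IsIntegrallyClosed Bf := IsIntegrallyClosed.of_localization_maximal fun Q hQ0 hQ => by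
    let Q0 := Q.comap (algebraMap B Bf)
    have hQ' : (⟨Q0, inferInstance⟩ : PrimeSpectrum B) ∈ EGA4.regLocus B := hgreg fun hgQ => by
      have : fB ∈ Q0 := Ideal.mem_of_dvd _ gf hgQ
      exact Ideal.IsPrime.ne_top inferInstance
        (Ideal.eq_top_of_isUnit_mem Q this (IsLocalization.Away.algebraMap_isUnit fB))
    haveI := (isRegularLocalRing_localization_iff (Submonoid.powers fB) Bf Q).mpr hQ'
    exact isIntegrallyClosed_of_isRegularLocalRing _
  have hu : ∀ y : Submonoid.powers fB, IsUnit (algebraMap B K' y) := fun y =>
    isUnit_iff_ne_zero.mpr ((map_ne_zero_iff _ Subtype.val_injective).mpr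
      (nonZeroDivisors.ne_zero (hle y.2)))
  letI : Algebra Bf K' := (IsLocalization.lift hu).toAlgebra
  haveI : IsScalarTower B Bf K' := .of_algebraMap_eq fun a => (IsLocalization.lift_eq hu a).symm
  haveI : IsFractionRing Bf K' := IsFractionRing.isFractionRing_of_isDomain_of_isLocalization (Submonoid.powers fB) _ _
  have hmem : ∀ x : C, ∃ n : ℕ, f ^ n • (x : K') ∈ B := by
    intro x
    have hx : IsIntegral Bf (x : K') := by
      have h1 : IsIntegral B (x : K') := x.2.tower_top
      exact h1.tower_top
    obtain ⟨z, hz⟩ := IsIntegrallyClosed.isIntegral_iff.mp hx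
    obtain ⟨⟨b, ⟨_, n, rfl⟩⟩, hb⟩ := IsLocalization.surj (Submonoid.powers fB) z
    refine ⟨n, ?_⟩
    have h2 := congrArg (algebraMap Bf K') hb
    rw [map_mul, hz, ← IsScalarTower.algebraMap_apply, ← IsScalarTower.algebraMap_apply] at h2
    have h3 : f ^ n • (x : K') = (b : K') := by
      rw [Algebra.smul_def, mul_comm, map_pow]
      simpa [fB] using h2
    rw [h3]; exact b.2
  have hf : Module.Finite (Localization.Away f) (LocalizedModule (Submonoid.powers f) C) := by
    let incl : B →ₗ[D] C :=
      { toFun := fun b => ⟨b, (Algebra.IsIntegral.isIntegral (R := D) b).map B.val⟩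
        map_add' := fun _ _ => rfl
        map_smul' := fun _ _ => rfl }
    obtain ⟨T, hT⟩ := (Module.Finite.fg_top (R := D) (M := B))
    refine ⟨⟨T.image fun b => LocalizedModule.mk (incl b) 1, eq_top_iff.mpr fun z _ => ?_⟩⟩
    induction z using LocalizedModule.induction_on with
    | _ x t =>
      obtain ⟨n, hn⟩ := hmem x
      let b : B := ⟨_, hn⟩
      have hspan : LocalizedModule.mk (incl b) (1 : Submonoid.powers f) ∈ Submodule.span (Localization.Away f)
          ((T.image fun b => LocalizedModule.mk (incl b) (1 : Submonoid.powers f) : Finset _) : Set _) := by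
        have hb : b ∈ Submodule.span D (T : Set B) := hT ▸ Submodule.mem_top
        have := Submodule.mem_map_of_mem (f := (LocalizedModule.mkLinearMap (Submonoid.powers f) C).comp incl) hb
        rw [Submodule.map_span] at this
        rw [Finset.coe_image]
        exact Submodule.span_le_restrictScalars D (Localization.Away f) _ this
      have heq : LocalizedModule.mk x t =
          Localization.mk (1 : D) (⟨f ^ n, n, rfl⟩ * t) • LocalizedModule.mk (incl b) (1 : Submonoid.powers f) := by
        rw [LocalizedModule.mk_smul_mk, one_smul, mul_one, LocalizedModule.mk_eq]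
        refine ⟨1, Subtype.ext ?_⟩
        simp only [one_smul]
        show ((⟨f ^ n, n, rfl⟩ * t : Submonoid.powers f) : D) • (x : K') = (t : D) • (f ^ n • (x : K'))
        rw [Submonoid.coe_mul, smul_smul, mul_comm]
      rw [heq]
      exact Submodule.smul_mem _ _ hspan
  exact finite_integralClosure_of_local K' hf0 hf hfinloc

/-- Properties of formal fibres at maximal ideals give them at all primes. -/
theorem GRSHom.cpl_of_maximal {R : Type u} [CommRing R] [IsNoetherianRing R] {r n : WithBot ℕ∞}
    (h : ∀ (m : Ideal R) [m.IsMaximal], GRSHom r n (Localization.AtPrime m) (EGA4.Cpl (Localization.AtPrime m)))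
    (p : Ideal R) [p.IsPrime] : GRSHom r n (Localization.AtPrime p) (EGA4.Cpl (Localization.AtPrime p)) := by
  obtain ⟨m, hm, hpm⟩ := Ideal.exists_le_maximal p (Ideal.IsPrime.ne_top inferInstance)
  let A := Localization.AtPrime m
  haveI : IsNoetherianRing A := IsLocalization.isNoetherianRing m.primeCompl _ inferInstance
  have hdisj : Disjoint (m.primeCompl : Set R) p := Set.disjoint_left.mpr fun x hx hx' => hx (hpm hx')
  haveI := IsLocalization.isPrime_of_isPrime_disjoint m.primeCompl A p inferInstance hdisj
  let p' := p.map (algebraMap R A)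
  have hloc := IsLocalization.isLocalization_isLocalization_atPrime_isLocalization m.primeCompl (Localization.AtPrime p') p'
  haveI : IsNoetherianRing (Localization.AtPrime p') := IsLocalization.isNoetherianRing p'.primeCompl _ inferInstance
  haveI : IsNoetherianRing (Localization.AtPrime p) := IsLocalization.isNoetherianRing p.primeCompl _ inferInstance
  have key : ∀ (q : Ideal R) [q.IsPrime], q = p → IsLocalization.AtPrime (Localization.AtPrime p') q →
      GRSHom r n (Localization.AtPrime p) (EGA4.Cpl (Localization.AtPrime p)) := by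
    intro q _ hq H
    subst hq
    exact GRSHom.cpl_of_surjective
      (IsLocalization.algEquiv q.primeCompl (Localization.AtPrime p') (Localization.AtPrime q)).toRingEquiv.toRingHom
      (AlgEquiv.surjective _) ((h m).cpl_atPrime p')
  exact key _ (IsLocalization.under_map_of_isPrime_disjoint m.primeCompl A inferInstance hdisj) hloc

/-- The completion of a domain of dimension at most one and characteristic zero is regular over it. -/
theorem grsHom_cpl_of_dimLEOne_charZero (A : Type u) [CommRing A] [IsDomain A] [IsRegularLocalRing A]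
    [Ring.DimensionLEOne A] [CharZero A] : GRSHom ⊤ ⊤ A (EGA4.Cpl A) := by
  let C := EGA4.Cpl A
  haveI := isNoetherianRing_cpl A
  haveI := faithfullyFlat_cpl A
  haveI : IsRegularRing A := isRegularRing_of_isRegularLocalRing _
  haveI : IsRegularRing C := isRegularRing_adicCompletion _ (maximalIdeal A)
  refine grsHom_of_forall (flat_cpl A) fun p hp k' _ _ _ _ _ _ => ?_
  suffices IsRegularRing (k' ⊗[A] C) from rs_of_isRegularRing _
  by_cases h0 : p = ⊥
  · subst h0
    let K := (⊥ : Ideal A).ResidueField
    haveI : CharZero K := charZero_of_injective_algebraMap (IsFractionRing.injective A K)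
    haveI : IsRegularRing (K ⊗[A] C) := by
      letI : Algebra C (K ⊗[A] C) := Algebra.TensorProduct.rightAlgebra
      haveI : IsLocalization (Algebra.algebraMapSubmonoid C (nonZeroDivisors A)) (K ⊗[A] C) :=
        IsLocalization.tensorRight K (nonZeroDivisors A)
      exact H02CA.isRegularRing_of_isLocalization (Algebra.algebraMapSubmonoid C (nonZeroDivisors A))
    haveI : Algebra.IsSeparable K k' := Algebra.IsSeparable.of_integral K k'
    exact (isRegularRing_cancel_iff A K k' C).mp (isRegularRing_tensor_of_separable K k' (K ⊗[A] C))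
  · have hmax : p = maximalIdeal A := eq_maximalIdeal (hp.isMaximal h0)
    haveI : Nontrivial (C ⊗[A] k') := Module.FaithfullyFlat.lTensor_nontrivial A C k'
    haveI : Nontrivial (k' ⊗[A] C) := (Algebra.TensorProduct.comm A k' C).toEquiv.nontrivial
    let ψ : k' →+* k' ⊗[A] C := Algebra.TensorProduct.includeLeftRingHom
    have hz : ∀ z ∈ maximalIdeal C, (1 : k') ⊗ₜ[A] z = 0 := by
      intro z hz
      rw [AdicCompletion.maximalIdeal_eq_map, Ideal.map] at hz
      induction hz using Submodule.span_induction with
      | mem x hx =>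
        obtain ⟨a, ha, rfl⟩ := hx
        rw [Algebra.algebraMap_eq_smul_one, TensorProduct.tmul_smul, TensorProduct.smul_tmul',
          show a • (1 : k') = 0 from by
            rw [← Algebra.algebraMap_eq_smul_one, IsScalarTower.algebraMap_apply A p.ResidueField k',
              show algebraMap A p.ResidueField a = 0 from
                Ideal.algebraMap_residueField_eq_zero.mpr (hmax ▸ ha), map_zero],
          TensorProduct.zero_tmul]
      | zero => exact TensorProduct.tmul_zero _ _
      | add x y _ _ hx hy => rw [TensorProduct.tmul_add, hx, hy, add_zero]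
      | smul c x _ hx =>
        rw [show (1 : k') ⊗ₜ[A] (c • x) = ((1 : k') ⊗ₜ[A] c) * ((1 : k') ⊗ₜ[A] x) by simp, hx, mul_zero]
    have hsur : Function.Surjective ψ := by
      intro t
      induction t using TensorProduct.induction_on with
      | zero => exact ⟨0, map_zero _⟩
      | tmul x c =>
        obtain ⟨r, hr⟩ := (AdicCompletion.residueField_map_bijective A).2 (residue C c)
        obtain ⟨a, rfl⟩ := residue_surjective r
        rw [ResidueField.map_residue, eq_comm, ← sub_eq_zero, ← map_sub, residue_eq_zero_iff] at hr
        refine ⟨a • x, ?_⟩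
        have h2 := hz _ hr
        rw [TensorProduct.tmul_sub, sub_eq_zero, Algebra.algebraMap_eq_smul_one, TensorProduct.tmul_smul,
          TensorProduct.smul_tmul'] at h2
        calc ψ (a • x) = (x ⊗ₜ[A] (1 : C)) * ((a • (1 : k')) ⊗ₜ[A] (1 : C)) := by
              rw [Algebra.TensorProduct.tmul_mul_tmul, mul_smul_comm, mul_one, mul_one]; rfl
          _ = x ⊗ₜ[A] c := by rw [← h2, Algebra.TensorProduct.tmul_mul_tmul, mul_one, one_mul]
      | add s t hs ht =>
        obtain ⟨a, rfl⟩ := hs
        obtain ⟨b, rfl⟩ := ht
        exact ⟨a + b, map_add _ _ _⟩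
    exact IsRegularRing.of_ringEquiv (RingEquiv.ofBijective ψ ⟨ψ.injective, hsur⟩)

end Groth.Agent.H05EGA4
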