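import Groth.Agent.H05EGA4.FSCriteria
import Groth.Agent.H05EGA4.Regular2
import Groth.Agent.S5779
import Groth.Agent.S4575
import Groth.Agent.S4574

/-! The Jacobian criterion for quotients, over a field. -/

set_option autoImplicit false
set_option linter.style.haveILetI false
set_option maxHeartbeats 800000

open IsLocalRing

universe u

namespace Groth.Agent.H05EGA4.NagataJac

variable {k : Type*} {A : Type u} [CommRing k] [CommRing A] [Algebra k A]

/-- Combinations of derivations taking the values `det · δ`. -/
theorem exists_adjugate {N : ℕ} (D : Fin N → Derivation k A A) (g : Fin N → A) :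
    ∃ E : Fin N → Derivation k A A, ∀ i j,
      E i (g j) = if i = j then Matrix.det (Matrix.of fun a b => D a (g b)) else 0 := by
  classical
  let M := Matrix.of fun a b => D a (g b)
  refine ⟨fun i => ∑ l, M.adjugate i l • D l, fun i j => ?_⟩
  have h1 := congrFun (congrFun (Matrix.adjugate_mul M) i) j
  rw [Matrix.mul_apply, Matrix.smul_apply, Matrix.one_apply, smul_eq_mul, mul_ite, mul_one, mul_zero] at h1
  have hsum : ∀ (s : Finset (Fin N)) (x : A), (∑ l ∈ s, M.adjugate i l • D l) x = ∑ l ∈ s, M.adjugate i l * D l x := by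
    intro s x
    induction s using Finset.induction_on with
    | empty => simp
    | insert a s ha ih => rw [Finset.sum_insert ha, Finset.sum_insert ha, Derivation.add_apply, ih, Derivation.smul_apply, smul_eq_mul]
  rw [hsum]
  exact h1

omit [Algebra k A] [CommRing k] in
/-- Data of the surjection `A_P → B_p` for `B = A/q`. -/
theorem localQuot {q P : Ideal A} [P.IsPrime] (hq : q ≤ P) [(P.map (Ideal.Quotient.mk q)).IsPrime] :
    ∃ π : Localization.AtPrime P →+* Localization.AtPrime (P.map (Ideal.Quotient.mk q)),
      Function.Surjective π ∧ RingHom.ker π = q.map (algebraMap A (Localization.AtPrime P)) ∧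
      ∀ a, π (algebraMap A (Localization.AtPrime P) a) =
        algebraMap (A ⧸ q) (Localization.AtPrime (P.map (Ideal.Quotient.mk q))) (Ideal.Quotient.mk q a) := by
  let p := P.map (Ideal.Quotient.mk q)
  have hcomap : p.comap (Ideal.Quotient.mk q) = P := by
    rw [Ideal.comap_map_of_surjective _ Ideal.Quotient.mk_surjective, ← RingHom.ker_eq_comap_bot,
      Ideal.mk_ker, sup_eq_left.2 hq]
  have hle : P.primeCompl ≤ p.primeCompl.comap (Ideal.Quotient.mk q) := fun x hx hx' => hx (hcomap.le hx')
  have hmap : Submonoid.map (Ideal.Quotient.mk q) P.primeCompl = p.primeCompl := by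
    refine le_antisymm (Submonoid.map_le_iff_le_comap.2 hle) fun y hy => ?_
    obtain ⟨x, rfl⟩ := Ideal.Quotient.mk_surjective y
    exact ⟨x, fun hx => hy (Ideal.mem_map_of_mem _ hx), rfl⟩
  haveI : IsLocalization (P.primeCompl.map (Ideal.Quotient.mk q)) (Localization.AtPrime p) := by
    rw [hmap]
    infer_instance
  refine ⟨IsLocalization.map (M := P.primeCompl) (S := Localization.AtPrime P) (Localization.AtPrime p)
    (Ideal.Quotient.mk q) P.primeCompl.le_comap_map, IsLocalization.map_surjective_of_surjective P.primeCompl _ _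
    Ideal.Quotient.mk_surjective, ?_, fun a => IsLocalization.map_eq _ a⟩
  exact (IsLocalization.ker_map (M := P.primeCompl) (S := Localization.AtPrime P)
    (Localization.AtPrime p) (Ideal.Quotient.mk q) rfl).trans (by rw [Ideal.mk_ker])

omit [CommRing k] [Algebra k A] in
/-- A derivation vanishing on the kernel of a surjection descends. -/
theorem exists_descend {B M : Type u} [CommRing B] [AddCommGroup M] [Module B M] [Module A M] (π : A →+* B)
    (hπ : Function.Surjective π) (hsmul : ∀ a (m : M), a • m = π a • m) (E : Derivation ℤ A M)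
    (hE : ∀ x, π x = 0 → E x = 0) : ∃ E' : Derivation ℤ B M, ∀ a, E' (π a) = E a := by
  have key : ∀ x y, π x = π y → E x = E y := fun x y h => by
    have := hE (x - y) (by rw [map_sub, h, sub_self])
    rwa [map_sub, sub_eq_zero] at this
  let g := Function.surjInv hπ
  have hg : ∀ l, π (g l) = l := Function.surjInv_eq hπ
  let d : B →+ M := AddMonoidHom.mk' (fun l => E (g l)) fun a b => by
    show E (g (a + b)) = E (g a) + E (g b)
    rw [← map_add]
    exact key _ _ (by rw [map_add, hg, hg, hg])
  refine ⟨Derivation.mk' d.toIntLinearMap fun a b => ?_, fun a => key _ _ (hg _)⟩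
  show E (g (a * b)) = a • E (g b) + b • E (g a)
  rw [key _ (g a * g b) (by rw [map_mul, hg, hg, hg]), Derivation.leibniz, hsmul, hsmul, hg, hg]

omit [CommRing k] [Algebra k A] in
/-- A derivation of a ring into a module over the localisation extends. -/
theorem exists_extend_loc (R : Type u) [CommRing R] [Algebra A R] (S : Submonoid A) [IsLocalization S R]
    {M : Type u} [AddCommGroup M] [Module R M] [Module A M] [IsScalarTower A R M] (d : Derivation ℤ A M) :
    ∃ d' : Derivation ℤ R M, ∀ a, d' (algebraMap A R a) = d a := by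
  haveI : Algebra.FormallyEtale A R := Algebra.FormallyEtale.of_isLocalization S
  let φ : TensorProduct A R (Ω[A⁄ℤ]) →ₗ[R] M := LinearMap.liftBaseChange R d.liftKaehlerDifferential
  refine ⟨(φ.comp (KaehlerDifferential.tensorKaehlerEquivOfFormallyEtale ℤ A R).symm.toLinearMap).compDer
    (KaehlerDifferential.D ℤ R), fun s => ?_⟩
  show φ ((KaehlerDifferential.tensorKaehlerEquivOfFormallyEtale ℤ A R).symm (KaehlerDifferential.D ℤ R (algebraMap A R s))) = _
  rw [KaehlerDifferential.tensorKaehlerEquivOfFormallyEtale_symm_D_algebraMap]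
  simp [φ]

omit [CommRing k] [Algebra k A] in
/-- Minimal generators from `q` of `q A_P` when the quotient is regular. -/
theorem exists_generators {q P : Ideal A} [P.IsPrime] [IsRegularLocalRing (Localization.AtPrime P)] (hq : q ≤ P)
    [(P.map (Ideal.Quotient.mk q)).IsPrime]
    [IsRegularLocalRing (Localization.AtPrime (P.map (Ideal.Quotient.mk q)))] :
    ∃ (m : ℕ) (f : Fin m → A) (hf : ∀ i, f i ∈ q),
      q.map (algebraMap A (Localization.AtPrime P)) = Ideal.span (Set.range fun i => algebraMap A _ (f i)) ∧
      LinearIndependent (ResidueField (Localization.AtPrime P))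
        (fun i => (maximalIdeal (Localization.AtPrime P)).toCotangent
          ⟨algebraMap A _ (f i), (IsLocalization.AtPrime.to_map_mem_maximal_iff _ P _).2 (hq (hf i))⟩) := by
  classical
  obtain ⟨π, hπ, hker, -⟩ := localQuot (q := q) (P := P) hq
  let R := Localization.AtPrime P
  let I := q.map (algebraMap A R)
  have hIm : I ≤ maximalIdeal R := Ideal.map_le_iff_le_comap.2 fun a ha =>
    (IsLocalization.AtPrime.to_map_mem_maximal_iff R P a).2 (hq ha)
  have hI : I ≠ ⊤ := fun h => (maximalIdeal.isMaximal R).ne_top (top_le_iff.1 (h.ge.trans hIm))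
  let e : (R ⧸ I) ≃+* Localization.AtPrime (P.map (Ideal.Quotient.mk q)) :=
    (Ideal.quotEquivOfEq hker.symm).trans (RingHom.quotientKerEquivOfSurjective hπ)
  haveI : IsRegularLocalRing (R ⧸ I) := IsRegularLocalRing.of_ringEquiv e.symm
  have h75 := S4575.result I hI (isRegularRing_of_isRegularLocalRing (R ⧸ I))
  let v : q → CotangentSpace R := fun a => (maximalIdeal R).toCotangent
    ⟨algebraMap A R a, hIm (Ideal.mem_map_of_mem _ a.2)⟩
  obtain ⟨b, hb, hspan, hind⟩ := exists_linearIndependent (ResidueField R) (Set.range v)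
  haveI : Finite b := hind.finite
  obtain ⟨m, ⟨σ⟩⟩ := Finite.exists_equiv_fin b
  choose a ha using fun i => hb (σ.symm i).2
  refine ⟨m, fun i => (a i : A), fun i => (a i).2, ?_, ?_⟩
  · let J := Ideal.span (Set.range fun i => algebraMap A R (a i : A))
    refine le_antisymm ?_ (Ideal.span_le.2 ?_)
    swap
    · rintro _ ⟨i, rfl⟩
      exact Ideal.mem_map_of_mem _ (a i).2
    refine Submodule.le_of_le_smul_of_le_jacobson_bot (IsNoetherian.noetherian _)
      (IsLocalRing.maximalIdeal_le_jacobson _) ?_
    refine Ideal.map_le_iff_le_comap.2 fun x hx => ?_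
    have h1 : v ⟨x, hx⟩ ∈ Submodule.span (ResidueField R) b := hspan.symm ▸ Submodule.subset_span ⟨_, rfl⟩
    have hbr : b = Set.range fun i => v (a i) := by
      ext z
      refine ⟨fun hz => ⟨σ ⟨z, hz⟩, ?_⟩, ?_⟩
      · show v (a _) = z
        rw [ha, σ.symm_apply_apply]
      · rintro ⟨i, rfl⟩
        show v (a i) ∈ b
        rw [ha]; exact (σ.symm i).2
    rw [hbr] at h1
    obtain ⟨c, hc⟩ := (Submodule.mem_span_range_iff_exists_fun _).1 h1
    choose c' hc' using fun i => residue_surjective (c i)
    have h2 : algebraMap A R x - ∑ i, c' i * algebraMap A R (a i : A) ∈ maximalIdeal R ^ 2 := by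
      have h3 : (maximalIdeal R).toCotangent ⟨algebraMap A R x, hIm (Ideal.mem_map_of_mem _ hx)⟩ =
          (maximalIdeal R).toCotangent (∑ i, c' i • (⟨algebraMap A R (a i : A), hIm (Ideal.mem_map_of_mem _ (a i).2)⟩ : maximalIdeal R)) := by
        rw [map_sum]
        refine hc.symm.trans (Finset.sum_congr rfl fun i _ => ?_)
        rw [map_smul, ← hc' i]
        exact algebraMap_smul (ResidueField R) (c' i) _
      rw [Ideal.toCotangent_eq] at h3
      simpa using h3
    have hsum : ∑ i, c' i * algebraMap A R (a i : A) ∈ J :=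
      sum_mem fun i _ => Ideal.mul_mem_left _ _ (Ideal.subset_span ⟨i, rfl⟩)
    have h4 : algebraMap A R x - ∑ i, c' i * algebraMap A R (a i : A) ∈ maximalIdeal R * I :=
      h75.le ⟨sub_mem (Ideal.mem_map_of_mem _ hx)
        (sum_mem fun i _ => Ideal.mul_mem_left _ _ (Ideal.mem_map_of_mem _ (a i).2)), h2⟩
    rw [Ideal.mem_comap]
    have h5 := Submodule.add_mem_sup hsum h4
    rwa [add_sub_cancel] at h5
  · have : (fun i => v (a i)) = Subtype.val ∘ σ.symm := funext fun i => ha i
    exact (linearIndependent_equiv σ.symm).2 hind |> fun h => by simpa [← this] using h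

omit [CommRing k] [Algebra k A] in
/-- The residue field map of `A_P → B_p` is bijective. -/
theorem residue_bijective {R B : Type u} [CommRing R] [IsLocalRing R] [CommRing B] [IsLocalRing B] (π : R →+* B)
    [IsLocalHom π] (hπ : Function.Surjective π) : Function.Bijective (ResidueField.map π) :=
  ⟨RingHom.injective _, fun z => by
    obtain ⟨b, rfl⟩ := residue_surjective z
    obtain ⟨r, rfl⟩ := hπ b
    exact ⟨residue R r, ResidueField.map_residue _ _⟩⟩

/-- A quotient by elements with dual derivations of a formally smooth local algebra is formally smooth. -/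
theorem isAdicFormallySmooth_of_quotient {k R B : Type u} [Field k] [CommRing R] [IsRegularLocalRing R] [Algebra k R]
    [CommRing B] [IsLocalRing B] [Algebra k B] (hR : CAlgX.IsAdicFormallySmooth k R (maximalIdeal R))
    (π : R →+* B) (hπ : Function.Surjective π) (hπk : ∀ t, π (algebraMap k R t) = algebraMap k B t)
    {m : ℕ} (g : Fin m → R) (hfm : ∀ i, g i ∈ maximalIdeal R) (hker' : RingHom.ker π = Ideal.span (Set.range g))
    (δ : Fin m → Derivation ℤ R (ResidueField R)) (hδval : ∀ l j, δ l (g j) = if l = j then 1 else 0)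
    (hδk : ∀ l (t : k), δ l (algebraMap k R t) = 0) :
    CAlgX.IsAdicFormallySmooth k B (maximalIdeal B) := by
  classical
  haveI : IsLocalHom π := IsLocalHom.of_surjective π hπ
  have hkill : ∀ r ∈ maximalIdeal R, ∀ z : ResidueField R, r • z = 0 := fun r hr z => by
    rw [Algebra.smul_def, ResidueField.algebraMap_eq, (residue_eq_zero_iff r).2 hr, zero_mul]
  let x : Fin m → maximalIdeal R := fun j => ⟨g j, hfm j⟩
  have hind : LinearIndependent (ResidueField R) fun j => (maximalIdeal R).toCotangent (x j) := by
    rw [Fintype.linearIndependent_iff]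
    intro c hc l
    choose c' hc' using fun i => residue_surjective (c i)
    have h1 : (maximalIdeal R).toCotangent (∑ i, c' i • x i) = 0 := by
      rw [map_sum, ← hc]
      refine Finset.sum_congr rfl fun i _ => ?_
      rw [map_smul, ← hc' i]
      exact (algebraMap_smul (ResidueField R) (c' i) _).symm
    rw [Ideal.toCotangent_eq_zero] at h1
    have h2 : ∀ y ∈ maximalIdeal R ^ 2, δ l y = 0 := fun y hy => by
      rw [pow_two] at hy
      refine Submodule.mul_induction_on hy (fun a ha b hb => ?_) fun a b ha hb => by rw [map_add, ha, hb, add_zero]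
      rw [Derivation.leibniz, hkill a ha, hkill b hb, add_zero]
    have h3 := h2 _ h1
    simp only [x, AddSubmonoidClass.coe_finsetSum, SetLike.val_smul, smul_eq_mul, map_sum, Derivation.leibniz,
      hkill _ (hfm _), add_zero] at h3
    simp only [hδval, smul_ite, smul_zero, Finset.sum_ite_eq, Finset.mem_univ, if_true] at h3
    rw [← hc', ← h3, Algebra.smul_def, mul_one, ResidueField.algebraMap_eq]
  have hreg := ((S5779.result R m x).1.mp ⟨inferInstance, hind⟩).2
  haveI : IsRegularLocalRing B :=
    @IsRegularLocalRing.of_ringEquiv (R ⧸ Ideal.span (Set.range fun i => (x i : R))) _ hreg B _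
      ((Ideal.quotEquivOfEq hker'.symm).trans (RingHom.quotientKerEquivOfSurjective hπ))
  refine isAdicFormallySmooth_of_regular_of_derivation fun d => ?_
  let j : ResidueField R ≃+* ResidueField B := RingEquiv.ofBijective _ (residue_bijective π hπ)
  have hjk : ∀ t : k, j (algebraMap k (ResidueField R) t) = algebraMap k (ResidueField B) t := fun t => by
    rw [IsScalarTower.algebraMap_apply k R (ResidueField R),
      IsScalarTower.algebraMap_apply k B (ResidueField B), ResidueField.algebraMap_eq, ResidueField.algebraMap_eq]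
    show ResidueField.map π (residue R _) = _
    rw [ResidueField.map_residue, hπk]
  let d' : Derivation ℤ k (ResidueField R) := Derivation.mk' (j.symm.toAddMonoidHom.toIntLinearMap ∘ₗ d.toLinearMap) fun a b => by
    show j.symm (d (a * b)) = a • j.symm (d b) + b • j.symm (d a)
    refine j.injective ?_
    rw [d.leibniz, Algebra.smul_def, Algebra.smul_def, Algebra.smul_def, Algebra.smul_def]
    simp only [map_add, map_mul, RingEquiv.apply_symm_apply, hjk]
  obtain ⟨E₁, hE₁⟩ := exists_derivation_of_isAdicFormallySmooth hR d'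
  let E₂ : Derivation ℤ R (ResidueField R) := E₁ - ∑ l, E₁ (g l) • δ l
  have hsum : ∀ y, E₂ y = E₁ y - ∑ l, E₁ (g l) * δ l y := fun y => by
    show (E₁ - ∑ l, _) y = _
    rw [Derivation.sub_apply]
    congr 1
    induction (Finset.univ : Finset (Fin m)) using Finset.induction_on with
    | empty => simp
    | insert a s ha ih => rw [Finset.sum_insert ha, Finset.sum_insert ha, Derivation.add_apply, ih, Derivation.smul_apply, smul_eq_mul]
  have hE₂I : ∀ y, π y = 0 → E₂ y = 0 := fun y hy => by
    have hy' : y ∈ Ideal.span (Set.range fun i => g i) := hker'.le hy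
    induction hy' using Submodule.span_induction with
    | mem z hz =>
      obtain ⟨i, rfl⟩ := hz
      rw [hsum]
      simp [hδval]
    | zero => rw [map_zero]
    | add a b ha hb iha ihb =>
      have h1 : ∀ z ∈ Ideal.span (Set.range fun i => g i), π z = 0 := fun z hz => hker'.ge hz
      rw [map_add, iha (h1 a ha), ihb (h1 b hb), add_zero]
    | smul r a ha iha =>
      have h1 : π a = 0 := hker'.ge ha
      rw [smul_eq_mul, E₂.leibniz, iha h1, smul_zero, zero_add, hkill a ((le_maximalIdeal (RingHom.ker_ne_top π)) h1)]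
  let jA : ResidueField R →+ ResidueField B := j.toAddMonoidHom
  letI : Module R (ResidueField B) := Module.compHom _ π
  let E₃ : Derivation ℤ R (ResidueField B) := Derivation.mk' (jA.toIntLinearMap ∘ₗ E₂.toLinearMap) fun a b => by
    show j (E₂ (a * b)) = π a • j (E₂ b) + π b • j (E₂ a)
    rw [E₂.leibniz, map_add, Algebra.smul_def, Algebra.smul_def, map_mul, map_mul, Algebra.smul_def, Algebra.smul_def,
      ResidueField.algebraMap_eq, ResidueField.algebraMap_eq]
    rfl
  obtain ⟨E', hE'⟩ := exists_descend π hπ (fun _ _ => rfl) E₃ fun y hy => by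
    show j (E₂ y) = 0
    rw [hE₂I y hy, map_zero]
  refine ⟨E', fun t => ?_⟩
  have h1 : π (algebraMap k R t) = algebraMap k B t := hπk t
  rw [← h1, hE']
  show j (E₂ (algebraMap k R t)) = d t
  rw [hsum, hE₁, Finset.sum_eq_zero (fun l _ => by rw [hδk, mul_zero]), sub_zero]
  exact j.apply_symm_apply _


/-- The Jacobian condition gives formal smoothness. -/
theorem isAdicFormallySmooth_of_jacobian {k A : Type u} [Field k] [CommRing A] [IsNoetherianRing A] [Algebra k A]
    {q P : Ideal A} [P.IsPrime] (hq : q ≤ P) [(P.map (Ideal.Quotient.mk q)).IsPrime]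
    (hR : CAlgX.IsAdicFormallySmooth k (Localization.AtPrime P) (maximalIdeal (Localization.AtPrime P)))
    {m : ℕ} (D : Fin m → Derivation k A A) (f : Fin m → A) (hf : ∀ i, f i ∈ q)
    (hgen : q.map (algebraMap A (Localization.AtPrime P)) =
      Ideal.span (Set.range fun i => algebraMap A (Localization.AtPrime P) (f i)))
    (hdet : Matrix.det (Matrix.of fun i j => D i (f j)) ∉ P) :
    CAlgX.IsAdicFormallySmooth k (Localization.AtPrime (P.map (Ideal.Quotient.mk q)))
      (maximalIdeal (Localization.AtPrime (P.map (Ideal.Quotient.mk q)))) := by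
  classical
  obtain ⟨π, hπ, hker, hπA⟩ := localQuot (q := q) (P := P) hq
  let R := Localization.AtPrime P
  let B := Localization.AtPrime (P.map (Ideal.Quotient.mk q))
  haveI : IsLocalHom π := IsLocalHom.of_surjective π hπ
  haveI : IsRegularLocalRing R := (isRegularLocalRing_of_isAdicFormallySmooth hR).1
  obtain ⟨E, hE⟩ := exists_adjugate D f
  have hu : IsUnit (algebraMap A R (Matrix.det (Matrix.of fun i j => D i (f j)))) :=
    IsLocalization.map_units R (⟨_, hdet⟩ : P.primeCompl)
  obtain ⟨u, hu'⟩ := hu
  let δA : Fin m → Derivation ℤ A (ResidueField R) := fun l =>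
    (residue R ((u⁻¹ : Rˣ) : R)) • ((Algebra.linearMap A (ResidueField R)).compDer (E l)).restrictScalars ℤ
  choose δ hδ using fun l => exists_extend_loc R P.primeCompl (δA l)
  have hδval : ∀ l j, δ l (algebraMap A R (f j)) = if l = j then 1 else 0 := fun l j => by
    rw [hδ]
    show residue R ((u⁻¹ : Rˣ) : R) * algebraMap A (ResidueField R) (E l (f j)) = _
    rw [hE, IsScalarTower.algebraMap_apply A R (ResidueField R), ResidueField.algebraMap_eq]
    split_ifs
    · rw [← hu', ← map_mul, Units.inv_mul, map_one]
    · simp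
  have hδk : ∀ l (t : k), δ l (algebraMap k R t) = 0 := fun l t => by
    rw [IsScalarTower.algebraMap_apply k A R, hδ]
    show residue R ((u⁻¹ : Rˣ) : R) * algebraMap A (ResidueField R) (E l (algebraMap k A t)) = 0
    rw [Derivation.map_algebraMap, map_zero, mul_zero]
  refine isAdicFormallySmooth_of_quotient hR π hπ (fun t => ?_) (fun i => algebraMap A R (f i))
    (fun j => (IsLocalization.AtPrime.to_map_mem_maximal_iff R P _).2 (hq (hf j))) (hker.trans hgen) δ hδval hδk
  rw [IsScalarTower.algebraMap_apply k A R, hπA, IsScalarTower.algebraMap_apply k (A ⧸ q) B,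
    IsScalarTower.algebraMap_apply k A (A ⧸ q), Ideal.Quotient.algebraMap_eq]

end Groth.Agent.H05EGA4.NagataJac
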