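import Mathlib
import Groth.Agent.H4Depth.CM
import Groth.Agent.H4Depth.DepthLemmas

/-!
Systems of parameters and Cohen–Macaulay modules over local rings (EGA 0_IV 16.5).
-/

set_option autoImplicit false
set_option linter.style.haveILetI false
universe u
open RingTheory.Sequence Pointwise IsLocalRing

namespace Groth.Agent.H05EGA4.DepthMisc

open LocCoh Groth.Agent.H4Depth

variable {A : Type u} [CommRing A] [IsLocalRing A] [IsNoetherianRing A]

theorem supportDim_quotient_nil {M : Type u} [AddCommGroup M] [Module A M] :
    Nonempty ((M ⧸ (Ideal.ofList ([] : List A) • (⊤ : Submodule A M))) ≃ₗ[A] M) :=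
  ⟨Submodule.quotEquivOfEqBot _ (by rw [Ideal.ofList_nil]; exact Submodule.bot_smul _)⟩

theorem supportDim_congr {M N : Type u} [AddCommGroup M] [Module A M] [AddCommGroup N] [Module A N]
    (e : M ≃ₗ[A] N) : Module.supportDim A M = Module.supportDim A N := by
  rw [Module.supportDim, Module.supportDim, e.support_eq]

/-- `dim M ≤ dim (M / (xs) M) + length xs`. -/
theorem supportDim_le_add_length : ∀ (xs : List A), (∀ x ∈ xs, x ∈ maximalIdeal A) →
    ∀ (M : Type u) [AddCommGroup M] [Module A M] [Module.Finite A M],
      Module.supportDim A M ≤ Module.supportDim A (M ⧸ (Ideal.ofList xs • (⊤ : Submodule A M))) + xs.length := by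
  intro xs
  induction xs with
  | nil =>
    intro _ M _ _ _
    obtain ⟨e⟩ := supportDim_quotient_nil (A := A) (M := M)
    rw [supportDim_congr e]
    simp
  | cons x xs ih =>
    intro hxs M _ _ _
    refine (Module.supportDim_le_supportDim_quotSMulTop_succ (hxs x List.mem_cons_self)).trans ?_
    rw [supportDim_congr (Submodule.quotOfListConsSMulTopEquivQuotSMulTopInner M x xs), List.length_cons, Nat.cast_succ,
      ← add_assoc]
    exact add_le_add (ih (fun y hy => hxs y (List.mem_cons_of_mem _ hy)) (QuotSMulTop x M)) le_rfl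

theorem isCM_congr {M N : Type u} [AddCommGroup M] [Module A M] [AddCommGroup N] [Module A N]
    (e : M ≃ₗ[A] N) (h : IsCohenMacaulayModule A M) : IsCohenMacaulayModule A N := by
  unfold IsCohenMacaulayModule at h ⊢
  rwa [← supportDim_congr e, ← depth_congr e]

/-- Regular sequences in a Cohen–Macaulay module are parts of systems of parameters. -/
theorem isCM_main : ∀ (xs : List A), (∀ x ∈ xs, x ∈ maximalIdeal A) →
    ∀ (M : Type u) [AddCommGroup M] [Module A M] [Module.Finite A M], IsCohenMacaulayModule A M →
      (IsWeaklyRegular M xs → IsCohenMacaulayModule A (M ⧸ (Ideal.ofList xs • (⊤ : Submodule A M))) ∧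
        Module.supportDim A (M ⧸ (Ideal.ofList xs • (⊤ : Submodule A M))) + xs.length = Module.supportDim A M) ∧
      (Module.supportDim A (M ⧸ (Ideal.ofList xs • (⊤ : Submodule A M))) + xs.length = Module.supportDim A M →
        IsWeaklyRegular M xs) := by
  intro xs
  induction xs with
  | nil =>
    intro _ M _ _ _ hM
    obtain ⟨e⟩ := supportDim_quotient_nil (A := A) (M := M)
    exact ⟨fun _ => ⟨isCM_congr e.symm hM, by rw [supportDim_congr e]; simp⟩, fun _ => IsWeaklyRegular.nil A M⟩
  | cons x xs ih =>
    intro hxs M _ _ _ hM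
    haveI := IsCM.nontrivial hM
    have hx := hxs x List.mem_cons_self
    have hxs' : ∀ y ∈ xs, y ∈ maximalIdeal A := fun y hy => hxs y (List.mem_cons_of_mem _ hy)
    let e := Submodule.quotOfListConsSMulTopEquivQuotSMulTopInner M x xs
    rw [supportDim_congr e, List.length_cons, Nat.cast_succ, ← add_assoc, isWeaklyRegular_cons_iff]
    constructor
    · rintro ⟨hreg, hrest⟩
      obtain ⟨h1, h2⟩ := (ih hxs' _ ((isCM_quotSMulTop_iff hx hreg).mpr hM)).1 hrest
      refine ⟨isCM_congr e.symm h1, ?_⟩
      rw [h2, Module.supportDim_quotSMulTop_succ_eq_supportDim hreg hx]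
    · intro h
      have hle := supportDim_le_add_length xs hxs' (QuotSMulTop x M)
      have hge := Module.supportDim_le_supportDim_quotSMulTop_succ (M := M) hx
      have heq : Module.supportDim A (QuotSMulTop x M) + 1 = Module.supportDim A M := by
        refine le_antisymm ?_ hge
        rw [← h]
        exact add_le_add hle le_rfl
      have hlt : Module.supportDim A (QuotSMulTop x M) < Module.supportDim A M := by
        obtain ⟨d, hd⟩ := exists_nat_supportDim_eq (R := A) (M := M)
        rw [hd] at heq ⊢
        match hq : Module.supportDim A (QuotSMulTop x M), heq with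
        | ⊥, _ => exact WithBot.bot_lt_coe _
        | (⊤ : ℕ∞), heq =>
          exfalso
          have h1 : ((⊤ : ℕ∞) + 1 : ℕ∞) = (d : ℕ∞) := WithBot.coe_injective (by exact_mod_cast heq)
          simp at h1
        | ((n : ℕ) : ℕ∞), heq =>
          have h1 : n + 1 = d := by exact_mod_cast heq
          exact_mod_cast (show n < d by omega)
      have hreg := IsCM.isSMulRegular_of_supportDim_lt hM hlt
      refine ⟨hreg, (ih hxs' _ ((isCM_quotSMulTop_iff hx hreg).mpr hM)).2 ?_⟩
      rw [← heq] at h
      exact withBot_add_one_cancel h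

/-- The criterion by associated primes of quotients by parts of systems of parameters. -/
theorem isCM_of_forall_assoc : ∀ (d : ℕ) (M : Type u) [AddCommGroup M] [Module A M] [Module.Finite A M] [Nontrivial M],
    Module.supportDim A M = d →
    (∀ xs : List A, (∀ x ∈ xs, x ∈ maximalIdeal A) →
      Module.supportDim A (M ⧸ (Ideal.ofList xs • (⊤ : Submodule A M))) + xs.length = Module.supportDim A M →
        ∀ p ∈ associatedPrimes A (M ⧸ (Ideal.ofList xs • (⊤ : Submodule A M))),
          ringKrullDim (A ⧸ p) = Module.supportDim A (M ⧸ (Ideal.ofList xs • (⊤ : Submodule A M)))) →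
    IsCohenMacaulayModule A M := by
  intro d
  induction d with
  | zero =>
    intro M _ _ _ _ hd _
    have h := depth_le_supportDim (R := A) (M := M)
    unfold IsCohenMacaulayModule
    rw [hd, Nat.cast_zero] at h ⊢
    exact le_antisymm (by exact_mod_cast (zero_le : 0 ≤ depth A M)) h
  | succ d ih =>
    intro M _ _ _ _ hd h
    obtain ⟨e⟩ := supportDim_quotient_nil (A := A) (M := M)
    have h0 : ∀ p ∈ associatedPrimes A M, ringKrullDim (A ⧸ p) = Module.supportDim A M := fun p hp => by
      rw [← supportDim_congr e]
      refine h [] (by simp) (by rw [supportDim_congr e]; simp) p ?_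
      rwa [LinearEquiv.AssociatedPrimes.eq e]
    obtain ⟨x, hx, hreg⟩ : ∃ x ∈ maximalIdeal A, IsSMulRegular M x := by
      by_contra hcon
      push Not at hcon
      obtain ⟨p, hp, hle⟩ := exists_associatedPrime_ge_of_no_regular (I := maximalIdeal A) hcon
      have hpm : p = maximalIdeal A := ((maximalIdeal.isMaximal A).eq_of_le hp.isPrime.ne_top hle).symm
      have h1 := h0 p hp
      rw [hpm, ringKrullDim_eq_zero_of_isField ((Ideal.Quotient.maximal_ideal_iff_isField_quotient _).mp inferInstance), hd] at h1
      exact absurd h1 (by exact_mod_cast (Nat.succ_ne_zero d).symm)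
    have hd' := Module.supportDim_quotSMulTop_succ_eq_supportDim hreg hx
    rw [hd, Nat.cast_succ] at hd'
    haveI : Nontrivial (QuotSMulTop x M) := by
      rw [QuotSMulTop, Submodule.Quotient.nontrivial_iff]
      refine ne_top_of_le_ne_top (maximalIdeal_smul_top_ne_top (R := A) (M := M)) ?_
      rw [← Submodule.ideal_span_singleton_smul]
      exact Submodule.smul_mono_left ((Ideal.span_singleton_le_iff_mem _).mpr hx)
    refine (isCM_quotSMulTop_iff hx hreg).mp (ih (QuotSMulTop x M) (withBot_add_one_cancel hd') fun xs hxs hlen p hp => ?_)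
    let e2 := Submodule.quotOfListConsSMulTopEquivQuotSMulTopInner M x xs
    rw [← supportDim_congr e2]
    refine h (x :: xs) (List.forall_mem_cons.mpr ⟨hx, hxs⟩) ?_ p ?_
    · rw [supportDim_congr e2, List.length_cons, Nat.cast_succ, ← add_assoc, hlen,
        Module.supportDim_quotSMulTop_succ_eq_supportDim hreg hx]
    · rwa [LinearEquiv.AssociatedPrimes.eq e2]

/-- Depth over the source equals depth over the target for finite modules. -/
theorem depth_eq_of_finite {B : Type u} [CommRing B] [IsLocalRing B] [IsNoetherianRing B] [Algebra A B]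
    [IsLocalHom (algebraMap A B)] : ∀ (n : ℕ) (M : Type u) [AddCommGroup M] [Module B M] [Module A M]
      [IsScalarTower A B M] [Module.Finite A M], depth A M = n → depth B M = n := by
  intro n
  induction n with
  | zero =>
    intro M _ _ _ _ _ hn
    haveI : Module.Finite B M := Module.Finite.of_restrictScalars_finite A B M
    rcases subsingleton_or_nontrivial M with hs | hnt
    · rw [depth, idealDepth_eq_top (Subsingleton.elim _ _)] at hn
      exact absurd hn (ENat.top_ne_coe 0)
    rw [depth, Nat.cast_zero, idealDepth_eq_zero_iff_exists_associatedPrime (maximalIdeal_smul_top_ne_top (R := B))]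
    obtain ⟨p, hp, hle⟩ := (idealDepth_eq_zero_iff_exists_associatedPrime (maximalIdeal_smul_top_ne_top (R := A))).mp hn
    obtain ⟨hpp, z, hz⟩ := isAssociatedPrime_iff.mp hp
    let T : Submodule B M :=
      { carrier := {w | ∀ a ∈ maximalIdeal A, a • w = 0}
        add_mem' := fun hv hw a ha => by rw [smul_add, hv a ha, hw a ha, add_zero]
        zero_mem' := fun a _ => smul_zero a
        smul_mem' := fun b w hw a ha => by rw [smul_comm, hw a ha, smul_zero] }
    have hzT : z ∈ T := fun a ha => by
      have := hz.le (hle ha)
      rwa [Submodule.mem_colon_singleton, Submodule.mem_bot] at this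
    haveI : Nontrivial T := by
      refine nontrivial_of_ne ⟨z, hzT⟩ 0 fun h => hpp.ne_top ?_
      rw [hz, show z = 0 from congrArg Subtype.val h]
      simp
    obtain ⟨q, hq⟩ := associatedPrimes.nonempty B T
    obtain ⟨hqp, w, hw⟩ := isAssociatedPrime_iff.mp hq
    let f : (B ⧸ q) →ₗ[A] M := ((T.subtype.comp (Submodule.liftQ q (LinearMap.toSpanSingleton B T w) (fun b hb => by
      have := hw.le hb
      rwa [Submodule.mem_colon_singleton, Submodule.mem_bot] at this))).restrictScalars A)
    have hf : Function.Injective f := by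
      refine (injective_iff_map_eq_zero f).mpr fun b hb => ?_
      obtain ⟨b, rfl⟩ := Submodule.Quotient.mk_surjective q b
      have hb' : b • w = 0 := Subtype.val_injective hb
      rw [Submodule.Quotient.mk_eq_zero, hw, Submodule.mem_colon_singleton, Submodule.mem_bot]
      exact hb'
    haveI : Module.Finite A (B ⧸ q) := Module.Finite.of_injective f hf
    haveI : Algebra.IsIntegral A (B ⧸ q) := Algebra.IsIntegral.of_finite _ _
    have hcomap : (⊥ : Ideal (B ⧸ q)).comap (algebraMap A (B ⧸ q)) = maximalIdeal A := by
      refine ((maximalIdeal.isMaximal A).eq_of_le (Ideal.comap_ne_top _ bot_ne_top) fun a ha => ?_).symm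
      rw [Ideal.mem_comap, Ideal.mem_bot, IsScalarTower.algebraMap_apply A B (B ⧸ q), Ideal.Quotient.algebraMap_eq,
        Ideal.Quotient.eq_zero_iff_mem, hw, Submodule.mem_colon_singleton, Submodule.mem_bot]
      exact Subtype.ext (by simpa using w.2 a ha)
    have hmax : (⊥ : Ideal (B ⧸ q)).IsMaximal := Ideal.isMaximal_of_isIntegral_of_isMaximal_comap (⊥ : Ideal (B ⧸ q))
      (by rw [hcomap]; exact maximalIdeal.isMaximal A)
    have hqm : q.IsMaximal := Ideal.Quotient.maximal_of_isField q
      ((MulEquiv.isField ((Ideal.Quotient.maximal_ideal_iff_isField_quotient (⊥ : Ideal (B ⧸ q))).mp hmax)) (RingEquiv.quotientBot (B ⧸ q)).symm.toMulEquiv)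
    exact ⟨q, associatedPrimes.subset_of_injective (f := T.subtype) Subtype.val_injective hq,
      (IsLocalRing.eq_maximalIdeal hqm).ge⟩
  | succ n ih =>
    intro M _ _ _ _ _ hn
    haveI : Module.Finite B M := Module.Finite.of_restrictScalars_finite A B M
    rcases subsingleton_or_nontrivial M with hs | hnt
    · rw [depth, idealDepth_eq_top (Subsingleton.elim _ _)] at hn
      exact absurd hn (ENat.top_ne_coe _)
    obtain ⟨x, hx, hreg⟩ := (one_le_idealDepth_iff (maximalIdeal_smul_top_ne_top (R := A) (M := M))).mp
      (show 1 ≤ depth A M by rw [hn]; push_cast; exact le_add_self)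
    let y := algebraMap A B x
    have hy : y ∈ maximalIdeal B := map_nonunit (algebraMap A B) x hx
    have hregy : IsSMulRegular M y := fun u v h => hreg (by simpa [y] using h)
    have hsub : x • (⊤ : Submodule A M) = (y • (⊤ : Submodule B M)).restrictScalars A := by
      ext m
      simp only [Submodule.restrictScalars_mem, Submodule.mem_smul_pointwise_iff_exists, Submodule.mem_top, true_and, y,
        algebraMap_smul]
    let e : QuotSMulTop x M ≃ₗ[A] QuotSMulTop y M :=
      (Submodule.quotEquivOfEq _ _ hsub).trans (Submodule.Quotient.restrictScalarsEquiv A (y • (⊤ : Submodule B M)))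
    haveI : Module.Finite A (QuotSMulTop y M) := Module.Finite.equiv e
    have h1 := idealDepth_quotSMulTop_add_one hx hreg
    have h2 : depth A (QuotSMulTop y M) = n := by
      rw [← depth_congr e]
      have h3 : idealDepth (maximalIdeal A) (QuotSMulTop x M) + 1 = (n : ℕ∞) + 1 := by
        rw [h1]; exact hn.trans (Nat.cast_succ n)
      exact (WithTop.add_right_inj (WithTop.one_ne_top)).mp h3
    have h4 := idealDepth_quotSMulTop_add_one hy hregy
    rw [depth, ← h4, show idealDepth (maximalIdeal B) (QuotSMulTop y M) = depth B (QuotSMulTop y M) from rfl,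
      ih (QuotSMulTop y M) h2, Nat.cast_succ]

end Groth.Agent.H05EGA4.DepthMisc
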