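import Groth.Agent.H05EGA4.DiscJac
import Groth.Agent.H9CI.BaseChange
import Groth.Agent.H9CI.FiniteSyntomic

/-! The Kähler different of a finite free syntomic algebra. -/

set_option autoImplicit false
set_option linter.style.haveILetI false

universe u

open TensorProduct MvPolynomial

namespace Groth.Agent.H05EGA4.DiscFitt

section

variable {A B : Type u} [CommRing A] [CommRing B] [Algebra A B] {n : ℕ}

variable (φ : MvPolynomial (Fin n) A →ₐ[A] B) (hφ : Function.Surjective φ) (f : Fin n → MvPolynomial (Fin n) A)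
  (hker : RingHom.ker φ.toRingHom = Ideal.span (Set.range f))

include hφ hker in
theorem fitt_eq :
    Fitt.ideal B (Ω[B⁄A]) 0 = Ideal.span {φ (Matrix.det (Matrix.of fun i j => pderiv j (f i)))} := by
  classical
  let J : Matrix (Fin n) (Fin n) B := Matrix.of fun i j => φ (pderiv j (f i))
  have hdet : φ (Matrix.det (Matrix.of fun i j => pderiv j (f i))) = J.det := by
    rw [AlgHom.map_det]; rfl
  let x : Fin n → Ω[B⁄A] := fun j => KaehlerDifferential.D A B (φ (X j))
  letI := φ.toRingHom.toAlgebra
  haveI : IsScalarTower A (MvPolynomial (Fin n) A) B := IsScalarTower.of_algebraMap_eq fun r => (φ.commutes r).symm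
  have hD : ∀ p, KaehlerDifferential.D A B (φ p) = ∑ j, φ (pderiv j p) • x j := fun p => by
    induction p using MvPolynomial.induction_on with
    | C r => simp [← MvPolynomial.algebraMap_eq]
    | add p q hp hq => simp only [map_add, add_smul, Finset.sum_add_distrib, hp, hq]
    | mul_X p k hp =>
      rw [map_mul, Derivation.leibniz, hp, Finset.smul_sum]
      simp only [pderiv_mul, map_add, map_mul, add_smul, Finset.sum_add_distrib, smul_smul]
      rw [add_comm]
      congr 1
      · exact Finset.sum_congr rfl fun j _ => by rw [mul_comm]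
      · rw [Finset.sum_eq_single k (fun j _ hj => by simp [pderiv_X, Pi.single_eq_of_ne' hj])
          (fun h => absurd (Finset.mem_univ k) h)]
        simp [x]
  have hspan : Submodule.span B (Set.range x) = ⊤ := by
    rw [eq_top_iff, ← KaehlerDifferential.span_range_derivation, Submodule.span_le]
    rintro _ ⟨b, rfl⟩
    obtain ⟨p, rfl⟩ := hφ b
    rw [SetLike.mem_coe, hD]
    exact sum_mem fun j _ => Submodule.smul_mem _ _ (Submodule.subset_span ⟨j, rfl⟩)
  have hrel : ∀ i, ∑ j, J i j • x j = 0 := fun i => by
    show ∑ j, φ (pderiv j (f i)) • x j = 0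
    rw [← hD, DiscJac.φ_f φ f hker, map_zero]
  refine le_antisymm ?_ ((Ideal.span_singleton_le_iff_mem _).2
    (Ideal.subset_span ⟨n, x, J, hspan, fun i _ => hrel i, hdet⟩))
  rw [H29Fitt.ideal_eq x hspan]
  let R : Submodule B (Fin n → B) := Submodule.span B (Set.range fun i => J i)
  refine H29Fitt.J_le_of_span (Set.range fun i => J i) (fun w hw => ?_) fun z e hz => ?_
  · -- the derivation into the cokernel of the Jacobian
    change w ∈ R
    let D₀ : MvPolynomial (Fin n) A →ₗ[A] (Fin n → B) ⧸ R :=
      (R.mkQ.restrictScalars A) ∘ₗ LinearMap.pi fun j => φ.toLinearMap ∘ₗ (pderiv j : Derivation A (MvPolynomial (Fin n) A) _).toLinearMap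
    have hD₀ : ∀ p q, D₀ (p * q) = φ p • D₀ q + φ q • D₀ p := fun p q => by
      show R.mkQ _ = φ p • R.mkQ _ + φ q • R.mkQ _
      rw [← R.mkQ.map_smul, ← R.mkQ.map_smul, ← map_add]
      congr 1
      funext j
      show φ (pderiv j (p * q)) = φ p * φ (pderiv j q) + φ q * φ (pderiv j p)
      rw [pderiv_mul, map_add, map_mul, map_mul]
      ring
    have hD₀I : ∀ p, φ p = 0 → D₀ p = 0 := fun p hp => by
      obtain ⟨a, rfl⟩ := Ideal.mem_span_range_iff_exists_fun.1 (hker.le (show p ∈ RingHom.ker φ.toRingHom from hp))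
      rw [map_sum]
      refine Finset.sum_eq_zero fun i _ => ?_
      rw [hD₀, DiscJac.φ_f φ f hker, zero_smul, add_zero]
      have : D₀ (f i) = 0 := (Submodule.Quotient.mk_eq_zero _).2 (Submodule.subset_span ⟨i, rfl⟩)
      rw [this, smul_zero]
    have hex : ∀ b : B, ∃ p, φ p = b := hφ
    choose s hs using hex
    have hwd : ∀ p, D₀ (s (φ p)) = D₀ p := fun p => by
      rw [← sub_eq_zero, ← map_sub]
      exact hD₀I _ (by rw [map_sub, hs, sub_self])
    let Dl : B →ₗ[A] (Fin n → B) ⧸ R :=
      { toFun := fun b => D₀ (s b)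
        map_add' := fun a b => by
          rw [← map_add D₀, ← hwd (s a + s b), map_add φ, hs, hs]
        map_smul' := fun r b => by
          rw [RingHom.id_apply, ← map_smul D₀, ← hwd (r • s b), map_smul φ, hs] }
    let Dd : Derivation A B ((Fin n → B) ⧸ R) := Derivation.mk' Dl fun a b => by
      show D₀ (s (a * b)) = a • D₀ (s b) + b • D₀ (s a)
      rw [show a * b = φ (s a * s b) by rw [map_mul, hs, hs], hwd, hD₀, hs, hs]
    have hx : ∀ j, Dd.liftKaehlerDifferential (x j) = R.mkQ (Pi.single j 1) := fun j => by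
      rw [Derivation.liftKaehlerDifferential_comp_D]
      show D₀ (s (φ (X j))) = _
      rw [hwd]
      show R.mkQ _ = _
      congr 1
      funext k
      show φ (pderiv k (X j)) = _
      by_cases h : k = j
      · subst h; simp
      · simp [pderiv_X, Pi.single_eq_of_ne h, Pi.single_eq_of_ne' h]
    have h := congrArg Dd.liftKaehlerDifferential hw
    rw [map_sum, map_zero] at h
    rw [← Submodule.Quotient.mk_eq_zero, ← Submodule.mkQ_apply, pi_eq_sum_univ' w, map_sum, ← h]
    exact Finset.sum_congr rfl fun j _ => by rw [map_smul, map_smul, hx]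
  · choose σ hσ using hz
    have h : (Matrix.of fun a b => z b (e a)) = (1 : Matrix (Fin n) (Fin n) B).submatrix e id * J.transpose *
        (1 : Matrix (Fin n) (Fin n) B).submatrix id σ := by
      ext a b
      simp [Matrix.mul_apply, Matrix.one_apply, ← hσ b]
    rw [h, Matrix.det_mul, Matrix.det_mul, Matrix.det_transpose, hdet]
    exact Ideal.mul_mem_right _ _ (Ideal.mul_mem_left _ _ (Ideal.mem_span_singleton_self _))

variable [Module.Free A B] [Module.Finite A B]

include hφ hker in
theorem different_eq_fitt : QFDual.different B (Disc.Omega.trace A B) = Fitt.ideal B (Ω[B⁄A]) 0 := by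
  rw [fitt_eq φ hφ f hker, DiscJac.different_eq φ hφ f hker]

end

theorem fitt_congr {R : Type u} [CommRing R] {M N : Type u} [AddCommGroup M] [Module R M] [AddCommGroup N] [Module R N]
    (e : M ≃ₗ[R] N) : Fitt.ideal R M 0 = Fitt.ideal R N 0 := by
  suffices key : ∀ (M N : Type u) [AddCommGroup M] [Module R M] [AddCommGroup N] [Module R N],
      (M ≃ₗ[R] N) → Fitt.ideal R M 0 ≤ Fitt.ideal R N 0 from le_antisymm (key M N e) (key N M e.symm)
  intro M N _ _ _ _ e
  refine Ideal.span_mono ?_
  rintro d ⟨k, x, a, hx, ha, hd⟩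
  refine ⟨k, e ∘ x, a, ?_, fun i hi => ?_, hd⟩
  · rw [Set.range_comp, ← LinearEquiv.coe_coe, ← Submodule.map_span, hx, Submodule.map_top, LinearEquiv.range]
  · simp only [Function.comp_apply, ← map_smul, ← map_sum, ha i hi, map_zero]

attribute [local instance] Algebra.TensorProduct.rightAlgebra

theorem different_eq_fitt_of_syntomic {A B : Type u} [CommRing A] [CommRing B] [Algebra A B] [Module.Finite A B]
    [Module.Free A B] (h : Synt.IsSyntomic A B) :
    QFDual.different B (Disc.Omega.trace A B) = Fitt.ideal B (Ω[B⁄A]) 0 := by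
  -- ideals which agree over every local ring of the base
  suffices key : ∀ I J : Ideal B, (∀ (p : Ideal A) [p.IsMaximal],
      I.map (algebraMap B (Localization.AtPrime p ⊗[A] B)) ≤ J.map (algebraMap B (Localization.AtPrime p ⊗[A] B))) → I ≤ J by
    have hp : ∀ (p : Ideal A) [p.IsMaximal],
        (QFDual.different B (Disc.Omega.trace A B)).map (algebraMap B (Localization.AtPrime p ⊗[A] B)) =
          (Fitt.ideal B (Ω[B⁄A]) 0).map (algebraMap B (Localization.AtPrime p ⊗[A] B)) := fun p _ => by
      have hpush : Algebra.IsPushout A (Localization.AtPrime p) B (Localization.AtPrime p ⊗[A] B) := inferInstance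
      obtain ⟨n, F, ⟨e⟩⟩ := H9CI.exists_square_presentation (H9CI.isSyntomic_baseChange (Localization.AtPrime p) h)
      let φ := e.symm.toAlgHom.comp (Ideal.Quotient.mkₐ (Localization.AtPrime p) (Ideal.span (Set.range F)))
      have hker : RingHom.ker φ.toRingHom = Ideal.span (Set.range F) := by
        ext x
        show e.symm (Ideal.Quotient.mk _ x) = 0 ↔ _
        rw [EmbeddingLike.map_eq_zero_iff, Ideal.Quotient.eq_zero_iff_mem]
      rw [DiscBC.map_different_eq_of_flat (A' := Localization.AtPrime p),
        different_eq_fitt φ (e.symm.surjective.comp Ideal.Quotient.mk_surjective) F hker,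
        ← fitt_congr (M := (Localization.AtPrime p ⊗[A] B) ⊗[B] Ω[B⁄A]) (KaehlerDifferential.tensorKaehlerEquiv A (Localization.AtPrime p) B (Localization.AtPrime p ⊗[A] B)),
        H29Fitt.ideal_baseChange]
    exact le_antisymm (key _ _ fun p _ => (hp p).le) (key _ _ fun p _ => (hp p).ge)
  intro I J hIJ x hx
  by_contra hxJ
  obtain ⟨p, hp, hle⟩ := Ideal.exists_le_maximal ((J.colon {x}).comap (algebraMap A B)) fun htop => hxJ (by
    have := (htop ▸ Submodule.mem_top : (1 : A) ∈ _)
    rw [Ideal.mem_comap, map_one, Submodule.mem_colon_singleton] at this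
    simpa using this)
  haveI : IsLocalization (Algebra.algebraMapSubmonoid B p.primeCompl) (Localization.AtPrime p ⊗[A] B) :=
    isLocalizedModule_iff_isLocalization.mp <| (isLocalizedModule_iff_isBaseChange p.primeCompl (Localization.AtPrime p) _).mpr <|
      (Algebra.IsPushout.out (R := A) (S := Localization.AtPrime p) (R' := B) (S' := Localization.AtPrime p ⊗[A] B))
  obtain ⟨_, ⟨s, hs, rfl⟩, hmem⟩ := (IsLocalization.algebraMap_mem_map_algebraMap_iff
    (Algebra.algebraMapSubmonoid B p.primeCompl) (Localization.AtPrime p ⊗[A] B) J x).1 (hIJ p (Ideal.mem_map_of_mem _ hx))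
  exact hs (hle (by rw [Ideal.mem_comap, Submodule.mem_colon_singleton, smul_eq_mul]; exact hmem))

end Groth.Agent.H05EGA4.DiscFitt
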