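import Groth.Agent.H05EGA4.QFSplit
import Groth.Agent.H05EGA4.DiscFitt
import Mathlib.RingTheory.PicardGroup

/-! Local properties of the dualizing module of a quasi-finite algebra. -/

set_option autoImplicit false
set_option linter.style.haveILetI false

universe u

open TensorProduct IsLocalRing

namespace Groth.Agent.H05EGA4.QFApply

section Descent

variable {B C : Type u} [CommRing B] [CommRing C] [IsLocalRing C] [Algebra B C] [Module.Flat B C]
  {q : Ideal B} (hq : (maximalIdeal C).comap (algebraMap B C) = q) {M : Type u} [AddCommGroup M] [Module B M]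

include hq in
theorem exists_notMem_smul_eq_zero {x : M} (hx : (1 : C) ⊗ₜ[B] x = 0) : ∃ s ∉ q, s • x = 0 := by
  by_contra! h
  let I := LinearMap.ker (LinearMap.toSpanSingleton B M x)
  have hI : I ≤ q := fun b hb => by
    by_contra hbq
    exact h b hbq hb
  let f : B ⧸ I →ₗ[B] M := Submodule.liftQ I (LinearMap.toSpanSingleton B M x) le_rfl
  have hf : Function.Injective f := LinearMap.ker_eq_bot.1 (Submodule.ker_liftQ_eq_bot' _ _ rfl)
  have h2 := Module.Flat.lTensor_preserves_injective_linearMap (M := C) f hf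
  have h3 : (1 : C) ⊗ₜ[B] (Submodule.Quotient.mk (1 : B) : B ⧸ I) = 0 := h2 (by
    rw [map_zero, LinearMap.lTensor_tmul]
    show (1 : C) ⊗ₜ[B] ((1 : B) • x) = 0
    rw [one_smul, hx])
  let J : Ideal C := Ideal.map (algebraMap B C) I
  let g : (B ⧸ I) →ₗ[B] (C ⧸ J) :=
    Submodule.liftQ I ((J.mkQ.restrictScalars B) ∘ₗ Algebra.linearMap B C) (fun b hb =>
      (Submodule.Quotient.mk_eq_zero J).2 (Ideal.mem_map_of_mem (algebraMap B C) hb))
  let π : C ⊗[B] (B ⧸ I) →ₗ[C] C ⧸ J := g.liftBaseChange C
  have h4 : π ((1 : C) ⊗ₜ[B] (Submodule.Quotient.mk (1 : B) : B ⧸ I)) = Ideal.Quotient.mk J 1 := by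
    rw [LinearMap.liftBaseChange_tmul, one_smul]
    show Ideal.Quotient.mk J (algebraMap B C 1) = _
    rw [map_one]
  rw [h3, map_zero] at h4
  have h5 : J ≤ maximalIdeal C := Ideal.map_le_iff_le_comap.2 (hq ▸ hI)
  have h6 : (Ideal.Quotient.mk J) 1 = 0 := h4.symm
  exact (maximalIdeal C).ne_top_iff_one.1 Ideal.IsPrime.ne_top' (h5 (Ideal.Quotient.eq_zero_iff_mem.1 h6))

end Descent

theorem flat_of_local {A B M : Type u} [CommRing A] [CommRing B] [Algebra A B] [AddCommGroup M] [Module A M] [Module B M]
    [IsScalarTower A B M]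
    (h : ∀ q : Ideal B, q.IsMaximal → ∃ (C : Type u) (_ : CommRing C) (_ : IsLocalRing C) (_ : Algebra B C) (_ : Algebra A C)
      (_ : IsScalarTower A B C),
      Module.Flat B C ∧ (maximalIdeal C).comap (algebraMap B C) = q ∧ Module.Flat A (C ⊗[B] M)) :
    Module.Flat A M := by
  rw [Module.Flat.iff_lTensor_preserves_injective_linearMap]
  intro N N' _ _ _ _ f hf
  rw [← LinearMap.ker_eq_bot, eq_bot_iff]
  intro x hx
  rw [LinearMap.mem_ker] at hx
  rw [Submodule.mem_bot]
  by_contra hx0
  obtain ⟨q, hq, hle⟩ := Ideal.exists_le_maximal (LinearMap.ker (LinearMap.toSpanSingleton B (M ⊗[A] N) x)) fun htop => hx0 (by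
    have : (1 : B) ∈ LinearMap.ker (LinearMap.toSpanSingleton B (M ⊗[A] N) x) := htop ▸ Submodule.mem_top
    simpa using this)
  obtain ⟨C, _, _, _, _, _, _, hcomap, hflat⟩ := h q hq
  let j : M →ₗ[A] C ⊗[B] M := (TensorProduct.mk B C M 1).restrictScalars A
  have hinj := Module.Flat.lTensor_preserves_injective_linearMap (M := C ⊗[B] M) f hf
  have h1 : j.rTensor N x = 0 := hinj (by
    rw [map_zero, ← LinearMap.comp_apply, LinearMap.lTensor_comp_rTensor, ← LinearMap.rTensor_comp_lTensor,
      LinearMap.comp_apply, hx, map_zero])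
  let e := TensorProduct.AlgebraTensorModule.assoc A B C C M N
  have h2 : ∀ z : M ⊗[A] N, e (j.rTensor N z) = (1 : C) ⊗ₜ[B] z := fun z => by
    induction z with
    | zero => simp
    | add a b ha hb => simp only [map_add, ha, hb, TensorProduct.tmul_add]
    | tmul m y => rfl
  obtain ⟨s, hs, hs0⟩ := exists_notMem_smul_eq_zero hcomap (by rw [← h2, h1, map_zero])
  exact hs (hle hs0)

theorem flat_omega_finite {A R C : Type u} [CommRing A] [CommRing R] [CommRing C] [IsLocalRing R] [IsNoetherianRing R]
    [Algebra A R] [Algebra R C] [Algebra A C] [IsScalarTower A R C] [Module.Flat A R] [Module.Finite R C] [Module.Flat R C]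
    [Module A (Disc.Omega R C)] [IsScalarTower A C (Disc.Omega R C)] :
    Module.Flat A (Disc.Omega R C) := by
  haveI : Module.FinitePresentation R C := Module.finitePresentation_of_finite R C
  haveI : Module.Free R C := Module.free_of_flat_of_isLocalRing
  haveI : Module.Flat A (Module.Dual R C) := Module.Flat.trans A R _
  refine Module.Flat.of_linearEquiv (R := A) (M := Module.Dual R C) (N := Disc.Omega R C) ?_
  refine LinearEquiv.mk
    { toFun := Disc.Omega.toLinearMap
      map_add' := fun _ _ => rfl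
      map_smul' := fun a φ => ?_ } Disc.Omega.mk (fun φ => rfl) (fun φ => rfl)
  refine LinearMap.ext fun y => ?_
  rw [RingHom.id_apply, ← algebraMap_smul C a φ, Disc.Omega.smul_toLinearMap_apply, IsScalarTower.algebraMap_apply A R C,
    ← Algebra.smul_def, map_smul]
  rw [LinearMap.smul_apply, ← algebraMap_smul R a]

variable {A B' B : Type u} [CommRing A] [CommRing B'] [CommRing B] [IsNoetherianRing A] [Algebra A B'] [Algebra B' B]
  [Algebra A B] [IsScalarTower A B' B]

theorem flat_omega (hf : QFDual.IsQFFactor A B' B) [Module.Flat A B] : Module.Flat A (QFDual.omega A B' B) := by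
  refine flat_of_local (B := B) fun q hq => ?_
  haveI := hq.isPrime
  obtain ⟨R, C, _, _, _, _, _, _, _, _, _, _, _, _, _, _, hcomap, hflat, -, ⟨e⟩⟩ := QFSplit.exists_model hf q
  refine ⟨C, inferInstance, inferInstance, inferInstance, inferInstance, inferInstance, inferInstance, hcomap, ?_⟩
  haveI := hflat inferInstance
  letI : Module A (Disc.Omega R C) := Module.compHom _ (algebraMap A C)
  haveI : IsScalarTower A C (Disc.Omega R C) := ⟨fun a c φ => by
    show (a • c) • φ = algebraMap A C a • c • φ
    rw [Algebra.smul_def, mul_smul]⟩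
  haveI : Module.Flat A (Disc.Omega R C) := flat_omega_finite (A := A) (R := R) (C := C)
  exact Module.Flat.of_linearEquiv (e.restrictScalars A)

theorem invertible_of_local {B M : Type u} [CommRing B] [IsNoetherianRing B] [AddCommGroup M] [Module B M] [Module.Finite B M]
    (h : ∀ q : Ideal B, q.IsMaximal → ∃ (C : Type u) (_ : CommRing C) (_ : IsLocalRing C) (_ : Algebra B C),
      Module.Flat B C ∧ (maximalIdeal C).comap (algebraMap B C) = q ∧ Nonempty (C ⊗[B] M ≃ₗ[C] C)) :
    Module.Invertible B M := by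
  classical
  have hgen : ∀ q : Ideal B, q.IsMaximal → ∃ (g : M) (s : B), s ∉ q ∧ (∀ m : M, ∃ c : B, c • g = s • m) ∧
      ∀ b : B, b • g = 0 → s * b = 0 := fun q hq => by
    haveI := hq.isPrime
    obtain ⟨C, _, _, _, _, hcomap, ⟨e⟩⟩ := h q hq
    obtain ⟨g, hg⟩ : ∃ g : M, IsUnit (e ((1 : C) ⊗ₜ g)) := by
      by_contra! hno
      obtain ⟨z, hz⟩ := e.surjective 1
      have : ∀ z, e z ∈ maximalIdeal C := fun z => by
        induction z using TensorProduct.induction_on with
        | zero => rw [map_zero]; exact zero_mem _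
        | add a b ha hb => rw [map_add]; exact add_mem ha hb
        | tmul c m =>
          have : e (c ⊗ₜ m) = c • e ((1 : C) ⊗ₜ m) := by rw [← map_smul, TensorProduct.smul_tmul', smul_eq_mul, mul_one]
          rw [this]
          exact Ideal.mul_mem_left _ c (hno m)
      exact (maximalIdeal C).ne_top_iff_one.1 Ideal.IsPrime.ne_top' (hz ▸ this z)
    -- elements of `M ⧸ Bg` die near `q`
    obtain ⟨t, ht⟩ := (Module.Finite.fg_top : (⊤ : Submodule B M).FG)
    have h1 : ∀ m : M, ∃ s ∉ q, ∃ c : B, c • g = s • m := fun m => by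
      have hm : (1 : C) ⊗ₜ[B] ((Submodule.span B {g}).mkQ m) = 0 := by
        obtain ⟨u, hu⟩ := hg
        have hm' : (1 : C) ⊗ₜ[B] m = (e ((1 : C) ⊗ₜ m) * ((u⁻¹ : Cˣ) : C)) • ((1 : C) ⊗ₜ[B] g) := e.injective (by
          rw [map_smul, smul_eq_mul, ← hu, mul_assoc, Units.inv_mul, mul_one])
        have := congrArg (TensorProduct.AlgebraTensorModule.lTensor C C (Submodule.span B {g}).mkQ) hm'
        rw [map_smul, TensorProduct.AlgebraTensorModule.lTensor_tmul, TensorProduct.AlgebraTensorModule.lTensor_tmul] at this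
        rw [this, show (Submodule.span B {g}).mkQ g = 0 from (Submodule.Quotient.mk_eq_zero _).2 (Submodule.mem_span_singleton_self g),
          TensorProduct.tmul_zero, smul_zero]
      obtain ⟨s, hs, hs0⟩ := exists_notMem_smul_eq_zero hcomap hm
      rw [← map_smul, Submodule.mkQ_apply, Submodule.Quotient.mk_eq_zero, Submodule.mem_span_singleton] at hs0
      exact ⟨s, hs, hs0⟩
    have h2 : ∀ b : B, b • g = 0 → ∃ s ∉ q, s * b = 0 := fun b hb => by
      refine exists_notMem_smul_eq_zero (M := B) hcomap ?_
      obtain ⟨u, hu⟩ := hg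
      have h0 : algebraMap B C b * u = 0 := by
        rw [hu, ← smul_eq_mul, ← map_smul, algebraMap_smul, ← TensorProduct.tmul_smul, hb, TensorProduct.tmul_zero, map_zero]
      have h0' : algebraMap B C b = 0 := u.isUnit.mul_left_eq_zero.1 h0
      apply (TensorProduct.rid B C).injective
      rw [map_zero, TensorProduct.rid_tmul, ← Algebra.algebraMap_eq_smul_one, h0']
    obtain ⟨K, hK⟩ : (LinearMap.ker (LinearMap.toSpanSingleton B M g)).FG := IsNoetherian.noetherian _
    choose s₁ hs₁ c₁ hc₁ using h1
    have h2' : ∀ b : (K : Set B), ∃ s ∉ q, s * (b : B) = 0 := fun b => h2 b (by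
      have : (b : B) ∈ LinearMap.ker (LinearMap.toSpanSingleton B M g) := hK ▸ Submodule.subset_span b.2
      exact this)
    choose s₂ hs₂ hb₂ using h2'
    refine ⟨g, (∏ m ∈ t, s₁ m) * ∏ b ∈ K.attach, s₂ b, fun hmem => ?_, fun m => ?_, fun b hb => ?_⟩
    · rcases hq.isPrime.mem_or_mem hmem with hm | hm
      · obtain ⟨m, -, hm⟩ := (Ideal.IsPrime.prod_mem_iff).1 hm
        exact hs₁ m hm
      · obtain ⟨b, -, hb⟩ := (Ideal.IsPrime.prod_mem_iff).1 hm
        exact hs₂ b hb
    · have hm : m ∈ Submodule.span B (t : Set M) := ht ▸ Submodule.mem_top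
      induction hm using Submodule.span_induction with
      | mem m hm =>
        refine ⟨(∏ b ∈ K.attach, s₂ b) * (∏ x ∈ t.erase m, s₁ x) * c₁ m, ?_⟩
        rw [mul_smul, hc₁, smul_smul, ← Finset.mul_prod_erase t s₁ hm]
        congr 1
        ring
      | zero => exact ⟨0, by simp⟩
      | add x y _ _ hx hy =>
        obtain ⟨a, ha⟩ := hx
        obtain ⟨b, hb⟩ := hy
        exact ⟨a + b, by rw [add_smul, smul_add, ha, hb]⟩
      | smul r x _ hx =>
        obtain ⟨a, ha⟩ := hx
        exact ⟨r * a, by rw [mul_smul, ha, smul_comm]⟩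
    · have hbK : b ∈ Submodule.span B (K : Set B) := hK.symm ▸ hb
      induction hbK using Submodule.span_induction with
      | mem y hy =>
        rw [mul_assoc, ← Finset.mul_prod_erase K.attach s₂ (Finset.mem_attach K ⟨y, hy⟩), mul_assoc, mul_left_comm (s₂ _),
          hb₂, mul_zero, mul_zero]
      | zero => rw [mul_zero]
      | add x y hx hy ihx ihy =>
        rw [mul_add, ihx (hK ▸ hx : x ∈ LinearMap.ker (LinearMap.toSpanSingleton B M g)),
          ihy (hK ▸ hy : y ∈ LinearMap.ker (LinearMap.toSpanSingleton B M g)), add_zero]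
      | smul r x hx ihx =>
        rw [smul_eq_mul, mul_left_comm, ihx (hK ▸ hx : x ∈ LinearMap.ker (LinearMap.toSpanSingleton B M g)), mul_zero]
  have hid : ∀ (G : Module.Dual B M) (l m : M), G l • m = G m • l := fun G l m => by
    rw [← sub_eq_zero]
    by_contra hne
    obtain ⟨q, hq, hle⟩ := Ideal.exists_le_maximal (LinearMap.ker (LinearMap.toSpanSingleton B M (G l • m - G m • l))) fun htop => hne (by
      have : (1 : B) ∈ LinearMap.ker (LinearMap.toSpanSingleton B M (G l • m - G m • l)) := htop ▸ Submodule.mem_top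
      simpa using this)
    obtain ⟨g, s, hs, hc, -⟩ := hgen q hq
    obtain ⟨cl, hl⟩ := hc l
    obtain ⟨cm, hm⟩ := hc m
    have e1 : s * G l = cl * G g := by rw [← smul_eq_mul, ← map_smul, ← hl, map_smul, smul_eq_mul]
    have e2 : s * G m = cm * G g := by rw [← smul_eq_mul, ← map_smul, ← hm, map_smul, smul_eq_mul]
    refine hq.isPrime.mul_notMem hs hs (hle ?_)
    rw [LinearMap.mem_ker, LinearMap.toSpanSingleton_apply, smul_sub, sub_eq_zero, smul_smul, smul_smul,
      show s * s * G l = s * G l * s by ring, show s * s * G m = s * G m * s by ring, e1, e2,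
      mul_smul, mul_smul (cm * G g), ← hm, ← hl, smul_smul, smul_smul]
    congr 1
    ring
  let ct := contractLeft B M
  have hsurj : Function.Surjective ct := by
    rw [← LinearMap.range_eq_top]
    by_contra hne
    obtain ⟨q, hq, hle⟩ := Ideal.exists_le_maximal _ hne
    obtain ⟨g, s, hs, hc, hann⟩ := hgen q hq
    choose c hc using hc
    have hu : ∀ a b : B, a • g = b • g → s * a = s * b := fun a b hab => by
      have := hann (a - b) (by rw [sub_smul, hab, sub_self])
      linear_combination this
    let G : Module.Dual B M :=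
      { toFun := fun m => s * c m
        map_add' := fun x y => by rw [← mul_add]; exact hu _ _ (by rw [hc, add_smul, hc, hc, smul_add])
        map_smul' := fun r x => by
          rw [RingHom.id_apply, smul_eq_mul, mul_left_comm]
          exact hu _ _ (by rw [hc, mul_smul, hc, smul_comm]) }
    have hG : G g = s * s := hu _ _ (hc g)
    exact hq.isPrime.mul_notMem hs hs (hle ⟨G ⊗ₜ g, by rw [contractLeft_apply, hG]⟩)
  obtain ⟨z₁, hz₁⟩ := hsurj 1
  have key : ∀ (z w : Module.Dual B M ⊗[B] M), ct w • z = ct z • w := fun z w => by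
    induction z with
    | zero => simp
    | add x y hx hy => simp only [smul_add, hx, hy, map_add, add_smul]
    | tmul F m =>
      induction w with
      | zero => simp
      | add x y hx hy => simp only [smul_add, hx, hy, map_add, add_smul]
      | tmul G g =>
        have h1 : G m • F = F m • G := LinearMap.ext fun l => by
          rw [LinearMap.smul_apply, LinearMap.smul_apply, ← map_smul, hid, map_smul, smul_eq_mul, smul_eq_mul, mul_comm]
        show G g • (F ⊗ₜ[B] m) = F m • (G ⊗ₜ[B] g)
        rw [← TensorProduct.tmul_smul, hid, TensorProduct.tmul_smul, TensorProduct.smul_tmul', h1, TensorProduct.smul_tmul']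
  refine ⟨⟨fun z w hzw => ?_, hsurj⟩⟩
  have h1 := key z z₁
  have h2 := key w z₁
  rw [hz₁, one_smul] at h1 h2
  rw [h1, h2]
  exact congrArg (· • z₁) hzw

theorem finite_omega (hf : QFDual.IsQFFactor A B' B) : Module.Finite B (QFDual.omega A B' B) := by
  haveI := hf.finite
  haveI : IsNoetherianRing B' := IsNoetherianRing.of_finite A B'
  obtain ⟨n, x, hx⟩ := Module.Finite.exists_fin (R := A) (M := B')
  let ev : Disc.Omega A B' →+ (Fin n → A) := AddMonoidHom.mk' (fun φ i => φ.toLinearMap (x i)) fun _ _ => rfl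
  have hinj : Function.Injective ev := fun φ ψ h => Disc.Omega.ext (LinearMap.ext_on hx (by
    rintro _ ⟨i, rfl⟩
    exact congrFun h i))
  letI : Module A (Disc.Omega A B') := Module.compHom _ (algebraMap A B')
  haveI : IsScalarTower A B' (Disc.Omega A B') := ⟨fun a c φ => by
    show (a • c) • φ = algebraMap A B' a • c • φ
    rw [Algebra.smul_def, mul_smul]⟩
  let evl : Disc.Omega A B' →ₗ[A] (Fin n → A) :=
    { toFun := ev
      map_add' := ev.map_add
      map_smul' := fun a φ => funext fun i => by
        show φ.toLinearMap (algebraMap A B' a * x i) = a • φ.toLinearMap (x i)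
        rw [← Algebra.smul_def, map_smul] }
  haveI : Module.Finite A (Disc.Omega A B') := Module.Finite.of_injective evl hinj
  haveI : Module.Finite B' (Disc.Omega A B') := Module.Finite.of_restrictScalars_finite A B' _
  exact Module.Finite.base_change B' B (Disc.Omega A B')

theorem invertible_omega_of_isSyntomic (hf : QFDual.IsQFFactor A B' B) (hs : Synt.IsSyntomic A B) :
    Module.Invertible B (QFDual.omega A B' B) := by
  haveI := hs.2.1
  haveI : IsNoetherianRing B := Algebra.FiniteType.isNoetherianRing A B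
  haveI := finite_omega hf
  refine invertible_of_local fun q hq => ?_
  haveI := hq.isPrime
  obtain ⟨R, C, _, _, _, _, _, _, _, _, _, _, _, _, _, hBC, hcomap, hflat, hsynt, ⟨e⟩⟩ := QFSplit.exists_model hf q
  refine ⟨C, inferInstance, inferInstance, inferInstance, inferInstance, hcomap, ?_⟩
  have h := hsynt hs
  haveI := h.1
  haveI : Module.FinitePresentation R C := Module.finitePresentation_of_finite R C
  haveI : Module.Free R C := Module.free_of_flat_of_isLocalRing
  obtain ⟨n, F, ⟨eF⟩⟩ := H9CI.exists_square_presentation h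
  let φ := eF.symm.toAlgHom.comp (Ideal.Quotient.mkₐ R (Ideal.span (Set.range F)))
  have hker : RingHom.ker φ.toRingHom = Ideal.span (Set.range F) := by
    ext x
    show eF.symm (Ideal.Quotient.mk _ x) = 0 ↔ _
    rw [EmbeddingLike.map_eq_zero_iff, Ideal.Quotient.eq_zero_iff_mem]
  obtain ⟨e', -⟩ := DiscJac.exists_equiv φ (eF.symm.surjective.comp Ideal.Quotient.mk_surjective) F hker
  exact ⟨e.trans e'.symm⟩

end Groth.Agent.H05EGA4.QFApply
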