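import Groth.Agent.H05EGA4.QFGenBC
import Groth.Agent.H05EGA4.QFApply
import Mathlib.RingTheory.Flat.Equalizer
import Mathlib.RingTheory.LocalRing.Module

/-! Fibrewise criterion for invertibility of the dualizing module. -/

set_option autoImplicit false
set_option linter.style.haveILetI false

universe u

open TensorProduct IsLocalRing

namespace Groth.Agent.H05EGA4.QFFibre

attribute [local instance] Algebra.TensorProduct.rightAlgebra

theorem flat_tensor {A B C M : Type u} [CommRing A] [CommRing B] [CommRing C] [Algebra A B] [Algebra B C] [Algebra A C]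
    [IsScalarTower A B C] [Module.Flat B C] [AddCommGroup M] [Module A M] [Module B M] [IsScalarTower A B M] [Module.Flat A M] :
    Module.Flat A (C ⊗[B] M) := by
  rw [Module.Flat.iff_lTensor_preserves_injective_linearMap]
  intro X Y _ _ _ _ f hf
  let F : M ⊗[A] X →ₗ[B] M ⊗[A] Y := TensorProduct.AlgebraTensorModule.lTensor B M f
  have hF : Function.Injective F := Module.Flat.lTensor_preserves_injective_linearMap (M := M) f hf
  have hG : Function.Injective (F.lTensor C) := Module.Flat.lTensor_preserves_injective_linearMap F hF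
  let eX := TensorProduct.AlgebraTensorModule.assoc A B B C M X
  let eY := TensorProduct.AlgebraTensorModule.assoc A B B C M Y
  have hcomm : ∀ z, eY (f.lTensor (C ⊗[B] M) z) = F.lTensor C (eX z) := fun z => by
    induction z with
    | zero => simp
    | add a b ha hb => simp only [map_add, ha, hb]
    | tmul w x =>
      induction w with
      | zero => simp
      | add a b ha hb => simp only [TensorProduct.add_tmul, map_add, ha, hb]
      | tmul c m => rfl
  exact fun z w h => eX.injective (hG (by rw [← hcomm, ← hcomm, h]))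

theorem nonempty_equiv_of_fibre {A C M K : Type u} [CommRing A] [CommRing C] [IsLocalRing C] [IsNoetherianRing C]
    [Algebra A C] [AddCommGroup M] [Module C M] [Module A M] [IsScalarTower A C M] [Module.Finite C M] [Module.Flat A M]
    [Field K] [Algebra A K] (ρ : K →ₐ[A] ResidueField C)
    (hinv : Module.Invertible (K ⊗[A] C) ((K ⊗[A] C) ⊗[C] M)) : Nonempty (M ≃ₗ[C] C) := by
  classical
  let L := K ⊗[A] C
  let κ := ResidueField C
  let ψ : L →ₐ[A] κ := Algebra.TensorProduct.lift ρ (IsScalarTower.toAlgHom A C κ) fun _ _ => Commute.all _ _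
  letI : Algebra L κ := ψ.toRingHom.toAlgebra
  haveI : IsScalarTower C L κ := IsScalarTower.of_algebraMap_eq fun c => by
    show algebraMap C κ c = ψ ((1 : K) ⊗ₜ[A] c)
    rw [Algebra.TensorProduct.lift_tmul, map_one, one_mul]
    rfl
  -- the closed fibre is a line
  haveI : Module.Invertible κ (κ ⊗[C] M) :=
    Module.Invertible.congr (TensorProduct.AlgebraTensorModule.cancelBaseChange C L κ κ M)
  obtain ⟨e⟩ := Module.Invertible.free_iff_linearEquiv.1 (inferInstance : Module.Free κ (κ ⊗[C] M))
  have hsurj : Function.Surjective (TensorProduct.mk C κ M 1) := TensorProduct.mk_surjective C M κ residue_surjective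
  obtain ⟨m, hm⟩ := hsurj (e.symm 1)
  have htop : Submodule.span C {m} = ⊤ := by
    rw [← IsLocalRing.map_tensorProduct_mk_eq_top]
    refine eq_top_iff.2 fun z _ => ?_
    obtain ⟨c, hc⟩ := residue_surjective (e z)
    refine ⟨c • m, Submodule.smul_mem _ _ (Submodule.mem_span_singleton_self m), e.injective ?_⟩
    rw [map_smul, hm, ← algebraMap_smul κ c, map_smul, LinearEquiv.apply_symm_apply, smul_eq_mul, mul_one]
    exact hc
  let f : C →ₗ[C] M := LinearMap.toSpanSingleton C M m
  have hf : Function.Surjective f := fun y =>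
    Submodule.mem_span_singleton.1 (htop ▸ Submodule.mem_top : y ∈ Submodule.span C {m})
  let N := LinearMap.ker f
  -- the fibre of `f` is bijective
  let g : L →ₗ[L] L ⊗[C] M := LinearMap.toSpanSingleton L _ ((1 : L) ⊗ₜ[C] m)
  have hg : Function.Surjective g := fun z => by
    induction z with
    | zero => exact ⟨0, map_zero _⟩
    | add a b ha hb =>
      obtain ⟨x, rfl⟩ := ha
      obtain ⟨y, rfl⟩ := hb
      exact ⟨x + y, map_add _ _ _⟩
    | tmul a y =>
      obtain ⟨c, rfl⟩ := hf y
      refine ⟨c • a, ?_⟩
      show (c • a) • ((1 : L) ⊗ₜ[C] m) = a ⊗ₜ[C] (c • m)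
      rw [TensorProduct.smul_tmul', smul_eq_mul, mul_one, TensorProduct.smul_tmul]
  have hgb : Function.Bijective g := Module.Invertible.bijective_of_surjective hg
  let fA : C →ₗ[A] M := f.restrictScalars A
  let ιA : N →ₗ[A] C := N.subtype.restrictScalars A
  let Θ : K ⊗[A] M →+ L ⊗[C] M := TensorProduct.liftAddHom
    { toFun := fun k => ((TensorProduct.mk C L M) (k ⊗ₜ[A] (1 : C))).toAddMonoidHom
      map_zero' := by ext; simp
      map_add' := fun a b => by ext; simp [TensorProduct.add_tmul] }
    fun r k y => by
      show ((r • k) ⊗ₜ[A] (1 : C)) ⊗ₜ[C] y = (k ⊗ₜ[A] (1 : C)) ⊗ₜ[C] (r • y)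
      rw [← algebraMap_smul C r y, ← TensorProduct.smul_tmul, algebraMap_smul, TensorProduct.smul_tmul']
  have hΘ : ∀ x, Θ (fA.lTensor K x) = g x := fun x => by
    induction x with
    | zero => simp
    | add a b ha hb => simp only [map_add, ha, hb]
    | tmul k c =>
      show (k ⊗ₜ[A] (1 : C)) ⊗ₜ[C] (c • m) = (k ⊗ₜ[A] c) • ((1 : L) ⊗ₜ[C] m)
      rw [← TensorProduct.smul_tmul, TensorProduct.smul_tmul', smul_eq_mul, mul_one]
      congr 1
      rw [Algebra.smul_def]
      show ((1 : K) ⊗ₜ[A] c) * (k ⊗ₜ[A] (1 : C)) = _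
      rw [Algebra.TensorProduct.tmul_mul_tmul, one_mul, mul_one]
  have hinjf : Function.Injective (fA.lTensor K) := fun x y h => hgb.1 (by rw [← hΘ, ← hΘ, h])
  have hex : Function.Exact ιA fA := LinearMap.exact_subtype_ker_map f
  have hinjι : Function.Injective (ιA.lTensor K) :=
    LinearMap.lTensor_injective_of_exact_of_flat fA hf ιA N.subtype_injective hex K
  haveI h0 : Subsingleton (K ⊗[A] N) := subsingleton_of_forall_eq 0 fun x => hinjι (hinjf (by
    rw [map_zero, map_zero, ← LinearMap.comp_apply, ← LinearMap.lTensor_comp, hex.linearMap_comp_eq_zero,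
      LinearMap.lTensor_zero, LinearMap.zero_apply]))
  let Ψ : K ⊗[A] N →+ κ ⊗[C] N := TensorProduct.liftAddHom
    { toFun := fun k => ((TensorProduct.mk C κ N) (ρ k)).toAddMonoidHom
      map_zero' := by ext; simp
      map_add' := fun a b => by ext; simp [TensorProduct.add_tmul] }
    fun r k y => by
      show ρ (r • k) ⊗ₜ[C] y = ρ k ⊗ₜ[C] (r • y)
      rw [map_smul, ← algebraMap_smul C r y, ← TensorProduct.smul_tmul, algebraMap_smul]
  haveI : Subsingleton (κ ⊗[C] N) := subsingleton_of_forall_eq 0 fun z => by
    obtain ⟨y, rfl⟩ := TensorProduct.mk_surjective C N κ residue_surjective z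
    have h1 : Ψ ((1 : K) ⊗ₜ[A] y) = (1 : κ) ⊗ₜ[C] y := by
      show ρ 1 ⊗ₜ[C] y = _
      rw [map_one]
    show (1 : κ) ⊗ₜ[C] y = 0
    rw [← h1, Subsingleton.elim ((1 : K) ⊗ₜ[A] y) 0, map_zero]
  haveI : Subsingleton N := IsLocalRing.subsingleton_tensorProduct.1 (inferInstance : Subsingleton (κ ⊗[C] N))
  have hbot : N = ⊥ := Submodule.subsingleton_iff_eq_bot.1 inferInstance
  exact ⟨(LinearEquiv.ofBijective f ⟨LinearMap.ker_eq_bot.1 hbot, hf⟩).symm⟩

variable {A B' B : Type u} [CommRing A] [CommRing B'] [CommRing B] [IsNoetherianRing A] [IsNoetherianRing B]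
  [Algebra A B'] [Algebra B' B] [Algebra A B] [IsScalarTower A B' B] [Module.Flat A B]

theorem invertible_of_fibres (hf : QFDual.IsQFFactor A B' B)
    (h : ∀ (p : Ideal A) [p.IsPrime], Module.Invertible (p.ResidueField ⊗[A] B)
      ((p.ResidueField ⊗[A] B) ⊗[B] QFDual.omega A B' B)) :
    Module.Invertible B (QFDual.omega A B' B) := by
  haveI := QFApply.finite_omega hf
  haveI := QFApply.flat_omega hf
  refine QFApply.invertible_of_local fun q hq => ?_
  haveI := hq.isPrime
  let C := Localization.AtPrime q
  refine ⟨C, inferInstance, inferInstance, inferInstance, IsLocalization.flat C q.primeCompl,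
    Localization.AtPrime.under_maximalIdeal, ?_⟩
  haveI : IsNoetherianRing C := IsLocalization.isNoetherianRing q.primeCompl C inferInstance
  haveI : Module.Flat B C := IsLocalization.flat C q.primeCompl
  haveI : Module.Flat A (C ⊗[B] QFDual.omega A B' B) := flat_tensor
  let p := q.comap (algebraMap A B)
  let ι : p.ResidueField →+* ResidueField C := ResidueField.map (Localization.localRingHom p q (algebraMap A B) rfl)
  let ρ : p.ResidueField →ₐ[A] ResidueField C :=
    { toRingHom := ι
      commutes' := fun a => by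
        show ι (algebraMap A p.ResidueField a) = _
        rw [IsScalarTower.algebraMap_apply A (Localization.AtPrime p) p.ResidueField]
        show ι (residue _ _) = _
        rw [ResidueField.map_residue, Localization.localRingHom_to_map]
        rfl }
  let F := p.ResidueField ⊗[A] B
  let L := p.ResidueField ⊗[A] C
  letI : Algebra F L := (Algebra.TensorProduct.map (AlgHom.id A p.ResidueField) (IsScalarTower.toAlgHom A B C)).toRingHom.toAlgebra
  letI : Algebra B L := ((algebraMap C L).comp (algebraMap B C)).toAlgebra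
  haveI : IsScalarTower B C L := IsScalarTower.of_algebraMap_eq fun b => rfl
  haveI : IsScalarTower B F L := IsScalarTower.of_algebraMap_eq fun b => rfl
  haveI := h p
  haveI : Module.Invertible L (L ⊗[C] (C ⊗[B] QFDual.omega A B' B)) :=
    Module.Invertible.congr ((TensorProduct.AlgebraTensorModule.cancelBaseChange B F L L (QFDual.omega A B' B)).trans
      (TensorProduct.AlgebraTensorModule.cancelBaseChange B C L L (QFDual.omega A B' B)).symm)
  exact nonempty_equiv_of_fibre ρ inferInstance

end Groth.Agent.H05EGA4.QFFibre
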