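import Mathlib
import Groth.Agent.H05EGA4.CodepthLocal
import Groth.Agent.H8Props.MiracleFlat

/-!
# Depth and dimension near a prime on its closure (helper5)
-/

set_option autoImplicit false
set_option linter.style.haveILetI false
set_option linter.unusedSectionVars false
set_option maxHeartbeats 800000
universe u
open IsLocalRing Groth.Agent LocCoh TensorProduct Pointwise

namespace Groth.Agent.H05EGA4

variable {A : Type u} [CommRing A] [IsNoetherianRing A]

/-- Openness from stability under generalisation and neighbourhoods in closures of points. -/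
theorem isOpen_of_generization_of_nhds {U : Set (PrimeSpectrum A)}
    (hgen : ∀ p q : PrimeSpectrum A, q ≤ p → p ∈ U → q ∈ U)
    (h : ∀ p ∈ U, ∃ g ∉ p.asIdeal, ∀ r : PrimeSpectrum A, p ≤ r → g ∉ r.asIdeal → r ∈ U) : IsOpen U := by
  classical
  rw [← isClosed_compl_iff]
  set I := PrimeSpectrum.vanishingIdeal Uᶜ with hI
  suffices PrimeSpectrum.zeroLocus (I : Set A) ⊆ Uᶜ by
    rw [← this.antisymm (PrimeSpectrum.subset_zeroLocus_vanishingIdeal Uᶜ)]
    exact PrimeSpectrum.isClosed_zeroLocus _
  intro z hz hzU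
  obtain ⟨P, hP, hPz⟩ := Ideal.exists_minimalPrimes_le (I := I) (J := z.asIdeal) hz
  have hPp : P.IsPrime := hP.isPrime
  obtain ⟨g, hgP, hg⟩ := h _ (hgen z ⟨P, hPp⟩ hPz hzU)
  have hfin := I.finite_minimalPrimes_of_isNoetherianRing A
  let T := hfin.toFinset.erase P
  have hnot : ¬ T.inf id ≤ P := by
    intro hle
    obtain ⟨Q, hQ, hQP⟩ := (Ideal.IsPrime.inf_le' hPp).mp hle
    rw [Finset.mem_erase, Set.Finite.mem_toFinset] at hQ
    exact hQ.1 (le_antisymm hQP (hP.2 hQ.2.1 hQP))
  obtain ⟨w, hwT, hwP⟩ := SetLike.not_le_iff_exists.mp hnot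
  have hmem : g * w ∈ I := by
    rw [hI, PrimeSpectrum.mem_vanishingIdeal]
    intro y hy
    obtain ⟨P', hP', hP'y⟩ := Ideal.exists_minimalPrimes_le (I := I) (J := y.asIdeal)
      (PrimeSpectrum.subset_zeroLocus_vanishingIdeal Uᶜ hy)
    by_cases hPP : P' = P
    · subst hPP
      refine y.asIdeal.mul_mem_right _ ?_
      by_contra hgy
      exact hy (hg y hP'y hgy)
    · have : w ∈ P' :=
        Finset.inf_le (f := id) (Finset.mem_erase.mpr ⟨hPP, hfin.mem_toFinset.mpr hP'⟩) hwT
      exact y.asIdeal.mul_mem_left _ (hP'y this)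
  exact (hPp.mem_or_mem (hP.le hmem)).elim hgP hwP

/-- The dimension of `A_r/pA_r`. -/
noncomputable abbrev eDim (p r : Ideal A) [r.IsPrime] : WithBot ℕ∞ :=
  ringKrullDim (Localization.AtPrime r ⧸ p.map (algebraMap A (Localization.AtPrime r)))

theorem subsingleton_localized_of_smul {M : Type u} [AddCommGroup M] [Module A M] {r : Ideal A} [r.IsPrime] {g : A}
    (hg : g ∉ r) (h : ∀ m : M, g • m = 0) : Subsingleton (LocalizedModule r.primeCompl M) :=
  LocalizedModule.subsingleton_iff.mpr fun m => ⟨g, hg, h m⟩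

theorem dpAt_eq_top_of_subsingleton {M : Type u} [AddCommGroup M] [Module A M] {r : Ideal A} [r.IsPrime]
    [Subsingleton (LocalizedModule r.primeCompl M)] : dpAt r M = ((⊤ : ℕ∞) : WithBot ℕ∞) := by
  rw [dpAt, depth, H4Depth.idealDepth_eq_top (Subsingleton.elim _ _)]

theorem le_coe_top {a : WithBot ℕ∞} : a ≤ ((⊤ : ℕ∞) : WithBot ℕ∞) := le_top

theorem min_le_dpAt_mid {N₁ N₂ N₃ : Type u} [AddCommGroup N₁] [Module A N₁] [Module.Finite A N₁] [AddCommGroup N₂]
    [Module A N₂] [Module.Finite A N₂] [AddCommGroup N₃] [Module A N₃] [Module.Finite A N₃]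
    (f : N₁ →ₗ[A] N₂) (g : N₂ →ₗ[A] N₃) (hf : Function.Injective f) (hg : Function.Surjective g)
    (hfg : Function.Exact f g) (r : Ideal A) [r.IsPrime] : min (dpAt r N₁) (dpAt r N₃) ≤ dpAt r N₂ := by
  haveI := module_finite_localizedModule r N₁
  haveI := module_finite_localizedModule r N₂
  haveI := module_finite_localizedModule r N₃
  haveI : IsNoetherianRing (Localization.AtPrime r) := IsLocalization.isNoetherianRing r.primeCompl _ inferInstance
  have h := H4Depth.min_le_idealDepth_mid (maximalIdeal (Localization.AtPrime r))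
    (LocalizedModule.map_injective r.primeCompl f hf) (LocalizedModule.map_surjective r.primeCompl g hg)
    (LocalizedModule.map_exact r.primeCompl f g hfg)
  rcases min_le_iff.mp h with h' | h'
  · exact (min_le_left _ _).trans (WithBot.coe_le_coe.mpr h')
  · exact (min_le_right _ _).trans (WithBot.coe_le_coe.mpr h')

theorem depth_le_of_linearEquiv {M M' : Type u} [AddCommGroup M] [Module A M] [AddCommGroup M'] [Module A M']
    [Module.Finite A M] (r : Ideal A) [r.IsPrime] (e : M ≃ₗ[A] M') : dpAt r M = dpAt r M' ∧ sdAt r M = sdAt r M' := by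
  let l : LocalizedModule r.primeCompl M ≃ₗ[Localization.AtPrime r] LocalizedModule r.primeCompl M' :=
    LinearEquiv.ofBijective (LocalizedModule.map r.primeCompl e.toLinearMap)
      ⟨LocalizedModule.map_injective r.primeCompl _ e.injective, LocalizedModule.map_surjective r.primeCompl _ e.surjective⟩
  exact ⟨by rw [dpAt, dpAt, H4Depth.depth_congr l], Module.supportDim_eq_of_equiv l⟩

/-- The exact sequence of `x` on a localised module. -/
theorem exists_quot_equiv {M : Type u} [AddCommGroup M] [Module A M] (x : A) (r : Ideal A) [r.IsPrime] :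
    Nonempty (QuotSMulTop (algebraMap A (Localization.AtPrime r) x) (LocalizedModule r.primeCompl M)
      ≃ₗ[Localization.AtPrime r] LocalizedModule r.primeCompl (QuotSMulTop x M)) := by
  let R := Localization.AtPrime r
  let f : M →ₗ[A] M := x • LinearMap.id
  let g : M →ₗ[A] QuotSMulTop x M := (x • (⊤ : Submodule A M)).mkQ
  have hfg : Function.Exact f g := by
    rw [LinearMap.exact_iff, Submodule.ker_mkQ]
    ext m
    simp [f, Submodule.mem_smul_pointwise_iff_exists, eq_comm]
  have hex := LocalizedModule.map_exact r.primeCompl f g hfg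
  have hsur := LocalizedModule.map_surjective r.primeCompl g (Submodule.mkQ_surjective _)
  have hk : algebraMap A R x • (⊤ : Submodule R (LocalizedModule r.primeCompl M)) =
      LinearMap.ker (LocalizedModule.map r.primeCompl g) := by
    ext m
    have hm : LocalizedModule.map r.primeCompl g m = 0 ↔ ∃ y, LocalizedModule.map r.primeCompl f y = m := hex m
    rw [LinearMap.mem_ker, hm]
    simp only [Submodule.mem_smul_pointwise_iff_exists, Submodule.mem_top, true_and]
    have hf : ∀ y, LocalizedModule.map r.primeCompl f y = algebraMap A R x • y := by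
      intro y
      induction y using LocalizedModule.induction_on with
      | _ a s =>
        rw [LocalizedModule.map_mk, algebraMap_smul]
        simp [f, LocalizedModule.smul'_mk]
    exact ⟨fun ⟨y, hy⟩ => ⟨y, (hf y).trans hy⟩, fun ⟨y, hy⟩ => ⟨y, (hf y).symm.trans hy⟩⟩
  exact ⟨(Submodule.quotEquivOfEq _ _ hk).trans (LinearMap.quotKerEquivOfSurjective _ hsur)⟩

theorem dpAt_quotSMulTop_add_one {M : Type u} [AddCommGroup M] [Module A M] [Module.Finite A M] {x : A} {r : Ideal A}
    [r.IsPrime] (hx : x ∈ r) (hreg : IsSMulRegular (LocalizedModule r.primeCompl M) x) :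
    dpAt r (QuotSMulTop x M) + 1 = dpAt r M := by
  haveI := module_finite_localizedModule r M
  haveI : IsNoetherianRing (Localization.AtPrime r) := IsLocalization.isNoetherianRing r.primeCompl _ inferInstance
  obtain ⟨l⟩ := exists_quot_equiv (M := M) x r
  have hreg' : IsSMulRegular (LocalizedModule r.primeCompl M) (algebraMap A (Localization.AtPrime r) x) :=
    fun a b hab => hreg (by simpa only [algebraMap_smul] using hab)
  have hmem : algebraMap A (Localization.AtPrime r) x ∈ maximalIdeal (Localization.AtPrime r) :=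
    (IsLocalization.AtPrime.to_map_mem_maximal_iff _ r x).mpr hx
  have h := H4Depth.idealDepth_quotSMulTop_add_one (M := LocalizedModule r.primeCompl M) hmem hreg'
  rw [dpAt, depth, ← H4Depth.idealDepth_congr _ l, dpAt, depth, ← h, WithBot.coe_add, WithBot.coe_one]

/-- The localisation of `A/p` at a prime containing `p`. -/
theorem dpAt_quotient_prime_eq (p r : Ideal A) [p.IsPrime] [r.IsPrime] (hpr : p ≤ r) :
    ∃ (r' : Ideal (A ⧸ p)) (_ : r'.IsPrime), r'.comap (Ideal.Quotient.mk p) = r ∧
      dpAt r (A ⧸ p) = ((depth (Localization.AtPrime r') (Localization.AtPrime r') : ℕ∞) : WithBot ℕ∞) ∧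
      eDim p r = ringKrullDim (Localization.AtPrime r') := by
  let r' := r.map (Ideal.Quotient.mk p)
  haveI : r'.IsPrime := Ideal.map_isPrime_of_surjective Ideal.Quotient.mk_surjective (by rwa [Ideal.mk_ker])
  have hr' : r'.comap (Ideal.Quotient.mk p) = r := by
    rw [Ideal.comap_map_of_surjective' _ Ideal.Quotient.mk_surjective, Ideal.mk_ker, sup_eq_left.mpr hpr]
  refine ⟨r', inferInstance, hr', ?_⟩
  let R := Localization.AtPrime r
  let T := R ⧸ p.map (algebraMap A R)
  have hne : p.map (algebraMap A R) ≠ ⊤ := fun h => (maximalIdeal.isMaximal R).ne_top (top_le_iff.mp (h ▸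
    Ideal.map_le_iff_le_comap.mpr (hpr.trans (IsLocalization.AtPrime.under_maximalIdeal R r).ge)))
  haveI : Nontrivial T := Ideal.Quotient.nontrivial_iff.mpr hne
  haveI : IsLocalRing T := .of_surjective' _ Ideal.Quotient.mk_surjective
  haveI hlocT : IsLocalization.AtPrime T r' := by
    have h : Algebra.algebraMapSubmonoid (A ⧸ p) r.primeCompl = r'.primeCompl := by
      ext z
      obtain ⟨z, rfl⟩ := Ideal.Quotient.mk_surjective z
      constructor
      · rintro ⟨y, hy, hyz⟩ hz
        rw [← hyz] at hz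
        exact hy (hr'.le hz)
      · exact fun hz => ⟨z, fun hzr => hz (Ideal.mem_map_of_mem _ hzr), rfl⟩
    rw [IsLocalization.AtPrime, ← h]
    infer_instance
  let e := IsLocalization.algEquiv r'.primeCompl (Localization.AtPrime r') T
  have hf : IsBaseChange R ((IsScalarTower.toAlgHom A (A ⧸ p) T).toLinearMap) := by
    refine IsBaseChange.of_equiv (Algebra.TensorProduct.quotIdealMapEquivTensorQuot R p).symm.toLinearEquiv fun z => ?_
    obtain ⟨z, rfl⟩ := Ideal.Quotient.mk_surjective z
    show (Algebra.TensorProduct.quotIdealMapEquivTensorQuot R p).symm ((1 : R) ⊗ₜ[A] Ideal.Quotient.mk p z) = _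
    rw [Algebra.TensorProduct.quotIdealMapEquivTensorQuot_symm_tmul, ← Algebra.algebraMap_eq_smul_one]
    rfl
  have h1 := (dpAt_sdAt_of_isBaseChange r R _ hf).1
  refine ⟨?_, (ringKrullDim_eq_of_ringEquiv e.toRingEquiv).symm⟩
  rw [← h1, ← H8Props.FlatDepth.depth_eq_of_surjective (R := R) (S := T) Ideal.Quotient.mk_surjective]
  letI : Algebra (Localization.AtPrime r') T := e.toRingEquiv.toRingHom.toAlgebra
  rw [H8Props.FlatDepth.depth_eq_of_surjective (R := Localization.AtPrime r') (S := T) (M := T) e.surjective,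
    ← H4Depth.depth_congr (M := Localization.AtPrime r') (M' := T)
      (LinearEquiv.ofBijective (Algebra.linearMap _ T) e.bijective)]

/-- The localisation of `A/p` at a prime containing `p`. -/
theorem dpAt_quotient_prime (p r : Ideal A) [p.IsPrime] [r.IsPrime] (hpr : p ≤ r)
    (hCM : ∀ (r' : Ideal (A ⧸ p)) [r'.IsPrime], r'.comap (Ideal.Quotient.mk p) = r →
      IsCohenMacaulayLocalRing (Localization.AtPrime r')) : eDim p r ≤ dpAt r (A ⧸ p) := by
  obtain ⟨r', _, hr', hd, he⟩ := dpAt_quotient_prime_eq p r hpr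
  rw [hd, he]
  exact (hCM r' hr').supportDim_eq_depth.le.trans' (Module.supportDim_self_eq_ringKrullDim (R := Localization.AtPrime r')).ge

theorem exists_mul_notMem {p : Ideal A} [p.IsPrime] {g g' : A} (hg : g ∉ p) (hg' : g' ∉ p) : g * g' ∉ p :=
  fun h => (Ideal.IsPrime.mem_or_mem inferInstance h).elim hg hg'

/-- Generic depth bound along the closure of a point. -/
theorem exists_nhd_le_dpAt (p : Ideal A) [p.IsPrime] (β : PrimeSpectrum A → WithBot ℕ∞)
    (hbase : ∃ g ∉ p, ∀ (r : Ideal A) [r.IsPrime], p ≤ r → g ∉ r → β ⟨r, inferInstance⟩ ≤ dpAt r (A ⧸ p))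
    (N : Type u) [AddCommGroup N] [Module A N] [hN : Module.Finite A N] :
    ∃ g ∉ p, ∀ (r : Ideal A) [r.IsPrime], p ≤ r → g ∉ r → β ⟨r, inferInstance⟩ ≤ dpAt r N := by
  suffices H : ∀ (J : Ideal A) (N : Type u) [AddCommGroup N] [Module A N] [Module.Finite A N],
      (∀ j ∈ J, ∀ n : N, j • n = 0) → ∃ g ∉ p, ∀ (r : Ideal A) [r.IsPrime], p ≤ r → g ∉ r → β ⟨r, inferInstance⟩ ≤ dpAt r N from
    H ⊥ N fun j hj n => by rw [(Submodule.mem_bot A).mp hj, zero_smul]
  intro J
  induction J using WellFoundedGT.induction with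
  | _ J ih =>
    intro N _ _ hNfin
    refine IsNoetherianRing.induction_on_isQuotientEquivQuotientPrime A (M := N) hNfin
      (motive := fun N _ _ _ => (∀ j ∈ J, ∀ n : N, j • n = 0) →
        ∃ g ∉ p, ∀ (r : Ideal A) [r.IsPrime], p ≤ r → g ∉ r → β ⟨r, inferInstance⟩ ≤ dpAt r N) ?_ ?_ ?_
    · intro N _ _ _ _ _
      refine ⟨1, fun h => Ideal.IsPrime.ne_top inferInstance ((Ideal.eq_top_iff_one p).mpr h), fun r _ _ _ => ?_⟩
      haveI : Subsingleton (LocalizedModule r.primeCompl N) := subsingleton_localized_of_smul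
        (g := 1) (fun h => Ideal.IsPrime.ne_top inferInstance ((Ideal.eq_top_iff_one r).mpr h))
        fun m => Subsingleton.elim _ _
      rw [dpAt_eq_top_of_subsingleton]
      exact le_coe_top
    · intro N _ _ _ Q e hann
      have hJQ : J ≤ Q.1 := fun j hj => by
        have h := hann j hj (e.symm (Ideal.Quotient.mk Q.1 1))
        have h' := congrArg e h
        rw [map_smul, e.apply_symm_apply, map_zero] at h'
        rw [← Ideal.Quotient.eq_zero_iff_mem, ← h', ← Ideal.Quotient.algebraMap_eq, Algebra.smul_def, map_one, mul_one]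
      suffices ∃ g ∉ p, ∀ (r : Ideal A) [r.IsPrime], p ≤ r → g ∉ r → β ⟨r, inferInstance⟩ ≤ dpAt r (A ⧸ Q.1) by
        obtain ⟨g, hg, h⟩ := this
        exact ⟨g, hg, fun r _ hpr hgr => (depth_le_of_linearEquiv r e).1 ▸ h r hpr hgr⟩
      by_cases hQp : Q.1 ≤ p
      swap
      · obtain ⟨g, hgQ, hg⟩ := SetLike.not_le_iff_exists.mp hQp
        refine ⟨g, hg, fun r _ _ hgr => ?_⟩
        haveI : Subsingleton (LocalizedModule r.primeCompl (A ⧸ Q.1)) := subsingleton_localized_of_smul hgr fun m => by
          obtain ⟨m, rfl⟩ := Ideal.Quotient.mk_surjective m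
          rw [Algebra.smul_def, Ideal.Quotient.algebraMap_eq, Ideal.Quotient.eq_zero_iff_mem.mpr hgQ, zero_mul]
        rw [dpAt_eq_top_of_subsingleton]
        exact le_coe_top
      by_cases hQeq : Q.1 = p
      · obtain ⟨g, hg, h⟩ := hbase
        refine ⟨g, hg, fun r _ hpr hgr => ?_⟩
        have hb := h r hpr hgr
        exact (depth_le_of_linearEquiv r (Submodule.quotEquivOfEq p Q.1 hQeq.symm)).1 ▸ hb
      · obtain ⟨y, hyp, hyQ⟩ := SetLike.not_le_iff_exists.mp fun h => hQeq (le_antisymm hQp h)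
        have hlt : J < J ⊔ Ideal.span {y} := lt_of_le_of_ne le_sup_left fun h => hyQ (hJQ (h ▸ Ideal.mem_sup_right (Ideal.mem_span_singleton_self y)))
        obtain ⟨g, hg, hb⟩ := ih _ hlt (QuotSMulTop y (A ⧸ Q.1)) (fun j hj n => by
          obtain ⟨n, rfl⟩ := Submodule.mkQ_surjective _ n
          obtain ⟨a, ha, b, hb', rfl⟩ := Submodule.mem_sup.mp hj
          obtain ⟨c, rfl⟩ := Ideal.mem_span_singleton'.mp hb'
          rw [← map_smul, Submodule.mkQ_apply, Submodule.Quotient.mk_eq_zero, add_smul, mul_comm, mul_smul]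
          refine add_mem ?_ (Submodule.smul_mem_pointwise_smul _ y _ trivial)
          obtain ⟨n, rfl⟩ := Ideal.Quotient.mk_surjective n
          rw [Algebra.smul_def, Ideal.Quotient.algebraMap_eq, Ideal.Quotient.eq_zero_iff_mem.mpr (hJQ ha), zero_mul]
          exact zero_mem _)
        refine ⟨g, hg, fun r _ hpr hgr => (hb r hpr hgr).trans ?_⟩
        have hreg : IsSMulRegular (LocalizedModule r.primeCompl (A ⧸ Q.1)) y := by
          have hy0 : IsSMulRegular (A ⧸ Q.1) y := fun a b hab => by
            simp only [Algebra.smul_def, Ideal.Quotient.algebraMap_eq] at hab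
            exact mul_left_cancel₀ (fun h0 => hyQ (Ideal.Quotient.eq_zero_iff_mem.mp h0)) hab
          intro a b hab
          refine LocalizedModule.map_injective r.primeCompl (y • LinearMap.id : A ⧸ Q.1 →ₗ[A] A ⧸ Q.1)
            (fun a b h => hy0 (show y • a = y • b from h)) ?_
          have hm : ∀ z, LocalizedModule.map r.primeCompl (y • LinearMap.id : A ⧸ Q.1 →ₗ[A] A ⧸ Q.1) z = y • z := by
            intro z
            induction z using LocalizedModule.induction_on with
            | _ c s => rw [LocalizedModule.map_mk]; simp [LocalizedModule.smul'_mk]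
          rw [hm, hm]; exact hab
        rw [← dpAt_quotSMulTop_add_one (hpr hyp) hreg]
        exact le_add_of_nonneg_right zero_le_one
    · intro N₁ _ _ _ N₂ _ _ _ N₃ _ _ _ f g hf hg hfg h1 h3 hann
      obtain ⟨a, ha, h1⟩ := h1 fun j hj n => hf (by rw [map_smul, map_zero, hann j hj])
      obtain ⟨b, hb, h3⟩ := h3 fun j hj n => by
        obtain ⟨n, rfl⟩ := hg n
        rw [← map_smul, hann j hj, map_zero]
      refine ⟨a * b, exists_mul_notMem ha hb, fun r _ hpr hr => ?_⟩
      exact (le_min (h1 r hpr fun h => hr (r.mul_mem_right _ h)) (h3 r hpr fun h => hr (r.mul_mem_left _ h))).trans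
        (min_le_dpAt_mid f g hf hg hfg r)

/-- Depth along the closure of a point. -/
theorem exists_nhd_add_le_dpAt (p : Ideal A) [p.IsPrime] (β : PrimeSpectrum A → WithBot ℕ∞)
    (hbase : ∃ g ∉ p, ∀ (r : Ideal A) [r.IsPrime], p ≤ r → g ∉ r → β ⟨r, inferInstance⟩ ≤ dpAt r (A ⧸ p)) (d : ℕ) :
    ∀ (M : Type u) [AddCommGroup M] [Module A M] [Module.Finite A M], (d : WithBot ℕ∞) ≤ dpAt p M →
      ∃ g ∉ p, ∀ (r : Ideal A) [r.IsPrime], p ≤ r → g ∉ r → (d : WithBot ℕ∞) + β ⟨r, inferInstance⟩ ≤ dpAt r M := by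
  induction d with
  | zero =>
    intro M _ _ _ _
    obtain ⟨g, hg, h⟩ := exists_nhd_le_dpAt p β hbase M
    exact ⟨g, hg, fun r _ a b => by simpa using h r a b⟩
  | succ d ih =>
    intro M _ _ _ hd
    let R := Localization.AtPrime p
    let N := LocalizedModule p.primeCompl M
    haveI := module_finite_localizedModule p M
    haveI : IsNoetherianRing R := IsLocalization.isNoetherianRing p.primeCompl _ inferInstance
    rcases subsingleton_or_nontrivial N with hN | hN
    · obtain ⟨g, hg, hgM⟩ : ∃ g ∉ p, ∀ m : M, g • m = 0 := by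
        have h : (⟨p, inferInstance⟩ : PrimeSpectrum A) ∉ Module.support A M := Module.notMem_support_iff.mpr hN
        rw [Module.support_eq_zeroLocus, PrimeSpectrum.mem_zeroLocus, Set.not_subset] at h
        obtain ⟨g, hg, hgp⟩ := h
        exact ⟨g, hgp, Module.mem_annihilator.mp hg⟩
      refine ⟨g, hg, fun r _ _ hgr => ?_⟩
      haveI := subsingleton_localized_of_smul hgr hgM
      rw [dpAt_eq_top_of_subsingleton]
      exact le_coe_top
    have h1 : (1 : ℕ∞) ≤ depth R N := WithBot.coe_le_coe.mp (le_trans (by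
      rw [WithBot.coe_one]; exact_mod_cast Nat.le_add_left 1 d) hd)
    obtain ⟨y, hy, hyreg⟩ := (H4Depth.one_le_idealDepth_iff H4Depth.maximalIdeal_smul_top_ne_top).mp h1
    obtain ⟨⟨x, s⟩, hxs⟩ := IsLocalization.surj p.primeCompl y
    have hxreg : IsSMulRegular N x := fun a b hab => by
      refine hyreg ((IsLocalization.map_units R s).smul_left_cancel.mp ?_)
      rw [smul_smul, smul_smul, mul_comm, hxs, algebraMap_smul, algebraMap_smul]
      exact hab
    have hxp : x ∈ p := by
      rw [← IsLocalization.AtPrime.to_map_mem_maximal_iff R p x, ← hxs]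
      exact Ideal.mul_mem_right _ _ hy
    let K := LinearMap.ker (x • LinearMap.id : M →ₗ[A] M)
    obtain ⟨g0, hg0, hg0K⟩ : ∃ g0 ∉ p, ∀ m : K, g0 • m = 0 := by
      have hK : Subsingleton (LocalizedModule p.primeCompl K) := by
        refine LocalizedModule.subsingleton_iff.mpr fun m => ?_
        have h0 : (LocalizedModule.mk (m : M) 1 : N) = 0 := hxreg (by
          show x • (LocalizedModule.mk (m : M) 1 : N) = x • 0
          rw [smul_zero, LocalizedModule.smul'_mk, show x • (m : M) = 0 from m.2, LocalizedModule.zero_mk])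
        obtain ⟨u, hu, hum⟩ := LocalizedModule.mem_ker_mkLinearMap_iff.mp (LinearMap.mem_ker.mpr h0)
        exact ⟨u, hu, Subtype.ext hum⟩
      have h : (⟨p, inferInstance⟩ : PrimeSpectrum A) ∉ Module.support A K := Module.notMem_support_iff.mpr hK
      rw [Module.support_eq_zeroLocus, PrimeSpectrum.mem_zeroLocus, Set.not_subset] at h
      obtain ⟨g, hg, hgp⟩ := h
      exact ⟨g, hgp, Module.mem_annihilator.mp hg⟩
    have hq : (d : WithBot ℕ∞) ≤ dpAt p (QuotSMulTop x M) := by
      refine le_of_add_natCast_le 1 ?_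
      rw [show ((1 : ℕ) : WithBot ℕ∞) = 1 from Nat.cast_one, dpAt_quotSMulTop_add_one hxp hxreg]
      exact_mod_cast hd
    obtain ⟨g1, hg1, h1'⟩ := ih (QuotSMulTop x M) hq
    refine ⟨g0 * g1, exists_mul_notMem hg0 hg1, fun r _ hpr hr => ?_⟩
    have hgr : g0 ∉ r := fun h => hr (r.mul_mem_right _ h)
    have hreg : IsSMulRegular (LocalizedModule r.primeCompl M) x := by
      refine IsSMulRegular.of_right_eq_zero_of_smul fun z hz => ?_
      induction z using LocalizedModule.induction_on with
      | _ m t =>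
        rw [LocalizedModule.smul'_mk, ← LocalizedModule.zero_mk (1 : r.primeCompl), LocalizedModule.mk_eq] at hz
        obtain ⟨u, hu⟩ := hz
        simp only [one_smul, smul_zero] at hu
        rw [← LocalizedModule.zero_mk (1 : r.primeCompl), LocalizedModule.mk_eq]
        refine ⟨⟨g0, hgr⟩ * u, ?_⟩
        have hk : (u : A) • m ∈ K := by
          show x • ((u : A) • m) = 0
          rw [smul_comm]; exact hu
        simp only [one_smul, smul_zero]
        have := congrArg Subtype.val (hg0K ⟨_, hk⟩)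
        rw [Submonoid.smul_def, Submonoid.coe_mul, mul_smul]
        exact this
    rw [← dpAt_quotSMulTop_add_one (hpr hxp) hreg, Nat.cast_succ, add_right_comm]
    exact add_le_add (h1' r hpr fun h => hr (r.mul_mem_left _ h)) le_rfl

theorem exists_base_of_CM (p : Ideal A) [p.IsPrime]
    (hCMU : ∃ g ∉ p, ∀ (r' : Ideal (A ⧸ p)) [r'.IsPrime], Ideal.Quotient.mk p g ∉ r' →
      IsCohenMacaulayLocalRing (Localization.AtPrime r')) :
    ∃ g ∉ p, ∀ (r : Ideal A) [r.IsPrime], p ≤ r → g ∉ r → eDim p r ≤ dpAt r (A ⧸ p) := by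
  obtain ⟨g, hg, h⟩ := hCMU
  exact ⟨g, hg, fun r _ hpr hgr => dpAt_quotient_prime p r hpr fun r' _ hr' => h r' fun hm => hgr (hr'.le hm)⟩

/-- Depth along the closure of a point when `A/p` is generically Cohen–Macaulay. -/
theorem exists_nhd_depth_add_le (p : Ideal A) [p.IsPrime]
    (hCMU : ∃ g ∉ p, ∀ (r' : Ideal (A ⧸ p)) [r'.IsPrime], Ideal.Quotient.mk p g ∉ r' →
      IsCohenMacaulayLocalRing (Localization.AtPrime r')) (d : ℕ)
    (M : Type u) [AddCommGroup M] [Module A M] [Module.Finite A M] (hd : (d : WithBot ℕ∞) ≤ dpAt p M) :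
    ∃ g ∉ p, ∀ (r : Ideal A) [r.IsPrime], p ≤ r → g ∉ r → (d : WithBot ℕ∞) + eDim p r ≤ dpAt r M :=
  exists_nhd_add_le_dpAt p (fun r => eDim p r.asIdeal) (exists_base_of_CM p hCMU) d M hd

end Groth.Agent.H05EGA4
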