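import Mathlib
import Groth.Agent.H05EGA4.CodepthNhds
import Groth.Agent.H8Props.MiracleFlat

/-!
# Openness of the codepth and Serre loci (helper5)
-/

set_option autoImplicit false
set_option linter.style.haveILetI false
set_option linter.unusedSectionVars false
set_option maxHeartbeats 800000
universe u
open IsLocalRing Groth.Agent LocCoh TensorProduct

namespace Groth.Agent.H05EGA4

variable {A : Type u} [CommRing A] [IsNoetherianRing A]

theorem mem_support_localized_iff {M : Type u} [AddCommGroup M] [Module A M] (p : Ideal A) [p.IsPrime]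
    (Q : PrimeSpectrum (Localization.AtPrime p)) :
    Q ∈ Module.support (Localization.AtPrime p) (LocalizedModule p.primeCompl M) ↔
      PrimeSpectrum.comap (algebraMap A (Localization.AtPrime p)) Q ∈ Module.support A M :=
  H4Depth.mem_support_localizedModule_iff p.primeCompl _ (LocalizedModule.mkLinearMap _ M) Q

/-- Dimension along the closure of a point. -/
theorem exists_nhd_sdAt_le (p : Ideal A) [p.IsPrime] (M : Type u) [AddCommGroup M] [Module A M] [Module.Finite A M]
    (hp : (⟨p, inferInstance⟩ : PrimeSpectrum A) ∈ Module.support A M) :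
    ∃ g ∉ p, ∀ (r : Ideal A) [r.IsPrime], p ≤ r → g ∉ r → sdAt r M ≤ sdAt p M + eDim p r := by
  classical
  let I := Module.annihilator A M
  have hIp : I ≤ p := by
    rw [Module.support_eq_zeroLocus] at hp; exact hp
  let B := A ⧸ I
  let pB := p.map (Ideal.Quotient.mk I)
  haveI : pB.IsPrime := Ideal.map_isPrime_of_surjective Ideal.Quotient.mk_surjective (by rwa [Ideal.mk_ker])
  have hpB : pB.comap (Ideal.Quotient.mk I) = p := by
    rw [Ideal.comap_map_of_surjective' _ Ideal.Quotient.mk_surjective, Ideal.mk_ker, sup_eq_left.mpr hIp]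
  obtain ⟨s, hs, hcard⟩ := Ideal.exists_finset_card_eq_height_of_isNoetherianRing pB
  have hheight : ((pB.height : ℕ∞) : WithBot ℕ∞) ≤ sdAt p M := by
    rw [show pB.height = Order.height (⟨pB, inferInstance⟩ : PrimeSpectrum B) from PrimeSpectrum.height_eq_orderHeight ⟨pB, inferInstance⟩, Order.height_eq_krullDim_Iic, sdAt, Module.supportDim]
    have hle : ∀ Q : Set.Iic (⟨pB, inferInstance⟩ : PrimeSpectrum B),
        PrimeSpectrum.comap (Ideal.Quotient.mk I) Q.1 ≤ (⟨p, inferInstance⟩ : PrimeSpectrum A) := fun Q =>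
      (Ideal.comap_mono Q.2).trans hpB.le
    let F : Set.Iic (⟨pB, inferInstance⟩ : PrimeSpectrum B) → PrimeSpectrum (Localization.AtPrime p) := fun Q =>
      (IsLocalization.AtPrime.primeSpectrumOrderIso (Localization.AtPrime p) p).symm ⟨_, hle Q⟩
    have hF : ∀ Q, PrimeSpectrum.comap (algebraMap A (Localization.AtPrime p)) (F Q) =
        PrimeSpectrum.comap (Ideal.Quotient.mk I) Q.1 := fun Q =>
      congrArg Subtype.val ((IsLocalization.AtPrime.primeSpectrumOrderIso (Localization.AtPrime p) p).apply_symm_apply ⟨_, hle Q⟩)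
    refine Order.krullDim_le_of_strictMono (fun Q => (⟨F Q, ?_⟩ : Module.support (Localization.AtPrime p) (LocalizedModule p.primeCompl M))) fun Q Q' h => ?_
    · rw [mem_support_localized_iff, hF, Module.support_eq_zeroLocus, PrimeSpectrum.mem_zeroLocus]
      intro a ha
      show Ideal.Quotient.mk I a ∈ Q.1.asIdeal
      rw [Ideal.Quotient.eq_zero_iff_mem.mpr ha]
      exact zero_mem _
    · refine (IsLocalization.AtPrime.primeSpectrumOrderIso (Localization.AtPrime p) p).symm.strictMono ?_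
      exact lt_of_le_of_ne (Ideal.comap_mono h.le) fun heq => h.ne (Subtype.ext (PrimeSpectrum.ext
        (Ideal.comap_injective_of_surjective _ Ideal.Quotient.mk_surjective
          (congrArg (fun z => z.1.asIdeal) heq))))
  let J : Ideal A := (Ideal.span (s : Set B)).comap (Ideal.Quotient.mk I)
  have hJp : p ∈ J.minimalPrimes := by
    rw [Ideal.comap_minimalPrimes_eq_of_surjective Ideal.Quotient.mk_surjective]
    exact ⟨pB, hs, hpB⟩
  let rs : List A := s.toList.map fun b => (Ideal.Quotient.mk_surjective b).choose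
  have hrs : ∀ b ∈ s, ∃ a ∈ rs, Ideal.Quotient.mk I a = b := fun b hb =>
    ⟨_, List.mem_map.mpr ⟨b, Finset.mem_toList.mpr hb, rfl⟩, (Ideal.Quotient.mk_surjective b).choose_spec⟩
  have hJ : J ≤ Ideal.ofList rs ⊔ I := by
    intro a ha
    have h1 : Ideal.span (s : Set B) ≤ (Ideal.ofList rs).map (Ideal.Quotient.mk I) := Ideal.span_le.mpr fun b hb => by
      obtain ⟨a, ha, rfl⟩ := hrs b hb
      exact Ideal.mem_map_of_mem _ (Ideal.subset_span ha)
    have h2 : a ∈ ((Ideal.ofList rs).map (Ideal.Quotient.mk I)).comap (Ideal.Quotient.mk I) := h1 ha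
    rwa [Ideal.comap_map_of_surjective' _ Ideal.Quotient.mk_surjective, Ideal.mk_ker] at h2
  have hrsp : ∀ a ∈ rs, a ∈ p := by
    intro a ha
    obtain ⟨b, hb, rfl⟩ := List.mem_map.mp ha
    rw [← hpB, Ideal.mem_comap, (Ideal.Quotient.mk_surjective b).choose_spec]
    exact hs.1.2 (Ideal.subset_span (Finset.mem_toList.mp hb))
  obtain ⟨g, hgT, hgp⟩ : ∃ g ∈ (J.finite_minimalPrimes_of_isNoetherianRing A).toFinset.erase p |>.inf id, g ∉ p := by
    refine SetLike.not_le_iff_exists.mp fun hle => ?_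
    obtain ⟨Q, hQ, hQP⟩ := (Ideal.IsPrime.inf_le' inferInstance).mp hle
    rw [Finset.mem_erase, Set.Finite.mem_toFinset] at hQ
    exact hQ.1 (le_antisymm hQP (hJp.2 hQ.2.1 hQP))
  refine ⟨g, hgp, fun r _ hpr hgr => ?_⟩
  let R := Localization.AtPrime r
  let N := LocalizedModule r.primeCompl M
  haveI := module_finite_localizedModule r M
  haveI : IsNoetherianRing R := IsLocalization.isNoetherianRing r.primeCompl _ inferInstance
  let rs' : List R := rs.map (algebraMap A R)
  have h1 := H8Props.MiracleFlat.supportDim_le_add_length (R := R) rs' N fun x hx => by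
    obtain ⟨a, ha, rfl⟩ := List.mem_map.mp hx
    exact (IsLocalization.AtPrime.to_map_mem_maximal_iff R r a).mpr (hpr (hrsp a ha))
  have h2 : Module.supportDim R (N ⧸ Ideal.ofList rs' • (⊤ : Submodule R N)) ≤ eDim p r := by
    rw [Module.supportDim, eDim, ringKrullDim_quotient]
    refine Order.krullDim_le_of_strictMono (fun Q => (⟨Q.1, ?_⟩ : PrimeSpectrum.zeroLocus
      ((p.map (algebraMap A R) : Ideal R) : Set R))) fun _ _ h => h
    have hQ : Q.1 ∈ Module.support R N ∩ PrimeSpectrum.zeroLocus (Ideal.ofList rs' : Set R) := by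
      rw [← H4Depth.support_quotient_smul_top]; exact Q.2
    obtain ⟨hQ1, hQ2⟩ := hQ
    rw [mem_support_localized_iff, Module.support_eq_zeroLocus] at hQ1
    let q := PrimeSpectrum.comap (algebraMap A R) Q.1
    have hJq : Ideal.ofList rs ⊔ I ≤ q.asIdeal := sup_le (Ideal.span_le.mpr fun a ha => hQ2
      (Ideal.subset_span (List.mem_map_of_mem (f := algebraMap A R) ha))) hQ1
    obtain ⟨P, hP, hPq⟩ := Ideal.exists_minimalPrimes_le (hJ.trans hJq)
    by_cases hPp : P = p
    · exact Ideal.map_le_iff_le_comap.mpr (hPp ▸ hPq)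
    · refine absurd ?_ hgr
      have : q.asIdeal ≤ r := by
        rw [← IsLocalization.AtPrime.under_maximalIdeal R r]
        exact Ideal.comap_mono (le_maximalIdeal Q.1.2.ne_top)
      exact this (hPq (Finset.inf_le (f := id) (Finset.mem_erase.mpr
        ⟨hPp, (J.finite_minimalPrimes_of_isNoetherianRing A).mem_toFinset.mpr hP⟩) hgT))
  have h3 : (rs'.length : WithBot ℕ∞) ≤ sdAt p M := by
    refine le_trans ?_ hheight
    rw [List.length_map, List.length_map, Finset.length_toList, ← hcard]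
    exact le_rfl
  calc sdAt r M ≤ _ + (rs'.length : WithBot ℕ∞) := h1
    _ ≤ eDim p r + sdAt p M := add_le_add h2 h3
    _ = _ := add_comm _ _

theorem exists_of_CMU (p : Ideal A) [p.IsPrime]
    (h : ∃ U : Set (PrimeSpectrum (A ⧸ p)), IsOpen U ∧ U.Nonempty ∧
      ∀ q ∈ U, IsCohenMacaulayLocalRing (Localization.AtPrime q.asIdeal)) :
    ∃ g ∉ p, ∀ (r' : Ideal (A ⧸ p)) [r'.IsPrime], Ideal.Quotient.mk p g ∉ r' →
      IsCohenMacaulayLocalRing (Localization.AtPrime r') := by
  obtain ⟨U, hU, ⟨x, hx⟩, hCM⟩ := h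
  obtain ⟨_, ⟨g', rfl⟩, hxg, hgU⟩ := PrimeSpectrum.isTopologicalBasis_basic_opens.exists_subset_of_mem_open hx hU
  obtain ⟨g, rfl⟩ := Ideal.Quotient.mk_surjective g'
  refine ⟨g, fun hg => hxg ?_, fun r' _ hr => hCM ⟨r', inferInstance⟩ (hgU hr)⟩
  rw [Ideal.Quotient.eq_zero_iff_mem.mpr hg]
  exact zero_mem _

/-- The codepth loci are open. -/
theorem isOpen_codepth_le (hCMU : ∀ (p : Ideal A) [p.IsPrime], ∃ U : Set (PrimeSpectrum (A ⧸ p)), IsOpen U ∧ U.Nonempty ∧
      ∀ q ∈ U, IsCohenMacaulayLocalRing (Localization.AtPrime q.asIdeal))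
    (M : Type u) [AddCommGroup M] [Module A M] [Module.Finite A M] (n : ℕ) :
    IsOpen {p : PrimeSpectrum A | sdAt p.asIdeal M ≤ dpAt p.asIdeal M + n} := by
  refine isOpen_of_generization_of_nhds (fun p q hqp hp => codepth_le_of_generalization M hqp n hp) fun p hp => ?_
  let P := p.asIdeal
  haveI := module_finite_localizedModule P M
  haveI : IsNoetherianRing (Localization.AtPrime P) := IsLocalization.isNoetherianRing P.primeCompl _ inferInstance
  by_cases hsupp : p ∈ Module.support A M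
  · haveI : Nontrivial (LocalizedModule P.primeCompl M) := Module.mem_support_iff.mp hsupp
    obtain ⟨d, hd⟩ := ENat.ne_top_iff_exists.mp (H4Depth.idealDepth_ne_top
      (H4Depth.maximalIdeal_smul_top_ne_top (R := Localization.AtPrime P) (M := LocalizedModule P.primeCompl M)))
    have hd' : dpAt P M = (d : WithBot ℕ∞) := by rw [dpAt, depth, ← hd]; rfl
    obtain ⟨g1, hg1, h1⟩ := exists_nhd_depth_add_le P (exists_of_CMU P (hCMU P)) d M hd'.ge
    obtain ⟨g2, hg2, h2⟩ := exists_nhd_sdAt_le P M hsupp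
    refine ⟨g1 * g2, exists_mul_notMem hg1 hg2, fun r hpr hr => ?_⟩
    have hp' : sdAt P M ≤ (d : WithBot ℕ∞) + n := hd' ▸ hp
    calc sdAt r.asIdeal M ≤ sdAt P M + eDim P r.asIdeal := h2 r.asIdeal hpr fun h => hr (r.asIdeal.mul_mem_left _ h)
      _ ≤ ((d : WithBot ℕ∞) + n) + eDim P r.asIdeal := add_le_add hp' le_rfl
      _ = ((d : WithBot ℕ∞) + eDim P r.asIdeal) + n := by ac_rfl
      _ ≤ dpAt r.asIdeal M + n := add_le_add (h1 r.asIdeal hpr fun h => hr (r.asIdeal.mul_mem_right _ h)) le_rfl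
  · rw [Module.support_eq_zeroLocus, PrimeSpectrum.mem_zeroLocus, Set.not_subset] at hsupp
    obtain ⟨g, hg, hgp⟩ := hsupp
    refine ⟨g, hgp, fun r _ hr => ?_⟩
    haveI := subsingleton_localized_of_smul hr (Module.mem_annihilator.mp hg)
    show Module.supportDim _ _ ≤ _
    rw [Module.supportDim_eq_bot_of_subsingleton]
    exact bot_le

theorem hasSkAt_iff_forall_le (M : Type u) [AddCommGroup M] [Module A M] [Module.Finite A M] (n : ℕ) (p : Ideal A)
    [p.IsPrime] : EGA4.HasSkAt n A M p ↔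
      ∀ q : PrimeSpectrum A, q.asIdeal ≤ p → min (n : WithBot ℕ∞) (sdAt q.asIdeal M) ≤ dpAt q.asIdeal M := by
  refine ⟨fun h q hq => ?_, fun h Q _ => ?_⟩
  · have hdisj : Disjoint (p.primeCompl : Set A) q.asIdeal := Set.disjoint_left.mpr fun x hx hx' => hx (hq hx')
    haveI := IsLocalization.isPrime_of_isPrime_disjoint p.primeCompl (Localization.AtPrime p) q.asIdeal q.2 hdisj
    let Q := q.asIdeal.map (algebraMap A (Localization.AtPrime p))
    have hQ : Q.under A = q.asIdeal := IsLocalization.under_map_of_isPrime_disjoint p.primeCompl _ q.2 hdisj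
    have h' := h Q
    rw [← (dpAt_congr M hQ).1, ← (dpAt_congr M hQ).2, ← (dpAt_sdAt_localized p Q M).1, ← (dpAt_sdAt_localized p Q M).2]
    exact h'
  · have hq : Q.under A ≤ p := by
      exact (Ideal.comap_mono (le_maximalIdeal (Ideal.IsPrime.ne_top inferInstance))).trans
        (IsLocalization.AtPrime.under_maximalIdeal (Localization.AtPrime p) p).le
    have h' := h ⟨Q.under A, inferInstance⟩ hq
    show min _ (sdAt Q (LocalizedModule p.primeCompl M)) ≤ dpAt Q (LocalizedModule p.primeCompl M)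
    rw [(dpAt_sdAt_localized p Q M).1, (dpAt_sdAt_localized p Q M).2]
    exact h'

theorem sdAt_mono (M : Type u) [AddCommGroup M] [Module A M] [Module.Finite A M] {q r : Ideal A} [q.IsPrime] [r.IsPrime]
    (hqr : q ≤ r) : sdAt q M ≤ sdAt r M := by
  let R := Localization.AtPrime r
  let N := LocalizedModule r.primeCompl M
  have hdisj : Disjoint (r.primeCompl : Set A) q := Set.disjoint_left.mpr fun x hx hx' => hx (hqr hx')
  haveI := IsLocalization.isPrime_of_isPrime_disjoint r.primeCompl R q inferInstance hdisj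
  let Q := q.map (algebraMap A R)
  have hQ : Q.under A = q := IsLocalization.under_map_of_isPrime_disjoint r.primeCompl R inferInstance hdisj
  rw [← (dpAt_congr M hQ).2, ← (dpAt_sdAt_localized r Q M).2]
  by_cases hQs : (⟨Q, inferInstance⟩ : PrimeSpectrum R) ∈ Module.support R N
  · refine le_trans (le_add_of_nonneg_right ?_) (H4Depth.supportDim_localization_add_le Q hQs)
    haveI : Nontrivial (R ⧸ Q) := Ideal.Quotient.nontrivial_iff.mpr (Ideal.IsPrime.ne_top inferInstance)
    exact ringKrullDim_nonneg_of_nontrivial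
  · haveI : Subsingleton (LocalizedModule Q.primeCompl N) := Module.notMem_support_iff.mp hQs
    show Module.supportDim _ _ ≤ _
    rw [Module.supportDim_eq_bot_of_subsingleton]
    exact bot_le

theorem enat_aux {a b : ℕ∞} {n : ℕ} (h : ¬ min (n : ℕ∞) a ≤ b) : ∃ k : ℕ, ¬ a ≤ b + k ∧ (a ≤ ⊤ → a ≠ ⊤ → a ≤ (k : ℕ∞) + n) := by
  obtain ⟨j, rfl⟩ := ENat.ne_top_iff_exists.mp (fun hb : b = ⊤ => h (hb ▸ le_top))
  rcases eq_or_ne a ⊤ with rfl | ha
  · exact ⟨0, by simp, fun _ h => absurd rfl h⟩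
  obtain ⟨i, rfl⟩ := ENat.ne_top_iff_exists.mp ha
  rw [min_le_iff, not_or] at h
  norm_cast at h
  exact ⟨i - j - 1, by norm_cast; omega, fun _ _ => by norm_cast; omega⟩

theorem sdAt_eq_natCast {M : Type u} [AddCommGroup M] [Module A M] [Module.Finite A M] (q : Ideal A) [q.IsPrime]
    (h : sdAt q M ≠ ⊥) : ∃ i : ℕ, sdAt q M = i := by
  obtain ⟨d, hd⟩ := exists_nat_ringKrullDim (Localization.AtPrime q)
  have hle : sdAt q M ≤ (d : WithBot ℕ∞) := hd ▸ Module.supportDim_le_ringKrullDim _ _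
  obtain ⟨a, ha⟩ := WithBot.ne_bot_iff_exists.mp h
  obtain ⟨i, rfl⟩ := ENat.ne_top_iff_exists.mp (fun hat : a = ⊤ => by
    rw [← ha, hat, ← WithBot.coe_natCast, WithBot.coe_le_coe] at hle
    exact ENat.natCast_ne_top d (top_le_iff.mp hle))
  exact ⟨i, ha.symm⟩

/-- The Serre loci are open. -/
theorem isOpen_hasSkAt (hCMU : ∀ (p : Ideal A) [p.IsPrime], ∃ U : Set (PrimeSpectrum (A ⧸ p)), IsOpen U ∧ U.Nonempty ∧
      ∀ q ∈ U, IsCohenMacaulayLocalRing (Localization.AtPrime q.asIdeal))
    (M : Type u) [AddCommGroup M] [Module A M] [Module.Finite A M] (n : ℕ) :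
    IsOpen {p : PrimeSpectrum A | EGA4.HasSkAt n A M p.asIdeal} := by
  classical
  let U : ℕ → Set (PrimeSpectrum A) := fun k => {p | sdAt p.asIdeal M ≤ dpAt p.asIdeal M + k}
  have hU : ∀ k, IsOpen (U k) := fun k => isOpen_codepth_le hCMU M k
  -- the codepth is bounded
  obtain ⟨T, hT⟩ := isCompact_univ.elim_finite_subcover U hU fun q _ => by
    refine Set.mem_iUnion.mpr ?_
    by_cases hb : sdAt q.asIdeal M = ⊥
    · exact ⟨0, show sdAt _ _ ≤ _ by rw [hb]; exact bot_le⟩
    · obtain ⟨i, hi⟩ := sdAt_eq_natCast _ hb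
      exact ⟨i, show sdAt _ _ ≤ _ by rw [hi]; exact le_add_of_nonneg_left (WithBot.coe_le_coe.mpr zero_le)⟩
  let K := T.sup id
  have hK : ∀ q : PrimeSpectrum A, ∀ k, K ≤ k → q ∈ U k := fun q k hk => by
    obtain ⟨j, hj, hjq⟩ := Set.mem_iUnion₂.mp (hT (Set.mem_univ q))
    exact (show sdAt _ _ ≤ _ from hjq).trans (add_le_add le_rfl (Nat.cast_le.mpr ((Finset.le_sup (f := id) hj).trans hk)))
  -- finitely many closures of generic points
  let E : ℕ → Set (PrimeSpectrum A) := fun k =>
    {η | η.asIdeal ∈ (PrimeSpectrum.vanishingIdeal (U k)ᶜ).minimalPrimes ∧ sdAt η.asIdeal M ≤ (k : WithBot ℕ∞) + n}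
  have hE : ∀ k, (E k).Finite := fun k =>
    Set.Finite.of_finite_image ((Ideal.finite_minimalPrimes_of_isNoetherianRing A _).subset (by
      rintro _ ⟨η, hη, rfl⟩; exact hη.1)) fun a _ b _ h => PrimeSpectrum.ext h
  have hclosed : ∀ k, PrimeSpectrum.zeroLocus (PrimeSpectrum.vanishingIdeal (U k)ᶜ : Set A) = (U k)ᶜ := fun k => by
    rw [PrimeSpectrum.zeroLocus_vanishingIdeal_eq_closure, (hU k).isClosed_compl.closure_eq]
  suffices hset : {p : PrimeSpectrum A | EGA4.HasSkAt n A M p.asIdeal} =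
      (⋃ k ∈ Finset.range (K + 1), ⋃ η ∈ E k, PrimeSpectrum.zeroLocus (η.asIdeal : Set A))ᶜ by
    rw [hset, isOpen_compl_iff]
    exact (Finset.range (K + 1)).finite_toSet.isClosed_biUnion fun k _ =>
      (hE k).isClosed_biUnion fun η _ => PrimeSpectrum.isClosed_zeroLocus _
  ext p
  simp only [Set.mem_ofPred_eq, Set.mem_compl_iff, Set.mem_iUnion, exists_prop, not_exists, not_and]
  rw [hasSkAt_iff_forall_le M n]
  constructor
  · intro h k _ η hη hpη
    have hηk : η ∈ (U k)ᶜ := hclosed k ▸ hη.1.1.2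
    have hs := h η hpη
    rcases min_le_iff.mp hs with h1 | h1
    · exact hηk (hη.2.trans (by rw [add_comm]; exact add_le_add h1 le_rfl))
    · exact hηk (h1.trans (le_add_of_nonneg_right (by rw [← WithBot.coe_natCast]; exact WithBot.coe_le_coe.mpr zero_le)))
  · intro h q hqp
    by_contra hq
    have hb : sdAt q.asIdeal M ≠ ⊥ := fun hb => hq (by rw [hb]; exact (min_le_right _ _).trans bot_le)
    obtain ⟨i, hi⟩ := sdAt_eq_natCast _ hb
    rw [hi, dpAt, ← WithBot.coe_natCast, ← WithBot.coe_natCast, ← WithBot.coe_min, WithBot.coe_le_coe] at hq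
    obtain ⟨k, hk1, hk2⟩ := enat_aux hq
    have hqU : q ∉ U k := fun hm => hk1 (by
      have hm' : sdAt q.asIdeal M ≤ dpAt q.asIdeal M + k := hm
      rw [hi, dpAt, ← WithBot.coe_natCast, ← WithBot.coe_natCast, ← WithBot.coe_add, WithBot.coe_le_coe] at hm'
      exact hm')
    have hkK : k < K + 1 := by
      by_contra hlt
      exact hqU (hK q k (by omega))
    obtain ⟨P, hP, hPq⟩ := Ideal.exists_minimalPrimes_le (I := PrimeSpectrum.vanishingIdeal (U k)ᶜ)
      (J := q.asIdeal) (show q ∈ PrimeSpectrum.zeroLocus _ by rw [hclosed]; exact hqU)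
    have hPp := hP.isPrime
    refine h k (Finset.mem_range.mpr hkK) ⟨P, hPp⟩ ⟨hP, ?_⟩ (hPq.trans hqp)
    have hle : sdAt q.asIdeal M ≤ (k : WithBot ℕ∞) + n := by
      rw [hi]; exact_mod_cast hk2 le_top (ENat.natCast_ne_top i)
    exact le_trans (sdAt_mono M hPq) hle

end Groth.Agent.H05EGA4
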