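import Mathlib
import Groth.Agent.H4Depth.CM
import Groth.Agent.H4Depth.DepthLemmas
import Groth.Agent.H1CAlg.Associated

/-!
Dimension and depth of modules finite over a base ring (EGA 0_IV 16.4.8).
-/

set_option autoImplicit false
set_option linter.style.haveILetI false
set_option linter.unusedSectionVars false
universe u
open Pointwise LocCoh IsLocalRing

namespace Groth.Agent.H05EGA4.FiniteModule

/-- Primes `≤ p` in the support compute the dimension of the localization. -/
theorem le_supportDim_localization {R M : Type u} [CommRing R] [AddCommGroup M] [Module R M] (p : Ideal R) [p.IsPrime]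
    (l : LTSeries (PrimeSpectrum R)) (hs : ∀ i, l i ∈ Module.support R M) (hl : l.last.asIdeal ≤ p) :
    (l.length : WithBot ℕ∞) ≤ Module.supportDim (Localization.AtPrime p) (LocalizedModule p.primeCompl M) := by
  let e := IsLocalization.AtPrime.primeSpectrumOrderIso (Localization.AtPrime p) p
  have hle : ∀ i, l i ∈ Set.Iic (⟨p, inferInstance⟩ : PrimeSpectrum R) := fun i => le_trans (l.monotone (Fin.le_last i)) hl
  refine Order.LTSeries.length_le_krullDim (LTSeries.mk l.length (fun i => (⟨e.symm ⟨l i, hle i⟩, ?_⟩ :
    Module.support (Localization.AtPrime p) (LocalizedModule p.primeCompl M))) fun i j h => ?_)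
  · refine (H4Depth.mem_support_localizedModule_iff p.primeCompl _ (LocalizedModule.mkLinearMap _ M) _).mpr ?_
    have : PrimeSpectrum.comap (algebraMap R (Localization.AtPrime p)) (e.symm ⟨l i, hle i⟩) = l i :=
      congrArg Subtype.val (e.apply_symm_apply ⟨l i, hle i⟩)
    rw [this]
    exact hs i
  · exact e.symm.strictMono (show (⟨l i, hle i⟩ : Set.Iic (⟨p, inferInstance⟩ : PrimeSpectrum R)) < ⟨l j, hle j⟩ from l.strictMono h)

theorem supportDim_localization_le {R M : Type u} [CommRing R] [AddCommGroup M] [Module R M] (p : Ideal R) [p.IsPrime]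
    {c : WithBot ℕ∞} (h : ∀ l : LTSeries (PrimeSpectrum R), (∀ i, l i ∈ Module.support R M) → l.last.asIdeal ≤ p →
      (l.length : WithBot ℕ∞) ≤ c) :
    Module.supportDim (Localization.AtPrime p) (LocalizedModule p.primeCompl M) ≤ c := by
  refine iSup_le fun l => ?_
  let e := IsLocalization.AtPrime.primeSpectrumOrderIso (Localization.AtPrime p) p
  refine h (LTSeries.mk l.length (fun i => (e (l i).1).1) fun i j hij => e.strictMono (l.strictMono hij)) (fun i => ?_) ?_
  · exact (H4Depth.mem_support_localizedModule_iff p.primeCompl _ (LocalizedModule.mkLinearMap _ M) _).mp (l i).2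
  · exact (e (l (Fin.last _)).1).2

variable {A B : Type u} [CommRing A] [CommRing B] [Algebra A B]

theorem exists_lift_series_integral {C : Type u} [CommRing C] [Algebra A C] [Algebra.IsIntegral A C] :
    ∀ (n : ℕ) (l : LTSeries (PrimeSpectrum A)), l.length = n → RingHom.ker (algebraMap A C) ≤ l.head.asIdeal →
      ∃ L : LTSeries (PrimeSpectrum C), L.length = n ∧ PrimeSpectrum.comap (algebraMap A C) L.last = l.last := by
  intro n
  induction n with
  | zero =>
    intro l hl hker
    obtain ⟨Q, -, hQ, hQe⟩ := Ideal.exists_ideal_over_prime_of_isIntegral l.head.asIdeal (⊥ : Ideal C)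
      (by rw [← RingHom.ker_eq_comap_bot]; exact hker)
    refine ⟨RelSeries.singleton _ ⟨Q, hQ⟩, rfl, ?_⟩
    have : l.last = l.head := by
      show l (Fin.last _) = l 0
      congr 1
      exact Fin.ext (by simp [hl])
    rw [this]
    exact PrimeSpectrum.ext hQe
  | succ n ih =>
    intro l hl hker
    have h0 : l.length ≠ 0 := by omega
    have hel : l.eraseLast.last < l.last := l.eraseLast_last_rel_last h0
    obtain ⟨L, hL, hLe⟩ := ih l.eraseLast (by simp [hl]) (by simpa using hker)
    obtain ⟨Q, hQge, hQ, hQe⟩ := Ideal.exists_ideal_over_prime_of_isIntegral_of_isPrime l.last.asIdeal L.last.asIdeal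
      (by rw [← PrimeSpectrum.comap_asIdeal, hLe]; exact hel.le)
    have hlt : L.last < ⟨Q, hQ⟩ := lt_of_le_of_ne hQge fun h => hel.ne (by
      rw [← hLe, h]
      exact PrimeSpectrum.ext hQe)
    refine ⟨L.snoc ⟨Q, hQ⟩ hlt, by simp [hL], ?_⟩
    rw [RelSeries.last_snoc]
    exact PrimeSpectrum.ext hQe

variable [IsNoetherianRing A] [IsNoetherianRing B]
variable (M : Type u) [AddCommGroup M] [Module B M] [Module A M] [IsScalarTower A B M] [Module.Finite A M]

theorem finite_quotient_annihilator : Module.Finite A (B ⧸ Module.annihilator B M) := by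
  obtain ⟨n, v, hv⟩ := Module.Finite.exists_fin (R := A) (M := M)
  let f : B →ₗ[B] (Fin n → M) := LinearMap.toSpanSingleton B _ v
  have hker : LinearMap.ker f = Module.annihilator B M := by
    ext b
    rw [LinearMap.mem_ker, Module.mem_annihilator]
    refine ⟨fun h m => ?_, fun h => funext fun i => h _⟩
    have hm : m ∈ Submodule.span A (Set.range v) := hv ▸ Submodule.mem_top
    induction hm using Submodule.span_induction with
    | mem x hx => obtain ⟨i, rfl⟩ := hx; exact congrFun h i
    | zero => exact smul_zero b
    | add x y _ _ hx hy => rw [smul_add, hx, hy, add_zero]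
    | smul a x _ hx => rw [smul_comm, hx, smul_zero]
  let g : (B ⧸ Module.annihilator B M) →ₗ[B] (Fin n → M) := Submodule.liftQ (Module.annihilator B M) f hker.ge
  have hg : Function.Injective g := LinearMap.ker_eq_bot.mp (Submodule.ker_liftQ_eq_bot _ _ _ hker.le)
  exact Module.Finite.of_injective (N := Fin n → M) (g.restrictScalars A) hg

theorem comap_annihilator : (Module.annihilator B M).comap (algebraMap A B) = Module.annihilator A M := by
  ext r
  simp only [Ideal.mem_comap, Module.mem_annihilator, algebraMap_smul]

theorem comap_mem_support [Module.Finite B M] {Q : PrimeSpectrum B} (hQ : Q ∈ Module.support B M) :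
    PrimeSpectrum.comap (algebraMap A B) Q ∈ Module.support A M := by
  rw [Module.support_eq_zeroLocus, PrimeSpectrum.mem_zeroLocus, SetLike.coe_subset_coe] at hQ ⊢
  rw [← comap_annihilator (A := A) (B := B) M]
  exact Ideal.comap_mono hQ

/-- Every prime in the support is the contraction of one. -/
theorem exists_mem_support_over [Module.Finite B M] (p : PrimeSpectrum A) (hp : p ∈ Module.support A M) :
    ∃ Q ∈ Module.support B M, PrimeSpectrum.comap (algebraMap A B) Q = p := by
  haveI := finite_quotient_annihilator (A := A) (B := B) M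
  haveI : Algebra.IsIntegral A (B ⧸ Module.annihilator B M) := Algebra.IsIntegral.of_finite _ _
  rw [Module.support_eq_zeroLocus, PrimeSpectrum.mem_zeroLocus, SetLike.coe_subset_coe] at hp
  obtain ⟨Q, -, hQ, hQe⟩ := Ideal.exists_ideal_over_prime_of_isIntegral p.asIdeal (⊥ : Ideal (B ⧸ Module.annihilator B M)) (by
    rw [← RingHom.ker_eq_comap_bot, IsScalarTower.algebraMap_eq A B (B ⧸ Module.annihilator B M), ← RingHom.comap_ker,
      Ideal.Quotient.algebraMap_eq, Ideal.mk_ker, comap_annihilator]
    exact hp)
  refine ⟨⟨Q.comap (Ideal.Quotient.mk _), inferInstance⟩, ?_, PrimeSpectrum.ext ?_⟩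
  · rw [Module.support_eq_zeroLocus]
    intro b hb
    show Ideal.Quotient.mk _ b ∈ Q
    rw [Ideal.Quotient.eq_zero_iff_mem.mpr hb]
    exact zero_mem _
  · rw [PrimeSpectrum.comap_asIdeal, Ideal.comap_comap, ← hQe]
    rfl

/-- Primes over the same prime of the base are incomparable in the support. -/
theorem comap_lt_comap [Module.Finite B M] {Q Q' : PrimeSpectrum B} (hQ : Q ∈ Module.support B M) (h : Q < Q') :
    PrimeSpectrum.comap (algebraMap A B) Q < PrimeSpectrum.comap (algebraMap A B) Q' := by
  haveI := finite_quotient_annihilator (A := A) (B := B) M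
  haveI : Algebra.IsIntegral A (B ⧸ Module.annihilator B M) := Algebra.IsIntegral.of_finite _ _
  rw [Module.support_eq_zeroLocus, PrimeSpectrum.mem_zeroLocus, SetLike.coe_subset_coe] at hQ
  haveI := Ideal.map_isPrime_of_surjective (f := Ideal.Quotient.mk (Module.annihilator B M)) Ideal.Quotient.mk_surjective (I := Q.asIdeal) (by rwa [Ideal.mk_ker])
  haveI := Ideal.map_isPrime_of_surjective (f := Ideal.Quotient.mk (Module.annihilator B M)) Ideal.Quotient.mk_surjective (I := Q'.asIdeal) (by rw [Ideal.mk_ker]; exact hQ.trans h.le)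
  have hc : ∀ P : Ideal B, Module.annihilator B M ≤ P →
      (P.map (Ideal.Quotient.mk (Module.annihilator B M))).comap (algebraMap A (B ⧸ Module.annihilator B M)) = P.comap (algebraMap A B) := by
    intro P hP
    rw [IsScalarTower.algebraMap_eq A B (B ⧸ Module.annihilator B M), ← Ideal.comap_comap, Ideal.Quotient.algebraMap_eq,
      Ideal.comap_map_of_surjective' _ Ideal.Quotient.mk_surjective, Ideal.mk_ker, sup_eq_left.mpr hP]
  have hlt : Q.asIdeal.map (Ideal.Quotient.mk (Module.annihilator B M)) < Q'.asIdeal.map (Ideal.Quotient.mk (Module.annihilator B M)) := by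
    refine lt_of_le_of_ne (Ideal.map_mono h.le) fun he => ?_
    have := congrArg (Ideal.comap (Ideal.Quotient.mk (Module.annihilator B M))) he
    rw [Ideal.comap_map_of_surjective' _ Ideal.Quotient.mk_surjective, Ideal.comap_map_of_surjective' _ Ideal.Quotient.mk_surjective,
      Ideal.mk_ker, sup_eq_left.mpr hQ, sup_eq_left.mpr (hQ.trans h.le)] at this
    exact h.ne (PrimeSpectrum.ext this)
  have h3 := Ideal.IsIntegral.comap_lt_comap (R := A) hlt
  rw [hc _ hQ, hc _ (hQ.trans h.le)] at h3
  exact h3

/-- The primes of `B` overP `p` in the support. -/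
def overP (p : Ideal A) : Set (PrimeSpectrum B) :=
  {q | q.asIdeal.comap (algebraMap A B) = p ∧ q ∈ Module.support B M}

theorem supportDim_eq [Module.Finite B M] (p : Ideal A) [p.IsPrime] :
    Module.supportDim (Localization.AtPrime p) (LocalizedModule p.primeCompl M) =
      ⨆ q ∈ overP (B := B) M p, Module.supportDim (Localization.AtPrime q.asIdeal) (LocalizedModule q.asIdeal.primeCompl M) := by
  refine le_antisymm (supportDim_localization_le p fun l hs hl => ?_) (iSup₂_le fun q hq => supportDim_localization_le q.asIdeal fun L hs hL => ?_)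
  · haveI := finite_quotient_annihilator (A := A) (B := B) M
    haveI : Algebra.IsIntegral A (B ⧸ Module.annihilator B M) := Algebra.IsIntegral.of_finite _ _
    have hk : RingHom.ker (algebraMap A (B ⧸ Module.annihilator B M)) = Module.annihilator A M := by
      rw [IsScalarTower.algebraMap_eq A B (B ⧸ Module.annihilator B M), ← RingHom.comap_ker, Ideal.Quotient.algebraMap_eq,
        Ideal.mk_ker, comap_annihilator]
    have h0 := hs 0
    rw [Module.support_eq_zeroLocus, PrimeSpectrum.mem_zeroLocus, SetLike.coe_subset_coe] at h0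
    obtain ⟨L, hL, hLe⟩ := exists_lift_series_integral l.length l rfl (hk.le.trans h0)
    obtain ⟨Q, hQge, hQ, hQe⟩ := Ideal.exists_ideal_over_prime_of_isIntegral_of_isPrime p L.last.asIdeal
      (by rw [← PrimeSpectrum.comap_asIdeal, hLe]; exact hl)
    let π : PrimeSpectrum (B ⧸ Module.annihilator B M) → PrimeSpectrum B := PrimeSpectrum.comap (Ideal.Quotient.mk _)
    have hπ : ∀ P, π P ∈ Module.support B M := fun P => by
      rw [Module.support_eq_zeroLocus]
      intro b hb
      show Ideal.Quotient.mk _ b ∈ P.asIdeal
      rw [Ideal.Quotient.eq_zero_iff_mem.mpr hb]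
      exact zero_mem _
    let q : PrimeSpectrum B := π ⟨Q, hQ⟩
    have hq : q ∈ overP M p := ⟨by rw [← hQe]; simp only [q, π, PrimeSpectrum.comap_asIdeal, Ideal.comap_comap]; rfl, hπ _⟩
    refine le_trans ?_ (le_iSup₂ (f := fun (q : PrimeSpectrum B) (_ : q ∈ overP M p) =>
      Module.supportDim (Localization.AtPrime q.asIdeal) (LocalizedModule q.asIdeal.primeCompl M)) q hq)
    have := le_supportDim_localization (M := M) q.asIdeal
      (LTSeries.mk L.length (fun i => π (L i)) (fun i j h => lt_of_le_of_ne (Ideal.comap_mono (L.monotone h.le))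
        fun he => (L.strictMono h).ne (PrimeSpectrum.comap_injective_of_surjective _ Ideal.Quotient.mk_surjective he)))
      (fun i => hπ _) (Ideal.comap_mono hQge)
    rwa [← hL]
  · exact le_supportDim_localization p
      (LTSeries.mk L.length (fun i => PrimeSpectrum.comap (algebraMap A B) (L i))
        fun i j h => comap_lt_comap M (hs i) (L.strictMono h))
      (fun i => comap_mem_support M (hs i)) (hq.1 ▸ Ideal.comap_mono hL)

theorem exists_associated_over {p : Ideal A} (hp : p ∈ associatedPrimes A M) :
    ∃ q : PrimeSpectrum B, q.asIdeal.comap (algebraMap A B) = p ∧ q.asIdeal ∈ associatedPrimes B M := by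
  obtain ⟨hpp, z, hz⟩ := isAssociatedPrime_iff.mp hp
  let T : Submodule B M := Submodule.span B {z}
  haveI : Module.Finite B T := Module.Finite.iff_fg.mpr (Submodule.fg_span_singleton z)
  have hJ : (Module.annihilator B T).comap (algebraMap A B) = p := by
    ext a
    rw [Ideal.mem_comap, hz, Submodule.mem_colon_singleton, Submodule.mem_bot, Module.mem_annihilator]
    refine ⟨fun h => ?_, fun h w => ?_⟩
    · have := congrArg Subtype.val (h ⟨z, Submodule.mem_span_singleton_self z⟩)
      rwa [Submodule.coe_smul, algebraMap_smul] at this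
    · obtain ⟨c, hc⟩ := Submodule.mem_span_singleton.mp w.2
      refine Subtype.ext ?_
      rw [Submodule.coe_smul, ← hc, smul_comm, algebraMap_smul, h, smul_zero, Submodule.coe_zero]
  set J := Module.annihilator B T
  classical
  have hfin := Ideal.finite_minimalPrimes_of_isNoetherianRing B J
  have hinf : hfin.toFinset.inf (Ideal.comap (algebraMap A B)) ≤ p := by
    intro a ha
    have ha' : algebraMap A B a ∈ J.radical := by
      rw [← Ideal.sInf_minimalPrimes]
      exact Ideal.mem_sInf.mpr fun {q} hq => Finset.inf_le (f := Ideal.comap (algebraMap A B)) (hfin.mem_toFinset.mpr hq) ha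
    obtain ⟨k, hk⟩ := ha'
    rw [← map_pow, ← Ideal.mem_comap, hJ] at hk
    exact hpp.mem_of_pow_mem k hk
  obtain ⟨q, hq, hqp⟩ := (Ideal.IsPrime.inf_le' hpp).mp hinf
  have hq' := hfin.mem_toFinset.mp hq
  refine ⟨⟨q, hq'.isPrime⟩, le_antisymm hqp (hJ.ge.trans (Ideal.comap_mono hq'.1.2)), ?_⟩
  exact associatedPrimes.subset_of_injective (f := T.subtype) Subtype.val_injective
    (Module.associatedPrimes.minimalPrimes_annihilator_subset_associatedPrimes B T hq')

theorem associated_comap {q : Ideal B} (hq : q ∈ associatedPrimes B M) :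
    q.comap (algebraMap A B) ∈ associatedPrimes A M := by
  obtain ⟨hqp, z, hz⟩ := isAssociatedPrime_iff.mp hq
  refine isAssociatedPrime_iff.mpr ⟨inferInstance, z, ?_⟩
  ext a
  rw [Ideal.mem_comap, hz, Submodule.mem_colon_singleton, Submodule.mem_bot, Submodule.mem_colon_singleton,
    Submodule.mem_bot, algebraMap_smul]

/-- Localized quotient by `x`. -/
theorem nonempty_localized_quot_equiv {R : Type u} [CommRing R] {N : Type u} [AddCommGroup N] [Module R N]
    (x : R) (p : Ideal R) [p.IsPrime] :
    Nonempty (LocalizedModule p.primeCompl (QuotSMulTop x N) ≃ₗ[Localization.AtPrime p]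
      QuotSMulTop (algebraMap R (Localization.AtPrime p) x) (LocalizedModule p.primeCompl N)) := by
  let W : Submodule R N := x • ⊤
  refine ⟨((IsLocalizedModule.linearEquiv p.primeCompl (LocalizedModule.mkLinearMap p.primeCompl (N ⧸ W))
    (W.toLocalizedQuotient' (Localization.AtPrime p) p.primeCompl (LocalizedModule.mkLinearMap p.primeCompl N))).extendScalarsOfIsLocalization
      p.primeCompl (Localization.AtPrime p)).trans (Submodule.quotEquivOfEq _ _ ?_)⟩
  simp only [W, ← Submodule.ideal_span_singleton_smul]
  rw [Submodule.localized'_smul, Submodule.localized'_top, Submodule.localized'_eq_span]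
  congr 1
  refine le_antisymm (Ideal.span_le.mpr ?_) (Ideal.span_le.mpr ?_)
  · rintro _ ⟨y, hy, rfl⟩
    obtain ⟨c, rfl⟩ := Ideal.mem_span_singleton'.mp hy
    rw [Algebra.linearMap_apply, map_mul]
    exact Ideal.mul_mem_left _ _ (Ideal.mem_span_singleton_self _)
  · rintro _ rfl
    exact Ideal.subset_span ⟨x, Ideal.mem_span_singleton_self x, rfl⟩

theorem mk_eq_zero {R N : Type u} [CommRing R] [AddCommGroup N] [Module R N] {S : Submonoid R} {m : N} {s : S} :
    LocalizedModule.mk m s = 0 ↔ ∃ u : S, u • m = 0 := by
  rw [← LocalizedModule.zero_mk 1, LocalizedModule.mk_eq]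
  simp

theorem regular_localization_over {x : A} {p : Ideal A} [p.IsPrime] {q : PrimeSpectrum B}
    (hq : q.asIdeal.comap (algebraMap A B) = p)
    (hx : IsSMulRegular (LocalizedModule p.primeCompl M) (algebraMap A (Localization.AtPrime p) x)) :
    IsSMulRegular (LocalizedModule q.asIdeal.primeCompl M) (algebraMap B (Localization.AtPrime q.asIdeal) (algebraMap A B x)) := by
  rw [isSMulRegular_iff_right_eq_zero_of_smul] at hx ⊢
  intro z hz
  induction z using LocalizedModule.induction_on with
  | h m s =>
    rw [algebraMap_smul, LocalizedModule.smul'_mk, algebraMap_smul, mk_eq_zero] at hz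
    obtain ⟨t, ht⟩ := hz
    rw [Submonoid.smul_def, smul_comm] at ht
    have h1 : (algebraMap A (Localization.AtPrime p) x) • LocalizedModule.mk ((t : B) • m) (1 : p.primeCompl) = 0 := by
      rw [algebraMap_smul, LocalizedModule.smul'_mk, ht, LocalizedModule.zero_mk]
    obtain ⟨u, hu⟩ := mk_eq_zero.mp (hx _ h1)
    refine mk_eq_zero.mpr ⟨⟨algebraMap A B u, fun h => u.2 (hq ▸ h)⟩ * t, ?_⟩
    rw [Submonoid.smul_def, Submonoid.coe_mul, mul_smul, algebraMap_smul]
    exact hu

theorem le_depth_iff : ∀ (n : ℕ) (M : Type u) [AddCommGroup M] [Module B M] [Module A M] [IsScalarTower A B M]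
    [Module.Finite A M] (p : Ideal A) [p.IsPrime],
    (n : ℕ∞) ≤ depth (Localization.AtPrime p) (LocalizedModule p.primeCompl M) ↔
      ∀ q ∈ overP (B := B) M p, (n : ℕ∞) ≤ depth (Localization.AtPrime q.asIdeal) (LocalizedModule q.asIdeal.primeCompl M) := by
  intro n
  induction n with
  | zero => intro M _ _ _ _ _ p _; simp
  | succ n ih =>
    intro M _ _ _ _ _ p _
    haveI : Module.Finite B M := Module.Finite.of_restrictScalars_finite A B M
    haveI hfinp : Module.Finite (Localization.AtPrime p) (LocalizedModule p.primeCompl M) :=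
      Module.Finite.of_isLocalizedModule p.primeCompl (LocalizedModule.mkLinearMap p.primeCompl M)
    rcases subsingleton_or_nontrivial (LocalizedModule p.primeCompl M) with hs | hs
    · have hempty : ∀ q : PrimeSpectrum B, q ∉ overP M p := fun q hq => by
        have h := comap_mem_support (A := A) M hq.2
        rw [show PrimeSpectrum.comap (algebraMap A B) q = ⟨p, inferInstance⟩ from PrimeSpectrum.ext hq.1] at h
        exact not_nontrivial_iff_subsingleton.mpr hs (Module.mem_support_iff.mp h)
      refine ⟨fun _ q hq => absurd hq (hempty q), fun _ => ?_⟩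
      rw [depth, H4Depth.idealDepth_eq_top (Subsingleton.elim _ _)]
      exact le_top
    have hone : ∀ (R N : Type u) [CommRing R] [IsLocalRing R] [IsNoetherianRing R] [AddCommGroup N] [Module R N]
        [Module.Finite R N] (k : ℕ) (x : R), x ∈ maximalIdeal R → IsSMulRegular N x →
          (((k + 1 : ℕ) : ℕ∞) ≤ depth R N ↔ (k : ℕ∞) ≤ depth R (QuotSMulTop x N)) := by
      intro R N _ _ _ _ _ _ k x hx hreg
      rw [depth, depth, ← H4Depth.idealDepth_quotSMulTop_add_one hx hreg, Nat.cast_succ]
      exact (ENat.add_le_add_iff_right (by simp)).symm.symm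
    by_cases hass : p ∈ associatedPrimes A M
    · constructor
      · intro h
        rw [(H1CAlg.depth_localization_eq_zero_iff p).mpr hass] at h
        simp at h
      · intro h
        obtain ⟨q, hq, hqa⟩ := exists_associated_over (A := A) (B := B) M hass
        have hqs : q ∈ Module.support B M := H4Depth.mem_support_of_mem_associatedPrimes hqa
        haveI : Nontrivial (LocalizedModule q.asIdeal.primeCompl M) := Module.mem_support_iff.mp hqs
        have h' := h q ⟨hq, hqs⟩
        rw [(H1CAlg.depth_localization_eq_zero_iff q.asIdeal).mpr hqa] at h'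
        simp at h'
    · have h1 : 1 ≤ depth (Localization.AtPrime p) (LocalizedModule p.primeCompl M) := by
        rw [ENat.one_le_iff_ne_zero]
        exact fun h => hass ((H1CAlg.depth_localization_eq_zero_iff p).mp h)
      obtain ⟨y, hy, hreg⟩ := (H4Depth.one_le_idealDepth_iff H4Depth.maximalIdeal_smul_top_ne_top).mp h1
      obtain ⟨⟨x, s⟩, hxs⟩ := IsLocalization.surj p.primeCompl y
      have hu : IsUnit (algebraMap A (Localization.AtPrime p) s) := IsLocalization.map_units _ s
      have hxm : algebraMap A (Localization.AtPrime p) x ∈ maximalIdeal (Localization.AtPrime p) := by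
        rw [← hxs]; exact Ideal.mul_mem_right _ _ hy
      have hxreg : IsSMulRegular (LocalizedModule p.primeCompl M) (algebraMap A (Localization.AtPrime p) x) := by
        rw [← hxs]; exact hreg.mul (hu.isSMulRegular _)
      have hxp : x ∈ p := (IsLocalization.AtPrime.to_map_mem_maximal_iff _ p x).mp hxm
      let b := algebraMap A B x
      let M' := QuotSMulTop b M
      haveI : Module.Finite A M' := Module.Finite.of_surjective ((Submodule.mkQ (b • (⊤ : Submodule B M))).restrictScalars A) (Submodule.mkQ_surjective _)
      have hW : (b • (⊤ : Submodule B M)).restrictScalars A = x • (⊤ : Submodule A M) := by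
        ext z
        simp only [Submodule.restrictScalars_mem, Submodule.mem_smul_pointwise_iff_exists, Submodule.mem_top, true_and, b, algebraMap_smul]
      let eA : M' ≃ₗ[A] QuotSMulTop x M :=
        ((Submodule.Quotient.restrictScalarsEquiv A (b • (⊤ : Submodule B M))).symm).trans (Submodule.quotEquivOfEq _ _ hW)
      obtain ⟨e1⟩ := nonempty_localized_quot_equiv (N := M) x p
      let eA' : LocalizedModule p.primeCompl M' ≃ₗ[Localization.AtPrime p] LocalizedModule p.primeCompl (QuotSMulTop x M) :=
        IsLocalizedModule.mapEquiv p.primeCompl (LocalizedModule.mkLinearMap _ _) (LocalizedModule.mkLinearMap _ _) (Localization.AtPrime p) eA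
      rw [hone _ _ n _ hxm hxreg, ← H4Depth.depth_congr e1, ← H4Depth.depth_congr eA', ih M' p]
      have hsupp : overP (B := B) M' p = overP M p := by
        ext q
        simp only [overP, Set.mem_ofPred_eq]
        refine and_congr_right fun hq => ?_
        simp only [M', Module.support_quotSMulTop, Set.mem_inter_iff]
        refine and_iff_left_of_imp fun _ => ?_
        rintro _ rfl
        show x ∈ q.asIdeal.comap (algebraMap A B)
        rw [hq]
        exact hxp
      rw [hsupp]
      refine forall_congr' fun q => forall_congr' fun hq => ?_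
      obtain ⟨e2⟩ := nonempty_localized_quot_equiv (N := M) b q.asIdeal
      haveI : Module.Finite (Localization.AtPrime q.asIdeal) (LocalizedModule q.asIdeal.primeCompl M) :=
        Module.Finite.of_isLocalizedModule q.asIdeal.primeCompl (LocalizedModule.mkLinearMap q.asIdeal.primeCompl M)
      rw [hone _ _ n _ ((IsLocalization.AtPrime.to_map_mem_maximal_iff _ q.asIdeal b).mpr
          (show x ∈ q.asIdeal.comap (algebraMap A B) from hq.1.symm ▸ hxp)) (regular_localization_over M hq.1 hxreg),
        ← H4Depth.depth_congr e2]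

theorem depth_eq (p : Ideal A) [p.IsPrime] :
    depth (Localization.AtPrime p) (LocalizedModule p.primeCompl M) =
      ⨅ q ∈ overP (B := B) M p, depth (Localization.AtPrime q.asIdeal) (LocalizedModule q.asIdeal.primeCompl M) := by
  refine le_antisymm (le_iInf₂ fun q hq => ENat.forall_natCast_le_iff_le.mp fun n hn => (le_depth_iff n M p).mp hn q hq)
    (ENat.forall_natCast_le_iff_le.mp fun n hn => (le_depth_iff (B := B) n M p).mpr fun q hq => hn.trans (iInf₂_le q hq))

end Groth.Agent.H05EGA4.FiniteModule
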