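import Groth.Prelude.Def_QFDual
import Mathlib.AlgebraicGeometry.Morphisms.OpenImmersion
import Mathlib.RingTheory.Ideal.AssociatedPrime.Localization
import Mathlib.RingTheory.Localization.BaseChange
import Mathlib.RingTheory.Ideal.GoingUp

/-! Open immersions of affine schemes, locally; associated primes of the dualizing module. -/

set_option autoImplicit false
set_option linter.style.haveILetI false

universe u v

open TensorProduct CategoryTheory

namespace Groth.Agent.H05EGA4.QFLocal

section Local

variable {B' B : Type u} [CommRing B'] [CommRing B] [Algebra B' B]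

theorem isLocalization_atPrime
    (h : AlgebraicGeometry.IsOpenImmersion (AlgebraicGeometry.Spec.map (CommRingCat.ofHom (algebraMap B' B))))
    (q : Ideal B) [q.IsPrime] :
    IsLocalization.AtPrime (Localization.AtPrime q) (q.comap (algebraMap B' B)) := by
  let f := CommRingCat.ofHom (algebraMap B' B)
  haveI : IsIso ((AlgebraicGeometry.Spec.map f).stalkMap (⟨q, inferInstance⟩ : PrimeSpectrum B)) :=
    (AlgebraicGeometry.IsOpenImmersion.iff_isIso_stalkMap.1 h).2 _
  haveI : IsIso (CommRingCat.ofHom (Localization.localRingHom (q.comap (algebraMap B' B)) q (algebraMap B' B) rfl)) :=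
    ((MorphismProperty.isomorphisms CommRingCat).arrow_mk_iso_iff
      (AlgebraicGeometry.Scheme.arrowStalkMapSpecIso f (⟨q, inferInstance⟩ : PrimeSpectrum B))).1 this
  have hb := ConcreteCategory.bijective_of_isIso
    (CommRingCat.ofHom (Localization.localRingHom (q.comap (algebraMap B' B)) q (algebraMap B' B) rfl))
  let e : Localization.AtPrime (q.comap (algebraMap B' B)) ≃ₐ[B'] Localization.AtPrime q :=
    AlgEquiv.ofRingEquiv (f := RingEquiv.ofBijective (Localization.localRingHom (q.comap (algebraMap B' B)) q (algebraMap B' B) rfl) hb) fun r => by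
      rw [RingEquiv.ofBijective_apply, Localization.localRingHom_to_map, ← IsScalarTower.algebraMap_apply]
  exact IsLocalization.isLocalization_of_algEquiv _ e

/-- Associated primes along an open immersion. -/
theorem associatedPrimes_baseChange [IsNoetherianRing B'] [IsNoetherianRing B]
    (h : AlgebraicGeometry.IsOpenImmersion (AlgebraicGeometry.Spec.map (CommRingCat.ofHom (algebraMap B' B))))
    (M : Type v) [AddCommGroup M] [Module B' M] :
    associatedPrimes B (B ⊗[B'] M) = {q : Ideal B | q.IsPrime ∧ q.comap (algebraMap B' B) ∈ associatedPrimes B' M} := by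
  ext q
  by_cases hq : q.IsPrime
  swap
  · exact ⟨fun hm => absurd hm.1 hq, fun hm => absurd hm.1 hq⟩
  haveI := isLocalization_atPrime h q
  let Bq := Localization.AtPrime q
  let N := LocalizedModule q.primeCompl (B ⊗[B'] M)
  let g : M →ₗ[B'] N :=
    ((LocalizedModule.mkLinearMap q.primeCompl (B ⊗[B'] M)).restrictScalars B') ∘ₗ TensorProduct.mk B' B M 1
  have h1 : IsBaseChange Bq (LocalizedModule.mkLinearMap q.primeCompl (B ⊗[B'] M)) :=
    (isLocalizedModule_iff_isBaseChange q.primeCompl Bq _).mp inferInstance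
  have h2 : IsBaseChange Bq g := (TensorProduct.isBaseChange B' M B).comp h1
  haveI : IsLocalizedModule (q.comap (algebraMap B' B)).primeCompl g :=
    (isLocalizedModule_iff_isBaseChange _ Bq g).mpr h2
  have hm : (IsLocalRing.maximalIdeal Bq).comap (algebraMap B Bq) = q := Localization.AtPrime.comap_maximalIdeal
  have hm' : (IsLocalRing.maximalIdeal Bq).comap (algebraMap B' Bq) = q.comap (algebraMap B' B) := by
    conv_rhs => rw [← hm]
    rw [Ideal.comap_comap, ← IsScalarTower.algebraMap_eq]
  have e1 := Set.ext_iff.1 (Module.associatedPrimes.preimage_comap_associatedPrimes_eq_associatedPrimes_of_isLocalizedModule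
    (M := B ⊗[B'] M) (M' := N) q.primeCompl Bq (LocalizedModule.mkLinearMap q.primeCompl (B ⊗[B'] M))) (IsLocalRing.maximalIdeal Bq)
  have e2 := Set.ext_iff.1 (Module.associatedPrimes.preimage_comap_associatedPrimes_eq_associatedPrimes_of_isLocalizedModule
    (M := M) (M' := N) (q.comap (algebraMap B' B)).primeCompl Bq g) (IsLocalRing.maximalIdeal Bq)
  rw [Set.mem_preimage, hm] at e1
  rw [Set.mem_preimage, hm'] at e2
  exact ⟨fun h => ⟨hq, e2.2 (e1.1 h)⟩, fun h => e1.2 (e2.1 h.2)⟩

end Local

section Omega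

variable {A : Type u} {B : Type v} [CommRing A] [CommRing B] [Algebra A B] [IsNoetherianRing A] [IsNoetherianRing B]
  [Module.Finite A B]

theorem algebraMap_smul_apply (a : A) (φ : Disc.Omega A B) (x : B) :
    (algebraMap A B a • φ).toLinearMap x = a * φ.toLinearMap x := by
  rw [Disc.Omega.smul_toLinearMap_apply, ← Algebra.smul_def, map_smul, smul_eq_mul]

theorem associatedPrimes_omega :
    associatedPrimes B (Disc.Omega A B) =
      {q : Ideal B | q.IsPrime ∧ q.comap (algebraMap A B) ∈ associatedPrimes A A} := by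
  classical
  ext q
  constructor
  · intro h
    obtain ⟨hq, φ, hφ⟩ := isAssociatedPrime_iff.1 h
    haveI := hq
    have hmem : ∀ b : B, b ∈ q ↔ b • φ = 0 := fun b => by
      rw [hφ, Submodule.mem_colon_singleton, Submodule.mem_bot]
    refine ⟨hq, ?_⟩
    obtain ⟨n, x, hx⟩ := Module.Finite.exists_fin (R := A) (M := B)
    have hp : (q.comap (algebraMap A B)) = ⨅ i, LinearMap.ker (LinearMap.toSpanSingleton A A (φ.toLinearMap (x i))) := by
      ext a
      simp only [Ideal.mem_comap, hmem, Submodule.mem_iInf, LinearMap.mem_ker, LinearMap.toSpanSingleton_apply, smul_eq_mul]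
      constructor
      · intro h i
        have := congrArg (fun l : Disc.Omega A B => l.toLinearMap (x i)) h
        simp only [algebraMap_smul_apply] at this
        exact this
      · intro h
        refine Disc.Omega.ext (LinearMap.ext_on hx ?_)
        rintro _ ⟨i, rfl⟩
        rw [algebraMap_smul_apply]
        exact h i
    haveI hpp : (q.comap (algebraMap A B)).IsPrime := inferInstance
    have hle : Finset.univ.inf (fun i => LinearMap.ker (LinearMap.toSpanSingleton A A (φ.toLinearMap (x i)))) ≤
        q.comap (algebraMap A B) := by rw [Finset.inf_univ_eq_iInf, ← hp]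
    obtain ⟨i, -, hi⟩ := (Ideal.IsPrime.inf_le' hpp).1 hle
    refine isAssociatedPrime_iff.2 ⟨hpp, φ.toLinearMap (x i), ?_⟩
    have heq : q.comap (algebraMap A B) = LinearMap.ker (LinearMap.toSpanSingleton A A (φ.toLinearMap (x i))) :=
      le_antisymm (hp ▸ iInf_le _ i) hi
    rw [heq]
    ext a
    simp [Submodule.mem_colon_singleton]
  · rintro ⟨hq, hp⟩
    obtain ⟨hpp, z, hz⟩ := isAssociatedPrime_iff.1 hp
    let p := q.comap (algebraMap A B)
    haveI : q.LiesOver p := ⟨rfl⟩
    have hzero : ∀ a, a * z = 0 ↔ a ∈ p := fun a => by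
      show _ ↔ a ∈ q.comap (algebraMap A B)
      rw [hz, Submodule.mem_colon_singleton, Submodule.mem_bot, smul_eq_mul]
    -- a nonzero functional on the domain `B / q`
    let Ā := A ⧸ p
    let F := FractionRing Ā
    let V := F ⊗[Ā] (B ⧸ q)
    haveI : Module.Finite Ā (B ⧸ q) := Module.Finite.of_restrictScalars_finite A Ā (B ⧸ q)
    obtain ⟨ℓ, hℓ⟩ : ∃ ℓ : (B ⧸ q) →ₗ[Ā] Ā, ℓ ≠ 0 := by
      have hinj : Function.Injective (algebraMap Ā (B ⧸ q)) := FaithfulSMul.algebraMap_injective _ _
      have h1 : ((1 : F) ⊗ₜ[Ā] (1 : B ⧸ q)) ≠ (0 : V) := fun h0 => by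
        haveI : IsLocalizedModule (nonZeroDivisors Ā) (TensorProduct.mk Ā F (B ⧸ q) 1) :=
          (isLocalizedModule_iff_isBaseChange (nonZeroDivisors Ā) F _).mpr (TensorProduct.isBaseChange Ā (B ⧸ q) F)
        obtain ⟨s, hs⟩ := (IsLocalizedModule.eq_zero_iff (nonZeroDivisors Ā) (TensorProduct.mk Ā F (B ⧸ q) 1)).1 h0
        rw [Submonoid.smul_def, Algebra.smul_def, mul_one, map_eq_zero_iff _ hinj] at hs
        exact nonZeroDivisors.ne_zero s.2 hs
      obtain ⟨L, hL⟩ := Module.Projective.exists_dual_ne_zero F h1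
      let G : (B ⧸ q) →ₗ[Ā] F := (L.restrictScalars Ā) ∘ₗ TensorProduct.mk Ā F (B ⧸ q) 1
      haveI : Module.FinitePresentation Ā (B ⧸ q) := Module.finitePresentation_of_finite _ _
      obtain ⟨ℓ, s, hℓ⟩ := Module.FinitePresentation.exists_lift_of_isLocalizedModule (nonZeroDivisors Ā)
        (Algebra.linearMap Ā F) G
      refine ⟨ℓ, fun h0 => hL ?_⟩
      have := LinearMap.congr_fun hℓ 1
      rw [h0, LinearMap.comp_apply, LinearMap.zero_apply, map_zero] at this
      rw [LinearMap.smul_apply, Submonoid.smul_def, Algebra.smul_def] at this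
      exact (mul_eq_zero.1 this.symm).resolve_left (by
        rw [map_eq_zero_iff _ (IsFractionRing.injective Ā F)]; exact nonZeroDivisors.ne_zero s.2)
    let ι : Ā →ₗ[A] A := Submodule.liftQ p (LinearMap.toSpanSingleton A A z) fun a ha => by
      rw [LinearMap.mem_ker, LinearMap.toSpanSingleton_apply, smul_eq_mul, (hzero a).2 ha]
    have hι : Function.Injective ι := (injective_iff_map_eq_zero ι).2 fun y hy => by
      obtain ⟨a, rfl⟩ := Submodule.Quotient.mk_surjective p y
      rw [Submodule.Quotient.mk_eq_zero, ← hzero]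
      exact hy
    let φ : Disc.Omega A B := ⟨ι ∘ₗ ℓ.restrictScalars A ∘ₗ (Ideal.Quotient.mkₐ A q).toLinearMap⟩
    refine isAssociatedPrime_iff.2 ⟨hq, φ, ?_⟩
    ext b
    rw [Submodule.mem_colon_singleton, Submodule.mem_bot]
    constructor
    · intro hb
      refine Disc.Omega.ext (LinearMap.ext fun x => ?_)
      show ι (ℓ (Ideal.Quotient.mk q (b * x))) = 0
      rw [Ideal.Quotient.eq_zero_iff_mem.2 (q.mul_mem_right x hb), map_zero, map_zero]
    · intro hb
      by_contra hbq
      haveI : Algebra.IsIntegral Ā (B ⧸ q) := Algebra.IsIntegral.of_finite _ _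
      have hb0 : Ideal.Quotient.mk q b ≠ 0 := fun h => hbq (Ideal.Quotient.eq_zero_iff_mem.1 h)
      obtain ⟨a, ha, hab⟩ : ∃ a : Ā, a ≠ 0 ∧ algebraMap Ā (B ⧸ q) a ∈ Ideal.span {Ideal.Quotient.mk q b} := by
        have := Ideal.comap_ne_bot_of_integral_mem (R := Ā) (I := Ideal.span {Ideal.Quotient.mk q b}) hb0
          (Ideal.mem_span_singleton_self _) (Algebra.IsIntegral.isIntegral _)
        obtain ⟨a, ha, hne⟩ := Submodule.exists_mem_ne_zero_of_ne_bot this
        exact ⟨a, hne, ha⟩
      obtain ⟨c, hc⟩ := Ideal.mem_span_singleton'.1 hab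
      refine hℓ (LinearMap.ext fun x => ?_)
      obtain ⟨x, rfl⟩ := Ideal.Quotient.mk_surjective x
      obtain ⟨c, rfl⟩ := Ideal.Quotient.mk_surjective c
      have h0 : ι (ℓ (Ideal.Quotient.mk q (b * (c * x)))) = 0 :=
        congrArg (fun l : Disc.Omega A B => l.toLinearMap (c * x)) hb
      rw [map_eq_zero_iff ι hι, ← mul_assoc, mul_comm b c, map_mul (Ideal.Quotient.mk q), map_mul (Ideal.Quotient.mk q), hc, ← Algebra.smul_def, map_smul, smul_eq_mul] at h0
      exact (mul_eq_zero.1 h0).resolve_left ha

end Omega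

end Groth.Agent.H05EGA4.QFLocal
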