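import Mathlib
import Groth.Agent.H17.Dim

/-!
The dimension of the source of a morphism with fibres of bounded dimension.
-/

set_option autoImplicit false
universe u
open AlgebraicGeometry CategoryTheory Order

namespace Groth.Agent.H05EGA4.DimFibre

attribute [local instance] specializationOrder

variable {X Y : Scheme.{u}}

theorem stalkDim_le_top (x : X) : ringKrullDim (X.presheaf.stalk x) ≤ topologicalKrullDim X := by
  rw [ringKrullDim_stalk_eq_coheight, H17.topologicalKrullDim_eq_krullDim_specialization]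
  exact Order.coheight_le_krullDim x

theorem stalkDim_le_add (f : X ⟶ Y) [IsLocallyNoetherian Y] [LocallyOfFiniteType f] (x : X) :
    ringKrullDim (X.presheaf.stalk x) ≤
      ringKrullDim (Y.presheaf.stalk (f x)) + topologicalKrullDim (f.fiber (f x)) := by
  obtain ⟨V, hV, hyV, -⟩ := exists_isAffineOpen_mem_and_subset (X := Y) (x := f x) (U := ⊤) trivial
  obtain ⟨U, hU, hxU, hUV⟩ := exists_isAffineOpen_mem_and_subset (X := X) (x := x) (U := f ⁻¹ᵁ V) hyV
  haveI : IsLocallyNoetherian X := LocallyOfFiniteType.isLocallyNoetherian f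
  haveI : IsNoetherianRing Γ(X, U) := IsLocallyNoetherian.component_noetherian ⟨U, hU⟩
  haveI : IsNoetherianRing Γ(Y, V) := IsLocallyNoetherian.component_noetherian ⟨V, hV⟩
  algebraize [(f.appLE V U hUV).hom]
  set p := (hV.primeIdealOf ⟨f x, hyV⟩).asIdeal with hp
  set q := (hU.primeIdealOf ⟨x, hxU⟩).asIdeal with hq
  have hqp : q.comap (f.appLE V U hUV).hom = p :=
    congrArg PrimeSpectrum.asIdeal (IsAffineOpen.comap_primeIdealOf_appLE (f := f) V hV U hU hUV hxU)
  have e1 : ringKrullDim (X.presheaf.stalk x) = q.height := by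
    letI := TopCat.Presheaf.algebra_section_stalk X.presheaf (⟨x, hxU⟩ : U)
    haveI := hU.isLocalization_stalk ⟨x, hxU⟩
    exact IsLocalization.AtPrime.ringKrullDim_eq_height _ _
  have e2 : ringKrullDim (Y.presheaf.stalk (f x)) = p.height := by
    letI := TopCat.Presheaf.algebra_section_stalk Y.presheaf (⟨f x, hyV⟩ : V)
    haveI := hV.isLocalization_stalk ⟨f x, hyV⟩
    exact IsLocalization.AtPrime.ringKrullDim_eq_height _ _
  haveI : p.IsPrime := (hV.primeIdealOf ⟨f x, hyV⟩).isPrime
  haveI : q.IsPrime := (hU.primeIdealOf ⟨x, hxU⟩).isPrime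
  haveI : q.LiesOver p := ⟨hqp.symm⟩
  rw [e1, e2]
  refine (WithBot.coe_le_coe.mpr (Ideal.height_le_height_add_of_liesOver p q)).trans ?_
  rw [WithBot.coe_add]
  refine add_le_add le_rfl ?_
  -- chains in the fibre
  set I := p.map (algebraMap Γ(Y, V) Γ(X, U))
  have hle : I ≤ q := Ideal.map_le_iff_le_comap.mpr hqp.ge
  haveI : (q.map (Ideal.Quotient.mk I)).IsPrime := Ideal.isPrime_map_quotientMk_of_isPrime hle
  let qb : PrimeSpectrum (Γ(X, U) ⧸ I) := ⟨q.map (Ideal.Quotient.mk I), inferInstance⟩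
  rw [show (q.map (Ideal.Quotient.mk I)).height = Order.height qb from PrimeSpectrum.height_eq_orderHeight qb]
  let pt : Set.Iic qb → X := fun P => hU.fromSpec (PrimeSpectrum.comap (Ideal.Quotient.mk I) P.1)
  have hpt : ∀ P, f (pt P) = f x := fun P => by
    have hPU : pt P ∈ U := by
      have : pt P ∈ Set.range hU.fromSpec := ⟨_, rfl⟩
      rwa [hU.range_fromSpec] at this
    have hPQ : hU.primeIdealOf ⟨pt P, hPU⟩ = PrimeSpectrum.comap (Ideal.Quotient.mk I) P.1 := by
      apply hU.fromSpec.isOpenEmbedding.injective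
      rw [hU.fromSpec_primeIdealOf]
    have h1 : hV.primeIdealOf ⟨f (pt P), hUV hPU⟩ = hV.primeIdealOf ⟨f x, hyV⟩ := by
      rw [← IsAffineOpen.comap_primeIdealOf_appLE (f := f) V hV U hU hUV hPU, hPQ]
      refine PrimeSpectrum.ext (le_antisymm ?_ ?_)
      · refine (Ideal.comap_mono (Ideal.comap_mono (K := P.1.asIdeal) (L := qb.asIdeal) P.2)).trans ?_
        show Ideal.comap _ (Ideal.comap (Ideal.Quotient.mk I) (q.map (Ideal.Quotient.mk I))) ≤ p
        rw [Ideal.comap_map_of_surjective' _ Ideal.Quotient.mk_surjective, Ideal.mk_ker, sup_eq_left.mpr hle]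
        exact hqp.le
      · intro a ha
        show Ideal.Quotient.mk I (algebraMap Γ(Y, V) Γ(X, U) a) ∈ P.1.asIdeal
        rw [Ideal.Quotient.eq_zero_iff_mem.mpr (Ideal.mem_map_of_mem _ ha)]
        exact zero_mem _
    have := congrArg (fun z => hV.fromSpec z) h1
    simp only [IsAffineOpen.fromSpec_primeIdealOf] at this
    exact this
  choose z hz using fun P => (show pt P ∈ Set.range (f.fiberι (f x)) by
    rw [Scheme.Hom.range_fiberι]; exact hpt P)
  rw [H17.topologicalKrullDim_eq_krullDim_specialization, Order.height_eq_krullDim_Iic,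
    ← Order.krullDim_orderDual (α := Set.Iic qb)]
  refine Order.krullDim_le_of_strictMono (fun P => z (OrderDual.ofDual P)) fun P Q hPQ => ?_
  have h2 : ∀ P Q : Set.Iic qb, P ≤ Q → z Q ≤ z P := fun P Q h => by
    show z P ⤳ z Q
    rw [← (f.fiberι (f x)).isEmbedding.isInducing.specializes_iff, hz, hz]
    exact ((PrimeSpectrum.le_iff_specializes _ _).mp (Ideal.comap_mono h)).map hU.fromSpec.continuous
  have h3 : ∀ P Q : Set.Iic qb, z P = z Q → P = Q := fun P Q h => by
    have h4 : pt P = pt Q := by rw [← hz, ← hz, h]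
    exact Subtype.ext (PrimeSpectrum.comap_injective_of_surjective _ Ideal.Quotient.mk_surjective
      (hU.fromSpec.isOpenEmbedding.injective h4))
  exact lt_of_le_of_ne (h2 _ _ hPQ.le) fun h => hPQ.ne (congrArg OrderDual.toDual (h3 _ _ h))

theorem dim_le_add (f : X ⟶ Y) [IsLocallyNoetherian Y] [LocallyOfFiniteType f] (n : WithBot ℕ∞)
    (h : ∀ y : Y, topologicalKrullDim (f.fiber y) ≤ n) :
    topologicalKrullDim X ≤ topologicalKrullDim Y + n := by
  rw [H17.topologicalKrullDim_eq_krullDim_specialization X]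
  rcases isEmpty_or_nonempty X with hX | hX
  · rw [Order.krullDim_eq_bot]; exact bot_le
  rw [Order.krullDim_eq_iSup_coheight]
  refine iSup_le fun x => ?_
  rw [← ringKrullDim_stalk_eq_coheight x]
  exact (stalkDim_le_add f x).trans (add_le_add (stalkDim_le_top (f x)) (h _))

end Groth.Agent.H05EGA4.DimFibre
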