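import Mathlib

/-!
Going down for flat modules and the lower bound for the dimension of a tensor product
(EGA IV 6.1.2).
-/

set_option autoImplicit false
set_option linter.style.haveILetI false
set_option linter.unusedSectionVars false
universe u
open Pointwise TensorProduct

namespace Groth.Agent.H05EGA4.FlatDim

variable {A B : Type u} [CommRing A] [CommRing B] [Algebra A B]
variable {N : Type u} [AddCommGroup N] [Module B N] [Module A N] [IsScalarTower A B N]

theorem mem_support_quotient {R M : Type u} [CommRing R] [AddCommGroup M] [Module R M] [Module.Finite R M]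
    {I : Ideal R} {p : PrimeSpectrum R} (hp : p ∈ Module.support R M) (hI : I ≤ p.asIdeal) :
    p ∈ Module.support R (M ⧸ I • (⊤ : Submodule R M)) := by
  rw [Module.support_quotient]
  exact ⟨hp, hI⟩

/-- A nonzero-divisor outside `p'` acts injectively on `N / p'N`. -/
theorem smul_regular_quotient [Module.Flat A N] (p : Ideal A) [p.IsPrime] {a : A} (ha : a ∉ p) :
    IsSMulRegular (N ⧸ (p.map (algebraMap A B) • (⊤ : Submodule B N))) a := by
  have h1 : Function.Injective ((LinearMap.lsmul A (A ⧸ p) a).lTensor N) := by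
    refine Module.Flat.lTensor_preserves_injective_linearMap _ fun x y hxy => ?_
    simp only [LinearMap.lsmul_apply] at hxy
    rw [← sub_eq_zero, ← smul_sub] at hxy
    obtain ⟨z, hz⟩ := Ideal.Quotient.mk_surjective (x - y)
    rw [← hz, ← Ideal.Quotient.mk_eq_mk, ← Submodule.Quotient.mk_smul, Ideal.Quotient.mk_eq_mk,
      Ideal.Quotient.eq_zero_iff_mem, smul_eq_mul] at hxy
    rw [← sub_eq_zero, ← hz, Ideal.Quotient.eq_zero_iff_mem]
    exact (Ideal.IsPrime.mem_or_mem ‹_› hxy).resolve_left ha
  have h2 : p • (⊤ : Submodule A N) = (p.map (algebraMap A B) • (⊤ : Submodule B N)).restrictScalars A := by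
    rw [Ideal.smul_restrictScalars, Submodule.restrictScalars_top]
  intro x y hxy
  obtain ⟨x, rfl⟩ := Submodule.Quotient.mk_surjective _ x
  obtain ⟨y, rfl⟩ := Submodule.Quotient.mk_surjective _ y
  simp only [← Submodule.Quotient.mk_smul] at hxy
  rw [Submodule.Quotient.eq, ← Submodule.restrictScalars_mem A, ← h2, ← smul_sub] at hxy
  rw [Submodule.Quotient.eq, ← Submodule.restrictScalars_mem A, ← h2]
  let e := TensorProduct.tensorQuotEquivQuotSMul (R := A) N p
  have hz : e.symm (Submodule.Quotient.mk (a • (x - y))) = 0 := by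
    rw [(Submodule.Quotient.mk_eq_zero _).mpr hxy, map_zero]
  rw [Submodule.Quotient.mk_smul, map_smul] at hz
  have h3 : (LinearMap.lsmul A (A ⧸ p) a).lTensor N (e.symm (Submodule.Quotient.mk (x - y))) =
      a • e.symm (Submodule.Quotient.mk (x - y)) := by
    have : (LinearMap.lsmul A (A ⧸ p) a).lTensor N = a • LinearMap.id := by
      refine TensorProduct.ext' fun n q => ?_
      simp
    rw [this]
    rfl
  rw [← Submodule.Quotient.mk_eq_zero]
  apply e.symm.injective
  rw [map_zero]
  apply h1
  rw [h3, hz, map_zero]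

/-- Going down for the support of a flat module. -/
theorem goingDown_support [IsNoetherianRing B] [Module.Finite B N] [Module.Flat A N]
    (P : PrimeSpectrum B) (hP : P ∈ Module.support B N) (p : PrimeSpectrum A)
    (hle : p ≤ PrimeSpectrum.comap (algebraMap A B) P) :
    ∃ Q ∈ Module.support B N, Q ≤ P ∧ PrimeSpectrum.comap (algebraMap A B) Q = p := by
  set J := p.asIdeal.map (algebraMap A B) with hJ
  have hJP : J ≤ P.asIdeal := Ideal.map_le_iff_le_comap.mpr hle
  have hT := mem_support_quotient hP hJP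
  rw [Module.support_eq_zeroLocus, PrimeSpectrum.mem_zeroLocus, SetLike.coe_subset_coe] at hT
  obtain ⟨q, hq, hqP⟩ := Ideal.exists_minimalPrimes_le (J := P.asIdeal) hT
  haveI := hq.isPrime
  let Q : PrimeSpectrum B := ⟨q, hq.isPrime⟩
  have hQ : Q ∈ Module.support B (N ⧸ J • (⊤ : Submodule B N)) := by
    rw [Module.support_eq_zeroLocus]
    exact hq.1.2
  rw [Module.support_quotient] at hQ
  refine ⟨Q, hQ.1, hqP, PrimeSpectrum.ext ?_⟩
  refine le_antisymm (fun a ha => ?_) ((Ideal.map_le_iff_le_comap).mp hQ.2)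
  by_contra hap
  have hass : IsAssociatedPrime q (N ⧸ J • (⊤ : Submodule B N)) :=
    Module.associatedPrimes.minimalPrimes_annihilator_subset_associatedPrimes B _ hq
  obtain ⟨-, t, ht⟩ := isAssociatedPrime_iff.mp hass
  have hne : t ≠ 0 := by
    rintro rfl
    exact hq.isPrime.ne_top (ht.trans (by simp [Submodule.colon_singleton_zero]))
  have hmem : algebraMap A B a • t = 0 := by
    have : algebraMap A B a ∈ q := ha
    rw [ht] at this
    simpa [Submodule.mem_colon_singleton] using this
  rw [algebraMap_smul] at hmem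
  exact hne ((smul_regular_quotient p.asIdeal hap) (hmem.trans (smul_zero a).symm))

theorem mem_support_tensor [IsNoetherianRing B] [Module.Finite B N] {M : Type u} [AddCommGroup M] [Module A M]
    [Module.Finite A M] [Module.Finite B (N ⊗[A] M)] (P : PrimeSpectrum B) :
    P ∈ Module.support B (N ⊗[A] M) ↔
      P ∈ Module.support B N ∧ PrimeSpectrum.comap (algebraMap A B) P ∈ Module.support A M := by
  rw [Module.mem_support_iff_nontrivial_residueField_tensorProduct,
    Module.mem_support_iff_nontrivial_residueField_tensorProduct,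
    Module.mem_support_iff_nontrivial_residueField_tensorProduct]
  let p := PrimeSpectrum.comap (algebraMap A B) P
  let k := p.asIdeal.ResidueField
  let K := P.asIdeal.ResidueField
  letI : Algebra k K := (Ideal.ResidueField.map p.asIdeal P.asIdeal (algebraMap A B) rfl).toAlgebra
  haveI : IsScalarTower A k K := IsScalarTower.of_algebraMap_eq fun x => by
    simp [RingHom.algebraMap_toAlgebra, k, K, IsScalarTower.algebraMap_apply A B P.asIdeal.ResidueField]
  let X := K ⊗[B] N
  let Y := k ⊗[A] M
  have e : (K ⊗[B] (N ⊗[A] M)) ≃ₗ[K] X ⊗[A] M := (AlgebraTensorModule.assoc A B K K N M).symm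
  have e2 : X ⊗[A] M ≃ₗ[K] X ⊗[K] (K ⊗[k] Y) :=
    ((AlgebraTensorModule.congr (LinearEquiv.refl K X) (LinearEquiv.refl A M))) ≪≫ₗ
      ((AlgebraTensorModule.cancelBaseChange A K K X M).symm ≪≫ₗ
        TensorProduct.congr (LinearEquiv.refl K X) (AlgebraTensorModule.cancelBaseChange A k K K M).symm)
  rw [(e ≪≫ₗ e2).nontrivial_congr]
  constructor
  · intro h
    refine ⟨?_, ?_⟩
    · by_contra hX
      rw [not_nontrivial_iff_subsingleton] at hX
      exact false_of_nontrivial_of_subsingleton (X ⊗[K] (K ⊗[k] Y))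
    · by_contra hY
      rw [not_nontrivial_iff_subsingleton] at hY
      exact false_of_nontrivial_of_subsingleton (X ⊗[K] (K ⊗[k] Y))
  · rintro ⟨hX, hY⟩
    haveI : Nontrivial X := hX
    haveI : Nontrivial Y := hY
    haveI : Nontrivial (K ⊗[k] Y) := inferInstance
    infer_instance

/-- Lift a chain of `Spec A` below the contraction of a prime in the support of a flat module. -/
theorem exists_lift_series [IsNoetherianRing B] [Module.Finite B N] [Module.Flat A N] :
    ∀ (n : ℕ) (l : LTSeries (PrimeSpectrum A)), l.length = n → ∀ (P : PrimeSpectrum B), P ∈ Module.support B N →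
      l.last ≤ PrimeSpectrum.comap (algebraMap A B) P →
      ∃ L : LTSeries (PrimeSpectrum B), L.length = n ∧ L.last ≤ P ∧
        PrimeSpectrum.comap (algebraMap A B) L.last = l.last ∧
        ∀ i, L i ∈ Module.support B N ∧ ∃ j, PrimeSpectrum.comap (algebraMap A B) (L i) = l j := by
  intro n
  induction n with
  | zero =>
    intro l hl P hP hle
    obtain ⟨Q, hQ, hQP, hQe⟩ := goingDown_support P hP l.last hle
    exact ⟨RelSeries.singleton _ Q, rfl, hQP, hQe, fun i => ⟨hQ, Fin.last _, hQe⟩⟩
  | succ n ih =>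
    intro l hl P hP hle
    obtain ⟨Q, hQ, hQP, hQe⟩ := goingDown_support P hP l.last hle
    have h0 : l.length ≠ 0 := by omega
    have hel : l.eraseLast.last < l.last := l.eraseLast_last_rel_last h0
    obtain ⟨L, hL, hLQ, hLe, hLs⟩ := ih l.eraseLast (by simp [hl]) Q hQ (hel.le.trans hQe.ge)
    have hlt : L.last < Q := lt_of_le_of_ne hLQ fun h => hel.ne (by rw [← hLe, h, hQe])
    refine ⟨L.snoc Q hlt, by simp [hL], by simpa using hQP, by simpa using hQe, fun i => ?_⟩
    refine Fin.lastCases ?_ (fun i => ?_) i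
    · have he : (L.snoc Q hlt) (Fin.last _) = Q := RelSeries.last_snoc L Q hlt
      exact ⟨by rw [he]; exact hQ, Fin.last _, by rw [he]; exact hQe⟩
    · obtain ⟨h1, j, hj⟩ := hLs i
      have he : (L.snoc Q hlt) i.castSucc = L i := RelSeries.snoc_castSucc L Q hlt i
      refine ⟨by rw [he]; exact h1, ⟨j.1, by have := j.2; simp [RelSeries.eraseLast] at this; omega⟩, ?_⟩
      rw [he, hj]
      rfl

/-- `dim M + dim N/mN ≤ dim (N ⊗ M)`. -/
theorem add_supportDim_le [IsNoetherianRing B] [Module.Finite B N] [Module.Flat A N]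
    {M : Type u} [AddCommGroup M] [Module A M] [Module.Finite A M] [Module.Finite B (N ⊗[A] M)]
    (m : Ideal A) (hm : ∀ p ∈ Module.support A M, p.asIdeal ≤ m)
    [Nontrivial M] [Nontrivial (N ⧸ m.map (algebraMap A B) • (⊤ : Submodule B N))] [m.IsMaximal] :
    Module.supportDim A M + Module.supportDim B (N ⧸ m.map (algebraMap A B) • (⊤ : Submodule B N)) ≤
      Module.supportDim B (N ⊗[A] M) := by
  have hmM : (⟨m, inferInstance⟩ : PrimeSpectrum A) ∈ Module.support A M := by
    obtain ⟨p, hp⟩ := (Module.nonempty_support_iff (R := A)).mpr ‹Nontrivial M›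
    exact Module.mem_support_mono (q := ⟨m, inferInstance⟩) (hm p hp) hp
  haveI : Nonempty (Module.support A M) := ⟨⟨_, hmM⟩⟩
  have hsupp : ∀ Q : PrimeSpectrum B, Q ∈ Module.support B (N ⧸ m.map (algebraMap A B) • (⊤ : Submodule B N)) →
      Q ∈ Module.support B N ∧ (⟨m, inferInstance⟩ : PrimeSpectrum A) ≤ PrimeSpectrum.comap (algebraMap A B) Q := by
    intro Q hQ
    rw [Module.support_quotient] at hQ
    exact ⟨hQ.1, (Ideal.map_le_iff_le_comap (f := algebraMap A B) (I := m) (K := Q.asIdeal)).mp hQ.2⟩
  haveI : Nonempty (Module.support B (N ⧸ m.map (algebraMap A B) • (⊤ : Submodule B N))) :=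
    ((Module.nonempty_support_iff (R := B)).mpr ‹_›).to_subtype
  unfold Module.supportDim
  simp only [Order.krullDim_eq_iSup_length (α := Module.support A M),
    Order.krullDim_eq_iSup_length (α := Module.support B (N ⧸ m.map (algebraMap A B) • (⊤ : Submodule B N)))]
  rw [← WithBot.coe_add]
  haveI : Nonempty (Module.support B (N ⊗[A] M)) := by
    obtain ⟨Q, hQ⟩ := (Module.nonempty_support_iff (R := B)).mpr ‹Nontrivial (N ⧸ m.map (algebraMap A B) • (⊤ : Submodule B N))›
    exact ⟨⟨Q, (mem_support_tensor Q).mpr ⟨(hsupp Q hQ).1,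
      Module.mem_support_mono (p := ⟨m, inferInstance⟩) (hsupp Q hQ).2 hmM⟩⟩⟩
  rw [Order.krullDim_eq_iSup_length, WithBot.coe_le_coe]
  refine ENat.iSup_add_iSup_le fun p q => ?_
  let l : LTSeries (PrimeSpectrum A) := LTSeries.mk p.length (fun i => (p i).1) fun _ _ h => p.strictMono h
  let r : LTSeries (PrimeSpectrum B) := LTSeries.mk q.length (fun i => (q i).1) fun _ _ h => q.strictMono h
  have hr : ∀ i, r i ∈ Module.support B N ∧ PrimeSpectrum.comap (algebraMap A B) (r i) ∈ Module.support A M :=
    fun i => ⟨(hsupp _ (q i).2).1, Module.mem_support_mono (p := ⟨m, inferInstance⟩) (hsupp _ (q i).2).2 hmM⟩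
  have hle : l.last ≤ PrimeSpectrum.comap (algebraMap A B) r.head :=
    le_trans (show l.last ≤ (⟨m, inferInstance⟩ : PrimeSpectrum A) from hm _ (p (Fin.last _)).2) (hsupp _ (q 0).2).2
  obtain ⟨L, hL, hLr, hLe, hLs⟩ := exists_lift_series l.length l rfl r.head (hr 0).1 hle
  have hs : ∀ i, L i ∈ Module.support B (N ⊗[A] M) := fun i => by
    obtain ⟨h1, j, hj⟩ := hLs i
    exact (mem_support_tensor _).mpr ⟨h1, hj ▸ (p j).2⟩
  have ht : ∀ i, r i ∈ Module.support B (N ⊗[A] M) := fun i => (mem_support_tensor _).mpr (hr i)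
  let L' : LTSeries (Module.support B (N ⊗[A] M)) := LTSeries.mk L.length (fun i => ⟨L i, hs i⟩) fun _ _ h => L.strictMono h
  let r' : LTSeries (Module.support B (N ⊗[A] M)) := LTSeries.mk r.length (fun i => ⟨r i, ht i⟩) fun _ _ h => r.strictMono h
  rcases eq_or_lt_of_le hLr with h | h
  · have hc : L'.last = r'.head := Subtype.ext h
    refine le_trans ?_ (le_iSup _ (L'.smash r' hc))
    simp [L', r', l, r, hL]
  · have hc : L'.last < r'.head := h
    refine le_trans ?_ (le_iSup _ (L'.append r' hc))
    simp [L', r', l, r, hL]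

theorem finite_tensor [Module.Finite B N] (M : Type u) [AddCommGroup M] [Module A M] [Module.Finite A M] :
    Module.Finite B (N ⊗[A] M) :=
  Module.Finite.equiv (AlgebraTensorModule.cancelBaseChange A B B N M)

/-- `dim M ≤ dim (N ⊗ M)` when every point of `supp M` specialises to a point of the image of `supp N`. -/
theorem supportDim_le_tensor [IsNoetherianRing B] [Module.Finite B N] [Module.Flat A N]
    {M : Type u} [AddCommGroup M] [Module A M] [Module.Finite A M]
    (hN : ∀ p ∈ Module.support A M, ∃ Q ∈ Module.support B N, p ≤ PrimeSpectrum.comap (algebraMap A B) Q) :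
    Module.supportDim A M ≤ Module.supportDim B (N ⊗[A] M) := by
  haveI := finite_tensor (A := A) (B := B) (N := N) M
  refine iSup_le fun p => ?_
  let l : LTSeries (PrimeSpectrum A) := LTSeries.mk p.length (fun i => (p i).1) fun _ _ h => p.strictMono h
  obtain ⟨Q, hQ, hle⟩ := hN _ (p (Fin.last _)).2
  obtain ⟨L, hL, -, -, hLs⟩ := exists_lift_series l.length l rfl Q hQ hle
  have hs : ∀ i, L i ∈ Module.support B (N ⊗[A] M) := fun i => by
    obtain ⟨h1, j, hj⟩ := hLs i
    exact (mem_support_tensor _).mpr ⟨h1, hj ▸ (p j).2⟩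
  let L' : LTSeries (Module.support B (N ⊗[A] M)) := LTSeries.mk L.length (fun i => ⟨L i, hs i⟩) fun _ _ h => L.strictMono h
  refine le_trans ?_ (Order.LTSeries.length_le_krullDim L')
  simp [L', l, hL]

end Groth.Agent.H05EGA4.FlatDim
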