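import Mathlib
import Groth.Agent.H22Alg.FiniteLength
import Groth.Agent.H22Alg.SamuelGrowth

/-!
Hilbert–Samuel functions over semilocal Noetherian rings: polynomiality, degree and dimension.
-/

set_option autoImplicit false
set_option linter.style.haveILetI false
set_option linter.unusedSectionVars false
universe u

open Polynomial Filter Pointwise

namespace Groth.Agent.H05EGA4.Samuel

/-! ### Polynomials on natural numbers -/

theorem exists_antidiff (Q : ℚ[X]) : ∃ P : ℚ[X], P.comp (X + 1) - P = Q := by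
  suffices h : ∀ n, ∀ Q : ℚ[X], (∀ j, n ≤ j → Q.coeff j = 0) → ∃ P : ℚ[X], P.comp (X + 1) - P = Q from
    h (Q.natDegree + 1) Q fun j hj => coeff_eq_zero_of_natDegree_lt hj
  intro n
  induction n with
  | zero => exact fun Q hQ => ⟨0, by ext j; simp [hQ j (Nat.zero_le j)]⟩
  | succ n ih =>
    intro Q hQ
    let P0 : ℚ[X] := C (Q.coeff n / (n + 1)) * X ^ (n + 1)
    obtain ⟨P, hP⟩ := ih (Q - (P0.comp (X + 1) - P0)) fun j hj => by
      have hc : P0.comp (X + 1) - P0 = C (Q.coeff n / (n + 1)) * ((X + 1) ^ (n + 1) - X ^ (n + 1)) := by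
        simp [P0, mul_sub]
      rw [coeff_sub, hc, coeff_C_mul, coeff_sub, coeff_X_add_one_pow, coeff_X_pow]
      rcases eq_or_lt_of_le hj with rfl | hj'
      · rw [if_neg (Nat.ne_of_lt n.lt_succ_self), Nat.choose_succ_self_right]
        push_cast
        field_simp
        ring
      · rcases eq_or_lt_of_le (Nat.succ_le_of_lt hj') with rfl | hj''
        · simp [hQ _ le_rfl]
        · simp [hQ j hj''.le, Nat.choose_eq_zero_of_lt hj'', (Nat.ne_of_lt hj'').symm]
    exact ⟨P + P0, by rw [add_comp, add_sub_add_comm, hP, sub_add_cancel]⟩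

theorem exists_polynomial_of_diff {f : ℕ → ℚ} {Q : ℚ[X]}
    (h : ∀ᶠ n in atTop, f (n + 1) - f n = Q.eval (n : ℚ)) :
    ∃ P : ℚ[X], ∀ᶠ n in atTop, f n = P.eval (n : ℚ) := by
  obtain ⟨P, hP⟩ := exists_antidiff Q
  obtain ⟨N, hN⟩ := eventually_atTop.mp h
  refine ⟨P + C (f N - P.eval (N : ℚ)), eventually_atTop.mpr ⟨N, fun n hn => ?_⟩⟩
  induction hn with
  | refl => simp
  | @step n hn ih =>
    have h1 := hN n hn
    rw [← hP] at h1
    simp only [eval_sub, eval_comp, eval_add, eval_X, eval_one] at h1
    simp only [eval_add, eval_C, Nat.cast_succ] at ih ⊢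
    linarith

theorem eq_zero_of_eventually {P : ℚ[X]} (h : ∀ᶠ n : ℕ in atTop, P.eval (n : ℚ) = 0) : P = 0 := by
  obtain ⟨N, hN⟩ := eventually_atTop.mp h
  refine eq_zero_of_infinite_isRoot P (Set.Infinite.mono (s := (fun n : ℕ => (n : ℚ)) '' Set.Ici N) ?_ ?_)
  · rintro _ ⟨n, hn, rfl⟩
    exact hN n hn
  · exact (Set.Ici_infinite N).image Nat.cast_injective.injOn

theorem natDegree_le_of_le {P Q : ℚ[X]}
    (h : ∀ᶠ n : ℕ in atTop, 0 ≤ P.eval (n : ℚ) ∧ P.eval (n : ℚ) ≤ Q.eval (n : ℚ)) :
    P.natDegree ≤ Q.natDegree := by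
  rcases eq_or_ne Q 0 with rfl | hQ
  · rw [eq_zero_of_eventually (P := P) (h.mono fun n hn => le_antisymm (hn.2.trans (by simp)) hn.1)]
  by_contra hlt
  have hP : P ≠ 0 := fun h0 => by simp [h0] at hlt
  have hdeg : Q.degree < P.degree := (degree_lt_degree (not_le.mp hlt))
  have ht := (P.abs_div_tendsto_atTop_atTop_of_degree_gt Q hdeg hQ).comp tendsto_natCast_atTop_atTop
  have hf : ∀ᶠ n : ℕ in atTop, False := by
    filter_upwards [h, ht.eventually_gt_atTop 1] with n hn hn'
    simp only [Function.comp_apply, abs_div, abs_of_nonneg hn.1, abs_of_nonneg (hn.1.trans hn.2)] at hn'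
    exact absurd ((div_le_one_of_le₀ hn.2 (hn.1.trans hn.2))) (not_le.mpr hn')
  exact hf.exists.elim fun _ => id

theorem natDegree_sub_comp_le {P : ℚ[X]} {d : ℕ} (hP : P.natDegree ≤ d + 1) (c : ℚ) :
    (P - P.comp (X - C c)).natDegree ≤ d := by
  rw [natDegree_le_iff_coeff_eq_zero]
  intro N hN
  rcases eq_or_lt_of_le (Nat.succ_le_of_lt hN) with rfl | hN'
  · have hdecomp : P = C (P.coeff (d + 1)) * X ^ (d + 1) + P.erase (d + 1) := by
      rw [C_mul_X_pow_eq_monomial, monomial_add_erase]
    have her : (P.erase (d + 1)).natDegree ≤ d := natDegree_le_iff_coeff_eq_zero.mpr fun j hj => by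
      rw [coeff_erase]
      split
      · rfl
      · exact coeff_eq_zero_of_natDegree_lt (by omega)
    have h2 : ((X - C c) ^ (d + 1) : ℚ[X]).coeff (d + 1) = 1 := by
      have := ((monic_X_sub_C c).pow (d + 1)).coeff_natDegree
      rwa [natDegree_pow, natDegree_X_sub_C, mul_one] at this
    have h3 : ((P.erase (d + 1)).comp (X - C c)).coeff (d + 1) = 0 := coeff_eq_zero_of_natDegree_lt
      (by rw [natDegree_comp, natDegree_X_sub_C, mul_one]; omega)
    conv_lhs => rw [Nat.succ_eq_add_one, coeff_sub, hdecomp]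
    simp [add_comp, mul_comp, h2, h3, coeff_erase]
  · rw [coeff_sub, coeff_eq_zero_of_natDegree_lt (by omega),
      coeff_eq_zero_of_natDegree_lt (by rw [natDegree_comp, natDegree_X_sub_C, mul_one]; omega), sub_zero]

theorem sub_comp_eq_zero {P : ℚ[X]} (hP : P.natDegree = 0) (c : ℚ) : P - P.comp (X - C c) = 0 := by
  rw [eq_C_of_natDegree_eq_zero hP]
  simp

/-! ### Lengths of quotients -/

variable {A : Type u} [CommRing A] {M : Type u} [AddCommGroup M] [Module A M]

/-- The colength. -/
noncomputable def coLen (S : Submodule A M) : ℕ := (Module.length A (M ⧸ S)).toNat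

theorem length_quotient_ne_top {S T : Submodule A M} (h : S ≤ T) (hS : Module.length A (M ⧸ S) ≠ ⊤) :
    Module.length A (M ⧸ T) ≠ ⊤ :=
  ne_top_of_le_ne_top hS (Module.length_le_of_surjective (Submodule.factor h) (Submodule.factor_surjective h))

theorem coLen_le_coLen {S T : Submodule A M} (h : S ≤ T) (hS : Module.length A (M ⧸ S) ≠ ⊤) :
    coLen T ≤ coLen S :=
  ENat.toNat_le_toNat (Module.length_le_of_surjective (Submodule.factor h) (Submodule.factor_surjective h)) hS

theorem coLen_eq_add {S T : Submodule A M} (h : S ≤ T) (hS : Module.length A (M ⧸ S) ≠ ⊤) :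
    coLen S = (Module.length A (T.map S.mkQ)).toNat + coLen T := by
  have hex : Function.Exact (T.map S.mkQ).subtype (Submodule.factor h) := by
    rw [LinearMap.exact_iff, Submodule.range_subtype]
    ext y
    obtain ⟨y, rfl⟩ := Submodule.mkQ_surjective S y
    rw [LinearMap.mem_ker]
    show (Submodule.Quotient.mk y : M ⧸ T) = 0 ↔ _
    rw [Submodule.Quotient.mk_eq_zero]
    refine ⟨fun hy => ⟨y, hy, rfl⟩, ?_⟩
    rintro ⟨t, ht, hty⟩
    have h1 : t - y ∈ S := (Submodule.Quotient.eq S).mp hty
    simpa using sub_mem ht (h h1)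
  have h1 := Module.length_eq_add_of_exact _ _ (Submodule.subtype_injective _) (Submodule.factor_surjective h) hex
  rw [h1] at hS
  rw [coLen, h1, ENat.toNat_add (fun h => hS (by simp [h])) (length_quotient_ne_top h (by rwa [h1]))]
  rfl

/-- The two ways to measure the image of a scalar multiplication. -/
theorem coLen_smul_sub {S U : Submodule A M} (a : A)
    (hS : Module.length A (M ⧸ S) ≠ ⊤) (hU : Module.length A (M ⧸ (U ⊓ S.comap (LinearMap.lsmul A M a))) ≠ ⊤) :
    (coLen S : ℚ) - coLen (S ⊔ U.map (LinearMap.lsmul A M a)) =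
      (coLen (U ⊓ S.comap (LinearMap.lsmul A M a)) : ℚ) - coLen U := by
  let ψ := LinearMap.lsmul A M a
  let V := U ⊓ S.comap ψ
  let f : U →ₗ[A] M ⧸ S := S.mkQ.comp (ψ.comp U.subtype)
  let g : U →ₗ[A] M ⧸ V := V.mkQ.comp U.subtype
  have hf : LinearMap.range f = (S ⊔ U.map ψ).map S.mkQ := by
    rw [Submodule.map_sup, Submodule.mkQ_map_self, bot_sup_eq, LinearMap.range_comp, LinearMap.range_comp,
      Submodule.range_subtype]
  have hg : LinearMap.range g = U.map V.mkQ := by rw [LinearMap.range_comp, Submodule.range_subtype]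
  have hker : LinearMap.ker f = LinearMap.ker g := by
    ext x
    simp only [f, g, LinearMap.mem_ker, LinearMap.comp_apply, Submodule.subtype_apply, Submodule.mkQ_apply,
      Submodule.Quotient.mk_eq_zero]
    exact ⟨fun h => ⟨x.2, h⟩, fun h => h.2⟩
  have hlen : Module.length A ((S ⊔ U.map ψ).map S.mkQ) = Module.length A (U.map V.mkQ) := by
    rw [← hf, ← hg]
    exact (f.quotKerEquivRange.symm.trans ((Submodule.quotEquivOfEq _ _ hker).trans g.quotKerEquivRange)).length_eq
  rw [coLen_eq_add (le_sup_left : S ≤ S ⊔ U.map ψ) hS, coLen_eq_add (inf_le_left : V ≤ U) hU, hlen]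
  push_cast
  ring

/-! ### Hilbert–Serre for families of subquotients -/

/-- The family `W` is eventually generated by multiplication by the `x i` modulo `L`. -/
def Gen {s : ℕ} (x : Fin s → A) (L W : ℕ → Submodule A M) : Prop :=
  ∃ n₀, ∀ n, n₀ ≤ n → W (n + 1) ≤ L (n + 1) ⊔ ⨆ i, (W n).map (LinearMap.lsmul A M (x i))

/-- Stability. -/
def Stab {s : ℕ} (x : Fin s → A) (W : ℕ → Submodule A M) : Prop :=
  ∀ i n, (W n).map (LinearMap.lsmul A M (x i)) ≤ W (n + 1)

theorem hilbert_serre : ∀ (s : ℕ) (x : Fin s → A) (L U : ℕ → Submodule A M),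
    (∀ n, L n ≤ U n) → Stab x L → Stab x U → (∀ n, Module.length A (M ⧸ L n) ≠ ⊤) →
    (∀ W : ℕ → Submodule A M, (∀ n, L n ≤ W n ∧ W n ≤ U n) → Stab x W → Gen x L W) →
    ∃ P : ℚ[X], ∀ᶠ n in atTop, ((coLen (L n) : ℚ) - coLen (U n)) = P.eval (n : ℚ) := by
  intro s
  induction s with
  | zero =>
    intro x L U hLU _ hU _ hN
    obtain ⟨n₀, hn₀⟩ := hN U (fun n => ⟨hLU n, le_rfl⟩) hU
    refine ⟨0, eventually_atTop.mpr ⟨n₀ + 1, fun n hn => ?_⟩⟩
    obtain ⟨n, rfl⟩ : ∃ m, n = m + 1 := ⟨n - 1, by omega⟩
    have := hn₀ n (by omega)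
    rw [iSup_of_empty, sup_bot_eq] at this
    rw [le_antisymm (hLU _) this, sub_self, eval_zero]
  | succ s ih =>
    intro x L U hLU hL hU hfin hN
    let ψ := LinearMap.lsmul A M (x (Fin.last s))
    let y : Fin s → A := fun i => x i.castSucc
    have hcomm : ∀ (a b : A) (V : Submodule A M),
        (V.map (LinearMap.lsmul A M a)).map (LinearMap.lsmul A M b) =
          (V.map (LinearMap.lsmul A M b)).map (LinearMap.lsmul A M a) := fun a b V => by
      rw [← Submodule.map_comp, ← Submodule.map_comp]
      congr 1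
      ext m
      exact smul_comm b a m
    let UK : ℕ → Submodule A M := fun n => U n ⊓ (L (n + 1)).comap ψ
    let LC : ℕ → Submodule A M := fun n => L (n + 1) ⊔ (U n).map ψ
    have hLUK : ∀ n, L n ≤ UK n := fun n => le_inf (hLU n) (Submodule.map_le_iff_le_comap.mp (hL _ n))
    have hLCU : ∀ n, LC n ≤ U (n + 1) := fun n => sup_le (hLU _) (hU _ n)
    obtain ⟨PK, hPK⟩ := ih y L UK hLUK (fun i => hL _) (fun i n => by
      refine le_inf ((Submodule.map_mono inf_le_left).trans (hU _ n)) (Submodule.map_le_iff_le_comap.mp ?_)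
      rw [hcomm]
      exact (Submodule.map_mono (Submodule.map_le_iff_le_comap.mpr inf_le_right)).trans (hL _ (n + 1))) hfin
      (fun W hW hyW => by
        have hlast : ∀ n, (W n).map ψ ≤ L (n + 1) := fun n =>
          Submodule.map_le_iff_le_comap.mpr ((hW n).2.trans inf_le_right)
        obtain ⟨n₀, hn₀⟩ := hN W (fun n => ⟨(hW n).1, (hW n).2.trans inf_le_left⟩)
          (Fin.lastCases (fun n => (hlast n).trans (hW _).1) hyW)
        refine ⟨n₀, fun n hn => (hn₀ n hn).trans (sup_le le_sup_left (iSup_le ?_))⟩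
        exact Fin.lastCases ((hlast n).trans le_sup_left)
          fun i => le_sup_of_le_right (le_iSup (fun i => (W n).map (LinearMap.lsmul A M (y i))) i))
    obtain ⟨PC, hPC⟩ := ih y LC (fun n => U (n + 1)) hLCU (fun i n => by
      rw [Submodule.map_sup, hcomm]
      exact sup_le_sup (hL _ (n + 1)) (Submodule.map_mono (hU _ n)))
      (fun i n => hU _ (n + 1)) (fun n => length_quotient_ne_top le_sup_left (hfin (n + 1)))
      (fun W hW hyW => by
        let W' : ℕ → Submodule A M := fun n => Nat.casesOn n (L 0) W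
        obtain ⟨n₀, hn₀⟩ := hN W' (fun n => by
          cases n with
          | zero => exact ⟨le_rfl, hLU 0⟩
          | succ n => exact ⟨le_sup_left.trans (hW n).1, (hW n).2⟩) (fun i n => by
          cases n with
          | zero => exact (hL i 0).trans (le_sup_left.trans (hW 0).1)
          | succ n =>
            revert i
            exact Fin.lastCases ((Submodule.map_mono (hW n).2).trans (le_sup_right.trans (hW (n + 1)).1))
              fun i => hyW i n)
        refine ⟨n₀, fun n hn => (hn₀ (n + 1) (by omega)).trans (sup_le (le_sup_of_le_left le_sup_left) (iSup_le ?_))⟩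
        exact Fin.lastCases (le_sup_of_le_left ((Submodule.map_mono (hW n).2).trans le_sup_right))
          fun i => le_sup_of_le_right (le_iSup (fun i => (W n).map (LinearMap.lsmul A M (y i))) i))
    refine exists_polynomial_of_diff (Q := PC - PK) ?_
    filter_upwards [hPK, hPC] with n hk hc
    rw [eval_sub, ← hk, ← hc]
    have := coLen_smul_sub (x (Fin.last s)) (hfin (n + 1)) (length_quotient_ne_top (hLUK n) (hfin n))
    simp only [UK, LC, ψ]
    linarith

/-! ### The Hilbert–Samuel function at the Jacobson radical -/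

variable [IsNoetherianRing A] [Finite (MaximalSpectrum A)]

theorem isMaximal_of_jacobson_le {p : Ideal A} [hp : p.IsPrime] (h : Ring.jacobson A ≤ p) : p.IsMaximal := by
  classical
  haveI : Fintype (MaximalSpectrum A) := Fintype.ofFinite _
  have h1 : Finset.univ.inf (fun m : MaximalSpectrum A => m.asIdeal) ≤ Ring.jacobson A := by
    rw [Ring.jacobson_eq_sInf_isMaximal]
    exact le_sInf fun m hm => Finset.inf_le (f := fun m : MaximalSpectrum A => m.asIdeal) (Finset.mem_univ ⟨m, hm⟩)
  obtain ⟨m, -, hm⟩ := (Ideal.IsPrime.inf_le' hp).mp (h1.trans h)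
  rw [← m.isMaximal.eq_of_le hp.ne_top hm]
  exact m.isMaximal

variable (M) in
/-- The Hilbert–Samuel function. -/
noncomputable def samuel (n : ℕ) : ℕ := coLen (Ring.jacobson A ^ n • (⊤ : Submodule A M))

variable [Module.Finite A M]

theorem length_jacobson_ne_top (n : ℕ) :
    Module.length A (M ⧸ (Ring.jacobson A ^ n • (⊤ : Submodule A M))) ≠ ⊤ := by
  refine H22Alg.length_ne_top_of_support_maximal fun p hp => ?_
  refine isMaximal_of_jacobson_le (p.isPrime.le_of_pow_le (n := n) ?_)
  refine le_trans (fun a ha => Module.mem_annihilator.mpr fun z => ?_) (Module.mem_support_iff_of_finite.mp hp)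
  obtain ⟨z, rfl⟩ := Submodule.Quotient.mk_surjective _ z
  rw [← Submodule.Quotient.mk_smul, Submodule.Quotient.mk_eq_zero]
  exact Submodule.smul_mem_smul ha Submodule.mem_top

variable (A M) in
theorem exists_samuel_polynomial : ∃ P : ℚ[X], ∀ᶠ n in atTop, (samuel (A := A) M n : ℚ) = P.eval (n : ℚ) := by
  let r := Ring.jacobson A
  obtain ⟨s, x, hx⟩ := Submodule.fg_iff_exists_fin_generating_family.mp (IsNoetherian.noetherian r)
  let U : ℕ → Submodule A M := fun n => r ^ n • ⊤
  have hxm : ∀ i, x i ∈ r := fun i => hx ▸ Submodule.subset_span ⟨i, rfl⟩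
  have hmap : ∀ (V : Submodule A M) i, V.map (LinearMap.lsmul A M (x i)) ≤ r • V := fun V i => by
    rintro _ ⟨m, hm, rfl⟩
    exact Submodule.smul_mem_smul (hxm i) hm
  have hU : Stab x U := fun i n => by
    refine (hmap _ i).trans (le_of_eq ?_)
    rw [← Submodule.smul_assoc, smul_eq_mul, ← pow_succ']
  obtain ⟨Q, hQ⟩ := hilbert_serre s x (fun n => U (n + 1)) U
    (fun n => Submodule.smul_mono_left (Ideal.pow_le_pow_right n.le_succ))
    (fun i n => hU i (n + 1)) hU (fun n => length_jacobson_ne_top (n + 1)) (fun W hW hxW => by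
      let F : r.Filtration M :=
        { N := W
          mono := fun n => (hW (n + 1)).2.trans (hW n).1
          smul_le := fun n => by
            rw [Submodule.smul_le]
            intro a ha m hm
            rw [← hx] at ha
            induction ha using Submodule.span_induction with
            | mem b hb => obtain ⟨i, rfl⟩ := hb; exact hxW i n ⟨m, hm, rfl⟩
            | zero => rw [zero_smul]; exact zero_mem _
            | add b c _ _ hb hc => rw [add_smul]; exact add_mem hb hc
            | smul c b _ hb => rw [smul_assoc]; exact Submodule.smul_mem _ c hb }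
      obtain ⟨n₀, hn₀⟩ := (r.stableFiltration_stable (⊤ : Submodule A M)).of_le (F' := F) fun n => (hW n).2
      refine ⟨n₀, fun n hn => ?_⟩
      rw [show W (n + 1) = r • W n from (hn₀ n hn).symm, Submodule.smul_le]
      intro a ha m hm
      rw [← hx] at ha
      induction ha using Submodule.span_induction with
      | mem b hb =>
        obtain ⟨i, rfl⟩ := hb
        exact Submodule.mem_sup_right (Submodule.mem_iSup_of_mem i ⟨m, hm, rfl⟩)
      | zero => rw [zero_smul]; exact zero_mem _
      | add b c _ _ hb hc => rw [add_smul]; exact add_mem hb hc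
      | smul c b _ hb => rw [smul_assoc]; exact Submodule.smul_mem _ c hb)
  exact exists_polynomial_of_diff hQ

theorem samuel_congr {N : Type u} [AddCommGroup N] [Module A N] (e : M ≃ₗ[A] N) (n : ℕ) :
    samuel (A := A) M n = samuel (A := A) N n :=
  H22Alg.samuelLen_congr (Ring.jacobson A) e n

theorem samuel_quotSMulTop (a : A) (n : ℕ) :
    samuel (A := A) (QuotSMulTop a M) n =
      coLen (Ring.jacobson A ^ n • ⊤ ⊔ (⊤ : Submodule A M).map (LinearMap.lsmul A M a)) := by
  unfold samuel coLen
  let K : Submodule A M := a • (⊤ : Submodule A M)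
  let S : Submodule A M := Ring.jacobson A ^ n • ⊤
  have hK : (⊤ : Submodule A M).map (LinearMap.lsmul A M a) = K := rfl
  let p : M →ₗ[A] (QuotSMulTop a M ⧸ (Ring.jacobson A ^ n • (⊤ : Submodule A (QuotSMulTop a M)))) :=
    (Submodule.mkQ _).comp K.mkQ
  have hp : LinearMap.ker p = S ⊔ K := by
    rw [LinearMap.ker_comp, Submodule.ker_mkQ]
    have : (Ring.jacobson A ^ n • (⊤ : Submodule A (QuotSMulTop a M))) = S.map K.mkQ := by
      rw [Submodule.map_smul'', Submodule.map_top, Submodule.range_mkQ]
    rw [this, Submodule.comap_map_mkQ, sup_comm]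
  rw [hK, ((Submodule.quotEquivOfEq _ _ hp.symm).trans
    (p.quotKerEquivOfSurjective ((Submodule.mkQ_surjective _).comp (Submodule.mkQ_surjective _)))).length_eq]

theorem samuel_add_eq (a : A) (n : ℕ) :
    (samuel (A := A) M n : ℚ) = samuel (A := A) (QuotSMulTop a M) n +
      coLen ((Ring.jacobson A ^ n • (⊤ : Submodule A M)).comap (LinearMap.lsmul A M a)) := by
  let S : Submodule A M := Ring.jacobson A ^ n • ⊤
  have hle : S ≤ ⊤ ⊓ S.comap (LinearMap.lsmul A M a) := le_inf le_top fun m hm => S.smul_mem a hm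
  have := coLen_smul_sub (U := ⊤) a (length_jacobson_ne_top n) (length_quotient_ne_top hle (length_jacobson_ne_top n))
  rw [top_inf_eq] at this
  have h0 : coLen (⊤ : Submodule A M) = 0 := by simp [coLen, Module.length_eq_zero]
  rw [h0, Nat.cast_zero, sub_zero, ← samuel_quotSMulTop] at this
  unfold samuel at *
  linarith

/-- A bound on the Hilbert–Samuel function from a finite length quotient. -/
theorem exists_growth : ∀ (s : ℕ) (M : Type u) [AddCommGroup M] [Module A M] [Module.Finite A M] (x : Fin s → A),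
    (∀ i, x i ∈ Ring.jacobson A) → Module.length A (M ⧸ (Ideal.span (Set.range x) • (⊤ : Submodule A M))) ≠ ⊤ →
    ∃ C : ℕ, ∀ n, samuel (A := A) M n ≤ C * (n + 1) ^ s := by
  intro s
  induction s with
  | zero =>
    intro M _ _ _ x _ hfin
    rw [Set.range_eq_empty, Ideal.span_empty, Submodule.bot_smul] at hfin
    exact ⟨coLen (⊥ : Submodule A M), fun n => by rw [pow_zero, mul_one]; exact coLen_le_coLen bot_le hfin⟩
  | succ s ih =>
    intro M _ _ _ x hx hfin
    let K : Submodule A M := x 0 • (⊤ : Submodule A M)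
    obtain ⟨C, hC⟩ := ih (QuotSMulTop (x 0) M) (fun i => x i.succ) (fun i => hx _) (by
      let p : M →ₗ[A] (QuotSMulTop (x 0) M ⧸
          (Ideal.span (Set.range fun i : Fin s => x i.succ) • (⊤ : Submodule A (QuotSMulTop (x 0) M)))) :=
        (Submodule.mkQ _).comp K.mkQ
      have hp : Ideal.span (Set.range x) • (⊤ : Submodule A M) ≤ LinearMap.ker p := by
        rw [Submodule.smul_le]
        intro a ha m _
        induction ha using Submodule.span_induction with
        | mem b hb =>
          obtain ⟨i, rfl⟩ := hb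
          rw [LinearMap.mem_ker]
          refine Fin.cases ?_ (fun j => ?_) i
          · show Submodule.mkQ _ (K.mkQ (x 0 • m)) = 0
            rw [show K.mkQ (x 0 • m) = 0 from (Submodule.Quotient.mk_eq_zero K).mpr
              (Submodule.smul_mem_pointwise_smul m (x 0) ⊤ Submodule.mem_top), map_zero]
          · show Submodule.mkQ _ (K.mkQ (x j.succ • m)) = 0
            rw [Submodule.mkQ_apply, Submodule.Quotient.mk_eq_zero, map_smul]
            exact Submodule.smul_mem_smul (Submodule.subset_span ⟨j, rfl⟩) Submodule.mem_top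
        | zero => rw [zero_smul]; exact zero_mem _
        | add b c _ _ hb hc => rw [add_smul]; exact add_mem hb hc
        | smul c b _ hb => rw [smul_assoc]; exact Submodule.smul_mem _ c hb
      exact ne_top_of_le_ne_top hfin (Module.length_le_of_surjective (Submodule.liftQ _ p hp) (by
        rw [← LinearMap.range_eq_top, Submodule.range_liftQ, LinearMap.range_eq_top]
        exact (Submodule.mkQ_surjective _).comp (Submodule.mkQ_surjective _))))
    refine ⟨C, fun n => ?_⟩
    induction n with
    | zero => simp [samuel, coLen, Ideal.one_eq_top, Module.length_eq_zero, Submodule.Quotient.subsingleton_iff]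
    | succ n ihn =>
      have h1 := samuel_add_eq (M := M) (x 0) (n + 1)
      have h2 : coLen ((Ring.jacobson A ^ (n + 1) • (⊤ : Submodule A M)).comap (LinearMap.lsmul A M (x 0))) ≤
          samuel (A := A) M n := by
        refine coLen_le_coLen (Submodule.map_le_iff_le_comap.mp ?_) (length_jacobson_ne_top n)
        rintro _ ⟨m, hm, rfl⟩
        rw [pow_succ', ← smul_eq_mul, Submodule.smul_assoc]
        exact Submodule.smul_mem_smul (hx 0) hm
      have h3 : samuel (A := A) M (n + 1) ≤ C * (n + 1 + 1) ^ s + C * (n + 1) ^ (s + 1) := by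
        have : samuel (A := A) M (n + 1) ≤ samuel (A := A) (QuotSMulTop (x 0) M) (n + 1) + samuel (A := A) M n := by
          have h2' : (coLen ((Ring.jacobson A ^ (n + 1) • (⊤ : Submodule A M)).comap (LinearMap.lsmul A M (x 0))) : ℚ) ≤
              samuel (A := A) M n := by exact_mod_cast h2
          have : (samuel (A := A) M (n + 1) : ℚ) ≤ samuel (A := A) (QuotSMulTop (x 0) M) (n + 1) + samuel (A := A) M n := by
            linarith
          exact_mod_cast this
        exact this.trans (add_le_add (hC (n + 1)) ihn)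
      refine h3.trans ?_
      rw [← mul_add]
      refine Nat.mul_le_mul_left C ?_
      have : (n + 1) ^ (s + 1) ≤ (n + 1 + 1) ^ s * (n + 1) := by
        rw [pow_succ]; exact Nat.mul_le_mul_right _ (Nat.pow_le_pow_left (Nat.le_succ _) s)
      rw [pow_succ (n + 1 + 1) s]
      nlinarith

theorem natDegree_le_of_finite_length {P : ℚ[X]} (hP : ∀ᶠ n in atTop, (samuel (A := A) M n : ℚ) = P.eval (n : ℚ))
    {s : ℕ} {x : Fin s → A} (hx : ∀ i, x i ∈ Ring.jacobson A)
    (hfin : Module.length A (M ⧸ (Ideal.span (Set.range x) • (⊤ : Submodule A M))) ≠ ⊤) : P.natDegree ≤ s := by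
  obtain ⟨C, hC⟩ := exists_growth s M x hx hfin
  refine (natDegree_le_of_le (Q := Polynomial.C (C : ℚ) * (X + 1) ^ s) (hP.mono fun n hn => ⟨hn ▸ Nat.cast_nonneg _, ?_⟩)).trans ?_
  · rw [← hn]
    simp only [eval_mul, eval_C, eval_pow, eval_add, eval_X, eval_one]
    exact_mod_cast hC n
  · refine natDegree_C_mul_le _ _ |>.trans ?_
    rw [natDegree_pow]
    simpa using Nat.mul_le_mul_left s (natDegree_X_add_C (1 : ℚ)).le

/-- The dimension is at most the degree. -/
theorem supportDim_le_natDegree : ∀ (d : ℕ) (M : Type u) [AddCommGroup M] [Module A M] [Module.Finite A M] (P : ℚ[X]),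
    (∀ᶠ n in atTop, (samuel (A := A) M n : ℚ) = P.eval (n : ℚ)) → P.natDegree ≤ d → Module.supportDim A M ≤ d := by
  intro d
  induction d using Nat.strong_induction_on with
  | _ d ih => ?_
  intro M _ _ _ P hP hd
  refine iSup_le fun p => ?_
  rcases Nat.eq_zero_or_pos p.length with h0 | hpos
  · rw [h0]; exact_mod_cast Nat.zero_le d
  obtain ⟨q, hq, hqle⟩ := Ideal.exists_minimalPrimes_le (Module.mem_support_iff_of_finite.mp p.head.2)
  haveI := hq.isPrime
  obtain ⟨-, z, hz⟩ := isAssociatedPrime_iff.mp (Module.associatedPrimes.minimalPrimes_annihilator_subset_associatedPrimes A M hq)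
  have hz' : LinearMap.ker (LinearMap.toSpanSingleton A M z) = q := by
    ext a
    rw [hz, LinearMap.mem_ker, LinearMap.toSpanSingleton_apply, Submodule.mem_colon_singleton, Submodule.mem_bot]
  let m : (A ⧸ q) →ₗ[A] M := Submodule.liftQ q (LinearMap.toSpanSingleton A M z) hz'.ge
  have hm : Function.Injective m := LinearMap.ker_eq_bot.mp (Submodule.ker_liftQ_eq_bot _ _ _ hz'.le)
  obtain ⟨PN, hPN⟩ := exists_samuel_polynomial A (A ⧸ q)
  obtain ⟨c, hc⟩ := H22Alg.exists_comap_pow_smul_le m (Ring.jacobson A) hm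
  have hNM : ∀ n, samuel (A := A) (A ⧸ q) n ≤ samuel (A := A) M (n + c) := fun n => by
    let S : Submodule A M := Ring.jacobson A ^ (n + c) • ⊤
    let f1 : ((A ⧸ q) ⧸ S.comap m) →ₗ[A] M ⧸ S := Submodule.mapQ _ _ m le_rfl
    have hf1 : Function.Injective f1 := by
      rw [← LinearMap.ker_eq_bot, Submodule.ker_mapQ, eq_bot_iff]
      rintro _ ⟨z, hz, rfl⟩
      exact (Submodule.Quotient.mk_eq_zero _).mpr hz
    refine (coLen_le_coLen (hc n) (ne_top_of_le_ne_top (length_jacobson_ne_top (n + c))
      (Module.length_le_of_injective f1 hf1))).trans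
      (ENat.toNat_le_toNat (Module.length_le_of_injective f1 hf1) (length_jacobson_ne_top (n + c)))
  have hdN : PN.natDegree ≤ d := by
    refine (natDegree_le_of_le (Q := P.comp (X + Polynomial.C (c : ℚ))) ?_).trans ?_
    · filter_upwards [hPN, (tendsto_add_atTop_nat c).eventually hP] with n hn hn'
      rw [← hn]
      refine ⟨Nat.cast_nonneg _, ?_⟩
      rw [eval_comp, eval_add, eval_X, eval_C, ← Nat.cast_add, ← hn']
      exact_mod_cast hNM n
    · rwa [natDegree_comp, natDegree_X_add_C, mul_one]
  obtain ⟨a, hap, haq⟩ : ∃ a, a ∈ (p ⟨1, by omega⟩).1.asIdeal ∧ a ∉ q := by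
    have hlt : p.head.1.asIdeal < (p ⟨1, by omega⟩).1.asIdeal :=
      p.strictMono (show (0 : Fin (p.length + 1)) < ⟨1, by omega⟩ from by simp [Fin.lt_def])
    exact Set.exists_of_ssubset (lt_of_le_of_lt hqle hlt)
  have hinj : Function.Injective (LinearMap.lsmul A (A ⧸ q) a) := by
    rw [injective_iff_map_eq_zero]
    intro z hz
    obtain ⟨z, rfl⟩ := Ideal.Quotient.mk_surjective z
    rw [LinearMap.lsmul_apply, Algebra.smul_def, Ideal.Quotient.algebraMap_eq, ← map_mul,
      Ideal.Quotient.eq_zero_iff_mem] at hz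
    exact Ideal.Quotient.eq_zero_iff_mem.mpr ((‹q.IsPrime›.mem_or_mem hz).resolve_left haq)
  obtain ⟨c', hc'⟩ := H22Alg.exists_comap_pow_smul_le (LinearMap.lsmul A (A ⧸ q) a) (Ring.jacobson A) hinj
  let M' := QuotSMulTop a (A ⧸ q)
  obtain ⟨P', hP'⟩ := exists_samuel_polynomial A M'
  let Q := PN - PN.comp (X - Polynomial.C (c' : ℚ))
  have hP'Q : ∀ᶠ n : ℕ in atTop, 0 ≤ P'.eval (n : ℚ) ∧ P'.eval (n : ℚ) ≤ Q.eval (n : ℚ) := by
    filter_upwards [hP', hPN, (tendsto_sub_atTop_nat c').eventually hPN, eventually_ge_atTop c'] with n hn hn1 hn2 hnc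
    obtain ⟨n, rfl⟩ : ∃ l, n = l + c' := ⟨n - c', by omega⟩
    rw [Nat.add_sub_cancel] at hn2
    refine ⟨hn ▸ Nat.cast_nonneg _, ?_⟩
    simp only [Q, eval_sub, eval_comp, eval_X, eval_C]
    rw [Nat.cast_add, add_sub_cancel_right, ← Nat.cast_add, ← hn, ← hn1, ← hn2, samuel_add_eq (M := A ⧸ q) a (n + c')]
    have h4 : (samuel (A := A) (A ⧸ q) n : ℚ) ≤
        coLen ((Ring.jacobson A ^ (n + c') • (⊤ : Submodule A (A ⧸ q))).comap (LinearMap.lsmul A (A ⧸ q) a)) := by
      refine Nat.cast_le.mpr (coLen_le_coLen (hc' n) (length_quotient_ne_top ?_ (length_jacobson_ne_top (n + c'))))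
      exact fun z hz => Submodule.smul_mem _ a hz
    linarith
  have hmem : ∀ i : Fin p.length, (p i.succ).1 ∈ Module.support A M' := fun i => by
    rw [Module.support_quotSMulTop, Module.support_eq_zeroLocus (R := A) (M := A ⧸ q), Ideal.annihilator_quotient]
    refine ⟨fun z hz => ?_, ?_⟩
    · exact (p.head_le _ : p.head.1.asIdeal ≤ _) (hqle hz)
    · rw [PrimeSpectrum.mem_zeroLocus, Set.singleton_subset_iff]
      exact (p.monotone (show (⟨1, by omega⟩ : Fin (p.length + 1)) ≤ i.succ from by simp [Fin.le_def])) hap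
  rcases Nat.eq_zero_or_pos d with rfl | hdpos
  · exfalso
    have hQ0 : Q = 0 := sub_comp_eq_zero (Nat.le_zero.mp hdN) _
    rw [hQ0] at hP'Q
    obtain ⟨n, ⟨hn, hn0⟩, hn1⟩ := ((hP'.and (hP'Q.mono fun n hn => le_antisymm (hn.2.trans (by simp)) hn.1)).and
      (eventually_ge_atTop 1)).exists
    rw [hn0, Nat.cast_eq_zero] at hn
    have htop : Ring.jacobson A ^ n • (⊤ : Submodule A M') = ⊤ := by
      have h1 : Module.length A (M' ⧸ (Ring.jacobson A ^ n • (⊤ : Submodule A M'))) = 0 := by
        rw [← ENat.coe_toNat (length_jacobson_ne_top n)]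
        exact_mod_cast hn
      rwa [Module.length_eq_zero_iff, Submodule.Quotient.subsingleton_iff] at h1
    have hbot : (⊤ : Submodule A M') = ⊥ := by
      refine Submodule.eq_bot_of_le_smul_of_le_jacobson_bot (Ring.jacobson A) _ Module.Finite.fg_top ?_
        (by rw [Ideal.jacobson_bot])
      conv_lhs => rw [← htop]
      exact Submodule.smul_mono_left (Ideal.pow_le_self (by omega))
    haveI : Subsingleton M' := Submodule.subsingleton_iff A |>.mp (subsingleton_of_bot_eq_top hbot.symm)
    have := hmem ⟨0, hpos⟩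
    rw [Module.support_eq_empty] at this
    exact this
  · have hP'd : P'.natDegree ≤ d - 1 :=
      (natDegree_le_of_le hP'Q).trans (natDegree_sub_comp_le (by omega) _)
    have h1 := ih (d - 1) (by omega) M' P' hP' hP'd
    let p' : LTSeries (Module.support A M') :=
      LTSeries.mk (p.length - 1) (fun i => ⟨(p ⟨i.1 + 1, by omega⟩).1, hmem ⟨i.1, by omega⟩⟩)
        (fun i j hij => p.strictMono (show (⟨i.1 + 1, by omega⟩ : Fin (p.length + 1)) < ⟨j.1 + 1, by omega⟩ from
          by simp only [Fin.lt_def]; omega))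
    have h2 : ((p.length - 1 : ℕ) : WithBot ℕ∞) ≤ ((d - 1 : ℕ) : WithBot ℕ∞) := (Order.LTSeries.length_le_krullDim p').trans h1
    have h3 : p.length - 1 ≤ d - 1 := by exact_mod_cast h2
    exact_mod_cast (show p.length ≤ d by omega)

/-- Existence of a small family with quotient of finite length. -/
theorem exists_parameters : ∀ (d : ℕ) (M : Type u) [AddCommGroup M] [Module A M] [Module.Finite A M],
    Module.supportDim A M ≤ d → ∃ s ≤ d, ∃ x : Fin s → A, (∀ i, x i ∈ Ring.jacobson A) ∧
      Module.length A (M ⧸ (Ideal.span (Set.range x) • (⊤ : Submodule A M))) ≠ ⊤ := by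
  intro d
  induction d with
  | zero =>
    intro M _ _ _ hM
    refine ⟨0, le_rfl, Fin.elim0, fun i => i.elim0, ?_⟩
    exact ne_top_of_le_ne_top (H22Alg.length_ne_top_of_support_maximal
      (H22Alg.isMaximal_of_mem_support_of_supportDim_le_zero hM))
      (Module.length_le_of_surjective (Submodule.mkQ _) (Submodule.mkQ_surjective _))
  | succ d ih =>
    intro M _ _ _ hM
    classical
    let S := ((Ideal.finite_minimalPrimes_of_isNoetherianRing A (Module.annihilator A M)).toFinset).filter
      fun q => ¬ q.IsMaximal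
    obtain ⟨a, har, ha⟩ : ∃ a ∈ Ring.jacobson A, ∀ q ∈ S, a ∉ q := by
      by_contra hcon
      push Not at hcon
      have hsub : (Ring.jacobson A : Set A) ⊆ ⋃ q ∈ (S : Set (Ideal A)), (q : Set A) := fun z hz => by
        obtain ⟨q, hq, hzq⟩ := hcon z hz
        exact Set.mem_biUnion hq hzq
      obtain ⟨q, hq, hle⟩ := (Ideal.subset_union_prime (f := id) ⊥ ⊥ fun q hq _ _ => by
        obtain ⟨hq1, -⟩ := Finset.mem_filter.mp hq
        exact ((Set.Finite.mem_toFinset _).mp hq1).isPrime).mp hsub
      obtain ⟨hq1, hq2⟩ := Finset.mem_filter.mp hq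
      haveI := ((Set.Finite.mem_toFinset _).mp hq1).isPrime
      exact hq2 (isMaximal_of_jacobson_le hle)
    have hdim : Module.supportDim A (QuotSMulTop a M) ≤ d := by
      refine iSup_le fun p => ?_
      have hsupp : ∀ i, (p i).1 ∈ Module.support A M ∧ a ∈ (p i).1.asIdeal := fun i => by
        have this : (p i).1 ∈ Module.support A M ∩ PrimeSpectrum.zeroLocus {a} :=
          (Set.ext_iff.mp (Module.support_quotSMulTop a) _).mp (p i).2
        exact ⟨this.1, by simpa using this.2⟩
      obtain ⟨q, hq, hqle⟩ := Ideal.exists_minimalPrimes_le (Module.mem_support_iff_of_finite.mp (hsupp 0).1)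
      by_cases hmax : q.IsMaximal
      · have hlen : p.length = 0 := by
          by_contra hne
          have hlt : (p 0).1.asIdeal < (p ⟨1, by omega⟩).1.asIdeal :=
            p.strictMono (show (0 : Fin (p.length + 1)) < ⟨1, by omega⟩ from by simp [Fin.lt_def])
          exact (p ⟨1, by omega⟩).1.isPrime.ne_top (hmax.1.2 _ (lt_of_le_of_lt hqle hlt))
        rw [hlen]; exact_mod_cast Nat.zero_le d
      · let q' : Module.support A M :=
          ⟨⟨q, hq.isPrime⟩, Module.mem_support_iff_of_finite.mpr hq.1.2⟩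
        let p0 : LTSeries (Module.support A M) :=
          LTSeries.mk p.length (fun i => ⟨(p i).1, (hsupp i).1⟩) fun i j hij => p.strictMono hij
        have hlt : q' < p0.head := lt_of_le_of_ne hqle fun heq => by
          refine ha q (Finset.mem_filter.mpr ⟨(Set.Finite.mem_toFinset _).mpr hq, hmax⟩) ?_
          have h' : q = (p 0).1.asIdeal := congrArg (fun z : Module.support A M => z.1.asIdeal) heq
          rw [h']
          exact (hsupp 0).2
        have h2 := (Order.LTSeries.length_le_krullDim (p0.cons q' hlt)).trans hM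
        have h3 : p.length + 1 ≤ d + 1 := by
          simp only [RelSeries.cons_length] at h2
          exact_mod_cast h2
        exact_mod_cast (show p.length ≤ d by omega)
    obtain ⟨s, hs, x, hx, hfin⟩ := ih (QuotSMulTop a M) hdim
    refine ⟨s + 1, Nat.succ_le_succ hs, Fin.cons a x, Fin.cases har hx, ?_⟩
    let K : Submodule A M := a • (⊤ : Submodule A M)
    let T : Submodule A M := Ideal.span (Set.range (Fin.cons a x : Fin (s + 1) → A)) • ⊤
    have hKT : K ≤ T := by
      rintro _ ⟨m, -, rfl⟩
      exact Submodule.smul_mem_smul (Submodule.subset_span ⟨0, rfl⟩) Submodule.mem_top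
    let g : QuotSMulTop a M →ₗ[A] M ⧸ T := Submodule.factor hKT
    have hg : Ideal.span (Set.range x) • (⊤ : Submodule A (QuotSMulTop a M)) ≤ LinearMap.ker g := by
      rw [Submodule.smul_le]
      intro b hb z _
      obtain ⟨z, rfl⟩ := Submodule.Quotient.mk_surjective _ z
      rw [LinearMap.mem_ker, ← Submodule.Quotient.mk_smul]
      show (Submodule.Quotient.mk (b • z) : M ⧸ T) = 0
      rw [Submodule.Quotient.mk_eq_zero]
      refine Submodule.smul_mem_smul (Ideal.span_mono ?_ hb) Submodule.mem_top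
      rintro _ ⟨i, rfl⟩
      exact ⟨i.succ, rfl⟩
    exact ne_top_of_le_ne_top hfin (Module.length_le_of_surjective (Submodule.liftQ _ g hg) (by
      rw [← LinearMap.range_eq_top, Submodule.range_liftQ, LinearMap.range_eq_top]
      exact Submodule.factor_surjective hKT))

variable (A M) in
/-- The degree of the Hilbert–Samuel polynomial is the dimension. -/
theorem natDegree_eq_supportDim [Nontrivial M] {P : ℚ[X]}
    (hP : ∀ᶠ n in atTop, (samuel (A := A) M n : ℚ) = P.eval (n : ℚ)) :
    (P.natDegree : WithBot ℕ∞) = Module.supportDim A M := by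
  have h1 := supportDim_le_natDegree P.natDegree M P hP le_rfl
  refine le_antisymm ?_ h1
  obtain ⟨d, hd⟩ : ∃ d : ℕ, Module.supportDim A M = d := by
    have h0 : 0 ≤ Module.supportDim A M := by
      haveI : Nonempty (Module.support A M) := Module.nonempty_support_of_nontrivial.to_subtype
      exact Order.krullDim_nonneg
    match hx : Module.supportDim A M, h0, h1 with
    | ⊥, h0, _ => exact absurd h0 (by simp)
    | (⊤ : ℕ∞), _, h1 =>
      exact absurd (WithBot.coe_le_coe.mp h1) (by simp)
    | ((n : ℕ) : ℕ∞), _, _ => exact ⟨n, rfl⟩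
  obtain ⟨s, hs, x, hx, hfin⟩ := exists_parameters d M hd.le
  rw [hd]
  exact_mod_cast (natDegree_le_of_finite_length hP hx hfin).trans hs

end Groth.Agent.H05EGA4.Samuel
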