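import Mathlib
import Groth.Agent.H05EGA4.Samuel

/-!
Parts of systems of parameters over semilocal Noetherian rings (EGA 0_IV 16.3).
-/

set_option autoImplicit false
set_option linter.style.haveILetI false
set_option linter.unusedSectionVars false
universe u
open Pointwise

namespace Groth.Agent.H05EGA4.Samuel

variable {A : Type u} [CommRing A] [IsNoetherianRing A] [Finite (MaximalSpectrum A)]

theorem exists_nat_supportDim (M : Type u) [AddCommGroup M] [Module A M] [Module.Finite A M] [Nontrivial M] :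
    ∃ d : ℕ, Module.supportDim A M = d := by
  obtain ⟨P, hP⟩ := exists_samuel_polynomial A M
  exact ⟨P.natDegree, (natDegree_eq_supportDim A M hP).symm⟩

theorem supportDim_le_of_finite_length (M : Type u) [AddCommGroup M] [Module A M] [Module.Finite A M] {s : ℕ}
    {x : Fin s → A} (hx : ∀ i, x i ∈ Ring.jacobson A)
    (hfin : Module.length A (M ⧸ (Ideal.span (Set.range x) • (⊤ : Submodule A M))) ≠ ⊤) :
    Module.supportDim A M ≤ s := by
  obtain ⟨P, hP⟩ := exists_samuel_polynomial A M
  exact (supportDim_le_natDegree P.natDegree M P hP le_rfl).trans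
    (by exact_mod_cast natDegree_le_of_finite_length hP hx hfin)

theorem range_get_eq (xs : List A) : Ideal.span (Set.range xs.get) = Ideal.ofList xs := by
  rw [Ideal.ofList, Set.range_list_get]

theorem supportDim_le_of_list (M : Type u) [AddCommGroup M] [Module A M] [Module.Finite A M]
    {xs : List A} (hx : ∀ x ∈ xs, x ∈ Ring.jacobson A)
    (hfin : Module.length A (M ⧸ (Ideal.ofList xs • (⊤ : Submodule A M))) ≠ ⊤) :
    Module.supportDim A M ≤ xs.length :=
  supportDim_le_of_finite_length M (x := xs.get) (fun i => hx _ (xs.get_mem i)) (by rwa [range_get_eq])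

/-- Quotients in stages. -/
noncomputable def quotSupEquiv {M : Type u} [AddCommGroup M] [Module A M] (I J : Ideal A) :
    ((M ⧸ (I • (⊤ : Submodule A M))) ⧸ (J • (⊤ : Submodule A (M ⧸ (I • (⊤ : Submodule A M)))))) ≃ₗ[A]
      M ⧸ ((I ⊔ J) • (⊤ : Submodule A M)) :=
  Submodule.quotEquivOfEq _ _ (by rw [Submodule.map_smul'', Submodule.map_top, Submodule.range_mkQ]) ≪≫ₗ
    Submodule.quotientQuotientEquivQuotientSup (I • (⊤ : Submodule A M)) (J • ⊤) ≪≫ₗ
    Submodule.quotEquivOfEq _ _ (Submodule.sup_smul I J ⊤).symm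

theorem exists_parameters_list (M : Type u) [AddCommGroup M] [Module A M] [Module.Finite A M] {d : ℕ}
    (hd : Module.supportDim A M ≤ d) :
    ∃ ys : List A, ys.length ≤ d ∧ (∀ y ∈ ys, y ∈ Ring.jacobson A) ∧
      Module.length A (M ⧸ (Ideal.ofList ys • (⊤ : Submodule A M))) ≠ ⊤ := by
  obtain ⟨s, hs, x, hx, hfin⟩ := exists_parameters d M hd
  refine ⟨List.ofFn x, by simpa using hs, fun y hy => ?_, ?_⟩
  · obtain ⟨i, rfl⟩ := List.mem_ofFn.mp hy
    exact hx i
  · have : Ideal.ofList (List.ofFn x) = Ideal.span (Set.range x) := by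
      rw [Ideal.ofList]
      congr 1
      ext a
      simp [List.mem_ofFn]
    rwa [this]

/-- `dim M ≤ dim (M/(xs)M) + length xs`. -/
theorem supportDim_le_add_length (M : Type u) [AddCommGroup M] [Module A M] [Module.Finite A M] {xs : List A}
    (hxs : ∀ x ∈ xs, x ∈ Ring.jacobson A) {e : ℕ}
    (he : Module.supportDim A (M ⧸ (Ideal.ofList xs • (⊤ : Submodule A M))) ≤ e) :
    Module.supportDim A M ≤ ((xs.length + e : ℕ) : WithBot ℕ∞) := by
  obtain ⟨ys, hys, hy, hfin⟩ := exists_parameters_list _ he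
  rw [(quotSupEquiv (Ideal.ofList xs) (Ideal.ofList ys)).length_eq, ← Ideal.ofList_append] at hfin
  refine (supportDim_le_of_list M (fun z hz => ?_) hfin).trans ?_
  · rcases List.mem_append.mp hz with h | h
    exacts [hxs z h, hy z h]
  · rw [List.length_append]
    exact_mod_cast Nat.add_le_add_left hys _

theorem supportDim_quotient_le_iff (I : Ideal A) (k : ℕ) :
    Module.supportDim A (A ⧸ I) ≤ k ↔
      ∀ p : LTSeries (PrimeSpectrum A), I ≤ p.head.asIdeal → p.length ≤ k := by
  rw [Module.supportDim, Module.support_eq_zeroLocus, Ideal.annihilator_quotient]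
  constructor
  · intro h p hp
    let p' : LTSeries (PrimeSpectrum.zeroLocus (I : Set A)) :=
      LTSeries.mk p.length (fun i => ⟨p i, fun a ha => (p.head_le i : p.head ≤ p i) (hp ha)⟩)
        fun i j hij => p.strictMono hij
    exact_mod_cast (Order.LTSeries.length_le_krullDim p').trans h
  · intro h
    refine iSup_le fun p => ?_
    exact_mod_cast h (p.map Subtype.val fun _ _ hab => hab) (p.head.2)

/-- One step of the construction of parameters inside an ideal. -/
theorem exists_step (a I : Ideal A) {k : ℕ} (hI : Module.supportDim A (A ⧸ I) ≤ (k + 1 : ℕ))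
    (ha : ∀ p ∈ I.minimalPrimes, ¬ p.IsMaximal → ¬ a ≤ p) :
    ∃ x ∈ a, x ∈ Ring.jacobson A ∧ Module.supportDim A (A ⧸ (I ⊔ Ideal.span {x})) ≤ k ∧
      ∀ p ∈ I.minimalPrimes, ¬ p.IsMaximal → x ∉ p := by
  classical
  let S := ((Ideal.finite_minimalPrimes_of_isNoetherianRing A I).toFinset).filter fun q => ¬ q.IsMaximal
  obtain ⟨x, hxm, hx⟩ : ∃ x ∈ a ⊓ Ring.jacobson A, ∀ q ∈ S, x ∉ q := by
    by_contra hcon
    push Not at hcon
    have hsub : ((a ⊓ Ring.jacobson A : Ideal A) : Set A) ⊆ ⋃ q ∈ (S : Set (Ideal A)), (q : Set A) := fun z hz => by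
      obtain ⟨q, hq, hzq⟩ := hcon z hz
      exact Set.mem_biUnion hq hzq
    obtain ⟨q, hq, hle⟩ := (Ideal.subset_union_prime (f := id) ⊥ ⊥ fun q hq _ _ => by
      obtain ⟨hq1, -⟩ := Finset.mem_filter.mp hq
      exact ((Set.Finite.mem_toFinset _).mp hq1).isPrime).mp hsub
    obtain ⟨hq1, hq2⟩ := Finset.mem_filter.mp hq
    have hq1' := (Set.Finite.mem_toFinset _).mp hq1
    haveI := hq1'.isPrime
    rcases hq1'.isPrime.mul_le.mp ((Ideal.mul_le_inf).trans hle) with h | h
    · exact ha q hq1' hq2 h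
    · exact hq2 (isMaximal_of_jacobson_le h)
  have hx' : ∀ p ∈ I.minimalPrimes, ¬ p.IsMaximal → x ∉ p := fun p hp hmax =>
    hx p (Finset.mem_filter.mpr ⟨(Set.Finite.mem_toFinset _).mpr hp, hmax⟩)
  refine ⟨x, hxm.1, hxm.2, (supportDim_quotient_le_iff _ k).mpr fun p hp => ?_, hx'⟩
  obtain ⟨hIp, hxp⟩ := sup_le_iff.mp hp
  rw [Ideal.span_singleton_le_iff_mem] at hxp
  obtain ⟨q, hq, hqle⟩ := Ideal.exists_minimalPrimes_le (J := p.head.asIdeal) hIp
  by_cases hmax : q.IsMaximal
  · have hlen : p.length = 0 := by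
      by_contra hne
      have hlt : p.head.asIdeal < (p ⟨1, by omega⟩).asIdeal :=
        p.strictMono (show (0 : Fin (p.length + 1)) < ⟨1, by omega⟩ from by simp [Fin.lt_def])
      exact (p ⟨1, by omega⟩).isPrime.ne_top (hmax.1.2 _ (lt_of_le_of_lt hqle hlt))
    omega
  · have hlt : (⟨q, hq.isPrime⟩ : PrimeSpectrum A) < p.head := lt_of_le_of_ne hqle fun heq => hx' q hq hmax (by
      rw [show q = p.head.asIdeal from congrArg PrimeSpectrum.asIdeal heq]; exact hxp)
    have h := (supportDim_quotient_le_iff I (k + 1)).mp hI (p.cons ⟨q, hq.isPrime⟩ hlt) (by simpa using hq.1.2)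
    simp only [RelSeries.cons_length] at h
    omega

/-- Parameters inside an ideal of given height. -/
theorem exists_parameters_in_ideal (a : Ideal A) {h d : ℕ} (hh : (h : ℕ∞) ≤ a.height)
    (hd : Module.supportDim A (A ⧸ (⊥ : Ideal A)) ≤ d) (hhd : h ≤ d) :
    ∀ i ≤ h, ∃ x : Fin i → A, (∀ j, x j ∈ a ∧ x j ∈ Ring.jacobson A) ∧
      Module.supportDim A (A ⧸ Ideal.span (Set.range x)) ≤ ((d - i : ℕ) : WithBot ℕ∞) ∧
      ∀ p : Ideal A, p.IsPrime → ¬ p.IsMaximal → Ideal.span (Set.range x) ≤ p → (i : ℕ∞) ≤ p.height := by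
  intro i
  induction i with
  | zero =>
    intro _
    refine ⟨Fin.elim0, fun j => j.elim0, ?_, fun p _ _ _ => by simp⟩
    rw [Set.range_eq_empty, Ideal.span_empty, Nat.sub_zero]
    exact hd
  | succ i ih =>
    intro hi
    obtain ⟨x, hx, hdim, hP⟩ := ih (by omega)
    let I := Ideal.span (Set.range x)
    obtain ⟨z, hza, hzr, hzdim, hz⟩ := exists_step a I (k := d - (i + 1))
      (by rw [show d - (i + 1) + 1 = d - i by omega]; exact hdim) fun p hp _ hap => by
        haveI := hp.isPrime
        have h1 := Ideal.height_le_card_of_mem_minimalPrimes_span (Set.finite_range x) hp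
        have h2 : (Set.range x).ncard ≤ i := by
          rw [← Set.image_univ]
          exact (Set.ncard_image_le Set.finite_univ).trans (by simp)
        have h3 : (h : ℕ∞) ≤ i := (hh.trans (Ideal.height_mono hap)).trans (h1.trans (by exact_mod_cast h2))
        have : h ≤ i := by exact_mod_cast h3
        omega
    have hspan : Ideal.span (Set.range (Fin.cons z x : Fin (i + 1) → A)) = I ⊔ Ideal.span {z} := by
      rw [Fin.range_cons, Ideal.span_insert, sup_comm]
    refine ⟨Fin.cons z x, Fin.cases ⟨hza, hzr⟩ hx, by rw [hspan]; exact hzdim, fun p hp hmax hle => ?_⟩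
    rw [hspan, sup_le_iff, Ideal.span_singleton_le_iff_mem] at hle
    obtain ⟨q, hq, hqle⟩ := Ideal.exists_minimalPrimes_le (J := p) hle.1
    haveI := hq.isPrime
    have hqmax : ¬ q.IsMaximal := fun hq' => hmax ((hq'.eq_of_le hp.ne_top hqle) ▸ hq')
    have hlt : q < p := lt_of_le_of_ne hqle fun heq => hz q hq hqmax (heq ▸ hle.2)
    have h1 := hP q inferInstance hqmax hq.1.2
    have h2 := Ideal.height_add_one_le_of_lt_of_isPrime hlt
    rw [Nat.cast_succ]
    exact (add_le_add h1 le_rfl).trans h2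

end Groth.Agent.H05EGA4.Samuel
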