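import Groth.Prelude.Def_CAlgX
import Mathlib.Algebra.TrivSqZeroExt.Basic
import Mathlib.RingTheory.Filtration
import Mathlib.RingTheory.Kaehler.Basic
import Mathlib.RingTheory.Ideal.Cotangent
import Mathlib.RingTheory.Ideal.Quotient.Operations

/-! Adic formal smoothness of quotients and extension of derivations from the conormal module. -/

set_option autoImplicit false
set_option linter.style.haveILetI false

open TensorProduct KaehlerDifferential

universe u

namespace Groth.Agent.H05EGA4.AdicConormal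

section lift

variable {B S : Type u} [CommRing B] [CommRing S] [Algebra B S]
  (hs : Function.Surjective (algebraMap B S)) {N M : Type u} [AddCommGroup N] [Module B N]
  [AddCommGroup M] [Module B M] (f : N →ₗ[B] M)
  (h : ∀ b ∈ RingHom.ker (algebraMap B S), ∀ x, b • f x = 0)

/-- `S ⊗ N → M` from a map whose image is killed by the kernel of `B → S`. -/
noncomputable def liftQuot : S ⊗[B] N →ₗ[B] M :=
  TensorProduct.lift ((LinearMap.ker (Algebra.linearMap B S)).liftQ (LinearMap.toSpanSingleton B _ f)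
      (fun b hb => LinearMap.ext fun x => h b hb x) ∘ₗ
    ((Algebra.linearMap B S).quotKerEquivOfSurjective hs).symm.toLinearMap)

theorem liftQuot_tmul (b : B) (x : N) : liftQuot hs f h (algebraMap B S b ⊗ₜ x) = b • f x := by
  have : ((Algebra.linearMap B S).quotKerEquivOfSurjective hs).symm (algebraMap B S b) =
      Submodule.Quotient.mk b := by
    rw [LinearEquiv.symm_apply_eq]
    rfl
  simp only [liftQuot, TensorProduct.lift.tmul, LinearMap.comp_apply, LinearEquiv.coe_coe, this]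
  rfl

theorem liftQuot_one_tmul (x : N) : liftQuot hs f h (1 ⊗ₜ x) = f x := by
  rw [← map_one (algebraMap B S), liftQuot_tmul, one_smul]

end lift

variable {A B : Type u} [CommRing A] [CommRing B] [Algebra A B]

/-- Linear maps on `J/J²` with values in modules killed by `K` extend to derivations. -/
def Ext (J K : Ideal B) : Prop :=
  ∀ (M : Type u) [AddCommGroup M] [Module B M] [Module A M] [IsScalarTower A B M],
    (∀ b ∈ K, ∀ x : M, b • x = 0) → ∀ φ : J →ₗ[B] M,
      ∃ d : Derivation A B M, ∀ j : J, d j = φ j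

/-- The square-zero extension `(B ⊕ M) / {(j + i, -φ j)}`. -/
structure Datum (I : Ideal B) (J : Ideal B) (M : Type u) [AddCommGroup M] [Module B M] where
  φ : J →ₗ[B] M
  hI : ∀ b ∈ I, ∀ x : M, b • x = 0
  hJ : ∀ b ∈ J, ∀ x : M, b • x = 0
  h : ∀ j : J, (j : B) ∈ I → φ j = 0

theorem exists_extension {I J : Ideal B} {M : Type u} [AddCommGroup M] [Module B M] [Module A M]
    [IsScalarTower A B M] (D : Datum I J M) :
    ∃ (E : Type u) (_ : CommRing E) (_ : Algebra A E) (ι : B →ₐ[A] E) (a : M →+ E) (fst : E →+* B ⧸ (I ⊔ J)),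
      (∀ b, fst (ι b) = Ideal.Quotient.mk _ b) ∧ (∀ x, fst (a x) = 0) ∧
      (∀ e, fst e = 0 → ∃ x, a x = e) ∧
      (∀ b x, ι b * a x = a (b • x)) ∧ (∀ x y, a x * a y = 0) ∧ Function.Injective a ∧
      (∀ j : J, ι j = a (D.φ j)) ∧ (∀ i ∈ I, ι i = 0) ∧
      (∀ e, ∃ b x, ι b + a x = e) := by
  letI : Module Bᵐᵒᵖ M := Module.compHom M ((RingHom.id B).fromOpposite mul_comm)
  haveI : IsCentralScalar B M := ⟨fun _ _ => rfl⟩
  let T := TrivSqZeroExt B M
  let G : Ideal T :=
    { carrier := {t | ∃ j : J, ∃ i ∈ I, t.fst = j + i ∧ t.snd = -D.φ j}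
      zero_mem' := ⟨0, 0, I.zero_mem, by simp, by simp⟩
      add_mem' := by
        rintro s t ⟨j, i, hi, h1, h2⟩ ⟨j', i', hi', h1', h2'⟩
        refine ⟨j + j', i + i', I.add_mem hi hi', ?_, ?_⟩
        · show s.fst + t.fst = _
          rw [h1, h1', Submodule.coe_add]; ring
        · show s.snd + t.snd = _
          rw [h2, h2', map_add]; abel
      smul_mem' := by
        rintro s t ⟨j, i, hi, h1, h2⟩
        refine ⟨s.fst • j, s.fst * i, I.mul_mem_left _ hi, ?_, ?_⟩
        · show s.fst * t.fst = _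
          rw [h1, SetLike.val_smul, smul_eq_mul]; ring
        · rw [smul_eq_mul, TrivSqZeroExt.snd_mul, h1, h2, op_smul_eq_smul, add_smul, D.hI i hi,
            D.hJ (j : B) j.2]
          simp }
  let E := T ⧸ G
  let fst₀ : T →+* B ⧸ (I ⊔ J) := (Ideal.Quotient.mk _).comp (TrivSqZeroExt.fstHom B B M).toRingHom
  let fst : E →+* B ⧸ (I ⊔ J) := Ideal.Quotient.lift G fst₀ (by
    rintro t ⟨j, i, hi, h1, -⟩
    show Ideal.Quotient.mk _ t.fst = 0
    rw [h1, Ideal.Quotient.eq_zero_iff_mem]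
    exact add_mem (Ideal.mem_sup_right j.2) (Ideal.mem_sup_left hi))
  let a : M →+ E := (Ideal.Quotient.mk G).toAddMonoidHom.comp
    ((TrivSqZeroExt.inrHom B M : M →ₗ[B] T).toAddMonoidHom)
  refine ⟨E, inferInstance, inferInstance, IsScalarTower.toAlgHom A B E, a, fst, fun b => ?_,
    fun x => ?_, ?_, fun b x => ?_, fun x y => ?_, ?_, fun j => ?_, fun i hi => ?_, ?_⟩
  · rfl
  · show Ideal.Quotient.mk _ (0 : B) = 0
    exact map_zero _
  · intro e he
    obtain ⟨t, rfl⟩ := Ideal.Quotient.mk_surjective e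
    obtain ⟨i, hi, j, hj, hij⟩ := Submodule.mem_sup.1 (Ideal.Quotient.eq_zero_iff_mem.1
      (show Ideal.Quotient.mk (I ⊔ J) t.fst = 0 from he))
    refine ⟨t.snd + D.φ ⟨j, hj⟩, Ideal.Quotient.eq.2 ⟨-⟨j, hj⟩, -i, I.neg_mem hi, ?_, ?_⟩⟩
    · show (0 : B) - t.fst = -j + -i
      rw [← hij]; ring
    · show t.snd + D.φ ⟨j, hj⟩ - t.snd = _
      rw [map_neg]; abel
  · show Ideal.Quotient.mk G (TrivSqZeroExt.inl b) * Ideal.Quotient.mk G (TrivSqZeroExt.inr x) = _
    rw [← map_mul, TrivSqZeroExt.inl_mul_inr]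
    rfl
  · show Ideal.Quotient.mk G (TrivSqZeroExt.inr x) * Ideal.Quotient.mk G (TrivSqZeroExt.inr y) = 0
    rw [← map_mul, TrivSqZeroExt.inr_mul_inr, map_zero]
  · rw [injective_iff_map_eq_zero]
    intro x hx
    obtain ⟨j, i, hi, h1, h2⟩ := Ideal.Quotient.eq_zero_iff_mem.1 hx
    have h1' : (0 : B) = j + i := h1
    have hj : (j : B) ∈ I := by
      rw [eq_neg_of_add_eq_zero_left h1'.symm]
      exact I.neg_mem hi
    have h2' : x = -D.φ j := h2
    rw [h2', D.h j hj, neg_zero]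
  · show Ideal.Quotient.mk G (TrivSqZeroExt.inl (j : B)) = _
    refine Ideal.Quotient.eq.2 ⟨j, 0, I.zero_mem, ?_, ?_⟩
    · show (j : B) - 0 = _
      rw [sub_zero, add_zero]
    · show (0 : M) - D.φ j = _
      rw [zero_sub]
  · show Ideal.Quotient.mk G (TrivSqZeroExt.inl i) = 0
    exact Ideal.Quotient.eq_zero_iff_mem.2 ⟨0, i, hi, by simp, by simp⟩
  · intro e
    obtain ⟨t, rfl⟩ := Ideal.Quotient.mk_surjective e
    refine ⟨t.fst, t.snd, ?_⟩
    show Ideal.Quotient.mk G (TrivSqZeroExt.inl t.fst) + Ideal.Quotient.mk G (TrivSqZeroExt.inr t.snd) = _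
    rw [← map_add, TrivSqZeroExt.inl_fst_add_inr_snd_eq]

/-- Square-zero lifting for test algebras in which `A` acts through `B ⧸ I ^ n`. -/
def LiftsAt (I : Ideal B) (n : ℕ) : Prop :=
  ∀ (E : Type u) [CommRing E] [Algebra A E] (N : Ideal E), N ^ 2 = ⊥ →
    (∀ a, algebraMap A B a ∈ I ^ n → algebraMap A E a = 0) →
    ∀ ψ : B →ₐ[A] E ⧸ N, (∃ k : ℕ, ∀ x ∈ I ^ k, ψ x = 0) →
      ∃ χ : B →ₐ[A] E, (Ideal.Quotient.mkₐ A N).comp χ = ψ

theorem liftsAt_of_isAdicFormallySmooth {I : Ideal B} (hB : CAlgX.IsAdicFormallySmooth A B I) (n : ℕ) :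
    LiftsAt (A := A) I n :=
  fun E _ _ N hN _ ψ hψ => hB E N hN ψ hψ

/-- Derivations lift along surjections of modules killed by a power of `I`. -/
theorem exists_derivation_lift {I : Ideal B} (n : ℕ) (hB : LiftsAt (A := A) I n)
    {M M' : Type u} [AddCommGroup M] [Module B M] [Module A M] [IsScalarTower A B M]
    [AddCommGroup M'] [Module B M'] [Module A M'] [IsScalarTower A B M']
    (hM : ∀ b ∈ I ^ n, ∀ x : M, b • x = 0) (p : M →ₗ[B] M') (hp : Function.Surjective p)
    (d' : Derivation A B M') : ∃ d : Derivation A B M, ∀ b, p (d b) = d' b := by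
  let D : Datum (I ^ n) (⊥ : Ideal B) M :=
    ⟨0, hM, fun b hb x => by rw [Ideal.mem_bot.1 hb, zero_smul], fun _ _ => rfl⟩
  obtain ⟨E, _, _, ι, a, fst, hfι, hfa, hfex, hmul, hsq, hinj, -, hι0, hgen⟩ := exists_extension (A := A) D
  let N : Ideal E :=
    { carrier := a '' (LinearMap.ker p : Set M)
      zero_mem' := ⟨0, Submodule.zero_mem _, map_zero a⟩
      add_mem' := by
        rintro _ _ ⟨x, hx, rfl⟩ ⟨y, hy, rfl⟩
        exact ⟨x + y, add_mem hx hy, map_add a x y⟩
      smul_mem' := by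
        rintro e _ ⟨x, hx, rfl⟩
        obtain ⟨b, y, rfl⟩ := hgen e
        exact ⟨b • x, Submodule.smul_mem _ b hx, by rw [smul_eq_mul, add_mul, hmul, hsq, add_zero]⟩ }
  have hN : N ^ 2 = ⊥ := by
    rw [sq, eq_bot_iff, Ideal.mul_le]
    rintro _ ⟨x, -, rfl⟩ _ ⟨y, -, rfl⟩
    exact hsq x y
  choose y hy using fun b => hp (d' b)
  let ψ₀ : B → E ⧸ N := fun b => Ideal.Quotient.mk N (ι b + a (y b))
  have hmem : ∀ {x x' : M}, p x = p x' → Ideal.Quotient.mk N (a x) = Ideal.Quotient.mk N (a x') :=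
    fun {x x'} h => Ideal.Quotient.eq.2 ⟨x - x', LinearMap.mem_ker.2 (by rw [map_sub, h, sub_self]),
      map_sub a x x'⟩
  let ψ : B →ₐ[A] E ⧸ N :=
    { toFun := ψ₀
      map_one' := by
        show Ideal.Quotient.mk N (ι 1 + a (y 1)) = 1
        rw [map_add, hmem (x' := 0) (by rw [hy, Derivation.map_one_eq_zero, map_zero]), map_one,
          map_zero, map_one, map_zero, add_zero]
      map_mul' := fun b c => by
        show Ideal.Quotient.mk N (ι (b * c) + a (y (b * c))) =
          Ideal.Quotient.mk N (ι b + a (y b)) * Ideal.Quotient.mk N (ι c + a (y c))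
        rw [← map_mul (Ideal.Quotient.mk N),
          show (ι b + a (y b)) * (ι c + a (y c)) = ι (b * c) + a (b • y c + c • y b) by
            rw [map_add, ← hmul, ← hmul, map_mul]; linear_combination hsq (y b) (y c),
          map_add, map_add, hmem (x' := b • y c + c • y b)
            (by rw [hy, map_add, map_smul, map_smul, hy, hy, Derivation.leibniz])]
      map_zero' := by
        show Ideal.Quotient.mk N (ι 0 + a (y 0)) = 0
        simp only [map_add, hmem (x' := 0) (show p (y 0) = p 0 by rw [hy, map_zero, map_zero]),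
          map_zero, add_zero]
      map_add' := fun b c => by
        show Ideal.Quotient.mk N (ι (b + c) + a (y (b + c))) =
          Ideal.Quotient.mk N (ι b + a (y b)) + Ideal.Quotient.mk N (ι c + a (y c))
        simp only [map_add, hmem (x' := y b + y c) (show p (y (b + c)) = p (y b + y c) by
          rw [hy, map_add, map_add, hy, hy])]
        abel
      commutes' := fun r => by
        show Ideal.Quotient.mk N (ι (algebraMap A B r) + a (y (algebraMap A B r))) = _
        rw [map_add, hmem (x' := 0) (by rw [hy, Derivation.map_algebraMap, map_zero]), AlgHom.commutes,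
          map_zero, map_zero, add_zero]
        rfl }
  obtain ⟨χ, hχ⟩ := hB E N hN (fun a ha => by rw [← AlgHom.commutes ι, hι0 _ ha]) ψ ⟨n * 2, fun b hb => by
    show Ideal.Quotient.mk N (ι b + a (y b)) = 0
    have hb1 : b ∈ I ^ n := Ideal.pow_le_pow_right (Nat.le_mul_of_pos_right n two_pos) hb
    have hd : d' b = 0 := by
      rw [pow_mul, sq] at hb
      refine Submodule.mul_induction_on hb (fun u hu v hv => ?_) (fun u v hu hv => by rw [map_add, hu, hv, add_zero])
      rw [Derivation.leibniz, ← hy u, ← hy v, ← map_smul, ← map_smul, hM u hu, hM v hv, map_zero, add_zero]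
    rw [map_add, hι0 b hb1, hmem (x' := 0) (by rw [hy, hd, map_zero]), map_zero, map_zero, map_zero,
      add_zero]⟩
  have hχ' : ∀ b, ∃ x, p x = d' b ∧ a x = χ b - ι b := fun b => by
    obtain ⟨z, hz, hz'⟩ := Ideal.Quotient.eq.1 (AlgHom.congr_fun hχ b :
      Ideal.Quotient.mk N (χ b) = Ideal.Quotient.mk N (ι b + a (y b)))
    refine ⟨z + y b, by rw [map_add, LinearMap.mem_ker.1 hz, zero_add, hy], ?_⟩
    rw [map_add]
    replace hz' : a z = χ b - (ι b + a (y b)) := hz'
    linear_combination hz'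
  choose d hd1 hd2 using hχ'
  have hadd : ∀ u v, d (u + v) = d u + d v := fun u v => hinj (by
    simp only [map_add, hd2]
    ring)
  have hmul' : ∀ u v, d (u * v) = u • d v + v • d u := fun u v => hinj (by
    rw [map_add, ← hmul, ← hmul, hd2, hd2, hd2, map_mul, map_mul]
    have h0 := hsq (d u) (d v)
    rw [hd2, hd2] at h0
    linear_combination h0)
  exact ⟨Derivation.mk'
    { toFun := d
      map_add' := hadd
      map_smul' := fun r u => hinj (by
        rw [RingHom.id_apply, ← algebraMap_smul B r (d u), ← hmul, hd2, hd2, map_smul, map_smul,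
          AlgHom.commutes, Algebra.smul_def, Algebra.smul_def]
        ring) }
    hmul', fun b => hd1 b⟩

variable {J : Ideal B}

/-- Extension over a nilpotent thickening. -/
theorem ext_of_pow {I : Ideal B} (hB : CAlgX.IsAdicFormallySmooth A B I) {K : Ideal B}
    (h : Ext (A := A) J K) {K' : Ideal B} (hJK' : J ≤ K') {n : ℕ} (hn : I ^ n ≤ K') {m : ℕ}
    (hm : K ^ m ≤ K') : Ext (A := A) J K' := by
  suffices ∀ (s : ℕ) (M : Type u) [AddCommGroup M] [Module B M] [Module A M] [IsScalarTower A B M],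
      (∀ b ∈ I ^ n, ∀ x : M, b • x = 0) → (∀ b ∈ J, ∀ x : M, b • x = 0) →
      (∀ b ∈ K ^ s, ∀ x : M, b • x = 0) → ∀ φ : J →ₗ[B] M,
        ∃ d : Derivation A B M, ∀ j : J, d j = φ j by
    intro M _ _ _ _ hM φ
    exact this m M (fun b hb => hM b (hn hb)) (fun b hb => hM b (hJK' hb))
      (fun b hb => hM b (hm hb)) φ
  intro s
  induction s with
  | zero =>
    intro M _ _ _ _ _ _ h0 φ
    refine ⟨0, fun j => ?_⟩
    have := h0 1 (by simp) (φ j)
    rw [one_smul] at this
    rw [this]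
    rfl
  | succ s ih =>
    intro M _ _ _ _ hI hJ hK φ
    let M' : Submodule B M := K • ⊤
    obtain ⟨d', hd'⟩ := h (M ⧸ M') (fun b hb x => by
      obtain ⟨x, rfl⟩ := Submodule.Quotient.mk_surjective _ x
      rw [← Submodule.Quotient.mk_smul, Submodule.Quotient.mk_eq_zero]
      exact Submodule.smul_mem_smul hb trivial) (M'.mkQ ∘ₗ φ)
    obtain ⟨d, hd⟩ := exists_derivation_lift n (liftsAt_of_isAdicFormallySmooth hB n) hI M'.mkQ M'.mkQ_surjective d'
    have hmem : ∀ j : J, φ j - d j ∈ M' := fun j => by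
      rw [← Submodule.Quotient.eq]
      exact ((hd j).trans (hd' j)).symm
    let δ : J →ₗ[B] M' :=
      { toFun := fun j => ⟨φ j - d j, hmem j⟩
        map_add' := fun i j => Subtype.ext (by
          simp only [Submodule.coe_add, map_add]
          abel)
        map_smul' := fun b j => Subtype.ext (by
          simp only [SetLike.val_smul, smul_eq_mul, map_smul, Derivation.leibniz, RingHom.id_apply,
            hJ (j : B) j.2, add_zero, smul_sub]) }
    obtain ⟨e, he⟩ := ih M' (fun b hb x => Subtype.ext (hI b hb x.1))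
      (fun b hb x => Subtype.ext (hJ b hb x.1)) (fun b hb x => Subtype.ext (by
        show b • x.1 = 0
        refine Submodule.smul_induction_on x.2 (fun c hc y _ => ?_) (fun u v hu hv => by rw [smul_add, hu, hv, add_zero])
        rw [smul_smul]
        exact hK (b * c) (by rw [pow_succ]; exact Ideal.mul_mem_mul hb hc) y)) δ
    refine ⟨d + M'.subtype.compDer e, fun j => ?_⟩
    show d j + (e j : M) = φ j
    rw [he]
    show d j + (φ j - d j) = _
    abel

/-- Square-zero lifting of the quotient from extension of derivations. -/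
theorem isAdicFormallySmooth_of_ext {I J : Ideal B} (hB : CAlgX.IsAdicFormallySmooth A B I)
    (h : ∀ n, Ext (A := A) J (I ^ n ⊔ J)) :
    CAlgX.IsAdicFormallySmooth A (B ⧸ J) (I.map (Ideal.Quotient.mk J)) := by
  intro E _ _ N hN ψ ⟨k, hk⟩
  have hkI : ∀ b ∈ I ^ k, ψ (Ideal.Quotient.mk J b) = 0 := fun b hb =>
    hk _ (by rw [← Ideal.map_pow]; exact Ideal.mem_map_of_mem _ hb)
  obtain ⟨χ, hχ⟩ := hB E N hN (ψ.comp (Ideal.Quotient.mkₐ A J)) ⟨k, hkI⟩
  letI : Algebra B E := χ.toRingHom.toAlgebra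
  haveI : IsScalarTower A B E := IsScalarTower.of_algebraMap_eq fun r => (χ.commutes r).symm
  have hχN : ∀ b, Ideal.Quotient.mk N (χ b) = ψ (Ideal.Quotient.mk J b) := fun b =>
    AlgHom.congr_fun hχ b
  have hNN : ∀ x ∈ N, ∀ y ∈ N, x * y = 0 := fun x hx y hy => by
    have := Ideal.mul_mem_mul hx hy
    rwa [← sq, hN, Ideal.mem_bot] at this
  let N' : Submodule B E := N.restrictScalars B
  have hchiJ : ∀ b ∈ J, χ b ∈ N := fun b hb => Ideal.Quotient.eq_zero_iff_mem.1
    (by rw [hχN, Ideal.Quotient.eq_zero_iff_mem.2 hb, map_zero])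
  have hkill : ∀ b ∈ I ^ k ⊔ J, ∀ x : N', b • x = 0 := fun b hb x => Subtype.ext (by
    refine hNN _ ?_ _ x.2
    obtain ⟨i, hi, j, hj, rfl⟩ := Submodule.mem_sup.1 hb
    show χ (i + j) ∈ N
    rw [map_add]
    exact add_mem (Ideal.Quotient.eq_zero_iff_mem.1 (by rw [hχN, hkI i hi])) (hchiJ j hj))
  let φ : J →ₗ[B] N' :=
    { toFun := fun j => ⟨χ j, hchiJ j j.2⟩
      map_add' := fun i j => Subtype.ext (map_add χ _ _)
      map_smul' := fun b j => Subtype.ext (map_mul χ b j) }
  obtain ⟨d, hd⟩ := h k N' hkill φ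
  let χ' : B →ₐ[A] E :=
    { toFun := fun b => χ b - (d b : E)
      map_one' := by simp
      map_mul' := fun b c => by
        rw [Derivation.leibniz, Submodule.coe_add, map_mul]
        show χ b * χ c - (χ b * (d c : E) + χ c * (d b : E)) = _
        linear_combination (-1 : E) * hNN _ (d b).2 _ (d c).2
      map_zero' := by simp
      map_add' := fun b c => by simp [map_add]; abel
      commutes' := fun r => by simp }
  refine ⟨Ideal.Quotient.liftₐ J χ' fun b hb => ?_, ?_⟩
  · show χ b - (d b : E) = 0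
    rw [show d b = φ ⟨b, hb⟩ from hd ⟨b, hb⟩]
    exact sub_self _
  · refine Ideal.Quotient.algHom_ext A (AlgHom.ext fun b => ?_)
    show Ideal.Quotient.mk N (χ b - (d b : E)) = ψ (Ideal.Quotient.mk J b)
    rw [map_sub, hχN, Ideal.Quotient.eq_zero_iff_mem.2 (d b).2, sub_zero]

/-- Extension of derivations from formal smoothness of the quotient. -/
theorem ext_of_isAdicFormallySmooth [IsNoetherianRing B] {I J : Ideal B}
    (hC : CAlgX.IsAdicFormallySmooth A (B ⧸ J) (I.map (Ideal.Quotient.mk J))) (n : ℕ) :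
    Ext (A := A) J (I ^ n ⊔ J) := by
  intro M _ _ _ _ hM φ
  obtain ⟨c, hc⟩ := Ideal.exists_pow_inf_eq_pow_smul I (J : Submodule B B)
  have hIn : ∀ b ∈ I ^ n, ∀ x : M, b • x = 0 := fun b hb => hM b (Ideal.mem_sup_left hb)
  have hAR : ∀ j : J, (j : B) ∈ I ^ (n + c) → φ j = 0 := by
    intro j hj
    have h1 : (j : B) ∈ I ^ n • (J : Submodule B B) := by
      have h2 : (j : B) ∈ I ^ (n + c) • (⊤ : Submodule B B) ⊓ J :=
        ⟨by simpa using hj, j.2⟩
      rw [hc (n + c) (Nat.le_add_left _ _), Nat.add_sub_cancel] at h2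
      exact Submodule.smul_mono le_rfl inf_le_right h2
    suffices ∀ x ∈ I ^ n • (J : Submodule B B), ∃ hx : x ∈ J, φ ⟨x, hx⟩ = 0 by
      obtain ⟨_, h⟩ := this _ h1
      exact h
    intro x hx
    refine Submodule.smul_induction_on hx (fun i hi y hy => ⟨J.mul_mem_left i hy, ?_⟩) (fun u v hu hv => ?_)
    · rw [show (⟨i • y, J.mul_mem_left i hy⟩ : J) = i • (⟨y, hy⟩ : J) from rfl, map_smul, hIn i hi]
    · obtain ⟨hu', hu⟩ := hu
      obtain ⟨hv', hv⟩ := hv
      exact ⟨add_mem hu' hv', by rw [show (⟨u + v, add_mem hu' hv'⟩ : J) = ⟨u, hu'⟩ + ⟨v, hv'⟩ from rfl, map_add, hu, hv, add_zero]⟩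
  let D : Datum (I ^ (n + c)) J M :=
    ⟨φ, fun b hb => hIn b (Ideal.pow_le_pow_right (Nat.le_add_right _ _) hb),
      fun b hb => hM b (Ideal.mem_sup_right hb), hAR⟩
  obtain ⟨E, _, _, ι, a, fst, hfι, hfa, hfex, hmul, hsq, hinj, hιJ, hι0, hgen⟩ := exists_extension (A := A) D
  let N : Ideal E := RingHom.ker fst
  have hN : N ^ 2 = ⊥ := by
    rw [sq, eq_bot_iff, Ideal.mul_le]
    intro e he e' he'
    obtain ⟨x, rfl⟩ := hfex e he
    obtain ⟨y, rfl⟩ := hfex e' he'
    exact hsq x y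
  let ψ : (B ⧸ J) →ₐ[A] E ⧸ N := Ideal.Quotient.liftₐ J ((Ideal.Quotient.mkₐ A N).comp ι) fun j hj => by
    show Ideal.Quotient.mk N (ι j) = 0
    rw [hιJ ⟨j, hj⟩, Ideal.Quotient.eq_zero_iff_mem, RingHom.mem_ker, hfa]
  obtain ⟨χ, hχ⟩ := hC E N hN ψ ⟨n + c, fun y hy => by
    rw [← Ideal.map_pow, Ideal.mem_map_iff_of_surjective _ Ideal.Quotient.mk_surjective] at hy
    obtain ⟨i, hi, rfl⟩ := hy
    show Ideal.Quotient.mk N (ι i) = 0
    rw [hι0 i hi, map_zero]⟩
  have hd0 : ∀ b, ∃ x, a x = ι b - χ (Ideal.Quotient.mk J b) := fun b => hfex _ (by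
    have := Ideal.Quotient.eq.1 (AlgHom.congr_fun hχ (Ideal.Quotient.mk J b) :
      Ideal.Quotient.mk N (χ (Ideal.Quotient.mk J b)) = Ideal.Quotient.mk N (ι b))
    rw [RingHom.mem_ker, map_sub] at this
    rw [map_sub, ← neg_sub]
    exact neg_eq_zero.2 this)
  choose d hd using hd0
  have hmul' : ∀ u v, d (u * v) = u • d v + v • d u := fun u v => hinj (by
    rw [map_add, ← hmul, ← hmul, hd, hd, hd, map_mul, map_mul, map_mul]
    have h0 := hsq (d u) (d v)
    rw [hd, hd] at h0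
    linear_combination -h0)
  refine ⟨Derivation.mk'
    { toFun := d
      map_add' := fun u v => hinj (by simp only [map_add, hd]; ring)
      map_smul' := fun r u => hinj (by
        rw [RingHom.id_apply, ← algebraMap_smul B r (d u), ← hmul, hd, hd, map_smul,
          ← Ideal.Quotient.mkₐ_eq_mk A J, map_smul, map_smul, AlgHom.commutes, Algebra.smul_def,
          Algebra.smul_def]
        ring) }
    hmul', fun j => hinj ?_⟩
  show a (d j) = a (φ j)
  rw [hd, Ideal.Quotient.eq_zero_iff_mem.2 j.2, map_zero, sub_zero, hιJ]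

/-- The left inverse of the conormal map gives the extensions. -/
theorem ext_iff_retraction (J : Ideal B) (S : Type u) [CommRing S] [Algebra B S] [Algebra A S]
    [IsScalarTower A B S] [Algebra (B ⧸ J) S] [IsScalarTower B (B ⧸ J) S]
    (hs : Function.Surjective (algebraMap B S)) :
    Ext (A := A) J (RingHom.ker (algebraMap B S)) ↔
      ∃ g : S ⊗[B] ((B ⧸ J) ⊗[B] Ω[B⁄A]) →ₗ[S] S ⊗[B] (RingHom.ker (algebraMap B (B ⧸ J))).Cotangent,
        g ∘ₗ LinearMap.baseChange S (kerCotangentToTensor A B (B ⧸ J)) = LinearMap.id := by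
  have hk : RingHom.ker (algebraMap B (B ⧸ J)) = J := Ideal.mk_ker
  have hJK : J ≤ RingHom.ker (algebraMap B S) := fun j hj => by
    rw [RingHom.mem_ker, IsScalarTower.algebraMap_apply B (B ⧸ J) S,
      show algebraMap B (B ⧸ J) j = 0 from Ideal.Quotient.eq_zero_iff_mem.2 hj, map_zero]
  let C₀ := (RingHom.ker (algebraMap B (B ⧸ J))).Cotangent
  constructor
  · intro h
    let φ : J →ₗ[B] S ⊗[B] C₀ := (TensorProduct.mk B S C₀ 1) ∘ₗ
      (RingHom.ker (algebraMap B (B ⧸ J))).toCotangent ∘ₗ (Submodule.inclusion hk.ge)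
    have hzero : ∀ b ∈ RingHom.ker (algebraMap B S), ∀ x : S ⊗[B] C₀, b • x = 0 := fun b hb x => by
      rw [← algebraMap_smul S b x, RingHom.mem_ker.1 hb, zero_smul]
    obtain ⟨d, hd⟩ := h (S ⊗[B] C₀) hzero φ
    let σ : (B ⧸ J) ⊗[B] Ω[B⁄A] →ₗ[B] S ⊗[B] C₀ :=
      liftQuot (Ideal.Quotient.mk_surjective : Function.Surjective (algebraMap B (B ⧸ J)))
        d.liftKaehlerDifferential (fun b hb x => hzero b (hJK (hk.le hb)) _)
    let g₀ : S ⊗[B] ((B ⧸ J) ⊗[B] Ω[B⁄A]) →ₗ[B] S ⊗[B] C₀ :=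
      liftQuot hs σ (fun b hb x => hzero b hb _)
    refine ⟨LinearMap.extendScalarsOfSurjective hs g₀, LinearMap.ext fun z => ?_⟩
    induction z using TensorProduct.induction_on with
    | zero => simp
    | add x y hx hy => rw [map_add, map_add, hx, hy]
    | tmul s x =>
      obtain ⟨b, rfl⟩ := hs s
      obtain ⟨⟨j, hj⟩, rfl⟩ := (RingHom.ker (algebraMap B (B ⧸ J))).toCotangent_surjective x
      rw [LinearMap.comp_apply, LinearMap.baseChange_tmul, kerCotangentToTensor_toCotangent,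
        LinearMap.id_apply]
      show g₀ _ = _
      rw [liftQuot_tmul]
      show b • σ _ = _
      rw [liftQuot_one_tmul, Derivation.liftKaehlerDifferential_comp_D]
      show b • d ((⟨j, hk.le hj⟩ : J) : B) = _
      rw [hd]
      show b • (1 : S) ⊗ₜ[B] _ = _
      rw [TensorProduct.smul_tmul', Algebra.smul_def, mul_one]
      rfl
  · rintro ⟨g, hg⟩ M _ _ _ _ hM φ
    let φ₁ : RingHom.ker (algebraMap B (B ⧸ J)) →ₗ[B] M := φ ∘ₗ Submodule.inclusion hk.le
    let φ₂ : C₀ →ₗ[B] M := (RingHom.ker (algebraMap B (B ⧸ J)) • ⊤ : Submodule B _).liftQ φ₁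
      (show _ ≤ LinearMap.ker φ₁ by
        rw [Submodule.smul_le]
        intro r hr x _
        show φ₁ (r • x) = 0
        rw [φ₁.map_smul, hM r (hJK (hk.le hr))])
    let φ₃ : S ⊗[B] C₀ →ₗ[B] M := liftQuot hs φ₂ (fun b hb x => hM b hb _)
    let d : Derivation A B M := (φ₃ ∘ₗ (g.restrictScalars B) ∘ₗ
      (TensorProduct.mk B S ((B ⧸ J) ⊗[B] Ω[B⁄A]) 1) ∘ₗ
      (TensorProduct.mk B (B ⧸ J) Ω[B⁄A] 1)).compDer (D A B)
    refine ⟨d, fun j => ?_⟩
    show φ₃ (g ((1 : S) ⊗ₜ[B] ((1 : B ⧸ J) ⊗ₜ[B] D A B (j : B)))) = φ j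
    have := LinearMap.congr_fun hg
      ((1 : S) ⊗ₜ[B] (RingHom.ker (algebraMap B (B ⧸ J))).toCotangent ⟨j, hk.ge j.2⟩)
    rw [LinearMap.comp_apply, LinearMap.baseChange_tmul, kerCotangentToTensor_toCotangent,
      LinearMap.id_apply] at this
    rw [this, liftQuot_one_tmul]
    rfl

theorem ext_mono {J K K' : Ideal B} (h : Ext (A := A) J K) (hle : K ≤ K') : Ext (A := A) J K' :=
  fun M _ _ _ _ hM φ => h M (fun b hb => hM b (hle hb)) φ

/-- `Ω ⊗ B/K` is projective over `B/K`. -/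
theorem projective_kaehler_quotient {I K : Ideal B} (n : ℕ) (hB : LiftsAt (A := A) I n) (hK : I ^ n ≤ K) :
    Module.Projective (B ⧸ K) ((B ⧸ K) ⊗[B] Ω[B⁄A]) := by
  refine Module.Projective.of_lifting_property'' fun f hf => ?_
  have hkill : ∀ b ∈ I ^ n, ∀ x : ((B ⧸ K) ⊗[B] Ω[B⁄A]) →₀ (B ⧸ K), b • x = 0 := fun b hb x => by
    rw [← algebraMap_smul (B ⧸ K) b x, Ideal.Quotient.algebraMap_eq,
      Ideal.Quotient.eq_zero_iff_mem.2 (hK hb), zero_smul]
  obtain ⟨d, hd⟩ := exists_derivation_lift n hB hkill (f.restrictScalars B) hf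
    ((TensorProduct.mk B (B ⧸ K) Ω[B⁄A] 1).compDer (D A B))
  refine ⟨d.liftKaehlerDifferential.liftBaseChange (B ⧸ K),
    TensorProduct.AlgebraTensorModule.ext fun s ω => ?_⟩
  rw [LinearMap.comp_apply, LinearMap.liftBaseChange_tmul, map_smul, LinearMap.id_apply]
  have h1 : f (d.liftKaehlerDifferential ω) = (1 : B ⧸ K) ⊗ₜ[B] ω := by
    have : (f.restrictScalars B) ∘ₗ d.liftKaehlerDifferential =
        TensorProduct.mk B (B ⧸ K) Ω[B⁄A] 1 := Derivation.liftKaehlerDifferential_unique _ _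
      (Derivation.ext fun b => by
        show f (d.liftKaehlerDifferential (D A B b)) = _
        rw [Derivation.liftKaehlerDifferential_comp_D]
        exact hd b)
    exact LinearMap.congr_fun this ω
  rw [h1, TensorProduct.smul_tmul', smul_eq_mul, mul_one]

end Groth.Agent.H05EGA4.AdicConormal
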