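import Groth.Agent.H05EGA4.CotIdx2
import Mathlib.LinearAlgebra.Dimension.Constructions
import Mathlib.RingTheory.Flat.Basic

/-! Rank identities for admissibility defects. -/

set_option autoImplicit false
set_option linter.style.haveILetI false

open TensorProduct KaehlerDifferential

universe u u' w

namespace Groth.Agent.H05EGA4.Admissible

/-- Composition of the base change maps. -/
theorem map_map {k : Type*} {k' k'' : Type*} {K : Type w} [CommRing k] [CommRing k'] [CommRing k'']
    [CommRing K] [Algebra k k'] [Algebra k k''] [Algebra k' k''] [Algebra k K] [Algebra k' K] [Algebra k'' K]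
    [IsScalarTower k k' K] [IsScalarTower k' k'' K] [IsScalarTower k k'' K] (x : Ω[K⁄k]) :
    KaehlerDifferential.map k' k'' K K (KaehlerDifferential.map k k' K K x) =
      KaehlerDifferential.map k k'' K K x := by
  have hx : x ∈ Submodule.span K (Set.range (D k K)) := by rw [span_range_derivation]; trivial
  induction hx using Submodule.span_induction with
  | mem y hy =>
    obtain ⟨a, rfl⟩ := hy
    simp only [map_D, Algebra.algebraMap_self_apply]
  | zero => simp
  | add a b _ _ ha hb => simp only [map_add, ha, hb]
  | smul c a _ ha => simp only [map_smul, LinearMap.map_smul_of_tower, ha]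

/-- The kernel of a base change of a linear map, as a rank. -/
theorem rank_ker_baseChange_inf {L M : Type w} [Field L] [Field M] [Algebra L M] {V W W' : Type w}
    [AddCommGroup V] [Module L V] [AddCommGroup W] [Module L W] [AddCommGroup W'] [Module L W']
    (f : V →ₗ[L] W) (g : V →ₗ[L] W') :
    Module.rank M ↥(LinearMap.ker (f.baseChange M) ⊓ LinearMap.ker (g.baseChange M)) =
      Module.rank L ↥(LinearMap.ker f ⊓ LinearMap.ker g) := by
  let P := f.prod g
  have hP : LinearMap.ker (f.baseChange M) ⊓ LinearMap.ker (g.baseChange M) = LinearMap.ker (P.baseChange M) := by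
    have h1 : (LinearMap.fst L W W').baseChange M ∘ₗ P.baseChange M = f.baseChange M := by
      rw [← LinearMap.baseChange_comp, LinearMap.fst_prod]
    have h2 : (LinearMap.snd L W W').baseChange M ∘ₗ P.baseChange M = g.baseChange M := by
      rw [← LinearMap.baseChange_comp, LinearMap.snd_prod]
    have h3 : P.baseChange M = (LinearMap.inl L W W').baseChange M ∘ₗ f.baseChange M +
        (LinearMap.inr L W W').baseChange M ∘ₗ g.baseChange M := by
      rw [← LinearMap.baseChange_comp, ← LinearMap.baseChange_comp, ← LinearMap.baseChange_add]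
      congr 1
      ext x <;> simp [P]
    ext z
    simp only [Submodule.mem_inf, LinearMap.mem_ker]
    constructor
    · rintro ⟨hf, hg⟩
      rw [h3, LinearMap.add_apply, LinearMap.comp_apply, LinearMap.comp_apply, hf, hg, map_zero, map_zero, add_zero]
    · intro h
      exact ⟨by rw [← h1, LinearMap.comp_apply, h, map_zero], by rw [← h2, LinearMap.comp_apply, h, map_zero]⟩
  have hinj : Function.Injective ((LinearMap.ker P).subtype.baseChange M) :=
    Module.Flat.lTensor_preserves_injective_linearMap _ (Submodule.injective_subtype _)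
  have hran : LinearMap.range ((LinearMap.ker P).subtype.baseChange M) = LinearMap.ker (P.baseChange M) :=
    Submodule.ext fun x => ((Module.Flat.lTensor_exact M (LinearMap.exact_subtype_ker_map P)) x).symm
  rw [hP, ← hran, (LinearEquiv.ofInjective _ hinj).rank_eq.symm, Module.rank_baseChange, Cardinal.lift_id,
    LinearMap.ker_prod]

variable {k₀ : Type u} {k : Type u'} {K L M : Type w} [Field k₀] [Field k] [Field K] [Field L] [Field M]
  [Algebra k₀ k] [Algebra k₀ L] [Algebra k L] [IsScalarTower k₀ k L] [Algebra L M] [Algebra k M]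
  [IsScalarTower k L M]

variable (k₀ k L M) in
/-- The differentials of the base inside those of `L`. -/
noncomputable def psi : M ⊗[k] Ω[k⁄k₀] →ₗ[M] M ⊗[L] Ω[L⁄k₀] :=
  ((TensorProduct.mk L M Ω[L⁄k₀] 1).restrictScalars k ∘ₗ
    KaehlerDifferential.map k₀ k₀ k L).liftBaseChange M

theorem psi_tmul_D (m : M) (c : k) :
    psi k₀ k L M (m ⊗ₜ D k₀ k c) = m ⊗ₜ[L] D k₀ L (algebraMap k L c) := by
  simp only [psi, LinearMap.liftBaseChange_tmul, LinearMap.comp_apply, LinearMap.restrictScalars_apply,
    map_D, TensorProduct.mk_apply, smul_tmul', smul_eq_mul, mul_one]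

theorem map_psi (x : M ⊗[k] Ω[k⁄k₀]) :
    (KaehlerDifferential.map k₀ k L L).baseChange M (psi k₀ k L M x) = 0 := by
  induction x using TensorProduct.induction_on with
  | zero => simp
  | add a b ha hb => simp only [map_add, ha, hb, add_zero]
  | tmul m y =>
    have hy : y ∈ Submodule.span k (Set.range (D k₀ k)) := by rw [span_range_derivation]; trivial
    induction hy using Submodule.span_induction generalizing m with
    | mem z hz =>
      obtain ⟨c, rfl⟩ := hz
      rw [psi_tmul_D, LinearMap.baseChange_tmul, map_D, Algebra.algebraMap_self_apply,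
        Derivation.map_algebraMap, tmul_zero]
    | zero => simp
    | add a b _ _ ha hb => simp only [tmul_add, map_add, ha m, hb m, add_zero]
    | smul c a _ ha => rw [← smul_tmul]; exact ha _

theorem exists_psi_of_map_eq_zero {w : M ⊗[L] Ω[L⁄k₀]}
    (hw : (KaehlerDifferential.map k₀ k L L).baseChange M w = 0) : ∃ ζ, psi k₀ k L M ζ = w := by
  show w ∈ LinearMap.range (psi k₀ k L M)
  obtain ⟨y, rfl⟩ := (lTensor_exact M (exact_mapBaseChange_map k₀ k L) (map_surjective k₀ k L) w).1 hw
  clear hw
  induction y using TensorProduct.induction_on with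
  | zero => rw [map_zero]; exact zero_mem _
  | add a b ha hb => rw [map_add]; exact add_mem ha hb
  | tmul m z =>
    induction z using TensorProduct.induction_on generalizing m with
    | zero => rw [tmul_zero, map_zero]; exact zero_mem _
    | add a b ha hb => rw [tmul_add, map_add]; exact add_mem (ha m) (hb m)
    | tmul l ω =>
      have hω : ω ∈ Submodule.span k (Set.range (D k₀ k)) := by rw [span_range_derivation]; trivial
      induction hω using Submodule.span_induction generalizing l with
      | mem x hx =>
        obtain ⟨c, rfl⟩ := hx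
        rw [LinearMap.lTensor_tmul, mapBaseChange_tmul, map_D, tmul_smul, smul_tmul']
        exact ⟨(l • m) ⊗ₜ D k₀ k c, psi_tmul_D _ c⟩
      | zero => rw [tmul_zero, tmul_zero, map_zero]; exact zero_mem _
      | add x y _ _ hx hy => rw [tmul_add, tmul_add, map_add]; exact add_mem (hx l) (hy l)
      | smul s x _ hx => rw [← smul_tmul]; exact hx _

variable [Algebra k₀ K] [Algebra k K] [IsScalarTower k₀ k K] [Algebra K L] [IsScalarTower k₀ K L]
  [IsScalarTower k K L] [Algebra K M] [IsScalarTower K L M] [IsScalarTower k K M]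
  [Algebra k₀ M] [IsScalarTower k₀ K M] [IsScalarTower k₀ L M] [IsScalarTower k₀ k M]

variable (k₀ K L M) in
/-- `M ⊗ Ω_K → M ⊗ Ω_L`. -/
noncomputable def up : M ⊗[K] Ω[K⁄k₀] →ₗ[M] M ⊗[L] Ω[L⁄k₀] :=
  ((TensorProduct.mk L M Ω[L⁄k₀] 1).restrictScalars K ∘ₗ
    KaehlerDifferential.map k₀ k₀ K L).liftBaseChange M

omit [Field k] [Algebra k₀ k] [Algebra k L] [IsScalarTower k₀ k L] [Algebra k M] [IsScalarTower k L M]
  [Algebra k K] [IsScalarTower k₀ k K] [IsScalarTower k K L] [IsScalarTower k K M] [Algebra k₀ M]
  [IsScalarTower k₀ K M] [IsScalarTower k₀ L M] [IsScalarTower k₀ k M] in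
theorem up_tmul_D (m : M) (c : K) :
    up k₀ K L M (m ⊗ₜ D k₀ K c) = m ⊗ₜ[L] D k₀ L (algebraMap K L c) := by
  simp only [up, LinearMap.liftBaseChange_tmul, LinearMap.comp_apply, LinearMap.restrictScalars_apply,
    map_D, TensorProduct.mk_apply, smul_tmul', smul_eq_mul, mul_one]

theorem up_psi (x : M ⊗[k] Ω[k⁄k₀]) :
    up k₀ K L M (psi k₀ k K M x) = psi k₀ k L M x := by
  induction x using TensorProduct.induction_on with
  | zero => simp
  | add a b ha hb => simp only [map_add, ha, hb]
  | tmul m y =>
    have hy : y ∈ Submodule.span k (Set.range (D k₀ k)) := by rw [span_range_derivation]; trivial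
    induction hy using Submodule.span_induction generalizing m with
    | mem z hz =>
      obtain ⟨c, rfl⟩ := hz
      rw [psi_tmul_D, up_tmul_D, psi_tmul_D, ← IsScalarTower.algebraMap_apply]
    | zero => simp
    | add a b _ _ ha hb => simp only [tmul_add, map_add, ha m, hb m]
    | smul c a _ ha => rw [← smul_tmul]; exact ha _

theorem mapBaseChange_up (z : M ⊗[K] Ω[K⁄k₀]) :
    mapBaseChange k₀ L M (up k₀ K L M z) = mapBaseChange k₀ K M z := by
  induction z using TensorProduct.induction_on with
  | zero => simp
  | add a b ha hb => simp only [map_add, ha, hb]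
  | tmul m y =>
    have hy : y ∈ Submodule.span K (Set.range (D k₀ K)) := by rw [span_range_derivation]; trivial
    induction hy using Submodule.span_induction generalizing m with
    | mem z hz =>
      obtain ⟨c, rfl⟩ := hz
      rw [up_tmul_D, mapBaseChange_tmul, mapBaseChange_tmul, map_D, map_D, ← IsScalarTower.algebraMap_apply]
    | zero => simp
    | add a b _ _ ha hb => simp only [tmul_add, map_add, ha m, hb m]
    | smul c a _ ha => rw [← smul_tmul]; exact ha _

theorem map_up (z : M ⊗[K] Ω[K⁄k₀]) :
    (KaehlerDifferential.map k₀ k L L).baseChange M (up k₀ K L M z) =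
      up k K L M ((KaehlerDifferential.map k₀ k K K).baseChange M z) := by
  induction z using TensorProduct.induction_on with
  | zero => simp
  | add a b ha hb => simp only [map_add, ha, hb]
  | tmul m y =>
    have hy : y ∈ Submodule.span K (Set.range (D k₀ K)) := by rw [span_range_derivation]; trivial
    induction hy using Submodule.span_induction generalizing m with
    | mem z hz =>
      obtain ⟨c, rfl⟩ := hz
      rw [up_tmul_D, LinearMap.baseChange_tmul, LinearMap.baseChange_tmul, map_D, map_D,
        Algebra.algebraMap_self_apply, Algebra.algebraMap_self_apply, up_tmul_D]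
    | zero => simp
    | add a b _ _ ha hb => simp only [tmul_add, map_add, ha m, hb m]
    | smul c a _ ha => rw [← smul_tmul]; exact ha _

theorem rank_tower :
    Module.rank M ↥(EGA41.imperfection k₀ K M ⊓
          LinearMap.ker ((KaehlerDifferential.map k₀ k K K).baseChange M)) =
      Module.rank M ↥(EGA41.imperfection k₀ L M ⊓
            LinearMap.ker ((KaehlerDifferential.map k₀ k L L).baseChange M)) +
        Module.rank L ↥(EGA41.imperfection k₀ K L ⊓
            LinearMap.ker ((KaehlerDifferential.map k₀ k K K).baseChange L)) := by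
  let mK := (KaehlerDifferential.map k₀ k K K).baseChange M
  let mL := (KaehlerDifferential.map k₀ k L L).baseChange M
  let g := up k₀ K L M
  let P : Submodule M (M ⊗[K] Ω[K⁄k₀]) := EGA41.imperfection k₀ K M ⊓ LinearMap.ker mK
  have hrange : LinearMap.range (g ∘ₗ P.subtype) = EGA41.imperfection k₀ L M ⊓ LinearMap.ker mL := by
    refine le_antisymm ?_ fun w hw => ?_
    · rintro _ ⟨⟨z, hz1, hz2⟩, rfl⟩
      refine ⟨?_, ?_⟩
      · show mapBaseChange k₀ L M (g z) = 0
        rw [mapBaseChange_up]; exact hz1
      · show mL (g z) = 0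
        rw [show mL (g z) = up k K L M (mK z) from map_up z, show mK z = 0 from hz2, map_zero]
    · obtain ⟨ζ, hζ⟩ := exists_psi_of_map_eq_zero hw.2
      have hg : g (psi k₀ k K M ζ) = w := (up_psi ζ).trans hζ
      refine ⟨⟨psi k₀ k K M ζ, ?_, map_psi ζ⟩, hg⟩
      show mapBaseChange k₀ K M _ = 0
      rw [← mapBaseChange_up (L := L), show up k₀ K L M (psi k₀ k K M ζ) = w from hg]
      exact hw.1
  have hsum := LinearMap.rank_range_add_rank_ker (R := M) (M := ↥P) (M₁ := M ⊗[L] Ω[L⁄k₀]) (g ∘ₗ P.subtype)
  rw [hrange] at hsum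
  rw [← hsum]
  congr 1
  let e : M ⊗[L] (L ⊗[K] Ω[K⁄k₀]) ≃ₗ[M] M ⊗[K] Ω[K⁄k₀] :=
    AlgebraTensorModule.cancelBaseChange K L M M Ω[K⁄k₀]
  let e' : M ⊗[L] (L ⊗[K] Ω[K⁄k]) ≃ₗ[M] M ⊗[K] Ω[K⁄k] :=
    AlgebraTensorModule.cancelBaseChange K L M M Ω[K⁄k]
  let f1 := mapBaseChange k₀ K L
  let f2 := (KaehlerDifferential.map k₀ k K K).baseChange L
  have h1 : ∀ y, g (e y) = f1.baseChange M y := by
    intro y
    induction y using TensorProduct.induction_on with
    | zero => simp
    | add a b ha hb => simp only [map_add, ha, hb]
    | tmul m x =>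
      induction x using TensorProduct.induction_on generalizing m with
      | zero => simp
      | add a b ha hb => simp only [tmul_add, map_add, ha m, hb m]
      | tmul l ω =>
        have hy : ω ∈ Submodule.span K (Set.range (D k₀ K)) := by rw [span_range_derivation]; trivial
        induction hy using Submodule.span_induction generalizing l with
        | mem z hz =>
          obtain ⟨c, rfl⟩ := hz
          simp only [g, e, f1, AlgebraTensorModule.cancelBaseChange_tmul, LinearMap.baseChange_tmul,
            mapBaseChange_tmul, map_D, up_tmul_D, smul_tmul]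
        | zero => simp
        | add a b _ _ ha hb => simp only [tmul_add, map_add, ha l, hb l]
        | smul c a _ ha => rw [← smul_tmul (R' := K)]; exact ha _
  have h2 : ∀ y, mK (e y) = e' (f2.baseChange M y) := by
    intro y
    induction y using TensorProduct.induction_on with
    | zero => simp
    | add a b ha hb => simp only [map_add, ha, hb]
    | tmul m x =>
      induction x using TensorProduct.induction_on generalizing m with
      | zero => simp
      | add a b ha hb => simp only [tmul_add, map_add, ha m, hb m]
      | tmul l ω =>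
        simp only [mK, f2, e, e', AlgebraTensorModule.cancelBaseChange_tmul, LinearMap.baseChange_tmul]
  have hk : (LinearMap.ker (g ∘ₗ P.subtype)).map P.subtype =
      (LinearMap.ker (f1.baseChange M) ⊓ LinearMap.ker (f2.baseChange M)).map e.toLinearMap := by
    ext z
    constructor
    · rintro ⟨⟨x, hx1, hx2⟩, hx, rfl⟩
      refine ⟨e.symm x, ⟨?_, ?_⟩, e.apply_symm_apply x⟩
      · show f1.baseChange M (e.symm x) = 0
        rw [← h1, e.apply_symm_apply]; exact hx
      · show f2.baseChange M (e.symm x) = 0
        rw [← e'.map_eq_zero_iff, ← h2, e.apply_symm_apply]; exact hx2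
    · rintro ⟨y, ⟨hy1, hy2⟩, rfl⟩
      have hg0 : g (e y) = 0 := (h1 y).trans hy1
      refine ⟨⟨e y, ?_, ?_⟩, hg0, rfl⟩
      · show mapBaseChange k₀ K M (e y) = 0
        rw [← mapBaseChange_up (L := L), show up k₀ K L M (e y) = 0 from hg0, map_zero]
      · show mK (e y) = 0
        rw [h2, show f2.baseChange M y = 0 from hy2, map_zero]
  rw [show Module.rank M ↥(LinearMap.ker (g ∘ₗ P.subtype)) =
      Module.rank M ↥((LinearMap.ker (g ∘ₗ P.subtype)).map P.subtype) from
        (Submodule.equivMapOfInjective _ P.injective_subtype _).rank_eq, hk,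
    ← (Submodule.equivMapOfInjective _ e.injective _).rank_eq]
  exact rank_ker_baseChange_inf f1 f2

theorem rank_base {k : Type*} {k' k'' : Type*} {K L : Type w} [Field k] [Field k'] [Field k''] [Field K] [Field L]
    [Algebra k k'] [Algebra k k''] [Algebra k' k''] [IsScalarTower k k' k'']
    [Algebra k K] [Algebra k' K] [Algebra k'' K] [IsScalarTower k k' K] [IsScalarTower k' k'' K]
    [IsScalarTower k k'' K] [Algebra K L] [Algebra k L] [Algebra k' L] [IsScalarTower k k' L]
    [IsScalarTower k K L] [IsScalarTower k' K L] :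
    Module.rank L ↥(EGA41.imperfection k K L ⊓
            LinearMap.ker ((KaehlerDifferential.map k k'' K K).baseChange L)) =
        Module.rank L ↥(EGA41.imperfection k' K L ⊓
              LinearMap.ker ((KaehlerDifferential.map k' k'' K K).baseChange L)) +
          Module.rank L ↥(EGA41.imperfection k K L ⊓
              LinearMap.ker ((KaehlerDifferential.map k k' K K).baseChange L)) := by
  let f := (KaehlerDifferential.map k k' K K).baseChange L
  let g := (KaehlerDifferential.map k' k'' K K).baseChange L
  let h := (KaehlerDifferential.map k k'' K K).baseChange L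
  let P : Submodule L (L ⊗[K] Ω[K⁄k]) := EGA41.imperfection k K L ⊓ LinearMap.ker h
  have hgf : ∀ z, g (f z) = h z := fun z => by
    induction z using TensorProduct.induction_on with
    | zero => simp
    | add a b ha hb => simp only [map_add, ha, hb]
    | tmul l x => simp only [f, g, h, LinearMap.baseChange_tmul, map_map]
  have hrange : LinearMap.range (f ∘ₗ P.subtype) = EGA41.imperfection k' K L ⊓ LinearMap.ker g := by
    refine le_antisymm ?_ fun w hw => ?_
    · rintro _ ⟨⟨z, hz1, hz2⟩, rfl⟩
      refine ⟨?_, ?_⟩
      · show mapBaseChange k' K L (f z) = 0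
        rw [CotIdx.mapBaseChange_map, show mapBaseChange k K L z = 0 from hz1, map_zero]
      · show g (f z) = 0
        rw [hgf]; exact hz2
    · obtain ⟨z, hz, hzw⟩ := CotIdx.imperfection_map_surjective (R := k) hw.1
      refine ⟨⟨z, hz, ?_⟩, hzw⟩
      show h z = 0
      rw [← hgf, show f z = w from hzw]
      exact hw.2
  have hsum := LinearMap.rank_range_add_rank_ker (R := L) (M := ↥P) (M₁ := L ⊗[K] Ω[K⁄k']) (f ∘ₗ P.subtype)
  rw [hrange] at hsum
  rw [← hsum]
  congr 1
  rw [(Submodule.equivMapOfInjective _ P.injective_subtype (LinearMap.ker (f ∘ₗ P.subtype))).rank_eq]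
  refine (LinearEquiv.ofEq _ _ ?_).rank_eq
  ext z
  refine ⟨fun ⟨x, hx, hxz⟩ => hxz ▸ ⟨x.2.1, hx⟩, fun ⟨hz1, hz2⟩ => ⟨⟨z, hz1, ?_⟩, hz2, rfl⟩⟩
  show h z = 0
  rw [← hgf, show f z = 0 from hz2, map_zero]

theorem baseChange_map_map {k : Type*} {k' k'' : Type*} {K L : Type w} [Field k] [Field k'] [Field k''] [Field K]
    [Field L] [Algebra k k'] [Algebra k k''] [Algebra k' k'']
    [Algebra k K] [Algebra k' K] [Algebra k'' K] [IsScalarTower k k' K] [IsScalarTower k' k'' K]
    [IsScalarTower k k'' K] [Algebra K L] (z : L ⊗[K] Ω[K⁄k]) :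
    (KaehlerDifferential.map k' k'' K K).baseChange L ((KaehlerDifferential.map k k' K K).baseChange L z) =
      (KaehlerDifferential.map k k'' K K).baseChange L z := by
  induction z using TensorProduct.induction_on with
  | zero => simp
  | add a b ha hb => simp only [map_add, ha, hb]
  | tmul l x => simp only [LinearMap.baseChange_tmul, map_map]

end Groth.Agent.H05EGA4.Admissible
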