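import Mathlib
import Groth.Prelude.Def_EGA4b
import Groth.Agent.H8Props.HartogsTwo
import Groth.Agent.H24Def.Hartogs
import Groth.Agent.H7Flat.IndQuasiAffine
import Groth.Agent.S0065
import Groth.Agent.S2821

/-!
The affine hull of a quasi-compact open of a regular affine scheme is an open subscheme (helper5).
-/

set_option autoImplicit false
set_option linter.style.haveILetI false
set_option maxHeartbeats 800000
universe u
open Groth.Agent CategoryTheory AlgebraicGeometry

namespace Groth.Agent.H05EGA4.AffineHull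

/-- A prime of height at most one of a UFD is principal. -/
theorem isPrincipal_of_height_le_one {A : Type u} [CommRing A] [IsDomain A] [UniqueFactorizationMonoid A]
    (p : Ideal A) [p.IsPrime] (h : p.height ≤ 1) : ∃ a, p = Ideal.span {a} := by
  rcases eq_or_ne p ⊥ with rfl | hp
  · exact ⟨0, by simp⟩
  obtain ⟨π, hπp, hπ⟩ := Ideal.IsPrime.exists_mem_prime_of_ne_bot ‹p.IsPrime› hp
  refine ⟨π, ?_⟩
  haveI : (Ideal.span {π}).IsPrime := (Ideal.span_singleton_prime hπ.ne_zero).mpr hπ
  have hle : Ideal.span {π} ≤ p := (Ideal.span_singleton_le_iff_mem p).mpr hπp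
  by_contra hne
  have hlt : Ideal.span {π} < p := lt_of_le_of_ne hle (Ne.symm hne)
  haveI : p.FiniteHeight := ⟨Or.inr (ne_top_of_le_ne_top (by simp) h)⟩
  haveI : (Ideal.span {π}).FiniteHeight :=
    ⟨Or.inr (ne_top_of_le_ne_top (by simp) ((Ideal.height_mono hle).trans h))⟩
  have h1 := (Ideal.height_strict_mono_of_isPrime hlt).trans_le h
  rw [ENat.lt_one_iff_eq_zero, Ideal.height_eq_zero_iff, IsDomain.minimalPrimes_eq_singleton_bot, Set.mem_singleton_iff, Ideal.span_singleton_eq_bot] at h1
  exact hπ.ne_zero h1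

/-- A regular local ring of dimension at least two has a regular pair in its maximal ideal. -/
theorem exists_pair {A : Type u} [CommRing A] [IsRegularLocalRing A] (h : (2 : WithBot ℕ∞) ≤ ringKrullDim A) :
    ∃ a b : A, a ∈ IsLocalRing.maximalIdeal A ∧ b ∈ IsLocalRing.maximalIdeal A ∧
      RingTheory.Sequence.IsWeaklyRegular A [a, b] := by
  haveI := (Groth.Agent.S2821.result A).1
  haveI := (Groth.Agent.S2821.result A).2
  obtain ⟨x, hx, y, hy, hxr, hxy⟩ := H24Def.exists_regular_pair (R := A)
    (fun p _ => ⟨inferInstance, isIntegrallyClosed_of_isLocalization (Localization.AtPrime p) p.primeCompl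
      p.primeCompl_le_nonZeroDivisors⟩) (IsLocalRing.maximalIdeal A) (fun p _ hp => by
      rw [← (IsLocalRing.maximalIdeal.isMaximal A).eq_of_le (Ideal.IsPrime.ne_top inferInstance) hp]
      rw [← IsLocalRing.maximalIdeal_height_eq_ringKrullDim] at h
      exact WithBot.coe_le_coe.mp (h : ((2 : ℕ∞) : WithBot ℕ∞) ≤ _))
  refine ⟨x, y, hx, hy, ?_⟩
  rw [RingTheory.Sequence.isWeaklyRegular_cons_iff, RingTheory.Sequence.isWeaklyRegular_cons_iff]
  refine ⟨fun a b hab => hxr.left (by simpa using hab), ?_, RingTheory.Sequence.IsWeaklyRegular.nil _ _⟩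
  intro a b hab
  induction a using Submodule.Quotient.induction_on with
  | H a =>
    induction b using Submodule.Quotient.induction_on with
    | H b =>
      rw [Submodule.Quotient.eq]
      have h2 : (Submodule.Quotient.mk (y • a) : QuotSMulTop x A) = Submodule.Quotient.mk (y • b) := hab
      rw [Submodule.Quotient.eq, ← smul_sub, smul_eq_mul, Submodule.mem_smul_pointwise_iff_exists] at h2
      obtain ⟨c, -, hc⟩ := h2
      obtain ⟨d, hd⟩ := hxy (a - b) ⟨c, hc.symm⟩
      exact Submodule.mem_smul_pointwise_iff_exists _ _ _ |>.mpr ⟨d, Submodule.mem_top, hd.symm⟩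

/-- A finitely generated ideal that becomes principal at a prime is principal near it, up to a multiplier. -/
theorem exists_mul_le_span {B : Type u} [CommRing B] (I : Ideal B) (hI : I.FG) (q : Ideal B) [q.IsPrime]
    (a : Localization.AtPrime q) (ha : I.map (algebraMap B (Localization.AtPrime q)) = Ideal.span {a}) :
    ∃ g f : B, g ∉ q ∧ f ∈ I ∧ ∀ b ∈ I, g * b ∈ Ideal.span {f} := by
  classical
  obtain ⟨⟨⟨f, hf⟩, s⟩, hfs⟩ := (IsLocalization.mem_map_algebraMap_iff q.primeCompl _).mp
    (ha.symm ▸ Ideal.mem_span_singleton_self a : a ∈ I.map (algebraMap B (Localization.AtPrime q)))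
  have hspan : I.map (algebraMap B (Localization.AtPrime q)) = (Ideal.span {f}).map (algebraMap B _) := by
    rw [ha, Ideal.map_span, Set.image_singleton, ← hfs,
      Ideal.span_singleton_mul_right_unit (IsLocalization.map_units _ s)]
  have key : ∀ b ∈ I, ∃ t : q.primeCompl, (t : B) * b ∈ Ideal.span {f} := fun b hb => by
    have h := hspan ▸ Ideal.mem_map_of_mem (algebraMap B (Localization.AtPrime q)) hb
    obtain ⟨⟨⟨c, hc⟩, t⟩, hct⟩ := (IsLocalization.mem_map_algebraMap_iff q.primeCompl _).mp h
    rw [← map_mul] at hct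
    obtain ⟨v, hv⟩ := (IsLocalization.eq_iff_exists q.primeCompl _).mp hct
    refine ⟨v * t, ?_⟩
    rw [Submonoid.coe_mul, mul_assoc, mul_comm (t : B) b, hv]
    exact Ideal.mul_mem_left _ _ hc
  obtain ⟨gens, hgens⟩ := hI
  choose t ht using fun b : (gens : Set B) => key b (hgens ▸ Ideal.subset_span b.2)
  refine ⟨((∏ b, t b : q.primeCompl) : B), f, (∏ b, t b : q.primeCompl).2, hf, fun b hb => ?_⟩
  rw [← hgens] at hb
  induction hb using Submodule.span_induction with
  | mem x hx =>
    obtain ⟨w, hw⟩ : (t ⟨x, hx⟩ : B) ∣ ((∏ b, t b : q.primeCompl) : B) := by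
      rw [Submonoid.coe_finsetProd]
      exact Finset.dvd_prod_of_mem _ (Finset.mem_univ _)
    rw [hw, mul_comm _ w, mul_assoc]
    exact Ideal.mul_mem_left _ _ (ht ⟨x, hx⟩)
  | zero => simp
  | add x y _ _ hx hy => rw [mul_add]; exact add_mem hx hy
  | smul c x _ hx => rw [smul_eq_mul, mul_left_comm]; exact Ideal.mul_mem_left _ _ hx

/-- Divisorial part of a closed subset of a regular affine scheme. -/
theorem exists_divisorial {B : Type u} [CommRing B] [IsNoetherianRing B]
    (hreg : ∀ (q : Ideal B) [q.IsPrime], IsRegularLocalRing (Localization.AtPrime q)) (K : Ideal B) :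
    ∃ I : Ideal B, PrimeSpectrum.zeroLocus (I : Set B) ⊆ PrimeSpectrum.zeroLocus (K : Set B) ∧
      (∀ q : PrimeSpectrum B, q ∈ PrimeSpectrum.zeroLocus (K : Set B) → q ∉ PrimeSpectrum.zeroLocus (I : Set B) →
        (2 : ℕ∞) ≤ q.asIdeal.height) ∧
      ∀ q : PrimeSpectrum B, ∃ g f : B, g ∉ q.asIdeal ∧ f ∈ I ∧ ∀ b ∈ I, g * b ∈ Ideal.span {f} := by
  classical
  let S := ((Ideal.finite_minimalPrimes_of_isNoetherianRing B K).toFinset).filter fun p => p.height ≤ 1
  have hS : ∀ p ∈ S, p ∈ K.minimalPrimes ∧ p.height ≤ 1 := fun p hp => by simpa [S] using hp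
  refine ⟨∏ p ∈ S, p, fun q hq => ?_, fun q hqK hqI => ?_, fun q => ?_⟩
  · rw [PrimeSpectrum.mem_zeroLocus, SetLike.coe_subset_coe] at hq ⊢
    obtain ⟨p, hp, hle⟩ := (Ideal.IsPrime.prod_le q.2).mp hq
    exact (hS p hp).1.1.2.trans hle
  · rw [PrimeSpectrum.mem_zeroLocus, SetLike.coe_subset_coe] at hqK hqI
    obtain ⟨p, hp, hle⟩ := Ideal.exists_minimalPrimes_le hqK
    haveI := hp.1.1
    by_contra h
    refine hqI ((Ideal.IsPrime.prod_le q.2).mpr ⟨p, ?_, hle⟩)
    have : p.height ≤ 1 := by
      have h2 : q.asIdeal.height < 2 := not_le.mp h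
      exact ENat.lt_coe_add_one_iff (n := 1) |>.mp ((Ideal.height_mono hle).trans_lt h2)
    simpa [S] using ⟨hp, this⟩
  · haveI := hreg q.asIdeal
    haveI := (Groth.Agent.S2821.result (Localization.AtPrime q.asIdeal)).1
    haveI := (Groth.Agent.S2821.result (Localization.AtPrime q.asIdeal)).2
    suffices h : ∀ T : Finset (Ideal B), T ⊆ S →
        ∃ a, (∏ p ∈ T, p).map (algebraMap B (Localization.AtPrime q.asIdeal)) = Ideal.span {a} by
      obtain ⟨a, ha⟩ := h S subset_rfl
      exact exists_mul_le_span _ (IsNoetherian.noetherian _) q.asIdeal a ha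
    intro T
    induction T using Finset.induction_on with
    | empty => exact fun _ => ⟨1, by rw [Finset.prod_empty, Ideal.one_eq_top, Ideal.map_top, Ideal.span_singleton_one]⟩
    | @insert p T hp ih =>
      intro hT
      obtain ⟨a, ha⟩ := ih ((Finset.subset_insert p T).trans hT)
      obtain ⟨hpK, hp1⟩ := hS p (hT (Finset.mem_insert_self p T))
      haveI := hpK.1.1
      rw [Finset.prod_insert hp, Ideal.map_mul, ha]
      by_cases hpq : p ≤ q.asIdeal
      · have hdisj : Disjoint (q.asIdeal.primeCompl : Set B) (p : Set B) :=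
          Set.disjoint_left.mpr fun x hx hxp => hx (hpq hxp)
        haveI := IsLocalization.isPrime_of_isPrime_disjoint q.asIdeal.primeCompl
          (Localization.AtPrime q.asIdeal) p inferInstance hdisj
        obtain ⟨b, hb⟩ := isPrincipal_of_height_le_one (p.map (algebraMap B (Localization.AtPrime q.asIdeal))) (by
          rw [IsLocalization.height_map_of_disjoint q.asIdeal.primeCompl p hdisj]; exact hp1)
        exact ⟨b * a, by rw [hb, Ideal.span_singleton_mul_span_singleton]⟩
      · obtain ⟨x, hxp, hxq⟩ := SetLike.not_le_iff_exists.mp hpq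
        refine ⟨a, ?_⟩
        rw [Ideal.eq_top_of_isUnit_mem _ (Ideal.mem_map_of_mem _ hxp)
          (IsLocalization.map_units (Localization.AtPrime q.asIdeal) (⟨x, hxq⟩ : q.asIdeal.primeCompl)),
          Ideal.top_mul]

/-- Quasi-compact opens of a regular affine scheme extend to affine opens with the same functions. -/
theorem exists_affineOpen_bijective {B : Type u} [CommRing B] [IsNoetherianRing B]
    (hreg : ∀ z : ↥(Spec (CommRingCat.of B)), IsRegularLocalRing ((Spec (CommRingCat.of B)).presheaf.stalk z))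
    (W : (Spec (CommRingCat.of B)).Opens) :
    ∃ W' : (Spec (CommRingCat.of B)).Opens, IsAffineOpen W' ∧ ∃ h : W ≤ W',
      Function.Bijective ((Spec (CommRingCat.of B)).presheaf.map (homOfLE h).op).hom := by
  let Z : Set (PrimeSpectrum B) := (W : Set ↥(Spec (CommRingCat.of B)))ᶜ
  let K := PrimeSpectrum.vanishingIdeal Z
  have hZ : PrimeSpectrum.zeroLocus (K : Set B) = Z := by
    rw [PrimeSpectrum.zeroLocus_vanishingIdeal_eq_closure, IsClosed.closure_eq]
    exact W.2.isClosed_compl
  have hreg' : ∀ (q : Ideal B) [q.IsPrime], IsRegularLocalRing (Localization.AtPrime q) := fun q hq => by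
    haveI := hreg ⟨q, hq⟩
    exact IsRegularLocalRing.of_ringEquiv (R := (Spec (CommRingCat.of B)).presheaf.stalk (⟨q, hq⟩ : PrimeSpectrum B))
      (StructureSheaf.stalkIso B (⟨q, hq⟩ : PrimeSpectrum B)).symm.toRingEquiv
  obtain ⟨I, hIK, hht, hloc⟩ := exists_divisorial hreg' K
  let W' : (Spec (CommRingCat.of B)).Opens :=
    ⟨(PrimeSpectrum.zeroLocus (I : Set B))ᶜ, (PrimeSpectrum.isClosed_zeroLocus _).isOpen_compl⟩
  have hWW' : W ≤ W' := fun z hz hzI => (hZ ▸ hIK hzI : z ∈ Z) hz
  have haff : IsAffineHom W'.ι := by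
    refine isAffineHom_of_forall_exists_isAffineOpen _ fun z => ?_
    obtain ⟨g, f, hg, hf, hgf⟩ := hloc z
    refine ⟨PrimeSpectrum.basicOpen g, hg, IsAffineOpen.Spec_basicOpen (R := CommRingCat.of B) g, ?_⟩
    rw [← Scheme.Hom.isAffineOpen_iff_of_isOpenImmersion W'.ι,
      Scheme.Hom.image_preimage_eq_opensRange_inf, Scheme.Opens.opensRange_ι]
    convert IsAffineOpen.Spec_basicOpen (R := CommRingCat.of B) (g * f) using 1
    ext w
    simp only [TopologicalSpace.Opens.coe_inf, Set.mem_inter_iff, SetLike.mem_coe]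
    constructor
    · rintro ⟨hwI, hwg⟩ hgfw
      refine hwI (fun b hb => ?_)
      have hfw : f ∈ w.asIdeal := (w.2.mem_or_mem hgfw).resolve_left hwg
      exact (w.2.mem_or_mem ((Ideal.span_singleton_le_iff_mem _).mpr hfw (hgf b hb))).resolve_left hwg
    · intro hgfw
      exact ⟨fun hwI => hgfw (Ideal.mul_mem_left _ _ (hwI hf)), fun hwg => hgfw (Ideal.mul_mem_right _ _ hwg)⟩
  haveI := haff
  have hW'a : IsAffineOpen W' := by
    haveI : IsAffine W'.toScheme := isAffine_of_isAffineHom W'.ι
    exact this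
  refine ⟨W', hW'a, hWW', H8Props.HartogsTwo.bijective_restrict hW'a hWW' (TopologicalSpace.NoetherianSpace.isCompact _) ?_⟩
  intro z hzW' hzW
  haveI := hreg z
  refine exists_pair ?_
  have h2 := hht z (by rw [hZ]; exact hzW) hzW'
  have e : Localization.AtPrime z.asIdeal ≃+* (Spec (CommRingCat.of B)).presheaf.stalk z :=
    (StructureSheaf.stalkIso B z).toRingEquiv
  rw [← ringKrullDim_eq_of_ringEquiv e, IsLocalization.AtPrime.ringKrullDim_eq_height z.asIdeal]
  exact WithBot.coe_le_coe.mpr h2

/-- A separated quasi-compact étale scheme over an affine scheme is quasi-affine. -/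
theorem isQuasiAffine {R : Type u} [CommRing R] {U : Scheme.{u}} (q : U ⟶ Spec (CommRingCat.of R))
    [IsSeparated q] [QuasiCompact q] [LocallyQuasiFinite q] [LocallyOfFiniteType q] : U.IsQuasiAffine := by
  obtain ⟨T, j, π, hj, -, hπ, -⟩ := H7Lim.exists_openImmersion_finite q
  haveI : IsAffine T := isAffine_of_isAffineHom π
  haveI : CompactSpace U := QuasiCompact.compactSpace_of_compactSpace q
  exact Scheme.IsQuasiAffine.of_isImmersion j

/-- The affine hull of an open of an étale affine scheme over a regular base is étale. -/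
theorem etale_hull_of_openImmersion {R : Type u} [CommRing R] [IsNoetherianRing R]
    (hreg : ∀ (P : Ideal R) [P.IsPrime], IsRegularLocalRing (Localization.AtPrime P))
    {U : Scheme.{u}} (q : U ⟶ Spec (CommRingCat.of R)) {B : Type u} [CommRing B]
    (j : U ⟶ Spec (CommRingCat.of B)) (g : Spec (CommRingCat.of B) ⟶ Spec (CommRingCat.of R))
    [IsOpenImmersion j] [Etale g] (hjg : j ≫ g = q) :
    Etale (Spec.map q.appTop ≫ (Spec (CommRingCat.of R)).isoSpec.inv) := by
  haveI : IsLocallyNoetherian (Spec (CommRingCat.of B)) := LocallyOfFiniteType.isLocallyNoetherian g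
  haveI : IsNoetherianRing B := (AlgebraicGeometry.isLocallyNoetherian_Spec (R := CommRingCat.of B)).mp inferInstance
  have hB : ∀ z : ↥(Spec (CommRingCat.of B)), IsRegularLocalRing ((Spec (CommRingCat.of B)).presheaf.stalk z) :=
    fun z => (Groth.Agent.S0065.result g z).mpr (by
      haveI := hreg (g.base z).asIdeal
      exact IsRegularLocalRing.of_ringEquiv (R := Localization.AtPrime (g.base z).asIdeal)
        (StructureSheaf.stalkIso R (g.base z)).toRingEquiv)
  obtain ⟨W', hW', hle, hbij⟩ := exists_affineOpen_bijective hB j.opensRange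
  let k : U ⟶ W'.toScheme := j.isoOpensRange.hom ≫ (Spec (CommRingCat.of B)).homOfLE hle
  have hk : k ≫ W'.ι ≫ g = q := by
    rw [Category.assoc, Scheme.homOfLE_ι_assoc, Scheme.Hom.isoOpensRange_hom_ι_assoc, hjg]
  haveI : IsIso ((Spec (CommRingCat.of B)).presheaf.map (homOfLE hle).op) :=
    (ConcreteCategory.isIso_iff_bijective _).mpr hbij
  haveI : IsIso k.appTop := by
    have htop : ((Spec (CommRingCat.of B)).homOfLE hle).appTop = W'.topIso.hom ≫
        (Spec (CommRingCat.of B)).presheaf.map (homOfLE hle).op ≫ j.opensRange.topIso.inv := by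
      rw [Scheme.homOfLE_appTop]
      simp [Scheme.Opens.topIso, ← Functor.map_comp]
      rfl
    haveI : IsIso j.isoOpensRange.hom.appTop := (inferInstance : IsIso (Scheme.Γ.map j.isoOpensRange.hom.op))
    rw [Scheme.Hom.comp_appTop, htop]
    infer_instance
  haveI : IsAffine W'.toScheme := hW'
  rw [← hk, Scheme.Hom.comp_appTop k (W'.ι ≫ g), Spec.map_comp, Category.assoc, Scheme.isoSpec_inv_naturality]
  infer_instance

end Groth.Agent.H05EGA4.AffineHull
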