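import Groth.Agent.H05EGA4.CodepthNhds
import Groth.Agent.H4Depth.SupportLoc

/-! Dimension and depth along the closure of a point (EGA IV 6.10). -/

set_option autoImplicit false
set_option linter.style.haveILetI false
set_option linter.unusedSectionVars false
set_option maxHeartbeats 800000

universe u

open IsLocalRing TensorProduct LocCoh Groth.Agent.H05EGA4
open scoped Pointwise

namespace Groth.Agent.H05EGA4.AlongClosed

variable {A : Type u} [CommRing A] [IsNoetherianRing A]

/-- `A_r/I A_r` is the localisation of `A/I`. -/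
theorem at_quotient (I r : Ideal A) [r.IsPrime] :
    ((depth (Localization.AtPrime r) (Localization.AtPrime r ⧸ I.map (algebraMap A (Localization.AtPrime r))) : ℕ∞) : WithBot ℕ∞)
        = dpAt r (A ⧸ I) ∧
      Module.supportDim (Localization.AtPrime r) (Localization.AtPrime r ⧸ I.map (algebraMap A (Localization.AtPrime r)))
        = sdAt r (A ⧸ I) := by
  let R := Localization.AtPrime r
  let T := R ⧸ I.map (algebraMap A R)
  have hf : IsBaseChange R ((IsScalarTower.toAlgHom A (A ⧸ I) T).toLinearMap) := by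
    refine IsBaseChange.of_equiv (Algebra.TensorProduct.quotIdealMapEquivTensorQuot R I).symm.toLinearEquiv fun z => ?_
    obtain ⟨z, rfl⟩ := Ideal.Quotient.mk_surjective z
    show (Algebra.TensorProduct.quotIdealMapEquivTensorQuot R I).symm ((1 : R) ⊗ₜ[A] Ideal.Quotient.mk I z) = _
    rw [Algebra.TensorProduct.quotIdealMapEquivTensorQuot_symm_tmul, ← Algebra.algebraMap_eq_smul_one]
    rfl
  exact dpAt_sdAt_of_isBaseChange r R _ hf

theorem mem_support_iff {M : Type u} [AddCommGroup M] [Module A M] (r : Ideal A) [r.IsPrime]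
    (Q : PrimeSpectrum (Localization.AtPrime r)) :
    Q ∈ Module.support (Localization.AtPrime r) (LocalizedModule r.primeCompl M) ↔
      PrimeSpectrum.comap (algebraMap A (Localization.AtPrime r)) Q ∈ Module.support A M :=
  H4Depth.mem_support_localizedModule_iff r.primeCompl _ (LocalizedModule.mkLinearMap _ M) Q

theorem exists_lift_prime {M : Type u} [AddCommGroup M] [Module A M] (r P : Ideal A) [r.IsPrime] [P.IsPrime] (hPr : P ≤ r)
    (hP : (⟨P, inferInstance⟩ : PrimeSpectrum A) ∈ Module.support A M) :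
    ∃ Q ∈ Module.support (Localization.AtPrime r) (LocalizedModule r.primeCompl M),
      Q.asIdeal = P.map (algebraMap A (Localization.AtPrime r)) ∧ Q.asIdeal.comap (algebraMap A (Localization.AtPrime r)) = P := by
  have hd : Disjoint (r.primeCompl : Set A) P := Set.disjoint_left.2 fun y hy hyP => hy (hPr hyP)
  have hQ := IsLocalization.isPrime_of_isPrime_disjoint r.primeCompl (Localization.AtPrime r) P inferInstance hd
  have hc := IsLocalization.comap_map_of_isPrime_disjoint r.primeCompl (Localization.AtPrime r) (I := P) inferInstance hd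
  refine ⟨⟨_, hQ⟩, ?_, rfl, hc⟩
  rw [mem_support_iff]
  convert! hP using 1
  exact PrimeSpectrum.ext hc

/-- If the closure of `p` is the support near `r`, the dimension at `r` is that of `A/p`. -/
theorem sdAt_eq_of_minimal {M : Type u} [AddCommGroup M] [Module A M] [Module.Finite A M] (p r : Ideal A) [p.IsPrime]
    [r.IsPrime] (hpr : p ≤ r) (hp : (⟨p, inferInstance⟩ : PrimeSpectrum A) ∈ Module.support A M)
    (h : ∀ P ∈ (Module.annihilator A M).minimalPrimes, P ≤ r → P = p) : sdAt r M = sdAt r (A ⧸ p) := by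
  rw [← (at_quotient p r).2, Module.supportDim_quotient_eq_ringKrullDim]
  refine H4Depth.supportDim_eq_ringKrullDim_quotient_of_support_eq (Set.ext fun Q => ?_)
  rw [mem_support_iff, Module.mem_support_iff_of_finite, PrimeSpectrum.mem_zeroLocus, SetLike.coe_subset_coe,
    Ideal.map_le_iff_le_comap]
  constructor
  · intro hQ
    obtain ⟨P, hP, hPQ⟩ := Ideal.exists_minimalPrimes_le (hQ : Module.annihilator A M ≤ Q.asIdeal.comap _)
    have hPr : P ≤ r := hPQ.trans ((Ideal.comap_mono (le_maximalIdeal Q.2.ne_top)).trans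
      (IsLocalization.AtPrime.under_maximalIdeal (Localization.AtPrime r) r).le)
    exact h P hP hPr ▸ hPQ
  · exact fun hQ => (Module.mem_support_iff_of_finite.1 hp).trans hQ

theorem exists_prod_notMem {p : Ideal A} [p.IsPrime] (T : Set (Ideal A)) (hT : T.Finite) (h : ∀ P ∈ T, ¬ P ≤ p) :
    ∃ g ∉ p, ∀ P ∈ T, g ∈ P := by
  classical
  choose! y hy hyp using fun P hP => SetLike.not_le_iff_exists.1 (h P hP)
  refine ⟨∏ P ∈ hT.toFinset, y P, fun hmem => ?_, fun P hP => ?_⟩
  · obtain ⟨P, hP, hPp⟩ := Ideal.IsPrime.prod_mem_iff.1 hmem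
    exact hyp P (hT.mem_toFinset.1 hP) hPp
  · exact P.mem_of_dvd (Finset.dvd_prod_of_mem _ (hT.mem_toFinset.2 hP)) (hy P hP)

theorem exists_nhd_sdAt_le (p : Ideal A) [p.IsPrime] (d : ℕ) :
    ∀ (M : Type u) [AddCommGroup M] [Module A M] [Module.Finite A M],
      (⟨p, inferInstance⟩ : PrimeSpectrum A) ∈ Module.support A M → sdAt p M ≤ (d : WithBot ℕ∞) →
      ∃ g ∉ p, ∀ (r : Ideal A) [r.IsPrime], p ≤ r → g ∉ r → sdAt r M ≤ (d : WithBot ℕ∞) + sdAt r (A ⧸ p) := by
  induction d using Nat.strong_induction_on with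
  | _ d ih =>
  intro M _ _ _ hp hd
  let T := (Module.annihilator A M).minimalPrimes
  have hTfin : T.Finite := Ideal.finite_minimalPrimes_of_isNoetherianRing A _
  by_cases hmin : ∀ P ∈ T, P ≤ p → P = p
  · obtain ⟨g, hg, hgT⟩ := exists_prod_notMem (p := p) {P ∈ T | P ≠ p} (hTfin.subset fun P hP => hP.1)
      fun P hP hle => hP.2 (hmin P hP.1 hle)
    refine ⟨g, hg, fun r _ hpr hgr => ?_⟩
    rw [sdAt_eq_of_minimal p r hpr hp fun P hP hPr => by_contra fun hne => hgr (hPr (hgT P ⟨hP, hne⟩))]
    exact le_add_of_nonneg_left (by exact_mod_cast Nat.zero_le d)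
  push Not at hmin
  obtain ⟨P₀, hP₀, hP₀p, hP₀ne⟩ := hmin
  haveI := hP₀.1.1
  have hfin : {P ∈ T | P ≤ p}.Finite := hTfin.subset fun P hP => hP.1
  have hnot : ¬ (p : Set A) ⊆ ⋃ P ∈ (hfin.toFinset : Set (Ideal A)), P := by
    rw [Ideal.subset_union_prime ⊥ ⊥ fun P hP _ _ => (hfin.mem_toFinset.1 hP).1.1.1]
    rintro ⟨P, hP, hpP⟩
    obtain ⟨hPT, hPp⟩ := hfin.mem_toFinset.1 hP
    obtain rfl := le_antisymm hPp hpP
    exact hP₀ne (le_antisymm hP₀p (hPT.2 hP₀.1 hP₀p))
  obtain ⟨x, hxp, hx⟩ := Set.not_subset.1 hnot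
  have hxT : ∀ P ∈ T, P ≤ p → x ∉ P := fun P hP hPp hxP =>
    hx (Set.mem_biUnion (Finset.mem_coe.2 (hfin.mem_toFinset.2 ⟨hP, hPp⟩)) hxP)
  have hpq : (⟨p, inferInstance⟩ : PrimeSpectrum A) ∈ Module.support A (QuotSMulTop x M) := by
    rw [Module.support_quotSMulTop]
    exact ⟨hp, by simpa using hxp⟩
  haveI := module_finite_localizedModule p M
  have hdec : sdAt p (QuotSMulTop x M) + 1 ≤ sdAt p M := by
    obtain ⟨l⟩ := exists_quot_equiv (M := M) x p
    rw [sdAt, ← Module.supportDim_eq_of_equiv l]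
    refine Module.supportDim_quotSMulTop_succ_le_of_notMem_minimalPrimes fun Q hQ hxQ => ?_
    haveI := hQ.1.1
    have hQs : (⟨Q, inferInstance⟩ : PrimeSpectrum (Localization.AtPrime p)) ∈
        Module.support (Localization.AtPrime p) (LocalizedModule p.primeCompl M) :=
      Module.mem_support_iff_of_finite.2 hQ.1.2
    rw [mem_support_iff, Module.mem_support_iff_of_finite] at hQs
    obtain ⟨P, hP, hPQ⟩ := Ideal.exists_minimalPrimes_le (hQs : Module.annihilator A M ≤ Q.comap _)
    haveI := hP.1.1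
    have hPp : P ≤ p := hPQ.trans ((Ideal.comap_mono (le_maximalIdeal hQ.1.1.ne_top)).trans
      (IsLocalization.AtPrime.under_maximalIdeal (Localization.AtPrime p) p).le)
    obtain ⟨Q', hQ', hQ'map, hQ'c⟩ := exists_lift_prime (M := M) p P hPp (Module.mem_support_iff_of_finite.2 hP.1.2)
    have hle : Q ≤ Q'.asIdeal := hQ.2 ⟨Q'.2, Module.mem_support_iff_of_finite.1 hQ'⟩
      (hQ'map ▸ Ideal.map_le_iff_le_comap.2 hPQ)
    exact hxT P hP hPp (hQ'c ▸ hle hxQ)
  cases d with
  | zero =>
    exfalso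
    have hne : sdAt p (QuotSMulTop x M) ≠ ⊥ := by
      rw [sdAt, Ne, Module.supportDim_eq_bot_iff_subsingleton]
      exact not_subsingleton_iff_nontrivial.2 (Module.mem_support_iff.1 hpq)
    obtain ⟨e, he⟩ := WithBot.ne_bot_iff_exists.1 hne
    have h1 := hdec.trans hd
    rw [← he] at h1
    norm_cast at h1
    simp at h1
  | succ e =>
    have hd' : sdAt p (QuotSMulTop x M) ≤ (e : WithBot ℕ∞) := by
      refine le_of_add_natCast_le 1 ?_
      exact_mod_cast hdec.trans hd
    obtain ⟨g, hg, h⟩ := ih e (Nat.lt_succ_self e) (QuotSMulTop x M) hpq hd'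
    refine ⟨g, hg, fun r _ hpr hgr => ?_⟩
    haveI := module_finite_localizedModule r M
    haveI : IsNoetherianRing (Localization.AtPrime r) := IsLocalization.isNoetherianRing r.primeCompl _ inferInstance
    obtain ⟨l⟩ := exists_quot_equiv (M := M) x r
    have h1 : sdAt r M ≤ sdAt r (QuotSMulTop x M) + 1 := by
      rw [sdAt, sdAt, ← Module.supportDim_eq_of_equiv l]
      exact Module.supportDim_le_supportDim_quotSMulTop_succ
        ((IsLocalization.AtPrime.to_map_mem_maximal_iff _ r x).2 (hpr hxp))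
    refine h1.trans ((add_le_add (h r hpr hgr) le_rfl).trans ?_)
    rw [Nat.cast_succ, add_right_comm]

theorem add_sdAt_le {M : Type u} [AddCommGroup M] [Module A M] [Module.Finite A M] (p r : Ideal A) [p.IsPrime] [r.IsPrime]
    (hpr : p ≤ r) (hp : (⟨p, inferInstance⟩ : PrimeSpectrum A) ∈ Module.support A M) :
    sdAt p M + sdAt r (A ⧸ p) ≤ sdAt r M := by
  haveI := module_finite_localizedModule r M
  haveI : IsNoetherianRing (Localization.AtPrime r) := IsLocalization.isNoetherianRing r.primeCompl _ inferInstance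
  obtain ⟨Q, hQ, hQmap, hQc⟩ := exists_lift_prime (M := M) r p hpr hp
  have h := H4Depth.supportDim_localization_add_le (R := Localization.AtPrime r) (M := LocalizedModule r.primeCompl M) Q.asIdeal hQ
  rw [← (at_quotient p r).2, Module.supportDim_quotient_eq_ringKrullDim]
  have h1 : sdAt Q.asIdeal (LocalizedModule r.primeCompl M) = sdAt p M :=
    (dpAt_sdAt_localized r Q.asIdeal M).2.trans (dpAt_congr M hQc).2
  rw [← h1]
  refine le_trans (add_le_add le_rfl (le_of_eq ?_)) h
  exact ringKrullDim_eq_of_ringEquiv (Ideal.quotEquivOfEq hQmap.symm)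

theorem dpAt_quotient_ne_top (p r : Ideal A) [p.IsPrime] [r.IsPrime] (hpr : p ≤ r) :
    ∃ b : ℕ, dpAt r (A ⧸ p) = b := by
  obtain ⟨r', _, -, hd, -⟩ := dpAt_quotient_prime_eq p r hpr
  haveI : IsNoetherianRing (Localization.AtPrime r') := IsLocalization.isNoetherianRing r'.primeCompl _ inferInstance
  obtain ⟨b, hb⟩ := ENat.ne_top_iff_exists.1 (H4Depth.idealDepth_ne_top
    (H4Depth.maximalIdeal_smul_top_ne_top (R := Localization.AtPrime r') (M := Localization.AtPrime r')))
  exact ⟨b, by rw [hd, depth, ← hb]; rfl⟩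

theorem exists_regular_nhd (p : Ideal A) [p.IsPrime] (M : Type u) [AddCommGroup M] [Module A M] [Module.Finite A M]
    [Nontrivial (LocalizedModule p.primeCompl M)] (h1 : 1 ≤ depth (Localization.AtPrime p) (LocalizedModule p.primeCompl M)) :
    ∃ x ∈ p, ∃ g ∉ p, IsSMulRegular (LocalizedModule p.primeCompl M) x ∧
      ∀ (r : Ideal A) [r.IsPrime], g ∉ r → IsSMulRegular (LocalizedModule r.primeCompl M) x := by
  let R := Localization.AtPrime p
  let N := LocalizedModule p.primeCompl M
  haveI := module_finite_localizedModule p M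
  haveI : IsNoetherianRing R := IsLocalization.isNoetherianRing p.primeCompl _ inferInstance
  obtain ⟨y, hy, hyreg⟩ := (H4Depth.one_le_idealDepth_iff H4Depth.maximalIdeal_smul_top_ne_top).mp h1
  obtain ⟨⟨x, s⟩, hxs⟩ := IsLocalization.surj p.primeCompl y
  have hxreg : IsSMulRegular N x := fun a b hab => by
    refine hyreg ((IsLocalization.map_units R s).smul_left_cancel.mp ?_)
    rw [smul_smul, smul_smul, mul_comm, hxs, algebraMap_smul, algebraMap_smul]
    exact hab
  have hxp : x ∈ p := by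
    rw [← IsLocalization.AtPrime.to_map_mem_maximal_iff R p x, ← hxs]
    exact Ideal.mul_mem_right _ _ hy
  let K := LinearMap.ker (x • LinearMap.id : M →ₗ[A] M)
  obtain ⟨g0, hg0, hg0K⟩ : ∃ g0 ∉ p, ∀ m : K, g0 • m = 0 := by
    have hK : Subsingleton (LocalizedModule p.primeCompl K) := by
      refine LocalizedModule.subsingleton_iff.mpr fun m => ?_
      have h0 : (LocalizedModule.mk (m : M) 1 : N) = 0 := hxreg (by
        show x • (LocalizedModule.mk (m : M) 1 : N) = x • 0
        rw [smul_zero, LocalizedModule.smul'_mk, show x • (m : M) = 0 from m.2, LocalizedModule.zero_mk])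
      obtain ⟨u, hu, hum⟩ := LocalizedModule.mem_ker_mkLinearMap_iff.mp (LinearMap.mem_ker.mpr h0)
      exact ⟨u, hu, Subtype.ext hum⟩
    have h : (⟨p, inferInstance⟩ : PrimeSpectrum A) ∉ Module.support A K := Module.notMem_support_iff.mpr hK
    rw [Module.support_eq_zeroLocus, PrimeSpectrum.mem_zeroLocus, Set.not_subset] at h
    obtain ⟨g, hg, hgp⟩ := h
    exact ⟨g, hgp, Module.mem_annihilator.mp hg⟩
  refine ⟨x, hxp, g0, hg0, hxreg, fun r _ hgr => ?_⟩
  refine IsSMulRegular.of_right_eq_zero_of_smul fun z hz => ?_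
  induction z using LocalizedModule.induction_on with
  | _ m t =>
    rw [LocalizedModule.smul'_mk, ← LocalizedModule.zero_mk (1 : r.primeCompl), LocalizedModule.mk_eq] at hz
    obtain ⟨u, hu⟩ := hz
    simp only [one_smul, smul_zero] at hu
    rw [← LocalizedModule.zero_mk (1 : r.primeCompl), LocalizedModule.mk_eq]
    refine ⟨⟨g0, hgr⟩ * u, ?_⟩
    have hk : (u : A) • m ∈ K := by
      show x • ((u : A) • m) = 0
      rw [smul_comm]; exact hu
    simp only [one_smul, smul_zero]
    have := congrArg Subtype.val (hg0K ⟨_, hk⟩)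
    rw [Submonoid.smul_def, Submonoid.coe_mul, mul_smul]
    exact this

theorem exists_nhd_dpAt_le (p : Ideal A) [p.IsPrime] (d : ℕ) :
    ∀ (M : Type u) [AddCommGroup M] [Module A M] [Module.Finite A M], dpAt p M = (d : WithBot ℕ∞) →
      ∃ g ∉ p, ∀ (r : Ideal A) [r.IsPrime], p ≤ r → g ∉ r → dpAt r M ≤ (d : WithBot ℕ∞) + dpAt r (A ⧸ p) := by
  induction d with
  | zero =>
    intro M _ _ _ h0
    let R := Localization.AtPrime p
    let N := LocalizedModule p.primeCompl M
    haveI := module_finite_localizedModule p M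
    haveI : IsNoetherianRing R := IsLocalization.isNoetherianRing p.primeCompl _ inferInstance
    have h0' : idealDepth (maximalIdeal R) N = 0 := WithBot.coe_injective h0
    have hne : maximalIdeal R • (⊤ : Submodule R N) ≠ ⊤ := fun h => by
      rw [H4Depth.idealDepth_eq_top h] at h0'; exact ENat.top_ne_zero h0'
    obtain ⟨P, hP, hmP⟩ := (H4Depth.idealDepth_eq_zero_iff_exists_associatedPrime hne).1 h0'
    obtain rfl : P = maximalIdeal R := ((maximalIdeal.isMaximal R).eq_of_le hP.isPrime.ne_top hmP).symm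
    have hass : IsAssociatedPrime p M := by
      have e := Set.ext_iff.1 (Module.associatedPrimes.preimage_comap_associatedPrimes_eq_associatedPrimes_of_isLocalizedModule
        (M := M) (M' := N) p.primeCompl R (LocalizedModule.mkLinearMap p.primeCompl M)) (maximalIdeal R)
      have hm : (maximalIdeal R).comap (algebraMap A R) = p := Localization.AtPrime.under_maximalIdeal
      rw [Set.mem_preimage, hm] at e
      exact e.2 hP
    obtain ⟨-, f, hf⟩ := (isAssociatedPrime_iff_exists_injective_linearMap p M).1 hass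
    let Q := LinearMap.range f
    obtain ⟨g, hg, hb⟩ := exists_nhd_le_dpAt p (fun r => dpAt r.asIdeal (A ⧸ p))
      ⟨1, fun h => Ideal.IsPrime.ne_top inferInstance ((Ideal.eq_top_iff_one p).2 h), fun r _ _ _ => le_rfl⟩ (M ⧸ Q)
    refine ⟨g, hg, fun r _ hpr hgr => ?_⟩
    obtain ⟨b, hbr⟩ := dpAt_quotient_ne_top p r hpr
    have hQ : (b : WithBot ℕ∞) ≤ dpAt r (M ⧸ Q) := hbr ▸ hb r hpr hgr
    rw [hbr, Nat.cast_zero, zero_add]
    by_contra hlt
    haveI := module_finite_localizedModule r (A ⧸ p)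
    haveI := module_finite_localizedModule r M
    haveI := module_finite_localizedModule r (M ⧸ Q)
    haveI : IsNoetherianRing (Localization.AtPrime r) := IsLocalization.isNoetherianRing r.primeCompl _ inferInstance
    have hl := H4Depth.min_le_idealDepth_left (I := maximalIdeal (Localization.AtPrime r))
      (LocalizedModule.map_injective r.primeCompl f hf) (LocalizedModule.map_surjective r.primeCompl Q.mkQ Q.mkQ_surjective)
      (LocalizedModule.map_exact r.primeCompl f Q.mkQ (LinearMap.exact_map_mkQ_range f))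
    have h1 : ((b + 1 : ℕ) : ℕ∞) ≤ depth (Localization.AtPrime r) (LocalizedModule r.primeCompl M) := by
      have hlt' : ((b : ℕ) : ℕ∞) < depth (Localization.AtPrime r) (LocalizedModule r.primeCompl M) :=
        WithBot.coe_lt_coe.1 (not_le.1 hlt)
      rw [Nat.cast_succ]
      exact Order.add_one_le_of_lt hlt'
    have h2 : ((b + 1 : ℕ) : ℕ∞) ≤ depth (Localization.AtPrime r) (LocalizedModule r.primeCompl (M ⧸ Q)) + 1 := by
      rw [Nat.cast_succ]
      exact add_le_add (WithBot.coe_le_coe.1 hQ) le_rfl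
    have h3 : ((b + 1 : ℕ) : ℕ∞) ≤ depth (Localization.AtPrime r) (LocalizedModule r.primeCompl (A ⧸ p)) :=
      (le_min h1 h2).trans hl
    rw [show depth (Localization.AtPrime r) (LocalizedModule r.primeCompl (A ⧸ p)) = (b : ℕ∞) from
      WithBot.coe_injective hbr] at h3
    exact absurd (Nat.cast_le.1 h3) (by omega)
  | succ d ih =>
    intro M _ _ _ hd
    haveI : Nontrivial (LocalizedModule p.primeCompl M) := by
      rw [← not_subsingleton_iff_nontrivial]
      intro
      rw [dpAt_eq_top_of_subsingleton] at hd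
      exact ENat.top_ne_natCast _ (WithBot.coe_injective hd)
    have h1 : (1 : ℕ∞) ≤ depth (Localization.AtPrime p) (LocalizedModule p.primeCompl M) := by
      rw [show depth _ _ = ((d + 1 : ℕ) : ℕ∞) from WithBot.coe_injective hd]
      exact_mod_cast Nat.le_add_left 1 d
    obtain ⟨x, hxp, g0, hg0, hxreg, hreg⟩ := exists_regular_nhd p M h1
    have hq : dpAt p (QuotSMulTop x M) = (d : WithBot ℕ∞) := by
      refine H4Depth.withBot_add_one_cancel ?_
      rw [dpAt_quotSMulTop_add_one hxp hxreg, hd, Nat.cast_succ]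
    obtain ⟨g1, hg1, h⟩ := ih (QuotSMulTop x M) hq
    refine ⟨g0 * g1, exists_mul_notMem hg0 hg1, fun r _ hpr hr => ?_⟩
    rw [← dpAt_quotSMulTop_add_one (hpr hxp) (hreg r fun h' => hr (r.mul_mem_right _ h')), Nat.cast_succ, add_right_comm]
    exact add_le_add (h r hpr fun h' => hr (r.mul_mem_left _ h')) le_rfl

/-- EGA IV 6.10.6. -/
theorem main (M : Type u) [AddCommGroup M] [Module A M] [Module.Finite A M] (I : Ideal A) [I.radical.IsPrime]
    (hp : (⟨I.radical, inferInstance⟩ : PrimeSpectrum A) ∈ Module.support A M) :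
    ∃ f : A, f ∉ I.radical ∧ ∀ (q : Ideal A) [q.IsPrime], I ≤ q → f ∉ q →
      sdAt q M = sdAt I.radical M + sdAt q (A ⧸ I) ∧ dpAt q M = dpAt I.radical M + dpAt q (A ⧸ I) := by
  let p := I.radical
  have hsd : ∀ (q : Ideal A) [q.IsPrime], p ≤ q → sdAt q (A ⧸ I) = sdAt q (A ⧸ p) := fun q _ hpq => by
    refine sdAt_eq_of_minimal p q hpq ?_ fun P hP _ => ?_
    · rw [Module.mem_support_iff_of_finite, Ideal.annihilator_quotient]
      exact Ideal.le_radical
    · rw [Ideal.annihilator_quotient, ← Ideal.radical_minimalPrimes, Ideal.minimalPrimes_eq_subsingleton_self] at hP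
      exact hP
  -- depth at the generic point
  have hIp : dpAt p (A ⧸ I) = 0 := by
    haveI := module_finite_localizedModule p (A ⧸ I)
    haveI : IsNoetherianRing (Localization.AtPrime p) := IsLocalization.isNoetherianRing p.primeCompl _ inferInstance
    haveI : Nontrivial (LocalizedModule p.primeCompl (A ⧸ I)) := by
      rw [← Module.mem_support_iff (p := ⟨p, inferInstance⟩), Module.mem_support_iff_of_finite, Ideal.annihilator_quotient]
      exact Ideal.le_radical
    have h1 : dpAt p (A ⧸ I) ≤ sdAt p (A ⧸ I) := H4Depth.depth_le_supportDim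
    rw [hsd p le_rfl, ← (at_quotient p p).2, Module.supportDim_quotient_eq_ringKrullDim,
      Localization.AtPrime.map_eq_maximalIdeal] at h1
    rw [show ringKrullDim (Localization.AtPrime p ⧸ maximalIdeal (Localization.AtPrime p)) = 0 from
      ringKrullDim_eq_zero_of_field (ResidueField (Localization.AtPrime p))] at h1
    refine le_antisymm h1 ?_
    exact WithBot.coe_le_coe.2 bot_le
  haveI := module_finite_localizedModule p M
  haveI : IsNoetherianRing (Localization.AtPrime p) := IsLocalization.isNoetherianRing p.primeCompl _ inferInstance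
  haveI : Nontrivial (LocalizedModule p.primeCompl M) := Module.mem_support_iff.1 hp
  obtain ⟨d, hd⟩ : ∃ d : ℕ, dpAt p M = (d : WithBot ℕ∞) := by
    obtain ⟨d, hd⟩ := ENat.ne_top_iff_exists.1 (H4Depth.idealDepth_ne_top
      (H4Depth.maximalIdeal_smul_top_ne_top (R := Localization.AtPrime p) (M := LocalizedModule p.primeCompl M)))
    exact ⟨d, by rw [dpAt, depth, ← hd]; rfl⟩
  obtain ⟨n, hn⟩ : ∃ n : ℕ, sdAt p M = (n : WithBot ℕ∞) := H4Depth.exists_nat_supportDim_eq
  obtain ⟨g1, hg1, h1⟩ := exists_nhd_sdAt_le p n M hp hn.le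
  obtain ⟨g2, hg2, h2⟩ := exists_nhd_dpAt_le p d M hd
  obtain ⟨g3, hg3, h3⟩ := exists_nhd_add_le_dpAt p (fun r => dpAt r.asIdeal (A ⧸ p))
    ⟨1, fun h => Ideal.IsPrime.ne_top inferInstance ((Ideal.eq_top_iff_one p).2 h), fun r _ _ _ => le_rfl⟩ d M hd.ge
  obtain ⟨g4, hg4, h4⟩ := exists_nhd_dpAt_le p 0 (A ⧸ I) (by rw [hIp, Nat.cast_zero])
  obtain ⟨g5, hg5, h5⟩ := exists_nhd_add_le_dpAt p (fun r => dpAt r.asIdeal (A ⧸ p))
    ⟨1, fun h => Ideal.IsPrime.ne_top inferInstance ((Ideal.eq_top_iff_one p).2 h), fun r _ _ _ => le_rfl⟩ 0 (A ⧸ I)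
      (by rw [hIp, Nat.cast_zero])
  refine ⟨g1 * g2 * g3 * g4 * g5, exists_mul_notMem (exists_mul_notMem (exists_mul_notMem (exists_mul_notMem hg1 hg2) hg3) hg4) hg5,
    fun q _ hIq hq => ?_⟩
  have hpq : p ≤ q := (Ideal.IsPrime.radical_le_iff inferInstance).2 hIq
  have n5 : g5 ∉ q := fun h => hq (q.mul_mem_left _ h)
  have n4 : g4 ∉ q := fun h => hq (q.mul_mem_right _ (q.mul_mem_left _ h))
  have n3 : g3 ∉ q := fun h => hq (q.mul_mem_right _ (q.mul_mem_right _ (q.mul_mem_left _ h)))
  have n2 : g2 ∉ q := fun h => hq (q.mul_mem_right _ (q.mul_mem_right _ (q.mul_mem_right _ (q.mul_mem_left _ h))))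
  have n1 : g1 ∉ q := fun h => hq (q.mul_mem_right _ (q.mul_mem_right _ (q.mul_mem_right _ (q.mul_mem_right _ h))))
  constructor
  · rw [hsd q hpq]
    refine le_antisymm ?_ (add_sdAt_le p q hpq hp)
    rw [hn]
    exact h1 q hpq n1
  · have e : dpAt q (A ⧸ I) = dpAt q (A ⧸ p) := le_antisymm
      (by simpa using h4 q hpq n4) (by simpa using h5 q hpq n5)
    rw [e, hd]
    exact le_antisymm (h2 q hpq n2) (h3 q hpq n3)

end Groth.Agent.H05EGA4.AlongClosed
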