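import Mathlib
import Groth.Prelude.Def_EssEt
import Groth.Agent.H9Hens.BranchCount

/-!
The total ring of fractions of an essentially etale local algebra over a reduced ring.
-/

set_option autoImplicit false
set_option backward.isDefEq.respectTransparency false
universe u
open IsLocalRing TensorProduct

namespace Groth.Agent.H05EGA4.EssEtFrac

theorem isArtinianRing_fractionRing (A : Type u) [CommRing A] [IsReduced A] (hmin : (minimalPrimes A).Finite) :
    IsArtinianRing (FractionRing A) := by
  haveI := Groth.Agent.H9Hens.fractionRing_red_isArtinianRing A hmin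
  have hb : Function.Bijective (Ideal.Quotient.mk (nilradical A)) :=
    ⟨(RingHom.injective_iff_ker_eq_bot _).mpr (by rw [Ideal.mk_ker]; exact nilradical_eq_zero A),
      Ideal.Quotient.mk_surjective⟩
  let e : A ≃+* CAlg2.red A := RingEquiv.ofBijective _ hb
  have hM : (nonZeroDivisors A).map e.toMonoidHom = nonZeroDivisors (CAlg2.red A) :=
    MulEquivClass.map_nonZeroDivisors e
  let f : FractionRing A ≃+* FractionRing (CAlg2.red A) :=
    IsLocalization.ringEquivOfRingEquiv (FractionRing A) (FractionRing (CAlg2.red A)) e hM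
  exact f.symm.surjective.isArtinianRing (f := f.symm.toRingHom)

theorem flat_of_isEssentiallyEtale {A E : Type u} [CommRing A] [IsLocalRing A] [CommRing E] [Algebra A E]
    (hE : EGA4loc.IsEssentiallyEtale A E) : Module.Flat A E := by
  obtain ⟨C, _, _, q, _, _, -, ⟨e⟩⟩ := hE
  haveI : Module.Flat A (Localization.AtPrime q) := Module.Flat.trans A C (Localization.AtPrime q)
  exact Module.Flat.of_linearEquiv e.toLinearEquiv

theorem map_nonZeroDivisors_le {A E : Type u} [CommRing A] [CommRing E] [Algebra A E] [Module.Flat A E] :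
    (nonZeroDivisors A).map (algebraMap A E) ≤ nonZeroDivisors E := by
  rintro _ ⟨a, ha, rfl⟩
  have h1 : IsSMulRegular A a := isSMulRegular_iff_right_eq_zero_of_smul.mpr fun c hc =>
    mem_nonZeroDivisors_iff_left.mp ha c hc
  exact mem_nonZeroDivisors_iff_left.mpr fun c hc => (h1.of_flat (S := E)).right_eq_zero_of_smul hc

theorem isLocalization_and_finite
    (A E : Type u) [CommRing A] [IsLocalRing A] [IsReduced A] (hmin : (minimalPrimes A).Finite)
    [CommRing E] [Algebra A E] (hE : EGA4loc.IsEssentiallyEtale A E) :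
    IsLocalization ((nonZeroDivisors A).map (algebraMap A E)) (FractionRing E) ∧
      ∃ t : Finset (FractionRing E), ∀ x : FractionRing E, ∃ a ∈ nonZeroDivisors A,
        algebraMap A (FractionRing E) a * x ∈ Submodule.span A (t : Set (FractionRing E)) := by
  classical
  haveI := flat_of_isEssentiallyEtale hE
  haveI := isArtinianRing_fractionRing A hmin
  obtain ⟨C, _, _, q, _, _, -, ⟨e⟩⟩ := hE
  let M : Submonoid E := (nonZeroDivisors A).map (algebraMap A E)
  let K := FractionRing A
  let T := Localization M
  let CK := K ⊗[A] C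
  letI : Algebra C CK := Algebra.TensorProduct.rightAlgebra
  let N := Algebra.algebraMapSubmonoid C (nonZeroDivisors A)
  haveI : IsLocalization N CK := inferInstance
  let ψ : C →ₐ[A] T := (IsScalarTower.toAlgHom A E T).comp
    (e.symm.toAlgHom.comp (IsScalarTower.toAlgHom A C (Localization.AtPrime q)))
  have hN : ∀ y : N, IsUnit (ψ y) := by
    rintro ⟨_, a, ha, rfl⟩
    rw [AlgHom.commutes, IsScalarTower.algebraMap_apply A E T]
    exact IsLocalization.map_units T (⟨_, a, ha, rfl⟩ : M)
  let g : CK →+* T := IsLocalization.lift (g := ψ.toRingHom) hN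
  haveI : Algebra.QuasiFinite K CK := inferInstance
  haveI : Module.Finite K CK := Module.Finite.of_quasiFinite
  haveI : IsArtinianRing CK := IsArtinianRing.of_finite K CK
  -- the lift is surjective
  haveI : IsArtinianRing g.range := g.rangeRestrict_surjective.isArtinianRing
  have hinv : ∀ y : CK, IsUnit (g y) → ∃ z : CK, g y * g z = 1 := fun y hy => by
    have h1 : (g.rangeRestrict y) ∈ nonZeroDivisors g.range := mem_nonZeroDivisors_iff_left.mpr fun c hc =>
      Subtype.ext (hy.mul_right_eq_zero.mp (congrArg Subtype.val hc))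
    obtain ⟨v, hv⟩ := (IsArtinianRing.isUnit_of_mem_nonZeroDivisors h1).exists_right_inv
    obtain ⟨z, hz⟩ := v.2
    exact ⟨z, by rw [hz]; exact congrArg Subtype.val hv⟩
  have hg : ∀ c, g (algebraMap C CK c) = ψ c := fun c => IsLocalization.lift_eq hN c
  have hE' : ∀ x : E, algebraMap E T x ∈ g.range := fun x => by
    obtain ⟨c, s, hcs⟩ := IsLocalization.exists_mk'_eq q.primeCompl (e x)
    have hu : IsUnit (g (algebraMap C CK (s : C))) := by
      rw [hg]
      exact ((IsLocalization.map_units (Localization.AtPrime q) s).map e.symm).map (algebraMap E T)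
    obtain ⟨z, hz⟩ := hinv _ hu
    refine ⟨algebraMap C CK c * z, ?_⟩
    have h2 : algebraMap E T x * ψ (s : C) = ψ c := by
      show algebraMap E T x * algebraMap E T (e.symm (algebraMap C _ (s : C))) = algebraMap E T (e.symm (algebraMap C _ c))
      rw [← map_mul]
      congr 1
      apply e.injective
      rw [map_mul, AlgEquiv.apply_symm_apply, AlgEquiv.apply_symm_apply, ← hcs, IsLocalization.mk'_spec]
    rw [map_mul, hg, ← h2, mul_assoc, ← hg (s : C), hz, mul_one]
  have hsurj : Function.Surjective g := fun t => by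
    obtain ⟨x, ⟨_, a, ha, rfl⟩, rfl⟩ := IsLocalization.exists_mk'_eq M t
    obtain ⟨y, hy⟩ := hE' x
    obtain ⟨w, hw⟩ := (IsLocalization.map_units CK (⟨_, a, ha, rfl⟩ : N)).exists_right_inv
    refine ⟨y * w, IsLocalization.eq_mk'_iff_mul_eq.mpr ?_⟩
    have h3 : g (algebraMap C CK (algebraMap A C a)) = algebraMap E T (algebraMap A E a) := by
      rw [hg, AlgHom.commutes, ← IsScalarTower.algebraMap_apply]
    have h4 : g w * g (algebraMap C CK (algebraMap A C a)) = 1 := by
      rw [← map_mul, mul_comm, hw, map_one]
    show g (y * w) * algebraMap E T (algebraMap A E a) = algebraMap E T x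
    rw [map_mul, ← h3, mul_assoc, h4, mul_one, hy]
  haveI : IsArtinianRing T := hsurj.isArtinianRing
  have hle : M ≤ nonZeroDivisors E := map_nonZeroDivisors_le
  haveI : IsLocalization (nonZeroDivisors E) T := IsLocalization.of_le M _ hle fun r hr =>
    IsArtinianRing.isUnit_of_mem_nonZeroDivisors (IsLocalization.map_nonZeroDivisors_le M T ⟨r, hr, rfl⟩)
  let eT : T ≃ₐ[E] FractionRing E := IsLocalization.algEquiv (nonZeroDivisors E) T (FractionRing E)
  refine ⟨IsLocalization.isLocalization_of_algEquiv M eT, ?_⟩
  obtain ⟨s, hs⟩ := (Module.Finite.fg_top : (⊤ : Submodule K CK).FG)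
  refine ⟨s.image fun y => eT (g y), fun x => ?_⟩
  obtain ⟨y, hy⟩ := hsurj (eT.symm x)
  have hy' : eT (g y) = x := by rw [hy, eT.apply_symm_apply]
  subst hy'
  have key : ∀ z ∈ Submodule.span K (s : Set CK), ∃ a ∈ nonZeroDivisors A,
      algebraMap A (FractionRing E) a * eT (g z) ∈
        Submodule.span A ((s.image fun y => eT (g y) : Finset (FractionRing E)) : Set (FractionRing E)) := by
    intro z hz
    have hcomm : ∀ (a : A) (w : CK), eT (g (algebraMap A CK a * w)) = algebraMap A (FractionRing E) a * eT (g w) := by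
      intro a w
      have h5 : algebraMap A CK a = algebraMap C CK (algebraMap A C a) :=
        ((Algebra.TensorProduct.includeRight : C →ₐ[A] CK).commutes a).symm
      rw [map_mul, h5, hg, map_mul, AlgHom.commutes, IsScalarTower.algebraMap_apply A E T, eT.commutes,
        ← IsScalarTower.algebraMap_apply]
    induction hz using Submodule.span_induction with
    | mem w hw => exact ⟨1, Submonoid.one_mem _, by
        rw [map_one, one_mul]; exact Submodule.subset_span (Finset.mem_coe.mpr (Finset.mem_image.mpr ⟨w, hw, rfl⟩))⟩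
    | zero => exact ⟨1, Submonoid.one_mem _, by rw [map_zero, map_zero, mul_zero]; exact Submodule.zero_mem _⟩
    | add v w _ _ h1 h2 =>
      obtain ⟨a, ha, ha'⟩ := h1
      obtain ⟨b, hb, hb'⟩ := h2
      refine ⟨a * b, Submonoid.mul_mem _ ha hb, ?_⟩
      have : algebraMap A (FractionRing E) (a * b) * eT (g (v + w)) =
          b • (algebraMap A (FractionRing E) a * eT (g v)) + a • (algebraMap A (FractionRing E) b * eT (g w)) := by
        rw [map_add, map_add, map_mul, Algebra.smul_def, Algebra.smul_def]; ring
      rw [this]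
      exact Submodule.add_mem _ (Submodule.smul_mem _ _ ha') (Submodule.smul_mem _ _ hb')
    | smul k v _ h1 =>
      obtain ⟨a, ha, ha'⟩ := h1
      obtain ⟨b, d, rfl⟩ := IsLocalization.exists_mk'_eq (nonZeroDivisors A) k
      refine ⟨(d : A) * a, Submonoid.mul_mem _ d.2 ha, ?_⟩
      have h6 : algebraMap A CK (d : A) * (IsLocalization.mk' K b d • v) = algebraMap A CK b * v := by
        rw [show IsLocalization.mk' K b d • v = algebraMap K CK (IsLocalization.mk' K b d) * v from Algebra.smul_def (R := K) (A := CK) _ _,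
          ← mul_assoc, IsScalarTower.algebraMap_apply A K CK, IsScalarTower.algebraMap_apply A K CK,
          ← map_mul, IsLocalization.mk'_spec']
      have : algebraMap A (FractionRing E) ((d : A) * a) * eT (g (IsLocalization.mk' K b d • v)) =
          b • (algebraMap A (FractionRing E) a * eT (g v)) := by
        rw [map_mul, mul_comm (algebraMap A (FractionRing E) (d : A)), mul_assoc, ← hcomm, h6, hcomm, Algebra.smul_def]
        ring
      rw [this]
      exact Submodule.smul_mem _ _ ha'
  exact key y (by rw [hs]; trivial)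

theorem inter_isLocalRing
    (A E : Type u) [CommRing A] [IsLocalRing A] [IsReduced A] (hmin : (minimalPrimes A).Finite)
    [CommRing E] [IsLocalRing E] [Algebra A E]
    (hE : EGA4loc.IsEssentiallyEtale A E) (L : Subalgebra A (FractionRing E))
    (hL : ∀ s ∈ nonZeroDivisors A, ∃ y ∈ L, algebraMap A (FractionRing E) s * y = 1) :
    ∃ D : Subalgebra A E, (D : Set E) = (algebraMap E (FractionRing E)) ⁻¹' (L : Set (FractionRing E)) ∧
      ∃ _ : IsLocalRing D, IsLocalHom (algebraMap D E) ∧
        ∀ l ∈ L, ∃ d ∈ D, ∃ s ∈ nonZeroDivisors A, ∃ y ∈ L,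
          algebraMap A (FractionRing E) s * y = 1 ∧ l = algebraMap E (FractionRing E) d * y := by
  classical
  obtain ⟨hloc, t, ht⟩ := isLocalization_and_finite A E hmin hE
  haveI := hloc
  haveI := isArtinianRing_fractionRing A hmin
  haveI := flat_of_isEssentiallyEtale hE
  have hu : ∀ s : nonZeroDivisors A, IsUnit (algebraMap A (FractionRing E) s) := fun s => by
    rw [IsScalarTower.algebraMap_apply A E (FractionRing E)]
    exact IsLocalization.map_units (FractionRing E) (⟨_, s, s.2, rfl⟩ : (nonZeroDivisors A).map (algebraMap A E))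
  letI : Algebra (FractionRing A) (FractionRing E) := (IsLocalization.lift hu : FractionRing A →+* FractionRing E).toAlgebra
  haveI : IsScalarTower A (FractionRing A) (FractionRing E) :=
    IsScalarTower.of_algebraMap_eq fun a => (IsLocalization.lift_eq hu a).symm
  have hinv : ∀ s ∈ nonZeroDivisors A, ∀ y, algebraMap A (FractionRing E) s * y = 1 → y ∈ L := fun s hs y hy => by
    obtain ⟨y', hy', hy''⟩ := hL s hs
    rwa [(hu ⟨s, hs⟩).mul_left_cancel (hy.trans hy''.symm)]
  have hKL : ∀ k : FractionRing A, algebraMap (FractionRing A) (FractionRing E) k ∈ L := fun k => by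
    obtain ⟨b, d, rfl⟩ := IsLocalization.exists_mk'_eq (nonZeroDivisors A) k
    obtain ⟨y, hy, hy'⟩ := hL d d.2
    have : algebraMap (FractionRing A) (FractionRing E) (IsLocalization.mk' _ b d) = algebraMap A (FractionRing E) b * y := by
      refine (hu d).mul_left_cancel ?_
      rw [IsScalarTower.algebraMap_apply A (FractionRing A) (FractionRing E) d, ← map_mul, IsLocalization.mk'_spec',
        ← IsScalarTower.algebraMap_apply, ← IsScalarTower.algebraMap_apply, mul_left_comm, hy', mul_one]
    rw [this]
    exact L.mul_mem (L.algebraMap_mem b) hy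
  let LK : Subalgebra (FractionRing A) (FractionRing E) :=
    { L.toSubsemiring with algebraMap_mem' := hKL }
  haveI : Module.Finite (FractionRing A) (FractionRing E) := by
    refine ⟨⟨t, top_le_iff.mp fun x _ => ?_⟩⟩
    obtain ⟨a, ha, hax⟩ := ht x
    have h1 : algebraMap A (FractionRing E) a * x ∈ Submodule.span (FractionRing A) (t : Set (FractionRing E)) :=
      Submodule.span_le_restrictScalars A (FractionRing A) _ hax
    have h2 := Submodule.smul_mem _ (IsLocalization.mk' (FractionRing A) (1 : A) (⟨a, ha⟩ : nonZeroDivisors A)) h1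
    rw [Algebra.smul_def, ← mul_assoc, IsScalarTower.algebraMap_apply A (FractionRing A) (FractionRing E) a,
      ← map_mul, IsLocalization.mk'_spec, map_one, map_one, one_mul] at h2
    exact h2
  haveI : IsNoetherian (FractionRing A) (FractionRing E) := isNoetherian_of_isNoetherianRing_of_finite _ _
  haveI : Module.Finite (FractionRing A) LK := Module.Finite.iff_fg.mpr (IsNoetherian.noetherian LK.toSubmodule)
  haveI : IsArtinianRing LK := IsArtinianRing.of_finite (FractionRing A) LK
  let D : Subalgebra A E := L.comap (IsScalarTower.toAlgHom A E (FractionRing E))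
  have hDinv : ∀ d ∈ D, IsUnit d → ∃ v ∈ D, d * v = 1 := fun d hd hdu => by
    have h1 : (⟨algebraMap E (FractionRing E) d, hd⟩ : LK) ∈ nonZeroDivisors LK :=
      mem_nonZeroDivisors_iff_left.mpr fun c hc =>
        Subtype.ext ((hdu.map (algebraMap E (FractionRing E))).mul_right_eq_zero.mp (congrArg Subtype.val hc))
    obtain ⟨w, hw⟩ := (IsArtinianRing.isUnit_of_mem_nonZeroDivisors h1).exists_right_inv
    obtain ⟨v, hv⟩ := hdu.exists_right_inv
    refine ⟨v, ?_, hv⟩
    show algebraMap E (FractionRing E) v ∈ L
    have h2 : algebraMap E (FractionRing E) v = w := by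
      refine (hdu.map (algebraMap E (FractionRing E))).mul_left_cancel ?_
      rw [← map_mul, hv, map_one]
      exact (congrArg Subtype.val hw).symm
    rw [h2]; exact w.2
  have hDu : ∀ d : D, IsUnit (d : E) → IsUnit d := fun d hd => by
    obtain ⟨v, hvD, hv⟩ := hDinv d d.2 hd
    exact IsUnit.of_mul_eq_one (⟨v, hvD⟩ : D) (Subtype.ext hv)
  haveI : IsLocalRing D := IsLocalRing.of_isUnit_or_isUnit_one_sub_self fun d => by
    rcases IsLocalRing.isUnit_or_isUnit_one_sub_self (d : E) with h | h
    · exact Or.inl (hDu d h)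
    · exact Or.inr (hDu (1 - d) h)
  refine ⟨D, rfl, inferInstance, ⟨fun d hd => hDu d hd⟩, fun l hl => ?_⟩
  obtain ⟨d, ⟨_, s, hs, rfl⟩, rfl⟩ := IsLocalization.exists_mk'_eq ((nonZeroDivisors A).map (algebraMap A E)) l
  obtain ⟨y, hy, hy'⟩ := hL s hs
  have hspec : IsLocalization.mk' (FractionRing E) d (⟨_, s, hs, rfl⟩ : (nonZeroDivisors A).map (algebraMap A E)) *
      algebraMap A (FractionRing E) s = algebraMap E (FractionRing E) d := by
    rw [IsScalarTower.algebraMap_apply A E (FractionRing E)]
    exact IsLocalization.mk'_spec _ _ _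
  refine ⟨d, ?_, s, hs, y, hy, hy', ?_⟩
  · show algebraMap E (FractionRing E) d ∈ L
    rw [← hspec]
    exact L.mul_mem hl (L.algebraMap_mem s)
  · rw [← hspec, mul_assoc, hy', mul_one]

end Groth.Agent.H05EGA4.EssEtFrac
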