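import Mathlib
import Groth.Prelude.Def_FSRel
import Groth.Agent.H24Adic.CompletionMap
import Groth.Agent.H24Adic.Rig
import Groth.Agent.H05EGA4.Regular2

/-!
The completion of a finite algebra over a semi-local Noetherian ring is formally smooth relative to the base.
-/

set_option autoImplicit false
set_option linter.style.haveILetI false
universe u
open TensorProduct Groth.Agent

namespace Groth.Agent.H05EGA4.FiniteSemilocalCompletion

variable {A₀ A : Type u} [CommRing A₀] [CommRing A] [Algebra A₀ A]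

theorem map_jacobson_le [Module.Finite A₀ A] :
    (Ideal.jacobson (⊥ : Ideal A₀)).map (algebraMap A₀ A) ≤ Ideal.jacobson (⊥ : Ideal A) := by
  rw [Ideal.map_le_iff_le_comap]
  intro x hx
  rw [Ideal.mem_comap, Ideal.jacobson, Ideal.mem_sInf]
  rintro M ⟨-, hM⟩
  haveI := hM
  have : (M.comap (algebraMap A₀ A)).IsMaximal := Ideal.isMaximal_comap_of_isIntegral_of_isMaximal M
  rw [Ideal.jacobson, Ideal.mem_sInf] at hx
  exact hx ⟨bot_le, this⟩

theorem jacobson_le_radical [Finite (MaximalSpectrum A₀)] [Module.Finite A₀ A] :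
    Ideal.jacobson (⊥ : Ideal A) ≤ ((Ideal.jacobson (⊥ : Ideal A₀)).map (algebraMap A₀ A)).radical := by
  rw [Ideal.radical_eq_sInf]
  refine le_sInf fun Q hQ => ?_
  obtain ⟨hle, hQp⟩ := hQ
  haveI := hQp
  classical
  haveI := Fintype.ofFinite (MaximalSpectrum A₀)
  have h1 : Finset.univ.inf (fun m : MaximalSpectrum A₀ => m.asIdeal) ≤ Ideal.jacobson (⊥ : Ideal A₀) := by
    rw [Ideal.jacobson]
    exact le_sInf fun m hm => Finset.inf_le (f := fun m : MaximalSpectrum A₀ => m.asIdeal) (Finset.mem_univ ⟨m, hm.2⟩)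
  obtain ⟨m, -, hm⟩ := (Ideal.IsPrime.inf_le' (Ideal.IsPrime.comap (algebraMap A₀ A) (K := Q))).mp
    (h1.trans (Ideal.map_le_iff_le_comap.mp hle))
  have : (Q.comap (algebraMap A₀ A)).IsMaximal := by
    rw [← m.isMaximal.eq_of_le (Ideal.IsPrime.comap (algebraMap A₀ A) (K := Q)).ne_top hm]
    exact m.isMaximal
  have hQm : Q.IsMaximal := Ideal.isMaximal_of_isIntegral_of_isMaximal_comap Q this
  exact sInf_le ⟨bot_le, hQm⟩

theorem finite_tensor (S : Type u) [CommRing S] [Algebra A₀ S] [Module.Finite A₀ A] :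
    ((Algebra.TensorProduct.includeRight : S →ₐ[A₀] A ⊗[A₀] S).toRingHom).Finite := by
  algebraize [(Algebra.TensorProduct.includeRight : S →ₐ[A₀] A ⊗[A₀] S).toRingHom]
  obtain ⟨s, hs⟩ := Module.Finite.fg_top (R := A₀) (M := A)
  classical
  refine ⟨⟨s.image (fun a => a ⊗ₜ[A₀] (1 : S)), top_le_iff.mp fun x _ => ?_⟩⟩
  induction x using TensorProduct.induction_on with
  | zero => exact zero_mem _
  | add x y hx hy => exact add_mem (hx Submodule.mem_top) (hy Submodule.mem_top)
  | tmul a t =>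
    have ha : a ∈ Submodule.span A₀ (s : Set A) := hs ▸ Submodule.mem_top
    have key : ∀ b, b ∈ Submodule.span A₀ (s : Set A) → ∀ t : S,
        b ⊗ₜ[A₀] t ∈ Submodule.span S ((s.image (fun a => a ⊗ₜ[A₀] (1 : S)) : Finset _) : Set (A ⊗[A₀] S)) := by
      intro b hb
      induction hb using Submodule.span_induction with
      | mem b hb =>
        intro t
        have h : b ⊗ₜ[A₀] t = t • (b ⊗ₜ[A₀] (1 : S)) := by
          rw [Algebra.smul_def]
          show b ⊗ₜ[A₀] t = ((1 : A) ⊗ₜ[A₀] t) * (b ⊗ₜ[A₀] (1 : S))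
          rw [Algebra.TensorProduct.tmul_mul_tmul, one_mul, mul_one]
        rw [h]
        exact Submodule.smul_mem _ _ (Submodule.subset_span (Finset.mem_image_of_mem _ hb))
      | zero => intro t; rw [TensorProduct.zero_tmul]; exact zero_mem _
      | add b c _ _ hb hc => intro t; rw [TensorProduct.add_tmul]; exact add_mem (hb t) (hc t)
      | smul r b _ hb => intro t; rw [TensorProduct.smul_tmul]; exact hb (r • t)
    exact key a ha t

theorem isAdicComplete_map {S B : Type u} [CommRing S] [CommRing B] [IsNoetherianRing S] (K : Ideal S)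
    [IsAdicComplete K S] (g : S →+* B) (hg : g.Finite) : IsAdicComplete (K.map g) B := by
  algebraize [g]
  exact (IsAdicComplete.map_algebraMap_iff _ _).mpr (H24Adic.isAdicComplete_of_finite (M := B) K)

theorem isAdicComplete_completion [IsNoetherianRing A₀] (I : Ideal A₀) :
    IsAdicComplete (I.map (algebraMap A₀ (AdicCompletion I A₀))) (AdicCompletion I A₀) :=
  (IsAdicComplete.map_algebraMap_iff _ _).mpr (AdicCompletion.isAdicComplete (IsNoetherian.noetherian I))

theorem core [IsNoetherianRing A₀] [IsNoetherianRing A] [Module.Finite A₀ A]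
    [IsNoetherianRing (AdicCompletion (Ideal.jacobson (⊥ : Ideal A₀)) A₀)]
    (I : Ideal A) (a b : ℕ) (ha : I ^ a ≤ (Ideal.jacobson (⊥ : Ideal A₀)).map (algebraMap A₀ A))
    (hb : ((Ideal.jacobson (⊥ : Ideal A₀)).map (algebraMap A₀ A)) ^ b ≤ I) :
    EGA41.IsFormallySmoothRel A₀ A (AdicCompletion (I.map (algebraMap A A)) A) := by
  let J₀ := Ideal.jacobson (⊥ : Ideal A₀)
  let S := AdicCompletion J₀ A₀
  let T := AdicCompletion (I.map (algebraMap A A)) A
  intro C _ _ _ _ N _ u₀ hu
  obtain ⟨u, hu⟩ := hu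
  -- completeness of the tensor product
  haveI : IsAdicComplete (I.map (algebraMap A (A ⊗[A₀] S))) (A ⊗[A₀] S) := by
    haveI := isAdicComplete_completion J₀
    haveI h1 := isAdicComplete_map (J₀.map (algebraMap A₀ S))
      (Algebra.TensorProduct.includeRight : S →ₐ[A₀] A ⊗[A₀] S).toRingHom (finite_tensor S)
    have h2 : (J₀.map (algebraMap A₀ A)).map (algebraMap A (A ⊗[A₀] S)) =
        (J₀.map (algebraMap A₀ S)).map (Algebra.TensorProduct.includeRight : S →ₐ[A₀] A ⊗[A₀] S).toRingHom := by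
      rw [Ideal.map_map, Ideal.map_map, ← IsScalarTower.algebraMap_eq A₀ A,
        show (Algebra.TensorProduct.includeRight : S →ₐ[A₀] A ⊗[A₀] S).toRingHom.comp (algebraMap A₀ S) =
          algebraMap A₀ (A ⊗[A₀] S) from RingHom.ext fun r => (Algebra.TensorProduct.includeRight : S →ₐ[A₀] A ⊗[A₀] S).commutes r]
    refine H24Adic.isAdicComplete_of_pow_le (a := a) (b := b) ?_ ?_ (A ⊗[A₀] S)
      (I := (J₀.map (algebraMap A₀ S)).map (Algebra.TensorProduct.includeRight : S →ₐ[A₀] A ⊗[A₀] S).toRingHom)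
    · rw [← h2, ← Ideal.map_pow]; exact Ideal.map_mono ha
    · rw [← h2, ← Ideal.map_pow]; exact Ideal.map_mono hb
  -- completeness of the target
  haveI hT : IsAdicComplete ((I.map (algebraMap A A)).map (algebraMap A T)) T :=
    (IsAdicComplete.map_algebraMap_iff _ _).mpr (AdicCompletion.isAdicComplete (IsNoetherian.noetherian _))
  have hI : (I.map (algebraMap A A)).map (algebraMap A T) = I.map (algebraMap A T) := by
    rw [Ideal.map_map, ← IsScalarTower.algebraMap_eq A A T]
  haveI : IsAdicComplete (J₀.map (algebraMap A₀ T)) T := by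
    refine H24Adic.isAdicComplete_of_pow_le (a := b) (b := a) ?_ ?_ T
      (I := (I.map (algebraMap A A)).map (algebraMap A T))
    · rw [hI, IsScalarTower.algebraMap_eq A₀ A T, ← Ideal.map_map, ← Ideal.map_pow]; exact Ideal.map_mono hb
    · rw [hI, IsScalarTower.algebraMap_eq A₀ A T, ← Ideal.map_map, ← Ideal.map_pow]; exact Ideal.map_mono ha
  haveI : IsHausdorff (I.map (algebraMap A T)) T := by
    have := hT.toIsHausdorff
    rwa [hI] at this
  haveI hS : IsAdicComplete (J₀.map (algebraMap A₀ T)) T := inferInstance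
  obtain ⟨ι, -⟩ := H24Adic.exists_algHom (R := A₀) (P := A₀) (B := T) J₀ (Algebra.ofId A₀ T)
  have hJ0 : J₀.map (algebraMap A₀ A₀) = J₀ := by rw [Algebra.algebraMap_self, Ideal.map_id]
  obtain ⟨ι', -⟩ : ∃ ι' : S →ₐ[A₀] T, True := by
    revert ι
    rw [hJ0]
    exact fun ι => ⟨ι, trivial⟩
  let Φ : A ⊗[A₀] S →ₐ[A] T := Algebra.TensorProduct.lift (Algebra.ofId A T) ι' (fun _ _ => Commute.all _ _)
  let w : A ⊗[A₀] S →ₐ[A] C := Algebra.TensorProduct.lift (Algebra.ofId A C) (u.comp ι') (fun _ _ => Commute.all _ _)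
  obtain ⟨ψ, hψ⟩ := H24Adic.exists_algHom (R := A) (P := A) (B := A ⊗[A₀] S) I (Algebra.ofId A _)
  have hid : Φ.comp ψ = AlgHom.id A T := H24Adic.algHom_ext (R := A) (P := A) (B := T) I
    (IsNoetherian.noetherian _) fun p => by
      rw [AlgHom.comp_apply, hψ, AlgHom.id_apply]
      exact Φ.commutes p
  have hw : (Ideal.Quotient.mkₐ A N).comp w = u₀.comp Φ := by
    refine Algebra.TensorProduct.ext (Subsingleton.elim _ _) (AlgHom.ext fun s => ?_)
    have h3 : Ideal.Quotient.mkₐ A₀ N (u (ι' s)) = u₀ (ι' s) := DFunLike.congr_fun hu (ι' s)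
    show Ideal.Quotient.mkₐ A N (w (1 ⊗ₜ s)) = u₀ (Φ (1 ⊗ₜ s))
    rw [Algebra.TensorProduct.lift_tmul, Algebra.TensorProduct.lift_tmul, map_one, map_one, one_mul, one_mul]
    exact h3
  refine ⟨w.comp ψ, ?_⟩
  rw [← AlgHom.comp_assoc, hw, AlgHom.comp_assoc, hid, AlgHom.comp_id]

theorem isFormallySmoothRel [IsNoetherianRing A₀] [Finite (MaximalSpectrum A₀)] [Module.Finite A₀ A] :
    EGA41.IsFormallySmoothRel A₀ A (AdicCompletion (Ideal.jacobson (⊥ : Ideal A)) A) := by
  haveI : IsNoetherianRing A := IsNoetherianRing.of_finite A₀ A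
  haveI := isNoetherianRing_adicCompletion A₀ (Ideal.jacobson (⊥ : Ideal A₀))
  obtain ⟨a, ha⟩ := Ideal.exists_pow_le_of_le_radical_of_fg (jacobson_le_radical (A₀ := A₀) (A := A))
    (IsNoetherian.noetherian (Ideal.jacobson (⊥ : Ideal A)))
  have h := core (A₀ := A₀) (Ideal.jacobson (⊥ : Ideal A)) a 1 ha (by rw [pow_one]; exact map_jacobson_le)
  rwa [Algebra.algebraMap_self, Ideal.map_id] at h

end Groth.Agent.H05EGA4.FiniteSemilocalCompletion
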