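import Mathlib
import Groth.Prelude.Def_EGA4b
import Groth.Agent.H05EGA4.FiniteSemilocalCompletion
import Groth.Agent.H05EGA4.NormalUnion
import Groth.Agent.H05EGA4.NormalTensor
import Groth.Agent.H05EGA4.EssEtFrac
import Groth.Agent.H1CAlg.Normal

/-!
Normality of the completion descends to finite subalgebras (helper5).
-/

set_option autoImplicit false
set_option linter.style.haveILetI false
set_option maxHeartbeats 800000
universe u
open TensorProduct Groth.Agent Polynomial

namespace Groth.Agent.H05EGA4.CompletionSub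

/-- In a normal ring, an element integral over a principal ideal lies in it. -/
theorem mem_span_of_normal {E : Type u} [CommRing E] (hE : EGA4.IsNormalRing E) {S : Type u} [CommRing S]
    (φ : S →+* E) {u v : S} {p : S[X]} (hp : p.Monic) (h : (scaleRoots p v).eval u = 0) :
    φ u ∈ Ideal.span {φ v} := by
  let I : Ideal E := Submodule.comap (LinearMap.toSpanSingleton E E (φ u)) (Ideal.span {φ v})
  suffices hI : (1 : E) ∈ I by simpa [I] using hI
  by_contra hI
  obtain ⟨m, hm, hle⟩ := Ideal.exists_le_maximal I ((Ideal.ne_top_iff_one I).mpr hI)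
  haveI := hm.isPrime
  obtain ⟨hdom, hic⟩ := hE m
  let L := Localization.AtPrime m
  let K := FractionRing L
  let ψ : S →+* L := (algebraMap E L).comp φ
  have h0 : eval₂ ψ (ψ u) (scaleRoots p v) = 0 := by rw [eval₂_at_apply, h, map_zero]
  have key : ψ u ∈ Ideal.span {ψ v} := by
    rcases eq_or_ne (ψ v) 0 with hv | hv
    · have hlc : ψ p.leadingCoeff ≠ 0 := by rw [hp.leadingCoeff, map_one]; exact one_ne_zero
      rw [eval₂_eq_eval_map, map_scaleRoots p v ψ hlc, hv, scaleRoots_zero, eval_smul, eval_pow, eval_X,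
        (hp.map ψ).leadingCoeff, one_smul] at h0
      rw [eq_zero_of_pow_eq_zero h0]
      exact zero_mem _
    · let χ : S →+* K := (algebraMap L K).comp ψ
      have hv' : χ v ≠ 0 := (map_ne_zero_iff _ (IsFractionRing.injective L K)).mpr hv
      have hz : eval₂ χ (χ u / χ v) p = 0 := by
        have h1 : eval₂ χ (χ u) (scaleRoots p v) = 0 := by
          show eval₂ ((algebraMap L K).comp ψ) ((algebraMap L K) (ψ u)) _ = 0
          rw [← hom_eval₂, h0, map_zero]
        rw [show χ u = χ v * (χ u / χ v) from (mul_div_cancel₀ _ hv').symm, scaleRoots_eval₂_mul] at h1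
        exact (mul_eq_zero.mp h1).resolve_left (pow_ne_zero _ hv')
      have hint : IsIntegral L (χ u / χ v) := ⟨p.map ψ, hp.map ψ, by rw [eval₂_map]; exact hz⟩
      obtain ⟨y, hy⟩ := (IsIntegrallyClosed.isIntegral_iff (R := L) (K := K)).mp hint
      refine Ideal.mem_span_singleton'.mpr ⟨y, IsFractionRing.injective L K ?_⟩
      rw [map_mul, hy]
      exact div_mul_cancel₀ _ hv'
  have hmap : (Ideal.span {φ v}).map (algebraMap E L) = Ideal.span {ψ v} := by
    rw [Ideal.map_span, Set.image_singleton]; rfl
  rw [← hmap, show ψ u = algebraMap E L (φ u) from rfl, IsLocalization.algebraMap_mem_map_algebraMap_iff m.primeCompl] at key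
  obtain ⟨t, ht, htu⟩ := key
  exact ht (hle (by simpa [I] using htu))

variable {B C : Type u} [CommRing B] [CommRing C] [Algebra B C]

/-- Flat base change of a finite subalgebra of a ring with normal base change. -/
theorem isNormalRing_of_subalgebra (S : Type u) [CommRing S] [Algebra B S] [Module.Flat B S] [IsNoetherianRing S]
    (hinj : Function.Injective (algebraMap B C)) (f : B) (hf : f ∈ nonZeroDivisors B) (r : C →ₗ[B] B)
    (hr : r 1 = f) (hpure : ∀ (b : B) (c : C), f • c = algebraMap B C b → f ∣ b)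
    (hE : EGA4.IsNormalRing (C ⊗[B] S)) : EGA4.IsNormalRing S := by
  let ι : S →ₐ[B] C ⊗[B] S := Algebra.TensorProduct.includeRight
  have hιinj : Function.Injective ι :=
    Algebra.TensorProduct.includeRight_injective hinj
  haveI := H05EGA4.isReduced_of_isNormalRing hE
  haveI : IsReduced S := isReduced_of_injective ι.toRingHom hιinj
  refine H1CAlg.isNormalRing_of_isIntegrallyClosedIn (minimalPrimes.finite_of_isNoetherianRing S)
    (isIntegrallyClosedIn_iff.mpr ⟨IsFractionRing.injective S _, fun {x} hx => ?_⟩)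
  let Q := FractionRing S
  obtain ⟨u, v, rfl⟩ := IsLocalization.exists_mk'_eq (nonZeroDivisors S) x
  obtain ⟨p, hp, hpx⟩ := hx
  -- elements of `Q` integral over `S`
  have hdiv : ∀ (a b : S), algebraMap S Q a = algebraMap S Q b * IsLocalization.mk' Q u v →
      ι a ∈ Ideal.span {ι b} := fun a b hab => by
    refine mem_span_of_normal hE ι.toRingHom hp (IsFractionRing.injective S Q ?_)
    rw [map_zero, ← eval₂_at_apply, hab]
    exact scaleRoots_eval₂_eq_zero _ hpx
  let R : C ⊗[B] S →ₗ[B] S := (TensorProduct.lid B S).toLinearMap ∘ₗ LinearMap.rTensor S r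
  have hR : ∀ (c : C) (s : S), R (c ⊗ₜ s) = r c • s := fun c s => by
    simp only [R, LinearMap.comp_apply, LinearMap.rTensor_tmul, LinearEquiv.coe_coe, TensorProduct.lid_tmul]
  have hRmul : ∀ (z : C ⊗[B] S) (s : S), R (z * ι s) = R z * s := fun z s => by
    induction z using TensorProduct.induction_on with
    | zero => simp
    | tmul c t =>
      show R (c ⊗ₜ t * (1 : C) ⊗ₜ s) = _
      rw [Algebra.TensorProduct.tmul_mul_tmul, mul_one, hR, hR, Algebra.smul_mul_assoc]
    | add a b ha hb => rw [add_mul, map_add, map_add, ha, hb, add_mul]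
  have hR1 : R 1 = algebraMap B S f := by
    rw [Algebra.TensorProduct.one_def, hR, hr, Algebra.algebraMap_eq_smul_one]
  obtain ⟨c, hc⟩ := Ideal.mem_span_singleton'.mp
    (hdiv u v (by rw [mul_comm, IsLocalization.mk'_spec]))
  let w := R c
  have hw : algebraMap B S f * u = w * v := by
    rw [← hR1, ← hRmul, one_mul, ← hc, hRmul]
  have hwx : algebraMap S Q w = algebraMap S Q (algebraMap B S f) * IsLocalization.mk' Q u v := by
    rw [IsLocalization.mul_mk'_eq_mk'_of_mul, IsLocalization.eq_mk'_iff_mul_eq, ← map_mul, hw]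
  obtain ⟨d, hd⟩ := Ideal.mem_span_singleton'.mp (hdiv _ _ hwx)
  -- `w` is divisible by `f`
  let g : B →ₗ[B] C ⧸ (Ideal.span {f} • (⊤ : Submodule B C)) :=
    (Submodule.mkQ _) ∘ₗ (Algebra.linearMap B C)
  let m : B →ₗ[B] B := LinearMap.lsmul B B f
  have hex : Function.Exact m g := by
    intro b
    simp only [g, LinearMap.comp_apply, Submodule.mkQ_apply, Submodule.Quotient.mk_eq_zero,
      Submodule.ideal_span_singleton_smul, Submodule.mem_smul_pointwise_iff_exists, Algebra.linearMap_apply, m,
      Set.mem_range, LinearMap.lsmul_apply, smul_eq_mul]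
    constructor
    · rintro ⟨c', -, hc'⟩
      obtain ⟨b', rfl⟩ := hpure b c' hc'
      exact ⟨b', rfl⟩
    · rintro ⟨b', rfl⟩
      exact ⟨algebraMap B C b', Submodule.mem_top, by rw [Algebra.smul_def, map_mul]⟩
  have hexS : Function.Exact (LinearMap.rTensor S m) (LinearMap.rTensor S g) := Module.Flat.rTensor_exact S hex
  have hz : LinearMap.rTensor S g ((1 : B) ⊗ₜ w) = 0 := by
    rw [show g = (Submodule.mkQ _) ∘ₗ (Algebra.linearMap B C) from rfl, LinearMap.rTensor_comp_apply,
      LinearMap.rTensor_tmul, Algebra.linearMap_apply, map_one]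
    show LinearMap.rTensor S (Submodule.mkQ _) (ι w) = 0
    rw [← hd]
    clear hd
    induction d using TensorProduct.induction_on with
    | zero => rw [zero_mul, map_zero]
    | tmul a t =>
      show LinearMap.rTensor S _ (a ⊗ₜ t * (1 : C) ⊗ₜ algebraMap B S f) = 0
      rw [Algebra.TensorProduct.tmul_mul_tmul, mul_one, LinearMap.rTensor_tmul, Submodule.mkQ_apply,
        mul_comm, ← Algebra.smul_def, ← TensorProduct.smul_tmul, ← Submodule.Quotient.mk_smul,
        (Submodule.Quotient.mk_eq_zero _).mpr (Submodule.smul_mem_smul (Ideal.mem_span_singleton_self f)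
          Submodule.mem_top), TensorProduct.zero_tmul]
    | add a b ha hb => rw [add_mul, map_add, ha, hb, add_zero]
  obtain ⟨y, hy⟩ := (hexS _).mp hz
  have hy' : algebraMap B S f * (TensorProduct.lid B S y) = w := by
    have h2 : ∀ y, TensorProduct.lid B S (LinearMap.rTensor S m y) = f • TensorProduct.lid B S y := fun y => by
      induction y using TensorProduct.induction_on with
      | zero => simp
      | tmul a t => simp [m, mul_smul]
      | add a b ha hb => simp only [map_add, ha, hb, smul_add]
    rw [← Algebra.smul_def, ← h2, hy, TensorProduct.lid_tmul, one_smul]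
  refine ⟨TensorProduct.lid B S y, ?_⟩
  have hfS : IsUnit (algebraMap S Q (algebraMap B S f)) :=
    IsLocalization.map_units Q (⟨_, EssEtFrac.map_nonZeroDivisors_le ⟨f, hf, rfl⟩⟩ : nonZeroDivisors S)
  refine hfS.mul_left_cancel ?_
  rw [← map_mul, hy', hwx]

/-- A generic retraction. -/
theorem exists_retraction [IsReduced B] [IsNoetherianRing B] [Module.Finite B C]
    (hinj : Function.Injective (algebraMap B C)) :
    ∃ f ∈ nonZeroDivisors B, ∃ r : C →ₗ[B] B, r 1 = f := by
  let Q := FractionRing B
  haveI : IsArtinianRing Q := EssEtFrac.isArtinianRing_fractionRing B (minimalPrimes.finite_of_isNoetherianRing B)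
  haveI : IsSemisimpleRing Q := IsArtinianRing.isSemisimpleRing_of_isReduced Q
  let i : Q →ₗ[Q] Q ⊗[B] C := Algebra.linearMap Q (Q ⊗[B] C)
  have hi : Function.Injective i := Algebra.TensorProduct.includeLeft_injective (S := Q) hinj
  obtain ⟨ρ, hρ'⟩ := IsSemisimpleModule.extension_property i hi LinearMap.id
  have hρ : ∀ q, ρ (i q) = q := LinearMap.congr_fun hρ'
  obtain ⟨n, gen, hgen⟩ := Module.Finite.exists_fin (R := B) (M := C)
  obtain ⟨f, hf⟩ := IsLocalization.exist_integer_multiples (nonZeroDivisors B)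
    Finset.univ (fun j : Fin n => ρ ((1 : Q) ⊗ₜ gen j))
  let h : C →ₗ[B] Q := (f : B) • ((ρ.restrictScalars B) ∘ₗ (TensorProduct.mk B Q C 1))
  have hh : ∀ c, h c ∈ LinearMap.range (Algebra.linearMap B Q) := fun c => by
    have hle : Submodule.span B (Set.range gen) ≤ (LinearMap.range (Algebra.linearMap B Q)).comap h := by
      rw [Submodule.span_le]
      rintro _ ⟨j, rfl⟩
      exact hf j (Finset.mem_univ j)
    exact hle (hgen ▸ Submodule.mem_top)
  let e := LinearEquiv.ofInjective (Algebra.linearMap B Q) (IsFractionRing.injective B Q)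
  refine ⟨f, f.2, e.symm.toLinearMap ∘ₗ h.codRestrict _ hh, ?_⟩
  rw [LinearMap.comp_apply]
  apply e.injective
  rw [LinearEquiv.coe_coe, LinearEquiv.apply_symm_apply]
  refine Subtype.ext ?_
  rw [LinearMap.codRestrict_apply, LinearEquiv.ofInjective_apply]
  show (f : B) • ρ ((1 : Q) ⊗ₜ (1 : C)) = algebraMap B Q f
  rw [Algebra.algebraMap_eq_smul_one]
  congr 1
  have h1 := hρ 1
  simpa [i, Algebra.TensorProduct.one_def] using h1

/-- Completion of a finite algebra as a base change. -/
theorem tensor_completion_equiv_aux [IsNoetherianRing B] [Module.Finite B C] (J : Ideal B) :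
    Nonempty (C ⊗[B] AdicCompletion (J.map (algebraMap B B)) B ≃+* AdicCompletion (J.map (algebraMap B C)) C) := by
  haveI : IsNoetherianRing C := IsNoetherianRing.of_finite B C
  let S := AdicCompletion (J.map (algebraMap B B)) B
  let T := AdicCompletion (J.map (algebraMap B C)) C
  haveI : IsNoetherianRing S := isNoetherianRing_adicCompletion B _
  let iS : S →ₐ[B] C ⊗[B] S := Algebra.TensorProduct.includeRight
  let iC : C →ₐ[B] C ⊗[B] S := Algebra.TensorProduct.includeLeft
  have hJS : (J.map (algebraMap B B)).map (algebraMap B S) = J.map (algebraMap B S) := by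
    rw [Ideal.map_map, ← IsScalarTower.algebraMap_eq]
  haveI : IsAdicComplete (J.map (algebraMap B S)) S :=
    hJS ▸ FiniteSemilocalCompletion.isAdicComplete_completion (J.map (algebraMap B B))
  haveI : IsAdicComplete (J.map (algebraMap B (C ⊗[B] S))) (C ⊗[B] S) := by
    have h1 := FiniteSemilocalCompletion.isAdicComplete_map (J.map (algebraMap B S)) iS.toRingHom
      (FiniteSemilocalCompletion.finite_tensor S)
    rwa [Ideal.map_map, show iS.toRingHom.comp (algebraMap B S) = algebraMap B (C ⊗[B] S) from
      RingHom.ext fun b => iS.commutes b] at h1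
  haveI : IsAdicComplete (J.map (algebraMap B T)) T := by
    have h1 := FiniteSemilocalCompletion.isAdicComplete_completion (A₀ := C) (J.map (algebraMap B C))
    rwa [Ideal.map_map, ← IsScalarTower.algebraMap_eq B C T] at h1
  obtain ⟨ι, hι⟩ := H24Adic.exists_algHom (R := B) (P := B) (B := T) J (Algebra.ofId B T)
  let Φ : C ⊗[B] S →ₐ[B] T := Algebra.TensorProduct.lift (IsScalarTower.toAlgHom B C T) ι (fun _ _ => Commute.all _ _)
  obtain ⟨ψ, hψ⟩ := H24Adic.exists_algHom (R := B) (P := C) (B := C ⊗[B] S) J iC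
  have h1 : Φ.comp ψ = AlgHom.id B T :=
    H24Adic.algHom_ext (R := B) (P := C) (B := T) J (IsNoetherian.noetherian _) fun c => by
      rw [AlgHom.comp_apply, hψ, AlgHom.id_apply]
      show Φ (c ⊗ₜ 1) = _
      rw [Algebra.TensorProduct.lift_tmul, map_one, mul_one]
      rfl
  have h3 : ψ.comp ι = iS :=
    H24Adic.algHom_ext (R := B) (P := B) (B := C ⊗[B] S) J (IsNoetherian.noetherian _) fun b => by
      rw [AlgHom.comp_apply, hι, Algebra.ofId_apply, AlgHom.commutes]
      exact (iS.commutes b).symm
  have h2 : ψ.comp Φ = AlgHom.id B _ := by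
    refine Algebra.TensorProduct.ext' fun c s => ?_
    rw [AlgHom.comp_apply, Algebra.TensorProduct.lift_tmul, map_mul, AlgHom.id_apply]
    rw [show ψ (IsScalarTower.toAlgHom B C T c) = iC c from hψ c, show ψ (ι s) = iS s from DFunLike.congr_fun h3 s]
    show c ⊗ₜ[B] (1 : S) * (1 : C) ⊗ₜ[B] s = _
    rw [Algebra.TensorProduct.tmul_mul_tmul, mul_one, one_mul]
  exact ⟨(AlgEquiv.ofAlgHom Φ ψ h1 h2).toRingEquiv⟩

/-- Normality of the completion descends to finite subalgebras of a normal ring. -/
theorem isNormalRing_completion [IsNoetherianRing B] [Module.Finite B C]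
    (hinj : Function.Injective (algebraMap B C)) (hB : EGA4.IsNormalRing B) (J : Ideal B)
    (hC : EGA4.IsNormalRing (AdicCompletion (J.map (algebraMap B C)) C)) :
    EGA4.IsNormalRing (AdicCompletion J B) := by
  haveI := H05EGA4.isReduced_of_isNormalRing hB
  obtain ⟨f, hf, r, hr⟩ := exists_retraction (B := B) (C := C) hinj
  suffices h : EGA4.IsNormalRing (AdicCompletion (J.map (algebraMap B B)) B) by
    rwa [Algebra.algebraMap_self, Ideal.map_id] at h
  obtain ⟨e⟩ := tensor_completion_equiv_aux (C := C) J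
  haveI : IsNoetherianRing (AdicCompletion (J.map (algebraMap B B)) B) := isNoetherianRing_adicCompletion B _
  refine isNormalRing_of_subalgebra _ hinj f hf r hr (fun b c hbc => ?_) (H05EGA4.isNormalRing_of_ringEquiv e.symm hC)
  obtain ⟨-, hcl⟩ := isIntegrallyClosedIn_iff.mp (H1CAlg.isIntegrallyClosedIn_of_isNormalRing hB)
  let x : FractionRing B := IsLocalization.mk' _ b ⟨f, hf⟩
  obtain ⟨p, hp, hpc⟩ : IsIntegral B c := IsIntegral.of_finite B c
  have h0 : (scaleRoots p f).eval b = 0 := by
    refine hinj ?_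
    rw [map_zero, ← eval₂_at_apply, ← hbc, Algebra.smul_def]
    exact scaleRoots_eval₂_eq_zero _ hpc
  have hx : IsIntegral B x := by
    refine ⟨p, hp, ?_⟩
    have hfx : algebraMap B _ f * x = algebraMap B (FractionRing B) b := by
      rw [mul_comm]; exact IsLocalization.mk'_spec _ b ⟨f, hf⟩
    have h2 := scaleRoots_eval₂_mul (p := p) (algebraMap B (FractionRing B)) x f
    rw [hfx, eval₂_at_apply, h0, map_zero] at h2
    exact ((IsLocalization.map_units (FractionRing B) (⟨f, hf⟩ : nonZeroDivisors B)).pow _).mul_right_eq_zero.mp h2.symm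
  obtain ⟨b', hb'⟩ := hcl hx
  refine ⟨b', IsFractionRing.injective B (FractionRing B) ?_⟩
  rw [map_mul, hb', mul_comm]
  exact (IsLocalization.mk'_spec _ b ⟨f, hf⟩).symm

end Groth.Agent.H05EGA4.CompletionSub
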