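import Mathlib
import Groth.Prelude.Def_EGA4b
import Groth.Agent.H25Norm.Sections
import Groth.Agent.H06EGA17.SmoothRing
import Groth.Agent.H05EGA4.NormalTensor

/-!
Global sections of a Noetherian normal scheme form a normal ring (helper5).
-/

set_option autoImplicit false
set_option linter.style.haveILetI false
set_option maxHeartbeats 800000
universe u
open CategoryTheory AlgebraicGeometry TopologicalSpace Opposite Groth.Agent

namespace Groth.Agent.H05EGA4.NormalSections

variable {T : Scheme.{u}}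

theorem exists_idempotent {C : Set T} (hC : IsClopen C) :
    ∃ e : Γ(T, ⊤), (T.basicOpen e : Set T) = C ∧
      ∀ x, (x ∈ C → T.presheaf.germ ⊤ x trivial e = 1) ∧ (x ∉ C → T.presheaf.germ ⊤ x trivial e = 0) := by
  let W : Bool → T.Opens := fun b => bif b then ⟨C, hC.2⟩ else ⟨Cᶜ, hC.1.isOpen_compl⟩
  let s : ∀ b, Γ(T, W b) := fun b => bif b then 1 else 0
  have hemp : ∀ b b', b ≠ b' → W b ⊓ W b' = ⊥ := by
    intro b b' h
    refine Opens.ext ?_
    cases b <;> cases b' <;> first | exact absurd rfl h | simp [W]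
  obtain ⟨e, he⟩ : ∃ e : Γ(T, ⊤), ∀ b, T.presheaf.map (homOfLE (le_top : W b ≤ ⊤)).op e = s b := by
    obtain ⟨e, he, -⟩ := T.sheaf.existsUnique_gluing' W ⊤ (fun b => homOfLE le_top) (fun z _ => by
      rw [Opens.mem_iSup]
      by_cases hz : z ∈ C
      · exact ⟨true, hz⟩
      · exact ⟨false, hz⟩) s (by
      intro b b'
      by_cases h : b = b'
      · subst h; rfl
      · haveI : Subsingleton Γ(T, W b ⊓ W b') := by rw [hemp b b' h]; infer_instance
        exact @Subsingleton.elim Γ(T, W b ⊓ W b') _ _ _)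
    exact ⟨e, he⟩
  have h1 : ∀ x ∈ C, T.presheaf.germ ⊤ x trivial e = 1 := fun x hx => by
    have := congrArg (T.presheaf.germ (W true) x hx) (he true)
    exact ((TopCat.Presheaf.germ_res_apply T.presheaf _ x hx e).symm.trans this).trans (map_one _)
  have h0 : ∀ x, x ∉ C → T.presheaf.germ ⊤ x trivial e = 0 := fun x hx => by
    have := congrArg (T.presheaf.germ (W false) x hx) (he false)
    exact ((TopCat.Presheaf.germ_res_apply T.presheaf _ x hx e).symm.trans this).trans (map_zero _)
  refine ⟨e, Set.ext fun x => ?_, fun x => ⟨h1 x, h0 x⟩⟩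
  rw [SetLike.mem_coe, Scheme.mem_basicOpen _ _ _ (show x ∈ (⊤ : T.Opens) from trivial)]
  exact ⟨fun h => by_contra fun hx => not_isUnit_zero (h0 x hx ▸ h), fun hx => (h1 x hx).symm ▸ isUnit_one⟩

theorem exists_component_cover [IsNoetherian T] (hd : ∀ t : T, IsDomain (T.presheaf.stalk t)) :
    ∃ S : Finset T, (∀ g ∈ S, IsClopen (closure ({g} : Set T))) ∧ ∀ t, ∃ g ∈ S, g ⤳ t := by
  choose w hw hwmax using fun t : T => @Groth.Agent.H18Et.FEtNormal.exists_maximal_generalization _ t (hd t)
  have hwgen : ∀ t, closure {w t} ∈ irreducibleComponents T := by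
    intro t
    refine ⟨isIrreducible_singleton.closure, fun Z hZ hle => ?_⟩
    obtain ⟨z, hz⟩ := QuasiSober.sober hZ.closure isClosed_closure
    have hzw : z ⤳ w t :=
      hz.specializes (subset_closure (hle (subset_closure (Set.mem_singleton _))))
    have hwz : w t ⤳ z := hwmax t z (hzw.trans (hw t))
    exact subset_closure.trans (hz.def.ge.trans (closure_minimal
      (Set.singleton_subset_iff.2 hwz.mem_closure) isClosed_closure))
  have huniq : ∀ y z, w z ⤳ y → w z = w y := fun y z h =>
    (((hwmax z (w y) ((hwmax y (w z) h).trans (hw z)))).antisymm (hwmax y (w z) h)).eq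
  have hfin : (Set.range w).Finite :=
    Set.Finite.of_finite_image (f := fun z : T => closure ({z} : Set T))
      (NoetherianSpace.finite_irreducibleComponents.subset (by rintro _ ⟨_, ⟨t, rfl⟩, rfl⟩; exact hwgen t))
      (fun a _ b _ h => (isGenericPoint_def.2 (h : closure {a} = closure {b})).eq isGenericPoint_closure)
  refine ⟨hfin.toFinset, fun g hg => ?_, fun t => ⟨w t, hfin.mem_toFinset.mpr ⟨t, rfl⟩, hw t⟩⟩
  obtain ⟨y₀, rfl⟩ := hfin.mem_toFinset.mp hg
  refine ⟨isClosed_closure, ?_⟩
  have : (closure {w y₀})ᶜ = ⋃ g ∈ Set.range w \ {w y₀}, closure {g} := by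
    ext z
    simp only [Set.mem_compl_iff, Set.mem_iUnion, exists_prop]
    constructor
    · intro hz
      refine ⟨w z, ⟨⟨z, rfl⟩, fun h => hz ?_⟩, specializes_iff_mem_closure.mp (hw z)⟩
      exact specializes_iff_mem_closure.mp ((Set.mem_singleton_iff.mp h) ▸ hw z)
    · rintro ⟨_, ⟨⟨v, rfl⟩, hne⟩, hzu⟩ hzC
      exact hne ((huniq z v (specializes_iff_mem_closure.mpr hzu)).trans
        (huniq z y₀ (specializes_iff_mem_closure.mpr hzC)).symm)
  rw [← isClosed_compl_iff, this]
  exact (hfin.sdiff).isClosed_biUnion fun _ _ => isClosed_closure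

/-- Global sections of a Noetherian normal scheme form a normal ring. -/
theorem isNormalRing_top [IsNoetherian T]
    (hN : ∀ t : T, IsDomain (T.presheaf.stalk t) ∧ IsIntegrallyClosed (T.presheaf.stalk t)) :
    EGA4.IsNormalRing Γ(T, ⊤) := by
  classical
  obtain ⟨S, hS, hcov⟩ := exists_component_cover fun t => (hN t).1
  choose! e he hgerm using fun g (hg : g ∈ S) => exists_idempotent (hS g hg)
  have hprod : ∏ g ∈ S, (1 - e g) = 0 := by
    refine TopCat.Presheaf.section_ext T.sheaf ⊤ _ _ fun x hx => ?_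
    show T.presheaf.germ ⊤ x hx _ = T.presheaf.germ ⊤ x hx 0
    obtain ⟨g, hg, hgx⟩ := hcov x
    rw [map_prod, map_zero]
    refine Finset.prod_eq_zero hg ?_
    rw [map_sub, map_one, (hgerm g hg x).1 (specializes_iff_mem_closure.mp hgx), sub_self]
  intro p _
  obtain ⟨g, hg, hgp⟩ : ∃ g ∈ S, e g ∉ p := by
    have h0 : ∏ g ∈ S, (1 - e g) ∈ p := hprod ▸ zero_mem p
    obtain ⟨g, hg, hgp⟩ := (Ideal.IsPrime.prod_mem_iff).1 h0
    exact ⟨g, hg, fun h => Ideal.IsPrime.ne_top ‹p.IsPrime› ((Ideal.eq_top_iff_one p).mpr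
      (by simpa using add_mem hgp h))⟩
  let U : T.Opens := T.basicOpen (e g)
  have hU : (U : Set T) = closure {g} := he g hg
  haveI : AlgebraicGeometry.IsReduced T := by
    haveI : ∀ t : T, _root_.IsReduced (T.presheaf.stalk t) := fun t => by have := (hN t).1; infer_instance
    exact isReduced_of_isReduced_stalk _
  haveI : IrreducibleSpace U.toScheme := by
    haveI : IrreducibleSpace ↥(U : Set T) := by
      rw [hU]
      exact Subtype.irreducibleSpace isIrreducible_singleton.closure
    exact this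
  haveI : IsIntegral U.toScheme := isIntegral_of_irreducibleSpace_of_isReduced _
  have hic : IsIntegrallyClosed Γ(U.toScheme, ⊤) := H25Norm.isIntegrallyClosed_top U.toScheme fun t => by
    haveI := (hN t.1).2
    exact IsIntegrallyClosed.of_equiv (R := T.presheaf.stalk t.1) (U.stalkIso t).commRingCatIsoToRingEquiv.symm
  haveI : Nonempty U := ⟨⟨g, by
    show g ∈ (U : Set T); rw [hU]; exact subset_closure rfl⟩⟩
  haveI : IsDomain Γ(U.toScheme, ⊤) := inferInstance
  have hnorm : EGA4.IsNormalRing Γ(T, U) := H05EGA4.isNormalRing_of_ringEquiv U.topIso.commRingCatIsoToRingEquiv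
    (H06EGA17.isNormalRing_of_isIntegrallyClosed _)
  haveI hloc : IsLocalization.Away (e g) Γ(T, U) :=
    isLocalization_basicOpen_of_qcqs CompactSpace.isCompact_univ isQuasiSeparated_univ (e g)
  have hdisj : Disjoint (Submonoid.powers (e g) : Set Γ(T, ⊤)) p := Set.disjoint_left.mpr fun x hx hx' => by
    obtain ⟨n, rfl⟩ := hx
    exact hgp (‹p.IsPrime›.mem_of_pow_mem n hx')
  haveI := IsLocalization.isPrime_of_isPrime_disjoint (Submonoid.powers (e g)) Γ(T, U) p ‹_› hdisj
  let P := p.map (algebraMap Γ(T, ⊤) Γ(T, U))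
  have hP : P.under Γ(T, ⊤) = p := IsLocalization.under_map_of_isPrime_disjoint (Submonoid.powers (e g)) _ ‹_› hdisj
  haveI h1 : IsLocalization.AtPrime (Localization.AtPrime P) (P.under Γ(T, ⊤)) :=
    IsLocalization.isLocalization_isLocalization_atPrime_isLocalization (Submonoid.powers (e g))
      (Localization.AtPrime P) P
  haveI h2 : IsLocalization p.primeCompl (Localization.AtPrime P) := by
    convert! h1 using 2
    · exact hP.symm
  let E : Localization.AtPrime P ≃ₐ[Γ(T, ⊤)] Localization.AtPrime p :=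
    IsLocalization.algEquiv p.primeCompl _ _
  obtain ⟨hd', hc'⟩ := hnorm P
  exact ⟨E.symm.toRingEquiv.toMulEquiv.isDomain, IsIntegrallyClosed.of_equiv (R := Localization.AtPrime P) E.toRingEquiv⟩

end Groth.Agent.H05EGA4.NormalSections
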