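import Mathlib
import Groth.Prelude.Def_Curv2
import Groth.Prelude.Def_Found
import Groth.Agent.H05EGA4.NormalSections
import Groth.Agent.H05EGA4.CompletionSubalgebra
import Groth.Agent.H05EGA4.CompleteNormalization
import Groth.Agent.H28Cpl.BcCpl
import Groth.Agent.H28Vert.Chain
import Groth.Agent.H28Pinch.CohFlat

/-!
Global functions of a regular alteration and the normalisation of the base (helper5).
-/

set_option autoImplicit false
set_option linter.style.haveILetI false
set_option maxHeartbeats 800000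
universe u
open CategoryTheory CategoryTheory.Limits AlgebraicGeometry TensorProduct Groth.Agent

namespace Groth.Agent.H05EGA4.Alteration

variable {A : Type u} [CommRing A] {X : Scheme.{u}} (f : X ⟶ Spec (CommRingCat.of A))

/-- The structure map on global sections. -/
noncomputable abbrev ρ : A →+* Γ(X, ⊤) := f.appTop.hom.comp (Scheme.ΓSpecIso (CommRingCat.of A)).inv.hom

theorem normal_stalks_of_regular {T : Scheme.{u}} (h : ∀ t : T, IsRegularLocalRing (T.presheaf.stalk t)) :
    ∀ t : T, IsDomain (T.presheaf.stalk t) ∧ IsIntegrallyClosed (T.presheaf.stalk t) := fun t => by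
  haveI := h t
  exact ⟨H4Depth.isDomain_of_isRegularLocalRing _, H05EGA4.isIntegrallyClosed_of_isRegularLocalRing _⟩

theorem ρ_injective [IsDomain A] [IsDominant f] : Function.Injective (ρ f) := by
  rw [injective_iff_map_eq_zero]
  intro a ha
  by_contra h
  let a' := (Scheme.ΓSpecIso (CommRingCat.of A)).inv a
  have hne : ((Spec (CommRingCat.of A)).basicOpen a' : Set (Spec (CommRingCat.of A))).Nonempty := by
    rw [basicOpen_eq_of_affine]
    exact ⟨⟨⊥, Ideal.isPrime_bot⟩, fun hm => h (by simpa using hm)⟩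
  obtain ⟨x, hx⟩ := (IsDominant.denseRange (f := f)).exists_mem_open
    ((Spec (CommRingCat.of A)).basicOpen a').isOpen hne
  have h2 : x ∈ f ⁻¹ᵁ (Spec (CommRingCat.of A)).basicOpen a' := hx
  rw [Scheme.preimage_basicOpen] at h2
  have h3 : f.app ⊤ a' = 0 := ha
  rw [h3, Scheme.basicOpen_zero] at h2
  exact h2

/-- The map from the integral closure of the base. -/
theorem exists_lift [IsDomain A] (C : Type u) [CommRing C] [IsDomain C] [IsIntegrallyClosed C] [Algebra A C]
    (hinj : Function.Injective (algebraMap A C)) :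
    ∃ g : integralClosure A (FractionRing A) →ₐ[A] C, Function.Injective g := by
  let L := FractionRing C
  have hu : ∀ y : nonZeroDivisors A, IsUnit (Algebra.ofId A L y) := fun y => by
    refine Ne.isUnit ?_
    rw [Algebra.ofId_apply, IsScalarTower.algebraMap_apply A C L,
      map_ne_zero_iff _ (IsFractionRing.injective C L), map_ne_zero_iff _ hinj]
    exact nonZeroDivisors.ne_zero y.2
  let j : FractionRing A →ₐ[A] L := IsLocalization.liftAlgHom (M := nonZeroDivisors A) (f := Algebra.ofId A L) hu
  let i : C →ₐ[A] L := IsScalarTower.toAlgHom A C L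
  have hi : Function.Injective i := IsFractionRing.injective C L
  have hmem : ∀ b : integralClosure A (FractionRing A), j b ∈ i.range := fun b => by
    have h1 : IsIntegral C (j b) := (b.2.map j).tower_top
    obtain ⟨c, hc⟩ := IsIntegrallyClosed.algebraMap_eq_of_integral h1
    exact ⟨c, hc⟩
  let m := (j.comp (integralClosure A (FractionRing A)).val).codRestrict i.range hmem
  refine ⟨(AlgEquiv.ofInjective i hi).symm.toAlgHom.comp m,
    (AlgEquiv.ofInjective i hi).symm.injective.comp fun x y hxy => ?_⟩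
  exact Subtype.val_injective (j.toRingHom.injective (congrArg Subtype.val hxy))

/-- Flat base change of the global sections to the completion. -/
theorem exists_equiv_bcCpl [IsLocalRing A] [IsNoetherianRing A] [QuasiCompact f] [QuasiSeparated f]
    [Algebra A Γ(X, ⊤)] (hρ : algebraMap A Γ(X, ⊤) = ρ f) :
    Nonempty (Γ(X, ⊤) ⊗[A] Curv2.cpl A ≃+* Γ(Curv2.bcCpl A f, ⊤)) := by
  let φ := Spec.map (CommRingCat.ofHom (algebraMap A (Curv2.cpl A)))
  haveI : Flat φ := by
    rw [HasRingHomProperty.Spec_iff (P := @Flat)]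
    exact RingHom.flat_algebraMap_iff.2 inferInstance
  haveI : CompactSpace X := QuasiCompact.compactSpace_of_compactSpace f
  haveI : QuasiSeparatedSpace X := quasiSeparatedSpace_of_quasiSeparated f
  have H : IsPullback (pullback.fst f φ) (pullback.snd f φ) f φ := IsPullback.of_hasPullback f φ
  haveI h1 := isIso_pushoutSection_of_isQuasiSeparated_of_flat_right H (US := ⊤) (UT := ⊤) (UX := ⊤)
    le_top le_top (UY := ⊤) (by simp) (isAffineOpen_top _) (isAffineOpen_top _)
    CompactSpace.isCompact_univ isQuasiSeparated_univ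
  have h2 := (isIso_pushoutSection_iff ..).mp h1
  simp only [Scheme.Hom.appLE, homOfLE_refl, op_id, CategoryTheory.Functor.map_id, Category.comp_id,
    Scheme.Hom.preimage_top] at h2
  have h3 : IsPushout (CommRingCat.ofHom (algebraMap A Γ(X, ⊤)))
      (CommRingCat.ofHom (algebraMap A (Curv2.cpl A)))
      (pullback.fst f φ).appTop ((Scheme.ΓSpecIso (CommRingCat.of (Curv2.cpl A))).inv ≫ (pullback.snd f φ).appTop) := by
    refine h2.of_iso (Scheme.ΓSpecIso (CommRingCat.of A)) (Iso.refl _) (Scheme.ΓSpecIso (CommRingCat.of (Curv2.cpl A)))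
      (Iso.refl _) ?_ ?_ ?_ ?_
    · rw [hρ, Iso.refl_hom, Category.comp_id]
      ext x
      show f.appTop x = f.appTop ((Scheme.ΓSpecIso (CommRingCat.of A)).inv ((Scheme.ΓSpecIso (CommRingCat.of A)).hom x))
      rw [Iso.hom_inv_id_apply]
    · exact Scheme.ΓSpecIso_naturality _
    · simp [Scheme.Hom.appTop]
    · simp [Scheme.Hom.appTop]
  obtain ⟨e, -⟩ := H28Pinch.exists_tensorIso h3 rfl rfl
  exact ⟨(Algebra.TensorProduct.comm A _ _).toRingEquiv.trans e.commRingCatIsoToRingEquiv⟩

theorem isN1_of_alteration [IsDomain A] [IsNoetherianRing A] (hf : Curv2.IsAlteration f)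
    (hreg : ∀ x : X, IsRegularLocalRing (X.presheaf.stalk x)) : CAlg.IsN1 A := by
  obtain ⟨hp, hX, -, hdom, -⟩ := hf
  haveI := hp; haveI := hX; haveI := hdom
  letI : Algebra A Γ(X, ⊤) := (ρ f).toAlgebra
  haveI : Nonempty (⊤ : X.Opens) := by
    obtain ⟨x⟩ := (inferInstance : Nonempty X)
    exact ⟨⟨x, trivial⟩⟩
  haveI : IsIntegrallyClosed Γ(X, ⊤) := H25Norm.isIntegrallyClosed_top X fun t => (normal_stalks_of_regular hreg t).2
  haveI : Module.Finite A Γ(X, ⊤) := H28Vert.finite_toGlobal_of_isProper f
  obtain ⟨g, hg⟩ := exists_lift Γ(X, ⊤) (ρ_injective f)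
  haveI : _root_.IsNoetherian A Γ(X, ⊤) := isNoetherian_of_isNoetherianRing_of_finite A _
  exact Module.Finite.of_injective g.toLinearMap hg

theorem completion_normal [IsDomain A] [IsLocalRing A] [IsNoetherianRing A] (hf : Curv2.IsAlteration f)
    (hreg : ∀ x : X, IsRegularLocalRing (X.presheaf.stalk x)) :
    EGA4.IsNormalRing (AdicCompletion ((IsLocalRing.maximalIdeal A).map
      (algebraMap A (integralClosure A (FractionRing A)))) (integralClosure A (FractionRing A))) := by
  obtain ⟨hp, hX, -, hdom, -⟩ := hf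
  haveI := hp; haveI := hX; haveI := hdom
  letI : Algebra A Γ(X, ⊤) := (ρ f).toAlgebra
  haveI : Nonempty (⊤ : X.Opens) := by
    obtain ⟨x⟩ := (inferInstance : Nonempty X)
    exact ⟨⟨x, trivial⟩⟩
  haveI : IsIntegrallyClosed Γ(X, ⊤) := H25Norm.isIntegrallyClosed_top X fun t => (normal_stalks_of_regular hreg t).2
  haveI : Module.Finite A Γ(X, ⊤) := H28Vert.finite_toGlobal_of_isProper f
  let B := integralClosure A (FractionRing A)
  obtain ⟨g, hg⟩ := exists_lift Γ(X, ⊤) (ρ_injective f)
  haveI : _root_.IsNoetherian A Γ(X, ⊤) := isNoetherian_of_isNoetherianRing_of_finite A _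
  haveI : Module.Finite A B := Module.Finite.of_injective g.toLinearMap hg
  letI : Algebra B Γ(X, ⊤) := g.toRingHom.toAlgebra
  haveI : IsScalarTower A B Γ(X, ⊤) := .of_algebraMap_eq fun a => (g.commutes a).symm
  haveI : IsNoetherianRing B := IsNoetherianRing.of_finite A B
  haveI : Module.Finite B Γ(X, ⊤) := Module.Finite.of_restrictScalars_finite A B _
  haveI : IsIntegrallyClosed B := integralClosure.isIntegrallyClosedOfFiniteExtension (FractionRing A) (L := FractionRing A)
  refine H05EGA4.CompletionSub.isNormalRing_completion hg (H06EGA17.isNormalRing_of_isIntegrallyClosed B)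
    ((IsLocalRing.maximalIdeal A).map (algebraMap A B)) ?_
  rw [Ideal.map_map, ← IsScalarTower.algebraMap_eq]
  haveI := H28Cpl.isNoetherianRing_cpl A
  haveI : IsProper (Curv2.bcCplSnd A f) := MorphismProperty.pullback_snd _ _ inferInstance
  haveI : IsLocallyNoetherian (Curv2.bcCpl A f) := LocallyOfFiniteType.isLocallyNoetherian (Curv2.bcCplSnd A f)
  haveI : CompactSpace (Curv2.bcCpl A f) := QuasiCompact.compactSpace_of_compactSpace (Curv2.bcCplSnd A f)
  haveI : IsNoetherian (Curv2.bcCpl A f) := ⟨⟩
  have hN := NormalSections.isNormalRing_top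
    (normal_stalks_of_regular ((H28Cpl.regular_iff_completion_of_proper A f).mp hreg))
  obtain ⟨e₁⟩ := exists_equiv_bcCpl f rfl
  obtain ⟨e₂⟩ := H05EGA4.CompletionSub.tensor_completion_equiv_aux (B := A) (C := Γ(X, ⊤)) (IsLocalRing.maximalIdeal A)
  refine H05EGA4.isNormalRing_of_ringEquiv e₂ ?_
  rw [Algebra.algebraMap_self, Ideal.map_id]
  exact H05EGA4.isNormalRing_of_ringEquiv e₁.symm hN

end Groth.Agent.H05EGA4.Alteration
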