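import Mathlib
import Groth.Prelude.Def_Curv2
import Groth.Agent.H05EGA4.Regular

/-!
A regular alteration gives a nonempty regular open of the base (helper5).
-/

set_option autoImplicit false
set_option linter.style.haveILetI false
set_option maxHeartbeats 800000
universe u
open CategoryTheory AlgebraicGeometry Groth.Agent

namespace Groth.Agent.H05EGA4.AlterationRegular

theorem isRegularLocalRing_of_flat_finite {R S : Type u} [CommRing R] [IsNoetherianRing R] [CommRing S]
    [Algebra R S] [Module.Finite R S] [Module.Flat R S] (hinj : Function.Injective (algebraMap R S))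
    (hS : ∀ (q : Ideal S) [q.IsPrime], IsRegularLocalRing (Localization.AtPrime q)) (p : Ideal R) [hp : p.IsPrime] :
    IsRegularLocalRing (Localization.AtPrime p) := by
  obtain ⟨q, -, hq, hqp⟩ := Ideal.exists_ideal_over_prime_of_isIntegral p (⊥ : Ideal S)
    (by rw [← RingHom.ker_eq_comap_bot, (RingHom.injective_iff_ker_eq_bot _).mp hinj]; exact bot_le)
  haveI := hq
  haveI := hS q
  haveI : q.LiesOver p := ⟨hqp.symm⟩
  haveI : IsNoetherianRing (Localization.AtPrime p) := IsLocalization.isNoetherianRing p.primeCompl _ inferInstance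
  let φ := Localization.localRingHom p q (algebraMap R S) hqp.symm
  letI := φ.toAlgebra
  haveI : IsLocalHom (algebraMap (Localization.AtPrime p) (Localization.AtPrime q)) :=
    Localization.isLocalHom_localRingHom p q (algebraMap R S) hqp.symm
  haveI : IsScalarTower R (Localization.AtPrime p) (Localization.AtPrime q) := .of_algebraMap_eq fun r => by
    show _ = φ (algebraMap R _ r)
    rw [Localization.localRingHom_to_map]
    rfl
  haveI : Module.Flat R (Localization.AtPrime q) := Module.Flat.trans R S _
  haveI : Module.Flat (Localization.AtPrime p) (Localization.AtPrime q) :=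
    (Module.flat_iff_of_isLocalization (Localization.AtPrime p) p.primeCompl (Localization.AtPrime q)).mpr inferInstance
  exact H05EGA4.isRegularLocalRing_of_flat (A := Localization.AtPrime p) (B := Localization.AtPrime q)

theorem regular_congr {R : Type u} [CommRing R] {p q : Ideal R} [p.IsPrime] [q.IsPrime] (h : p = q)
    (hp : IsRegularLocalRing (Localization.AtPrime p)) : IsRegularLocalRing (Localization.AtPrime q) := by
  subst h; exact hp

theorem finite_app_congr {X Y : Scheme.{u}} (f : X ⟶ Y) {W W' : Y.Opens} (h : W' = W)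
    (hW : (f.app W').hom.Finite) : (f.app W).hom.Finite := by
  subst h; exact hW

theorem exists_free_away {R S : Type u} [CommRing R] [IsDomain R] [IsNoetherianRing R] [CommRing S]
    [Algebra R S] [Module.Finite R S] :
    ∃ r : R, r ≠ 0 ∧ Module.Flat (Localization.Away r) (LocalizedModule.Away r S) := by
  haveI : Module.FinitePresentation R S := Module.finitePresentation_of_finite R S
  let K := FractionRing R
  let M' := LocalizedModule (nonZeroDivisors R) S
  obtain ⟨r, hr, hfree, -⟩ := Module.FinitePresentation.exists_free_localizedModule_powers (nonZeroDivisors R)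
    (LocalizedModule.mkLinearMap (nonZeroDivisors R) S) K
  exact ⟨r, nonZeroDivisors.ne_zero hr, inferInstance⟩

theorem exists_regular_nhd {A : Type u} [CommRing A] [IsDomain A] [IsNoetherianRing A] {S : Type u} [CommRing S]
    [Algebra A S] [Module.Finite A S] (hinj : Function.Injective (algebraMap A S))
    (hS : ∀ (q : Ideal S) [q.IsPrime], IsRegularLocalRing (Localization.AtPrime q)) :
    ∃ r : A, r ≠ 0 ∧ ∀ (p : Ideal A) [p.IsPrime], r ∉ p → IsRegularLocalRing (Localization.AtPrime p) := by
  obtain ⟨r, hr, hflat⟩ := exists_free_away (R := A) (S := S)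
  refine ⟨r, hr, fun p hp hrp => ?_⟩
  let R' := Localization.Away r
  let M := Algebra.algebraMapSubmonoid S (Submonoid.powers r)
  let S' := Localization M
  haveI : IsNoetherianRing R' := IsLocalization.isNoetherianRing (Submonoid.powers r) _ inferInstance
  haveI : Module.Finite R' S' := Module.Finite.of_isLocalization A S (Submonoid.powers r)
  haveI : IsLocalizedModule (Submonoid.powers r) (IsScalarTower.toAlgHom A S S').toLinearMap :=
    isLocalizedModule_iff_isLocalization.mpr inferInstance
  haveI : Module.Flat R' S' :=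
    Module.Flat.of_linearEquiv (IsLocalizedModule.linearEquiv (Submonoid.powers r)
      (LocalizedModule.mkLinearMap (Submonoid.powers r) S)
      (IsScalarTower.toAlgHom A S S').toLinearMap |>.extendScalarsOfIsLocalization (Submonoid.powers r) R').symm
  have hinj' : Function.Injective (algebraMap R' S') := by
    rw [injective_iff_map_eq_zero]
    intro x hx
    obtain ⟨a, s, rfl⟩ := IsLocalization.exists_mk'_eq (Submonoid.powers r) x
    have h1 : algebraMap R' S' (algebraMap A R' a) = 0 := by
      rw [← IsLocalization.mk'_spec R' a s, map_mul, hx, zero_mul]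
    rw [← IsScalarTower.algebraMap_apply, IsScalarTower.algebraMap_apply A S S'] at h1
    obtain ⟨⟨_, t, ht, rfl⟩, hm⟩ := (IsLocalization.map_eq_zero_iff M S' _).mp h1
    rw [← map_mul, ← map_zero (algebraMap A S)] at hm
    exact (IsLocalization.mk'_eq_zero_iff _ _).mpr ⟨⟨t, ht⟩, hinj hm⟩
  have hS' : ∀ (q : Ideal S') [q.IsPrime], IsRegularLocalRing (Localization.AtPrime q) := fun q _ => by
    haveI : IsLocalization.AtPrime (Localization.AtPrime q) (q.under S) :=
      IsLocalization.isLocalization_isLocalization_atPrime_isLocalization M (Localization.AtPrime q) q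
    haveI := hS (q.under S)
    exact IsRegularLocalRing.of_ringEquiv (R := Localization.AtPrime (q.under S))
      (IsLocalization.algEquiv (q.under S).primeCompl _ _).toRingEquiv
  have hdisj : Disjoint (Submonoid.powers r : Set A) p := Set.disjoint_left.mpr fun x hx hx' => by
    obtain ⟨n, rfl⟩ := hx
    exact hrp (hp.mem_of_pow_mem n hx')
  haveI := IsLocalization.isPrime_of_isPrime_disjoint (Submonoid.powers r) R' p hp hdisj
  let P := p.map (algebraMap A R')
  have hP : P.under A = p := IsLocalization.under_map_of_isPrime_disjoint (Submonoid.powers r) _ hp hdisj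
  haveI := isRegularLocalRing_of_flat_finite hinj' hS' P
  haveI : IsLocalization.AtPrime (Localization.AtPrime P) (P.under A) :=
    IsLocalization.isLocalization_isLocalization_atPrime_isLocalization (Submonoid.powers r) (Localization.AtPrime P) P
  have h2 : IsRegularLocalRing (Localization.AtPrime (P.under A)) :=
    IsRegularLocalRing.of_ringEquiv (R := Localization.AtPrime P)
      (IsLocalization.algEquiv (P.under A).primeCompl _ _).toRingEquiv
  exact regular_congr hP h2

theorem exists_regular_open {A : Type u} [CommRing A] [IsDomain A] [IsNoetherianRing A] {X : Scheme.{u}}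
    (f : X ⟶ Spec (CommRingCat.of A)) (hf : Curv2.IsAlteration f)
    (hreg : ∀ x : X, IsRegularLocalRing (X.presheaf.stalk x)) :
    ∃ U : (Spec (CommRingCat.of A)).Opens, (U : Set (Spec (CommRingCat.of A))).Nonempty ∧
      ∀ y ∈ U, IsRegularLocalRing ((Spec (CommRingCat.of A)).presheaf.stalk y) := by
  obtain ⟨-, -, -, hdom, V, ⟨v, hv⟩, hfin⟩ := hf
  obtain ⟨_, ⟨a, rfl⟩, hva, haV⟩ := PrimeSpectrum.isTopologicalBasis_basic_opens.exists_subset_of_mem_open hv V.isOpen
  let Y := Spec (CommRingCat.of A)
  let a' := (Scheme.ΓSpecIso (CommRingCat.of A)).inv a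
  have hD : Y.basicOpen a' = PrimeSpectrum.basicOpen a := basicOpen_eq_of_affine _
  have hle : Y.basicOpen a' ≤ V := fun y hy => haV (hD ▸ hy : y ∈ PrimeSpectrum.basicOpen a)
  let W := Y.basicOpen a'
  have hW : IsAffineOpen W := (isAffineOpen_top Y).basicOpen a'
  have himg : V.ι ''ᵁ (V.ι ⁻¹ᵁ W) = W := by
    rw [Scheme.Hom.image_preimage_eq_opensRange_inf, Scheme.Opens.opensRange_ι, inf_eq_right.mpr hle]
  have hWV : IsAffineOpen (V.ι ⁻¹ᵁ W) := by
    rw [← Scheme.Hom.isAffineOpen_iff_of_isOpenImmersion V.ι, himg]; exact hW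
  let U := f ⁻¹ᵁ W
  have hU : IsAffineOpen U := by
    have h1 := (hWV.preimage (f ∣_ V)).image_of_isOpenImmersion (f ⁻¹ᵁ V).ι
    rwa [image_morphismRestrict_preimage, himg] at h1
  have hfinite : (f.app W).hom.Finite := by
    have h1 := IsFinite.finite_app (f := f ∣_ V) (U := V.ι ⁻¹ᵁ W) hWV
    rw [morphismRestrict_app] at h1
    exact finite_app_congr f himg ((RingHom.finite_respectsIso.cancel_right_isIso (R := Γ(Y, V.ι ''ᵁ V.ι ⁻¹ᵁ W))
      (f.app (V.ι ''ᵁ V.ι ⁻¹ᵁ W)) _).mp h1)
  let R := Γ(Y, W)
  let S := Γ(X, U)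
  letI : Algebra A R := ((Y.presheaf.map (homOfLE le_top).op).hom.comp (Scheme.ΓSpecIso (CommRingCat.of A)).inv.hom).toAlgebra
  haveI : IsLocalization.Away a' Γ(Y, W) := (isAffineOpen_top Y).isLocalization_basicOpen a'
  haveI : IsDomain R := by
    haveI : Nonempty W := ⟨⟨v, hD.ge hva⟩⟩
    exact @IsIntegral.component_integral Y _ W _
  haveI : IsNoetherianRing R := IsLocallyNoetherian.component_noetherian ⟨W, hW⟩
  letI : Algebra R S := (f.app W).hom.toAlgebra
  haveI : Module.Finite R S := hfinite
  have hinj : Function.Injective (algebraMap R S) := by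
    rw [injective_iff_map_eq_zero]
    intro c hc
    by_contra h
    obtain ⟨x, hx⟩ := (IsDominant.denseRange (f := f)).exists_mem_open (Y.basicOpen c).isOpen (by
      rw [Set.nonempty_iff_ne_empty]
      intro he
      exact h ((basicOpen_eq_bot_iff c).mp (TopologicalSpace.Opens.ext he)))
    have h2 : x ∈ f ⁻¹ᵁ Y.basicOpen c := hx
    rw [Scheme.preimage_basicOpen, show f.app W c = 0 from hc, Scheme.basicOpen_zero] at h2
    exact h2
  have hS : ∀ (q : Ideal S) [q.IsPrime], IsRegularLocalRing (Localization.AtPrime q) := fun q _ => by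
    let x := hU.fromSpec ⟨q, inferInstance⟩
    haveI := hreg x
    have hxU : x ∈ U := hU.range_fromSpec.le ⟨⟨q, inferInstance⟩, rfl⟩
    letI := X.presheaf.algebra_section_stalk ⟨x, hxU⟩
    have hx : (hU.primeIdealOf ⟨x, hxU⟩).asIdeal = q :=
      congrArg PrimeSpectrum.asIdeal (hU.fromSpec.isOpenEmbedding.injective (hU.fromSpec_primeIdealOf ⟨x, hxU⟩))
    haveI : IsLocalization.AtPrime (X.presheaf.stalk x) q := by
      have := hU.isLocalization_stalk ⟨x, hxU⟩
      simpa only [hx] using this
    exact IsRegularLocalRing.of_ringEquiv (R := X.presheaf.stalk x)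
      (IsLocalization.algEquiv q.primeCompl _ _).toRingEquiv
  obtain ⟨r, hr, hreg'⟩ := exists_regular_nhd hinj hS
  refine ⟨Y.basicOpen r, ?_, fun y hy => ?_⟩
  · rw [Set.nonempty_iff_ne_empty]
    intro he
    exact hr ((basicOpen_eq_bot_iff r).mp (TopologicalSpace.Opens.ext he))
  · have hyW : y ∈ W := Y.basicOpen_le r hy
    letI := Y.presheaf.algebra_section_stalk ⟨y, hyW⟩
    haveI := hW.isLocalization_stalk ⟨y, hyW⟩
    have hrp : r ∉ (hW.primeIdealOf ⟨y, hyW⟩).asIdeal := fun hmem => by
      rw [Scheme.mem_basicOpen _ _ _ hyW] at hy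
      exact (IsLocalization.AtPrime.to_map_mem_maximal_iff (Y.presheaf.stalk y) _ r).mpr hmem hy
    haveI := hreg' _ hrp
    exact IsRegularLocalRing.of_ringEquiv (R := Localization.AtPrime (hW.primeIdealOf ⟨y, hyW⟩).asIdeal)
      (IsLocalization.algEquiv (hW.primeIdealOf ⟨y, hyW⟩).asIdeal.primeCompl _ _).toRingEquiv

end Groth.Agent.H05EGA4.AlterationRegular
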