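import Groth.Agent.H05EGA4.Derivations

/-! Bounded derivations detect finite families of differentials. -/

set_option autoImplicit false
set_option linter.style.haveILetI false

universe u v

namespace Groth.Agent.H05EGA4.BddFull

variable {K : Type u} [Field K] (p : ℕ) [hp : Fact p.Prime] [CharP K p]

/-- The common kernel of a class of derivations killing one more element. -/
theorem mem_of_killed (Q : Derivation ℤ K K → Prop) (hsmul : ∀ {D} (c : K), Q D → Q (c • D))
    (hsub : ∀ {D E}, Q D → Q E → Q (D - E)) (hbr : ∀ {D E}, Q D → Q E → Q ⁅D, E⁆)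
    (hit : ∀ {D E}, Q D → (∀ x, E x = D^[p] x) → Q E) (M : Subfield K) (hM : ∀ D, Q D → ∀ x ∈ M, D x = 0)
    (hfull : ∀ x, (∀ D, Q D → D x = 0) → x ∈ M) (b : K) (hb : b ∉ M) (N : Subfield K) (hMN : M ≤ N) (hbN : b ∈ N)
    (c : K) (hc : ∀ D, Q D → D b = 0 → D c = 0) : c ∈ N := by
  classical
  obtain ⟨D1, hD1, hD1b⟩ : ∃ D, Q D ∧ D b ≠ 0 := by
    by_contra h
    push Not at h
    exact hb (hfull b h)
  let D0 := (D1 b)⁻¹ • D1
  have hD0 : Q D0 := hsmul _ hD1
  have hD0b : D0 b = 1 := by simp [D0, inv_mul_cancel₀ hD1b]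
  let P : K → Prop := fun x => ∀ D, Q D → D b = 0 → D x = 0
  have hP0 : ∀ {x}, P x → P (D0 x) := fun {x} hx D hD hDb => by
    have h1 := hx ⁅D, D0⁆ (hbr hD hD0)
      (by rw [Derivation.commutator_apply, hD0b, hDb, Derivation.map_one_eq_zero, map_zero, sub_zero])
    rwa [Derivation.commutator_apply, hx D hD hDb, map_zero, sub_zero] at h1
  have hPiter : ∀ {x} (i : ℕ), P x → P (D0^[i] x) := fun {x} i hx => by
    induction i with
    | zero => exact hx
    | succ i ih => rw [Function.iterate_succ_apply']; exact hP0 ih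
  have hker : ∀ {x}, P x → D0 x = 0 → x ∈ M := fun {x} hx h0 => hfull x fun D hD => by
    have h1 := hx (D - D b • D0) (hsub hD (hsmul _ hD0)) (by simp [hD0b])
    simpa [h0] using h1
  have hiter : ∀ (i j : ℕ), ∀ m ∈ M, D0^[i] (m * b ^ j) = m * ((j.descFactorial i : ℕ) : K) * b ^ (j - i) := by
    intro i
    induction i with
    | zero => intro j m _; simp
    | succ i ih =>
      intro j m hm
      rw [Function.iterate_succ_apply', ih j m hm, D0.leibniz, D0.leibniz, derivation_natCast, hM D0 hD0 m hm,
        D0.leibniz_pow, hD0b, Nat.descFactorial_succ, Nat.sub_sub]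
      simp only [smul_zero, add_zero, smul_eq_mul, nsmul_eq_mul, mul_one]
      push_cast
      ring
  have main : ∀ i ≤ p, ∀ x, P x → D0^[i] x = 0 → x ∈ N := by
    intro i
    induction i with
    | zero => intro _ x _ hx; rw [show x = 0 from hx]; exact zero_mem N
    | succ i ih =>
      intro hi x hx h
      have he₁ : D0^[i] x ∈ M := hker (hPiter i hx) (by rwa [← Function.iterate_succ_apply' D0])
      have hfac : ((i.factorial : ℕ) : K) ≠ 0 := by
        rw [Ne, CharP.cast_eq_zero_iff K p, hp.out.dvd_factorial]; omega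
      let m := D0^[i] x / (i.factorial : K)
      have hm : m ∈ M := div_mem he₁ (natCast_mem M _)
      have hy : P (x - m * b ^ i) := fun D hD hDb => by
        rw [map_sub, hx D hD hDb, D.leibniz, hM D hD m hm, D.leibniz_pow, hDb]
        simp
      have := ih (Nat.le_of_succ_le hi) _ hy (by
        rw [iterate_map_sub, hiter i i m hm, Nat.sub_self, pow_zero, mul_one, Nat.descFactorial_self,
          div_mul_cancel₀ _ hfac, sub_self])
      have h2 := add_mem this (mul_mem (hMN hm) (pow_mem hbN i))
      rwa [sub_add_cancel] at h2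
  obtain ⟨E, hE⟩ := exists_derivation_iterate p D0
  refine main p le_rfl c hc ?_
  rw [← hE]
  refine hc E (hit hD0 hE) ?_
  rw [hE, show b = (1 : K) * b ^ 1 by simp, hiter _ _ _ (one_mem M),
    Nat.descFactorial_eq_zero_iff_lt.mpr hp.out.one_lt]
  simp

/-- The `p`-th powers together with a finite set generate the common kernel of the bounded derivations killing it. -/
theorem mem_closure_of_killed {R : Type u} [CommRing R] [Algebra R K] [IsFractionRing R K] (hfull : IsFull R K p)
    (S : Finset K) (x : K) (hx : ∀ D, IsBdd R D → (∀ s ∈ S, D s = 0) → D x = 0) :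
    x ∈ Subfield.closure (Set.range (fun y : K => y ^ p) ∪ S) := by
  classical
  induction S using Finset.induction_on generalizing x with
  | empty =>
    obtain ⟨e, he⟩ := hfull x fun D hD => hx D hD (by simp)
    exact Subfield.subset_closure (Or.inl ⟨e, he⟩)
  | insert b S _ ih =>
    let M := Subfield.closure (Set.range (fun y : K => y ^ p) ∪ (S : Set K))
    have hM : ∀ D, (IsBdd R D ∧ ∀ s ∈ S, D s = 0) → ∀ y ∈ M, D y = 0 := by
      intro D hD y hy
      induction hy using Subfield.closure_induction with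
      | mem z hz =>
        rcases hz with ⟨w, rfl⟩ | hz
        · exact derivation_pow_char p D w
        · exact hD.2 z hz
      | one => exact D.map_one_eq_zero
      | add a c _ _ ha hc => rw [map_add, ha, hc, add_zero]
      | neg a _ ha => rw [map_neg, ha, neg_zero]
      | inv a _ ha => rw [D.leibniz_inv, ha, smul_zero]
      | mul a c _ _ ha hc => rw [D.leibniz, ha, hc, smul_zero, smul_zero, add_zero]
    have hle : M ≤ Subfield.closure (Set.range (fun y : K => y ^ p) ∪ ↑(insert b S)) :=
      Subfield.closure_mono (Set.union_subset_union_right _ (by simp))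
    by_cases hb : b ∈ M
    · refine hle (ih x fun D hD hS => hx D hD fun s hs => ?_)
      rcases Finset.mem_insert.1 hs with rfl | h
      · exact hM D ⟨hD, hS⟩ _ hb
      · exact hS s h
    refine mem_of_killed p (fun D => IsBdd R D ∧ ∀ s ∈ S, D s = 0)
      (fun c h => ⟨h.1.smul c, fun s hs => by simp [h.2 s hs]⟩)
      (fun h h' => ⟨h.1.sub h'.1, fun s hs => by simp [h.2 s hs, h'.2 s hs]⟩)
      (fun {D E} h h' => ⟨h.1.bracket h'.1, fun s hs => by
        rw [Derivation.commutator_apply, h.2 s hs, h'.2 s hs, map_zero, map_zero, sub_zero]⟩)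
      (fun {D E} h hE => ⟨h.1.of_iterate p hE, fun s hs => by
        rw [hE, show p = p - 1 + 1 from (Nat.sub_add_cancel hp.out.pos).symm, Function.iterate_succ_apply,
          h.2 s hs, iterate_map_zero]⟩)
      M hM (fun y hy => ih y fun D hD hS => hy D ⟨hD, hS⟩) b hb _ hle
      (Subfield.subset_closure (Or.inr (by simp))) x fun D hD hDb => hx D hD.1 fun s hs => ?_
    rcases Finset.mem_insert.1 hs with rfl | h
    · exact hDb
    · exact hD.2 s h

omit hp [CharP K p] in
/-- Elements of a generated subfield have differentials in the span of those of the generators. -/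
theorem exists_coeff {L : Type v} [Field L] [Algebra K L] [CharP L p] {ι : Type} (S : Finset ι) (c : ι → K) (x : K)
    (hx : x ∈ Subfield.closure (Set.range (fun y : K => y ^ p) ∪ c '' (S : Set ι))) :
    ∃ a : ι → K, ∀ Δ : Derivation ℤ K L, Δ x = ∑ i ∈ S, a i • Δ (c i) := by
  classical
  induction hx using Subfield.closure_induction with
  | mem z hz =>
    rcases hz with ⟨w, rfl⟩ | ⟨i, hi, rfl⟩
    · refine ⟨0, fun Δ => ?_⟩
      rw [Derivation.leibniz_pow, ← Nat.cast_smul_eq_nsmul L, CharP.cast_eq_zero, zero_smul]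
      simp
    · refine ⟨Pi.single i 1, fun Δ => ?_⟩
      rw [Finset.sum_eq_single i (fun j _ hj => by simp [hj]) (fun h => (h hi).elim), Pi.single_eq_same, one_smul]
  | one => exact ⟨0, fun Δ => by simp⟩
  | add a b _ _ ha hb =>
    obtain ⟨f, hf⟩ := ha
    obtain ⟨g, hg⟩ := hb
    exact ⟨f + g, fun Δ => by simp [map_add, hf, hg, add_smul, Finset.sum_add_distrib]⟩
  | neg a _ ha =>
    obtain ⟨f, hf⟩ := ha
    exact ⟨-f, fun Δ => by simp [hf]⟩
  | inv a _ ha =>
    obtain ⟨f, hf⟩ := ha
    exact ⟨fun i => -a⁻¹ ^ 2 * f i, fun Δ => by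
      rw [Derivation.leibniz_inv, hf, Finset.smul_sum]
      simp only [smul_smul]⟩
  | mul a b _ _ ha hb =>
    obtain ⟨f, hf⟩ := ha
    obtain ⟨g, hg⟩ := hb
    exact ⟨fun i => a * g i + b * f i, fun Δ => by
      rw [Derivation.leibniz, hf, hg, Finset.smul_sum, Finset.smul_sum, ← Finset.sum_add_distrib]
      simp only [smul_smul, add_smul]⟩

/-- A relation holding for all bounded derivations holds for all derivations. -/
theorem eq_zero_of_bdd {R : Type u} [CommRing R] [Algebra R K] [IsFractionRing R K] (hfull : IsFull R K p)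
    {L : Type v} [Field L] [Algebra K L] [CharP L p] {ι : Type} (S : Finset ι) (μ : ι → L) (c : ι → K)
    (h : ∀ D : Derivation ℤ K K, IsBdd R D → ∑ i ∈ S, μ i * algebraMap K L (D (c i)) = 0)
    (Δ : Derivation ℤ K L) : ∑ i ∈ S, μ i * Δ (c i) = 0 := by
  classical
  induction S using Finset.strongInduction generalizing μ with
  | H S ih =>
  by_cases hex : ∃ i ∈ S, c i ∈ Subfield.closure (Set.range (fun y : K => y ^ p) ∪ c '' (S.erase i : Set ι))
  · obtain ⟨i, hi, hmem⟩ := hex
    obtain ⟨a, ha⟩ := exists_coeff (L := L) p (S.erase i) c (c i) hmem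
    have key : ∀ Δ' : Derivation ℤ K L, ∑ j ∈ S, μ j * Δ' (c j) =
        ∑ j ∈ S.erase i, (μ j + μ i * algebraMap K L (a j)) * Δ' (c j) := fun Δ' => by
      rw [← Finset.add_sum_erase _ _ hi, ha Δ', Finset.mul_sum, ← Finset.sum_add_distrib]
      refine Finset.sum_congr rfl fun j _ => ?_
      rw [Algebra.smul_def]
      ring
    rw [key]
    refine ih (S.erase i) (Finset.erase_ssubset hi) _ fun D hD => ?_
    exact (key ((Algebra.linearMap K L).compDer D)).symm.trans (h D hD)
  · push Not at hex
    refine Finset.sum_eq_zero fun i hi => ?_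
    obtain ⟨D, hD, hDS, hDi⟩ : ∃ D, IsBdd R D ∧ (∀ s ∈ (S.erase i).image c, D s = 0) ∧ D (c i) ≠ 0 := by
      by_contra hne
      push Not at hne
      refine hex i hi ?_
      have h1 := mem_closure_of_killed p hfull ((S.erase i).image c) (c i) fun D hD hS => hne D hD hS
      rwa [Finset.coe_image] at h1
    have h1 := h D hD
    rw [← Finset.add_sum_erase _ _ hi, Finset.sum_eq_zero (s := S.erase i) fun j hj => by
      rw [hDS _ (Finset.mem_image_of_mem c hj), map_zero, mul_zero], add_zero] at h1
    rw [(mul_eq_zero.1 h1).resolve_right ((map_ne_zero _).2 hDi), zero_mul]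

end Groth.Agent.H05EGA4.BddFull
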