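import Mathlib
import Groth.Agent.S9685

/-! # Fibres of birational morphisms to two-dimensional affine schemes. -/

set_option autoImplicit false
set_option linter.style.haveILetI false

universe u

open CategoryTheory AlgebraicGeometry TopologicalSpace

namespace Groth.Agent.H05EGA4.BirationalSurface

theorem fiber_dim_le_one {A : Type u} [CommRing A] [IsDomain A] [IsNoetherianRing A] (hdim : ringKrullDim A ≤ 2)
    {X : Scheme.{u}} [IsIntegral X] (f : X ⟶ Spec (CommRingCat.of A)) [IsProper f]
    (hbir : ∃ U : (Spec (CommRingCat.of A)).Opens, (U : Set (Spec (CommRingCat.of A))).Nonempty ∧ IsIso (f ∣_ U))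
    (y : Spec (CommRingCat.of A)) : topologicalKrullDim ↥(f.fiber y) ≤ (1 : ℕ) := by
  obtain ⟨U, hUne, hU⟩ := hbir
  haveI := hU
  have hηU : genericPoint (Spec (CommRingCat.of A)) ∈ U :=
    ((genericPoint_spec _).mem_open_set_iff U.2).2 (by simpa using hUne)
  obtain ⟨w, hw⟩ := (f ∣_ U).homeomorph.surjective ⟨_, hηU⟩
  have hw' : f w.1 = genericPoint (Spec (CommRingCat.of A)) :=
    (congr($(morphismRestrict_ι f U) w)).symm.trans (congrArg U.ι hw)
  have hpre : genericPoint X ∈ f ⁻¹ᵁ U :=
    ((genericPoint_spec X).mem_open_set_iff (f ⁻¹ᵁ U).2).2 ⟨w.1, trivial, w.2⟩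
  have hgen : f (genericPoint X) = genericPoint (Spec (CommRingCat.of A)) := by
    refine (((genericPoint_spec (Spec (CommRingCat.of A))).specializes trivial).antisymm ?_).eq.symm
    rw [← hw']
    exact ((genericPoint_spec X).specializes trivial).map f.continuous
  haveI : IsDominant f := ⟨fun p => closure_mono
    (s := ({genericPoint (Spec (CommRingCat.of A))} : Set (Spec (CommRingCat.of A)))) (t := Set.range f.base)
    (fun v hv => ⟨genericPoint X, hgen.trans hv.symm⟩)
    (specializes_iff_mem_closure.1 ((genericPoint_spec (Spec (CommRingCat.of A))).specializes trivial))⟩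
  have htr : letI := (f.residueFieldMap (genericPoint ↥X)).hom.toAlgebra
      Algebra.trdeg ((Spec (CommRingCat.of A)).residueField (f.base (genericPoint ↥X)))
        (X.residueField (genericPoint ↥X)) = ((0 : ℕ) : Cardinal.{u}) := by
    haveI : IsIso (f.stalkMap (genericPoint X)) :=
      ((MorphismProperty.isomorphisms CommRingCat).arrow_mk_iso_iff
        (morphismRestrictStalkMap f U ⟨genericPoint X, hpre⟩)).1 (inferInstanceAs (IsIso _))
    letI := (f.residueFieldMap (genericPoint ↥X)).hom.toAlgebra
    have hs : Function.Surjective (f.residueFieldMap (genericPoint ↥X)).hom := fun a => by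
      obtain ⟨b, rfl⟩ := Ideal.Quotient.mk_surjective a
      obtain ⟨c, rfl⟩ := (ConcreteCategory.bijective_of_isIso (f.stalkMap (genericPoint X))).2 b
      exact ⟨Ideal.Quotient.mk _ c, rfl⟩
    haveI : Algebra.IsAlgebraic ((Spec (CommRingCat.of A)).residueField (f.base (genericPoint ↥X)))
        (X.residueField (genericPoint ↥X)) := ⟨fun a => by
      obtain ⟨b, rfl⟩ := hs a
      exact isAlgebraic_algebraMap b⟩
    rw [Nat.cast_zero]
    exact trdeg_eq_zero
  have hX : topologicalKrullDim X ≤ 2 := by
    refine ((Groth.Agent.S9685.result f 0 htr).1).trans ?_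
    rw [Nat.cast_zero, add_zero]
    exact (PrimeSpectrum.topologicalKrullDim_eq_ringKrullDim A).trans_le hdim
  letI := specializationOrder X
  have hd : Order.krullDim X ≤ 2 := by
    rw [← Order.krullDim_eq_of_orderIso (irreducibleSetEquivPoints (α := X))]; exact hX
  letI := specializationOrder (f.fiber y)
  rw [show topologicalKrullDim ↥(f.fiber y) = Order.krullDim (f.fiber y) from
    Order.krullDim_eq_of_orderIso (irreducibleSetEquivPoints (α := f.fiber y))]
  have hmap : StrictMono (f.fiberι y).base := fun a b hab => by
    refine lt_of_le_of_ne (Specializes.map (le_of_lt hab) (f.fiberι y).continuous) fun h => ?_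
    exact ne_of_lt hab ((f.fiberι y).isEmbedding.injective h)
  by_cases hy : y = genericPoint (Spec (CommRingCat.of A))
  · -- the generic fibre is a single point
    haveI : Subsingleton (f.fiber y) := ⟨fun a b => by
      have key : ∀ c : f.fiber y, (f.fiberι y).base c = w.1 := fun c => by
        have hc : f ((f.fiberι y).base c) = y :=
          Set.mem_preimage.1 (f.range_fiberι y ▸ ⟨c, rfl⟩ : (f.fiberι y).base c ∈ f ⁻¹' {y})
        have hcU : (f.fiberι y).base c ∈ f ⁻¹ᵁ U := by
          show f ((f.fiberι y).base c) ∈ U
          rw [hc, hy]; exact hηU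
        have h1 : (f ∣_ U) ⟨_, hcU⟩ = (f ∣_ U) w := by
          refine U.ι.isOpenEmbedding.injective ?_
          exact (congr($(morphismRestrict_ι f U) (⟨_, hcU⟩ : (f ⁻¹ᵁ U).toScheme))).trans
            ((hc.trans (hy.trans hw'.symm)).trans (congr($(morphismRestrict_ι f U) w)).symm)
        exact congrArg (f ⁻¹ᵁ U).ι.base ((f ∣_ U).homeomorph.injective h1)
      exact (f.fiberι y).isEmbedding.injective ((key a).trans (key b).symm)⟩
    exact Order.krullDim_nonpos_of_subsingleton.trans (by simp)
  · refine iSup_le fun p => ?_
    let q : LTSeries X := p.map _ hmap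
    have hlt : q.last < genericPoint X := by
      refine lt_of_le_of_ne ((genericPoint_spec X).specializes trivial) fun h => hy ?_
      have hc : f ((f.fiberι y).base p.last) = y :=
        Set.mem_preimage.1 (f.range_fiberι y ▸ ⟨p.last, rfl⟩ : (f.fiberι y).base p.last ∈ f ⁻¹' {y})
      rw [← hc, show (f.fiberι y).base p.last = genericPoint X from (p.last_map _ hmap).symm.trans h]
      exact hgen
    have h2 := (Order.LTSeries.length_le_krullDim (q.snoc _ hlt)).trans hd
    rw [RelSeries.snoc_length, show q.length = p.length from rfl] at h2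
    have h3 : p.length + 1 ≤ 2 := by exact_mod_cast h2
    have h4 : p.length ≤ 1 := by omega
    exact_mod_cast h4

end Groth.Agent.H05EGA4.BirationalSurface
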