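import Groth.Agent.H05EGA4.RelSymSmooth
import Groth.Agent.H05EGA4.CohenSmooth
import Mathlib.FieldTheory.Perfect

/-! Reduction from absolute differentials to those over the prime field. -/

set_option autoImplicit false
set_option linter.style.haveILetI false
set_option maxHeartbeats 1000000

open TensorProduct KaehlerDifferential IsLocalRing

universe u v

namespace Groth.Agent.H05EGA4.PrimeTransfer

variable (k : Type u) [Field k]

theorem subsingleton_kaehler_bot : Subsingleton Ω[(⊥ : Subfield k)⁄ℤ] := by
  let d := D ℤ (⊥ : Subfield k)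
  let S : Subfield (⊥ : Subfield k) :=
    { carrier := {x | d x = 0}
      mul_mem' := fun {x y} hx hy =>
        show d (x * y) = 0 by rw [d.leibniz, hx, hy, smul_zero, smul_zero, add_zero]
      one_mem' := d.map_one_eq_zero
      add_mem' := fun {x y} hx hy => show d (x + y) = 0 by rw [map_add, hx, hy, add_zero]
      zero_mem' := map_zero d
      neg_mem' := fun {x} hx => show d (-x) = 0 by rw [map_neg, hx, neg_zero]
      inv_mem' := fun x hx => show d x⁻¹ = 0 by rw [d.leibniz_inv, hx, smul_zero] }
  refine subsingleton_of_forall_eq 0 fun ω => ?_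
  have h : ω ∈ Submodule.span (⊥ : Subfield k) (Set.range d) := by rw [span_range_derivation]; trivial
  induction h using Submodule.span_induction with
  | mem x hx =>
    obtain ⟨y, rfl⟩ := hx
    obtain ⟨z, hz, hzy⟩ := (bot_le : (⊥ : Subfield k) ≤ S.map (⊥ : Subfield k).subtype) y.2
    rw [← Subtype.ext (a1 := z) (a2 := y) hzy]
    exact hz
  | zero => rfl
  | add x y _ _ hx hy => rw [hx, hy, add_zero]
  | smul a x _ hx => rw [hx, smul_zero]

theorem perfectField_bot : PerfectField (⊥ : Subfield k) := by
  obtain ⟨p, hp⟩ := CharP.exists k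
  rcases CharP.char_is_prime_or_zero k p with hpp | rfl
  · haveI : Fact p.Prime := ⟨hpp⟩
    haveI : ExpChar (⊥ : Subfield k) p := ExpChar.prime hpp
    haveI : PerfectRing (⊥ : Subfield k) p := PerfectRing.ofSurjective _ p fun y =>
      ⟨y, Subtype.ext ((bot_le : (⊥ : Subfield k) ≤ (frobenius k p).eqLocusField (RingHom.id k)) y.2)⟩
    exact PerfectRing.toPerfectField _ p
  · haveI : CharZero k := CharP.charP_to_charZero k
    exact PerfectField.ofCharZero

theorem injective_lTensor_iff {P k' A : Type u} [CommRing P] [CommRing k'] [CommRing A] [Algebra P k']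
    [Algebra k' A] [Algebra P A] [IsScalarTower P k' A] [Subsingleton Ω[P⁄ℤ]]
    (M : Type u) [AddCommGroup M] [Module A M] :
    Function.Injective ((mapBaseChange ℤ k' A).lTensor M) ↔
      Function.Injective ((mapBaseChange P k' A).lTensor M) := by
  have hbij : ∀ (S : Type u) [CommRing S] [Algebra P S],
      Function.Bijective (KaehlerDifferential.map ℤ P S S) := fun S _ _ => by
    refine ⟨?_, map_surjective ℤ P S⟩
    rw [injective_iff_map_eq_zero]
    intro x hx
    obtain ⟨y, rfl⟩ := (exact_mapBaseChange_map ℤ P S x).1 hx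
    induction y using TensorProduct.induction_on with
    | zero => simp
    | add a b ha hb =>
      rw [map_add] at hx ⊢
      rw [ha ((exact_mapBaseChange_map ℤ P S).apply_apply_eq_zero a), hb ((exact_mapBaseChange_map ℤ P S).apply_apply_eq_zero b)]
      rw [add_zero]
    | tmul s w => rw [Subsingleton.elim w 0, tmul_zero, map_zero]
  let eA : Ω[A⁄ℤ] ≃ₗ[A] Ω[A⁄P] := LinearEquiv.ofBijective _ (hbij A)
  let ek : A ⊗[k'] Ω[k'⁄ℤ] ≃ₗ[A] A ⊗[k'] Ω[k'⁄P] :=
    (LinearEquiv.ofBijective _ (hbij k')).baseChange k' A
  have hsq : mapBaseChange P k' A ∘ₗ ek.toLinearMap = eA.toLinearMap ∘ₗ mapBaseChange ℤ k' A := by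
    refine TensorProduct.AlgebraTensorModule.ext fun a w => ?_
    have hw : w ∈ Submodule.span k' (Set.range (D ℤ k')) := by rw [span_range_derivation]; trivial
    induction hw using Submodule.span_induction generalizing a with
    | mem x hx =>
      obtain ⟨y, rfl⟩ := hx
      simp only [LinearMap.comp_apply, LinearEquiv.coe_coe, mapBaseChange_tmul, map_D, map_smul, eA, ek,
        LinearEquiv.baseChange_tmul, LinearEquiv.ofBijective_apply]
      rfl
    | zero => simp
    | add x y _ _ hx hy => rw [tmul_add, map_add, map_add, hx, hy]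
    | smul c x _ hx => rw [← smul_tmul]; exact hx _
  have h : (mapBaseChange P k' A).lTensor M ∘ₗ (ek.lTensor M).toLinearMap =
      (eA.lTensor M).toLinearMap ∘ₗ (mapBaseChange ℤ k' A).lTensor M := by
    rw [LinearEquiv.coe_lTensor, LinearEquiv.coe_lTensor, ← LinearMap.lTensor_comp, ← LinearMap.lTensor_comp, hsq]
  have hfun := congrArg DFunLike.coe h
  simp only [LinearMap.coe_comp, LinearEquiv.coe_coe] at hfun
  rw [← EquivLike.injective_comp (ek.lTensor M), hfun, EquivLike.comp_injective]

theorem iff_of_local {k A : Type u} [Field k] [CommRing A] [IsLocalRing A] [Algebra k A] :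
    CAlgX.IsAdicFormallySmooth k A (maximalIdeal A) ↔
      (PP16.SymGrBijective A (maximalIdeal A) ∧
        Function.Injective ((mapBaseChange ℤ k A).lTensor (A ⧸ maximalIdeal A))) := by
  haveI := perfectField_bot k
  haveI := subsingleton_kaehler_bot k
  haveI : Algebra.FormallySmooth (⊥ : Subfield k) k := formallySmooth_of_perfectField (⊥ : Subfield k) k
  haveI : Algebra.FormallySmooth (⊥ : Subfield k) (A ⧸ maximalIdeal A) :=
    (formallySmooth_of_perfectField (⊥ : Subfield k) (ResidueField A) :)
  letI : Field (A ⧸ maximalIdeal A) := Ideal.Quotient.field _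
  rw [injective_lTensor_iff (P := (⊥ : Subfield k)) (A ⧸ maximalIdeal A)]
  constructor
  · intro hB
    exact ⟨SymSmooth.symGr_of_fs (RelSymSmooth.isAdicFormallySmooth_comp (Λ := (⊥ : Subfield k)) hB),
      RelSymSmooth.injective_of_extBase (RelSymSmooth.extBase_of_isAdicFormallySmooth hB)⟩
  · rintro ⟨hs, hi⟩
    haveI : Module.Projective (A ⧸ maximalIdeal A) (maximalIdeal A).Cotangent :=
      Module.Projective.of_free
    haveI : Module.Projective (A ⧸ maximalIdeal A) ((A ⧸ maximalIdeal A) ⊗[A] Ω[A⁄k]) :=
      Module.Projective.of_free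
    have hBΛ := SymSmooth.isAdicFormallySmooth_of_symGr (A := (⊥ : Subfield k)) hs
    exact RelSymSmooth.isAdicFormallySmooth_of_extBase hBΛ
      (RelSymSmooth.extBase_pow hBΛ (RelSymSmooth.extBase_of_split _ hi))

end Groth.Agent.H05EGA4.PrimeTransfer
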