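import Groth.Agent.H05EGA4.BddFull
import Groth.Agent.H05EGA4.FieldSmooth
import Groth.Agent.H05EGA4.AdicLift
import Groth.Agent.H02CA.PowerSeries
import Groth.Agent.H23Wild.MonicSystem
import Groth.Agent.H24Adic.Rig
import Groth.Agent.S2460
import Groth.Agent.H05EGA4.PrimeTransfer

/-! Derivations of a complete regular local ring seen modulo a prime. -/

set_option autoImplicit false
set_option linter.style.haveILetI false
set_option maxHeartbeats 1600000

open IsLocalRing

universe u

namespace Groth.Agent.H05EGA4.NagataDer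

/-- A derivation into a quotient of a complete, formally smooth local algebra lifts. -/
theorem exists_derivation_lift {k A : Type u} [Field k] [CommRing A] [IsLocalRing A] [IsNoetherianRing A]
    [IsAdicComplete (maximalIdeal A) A] [Algebra k A] (h : CAlgX.IsAdicFormallySmooth k A (maximalIdeal A))
    (J : Ideal A) (δ : Derivation k A (A ⧸ J)) :
    ∃ D : Derivation k A A, ∀ a, Ideal.Quotient.mk J (D a) = δ a := by
  let q : TrivSqZeroExt A A →ₐ[A] TrivSqZeroExt A (A ⧸ J) :=
    TrivSqZeroExt.map (IsScalarTower.toAlgHom A A (A ⧸ J)).toLinearMap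
  let qk : TrivSqZeroExt A A →ₐ[k] TrivSqZeroExt A (A ⧸ J) := q.restrictScalars k
  have hqfst : ∀ z, (qk z).fst = z.fst := fun z => TrivSqZeroExt.fst_map _ z
  have hqsnd : ∀ z, (qk z).snd = Ideal.Quotient.mk J z.snd := fun z => TrivSqZeroExt.snd_map _ z
  have hq : Function.Surjective qk := fun z => by
    obtain ⟨b, hb⟩ := Ideal.Quotient.mk_surjective z.snd
    exact ⟨TrivSqZeroExt.inl z.fst + TrivSqZeroExt.inr b,
      TrivSqZeroExt.ext (by rw [hqfst]; simp) (by rw [hqsnd]; simpa using hb)⟩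
  let T := TrivSqZeroExt A A
  let π : T →+* A := (TrivSqZeroExt.fstHom A A A).toRingHom
  let P : Ideal T := (maximalIdeal A).comap π
  haveI : Module.Finite A T := (inferInstance : Module.Finite A (A × A))
  have hmP : (maximalIdeal A).map (algebraMap A T) ≤ P :=
    Ideal.map_le_iff_le_comap.mpr fun c hc => by
      show TrivSqZeroExt.fst (algebraMap A T c) ∈ maximalIdeal A
      rw [show algebraMap A T c = TrivSqZeroExt.inl c from rfl, TrivSqZeroExt.fst_inl]
      exact hc
  haveI : IsAdicComplete ((maximalIdeal A).map (algebraMap A T)) T :=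
    (IsAdicComplete.map_algebraMap_iff (maximalIdeal A) T (S := T)).mpr (H24Adic.isAdicComplete_of_finite _)
  have hinr : ∀ c ∈ maximalIdeal A, ∀ m : A, (TrivSqZeroExt.inr (c * m) : T) ∈ (maximalIdeal A).map (algebraMap A T) :=
    fun c hc m => by
      rw [← smul_eq_mul, ← TrivSqZeroExt.inl_mul_inr]
      exact Ideal.mul_mem_right _ _ (Ideal.mem_map_of_mem _ hc)
  have hP2 : P ^ 2 ≤ (maximalIdeal A).map (algebraMap A T) := by
    rw [pow_two, Ideal.mul_le]
    intro x hx y hy
    have hx' : TrivSqZeroExt.fst x ∈ maximalIdeal A := hx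
    have hy' : TrivSqZeroExt.fst y ∈ maximalIdeal A := hy
    rw [← TrivSqZeroExt.inl_fst_add_inr_snd_eq (x * y), TrivSqZeroExt.fst_mul, TrivSqZeroExt.snd_mul,
      TrivSqZeroExt.inr_add]
    refine add_mem ?_ (add_mem ?_ ?_)
    · exact Ideal.mem_map_of_mem (algebraMap A T) (Ideal.mul_mem_right _ _ hx')
    · exact hinr _ hx' _
    · rw [op_smul_eq_smul, smul_eq_mul]; exact hinr _ hy' _
  haveI : IsAdicComplete P T :=
    H24Adic.isAdicComplete_of_pow_le (I := (maximalIdeal A).map (algebraMap A T)) (a := 2) (b := 1) hP2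
      (by rwa [pow_one]) T
  let J' : Ideal T := RingHom.ker qk
  have hJ' : J' ≤ P := fun z hz => by
    show z.fst ∈ maximalIdeal A
    rw [← hqfst, show qk z = 0 from hz, TrivSqZeroExt.fst_zero]
    exact zero_mem _
  let e := Ideal.quotientKerAlgEquivOfSurjective hq
  let u₀ : A →ₐ[k] TrivSqZeroExt A (A ⧸ J) :=
    { toFun := fun a => TrivSqZeroExt.inl a + TrivSqZeroExt.inr (δ a)
      map_one' := by simp
      map_mul' := fun a b => TrivSqZeroExt.ext (by simp) (by
        simp only [TrivSqZeroExt.snd_add, TrivSqZeroExt.snd_inl, TrivSqZeroExt.snd_inr, zero_add,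
          TrivSqZeroExt.snd_mul, TrivSqZeroExt.fst_add, TrivSqZeroExt.fst_inl, TrivSqZeroExt.fst_inr, add_zero,
          op_smul_eq_smul, δ.leibniz])
      map_zero' := by simp
      map_add' := fun a b => by simp only [map_add, TrivSqZeroExt.inl_add, TrivSqZeroExt.inr_add]; abel
      commutes' := fun c => by
        rw [Derivation.map_algebraMap, TrivSqZeroExt.inr_zero, add_zero]
        rfl }
  obtain ⟨v, hv⟩ := exists_lift_adicFormallySmooth h P J' hJ' (e.symm.toAlgHom.comp u₀) fun x hx c hc => by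
    have h1 : u₀ x = qk c := (e.apply_symm_apply (u₀ x)).symm.trans (congrArg e hc)
    show c.fst ∈ maximalIdeal A
    rw [← hqfst, ← h1, show (u₀ x).fst = x from by simp [u₀]]
    exact hx
  have hlim : ∀ a, (v a).fst = a ∧ Ideal.Quotient.mk J (v a).snd = δ a := by
    intro a
    obtain ⟨c, hc⟩ := Ideal.Quotient.mk_surjective ((e.symm.toAlgHom.comp u₀) a)
    have h1 : qk c = u₀ a := (congrArg e hc).trans (e.apply_symm_apply _)
    have hcf : c.fst = a := by rw [← hqfst, h1]; simp [u₀]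
    have hcs : Ideal.Quotient.mk J c.snd = δ a := by rw [← hqsnd, h1]; simp [u₀]
    have hmem : ∀ t, (v a - c).fst ∈ maximalIdeal A ^ t ∧ (v a - c).snd ∈ J ⊔ maximalIdeal A ^ t := by
      intro t
      obtain ⟨x, hx, y, hy, hxy⟩ := Submodule.mem_sup.1 (hv a c hc.symm (2 * t))
      have hy' : y ∈ (maximalIdeal A ^ t).map (algebraMap A T) := by
        rw [Ideal.map_pow]
        rw [pow_mul] at hy
        exact Ideal.pow_right_mono hP2 t hy
      have hy2 : y.fst ∈ maximalIdeal A ^ t ∧ y.snd ∈ maximalIdeal A ^ t := by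
        clear hxy hy
        refine Submodule.span_induction (fun z hz => ?_) ⟨zero_mem _, zero_mem _⟩
          (fun z w _ _ hz hw => ?_) (fun r z _ hz => ?_) hy'
        · obtain ⟨b, hb, rfl⟩ := hz
          rw [show algebraMap A T b = TrivSqZeroExt.inl b from rfl, TrivSqZeroExt.fst_inl, TrivSqZeroExt.snd_inl]
          exact ⟨hb, zero_mem _⟩
        · rw [TrivSqZeroExt.fst_add, TrivSqZeroExt.snd_add]; exact ⟨add_mem hz.1 hw.1, add_mem hz.2 hw.2⟩
        · rw [smul_eq_mul, TrivSqZeroExt.fst_mul, TrivSqZeroExt.snd_mul, op_smul_eq_smul, smul_eq_mul, smul_eq_mul]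
          exact ⟨Ideal.mul_mem_left _ _ hz.1, add_mem (Ideal.mul_mem_left _ _ hz.2) (Ideal.mul_mem_right _ _ hz.1)⟩
      have hx' : qk x = 0 := hx
      rw [← hxy, TrivSqZeroExt.fst_add, TrivSqZeroExt.snd_add, ← hqfst x, hx', TrivSqZeroExt.fst_zero, zero_add]
      refine ⟨hy2.1, add_mem (Ideal.mem_sup_left ?_) (Ideal.mem_sup_right hy2.2)⟩
      rw [← Ideal.Quotient.eq_zero_iff_mem, ← hqsnd, hx', TrivSqZeroExt.snd_zero]
    refine ⟨?_, ?_⟩
    · refine Eq.trans ?_ hcf
      refine sub_eq_zero.1 (IsHausdorff.haus (I := maximalIdeal A) inferInstance _ fun t => ?_)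
      rw [SModEq.sub_mem, sub_zero, smul_eq_mul, Ideal.mul_top, ← TrivSqZeroExt.fst_sub]
      exact (hmem t).1
    · rw [← hcs, Ideal.Quotient.eq, ← TrivSqZeroExt.snd_sub]
      exact mem_of_forall_mem_sup_pow fun t => (hmem t).2
  refine ⟨Derivation.mk' ((TrivSqZeroExt.sndHom A A).restrictScalars k ∘ₗ v.toLinearMap) fun a b => ?_,
    fun a => (hlim a).2⟩
  show (v (a * b)).snd = a • (v b).snd + b • (v a).snd
  rw [map_mul, TrivSqZeroExt.snd_mul, op_smul_eq_smul, (hlim a).1, (hlim b).1]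

/-- If no relation holds for all derivations modulo `P`, some family has determinant outside `P`. -/
theorem exists_det_notMem {k : Type*} {A : Type u} [CommRing k] [CommRing A] [Algebra k A] (P : Ideal A) [P.IsPrime]
    {N : ℕ} (g : Fin N → A)
    (h : ∀ lam : Fin N → P.ResidueField,
      (∀ D : Derivation k A A, ∑ j, lam j * algebraMap A P.ResidueField (D (g j)) = 0) → lam = 0) :
    ∃ D : Fin N → Derivation k A A, Matrix.det (Matrix.of fun i j => D i (g j)) ∉ P := by
  classical
  let L := P.ResidueField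
  let e : Derivation k A A → (Fin N → L) := fun D j => algebraMap A L (D (g j))
  have hspan : Submodule.span L (Set.range e) = ⊤ := by
    by_contra hne
    obtain ⟨f, hf, hle⟩ := Submodule.exists_le_ker_of_lt_top _ (lt_top_iff_ne_top.2 hne)
    let lam : Fin N → L := fun j => f (Pi.single j 1)
    have hlam : ∀ v, f v = ∑ j, lam j * v j := fun v => by
      conv_lhs => rw [pi_eq_sum_univ' v]
      rw [map_sum]
      exact Finset.sum_congr rfl fun j _ => by rw [map_smul, smul_eq_mul, mul_comm]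
    refine hf (LinearMap.ext fun v => ?_)
    have h0 := h lam fun D => (hlam _).symm.trans (LinearMap.mem_ker.1 (hle (Submodule.subset_span ⟨D, rfl⟩)))
    rw [hlam, h0]
    simp
  obtain ⟨b, hb, hbs, hind⟩ := exists_linearIndependent L (Set.range e)
  rw [hspan] at hbs
  haveI : Finite b := hind.finite
  haveI := Fintype.ofFinite b
  let B := Module.Basis.mk hind (by rw [Subtype.range_coe, hbs])
  let σ : Fin N ≃ b := Fintype.equivOfCardEq (by
    rw [← Module.finrank_eq_card_basis B, Module.finrank_fin_fun, Fintype.card_fin])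
  choose D hD using fun i => hb (σ i).2
  refine ⟨D, fun hmem => ?_⟩
  have h1 : LinearIndependent L (fun i => ((σ i : b) : Fin N → L)) := hind.comp _ σ.injective
  have h2 : IsUnit (Matrix.of fun i j => ((σ i : b) : Fin N → L) j) :=
    Matrix.linearIndependent_rows_iff_isUnit.1 h1
  have h3 : (algebraMap A L) (Matrix.det (Matrix.of fun i j => D i (g j))) =
      Matrix.det (Matrix.of fun i j => ((σ i : b) : Fin N → L) j) := by
    rw [RingHom.map_det]
    congr 1
    ext i j
    exact congrFun (hD i) j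
  rw [Ideal.algebraMap_residueField_eq_zero.2 hmem] at h3
  exact ((Matrix.isUnit_iff_isUnit_det _).1 h2).ne_zero h3.symm

/-- The derivative of a polynomial along a derivation of the coefficients and values of the variables. -/
theorem exists_snd_eval {S : Type u} [CommRing S] {n : ℕ} {L : Type u} [Field L] [Algebra S L] (y : Fin n → L)
    (G : MvPolynomial (Fin n) S) :
    ∃ (l : ℕ) (μ : Fin l → L) (s : Fin l → S) (γ : Fin n → L),
      ∀ (Δ : Derivation ℤ S L) (θ : S →+* DualNumber L) (v : Fin n → L),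
        (∀ t, θ t = TrivSqZeroExt.inl (algebraMap S L t) + TrivSqZeroExt.inr (Δ t)) →
          (MvPolynomial.eval₂Hom θ (fun i => TrivSqZeroExt.inl (y i) + TrivSqZeroExt.inr (v i)) G).fst =
            MvPolynomial.aeval y G ∧
          (MvPolynomial.eval₂Hom θ (fun i => TrivSqZeroExt.inl (y i) + TrivSqZeroExt.inr (v i)) G).snd =
            ∑ j, μ j * Δ (s j) + ∑ i, γ i * v i := by
  classical
  induction G using MvPolynomial.induction_on with
  | C a =>
    refine ⟨1, fun _ => 1, fun _ => a, 0, fun Δ θ v hθ => ?_⟩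
    rw [MvPolynomial.eval₂Hom_C, hθ]
    simp
  | add G H hG hH =>
    obtain ⟨l, μ, s, γ, hG⟩ := hG
    obtain ⟨l', μ', s', γ', hH⟩ := hH
    refine ⟨l + l', Fin.append μ μ', Fin.append s s', γ + γ', fun Δ θ v hθ => ?_⟩
    obtain ⟨h1, h2⟩ := hG Δ θ v hθ
    obtain ⟨h3, h4⟩ := hH Δ θ v hθ
    rw [map_add, TrivSqZeroExt.fst_add, TrivSqZeroExt.snd_add, h1, h2, h3, h4, map_add, Fin.sum_univ_add]
    refine ⟨rfl, ?_⟩
    simp only [Fin.append_left, Fin.append_right, Pi.add_apply, add_mul, Finset.sum_add_distrib]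
    ring
  | mul_X G i hG =>
    obtain ⟨l, μ, s, γ, hG⟩ := hG
    refine ⟨l, fun j => y i * μ j, s, fun j => y i * γ j + (Pi.single i (MvPolynomial.aeval y G) : Fin n → L) j,
      fun Δ θ v hθ => ?_⟩
    obtain ⟨h1, h2⟩ := hG Δ θ v hθ
    rw [map_mul, MvPolynomial.eval₂Hom_X', TrivSqZeroExt.fst_mul, TrivSqZeroExt.snd_mul, h1, h2, map_mul,
      MvPolynomial.aeval_X]
    refine ⟨by simp, ?_⟩
    simp only [TrivSqZeroExt.fst_add, TrivSqZeroExt.fst_inl, TrivSqZeroExt.fst_inr, add_zero, TrivSqZeroExt.snd_add,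
      TrivSqZeroExt.snd_inl, TrivSqZeroExt.snd_inr, zero_add, op_smul_eq_smul, smul_eq_mul, mul_add, Finset.mul_sum,
      add_mul, Finset.sum_add_distrib, Pi.single_apply, ite_mul, zero_mul, Finset.sum_ite_eq', Finset.mem_univ,
      if_true, mul_assoc]
    ring

/-- A monic polynomial with coefficients in the maximal ideal killing an element of the maximal ideal
of a finite local extension. -/
theorem exists_monic_of_mem {S R : Type u} [CommRing S] [IsDomain S] [IsLocalRing S] [CommRing R] [IsLocalRing R] [Algebra S R]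
    [Module.Finite S R] [IsLocalHom (algebraMap S R)] {y : R} (hy : y ∈ maximalIdeal R) :
    ∃ g : Polynomial S, g.Monic ∧ 1 ≤ g.natDegree ∧ (∀ i < g.natDegree, g.coeff i ∈ maximalIdeal S) ∧
      Polynomial.aeval y g = 0 := by
  have hrad : maximalIdeal R ≤ ((maximalIdeal S).map (algebraMap S R)).radical := by
    rw [Ideal.radical_eq_sInf]
    refine le_sInf fun Q ⟨hQ, hQp⟩ => ?_
    have hc : maximalIdeal S ≤ Q.comap (algebraMap S R) := Ideal.map_le_iff_le_comap.1 hQ
    have hmax : (Q.comap (algebraMap S R)).IsMaximal := by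
      rw [← (maximalIdeal.isMaximal S).eq_of_le (Ideal.IsPrime.ne_top inferInstance) hc]
      exact maximalIdeal.isMaximal S
    have := Ideal.isMaximal_of_isIntegral_of_isMaximal_comap (R := S) Q hmax
    rw [IsLocalRing.eq_maximalIdeal this]
  obtain ⟨e, he⟩ := hrad hy
  have he' : y ^ (e + 1) ∈ (maximalIdeal S).map (algebraMap S R) := by
    rw [pow_succ]; exact Ideal.mul_mem_right _ _ he
  let f : Module.End S R := LinearMap.mulLeft S (y ^ (e + 1))
  obtain ⟨q, hqm, -, hqc, hq0⟩ := LinearMap.exists_monic_and_natDegree_eq_and_coeff_mem_pow_and_aeval_eq_zero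
    S f (maximalIdeal S) (by
      rintro _ ⟨z, rfl⟩
      rw [Ideal.smul_top_eq_map]
      exact Ideal.mul_mem_right z _ he')
  have hq1 : Polynomial.aeval (y ^ (e + 1)) q = 0 := by
    have h1 := LinearMap.congr_fun hq0 1
    have h2 : Polynomial.aeval f q = LinearMap.mulLeft S (Polynomial.aeval (y ^ (e + 1)) q) := by
      show Polynomial.aeval (Algebra.lmul S R _) q = Algebra.lmul S R _
      rw [Polynomial.aeval_algHom_apply]
    rw [h2, LinearMap.mulLeft_apply, mul_one, LinearMap.zero_apply] at h1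
    exact h1
  have hqpos : 1 ≤ q.natDegree := by
    by_contra hlt
    rw [Polynomial.eq_one_of_monic_natDegree_zero hqm (by omega), map_one] at hq1
    exact one_ne_zero hq1
  refine ⟨q.comp (Polynomial.X ^ (e + 1)), hqm.comp (Polynomial.monic_X_pow _) (by simp), ?_, ?_, ?_⟩
  · rw [Polynomial.natDegree_comp, Polynomial.natDegree_X_pow]
    exact Nat.one_le_iff_ne_zero.2 (Nat.mul_ne_zero (by omega) (by omega))
  · intro i hi
    rw [← Polynomial.expand_eq_comp_X_pow, Polynomial.coeff_expand (Nat.succ_pos _)]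
    split_ifs with hd
    · rw [Polynomial.natDegree_comp, Polynomial.natDegree_X_pow] at hi
      have hlt : i / (e + 1) < q.natDegree := Nat.div_lt_of_lt_mul (by rwa [mul_comm])
      exact Ideal.pow_le_self (by omega) (hqc (i / (e + 1)))
    · exact zero_mem _
  · rw [Polynomial.aeval_comp, map_pow, Polynomial.aeval_X]
    exact hq1

/-- The finite thickening `S[X]/(g_i²)` is complete for an ideal containing the variables. -/
theorem exists_thickening {S : Type u} [CommRing S] [IsLocalRing S] [IsNoetherianRing S]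
    [IsAdicComplete (maximalIdeal S) S] {n : ℕ} (g : Fin n → Polynomial S) (hgm : ∀ j, (g j).Monic)
    (hgd : ∀ j, 1 ≤ (g j).natDegree) (hgc : ∀ j, ∀ i < (g j).natDegree, (g j).coeff i ∈ maximalIdeal S) :
    ∃ (Q : Ideal (MvPolynomial (Fin n) S)) (I : Ideal (MvPolynomial (Fin n) S ⧸ Q)),
      IsAdicComplete I (MvPolynomial (Fin n) S ⧸ Q) ∧ (∀ i, Ideal.Quotient.mk Q (MvPolynomial.X i) ∈ I) ∧
      ∀ {B : Type u} [CommRing B] (θ : S →+* B) (b : Fin n → B), (∀ i, (g i).eval₂ θ (b i) ^ 2 = 0) →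
        ∀ z ∈ Q, MvPolynomial.eval₂Hom θ b z = 0 := by
  let G : Fin n → Polynomial S := fun j => g j ^ 2
  let Q : Ideal (MvPolynomial (Fin n) S) :=
    Ideal.span (Set.range fun i => Polynomial.aeval (MvPolynomial.X i : MvPolynomial (Fin n) S) (G i))
  obtain ⟨-, hfinA, -⟩ := H23Wild.free_finite_finrank G (fun j => (hgm j).pow 2) fun j => by
    rw [(hgm j).natDegree_pow]; have := hgd j; omega
  haveI : Module.Finite S (MvPolynomial (Fin n) S ⧸ Q) := hfinA
  let Y : Fin n → MvPolynomial (Fin n) S ⧸ Q := fun i => Ideal.Quotient.mk Q (MvPolynomial.X i)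
  let J := (maximalIdeal S).map (algebraMap S (MvPolynomial (Fin n) S ⧸ Q))
  let I := J ⊔ Ideal.span (Set.range Y)
  haveI : IsAdicComplete J (MvPolynomial (Fin n) S ⧸ Q) :=
    (IsAdicComplete.map_algebraMap_iff (maximalIdeal S) _ (S := MvPolynomial (Fin n) S ⧸ Q)).mpr
      (H24Adic.isAdicComplete_of_finite _)
  have hY0 : ∀ j, Polynomial.aeval (Y j) (g j) ^ 2 = 0 := fun j => by
    rw [show Y j = Ideal.Quotient.mkₐ S Q (MvPolynomial.X j) from rfl, Polynomial.aeval_algHom_apply,
      ← map_pow, ← map_pow]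
    exact Ideal.Quotient.eq_zero_iff_mem.2 (Ideal.subset_span ⟨j, rfl⟩)
  have hI : I ≤ J.radical := by
    refine sup_le Ideal.le_radical (Ideal.span_le.2 ?_)
    rintro _ ⟨j, rfl⟩
    refine ⟨(g j).natDegree * 2, ?_⟩
    rw [pow_mul]
    have h1 : Y j ^ (g j).natDegree - Polynomial.aeval (Y j) (g j) ∈ J := by
      rw [Polynomial.aeval_eq_sum_range, Finset.sum_range_succ, (hgm j).coeff_natDegree, one_smul, sub_add_cancel_right]
      refine neg_mem (sum_mem fun i hi => ?_)
      rw [Algebra.smul_def]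
      exact Ideal.mul_mem_right _ _ (Ideal.mem_map_of_mem _ (hgc j i (Finset.mem_range.1 hi)))
    have h3 := Ideal.mul_mem_right (Y j ^ (g j).natDegree + Polynomial.aeval (Y j) (g j)) _ h1
    rwa [mul_comm, ← sq_sub_sq, hY0, sub_zero] at h3
  obtain ⟨M, hM⟩ := Ideal.exists_pow_le_of_le_radical_of_fg hI
    (Submodule.FG.sup (Ideal.FG.map (IsNoetherian.noetherian (maximalIdeal S)) _)
      (Submodule.fg_span (Set.finite_range Y)))
  refine ⟨Q, I, H24Adic.isAdicComplete_of_pow_le (I := J) (a := M) (b := 1) hM (by rw [pow_one]; exact le_sup_left) _,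
    fun i => Submodule.mem_sup_right (Ideal.subset_span ⟨i, rfl⟩), fun {B} _ θ b hb z hz => ?_⟩
  have hle : Q ≤ RingHom.ker (MvPolynomial.eval₂Hom θ b) := by
    refine Ideal.span_le.2 ?_
    rintro _ ⟨i, rfl⟩
    show MvPolynomial.eval₂Hom θ b (Polynomial.aeval (MvPolynomial.X i : MvPolynomial (Fin n) S) (g i ^ 2)) = 0
    rw [Polynomial.aeval_def, Polynomial.hom_eval₂, MvPolynomial.eval₂Hom_X',
      show (MvPolynomial.eval₂Hom θ b).comp (algebraMap S (MvPolynomial (Fin n) S)) = θ from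
        RingHom.ext fun c => MvPolynomial.eval₂Hom_C _ _ c, Polynomial.eval₂_pow]
    exact hb i
  exact hle hz

/-- A map from power series through the thickening, compatible with a lift of the normalisation. -/
theorem exists_section {K A S : Type u} [Field K] [CommRing A] [IsLocalRing A] [IsNoetherianRing A]
    [Algebra K A] [CommRing S] [Algebra K S] {n : ℕ} (φ : MvPowerSeries (Fin n) K ≃ₐ[K] A) (J : Ideal A)
    (hJ : J ≠ ⊤) (hT : ∀ i, φ (MvPowerSeries.X i) ∈ maximalIdeal A)
    (Q : Ideal (MvPolynomial (Fin n) S)) (I : Ideal (MvPolynomial (Fin n) S ⧸ Q))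
    [IsAdicComplete I (MvPolynomial (Fin n) S ⧸ Q)] (hI : ∀ i, Ideal.Quotient.mk Q (MvPolynomial.X i) ∈ I)
    (θ : S →ₐ[K] A ⧸ J)
    (hθ : ∀ z ∈ Q, MvPolynomial.eval₂Hom θ.toRingHom
      (fun i => Ideal.Quotient.mk J (φ (MvPowerSeries.X i))) z = 0) :
    ∃ rep : A → MvPolynomial (Fin n) S,
      (∀ a, MvPolynomial.eval₂Hom θ.toRingHom
        (fun i => Ideal.Quotient.mk J (φ (MvPowerSeries.X i))) (rep a) = Ideal.Quotient.mk J a) ∧
      ∀ {B : Type u} [CommRing B] (H₀ : MvPolynomial (Fin n) S →+* B), (∀ z ∈ Q, H₀ z = 0) →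
        ∃ h : A →+* B, ∀ a, h a = H₀ (rep a) := by
  obtain ⟨ι₀, hι₀⟩ := H02CA.PS.exists_algHom (R := K) (σ := Fin n) I
    (fun i => Ideal.Quotient.mk Q (MvPolynomial.X i)) hI
  let ρ₀ := MvPolynomial.eval₂Hom θ.toRingHom (fun i => Ideal.Quotient.mk J (φ (MvPowerSeries.X i)))
  let ρ : MvPolynomial (Fin n) S ⧸ Q →ₐ[K] A ⧸ J :=
    { Ideal.Quotient.lift Q ρ₀ hθ with
      commutes' := fun c => by
        show ρ₀ (algebraMap K (MvPolynomial (Fin n) S) c) = _
        rw [MvPolynomial.algebraMap_apply, MvPolynomial.eval₂Hom_C]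
        exact θ.commutes c }
  haveI : Nontrivial (A ⧸ J) := Ideal.Quotient.nontrivial_iff.2 hJ
  haveI : IsLocalRing (A ⧸ J) := IsLocalRing.of_surjective' _ Ideal.Quotient.mk_surjective
  have : IsHausdorff (maximalIdeal (A ⧸ J)) (A ⧸ J) :=
    IsHausdorff.of_isLocalRing _ _ (maximalIdeal.isMaximal _).ne_top
  have hval : ∀ i, ρ (ι₀ (MvPowerSeries.X i)) = Ideal.Quotient.mk J (φ (MvPowerSeries.X i)) := fun i => by
    rw [hι₀]
    exact MvPolynomial.eval₂Hom_X' _ _ i
  have h1 : ρ.comp ι₀ = (Ideal.Quotient.mkₐ K J).comp φ.toAlgHom := by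
    refine H02CA.PS.algHom_ext (maximalIdeal (A ⧸ J)) (fun i => ?_) fun i => ?_
    · rw [AlgHom.comp_apply, hval]
      exact (IsLocalRing.map_maximalIdeal_of_surjective (Ideal.Quotient.mk J) Ideal.Quotient.mk_surjective).le
        (Ideal.mem_map_of_mem _ (hT i))
    · rw [AlgHom.comp_apply, hval]
      rfl
  let ι : A →+* MvPolynomial (Fin n) S ⧸ Q := (ι₀.comp φ.symm.toAlgHom).toRingHom
  have hρι : ∀ a, ρ (ι a) = Ideal.Quotient.mk J a := fun a => by
    have h2 := AlgHom.congr_fun h1 (φ.symm a)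
    simp only [AlgHom.comp_apply, AlgEquiv.coe_toAlgHom, AlgEquiv.apply_symm_apply] at h2
    exact h2
  choose rep hrep using fun a => Ideal.Quotient.mk_surjective (ι a)
  refine ⟨rep, fun a => ?_, fun {B} _ H₀ hH₀ => ⟨(Ideal.Quotient.lift Q H₀ hH₀).comp ι, fun a => ?_⟩⟩
  · rw [← hρι, ← hrep]; rfl
  · rw [RingHom.comp_apply, ← hrep]; rfl

/-- A derivation of a ring into an algebra, as a map to dual numbers. -/
theorem exists_dual {S R : Type u} [CommRing S] [CommRing R] [Algebra S R] (δ : Derivation ℤ S R) :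
    ∃ θ : S →+* DualNumber R, ∀ t, θ t = TrivSqZeroExt.inl (algebraMap S R t) + TrivSqZeroExt.inr (δ t) :=
  ⟨{  toFun := fun t => TrivSqZeroExt.inl (algebraMap S R t) + TrivSqZeroExt.inr (δ t)
      map_one' := by simp
      map_mul' := fun a b => TrivSqZeroExt.ext (by simp) (by
        simp only [TrivSqZeroExt.snd_add, TrivSqZeroExt.snd_inl, TrivSqZeroExt.snd_inr, zero_add,
          TrivSqZeroExt.snd_mul, TrivSqZeroExt.fst_add, TrivSqZeroExt.fst_inl, TrivSqZeroExt.fst_inr, add_zero,
          op_smul_eq_smul, δ.leibniz, smul_eq_mul, Algebra.smul_def])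
      map_zero' := by simp
      map_add' := fun a b => by simp only [map_add, TrivSqZeroExt.inl_add, TrivSqZeroExt.inr_add]; abel },
    fun _ => rfl⟩

/-- A map to dual numbers over an algebra is a derivation. -/
theorem exists_of_dual {S R : Type u} [CommRing S] [CommRing R] [Algebra S R] (h : S →+* DualNumber R)
    (hh : ∀ t, (h t).fst = algebraMap S R t) : ∃ δ : Derivation ℤ S R, ∀ t, δ t = (h t).snd :=
  ⟨Derivation.mk' ((TrivSqZeroExt.sndHom R R).toAddMonoidHom.comp h.toAddMonoidHom).toIntLinearMap fun a b => by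
    show (h (a * b)).snd = a • (h b).snd + b • (h a).snd
    rw [map_mul, TrivSqZeroExt.snd_mul, hh, hh, op_smul_eq_smul, smul_eq_mul, smul_eq_mul, Algebra.smul_def,
      Algebra.smul_def],
    fun _ => rfl⟩

/-- The coefficientwise map of dual numbers. -/
theorem exists_dual_map {R L : Type u} [CommRing R] [CommRing L] (f : R →+* L) :
    ∃ m : DualNumber R →+* DualNumber L, ∀ z, m z = TrivSqZeroExt.inl (f z.fst) + TrivSqZeroExt.inr (f z.snd) :=
  ⟨{  toFun := fun z => TrivSqZeroExt.inl (f z.fst) + TrivSqZeroExt.inr (f z.snd)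
      map_one' := by simp
      map_mul' := fun a b => TrivSqZeroExt.ext (by simp) (by
        simp only [TrivSqZeroExt.snd_add, TrivSqZeroExt.snd_inl, TrivSqZeroExt.snd_inr, zero_add,
          TrivSqZeroExt.snd_mul, TrivSqZeroExt.fst_add, TrivSqZeroExt.fst_inl, TrivSqZeroExt.fst_inr, add_zero,
          op_smul_eq_smul, smul_eq_mul, map_add, map_mul])
      map_zero' := by simp
      map_add' := fun a b => by
        simp only [map_add, TrivSqZeroExt.fst_add, TrivSqZeroExt.snd_add, TrivSqZeroExt.inl_add, TrivSqZeroExt.inr_add]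
        abel },
    fun _ => rfl⟩

/-- Derivations extend along formally étale maps, with values in any module. -/
theorem exists_extend_localization {S T M : Type u} [CommRing S] [CommRing T] [Algebra S T]
    [Algebra.FormallyEtale S T] [CommRing M] [Algebra S M] [Algebra T M] [IsScalarTower S T M]
    (D : Derivation ℤ S M) : ∃ D' : Derivation ℤ T M, ∀ s, D' (algebraMap S T s) = D s := by
  let φ : TensorProduct S T (Ω[S⁄ℤ]) →ₗ[T] M := LinearMap.liftBaseChange T D.liftKaehlerDifferential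
  refine ⟨(φ.comp (KaehlerDifferential.tensorKaehlerEquivOfFormallyEtale ℤ S T).symm.toLinearMap).compDer
    (KaehlerDifferential.D ℤ T), fun s => ?_⟩
  show φ ((KaehlerDifferential.tensorKaehlerEquivOfFormallyEtale ℤ S T).symm (KaehlerDifferential.D ℤ T (algebraMap S T s))) = _
  rw [KaehlerDifferential.tensorKaehlerEquivOfFormallyEtale_symm_D_algebraMap]
  simp [φ]

/-- The detection of relations, from a normalisation with enough bounded derivations. -/
theorem eq_zero_core {A S F : Type u} [CommRing A] [CommRing S] [IsDomain S] [Field F] [Algebra S F]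
    [IsFractionRing S F] (p : ℕ) [hp : Fact p.Prime] [CharP F p] (hfull : IsFull S F p) (P : Ideal A) [P.IsPrime]
    [Algebra S (A ⧸ P)] (hinj : Function.Injective (algebraMap S (A ⧸ P)))
    (θ₂ : S →+* A ⧸ P ^ 2)
    (hθ₂ : ∀ t, Ideal.Quotient.factor (Ideal.pow_le_self two_ne_zero) (θ₂ t) = algebraMap S (A ⧸ P) t)
    {n : ℕ} (T : Fin n → A) (Q : Ideal (MvPolynomial (Fin n) S)) (rep : A → MvPolynomial (Fin n) S)
    (hrep : ∀ a, MvPolynomial.eval₂Hom θ₂ (fun i => Ideal.Quotient.mk (P ^ 2) (T i)) (rep a) = Ideal.Quotient.mk (P ^ 2) a)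
    (hhom : ∀ (H₀ : MvPolynomial (Fin n) S →+* DualNumber (A ⧸ P)), (∀ z ∈ Q, H₀ z = 0) →
      ∃ h : A →+* DualNumber (A ⧸ P), ∀ a, h a = H₀ (rep a))
    (hQ : ∀ (θ : S →+* DualNumber (A ⧸ P)) (b : Fin n → DualNumber (A ⧸ P)),
      (∀ t, (θ t).fst = algebraMap S (A ⧸ P) t) → (∀ i, (b i).fst = Ideal.Quotient.mk P (T i)) →
      ∀ z ∈ Q, MvPolynomial.eval₂Hom θ b z = 0)
    (hlift : ∀ δ : Derivation ℤ A (A ⧸ P), ∃ D : Derivation ℤ A A, ∀ a, Ideal.Quotient.mk P (D a) = δ a)
    {N : ℕ} (g : Fin N → A) (lam : Fin N → P.ResidueField)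
    (h : ∀ D : Derivation ℤ A A, ∑ j, lam j * algebraMap A P.ResidueField (D (g j)) = 0)
    (Δ : Derivation ℤ A P.ResidueField) : ∑ j, lam j * Δ (g j) = 0 := by
  classical
  let L := P.ResidueField
  letI : Algebra S L := ((algebraMap (A ⧸ P) L).comp (algebraMap S (A ⧸ P))).toAlgebra
  haveI : IsScalarTower S (A ⧸ P) L := IsScalarTower.of_algebraMap_eq fun _ => rfl
  have hinjSL : Function.Injective (algebraMap S L) := (IsFractionRing.injective (A ⧸ P) L).comp hinj
  letI : Algebra F L := (IsFractionRing.lift hinjSL).toAlgebra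
  have hFL : ∀ x : S, algebraMap F L (algebraMap S F x) = algebraMap S L x := IsFractionRing.lift_algebraMap hinjSL
  haveI : IsScalarTower S F L := IsScalarTower.of_algebraMap_eq fun x => (hFL x).symm
  haveI : CharP L p := charP_of_injective_algebraMap (algebraMap F L).injective p
  let y : Fin n → L := fun i => algebraMap A L (T i)
  choose l μ c γ hev using fun j => exists_snd_eval y (rep (g j))
  obtain ⟨mL, hmL⟩ := exists_dual_map (algebraMap (A ⧸ P) L)
  have hkey : ∀ (δ : Derivation ℤ S (A ⧸ P)) (v : Fin n → (A ⧸ P)),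
      ∑ j, lam j * (∑ i, μ j i * algebraMap (A ⧸ P) L (δ (c j i)) + ∑ i, γ j i * algebraMap (A ⧸ P) L (v i)) = 0 := by
    intro δ v
    obtain ⟨θ, hθ⟩ := exists_dual δ
    let Y' : Fin n → DualNumber (A ⧸ P) := fun i =>
      TrivSqZeroExt.inl (Ideal.Quotient.mk P (T i)) + TrivSqZeroExt.inr (v i)
    let H₀ := MvPolynomial.eval₂Hom θ Y'
    obtain ⟨hA, hhA⟩ := hhom H₀ (hQ θ Y' (fun t => by rw [hθ]; simp) fun i => by simp [Y'])
    have hAfst : ∀ a, (hA a).fst = algebraMap A (A ⧸ P) a := by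
      intro a
      have h1 := congrArg (Ideal.Quotient.factor (Ideal.pow_le_self two_ne_zero : P ^ 2 ≤ P)) (hrep a)
      rw [MvPolynomial.map_eval₂Hom, Ideal.Quotient.factor_mk] at h1
      rw [hhA]
      show (TrivSqZeroExt.fstHom (A ⧸ P) (A ⧸ P) (A ⧸ P)).toRingHom (H₀ (rep a)) = _
      rw [MvPolynomial.map_eval₂Hom]
      refine Eq.trans ?_ h1
      congr 2
      · exact RingHom.ext fun t => by rw [RingHom.comp_apply, RingHom.comp_apply, hθ₂, hθ]; simp
      · funext i
        simp [Y']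
    obtain ⟨δA, hδA⟩ := exists_of_dual hA hAfst
    obtain ⟨D, hD⟩ := hlift δA
    rw [← h D]
    refine Finset.sum_congr rfl fun j _ => ?_
    congr 1
    rw [IsScalarTower.algebraMap_apply A (A ⧸ P) L, Ideal.Quotient.algebraMap_eq, hD, hδA, hhA]
    obtain ⟨-, h3⟩ := hev j ((Algebra.linearMap (A ⧸ P) L).restrictScalars S |>.compDer δ) (mL.comp θ)
      (fun i => algebraMap (A ⧸ P) L (v i)) (fun t => by
        rw [RingHom.comp_apply, hmL, hθ]
        simp [← IsScalarTower.algebraMap_apply S (A ⧸ P) L])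
    have h4 : mL.comp H₀ = MvPolynomial.eval₂Hom (mL.comp θ)
        (fun i => TrivSqZeroExt.inl (y i) + TrivSqZeroExt.inr (algebraMap (A ⧸ P) L (v i))) := by
      refine MvPolynomial.ringHom_ext (fun t => ?_) fun i => ?_
      · simp [H₀]
      · rw [RingHom.comp_apply, MvPolynomial.eval₂Hom_X', MvPolynomial.eval₂Hom_X', hmL]
        simp [Y', y, IsScalarTower.algebraMap_apply A (A ⧸ P) L]
    rw [show algebraMap (A ⧸ P) L ((H₀ (rep (g j))).snd) = ((mL.comp H₀) (rep (g j))).snd from by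
      rw [RingHom.comp_apply, hmL]; simp, h4, h3]
    rfl
  have hγ : ∀ i, ∑ j, lam j * γ j i = 0 := fun i => by
    have h1 := hkey 0 (Pi.single i 1)
    simpa [Pi.single_apply, apply_ite (algebraMap (A ⧸ P) L)] using h1
  let J : Type := Σ j : Fin N, Fin (l j)
  have hμ : ∀ δ : Derivation ℤ S (A ⧸ P), ∑ q : J, lam q.1 * μ q.1 q.2 * algebraMap (A ⧸ P) L (δ (c q.1 q.2)) = 0 := fun δ => by
    have h1 := hkey δ 0
    simp only [Pi.zero_apply, map_zero, mul_zero, Finset.sum_const_zero, add_zero, Finset.mul_sum, ← mul_assoc] at h1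
    rw [Fintype.sum_sigma]
    exact h1
  have hΔS : ∀ D : Derivation ℤ F F, IsBdd S D →
      ∑ q ∈ (Finset.univ : Finset J), (lam q.1 * μ q.1 q.2) * algebraMap F L (D (algebraMap S F (c q.1 q.2))) = 0 := by
    intro D hD
    obtain ⟨d, hd, hD⟩ := hD
    choose r hr using hD
    have hinjF := IsFractionRing.injective S F
    let r₀ : S →+ S := AddMonoidHom.mk' r fun a b => hinjF (by
      rw [map_add, hr, hr, hr, map_add, map_add, mul_add])
    let δ₀ : Derivation ℤ S S := Derivation.mk' r₀.toIntLinearMap fun a b => hinjF (by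
      show algebraMap S F (r (a * b)) = algebraMap S F (a • r b + b • r a)
      rw [smul_eq_mul, smul_eq_mul, map_add, map_mul, map_mul, hr, hr, hr, map_mul, D.leibniz, smul_eq_mul, smul_eq_mul]
      ring)
    let δ : Derivation ℤ S (A ⧸ P) := (Algebra.linearMap S (A ⧸ P)).compDer δ₀
    have h1 := hμ δ
    refine (mul_eq_zero.1 ?_).resolve_left ((map_ne_zero (algebraMap F L)).2 hd)
    rw [Finset.mul_sum]
    refine (Finset.sum_congr rfl fun q _ => ?_).trans h1
    have h2 : algebraMap (A ⧸ P) L (δ (c q.1 q.2)) = algebraMap F L (algebraMap S F (r (c q.1 q.2))) := by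
      rw [hFL, IsScalarTower.algebraMap_apply S (A ⧸ P) L]
      rfl
    rw [h2, hr, map_mul]
    ring
  obtain ⟨Δ₀, hΔ₀⟩ := exists_dual Δ
  let Δ₂ : A ⧸ P ^ 2 →+* DualNumber L := Ideal.Quotient.lift _ Δ₀ (by
    intro a ha
    rw [pow_two] at ha
    refine Submodule.mul_induction_on ha (fun u hu v hv => ?_) fun u v hu hv => by rw [map_add, hu, hv, add_zero]
    rw [map_mul]
    have hu' := Ideal.algebraMap_residueField_eq_zero.2 hu
    have hv' := Ideal.algebraMap_residueField_eq_zero.2 hv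
    exact TrivSqZeroExt.ext (by simp [hΔ₀, hu']) (by simp [hΔ₀, hu', hv']))
  have hΔ₂ : ∀ a, Δ₂ (Ideal.Quotient.mk (P ^ 2) a) = Δ₀ a := fun a => rfl
  have hθfst : ∀ t, ((Δ₂.comp θ₂) t).fst = algebraMap S L t := fun t => by
    obtain ⟨a, ha⟩ := Ideal.Quotient.mk_surjective (θ₂ t)
    rw [RingHom.comp_apply, ← ha, hΔ₂, hΔ₀, IsScalarTower.algebraMap_apply S (A ⧸ P) L, ← hθ₂, ← ha,
      Ideal.Quotient.factor_mk]
    simp
    exact IsScalarTower.algebraMap_apply A (A ⧸ P) L a
  obtain ⟨ΔS, hΔSv⟩ := exists_of_dual (Δ₂.comp θ₂) hθfst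
  have hj : ∀ j, Δ (g j) = ∑ i, μ j i * ΔS (c j i) + ∑ i, γ j i * Δ (T i) := by
    intro j
    obtain ⟨-, h3⟩ := hev j ΔS (Δ₂.comp θ₂) (fun i => Δ (T i)) fun t =>
      TrivSqZeroExt.ext (by rw [hθfst]; simp) (by rw [← hΔSv]; simp)
    rw [← h3]
    have h4 : MvPolynomial.eval₂Hom (Δ₂.comp θ₂) (fun i => TrivSqZeroExt.inl (y i) + TrivSqZeroExt.inr (Δ (T i))) =
        Δ₂.comp (MvPolynomial.eval₂Hom θ₂ (fun i => Ideal.Quotient.mk (P ^ 2) (T i))) := by
      refine MvPolynomial.ringHom_ext (fun t => ?_) fun i => ?_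
      · rw [MvPolynomial.eval₂Hom_C, RingHom.comp_apply, RingHom.comp_apply, MvPolynomial.eval₂Hom_C]
      · rw [MvPolynomial.eval₂Hom_X', RingHom.comp_apply, MvPolynomial.eval₂Hom_X', hΔ₂, hΔ₀]
    rw [h4, RingHom.comp_apply, hrep, hΔ₂, hΔ₀]
    simp
  haveI : Algebra.FormallyEtale S F := Algebra.FormallyEtale.of_isLocalization (nonZeroDivisors S)
  obtain ⟨ΔF, hΔF⟩ := exists_extend_localization (T := F) ΔS
  have hbdd := BddFull.eq_zero_of_bdd p hfull (Finset.univ : Finset J) (fun q => lam q.1 * μ q.1 q.2)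
    (fun q => algebraMap S F (c q.1 q.2)) hΔS ΔF
  simp only [hΔF] at hbdd
  erw [Fintype.sum_sigma] at hbdd
  simp only [hj, mul_add, Finset.mul_sum, ← mul_assoc, Finset.sum_add_distrib]
  rw [hbdd, zero_add, Finset.sum_comm]
  refine Finset.sum_eq_zero fun i _ => ?_
  rw [← Finset.sum_mul, hγ i, zero_mul]

/-- Absolute derivations into a quotient of a complete regular local ring of equal characteristic lift. -/
theorem exists_lift_int {K A : Type u} [Field K] [CommRing A] [IsRegularLocalRing A] [Algebra K A]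
    [IsAdicComplete (maximalIdeal A) A] (J : Ideal A) (δ : Derivation ℤ A (A ⧸ J)) :
    ∃ D : Derivation ℤ A A, ∀ a, Ideal.Quotient.mk J (D a) = δ a := by
  haveI := PrimeTransfer.perfectField_bot K
  haveI := PrimeTransfer.subsingleton_kaehler_bot K
  let F := (⊥ : Subfield K)
  have h0 : ∀ t : F, δ (algebraMap F A t) = 0 := fun t => by
    show δ.compAlgebraMap F t = 0
    rw [← (δ.compAlgebraMap F).liftKaehlerDifferential_comp_D,
      Subsingleton.elim (KaehlerDifferential.D ℤ F t) 0, map_zero]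
  let δF : Derivation F A (A ⧸ J) := Derivation.mk'
    { δ.toLinearMap.toAddMonoidHom with
      map_smul' := fun t a => by
        show δ (t • a) = t • δ a
        rw [Algebra.smul_def, δ.leibniz, h0, smul_zero, add_zero, algebraMap_smul] }
    (fun a b => δ.leibniz a b)
  obtain ⟨D, hD⟩ := exists_derivation_lift (isAdicFormallySmooth_of_perfectField F A) J δF
  exact ⟨D.restrictScalars ℤ, hD⟩

/-- In characteristic `p`, a relation holding for all derivations of `A` modulo `P` holds for all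
derivations into the residue field at `P`. -/
theorem eq_zero_of_forall_derivation {K A : Type u} [Field K] [CommRing A] [IsLocalRing A] [IsNoetherianRing A]
    [Algebra K A] {n : ℕ} (φ : MvPowerSeries (Fin n) K ≃ₐ[K] A) (p : ℕ) [hp : Fact p.Prime] [CharP K p]
    (P : Ideal A) [P.IsPrime] {N : ℕ} (g : Fin N → A) (lam : Fin N → P.ResidueField)
    (h : ∀ D : Derivation ℤ A A, ∑ j, lam j * algebraMap A P.ResidueField (D (g j)) = 0)
    (Δ : Derivation ℤ A P.ResidueField) : ∑ j, lam j * Δ (g j) = 0 := by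
  classical
  have h1 : IsAdicComplete (maximalIdeal (MvPowerSeries (Fin n) K)) (MvPowerSeries (Fin n) K) := by
    rw [maximalIdeal_mvPowerSeries, IsLocalRing.maximalIdeal_eq_bot, Ideal.map_bot, bot_sup_eq]
    infer_instance
  haveI hcA : IsAdicComplete (maximalIdeal A) A := by
    rw [← IsLocalRing.map_ringEquiv_maximalIdeal φ.toRingEquiv]
    exact (IsAdicComplete.congr_ringEquiv _ φ.toRingEquiv).mpr h1
  haveI hreg : IsRegularLocalRing A := by
    haveI := H02CA.PS.isRegularLocalRing_fin (k := K) n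
    exact IsRegularLocalRing.of_ringEquiv (R := MvPowerSeries (Fin n) K) φ.toRingEquiv
  have hmem : ∀ f : MvPowerSeries (Fin n) K, MvPowerSeries.constantCoeff f = 0 → φ f ∈ maximalIdeal A := by
    intro f hf
    rw [IsLocalRing.mem_maximalIdeal, mem_nonunits_iff]
    intro hu
    have h2 : IsUnit f := φ.symm_apply_apply f ▸ hu.map φ.symm
    rw [MvPowerSeries.isUnit_iff_constantCoeff, hf] at h2
    exact not_isUnit_zero h2
  let R := A ⧸ P
  let T : Fin n → A := fun j => φ (MvPowerSeries.X j)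
  have hT : ∀ j, T j ∈ maximalIdeal A := fun j => hmem _ (MvPowerSeries.constantCoeff_X j)
  haveI : IsLocalRing R := IsLocalRing.of_surjective' _ Ideal.Quotient.mk_surjective
  have hmR : maximalIdeal R = (maximalIdeal A).map (algebraMap A R) :=
    (IsLocalRing.map_maximalIdeal_of_surjective (Ideal.Quotient.mk P) Ideal.Quotient.mk_surjective).symm
  haveI : IsAdicComplete (maximalIdeal R) R := by
    rw [hmR, IsAdicComplete.map_algebraMap_iff]
    exact H24Adic.isAdicComplete_of_finite _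
  haveI : Module.Finite K (ResidueField R) := by
    refine Module.Finite.of_surjective (Algebra.linearMap K (ResidueField R)) fun z => ?_
    obtain ⟨r, rfl⟩ := residue_surjective z
    obtain ⟨a, rfl⟩ := Ideal.Quotient.mk_surjective r
    refine ⟨MvPowerSeries.constantCoeff (φ.symm a), Ideal.Quotient.eq.2 ?_⟩
    have h2 : algebraMap K A (MvPowerSeries.constantCoeff (φ.symm a)) - a ∈ maximalIdeal A := by
      have h4 : algebraMap K A (MvPowerSeries.constantCoeff (φ.symm a)) - a =
          φ (algebraMap K _ (MvPowerSeries.constantCoeff (φ.symm a)) - φ.symm a) := by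
        rw [map_sub, φ.commutes, φ.apply_symm_apply]
      rw [h4]
      exact hmem _ (by simp [MvPowerSeries.algebraMap_apply])
    rw [hmR]
    have h3 := Ideal.mem_map_of_mem (algebraMap A R) h2
    rw [map_sub] at h3
    exact h3
  obtain ⟨s, w, hwinj, hwloc, hwfin⟩ := S2460.result (k₀ := K) (A := R)
  let S := MvPowerSeries (Fin s) K
  letI : Algebra S R := w.toRingHom.toAlgebra
  haveI : Module.Finite S R := hwfin
  haveI : IsLocalHom (algebraMap S R) := hwloc
  haveI : CharP (FractionRing S) p :=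
    charP_of_injective_ringHom (f := (algebraMap S (FractionRing S)).comp MvPowerSeries.C) (RingHom.injective _) p
  haveI : IsAdicComplete (maximalIdeal S) S := by
    rw [maximalIdeal_mvPowerSeries, IsLocalRing.maximalIdeal_eq_bot, Ideal.map_bot, bot_sup_eq]
    infer_instance
  haveI : IsDomain S := NoZeroDivisors.to_isDomain S
  choose g₀ hgm hgd hgc hgy using fun j => exists_monic_of_mem (S := S) (R := R)
    (show Ideal.Quotient.mk P (T j) ∈ maximalIdeal R from hmR ▸ Ideal.mem_map_of_mem _ (hT j))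
  obtain ⟨Q, I, hIc, hXI, hQ⟩ := exists_thickening g₀ hgm hgd hgc
  have hwX : ∀ i, ∃ x ∈ maximalIdeal A, Ideal.Quotient.mk P x = w (MvPowerSeries.X i) := fun i => by
    obtain ⟨x, hx⟩ := Ideal.Quotient.mk_surjective (w (MvPowerSeries.X i))
    refine ⟨x, fun hu => ?_, hx⟩
    have h1 : IsUnit (w (MvPowerSeries.X i)) := hx ▸ hu.map _
    have h2 := (hwloc.map_nonunit _ h1 : IsUnit (MvPowerSeries.X i : S))
    rw [MvPowerSeries.isUnit_iff_constantCoeff, MvPowerSeries.constantCoeff_X] at h2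
    exact not_isUnit_zero h2
  choose x hxm hx using hwX
  obtain ⟨ψ, hψ⟩ := H02CA.PS.exists_algHom (R := K) (σ := Fin s) (maximalIdeal A) x hxm
  have hwψ : ∀ a, Ideal.Quotient.mk P (ψ a) = w a := by
    have h1 : (Ideal.Quotient.mkₐ K P).comp ψ = w := by
      refine H02CA.PS.algHom_ext (maximalIdeal R) (fun i => ?_) fun i => ?_
      · rw [AlgHom.comp_apply, hψ, hmR]
        exact Ideal.mem_map_of_mem _ (hxm i)
      · rw [AlgHom.comp_apply, hψ]
        exact hx i
    exact fun a => AlgHom.congr_fun h1 a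
  let θ₂ : S →ₐ[K] A ⧸ P ^ 2 := (Ideal.Quotient.mkₐ K (P ^ 2)).comp ψ
  have hθ₂Q : ∀ z ∈ Q, MvPolynomial.eval₂Hom θ₂.toRingHom (fun i => Ideal.Quotient.mk (P ^ 2) (T i)) z = 0 := by
    refine hQ θ₂.toRingHom _ fun i => ?_
    have h2 : (g₀ i).eval₂ ψ.toRingHom (T i) ∈ P := by
      rw [← Ideal.Quotient.eq_zero_iff_mem, Polynomial.hom_eval₂]
      have h3 : (Ideal.Quotient.mk P).comp ψ.toRingHom = algebraMap S R := RingHom.ext hwψ
      rw [h3]
      exact hgy i
    show (g₀ i).eval₂ ((Ideal.Quotient.mk (P ^ 2)).comp ψ.toRingHom) (Ideal.Quotient.mk (P ^ 2) (T i)) ^ 2 = 0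
    rw [← Polynomial.hom_eval₂, ← map_pow, Ideal.Quotient.eq_zero_iff_mem]
    exact Ideal.pow_mem_pow h2 2
  obtain ⟨rep, hrep, hhom⟩ := exists_section (S := S) φ (P ^ 2)
    (fun htop => (Ideal.IsPrime.ne_top ‹P.IsPrime›) (top_le_iff.1 (htop.ge.trans (Ideal.pow_le_self two_ne_zero))))
    hT Q I hXI θ₂ hθ₂Q
  refine eq_zero_core p (isFull_mvPowerSeries p (FractionRing S)) P hwinj θ₂.toRingHom (fun t => hwψ t) T Q rep hrep
    (fun H₀ hH₀ => hhom H₀ hH₀) (fun θ b hθ hb => hQ θ b fun i => ?_) (exists_lift_int (K := K) P) g lam h Δ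
  have h2 : ((g₀ i).eval₂ θ (b i)).fst = 0 := by
    show (TrivSqZeroExt.fstHom R R R).toRingHom ((g₀ i).eval₂ θ (b i)) = 0
    rw [Polynomial.hom_eval₂, show (TrivSqZeroExt.fstHom R R R).toRingHom (b i) = _ from hb i,
      show (TrivSqZeroExt.fstHom R R R).toRingHom.comp θ = algebraMap S R from RingHom.ext hθ]
    exact hgy i
  rw [pow_two]
  exact TrivSqZeroExt.ext (by simp [h2]) (by simp [h2])

end Groth.Agent.H05EGA4.NagataDer
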