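import Groth.Agent.H05EGA4.CompletedKaehler
import Groth.Agent.H05EGA4.NagataDer
import Groth.Agent.H24Adic.Basic
import Mathlib.RingTheory.Unramified.Field
import Mathlib.RingTheory.MvPowerSeries.Derivative
import Mathlib.RingTheory.RegularLocalRing.Polynomial

/-! Completed differentials of complete local algebras with residue field finite over the ground field. -/

set_option autoImplicit false
set_option linter.style.haveILetI false
set_option maxHeartbeats 1000000

open IsLocalRing TensorProduct

universe u

namespace Groth.Agent.H05EGA4.CKBase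

/-- Finiteness of completed differentials, and every element comes from a differential. -/
theorem finite_and_surjective (k A : Type u) [Field k] [CommRing A] [IsLocalRing A] [IsNoetherianRing A] [Algebra k A]
    [IsAdicComplete (maximalIdeal A) A] [Module.Finite k (ResidueField A)] :
    Module.Finite A (AdicCompletion (maximalIdeal A) (Ω[A⁄k])) ∧
      Function.Surjective (AdicCompletion.of (maximalIdeal A) (Ω[A⁄k])) := by
  haveI : Module.Finite (A ⧸ maximalIdeal A) Ω[A ⧸ maximalIdeal A⁄k] :=
    (inferInstance : Module.Finite (ResidueField A) Ω[ResidueField A⁄k])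
  haveI : Module.Finite A (maximalIdeal A).Cotangent :=
    Module.Finite.of_surjective (maximalIdeal A).toCotangent (maximalIdeal A).toCotangent_surjective
  haveI : Module.Finite (A ⧸ maximalIdeal A) (maximalIdeal A).Cotangent :=
    Module.Finite.of_restrictScalars_finite A _ _
  haveI := CompletedKaehler.finite_quotient_smul (A := k) (maximalIdeal A)
  refine ⟨CompletedKaehler.finite_adicCompletion _, ?_⟩
  obtain ⟨n, g, hg⟩ := Module.Finite.exists_fin' A (Ω[A⁄k] ⧸ (maximalIdeal A • ⊤ : Submodule A Ω[A⁄k]))
  obtain ⟨f, hf⟩ := Module.projective_lifting_property (maximalIdeal A • ⊤ : Submodule A Ω[A⁄k]).mkQ g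
    (Submodule.mkQ_surjective _)
  have hs := AdicCompletion.map_surjective_of_mkQ_comp_surjective (I := maximalIdeal A) (f := f) (by rw [hf]; exact hg)
  haveI : IsAdicComplete (maximalIdeal A) (Fin n → A) := H24Adic.isAdicComplete_of_finite _
  intro z
  obtain ⟨y, rfl⟩ := hs z
  obtain ⟨v, rfl⟩ := AdicCompletion.of_surjective (maximalIdeal A) (Fin n → A) y
  exact ⟨f v, (AdicCompletion.map_of (maximalIdeal A) f v).symm⟩

/-- Derivations into finite modules factor through the completed differentials. -/
theorem exists_lift_completion {k A M : Type u} [CommRing k] [CommRing A] [IsLocalRing A] [IsNoetherianRing A]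
    [Algebra k A] [IsAdicComplete (maximalIdeal A) A] [AddCommGroup M] [Module A M] [Module k M] [IsScalarTower k A M]
    [Module.Finite A M] (δ : Derivation k A M) :
    ∃ φ : AdicCompletion (maximalIdeal A) (Ω[A⁄k]) →ₗ[A] M,
      ∀ a, φ (AdicCompletion.of _ _ (KaehlerDifferential.D k A a)) = δ a := by
  haveI : IsAdicComplete (maximalIdeal A) M := H24Adic.isAdicComplete_of_finite _
  refine ⟨(AdicCompletion.ofLinearEquiv (maximalIdeal A) M).symm.toLinearMap ∘ₗ
    (AdicCompletion.map (maximalIdeal A) δ.liftKaehlerDifferential).restrictScalars A, fun a => ?_⟩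
  show (AdicCompletion.ofLinearEquiv (maximalIdeal A) M).symm
    (AdicCompletion.map (maximalIdeal A) δ.liftKaehlerDifferential (AdicCompletion.of _ _ (KaehlerDifferential.D k A a))) = δ a
  rw [AdicCompletion.map_of, Derivation.liftKaehlerDifferential_comp_D]
  exact (AdicCompletion.ofLinearEquiv (maximalIdeal A) M).symm_apply_apply _

/-- The differentials span the completed differentials. -/
theorem span_eq_top (k A : Type u) [Field k] [CommRing A] [IsLocalRing A] [IsNoetherianRing A] [Algebra k A]
    [IsAdicComplete (maximalIdeal A) A] [Module.Finite k (ResidueField A)] :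
    Submodule.span A (Set.range fun a => AdicCompletion.of (maximalIdeal A) (Ω[A⁄k]) (KaehlerDifferential.D k A a)) = ⊤ := by
  rw [eq_top_iff]
  intro z _
  obtain ⟨ω, rfl⟩ := (finite_and_surjective k A).2 z
  have hω : ω ∈ Submodule.span A (Set.range (KaehlerDifferential.D k A)) :=
    (KaehlerDifferential.span_range_derivation k A).symm ▸ trivial
  have h1 := Submodule.mem_map_of_mem (f := AdicCompletion.of (maximalIdeal A) (Ω[A⁄k])) hω
  rw [Submodule.map_span, ← Set.range_comp] at h1
  exact h1

/-- A finite algebraic set of generators of a maximal ideal of a polynomial ring over a field. -/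
theorem exists_local_generators {F : Type u} [Field F] {n : ℕ} (m : Ideal (MvPolynomial (Fin n) F)) [m.IsMaximal] :
    ∃ g : Fin n → MvPolynomial (Fin n) F, (∀ i, g i ∈ m) ∧
      ∀ z ∈ m, ∃ s, s ∉ m ∧ s * z ∈ Ideal.span (Set.range g) := by
  classical
  let B := Localization.AtPrime m
  haveI : IsRegularLocalRing B := IsRegularRing.isRegularLocalRing_localization m
  have hle : (maximalIdeal B).spanFinrank ≤ n := by
    have h1 := (IsRegularLocalRing.spanFinrank_maximalIdeal (R := B))
    have h2 : ringKrullDim B ≤ (n : WithBot ℕ∞) := by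
      rw [IsLocalization.AtPrime.ringKrullDim_eq_height m B]
      refine (Ideal.height_le_ringKrullDim_of_ne_top (Ideal.IsPrime.ne_top inferInstance)).trans ?_
      rw [MvPolynomial.ringKrullDim_of_isNoetherianRing, ringKrullDim_eq_zero_of_field]
      simp
    rw [← h1] at h2
    exact_mod_cast h2
  obtain ⟨G, hGc, hG⟩ := Submodule.FG.exists_span_finset_card_eq_spanFinrank (IsNoetherian.noetherian (maximalIdeal B))
  have hnum : ∀ z : G, ∃ a, a ∈ m ∧ ∃ u : B, IsUnit u ∧ algebraMap _ B a = u * z := fun z => by
    obtain ⟨⟨a, t⟩, hat⟩ := IsLocalization.surj m.primeCompl (z : B)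
    refine ⟨a, ?_, algebraMap _ B (t : MvPolynomial (Fin n) F), IsLocalization.map_units B t, by rw [← hat, mul_comm]⟩
    rw [← IsLocalization.AtPrime.to_map_mem_maximal_iff B m a, ← hat]
    exact Ideal.mul_mem_right _ _ (hG.le (Submodule.subset_span z.2))
  choose a ha u hu hau using hnum
  obtain ⟨ι⟩ : Nonempty (G ↪ Fin n) := Function.Embedding.nonempty_of_card_le (by
    rw [Fintype.card_coe, hGc, Fintype.card_fin]; exact hle)
  refine ⟨Function.extend ι a 0, fun i => ?_, fun z hz => ?_⟩
  · by_cases h : ∃ x, ι x = i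
    · obtain ⟨x, rfl⟩ := h
      rw [ι.injective.extend_apply]; exact ha x
    · rw [Function.extend_apply' _ _ _ h]; exact zero_mem _
  · have h1 : algebraMap _ B z ∈ (Ideal.span (Set.range (Function.extend ι a 0))).map (algebraMap _ B) := by
      have h2 : algebraMap _ B z ∈ maximalIdeal B := (IsLocalization.AtPrime.to_map_mem_maximal_iff B m z).2 hz
      rw [← hG] at h2
      refine Submodule.span_le.2 ?_ h2
      intro y hy
      have h3 : algebraMap _ B (a ⟨y, hy⟩) ∈ (Ideal.span (Set.range (Function.extend ι a 0))).map (algebraMap _ B) :=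
        Ideal.mem_map_of_mem _ (Ideal.subset_span ⟨ι ⟨y, hy⟩, ι.injective.extend_apply _ _ _⟩)
      rw [hau] at h3
      exact (Ideal.unit_mul_mem_iff_mem _ (hu _)).1 h3
    obtain ⟨s, hs, h3⟩ := (IsLocalization.algebraMap_mem_map_algebraMap_iff m.primeCompl B _ z).1 h1
    exact ⟨s, hs, h3⟩

/-- Derivations of a localisation from derivations of the ring, over abstract rings. -/
theorem exists_ext {S F L : Type u} [CommRing S] [CommRing F] [CommRing L] [Algebra S F] [Algebra S L] [Algebra F L]
    [IsScalarTower S F L] (M : Submonoid S) [IsLocalization M F] (f : S → S) (hadd : ∀ a b, f (a + b) = f a + f b)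
    (hmul : ∀ a b, f (a * b) = a * f b + b * f a) :
    ∃ Δ : Derivation ℤ F L, ∀ t, Δ (algebraMap S F t) = algebraMap S L (f t) := by
  haveI : Algebra.FormallyEtale S F := Algebra.FormallyEtale.of_isLocalization M
  let d : Derivation ℤ S L := Derivation.mk'
    (AddMonoidHom.mk' (fun t => algebraMap S L (f t)) fun a b => by rw [hadd, map_add]).toIntLinearMap fun a b => by
      show algebraMap S L (f (a * b)) = a • algebraMap S L (f b) + b • algebraMap S L (f a)
      rw [hmul, map_add, map_mul, map_mul, Algebra.smul_def, Algebra.smul_def]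
  obtain ⟨Δ, hΔ⟩ := NagataDer.exists_extend_localization (T := F) d
  exact ⟨Δ, hΔ⟩

/-- Linear combinations of derivations, with their dual number homomorphisms. -/
theorem exists_comb {F L : Type u} [CommRing F] [CommRing L] [Algebra F L] {s : ℕ} (v : Fin s → L)
    (Δ : Fin s → Derivation ℤ F L) :
    ∃ (D : Derivation ℤ F L) (θ : F →+* DualNumber L), (∀ t, D t = ∑ q, v q * Δ q t) ∧
      ∀ t, θ t = TrivSqZeroExt.inl (algebraMap F L t) + TrivSqZeroExt.inr (D t) := by
  obtain ⟨θ, hθ⟩ := NagataDer.exists_dual (∑ q, v q • Δ q)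
  refine ⟨_, θ, fun t => ?_, hθ⟩
  induction (Finset.univ : Finset (Fin s)) using Finset.induction_on with
  | empty => simp
  | insert a w ha ih => rw [Finset.sum_insert ha, Finset.sum_insert ha, Derivation.add_apply, Derivation.smul_apply, ih, smul_eq_mul]

set_option maxHeartbeats 2000000 in
/-- Independent bounded derivations of a finite extension of a power series ring. -/
theorem exists_derivations {k : Type u} [Field k] {s : ℕ} (R L : Type u) [CommRing R] [Algebra k R]
    [Algebra (MvPowerSeries (Fin s) k) R] [IsScalarTower k (MvPowerSeries (Fin s) k) R]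
    [Module.Finite (MvPowerSeries (Fin s) k) R] (hinj : Function.Injective (algebraMap (MvPowerSeries (Fin s) k) R))
    [Field L] [Algebra R L] [IsFractionRing R L] :
    ∃ (δ : Fin s → Derivation k R R), ∀ c : Fin s → L,
      (∀ r, ∑ i, c i * algebraMap R L (δ i r) = 0) → c = 0 := by
  classical
  let S := MvPowerSeries (Fin s) k
  let F := FractionRing S
  letI : Algebra S L := ((algebraMap R L).comp (algebraMap S R)).toAlgebra
  haveI : IsScalarTower S R L := IsScalarTower.of_algebraMap_eq fun _ => rfl
  have hinjSL : Function.Injective (algebraMap S L) := (IsFractionRing.injective R L).comp hinj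
  letI : Algebra F L := (IsFractionRing.lift hinjSL).toAlgebra
  haveI : IsScalarTower S F L := IsScalarTower.of_algebraMap_eq fun x => (IsFractionRing.lift_algebraMap hinjSL x).symm
  haveI : Algebra.IsIntegral S R := Algebra.IsIntegral.of_finite _ _
  obtain ⟨n, y₀, hy₀⟩ := Submodule.fg_iff_exists_fin_generating_family.1 (Module.Finite.fg_top (R := S) (M := R))
  let y : Fin n → L := fun i => algebraMap R L (y₀ i)
  let ev : MvPolynomial (Fin n) F →ₐ[F] L := MvPolynomial.aeval y
  have hint : ∀ c : R, IsIntegral F (algebraMap R L c) := fun c =>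
    (IsIntegral.map (IsScalarTower.toAlgHom S R L) (Algebra.IsIntegral.isIntegral (R := S) c)).tower_top
  have hRmem : ∀ r : R, algebraMap R L r ∈ ev.range := by
    intro r
    have hr : r ∈ Submodule.span S (Set.range y₀) := hy₀ ▸ trivial
    obtain ⟨c, rfl⟩ := (Submodule.mem_span_range_iff_exists_fun S).1 hr
    refine ⟨∑ i, MvPolynomial.C (algebraMap S F (c i)) * MvPolynomial.X i, ?_⟩
    simp [ev, y, map_sum, Algebra.smul_def, ← IsScalarTower.algebraMap_apply]
  have hev : Function.Surjective ev := by
    intro z
    obtain ⟨a, b, -, rfl⟩ := IsFractionRing.div_surjective (A := R) z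
    have hbi : (algebraMap R L b)⁻¹ ∈ ev.range :=
      ev.range.inv_mem_of_algebraic (x := ⟨_, hRmem b⟩) (hint b).isAlgebraic
    obtain ⟨w, hw⟩ := mul_mem (hRmem a) hbi
    exact ⟨w, hw.trans (div_eq_mul_inv _ _).symm⟩
  let m := RingHom.ker ev.toRingHom
  haveI : m.IsMaximal := RingHom.ker_isMaximal_of_surjective ev.toRingHom hev
  obtain ⟨g, hgm, hg⟩ := exists_local_generators m
  -- the derivations of the coefficients
  choose Δ hΔ using fun j : Fin s => exists_ext (F := F) (L := L) (nonZeroDivisors S) (MvPowerSeries.pderiv k j)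
    (map_add _) fun a b => by rw [Derivation.leibniz, smul_eq_mul, smul_eq_mul]
  choose l μ c γ hsnd using fun i => NagataDer.exists_snd_eval (L := L) y (g i)
  let E : (Fin s → L) × (Fin n → L) →ₗ[L] (Fin n → L) :=
    { toFun := fun w i => ∑ j, μ i j * (∑ q, w.1 q * Δ q (c i j)) + ∑ j, γ i j * w.2 j
      map_add' := fun a b => funext fun i => by
        simp only [Prod.fst_add, Prod.snd_add, Pi.add_apply, add_mul, mul_add, Finset.sum_add_distrib]
        ring
      map_smul' := fun r a => funext fun i => by
        simp only [Prod.smul_fst, Prod.smul_snd, Pi.smul_apply, smul_eq_mul, RingHom.id_apply, mul_add, Finset.mul_sum]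
        congr 1
        · exact Finset.sum_congr rfl fun _ _ => Finset.sum_congr rfl fun _ _ => by ring
        · exact Finset.sum_congr rfl fun _ _ => by ring }
  have hker : s ≤ Module.finrank L (LinearMap.ker E) := by
    have h1 := LinearMap.finrank_range_add_finrank_ker E
    rw [Module.finrank_prod, Module.finrank_fin_fun, Module.finrank_fin_fun] at h1
    have h2 := Submodule.finrank_le (LinearMap.range E)
    rw [Module.finrank_fin_fun] at h2
    omega
  obtain ⟨w, hw⟩ := exists_linearIndependent_of_le_finrank hker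
  -- the derivations of `L`
  have hD : ∀ e : Fin s, ∃ D : Derivation ℤ L L, (∀ i, D (y i) = (w e : (Fin s → L) × (Fin n → L)).2 i) ∧
      ∀ t : S, D (algebraMap S L t) = ∑ q, (w e : (Fin s → L) × (Fin n → L)).1 q * algebraMap S L (MvPowerSeries.pderiv k q t) := by
    intro e
    obtain ⟨⟨v, u⟩, hvu⟩ := w e
    obtain ⟨Δv, θ, hΔv, hθ⟩ := exists_comb v Δ
    let H := MvPolynomial.eval₂Hom θ fun i => TrivSqZeroExt.inl (y i) + TrivSqZeroExt.inr (u i)
    have hHf : ∀ z, (H z).fst = ev z := fun z => by
      obtain ⟨l', μ', c', γ', h'⟩ := NagataDer.exists_snd_eval (L := L) y z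
      exact (h' Δv θ u hθ).1
    have hHg : ∀ i, H (g i) = 0 := fun i => by
      obtain ⟨h1, h2⟩ := hsnd i Δv θ u hθ
      refine TrivSqZeroExt.ext (h1.trans (hgm i)) (h2.trans ?_)
      simp only [hΔv]
      exact congrFun (LinearMap.mem_ker.1 hvu) i
    have hHm : ∀ z, ev z = 0 → H z = 0 := fun z hz => by
      obtain ⟨t, ht, htz⟩ := hg z hz
      have h1 : H (t * z) = 0 := by
        refine (Ideal.span_le (I := RingHom.ker H)).2 ?_ htz
        rintro _ ⟨i, rfl⟩
        exact hHg i
      rw [map_mul] at h1
      refine (IsUnit.mul_right_eq_zero ?_).1 h1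
      rw [TrivSqZeroExt.isUnit_iff_isUnit_fst, hHf]
      exact IsUnit.mk0 _ ht
    let Hb : L →+* DualNumber L := RingHom.liftOfSurjective ev.toRingHom hev ⟨H, fun z hz => hHm z hz⟩
    have hHb : ∀ z, Hb (ev z) = H z := fun z =>
      RingHom.liftOfRightInverse_comp_apply _ _ _ ⟨H, fun z hz => hHm z hz⟩ z
    obtain ⟨D, hD⟩ := NagataDer.exists_of_dual Hb fun z => by
      obtain ⟨z, rfl⟩ := hev z
      rw [hHb, hHf]
      rfl
    refine ⟨D, fun i => ?_, fun t => ?_⟩
    · rw [show y i = ev (MvPolynomial.X i) from (MvPolynomial.aeval_X y i).symm, hD, hHb]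
      simp [H]
    · rw [show algebraMap S L t = ev (MvPolynomial.C (algebraMap S F t)) by
        rw [MvPolynomial.aeval_C, ← IsScalarTower.algebraMap_apply], hD, hHb]
      simp [H, hθ, hΔv, hΔ]
  choose D hDy hDS using hD
  -- clearing denominators
  have hb : ∀ e : Fin s, ∃ b : R, b ∈ nonZeroDivisors R ∧ (∀ i, ∃ r, algebraMap R L r = algebraMap R L b * (w e : (Fin s → L) × (Fin n → L)).2 i) ∧
      ∀ q, ∃ r, algebraMap R L r = algebraMap R L b * (w e : (Fin s → L) × (Fin n → L)).1 q := fun e => by
    obtain ⟨⟨b, hb⟩, hbr⟩ := IsLocalization.exist_integer_multiples_of_finite (nonZeroDivisors R)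
      (Sum.elim (w e : (Fin s → L) × (Fin n → L)).2 (w e : (Fin s → L) × (Fin n → L)).1)
    refine ⟨b, hb, fun i => ?_, fun q => ?_⟩
    · obtain ⟨r, hr⟩ := hbr (Sum.inl i)
      exact ⟨r, hr.trans (Algebra.smul_def _ _)⟩
    · obtain ⟨r, hr⟩ := hbr (Sum.inr q)
      exact ⟨r, hr.trans (Algebra.smul_def _ _)⟩
  choose b hb0 hbu hbv using hb
  choose ru hru using hbu
  choose rv hrv using hbv
  have hbdd : ∀ e r, ∃ r', algebraMap R L r' = algebraMap R L (b e) * D e (algebraMap R L r) := by
    intro e r
    have hr : r ∈ Submodule.span S (Set.range y₀) := hy₀ ▸ trivial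
    obtain ⟨cc, rfl⟩ := (Submodule.mem_span_range_iff_exists_fun S).1 hr
    refine ⟨∑ i, (algebraMap S R (cc i) * ru e i +
      y₀ i * ∑ q, rv e q * algebraMap S R (MvPowerSeries.pderiv k q (cc i))), ?_⟩
    rw [map_sum, map_sum, map_sum, Finset.mul_sum]
    refine Finset.sum_congr rfl fun i _ => ?_
    rw [Algebra.smul_def, map_mul, map_add, map_mul, map_mul, map_sum, Derivation.leibniz, smul_eq_mul, smul_eq_mul,
      show algebraMap R L (y₀ i) = y i from rfl, hDy, ← IsScalarTower.algebraMap_apply S R L, hDS, hru,
      Finset.mul_sum, Finset.mul_sum, mul_add, Finset.mul_sum]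
    refine congrArg₂ (· + ·) (by ring) (Finset.sum_congr rfl fun q _ => ?_)
    rw [map_mul, hrv, ← IsScalarTower.algebraMap_apply S R L]
    ring
  choose d hd using hbdd
  have hinjR := IsFractionRing.injective R L
  have hk : ∀ e (t : k), D e (algebraMap R L (algebraMap k R t)) = 0 := fun e t => by
    rw [IsScalarTower.algebraMap_apply k S R, ← IsScalarTower.algebraMap_apply S R L, hDS]
    refine Finset.sum_eq_zero fun q _ => ?_
    rw [show MvPowerSeries.pderiv k q (algebraMap k S t) = 0 from Derivation.map_algebraMap _ _, map_zero, mul_zero]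
  let δ : Fin s → Derivation k R R := fun e => Derivation.mk'
    { toFun := d e
      map_add' := fun x z => hinjR (by rw [hd, map_add, map_add, map_add, hd, hd, mul_add])
      map_smul' := fun t x => hinjR (by
        rw [hd, RingHom.id_apply, Algebra.smul_def t x, map_mul, Derivation.leibniz, hk, smul_zero, add_zero,
          Algebra.smul_def t (d e x), map_mul, hd, smul_eq_mul]
        ring) }
    fun x z => hinjR (by
      show algebraMap R L (d e (x * z)) = algebraMap R L (x * d e z + z * d e x)
      rw [hd, map_mul, Derivation.leibniz, map_add, map_mul, map_mul, hd, hd, smul_eq_mul, smul_eq_mul]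
      ring)
  refine ⟨δ, fun a ha => ?_⟩
  have hδ : ∀ e r, algebraMap R L (δ e r) = algebraMap R L (b e) * D e (algebraMap R L r) := hd
  simp only [hδ] at ha
  have h2 : ∑ e, (a e * algebraMap R L (b e)) • (w e : (Fin s → L) × (Fin n → L)) = 0 := by
    refine Prod.ext (funext fun q => ?_) (funext fun i => ?_)
    · have h3 := ha (algebraMap S R (MvPowerSeries.X q))
      simp only [← IsScalarTower.algebraMap_apply S R L, hDS, MvPowerSeries.pderiv_X] at h3
      simp only [Pi.single_apply, apply_ite (algebraMap S L), map_one, map_zero, mul_ite, mul_one, mul_zero,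
        Finset.sum_ite_eq, Finset.sum_ite_eq', Finset.mem_univ, if_true] at h3
      simpa [Prod.fst_sum, mul_assoc] using h3
    · have h3 := ha (y₀ i)
      simp only [show algebraMap R L (y₀ i) = y i from rfl, hDy] at h3
      simpa [Prod.snd_sum, mul_assoc] using h3
  have h4 := Fintype.linearIndependent_iff.1 hw (fun e => a e * algebraMap R L (b e)) (Subtype.ext (by simpa using h2))
  haveI : Nontrivial R := (algebraMap R L).domain_nontrivial
  funext e
  exact (mul_eq_zero.1 (h4 e)).resolve_right fun h => nonZeroDivisors.coe_ne_zero ⟨b e, hb0 e⟩ (hinjR (h.trans (map_zero _).symm))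

end Groth.Agent.H05EGA4.CKBase
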