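import Groth.Agent.H05EGA4.CKFree

/-! Etale parameters at primes on top dimensional components. -/

set_option autoImplicit false
set_option linter.style.haveILetI false
set_option maxHeartbeats 1000000

open IsLocalRing TensorProduct

universe u

namespace Groth.Agent.H05EGA4.CKEtale2

/-- Generators in number the dimension give etale parameters. -/
theorem exists_etale {k A : Type u} [Field k] [CommRing A] [IsLocalRing A] [IsNoetherianRing A] [Algebra k A]
    [IsAdicComplete (maximalIdeal A) A] [Module.Finite k (ResidueField A)] (p q : Ideal A) [p.IsPrime] [q.IsPrime]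
    (hp : p ≠ maximalIdeal A) (hqp : q ≤ p) {n : ℕ} (hn : ringKrullDim A = n) (hq : ringKrullDim (A ⧸ q) = n)
    (hr : Module.finrank p.ResidueField (p.ResidueField ⊗[A] AdicCompletion (maximalIdeal A) (Ω[A⁄k])) ≤ n) :
    ∃ (_ : Algebra (MvPowerSeries (Fin n) k) A) (_ : IsScalarTower k (MvPowerSeries (Fin n) k) A),
      IsLocalHom (algebraMap (MvPowerSeries (Fin n) k) A) ∧ Module.Finite (MvPowerSeries (Fin n) k) A ∧
        Algebra.IsEtaleAt (MvPowerSeries (Fin n) k) p := by
  obtain ⟨hA, hT, hloc, hfin, hu⟩ := CKEtale.exists_unramified p hp hn le_rfl hr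
  refine ⟨hA, hT, hloc, hfin, ?_⟩
  let S := MvPowerSeries (Fin n) k
  haveI : IsRegularLocalRing S := H02CA.PS.isRegularLocalRing_fin n
  haveI : IsDomain S := NoZeroDivisors.to_isDomain _
  haveI : IsIntegrallyClosed S := isIntegrallyClosed_of_isRegularLocalRing S
  haveI := hfin
  haveI := hu
  refine (CKFlat.isEtaleAt p q hqp ?_).1
  by_contra hne
  obtain ⟨r, hr0, hr'⟩ := Submodule.exists_mem_ne_zero_of_ne_bot hne
  let Q := q.under S
  haveI : Module.Finite (S ⧸ Q) (A ⧸ q) := Module.Finite.of_restrictScalars_finite S _ _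
  haveI : Algebra.IsIntegral (S ⧸ Q) (A ⧸ q) := Algebra.IsIntegral.of_finite _ _
  have h1 := (dim_int (S ⧸ Q) (A ⧸ q)).1
  have h2 : ringKrullDim (S ⧸ Q) ≤ ringKrullDim (S ⧸ Ideal.span {r}) :=
    ringKrullDim_le_of_surjective (Ideal.Quotient.factor ((Ideal.span_singleton_le_iff_mem _).2 hr0))
      (Ideal.Quotient.factor_surjective _)
  have h3 := ringKrullDim_quotient_succ_le_of_nonZeroDivisor (mem_nonZeroDivisors_of_ne_zero hr')
  rw [H02CA.PS.ringKrullDim_eq] at h3
  have h4 : ((n : ℕ) : WithBot ℕ∞) + 1 ≤ ((n : ℕ∞) : WithBot ℕ∞) :=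
    le_trans (add_le_add_left ((hq.symm.le.trans h1).trans h2) 1) h3
  have h5 : ((n + 1 : ℕ) : WithBot ℕ∞) ≤ ((n : ℕ) : WithBot ℕ∞) := by exact_mod_cast h4
  exact absurd (Nat.cast_le.1 h5) (by omega)

end Groth.Agent.H05EGA4.CKEtale2
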