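import Groth.Agent.H05EGA4.CKLift
import Groth.Agent.H05EGA4.CKEtale2
import Groth.Agent.H05EGA4.RegHomFS

/-! Completed base change of algebras etale over power series at a prime. -/

set_option autoImplicit false
set_option linter.style.haveILetI false
set_option maxHeartbeats 2000000

universe u

open IsLocalRing TensorProduct Groth.Agent

namespace Groth.Agent.H05EGA4.CKChange

/-- Regularity of the completed base change at a prime over an etale prime of a quotient. -/
theorem isRegular_baseChange (k A : Type u) [Field k] [CommRing A] [IsLocalRing A] [IsNoetherianRing A] [Algebra k A]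
    [IsAdicComplete (maximalIdeal A) A] [Module.Finite k (ResidueField A)] (J : Ideal A) (n : ℕ)
    [Algebra (MvPowerSeries (Fin n) k) (A ⧸ J)] [IsScalarTower k (MvPowerSeries (Fin n) k) (A ⧸ J)]
    [Module.Finite (MvPowerSeries (Fin n) k) (A ⧸ J)] [IsLocalRing (A ⧸ J)]
    [IsLocalHom (algebraMap (MvPowerSeries (Fin n) k) (A ⧸ J))]
    (k' : Type u) [Field k'] [Algebra k k'] [IsAdicComplete (maximalIdeal k') k']
    (p' : Ideal (EGA4.CTensor k A k')) [p'.IsPrime]
    (hJ : ∀ x ∈ J.map (algebraMap A (EGA4.CTensor k A k')),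
      algebraMap (EGA4.CTensor k A k') (Localization.AtPrime p') x = 0)
    (p1 : Ideal (A ⧸ J)) [p1.IsPrime] [Algebra.IsEtaleAt (MvPowerSeries (Fin n) k) p1]
    (hp1 : p1.comap (Ideal.Quotient.mk J) = p'.comap (algebraMap A (EGA4.CTensor k A k'))) :
    IsRegularLocalRing (Localization.AtPrime p') := by
  let R := A ⊗[k] k'
  let I := EGA4.cTensorIdeal k A k'
  let C := EGA4.CTensor k A k'
  have hIfg : I.FG := CT.fg k A k'
  haveI : IsNoetherianRing C := CT.isNoetherianRing_cTensor k A k'
  let S := MvPowerSeries (Fin n) k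
  let S' := MvPowerSeries (Fin n) k'
  let A1 := A ⧸ J
  letI : Algebra S S' := (MvPowerSeries.map (algebraMap k k')).toAlgebra
  haveI : IsScalarTower k S S' := IsScalarTower.of_algebraMap_eq fun c => by
    show _ = MvPowerSeries.map (algebraMap k k') (MvPowerSeries.C c)
    rw [MvPowerSeries.map_C, IsScalarTower.algebraMap_apply k k' S']
    exact MvPowerSeries.algebraMap_apply
  let T := S' ⊗[S] A1
  haveI : IsRegularLocalRing S' := H02CA.PS.isRegularLocalRing_fin n
  haveI : IsAdicComplete (Ideal.span (Set.range (MvPowerSeries.X : Fin n → S'))) S' := inferInstance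
  let V0 : Ideal S' := Ideal.span (Set.range MvPowerSeries.X)
  haveI : Module.Finite S' T := inferInstance
  haveI : IsNoetherianRing T := IsNoetherianRing.of_finite S' T
  let W : Ideal T := V0.map (algebraMap S' T)
  haveI : IsAdicComplete W T := (IsAdicComplete.map_algebraMap_iff (R := S') (S := T) (M := T) V0).mpr (H24Adic.isAdicComplete_of_finite V0)
  let j : A →ₐ[k] T :=
    { (Algebra.TensorProduct.includeRight : A1 →ₐ[S] T).toRingHom.comp (Ideal.Quotient.mk J) with
      commutes' := fun c => by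
        show (Algebra.TensorProduct.includeRight : A1 →ₐ[S] T) (algebraMap k A1 c) = _
        rw [IsScalarTower.algebraMap_apply k S A1, AlgHom.commutes, ← IsScalarTower.algebraMap_apply k S T] }
  let jk : k' →ₐ[k] T := (IsScalarTower.toAlgHom k S' T).comp (IsScalarTower.toAlgHom k k' S')
  let φ : R →ₐ[k] T := Algebra.TensorProduct.lift j jk fun _ _ => Commute.all _ _
  have hφa : ∀ a : A, φ (algebraMap A R a) = (1 : S') ⊗ₜ[S] Ideal.Quotient.mk J a := fun a => by
    show φ (a ⊗ₜ 1) = _
    rw [Algebra.TensorProduct.lift_tmul, map_one, mul_one]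
    rfl
  -- continuity
  let J1 := I.map φ.toRingHom ⊔ W
  have hIeq : I = (maximalIdeal A).map (algebraMap A R) := by
    show EGA4.cTensorIdeal k A k' = _
    rw [EGA4.cTensorIdeal, maximalIdeal_eq_bot, Ideal.map_bot, sup_bot_eq]
    rfl
  haveI : IsNoetherianRing A1 := inferInstance
  obtain ⟨a, ha⟩ : ∃ a, maximalIdeal A1 ^ a ≤ (Ideal.span (Set.range (MvPowerSeries.X : Fin n → S))).map (algebraMap S A1) := by
    refine Ideal.exists_pow_le_of_le_radical_of_fg ?_ (IsNoetherian.noetherian _)
    rw [Ideal.radical_eq_sInf]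
    refine le_sInf fun P ⟨hP, hPp⟩ => ?_
    haveI := hPp
    have hc : (P.comap (algebraMap S A1)).IsMaximal := by
      have h2 : maximalIdeal S ≤ P.comap (algebraMap S A1) := by
        refine le_trans ?_ (Ideal.map_le_iff_le_comap.1 hP)
        intro f hf
        have h0 : MvPowerSeries.constantCoeff f = 0 := by
          by_contra hne
          exact hf (MvPowerSeries.isUnit_iff_constantCoeff.2 (IsUnit.mk0 _ hne))
        exact H02CA.PS.mem_vars_iff.2 h0
      rw [← (maximalIdeal.isMaximal S).eq_of_le (Ideal.comap_ne_top _ hPp.ne_top) h2]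
      exact maximalIdeal.isMaximal S
    haveI : Algebra.IsIntegral S A1 := Algebra.IsIntegral.of_finite _ _
    exact (IsLocalRing.eq_maximalIdeal (Ideal.isMaximal_of_isIntegral_of_isMaximal_comap P hc)).ge
  have hIW : (I.map φ.toRingHom) ^ a ≤ W := by
    rw [← Ideal.map_pow, hIeq, ← Ideal.map_pow, Ideal.map_map, Ideal.map_le_iff_le_comap]
    intro x hx
    rw [Ideal.mem_comap]
    show φ (algebraMap A R x) ∈ W
    rw [hφa]
    have h1 : Ideal.Quotient.mk J x ∈ maximalIdeal A1 ^ a := by
      have := Ideal.mem_map_of_mem (Ideal.Quotient.mk J) hx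
      rw [Ideal.map_pow] at this
      exact Ideal.pow_right_mono (le_of_eq (IsLocalRing.map_maximalIdeal_of_surjective _ Ideal.Quotient.mk_surjective)) a this
    have h2 := Ideal.mem_map_of_mem (Algebra.TensorProduct.includeRight : A1 →ₐ[S] T).toRingHom (ha h1)
    rw [Ideal.map_map, Ideal.map_span, ← Set.range_comp] at h2
    refine Ideal.span_le.2 ?_ h2
    rintro _ ⟨i, rfl⟩
    show (Algebra.TensorProduct.includeRight : A1 →ₐ[S] T) (algebraMap S A1 (MvPowerSeries.X i)) ∈ W
    rw [AlgHom.commutes, IsScalarTower.algebraMap_apply S S' T]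
    refine Ideal.mem_map_of_mem _ (Ideal.subset_span ⟨i, ?_⟩)
    exact (MvPowerSeries.map_X (algebraMap k k') i).symm
  haveI : IsAdicComplete J1 T := H24Adic.isAdicComplete_of_pow_le (I := W) (a := a + 1) (b := 1)
    (by
      refine le_trans (Ideal.sup_pow_add_le_pow_sup_pow (n := a) (m := 1)) (sup_le hIW ?_)
      rw [pow_one]) (by rw [pow_one]; exact le_sup_right) T
  obtain ⟨Φ, hΦ⟩ := CKLift.exists_lift I J1 φ.toRingHom le_sup_left
  -- the quotient of the completion
  let JC := J.map (algebraMap A C)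
  let C1 := C ⧸ JC
  let mC : C →+* C1 := Ideal.Quotient.mk JC
  let IC := I.map (algebraMap R C)
  haveI : IsAdicComplete IC C := AdicCompletion.isAdicComplete_self I hIfg
  let IC1 := IC.map mC
  haveI : IsAdicComplete IC1 C1 := H24Adic.isAdicComplete_map_quotient JC
  letI : Algebra k' C1 := ((mC.comp (algebraMap R C)).comp (Algebra.TensorProduct.includeRight : k' →ₐ[k] R).toRingHom).toAlgebra
  have hmA : ∀ x ∈ maximalIdeal A, mC (algebraMap A C x) ∈ IC1 := fun x hx => by
    rw [IsScalarTower.algebraMap_apply A R C]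
    exact Ideal.mem_map_of_mem _ (Ideal.mem_map_of_mem _ (by rw [hIeq]; exact Ideal.mem_map_of_mem _ hx))
  choose ξ hξ using fun i : Fin n => Ideal.Quotient.mk_surjective (I := J) (algebraMap S A1 (MvPowerSeries.X i))
  have hξm : ∀ i, ξ i ∈ maximalIdeal A := fun i => by
    by_contra hu
    have h1 : IsUnit (algebraMap S A1 (MvPowerSeries.X i)) := hξ i ▸ (IsLocalRing.notMem_maximalIdeal.1 hu).map _
    have h2 := MvPowerSeries.isUnit_iff_constantCoeff.1 ((isUnit_map_iff (algebraMap S A1) _).1 h1)
    rw [MvPowerSeries.constantCoeff_X] at h2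
    exact not_isUnit_zero h2
  obtain ⟨χ, hχ⟩ := H02CA.PS.exists_algHom (R := k') (σ := Fin n) IC1 (fun i => mC (algebraMap A C (ξ i)))
    fun i => hmA _ (hξm i)
  letI : Algebra S C1 := (χ.toRingHom.comp (algebraMap S S')).toAlgebra
  let q1 : A1 →+* C1 := Ideal.Quotient.lift J (mC.comp (algebraMap A C)) fun x hx =>
    Ideal.Quotient.eq_zero_iff_mem.2 (Ideal.mem_map_of_mem _ hx)
  have hq1 : ∀ s : S, q1 (algebraMap S A1 s) = χ (algebraMap S S' s) := by
    letI : Algebra k C1 := (mC.comp (algebraMap k C)).toAlgebra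
    let u : S →ₐ[k] C1 :=
      { q1.comp (algebraMap S A1) with
        commutes' := fun c => by
          show q1 (algebraMap S A1 (algebraMap k S c)) = mC (algebraMap k C c)
          rw [← IsScalarTower.algebraMap_apply k S A1]
          show mC (algebraMap A C (algebraMap k A c)) = _
          rw [← IsScalarTower.algebraMap_apply k A C] }
    let v : S →ₐ[k] C1 :=
      { χ.toRingHom.comp (algebraMap S S') with
        commutes' := fun c => by
          show χ (algebraMap S S' (algebraMap k S c)) = mC (algebraMap k C c)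
          rw [← IsScalarTower.algebraMap_apply k S S', IsScalarTower.algebraMap_apply k k' S', AlgHom.commutes]
          show mC (algebraMap R C ((Algebra.TensorProduct.includeRight : k' →ₐ[k] R) (algebraMap k k' c))) = _
          rw [AlgHom.commutes, ← IsScalarTower.algebraMap_apply k R C] }
    have huv : ∀ i, u (MvPowerSeries.X i) = v (MvPowerSeries.X i) := fun i => by
      show q1 (algebraMap S A1 (MvPowerSeries.X i)) = χ (MvPowerSeries.map (algebraMap k k') (MvPowerSeries.X i))
      rw [MvPowerSeries.map_X, hχ, ← hξ i]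
      rfl
    have huI : ∀ i, u (MvPowerSeries.X i) ∈ IC1 := fun i => by
      show q1 (algebraMap S A1 (MvPowerSeries.X i)) ∈ IC1
      rw [← hξ i]
      exact hmA _ (hξm i)
    exact fun s => AlgHom.congr_fun (H02CA.PS.algHom_ext IC1 huI huv) s
  let ψ : T →+* C1 := (Algebra.TensorProduct.lift
    ({ χ.toRingHom with commutes' := fun s => rfl } : S' →ₐ[S] C1)
    ({ q1 with commutes' := fun s => hq1 s } : A1 →ₐ[S] C1) fun _ _ => Commute.all _ _).toRingHom
  have hψ1 : ∀ (s : S') (x : A1), ψ (s ⊗ₜ[S] x) = χ s * q1 x := fun s x => Algebra.TensorProduct.lift_tmul _ _ _ s x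
  have hφgen : ∀ (x : A) (c : k'), φ (x ⊗ₜ[k] c) = algebraMap k' S' c ⊗ₜ[S] Ideal.Quotient.mk J x := fun x c => by
    rw [Algebra.TensorProduct.lift_tmul]
    show ((1 : S') ⊗ₜ[S] Ideal.Quotient.mk J x) * (algebraMap k' S' c ⊗ₜ[S] (1 : A1)) = _
    rw [Algebra.TensorProduct.tmul_mul_tmul, one_mul, mul_one]
  have hψφ : ∀ r : R, ψ (φ r) = mC (algebraMap R C r) := fun r => by
    induction r using TensorProduct.induction_on with
    | zero => simp
    | add x y hx hy => rw [map_add, map_add, hx, hy, map_add, map_add]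
    | tmul x c =>
      rw [hφgen, hψ1, AlgHom.commutes]
      show mC (algebraMap R C ((1 : A) ⊗ₜ c)) * mC (algebraMap A C x) = _
      rw [IsScalarTower.algebraMap_apply A R C, ← map_mul, ← map_mul]
      congr 2
      show ((1 : A) ⊗ₜ[k] c) * (x ⊗ₜ[k] (1 : k')) = _
      rw [Algebra.TensorProduct.tmul_mul_tmul, one_mul, mul_one]
  have hcomp : ψ.comp Φ = mC := by
    refine CKLift.hom_ext I hIfg IC1 _ _ (fun x => (congrArg ψ (hΦ x)).trans (hψφ x)) ?_
    rw [RingHom.comp_assoc, show Φ.comp (algebraMap R C) = φ.toRingHom from RingHom.ext hΦ,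
      show ψ.comp φ.toRingHom = mC.comp (algebraMap R C) from RingHom.ext hψφ, ← Ideal.map_map]
  have hΦJ : ∀ x ∈ JC, Φ x = 0 := fun x hx => by
    have : JC ≤ RingHom.ker Φ := Ideal.map_le_iff_le_comap.2 fun z hz => by
      show Φ (algebraMap A C z) = 0
      rw [IsScalarTower.algebraMap_apply A R C, hΦ]
      show φ (algebraMap A R z) = 0
      rw [hφa, Ideal.Quotient.eq_zero_iff_mem.2 hz, tmul_zero]
    exact this hx
  let Φ1 : C1 →+* T := Ideal.Quotient.lift JC Φ hΦJ
  have hinv1 : ∀ y, ψ (Φ1 y) = y := fun y => by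
    obtain ⟨c, rfl⟩ := Ideal.Quotient.mk_surjective y
    exact RingHom.congr_fun hcomp c
  have hinv2 : ∀ z, Φ1 (ψ z) = z := by
    have hA1 : ∀ x : A1, Φ1 (q1 x) = (1 : S') ⊗ₜ[S] x := fun x => by
      obtain ⟨x, rfl⟩ := Ideal.Quotient.mk_surjective x
      show Φ (algebraMap A C x) = _
      rw [IsScalarTower.algebraMap_apply A R C, hΦ]
      exact hφa x
    have hS' : ∀ s : S', Φ1 (χ s) = algebraMap S' T s := by
      let u : S' →ₐ[k'] T :=
        { Φ1.comp χ.toRingHom with
          commutes' := fun c => by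
            show Φ1 (χ (algebraMap k' S' c)) = _
            rw [AlgHom.commutes]
            show Φ (algebraMap R C ((1 : A) ⊗ₜ[k] c)) = _
            rw [hΦ]
            show φ ((1 : A) ⊗ₜ[k] c) = _
            rw [hφgen, map_one, IsScalarTower.algebraMap_apply k' S' T]
            rfl }
      have hu : ∀ i, u (MvPowerSeries.X i) = IsScalarTower.toAlgHom k' S' T (MvPowerSeries.X i) := fun i => by
        show Φ1 (χ (MvPowerSeries.X i)) = _
        rw [hχ]
        show Φ (algebraMap A C (ξ i)) = algebraMap S' T (MvPowerSeries.X i)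
        rw [IsScalarTower.algebraMap_apply A R C, hΦ]
        show φ (algebraMap A R (ξ i)) = _
        rw [hφa, hξ]
        show (Algebra.TensorProduct.includeRight : A1 →ₐ[S] T) (algebraMap S A1 (MvPowerSeries.X i)) = _
        rw [AlgHom.commutes, IsScalarTower.algebraMap_apply S S' T]
        congr 1
        exact MvPowerSeries.map_X (algebraMap k k') i
      exact fun s => AlgHom.congr_fun (H02CA.PS.algHom_ext W (fun i => by
        rw [hu]; exact Ideal.mem_map_of_mem _ (Ideal.subset_span ⟨i, rfl⟩)) hu) s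
    intro z
    induction z using TensorProduct.induction_on with
    | zero => simp
    | add x y hx hy => rw [map_add, map_add, hx, hy]
    | tmul s x =>
      rw [hψ1, map_mul, hS', hA1, Algebra.TensorProduct.algebraMap_apply, Algebra.TensorProduct.tmul_mul_tmul,
        Algebra.algebraMap_self, RingHom.id_apply, mul_one, one_mul]
  -- the primes
  have hle := CKLift.le_of_forall_eq_zero JC p' hJ
  haveI : (p'.map mC).IsPrime := Ideal.map_isPrime_of_surjective Ideal.Quotient.mk_surjective (by rwa [Ideal.mk_ker])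
  let P1 := (p'.map mC).comap ψ
  have hP1 : P1.comap (Algebra.TensorProduct.includeRight : A1 →ₐ[S] T).toRingHom = p1 := by
    ext x
    obtain ⟨x, rfl⟩ := Ideal.Quotient.mk_surjective x
    show ψ ((1 : S') ⊗ₜ[S] Ideal.Quotient.mk J x) ∈ p'.map mC ↔ _
    rw [hψ1, map_one, one_mul]
    show mC (algebraMap A C x) ∈ p'.map mC ↔ _
    rw [Ideal.mem_quotient_iff_mem hle]
    exact (Iff.trans (by rw [hp1]; rfl) (Ideal.mem_comap (f := Ideal.Quotient.mk J) (K := p1) (x := x)))
  -- etale
  haveI : Algebra.IsEtaleAt S' P1 := by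
    let B := Localization.AtPrime p1
    letI := (Algebra.TensorProduct.map (AlgHom.id S S') (IsScalarTower.toAlgHom S A1 B)).toRingHom.toAlgebra
    haveI := isLocalization_tensor_right S A1 B S' p1.primeCompl
    haveI : Algebra.FormallyEtale S B := ‹Algebra.IsEtaleAt S p1›
    haveI : IsScalarTower S' T (S' ⊗[S] B) := IsScalarTower.of_algebraMap_eq fun s => by
      show _ = Algebra.TensorProduct.map (AlgHom.id S S') (IsScalarTower.toAlgHom S A1 B) (s ⊗ₜ 1)
      simp
    let M := p1.primeCompl.map (Algebra.TensorProduct.includeRight : A1 →ₐ[S] T).toRingHom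
    have hM : M ≤ P1.primeCompl := by
      rintro _ ⟨x, hx, rfl⟩
      show (Algebra.TensorProduct.includeRight : A1 →ₐ[S] T) x ∉ P1
      exact fun h => hx (hP1 ▸ h)
    let Q := Localization.AtPrime P1
    letI : Algebra (S' ⊗[S] B) Q := (IsLocalization.map Q (RingHom.id T) (show M ≤ P1.primeCompl.comap (RingHom.id T) from fun x hx => hM hx) : (S' ⊗[S] B) →+* Q).toAlgebra
    haveI : IsScalarTower T (S' ⊗[S] B) Q := IsScalarTower.of_algebraMap_eq fun x => (IsLocalization.map_eq (show M ≤ P1.primeCompl.comap (RingHom.id T) from fun x hx => hM hx) x).symm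
    haveI : IsLocalization (P1.primeCompl.map (algebraMap T (S' ⊗[S] B))) Q :=
      IsLocalization.isLocalization_of_submonoid_le (S' ⊗[S] B) Q M P1.primeCompl hM
    haveI : IsScalarTower S' (S' ⊗[S] B) Q := IsScalarTower.to₁₃₄ S' T (S' ⊗[S] B) Q
    haveI : Algebra.FormallyEtale (S' ⊗[S] B) Q := Algebra.FormallyEtale.of_isLocalization (P1.primeCompl.map (algebraMap T (S' ⊗[S] B)))
    exact Algebra.FormallyEtale.comp S' (S' ⊗[S] B) Q
  have hreg := CKFree.isGeometricallyRegular_of_etale (k := k') (n := n) P1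
  haveI : IsRegularRing (k' ⊗[k'] Localization.AtPrime P1) := hreg k' inferInstance
  haveI : IsRegularRing (Localization.AtPrime P1) :=
    IsRegularRing.of_ringEquiv (R := k' ⊗[k'] Localization.AtPrime P1)
      (Algebra.TensorProduct.lid k' (Localization.AtPrime P1)).toRingEquiv
  haveI : IsRegularLocalRing (Localization.AtPrime P1) := IsRegularLocalRing.of_isRegularRing_of_isLocalRing _
  let e0 : T ≃+* C1 := { ψ with invFun := Φ1, left_inv := hinv2, right_inv := hinv1 }
  have he : P1.primeCompl.map e0.toMonoidHom = (p'.map mC).primeCompl := by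
    ext y
    constructor
    · rintro ⟨x, hx, rfl⟩
      exact hx
    · intro hy
      exact ⟨Φ1 y, fun h => hy (by have : ψ (Φ1 y) ∈ p'.map mC := h; rwa [hinv1] at this), hinv1 y⟩
  haveI : IsRegularLocalRing (Localization.AtPrime (p'.map mC)) := IsRegularLocalRing.of_ringEquiv (R := Localization.AtPrime P1)
    (IsLocalization.ringEquivOfRingEquiv (M := P1.primeCompl) (T := (p'.map mC).primeCompl)
      (Localization.AtPrime P1) (Localization.AtPrime (p'.map mC)) e0 he)
  obtain ⟨e, -⟩ := CKLift.nonempty_equiv JC p' hJ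
  exact IsRegularLocalRing.of_ringEquiv e

end Groth.Agent.H05EGA4.CKChange
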