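import Groth.Agent.H05EGA4.CKRank
import Groth.Agent.H05EGA4.CKBase

/-! Completed differentials of a quotient as a cokernel. -/

set_option autoImplicit false
set_option linter.style.haveILetI false
set_option maxHeartbeats 1000000

open IsLocalRing TensorProduct

universe u

namespace Groth.Agent.H05EGA4.CKCoker

/-- A cokernel of a map of free modules split at a prime is free there. -/
theorem free_of_split {A M : Type u} [CommRing A] [AddCommGroup M] [Module A M] {N m : ℕ}
    (W : Submodule A (Fin N → A)) (E : M ≃ₗ[A] (Fin N → A) ⧸ W) (p : Ideal A) [p.IsPrime]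
    (w : Fin m → (Fin N → A)) (hw : ∀ j, w j ∈ W) (hgen : ∀ x ∈ W, ∃ t, t ∉ p ∧ t • x ∈ Submodule.span A (Set.range w))
    (μ : Fin m → ((Fin N → A) →ₗ[A] A)) (hdet : Matrix.det (Matrix.of fun i j => μ i (w j)) ∉ p) :
    Module.Free (Localization.AtPrime p) (LocalizedModule p.primeCompl M) ∧
      Module.finrank (Localization.AtPrime p) (LocalizedModule p.primeCompl M) + m = N := by
  classical
  let Ap := Localization.AtPrime p
  let c := algebraMap A Ap
  let f := LocalizedModule.mkLinearMap p.primeCompl M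
  let e : Fin N → M := fun i => E.symm (Submodule.Quotient.mk (Pi.single i 1))
  let g : (Fin N → Ap) →ₗ[Ap] LocalizedModule p.primeCompl M := Fintype.linearCombination Ap fun i => f (e i)
  have hg : ∀ v : Fin N → A, g (fun i => c (v i)) = f (E.symm (Submodule.Quotient.mk v)) := fun v => by
    conv_rhs => rw [pi_eq_sum_univ' v]
    simp [g, c, e, Fintype.linearCombination_apply, Submodule.mkQ_apply, ← Submodule.mkQ_apply, map_sum,
      algebraMap_smul]
  have hgs : Function.Surjective g := by
    rw [← LinearMap.range_eq_top, Fintype.range_linearCombination]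
    refine (CKRank.span_localized_eq_top_iff p e).2 fun x => ⟨1, fun h => ‹p.IsPrime›.ne_top ((Ideal.eq_top_iff_one p).2 h), ?_⟩
    rw [one_smul]
    obtain ⟨v, hv⟩ := Submodule.Quotient.mk_surjective W (E x)
    rw [← E.symm_apply_apply x, ← hv, pi_eq_sum_univ' v]
    simp only [← Submodule.mkQ_apply, map_sum, map_smul]
    exact sum_mem fun i _ => Submodule.smul_mem _ _ (Submodule.subset_span ⟨i, rfl⟩)
  let l : (Fin m → Ap) →ₗ[Ap] (Fin N → Ap) := Fintype.linearCombination Ap fun j i => c (w j i)
  let G : Matrix (Fin m) (Fin m) Ap := Matrix.of fun i j => c (μ i (w j))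
  have hG : IsUnit G.det := by
    have : G.det = c (Matrix.det (Matrix.of fun i j => μ i (w j))) := by
      rw [RingHom.map_det]; rfl
    rw [this]
    exact IsLocalization.map_units Ap (⟨Matrix.det (Matrix.of fun i j => μ i (w j)), hdet⟩ : p.primeCompl)
  let μ' : (Fin N → Ap) →ₗ[Ap] (Fin m → Ap) :=
    LinearMap.pi fun i => Fintype.linearCombination Ap fun q => c (μ i (Pi.single q 1))
  have hμ' : ∀ (v : Fin N → A) i, μ' (fun q => c (v q)) i = c (μ i v) := fun v i => by
    conv_rhs => rw [pi_eq_sum_univ' v]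
    simp [μ', c, Fintype.linearCombination_apply, map_sum]
  let h : (Fin N → Ap) →ₗ[Ap] (Fin m → Ap) := G⁻¹.mulVecLin.comp μ'
  have hhl : ∀ x, h (l x) = x := fun x => by
    have h1 : μ' (l x) = G.mulVec x := by
      funext i
      simp [l, Fintype.linearCombination_apply, map_sum, Finset.sum_apply, hμ', G, Matrix.mulVec, dotProduct, mul_comm]
    show G⁻¹.mulVec (μ' (l x)) = x
    rw [h1, Matrix.mulVec_mulVec, Matrix.nonsing_inv_mul _ hG, Matrix.one_mulVec]
  have hker : LinearMap.ker g = LinearMap.range l := by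
    refine le_antisymm (fun x hx => ?_) ?_
    · obtain ⟨t, ht⟩ := IsLocalization.exist_integer_multiples_of_finite p.primeCompl x
      choose v hv using ht
      have hx' : (fun i => c (v i)) = (t : A) • x := funext fun i => hv i
      have h0 : f (E.symm (Submodule.Quotient.mk v)) = 0 := by
        rw [← hg, hx', g.map_smul_of_tower, LinearMap.mem_ker.1 hx, smul_zero]
      obtain ⟨s, hs⟩ := LocalizedModule.mem_ker_mkLinearMap_iff.1 (LinearMap.mem_ker.2 h0)
      have h1 : (s : A) • v ∈ W := by
        rw [← Submodule.Quotient.mk_eq_zero W, Submodule.Quotient.mk_smul, ← E.symm.map_eq_zero_iff, map_smul]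
        exact hs.2
      obtain ⟨t', ht', h2⟩ := hgen _ h1
      have h3 : (fun i => c ((t' • ((s : A) • v)) i)) ∈ LinearMap.range l := by
        obtain ⟨a, ha⟩ := (Submodule.mem_span_range_iff_exists_fun A).1 h2
        refine ⟨fun j => c (a j), funext fun i => ?_⟩
        rw [← ha]
        simp [l, c, Fintype.linearCombination_apply, Finset.sum_apply, map_sum, Algebra.smul_def]
      have hu : IsUnit (c (t' * (s : A) * (t : A))) := IsLocalization.map_units Ap
        (⟨t', ht'⟩ * ⟨(s : A), hs.1⟩ * t : p.primeCompl)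
      refine (Submodule.smul_mem_iff_of_isUnit _ hu).1 ?_
      convert h3 using 1
      funext i
      simp [c, ← mul_assoc, Algebra.smul_def]
      rw [hv, Algebra.smul_def, mul_assoc _ _ (x i)]
    · rintro _ ⟨a, rfl⟩
      rw [LinearMap.mem_ker]
      simp only [l, Fintype.linearCombination_apply, map_sum, map_smul, hg]
      refine Finset.sum_eq_zero fun j _ => ?_
      rw [(Submodule.Quotient.mk_eq_zero W).2 (hw j), map_zero, map_zero, smul_zero]
  let U := LinearMap.range l
  have hres : ∀ x ∈ U, (LinearMap.id - l.comp h : (Fin N → Ap) →ₗ[Ap] _) x = 0 := by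
    rintro _ ⟨a, rfl⟩
    simp [hhl]
  let sec : ((Fin N → Ap) ⧸ U) →ₗ[Ap] (Fin N → Ap) := U.liftQ (LinearMap.id - l.comp h) hres
  have hsec : U.mkQ.comp sec = LinearMap.id := Submodule.linearMap_qext _ (LinearMap.ext fun x => by
    show U.mkQ (x - l (h x)) = U.mkQ x
    rw [map_sub, (Submodule.Quotient.mk_eq_zero U).2 ⟨_, rfl⟩ |> fun h => (show U.mkQ (l _) = 0 from h), sub_zero])
  haveI : Module.Projective Ap ((Fin N → Ap) ⧸ U) := Module.Projective.of_split sec U.mkQ hsec
  haveI : Module.Free Ap ((Fin N → Ap) ⧸ U) := Module.free_of_flat_of_isLocalRing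
  let eM : ((Fin N → Ap) ⧸ U) ≃ₗ[Ap] LocalizedModule p.primeCompl M :=
    (Submodule.quotEquivOfEq _ _ hker.symm).trans (g.quotKerEquivOfSurjective hgs)
  refine ⟨Module.Free.of_equiv eM, ?_⟩
  have h0 : ∀ q, h (sec q) = 0 := fun q => by
    induction q using Submodule.Quotient.induction_on with
    | _ x =>
      show h (x - l (h x)) = 0
      rw [map_sub, hhl, sub_self]
  let eF : ((Fin m → Ap) × ((Fin N → Ap) ⧸ U)) ≃ₗ[Ap] (Fin N → Ap) := LinearEquiv.ofLinearMap
    (LinearMap.coprod l sec) (LinearMap.prod h U.mkQ)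
    (LinearMap.ext fun x => by show l (h x) + (x - l (h x)) = x; abel)
    (LinearMap.ext fun ⟨a, q⟩ => Prod.ext (by show h (l a + sec q) = a; rw [map_add, hhl, h0, add_zero])
      (by
        show U.mkQ (l a + sec q) = q
        rw [map_add, show U.mkQ (l a) = 0 from (Submodule.Quotient.mk_eq_zero U).2 ⟨_, rfl⟩, zero_add]
        exact LinearMap.congr_fun hsec q))
  have h3 := eF.finrank_eq
  rw [Module.finrank_prod, Module.finrank_fin_fun, Module.finrank_fin_fun, eM.finrank_eq] at h3
  rw [add_comm]; exact h3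

/-- The completed differentials of a quotient of an algebra with free completed differentials. -/
theorem exists_equiv {k R A : Type u} [Field k] [CommRing R] [IsLocalRing R] [IsNoetherianRing R] [Algebra k R]
    [IsAdicComplete (maximalIdeal R) R] [Module.Finite k (ResidueField R)]
    [CommRing A] [IsLocalRing A] [IsNoetherianRing A] [Algebra k A] [IsAdicComplete (maximalIdeal A) A]
    [Module.Finite k (ResidueField A)] (π : R →ₐ[k] A) (hπ : Function.Surjective π) {N : ℕ}
    (ε : AdicCompletion (maximalIdeal R) (Ω[R⁄k]) ≃ₗ[R] (Fin N → R)) :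
    ∃ (W : Submodule A (Fin N → A)), Nonempty (AdicCompletion (maximalIdeal A) (Ω[A⁄k]) ≃ₗ[A] (Fin N → A) ⧸ W) ∧
      W = Submodule.span A ((fun r i => π (ε (AdicCompletion.of _ _ (KaehlerDifferential.D k R r)) i)) ''
        (RingHom.ker π.toRingHom : Set R)) := by
  classical
  letI : Algebra R A := π.toRingHom.toAlgebra
  haveI : IsScalarTower k R A := IsScalarTower.of_algebraMap_eq fun c => (π.commutes c).symm
  haveI : Module.Finite R A := Module.Finite.of_surjective (Algebra.linearMap R A) hπ
  let ΩA := AdicCompletion (maximalIdeal A) (Ω[A⁄k])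
  let dR : Derivation k R (AdicCompletion (maximalIdeal R) (Ω[R⁄k])) :=
    (AdicCompletion.of (maximalIdeal R) (Ω[R⁄k])).compDer (KaehlerDifferential.D k R)
  let dA : Derivation k A ΩA := (AdicCompletion.of (maximalIdeal A) (Ω[A⁄k])).compDer (KaehlerDifferential.D k A)
  let pr : (Fin N → R) →ₗ[R] (Fin N → A) := (Algebra.linearMap R A).compLeft (Fin N)
  let Δ : Derivation k R (Fin N → A) := (pr.comp ε.toLinearMap).compDer dR
  let W : Submodule A (Fin N → A) := Submodule.span A (Δ '' (RingHom.ker π.toRingHom : Set R))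
  refine ⟨W, ?_, rfl⟩
  -- to the cokernel
  let mk : (Fin N → A) →ₗ[A] (Fin N → A) ⧸ W := W.mkQ
  choose σ hσ using hπ
  have hwell : ∀ r r' : R, π r = π r' → mk (Δ r) = mk (Δ r') := fun r r' h => by
    rw [← sub_eq_zero, ← map_sub, ← map_sub]
    refine (Submodule.Quotient.mk_eq_zero W).2 (Submodule.subset_span ⟨r - r', ?_, rfl⟩)
    show π (r - r') = 0
    rw [map_sub, h, sub_self]
  have hsc : ∀ (r : R) (v : Fin N → A), r • v = π r • v := fun r v => funext fun i => Algebra.smul_def r (v i)
  let δQ : Derivation k A ((Fin N → A) ⧸ W) := Derivation.mk'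
    { toFun := fun a => mk (Δ (σ a))
      map_add' := fun a b => by
        rw [← map_add mk, ← map_add Δ]
        exact hwell _ _ (by rw [map_add, hσ, hσ, hσ])
      map_smul' := fun c a => by
        rw [RingHom.id_apply, ← LinearMap.map_smul_of_tower mk, ← Derivation.map_smul Δ]
        exact hwell _ _ (by rw [map_smul, hσ, hσ]) }
    fun a b => by
      show mk (Δ (σ (a * b))) = a • mk (Δ (σ b)) + b • mk (Δ (σ a))
      rw [hwell (σ (a * b)) (σ a * σ b) (by rw [map_mul, hσ, hσ, hσ]), Derivation.leibniz, map_add, hsc, hsc, hσ, hσ,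
        map_smul, map_smul]
  obtain ⟨Φ, hΦ⟩ := CKBase.exists_lift_completion δQ
  -- back
  haveI := (CKBase.finite_and_surjective k A).1
  haveI : Module.Finite R ΩA := Module.Finite.trans A ΩA
  obtain ⟨ψ, hψ⟩ := CKBase.exists_lift_completion (k := k) (Derivation.mk' (dA.toLinearMap.comp π.toLinearMap)
    fun a b => by
      show dA (π (a * b)) = a • dA (π b) + b • dA (π a)
      rw [map_mul, Derivation.leibniz]
      rfl)
  let b : Fin N → ΩA := fun i => ψ (ε.symm (Pi.single i 1))
  let Ψ₀ : (Fin N → A) →ₗ[A] ΩA := Fintype.linearCombination A b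
  have hΨ₀ : ∀ w : Fin N → R, Ψ₀ (pr w) = ψ (ε.symm w) := fun w => by
    conv_rhs => rw [pi_eq_sum_univ' w]
    simp only [Ψ₀, Fintype.linearCombination_apply, map_sum, map_smul, b]
    exact Finset.sum_congr rfl fun i _ => rfl
  have hΨd : ∀ r, Ψ₀ (Δ r) = dA (π r) := fun r =>
    (hΨ₀ _).trans ((congrArg ψ (ε.symm_apply_apply _)).trans (hψ r))
  have hW : W ≤ LinearMap.ker Ψ₀ := Submodule.span_le.2 (by
    rintro _ ⟨r, hr, rfl⟩
    rw [SetLike.mem_coe, LinearMap.mem_ker, hΨd, show π r = 0 from hr, map_zero])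
  let Ψ := W.liftQ Ψ₀ hW
  have h1 : ∀ x, Ψ (Φ x) = x := fun x => by
    have hx : x ∈ Submodule.span A (Set.range fun a => dA a) := (CKBase.span_eq_top k A).symm ▸ trivial
    induction hx using Submodule.span_induction with
    | mem y hy =>
      obtain ⟨a, rfl⟩ := hy
      rw [show Φ (dA a) = δQ a from hΦ a]
      exact (hΨd (σ a)).trans (by rw [hσ])
    | zero => simp
    | add x y _ _ hx hy => rw [map_add, map_add, hx, hy]
    | smul a x _ hx => rw [map_smul, map_smul, hx]
  have h2 : ∀ w : Fin N → R, Φ (Ψ₀ (pr w)) = mk (pr w) := fun w => by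
    obtain ⟨z, rfl⟩ := ε.surjective w
    have hz : z ∈ Submodule.span R (Set.range fun r => dR r) := (CKBase.span_eq_top k R).symm ▸ trivial
    induction hz using Submodule.span_induction with
    | mem y hy =>
      obtain ⟨r, rfl⟩ := hy
      show Φ (Ψ₀ (Δ r)) = mk (Δ r)
      rw [hΨd, show Φ (dA (π r)) = δQ (π r) from hΦ _]
      exact hwell _ _ (hσ _)
    | zero => simp
    | add x y _ _ hx hy => simp only [map_add, hx, hy]
    | smul a x _ hx =>
      rw [map_smul, map_smul, hsc, map_smul, map_smul, map_smul, hx]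
  have h3 : ∀ q, Φ (Ψ q) = q := fun q => by
    induction q using Submodule.Quotient.induction_on with
    | _ v =>
      have hv : pr (fun i => σ (v i)) = v := funext fun i => hσ _
      show Φ (Ψ₀ v) = mk v
      rw [← hv, h2]
  exact ⟨LinearEquiv.ofLinearMap Φ Ψ (LinearMap.ext h3) (LinearMap.ext h1)⟩

end Groth.Agent.H05EGA4.CKCoker
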