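import Groth.Agent.H05EGA4.FSBaseChange
import Groth.Agent.H05EGA4.FieldSmooth
import Groth.Agent.H02CA.AdicSmooth
import Groth.Agent.H24Adic.CompletionNoetherian
import Mathlib.RingTheory.AdicCompletion.LocalRing
import Mathlib.RingTheory.AdicCompletion.Functoriality
import Mathlib.RingTheory.Smooth.Basic
import Mathlib.RingTheory.Etale.Basic

/-! Presentations by formally smooth complete local algebras. -/

set_option autoImplicit false
set_option linter.style.haveILetI false
set_option maxHeartbeats 1000000

open IsLocalRing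

universe u

namespace Groth.Agent.H05EGA4.CKPresentation

/-- A local homomorphism to a complete ring extends to the completion. -/
theorem exists_hom {k R A : Type u} [CommRing k] [CommRing R] [IsLocalRing R] [Algebra k R] [CommRing A] [IsLocalRing A]
    [Algebra k A] [IsAdicComplete (maximalIdeal A) A] (g : R →ₐ[k] A) [IsLocalHom g.toRingHom] :
    ∃ π : AdicCompletion (maximalIdeal R) R →ₐ[k] A, ∀ r, π (algebraMap R _ r) = g r := by
  have hle : ∀ n, maximalIdeal R ^ n ≤ (maximalIdeal A ^ n).comap g.toRingHom := fun n => by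
    rw [← Ideal.map_le_iff_le_comap, Ideal.map_pow]
    exact Ideal.pow_right_mono (((IsLocalRing.local_hom_TFAE g.toRingHom).out 0 2).1 ‹_›) n
  let f : ∀ n, AdicCompletion (maximalIdeal R) R →ₐ[k] A ⧸ maximalIdeal A ^ n := fun n =>
    (Ideal.quotientMapₐ _ g (hle n)).comp ((AdicCompletion.evalₐ (maximalIdeal R) n).restrictScalars k)
  have hf : ∀ {m n : ℕ} (h : m ≤ n), (Ideal.Quotient.factorₐ k (Ideal.pow_le_pow_right h)).comp (f n) = f m := by
    intro m n h
    refine AlgHom.ext fun x => ?_
    induction x using AdicCompletion.induction_on with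
    | _ a =>
      simp only [f, AlgHom.comp_apply, AlgHom.restrictScalars_apply, AdicCompletion.evalₐ_mk]
      have h1 : a.1 m - a.1 n ∈ maximalIdeal R ^ m := by
        have := a.2 h
        rwa [SModEq.sub_mem, smul_eq_mul, Ideal.mul_top] at this
      have h2 := hle m h1
      rw [Ideal.mem_comap, map_sub, ← Ideal.Quotient.eq] at h2
      exact h2.symm
  refine ⟨IsAdicComplete.liftAlgHom _ f hf, fun r => ?_⟩
  refine sub_eq_zero.mp (IsHausdorff.haus (I := maximalIdeal A) inferInstance _ fun n => ?_)
  rw [SModEq.sub_mem, sub_zero, smul_eq_mul, Ideal.mul_top, ← Ideal.Quotient.eq, IsAdicComplete.mk_liftAlgHom]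
  simp only [f, AlgHom.comp_apply, AlgHom.restrictScalars_apply]
  rw [show AdicCompletion.evalₐ (maximalIdeal R) n (algebraMap R _ r) = Ideal.Quotient.mk _ r from
    AdicCompletion.evalₐ_of _ n r]
  rfl

/-- Every complete local algebra with finite residue extension is a quotient of a formally smooth one. -/
theorem exists_presentation (k A : Type u) [Field k] [CommRing A] [IsLocalRing A] [IsNoetherianRing A] [Algebra k A]
    [IsAdicComplete (maximalIdeal A) A] [Module.Finite k (ResidueField A)] :
    ∃ (R : Type u) (_ : CommRing R) (_ : IsLocalRing R) (_ : IsNoetherianRing R) (_ : Algebra k R)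
      (_ : IsAdicComplete (maximalIdeal R) R) (_ : Module.Finite k (ResidueField R)) (π : R →ₐ[k] A),
      Function.Surjective π ∧ CAlgX.IsAdicFormallySmooth k R (maximalIdeal R) := by
  classical
  obtain ⟨c, b, hb⟩ := Module.Finite.exists_fin (R := k) (M := ResidueField A)
  choose b' hb' using fun i => residue_surjective (b i)
  obtain ⟨e, g₀, hg₀⟩ := Submodule.fg_iff_exists_fin_generating_family.1 (IsNoetherian.noetherian (maximalIdeal A))
  let P := MvPolynomial (Fin c ⊕ Fin e) k
  let ev : P →ₐ[k] A := MvPolynomial.aeval (Sum.elim b' g₀)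
  let q : P →ₐ[k] ResidueField A := (IsScalarTower.toAlgHom k A (ResidueField A)).comp ev
  have hq : Function.Surjective q := fun z => by
    have hz : z ∈ Submodule.span k (Set.range b) := hb ▸ trivial
    obtain ⟨cc, rfl⟩ := (Submodule.mem_span_range_iff_exists_fun k).1 hz
    refine ⟨∑ i, cc i • MvPolynomial.X (Sum.inl i), ?_⟩
    simp [q, ev, ← hb', map_sum]
    refine Finset.sum_congr rfl fun i _ => ?_
    erw [MvPolynomial.aeval_X]
    rfl
  let M : Ideal P := RingHom.ker q.toRingHom
  haveI : M.IsMaximal := RingHom.ker_isMaximal_of_surjective q.toRingHom hq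
  have hM : ∀ z : M.primeCompl, IsUnit (ev z) := fun z => by
    have hz : q (z : P) ≠ 0 := z.2
    exact (IsLocalRing.residue_ne_zero_iff_isUnit _).1 hz
  let B := Localization.AtPrime M
  let g : B →ₐ[k] A := IsLocalization.liftAlgHom (M := M.primeCompl) (f := ev) hM
  have hg : ∀ z, g (algebraMap P B z) = ev z := fun z => IsLocalization.lift_eq _ _
  haveI : IsLocalHom g.toRingHom := ((IsLocalRing.local_hom_TFAE g.toRingHom).out 0 2).2 (by
    rw [← Localization.AtPrime.map_eq_maximalIdeal, Ideal.map_map, Ideal.map_le_iff_le_comap]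
    intro z hz
    rw [Ideal.mem_comap, RingHom.comp_apply, show g.toRingHom (algebraMap P B z) = ev z from hg z]
    exact (IsLocalRing.residue_eq_zero_iff _).1 hz)
  haveI : IsNoetherianRing B := IsLocalization.isNoetherianRing M.primeCompl _ inferInstance
  let R := AdicCompletion (maximalIdeal B) B
  haveI : IsNoetherianRing R := H24Adic.isNoetherianRing_adicCompletion (maximalIdeal B)
  haveI : Algebra.FormallyEtale P B := Algebra.FormallyEtale.of_isLocalization M.primeCompl
  haveI : Algebra.FormallySmooth k B := Algebra.FormallySmooth.comp k P B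
  have hfs : CAlgX.IsAdicFormallySmooth k R (maximalIdeal R) := by
    rw [AdicCompletion.maximalIdeal_eq_map]
    exact (H02CA.AdicSmooth.iff_adicCompletion _ (maximalIdeal B).fg_of_isNoetherianRing).1
      (isAdicFormallySmooth_of_formallySmooth _)
  obtain ⟨π, hπ⟩ := exists_hom g
  haveI : IsLocalHom π.toRingHom := ((IsLocalRing.local_hom_TFAE π.toRingHom).out 0 2).2 (by
    rw [AdicCompletion.maximalIdeal_eq_map, Ideal.map_map, Ideal.map_le_iff_le_comap]
    intro z hz
    rw [Ideal.mem_comap, RingHom.comp_apply, show π.toRingHom (algebraMap B R z) = g z from hπ z]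
    have h := ((IsLocalRing.local_hom_TFAE g.toRingHom).out 0 2).1 ‹IsLocalHom g.toRingHom›
    exact h (Ideal.mem_map_of_mem g.toRingHom hz))
  have hmax : (maximalIdeal R).map π.toRingHom = maximalIdeal A := by
    refine le_antisymm (((IsLocalRing.local_hom_TFAE π.toRingHom).out 0 2).1 ‹_›) ?_
    rw [← hg₀, Submodule.span_le]
    rintro _ ⟨i, rfl⟩
    have h1 : π.toRingHom (algebraMap B R (algebraMap P B (MvPolynomial.X (Sum.inr i)))) = g₀ i :=
      (hπ _).trans ((hg _).trans (by erw [MvPolynomial.aeval_X]; rfl))
    rw [← h1]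
    refine Ideal.mem_map_of_mem _ ?_
    rw [AdicCompletion.maximalIdeal_eq_map]
    refine Ideal.mem_map_of_mem _ ((IsLocalization.AtPrime.to_map_mem_maximal_iff B M _).2 ?_)
    show residue A (ev (MvPolynomial.X (Sum.inr i))) = 0
    rw [show ev (MvPolynomial.X (Sum.inr i)) = g₀ i from MvPolynomial.aeval_X _ _, IsLocalRing.residue_eq_zero_iff, ← hg₀]
    exact Submodule.subset_span ⟨i, rfl⟩
  have hsurj : Function.Surjective π.toRingHom := by
    haveI : IsHausdorff ((maximalIdeal R).map π.toRingHom) A := by rw [hmax]; infer_instance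
    refine surjective_of_mk_map_comp_surjective π.toRingHom (I := maximalIdeal R) fun z => ?_
    obtain ⟨a, rfl⟩ := Ideal.Quotient.mk_surjective z
    obtain ⟨w, hw⟩ := hq (residue A a)
    refine ⟨algebraMap B R (algebraMap P B w), ?_⟩
    refine Ideal.Quotient.eq.2 ?_
    rw [hmax, show π.toRingHom (algebraMap B R (algebraMap P B w)) = ev w from (hπ _).trans (hg _),
      ← IsLocalRing.residue_eq_zero_iff, map_sub, sub_eq_zero]
    exact hw
  haveI : Module.Finite k (ResidueField R) := Module.Finite.of_injective (AlgHom.toLinearMap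
    { ResidueField.map π.toRingHom with commutes' := fun c => congrArg (residue A) (π.commutes c) } :
      ResidueField R →ₗ[k] ResidueField A) (ResidueField.map π.toRingHom).injective
  exact ⟨R, inferInstance, inferInstance, inferInstance, inferInstance, inferInstance, inferInstance, π, hsurj, hfs⟩

end Groth.Agent.H05EGA4.CKPresentation
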