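import Groth.Agent.H05EGA4.CKRank

/-! Units adjusting parameters to generate completed differentials at a prime. -/

set_option autoImplicit false
set_option linter.style.haveILetI false

open IsLocalRing TensorProduct

universe u

namespace Groth.Agent.H05EGA4.CKUnits

variable {A M : Type u} [CommRing A] [AddCommGroup M] [Module A M]

/-- Generators of the localisation bound the fibre. -/
theorem finrank_le [Module.Finite A M] (p : Ideal A) [p.IsPrime] {r : ℕ} (s : Fin r → LocalizedModule p.primeCompl M)
    (hs : Submodule.span (Localization.AtPrime p) (Set.range s) = ⊤) :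
    Module.finrank p.ResidueField (p.ResidueField ⊗[A] M) ≤ r := by
  let f := LocalizedModule.mkLinearMap p.primeCompl M
  choose z hz using fun i => IsLocalizedModule.mk'_surjective p.primeCompl f (s i)
  have hspan : Submodule.span (Localization.AtPrime p) (Set.range fun i => f (z i).1) = ⊤ := by
    rw [eq_top_iff, ← hs, Submodule.span_le]
    rintro _ ⟨i, rfl⟩
    have h1 : s i = IsLocalization.mk' (Localization.AtPrime p) 1 (z i).2 • f (z i).1 := by
      rw [← hz i, ← IsLocalizedModule.mk'_one p.primeCompl f (z i).1,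
        IsLocalizedModule.mk'_smul_mk' (A := Localization.AtPrime p), one_smul, mul_one]
      rfl
    rw [SetLike.mem_coe, h1]
    exact Submodule.smul_mem _ _ (Submodule.subset_span ⟨i, rfl⟩)
  have h2 := CKRank.span_tmul_eq_top p _ ((CKRank.span_localized_eq_top_iff p _).1 hspan)
  have h3 := finrank_range_le_card (R := p.ResidueField) fun i => (1 : p.ResidueField) ⊗ₜ[A] (z i).1
  rw [Set.finrank, h2, finrank_top, Fintype.card_fin] at h3
  exact h3

/-- Greedy choice of units. -/
theorem exists_units (k : Type u) [Field k] [IsLocalRing A] [IsNoetherianRing A] [Algebra k A]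
    [IsAdicComplete (maximalIdeal A) A] [Module.Finite k (ResidueField A)] (p : Ideal A) [p.IsPrime] {r : ℕ}
    (x : Fin r → A) (hx : ∀ i, x i ∉ p)
    (hr : Module.finrank p.ResidueField (p.ResidueField ⊗[A] AdicCompletion (maximalIdeal A) (Ω[A⁄k])) ≤ r) :
    ∃ u : Fin r → Aˣ, ∀ ω : AdicCompletion (maximalIdeal A) (Ω[A⁄k]), ∃ t, t ∉ p ∧ t • ω ∈ Submodule.span A
      (Set.range fun i => AdicCompletion.of (maximalIdeal A) (Ω[A⁄k]) (KaehlerDifferential.D k A ((u i : A) * x i))) := by
  haveI := (CKBase.finite_and_surjective k A).1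
  let V := p.ResidueField ⊗[A] AdicCompletion (maximalIdeal A) (Ω[A⁄k])
  let dh : Derivation k A (AdicCompletion (maximalIdeal A) (Ω[A⁄k])) :=
    (AdicCompletion.of (maximalIdeal A) (Ω[A⁄k])).compDer (KaehlerDifferential.D k A)
  let dV : A → V := fun a => (1 : p.ResidueField) ⊗ₜ[A] dh a
  have hadd : ∀ a b, dV (a + b) = dV a + dV b := fun a b => by simp only [dV, map_add, TensorProduct.tmul_add]
  have hmul : ∀ a b, dV (a * b) = algebraMap A p.ResidueField a • dV b + algebraMap A p.ResidueField b • dV a :=
    fun a b => by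
      simp only [dV, Derivation.leibniz, TensorProduct.tmul_add, TensorProduct.tmul_smul, algebraMap_smul]
  have hstep : ∀ W : Submodule p.ResidueField V, ∀ z, z ∉ p → (∀ u : Aˣ, dV ((u : A) * z) ∈ W) → W = ⊤ := by
    intro W z hz hu
    have hall : ∀ a, dV (a * z) ∈ W := fun a => by
      rcases IsLocalRing.isUnit_or_isUnit_one_sub_self (-a) with h | h
      · obtain ⟨v, rfl⟩ := (IsUnit.neg_iff a).1 h
        exact hu v
      · rw [sub_neg_eq_add] at h
        obtain ⟨v, hv⟩ := h
        have h1 := hu v
        rw [hv, add_mul, hadd] at h1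
        exact (Submodule.add_mem_iff_right W (hu 1)).1 h1
    have hd : ∀ a, dV a ∈ W := fun a => by
      have h1 := hall a
      rw [hmul] at h1
      have h2 := (Submodule.add_mem_iff_right W (Submodule.smul_mem W _ (show dV z ∈ W by simpa using hu 1))).1 h1
      exact (Submodule.smul_mem_iff W (fun h0 => hz (Ideal.algebraMap_residueField_eq_zero.1 h0))).1 h2
    have h3 := CKRank.span_tmul_eq_top p (fun a => dh a) fun ω => ⟨1, fun h => ‹p.IsPrime›.ne_top ((Ideal.eq_top_iff_one p).2 h), by
      rw [one_smul]
      exact (CKBase.span_eq_top k A).symm ▸ trivial⟩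
    rw [eq_top_iff, ← h3, Submodule.span_le]
    rintro _ ⟨a, rfl⟩
    exact hd a
  have hind : ∀ (r : ℕ) (x : Fin r → A), (∀ i, x i ∉ p) → ∃ u : Fin r → Aˣ,
      min r (Module.finrank p.ResidueField V) ≤ (Set.range fun i => dV ((u i : A) * x i)).finrank p.ResidueField := by
    intro r
    induction r with
    | zero => exact fun x _ => ⟨Fin.elim0, by simp⟩
    | succ r ih =>
      intro x hx
      obtain ⟨u, hu⟩ := ih (fun i => x i.succ) fun i => hx i.succ
      let W := Submodule.span p.ResidueField (Set.range fun i => dV ((u i : A) * x i.succ))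
      have hWle : Set.finrank p.ResidueField (Set.range fun i => dV ((u i : A) * x i.succ)) = Module.finrank p.ResidueField W := rfl
      by_cases hW : W = ⊤
      · refine ⟨Fin.cons 1 u, le_trans ?_ (Submodule.finrank_mono (s := W) (Submodule.span_mono ?_))⟩
        · rw [hW, finrank_top]; exact min_le_right _ _
        · rintro _ ⟨i, rfl⟩
          exact ⟨i.succ, by simp⟩
      · obtain ⟨v, hv⟩ : ∃ v : Aˣ, dV ((v : A) * x 0) ∉ W := by
          by_contra! h
          exact hW (hstep W _ (hx 0) h)
        refine ⟨Fin.cons v u, ?_⟩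
        have hlt : W < Submodule.span p.ResidueField (Set.range fun i => dV (((Fin.cons v u : Fin (r + 1) → Aˣ) i : A) * x i)) := by
          refine lt_of_le_of_ne (Submodule.span_mono ?_) fun he => hv (he ▸ Submodule.subset_span ⟨0, by simp⟩)
          rintro _ ⟨i, rfl⟩
          exact ⟨i.succ, by simp⟩
        have := Submodule.finrank_lt_finrank_of_lt hlt
        rw [hWle] at hu
        show _ ≤ Module.finrank p.ResidueField (Submodule.span p.ResidueField _)
        omega
  obtain ⟨u, hu⟩ := hind r x hx
  rw [min_eq_right hr] at hu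
  have htop : Submodule.span p.ResidueField (Set.range fun i => dV ((u i : A) * x i)) = ⊤ :=
    Submodule.eq_top_of_finrank_eq (le_antisymm (Submodule.finrank_le _) hu)
  obtain ⟨t, ht, hts⟩ := CKRank.exists_smul_mem_span p _ htop
  exact ⟨u, fun ω => ⟨t, ht, hts ω⟩⟩

end Groth.Agent.H05EGA4.CKUnits
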