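import Mathlib.RingTheory.AdicCompletion.AsTensorProduct
import Mathlib.RingTheory.AdicCompletion.Functoriality
import Mathlib.RingTheory.Kaehler.Basic
import Mathlib.RingTheory.Ideal.Cotangent
import Mathlib.Algebra.TrivSqZeroExt.Basic
import Mathlib.Algebra.Module.Projective
import Mathlib.LinearAlgebra.TensorProduct.Quotient
import Mathlib.Tactic.LinearCombination

/-! Completed modules of differentials. -/

set_option autoImplicit false
set_option linter.style.haveILetI false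
set_option maxHeartbeats 800000

open TensorProduct KaehlerDifferential

universe u

namespace Groth.Agent.H05EGA4.CompletedKaehler

/-- The completion of a module finite modulo `I` over a complete ring is finite. -/
theorem finite_adicCompletion {A : Type u} [CommRing A] (I : Ideal A) [IsPrecomplete I A] {M : Type u}
    [AddCommGroup M] [Module A M] [Module.Finite A (M ⧸ (I • ⊤ : Submodule A M))] :
    Module.Finite A (AdicCompletion I M) := by
  obtain ⟨n, g, hg⟩ := Module.Finite.exists_fin' A (M ⧸ (I • ⊤ : Submodule A M))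
  obtain ⟨f, hf⟩ := Module.projective_lifting_property (I • ⊤ : Submodule A M).mkQ g (Submodule.mkQ_surjective _)
  have hs := AdicCompletion.map_surjective_of_mkQ_comp_surjective (I := I) (f := f) (by rw [hf]; exact hg)
  haveI : Module.Finite A (AdicCompletion I A) :=
    Module.Finite.of_surjective (AdicCompletion.of I A) (AdicCompletion.of_surjective I A)
  have h2 := AdicCompletion.ofTensorProduct_surjective_of_finite I (Fin n → A)
  haveI : Module.Finite A (AdicCompletion I (Fin n → A)) :=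
    Module.Finite.of_surjective ((AdicCompletion.ofTensorProduct I (Fin n → A)).restrictScalars A) h2
  exact Module.Finite.of_surjective ((AdicCompletion.map I f).restrictScalars A) hs

/-- The reduction of the differentials is finite when those of the quotient and the conormal module are. -/
theorem finite_quotient_smul {A B : Type u} [CommRing A] [CommRing B] [Algebra A B] (𝔫 : Ideal B)
    [Module.Finite (B ⧸ 𝔫) (Ω[B ⧸ 𝔫⁄A])] [Module.Finite (B ⧸ 𝔫) 𝔫.Cotangent] :
    Module.Finite B (Ω[B⁄A] ⧸ (𝔫 • ⊤ : Submodule B Ω[B⁄A])) := by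
  haveI : Module.Finite B Ω[B ⧸ 𝔫⁄A] := Module.Finite.trans (B ⧸ 𝔫) _
  haveI : Module.Finite B 𝔫.Cotangent := Module.Finite.trans (B ⧸ 𝔫) _
  have hs : Function.Surjective (algebraMap B (B ⧸ 𝔫)) := Ideal.Quotient.mk_surjective
  have hk : RingHom.ker (algebraMap B (B ⧸ 𝔫)) = 𝔫 := Ideal.mk_ker
  haveI : Module.Finite B (RingHom.ker (algebraMap B (B ⧸ 𝔫))).Cotangent := by rw [hk]; infer_instance
  have hex := exact_kerCotangentToTensor_mapBaseChange A B (B ⧸ 𝔫) hs
  haveI : Module.Finite B ((B ⧸ 𝔫) ⊗[B] Ω[B⁄A]) := by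
    refine ⟨Submodule.fg_of_fg_map_of_fg_inf_ker ((mapBaseChange A B (B ⧸ 𝔫)).restrictScalars B) ?_ ?_⟩
    · rw [Submodule.map_top, LinearMap.range_restrictScalars,
        LinearMap.range_eq_top.2 (mapBaseChange_surjective A B (B ⧸ 𝔫) hs), Submodule.restrictScalars_top]
      exact Module.Finite.fg_top
    · rw [top_inf_eq]
      have : LinearMap.ker ((mapBaseChange A B (B ⧸ 𝔫)).restrictScalars B) =
          LinearMap.range (kerCotangentToTensor A B (B ⧸ 𝔫)) :=
        Submodule.ext fun z => hex z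
      rw [this, LinearMap.range_eq_map]
      exact Module.Finite.fg_top.map _
  exact Module.Finite.equiv (TensorProduct.quotTensorEquivQuotSMul Ω[B⁄A] 𝔫)

/-- Two maps agreeing modulo a nilpotent ideal agree when the completed differentials vanish. -/
theorem eq_of_sub_mem {A B : Type u} [CommRing A] [CommRing B] [Algebra A B] (𝔟 : Ideal B)
    (h : Subsingleton (AdicCompletion 𝔟 (Ω[B⁄A]))) {E : Type u} [CommRing E] [Algebra A E] (J : Ideal E)
    (hJ : IsNilpotent J) (v₁ v₂ : B →ₐ[A] E) {m : ℕ} (hm : ∀ x ∈ 𝔟 ^ m, v₁ x = 0)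
    (hv : ∀ b : B, Ideal.Quotient.mk J (v₁ b) = Ideal.Quotient.mk J (v₂ b)) : v₁ = v₂ := by
  obtain ⟨N, hN⟩ := hJ
  have key : ∀ i, ∀ b, v₁ b - v₂ b ∈ J ^ (i + 1) := by
    intro i
    induction i with
    | zero => intro b; rw [pow_one]; exact Ideal.Quotient.eq.1 (hv b)
    | succ i ih =>
      intro b
      let K := J ^ (i + 1 + 1)
      letI : Module B (E ⧸ K) := Module.compHom (E ⧸ K) ((Ideal.Quotient.mk K).comp v₁.toRingHom)
      haveI : IsScalarTower A B (E ⧸ K) := IsScalarTower.of_algebraMap_smul fun a x => by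
        show Ideal.Quotient.mk K (v₁ (algebraMap A B a)) * x = a • x
        rw [AlgHom.commutes, Algebra.smul_def]
        rfl
      let δ : Derivation A B (E ⧸ K) := Derivation.mk'
        ((Ideal.Quotient.mkₐ A K).toLinearMap ∘ₗ (v₁.toLinearMap - v₂.toLinearMap)) fun x y => by
          show Ideal.Quotient.mk K (v₁ (x * y) - v₂ (x * y)) =
            Ideal.Quotient.mk K (v₁ x) * Ideal.Quotient.mk K (v₁ y - v₂ y) +
              Ideal.Quotient.mk K (v₁ y) * Ideal.Quotient.mk K (v₁ x - v₂ x)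
          rw [← map_mul, ← map_mul, ← map_add, Ideal.Quotient.eq]
          have h1 : (v₁ x - v₂ x) * (v₁ y - v₂ y) ∈ K := by
            have := Ideal.mul_mem_mul (ih x) (ih y)
            rw [← pow_add] at this
            exact Ideal.pow_le_pow_right (by omega) this
          convert neg_mem h1 using 1
          rw [map_mul, map_mul]; ring
      have hzero : ∀ ω : Ω[B⁄A], δ.liftKaehlerDifferential ω = 0 := fun ω => by
        obtain ⟨z, hz⟩ := AdicCompletion.eval_surjective 𝔟 (Ω[B⁄A]) m (Submodule.Quotient.mk ω)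
        have hmem : ω ∈ (𝔟 ^ m • ⊤ : Submodule B Ω[B⁄A]) := by
          rw [← Submodule.Quotient.mk_eq_zero, ← hz, Subsingleton.elim z 0, map_zero]
        refine Submodule.smul_induction_on hmem (fun r hr x _ => ?_) (fun u w hu hw => by rw [map_add, hu, hw, add_zero])
        rw [map_smul]
        show Ideal.Quotient.mk K (v₁ r) * _ = 0
        rw [hm r hr, map_zero, zero_mul]
      have h1 : δ b = 0 := by rw [← δ.liftKaehlerDifferential_comp_D]; exact hzero _
      exact Ideal.Quotient.eq_zero_iff_mem.1 h1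
  refine AlgHom.ext fun b => sub_eq_zero.1 ?_
  have := Ideal.pow_le_pow_right (Nat.le_succ N) (key N b)
  rwa [hN, Ideal.zero_eq_bot, Ideal.mem_bot] at this

theorem smul_eq_top_of_unique {A B : Type u} [CommRing A] [CommRing B] [Algebra A B] (𝔞 : Ideal A) (𝔟 : Ideal B)
    (hAB : ∃ k : ℕ, (𝔞 ^ k).map (algebraMap A B) ≤ 𝔟)
    (h : ∀ (E : Type u) [CommRing E] [Algebra A E], (∃ k : ℕ, (𝔞 ^ k).map (algebraMap A E) = ⊥) →
      ∀ J : Ideal E, IsNilpotent J → ∀ v₁ v₂ : B →ₐ[A] E,
        (∃ m : ℕ, ∀ x ∈ 𝔟 ^ m, v₁ x = 0) → (∃ m : ℕ, ∀ x ∈ 𝔟 ^ m, v₂ x = 0) →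
        (∀ b : B, Ideal.Quotient.mk J (v₁ b) = Ideal.Quotient.mk J (v₂ b)) → v₁ = v₂) (m : ℕ) :
    (𝔟 ^ m • ⊤ : Submodule B Ω[B⁄A]) = ⊤ := by
  obtain ⟨k, hk⟩ := hAB
  let W : Submodule B Ω[B⁄A] := 𝔟 ^ m • ⊤
  let d : Derivation A B (Ω[B⁄A] ⧸ W) := W.mkQ.compDer (D A B)
  have hW : ∀ r ∈ 𝔟 ^ m, ∀ x : Ω[B⁄A] ⧸ W, r • x = 0 := fun r hr x => by
    obtain ⟨x, rfl⟩ := Submodule.Quotient.mk_surjective _ x
    rw [← Submodule.Quotient.mk_smul, Submodule.Quotient.mk_eq_zero]
    exact Submodule.smul_mem_smul hr trivial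
  suffices d = 0 by
    refine top_le_iff.1 ((span_range_derivation A B).ge.trans (Submodule.span_le.2 ?_))
    rintro _ ⟨b, rfl⟩
    exact (Submodule.Quotient.mk_eq_zero W).1 (DFunLike.congr_fun this b)
  let M := Ω[B⁄A] ⧸ W
  obtain ⟨E, _, ι, a, fst, hfι, hfa, hfex, hmul, hsq, hinj⟩ :
      ∃ (E : Type u) (_ : CommRing E) (ι : B →+* E) (a : M →+ E) (fst : E →+* B ⧸ 𝔟 ^ m),
        (∀ c, fst (ι c) = Ideal.Quotient.mk _ c) ∧ (∀ x, fst (a x) = 0) ∧
        (∀ e, fst e = 0 → ∃ x, a x = e) ∧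
        (∀ c x, ι c * a x = a (c • x)) ∧ (∀ x y, a x * a y = 0) ∧ Function.Injective a ∧
        (∀ c ∈ 𝔟 ^ m, ι c = 0) := by
    letI : Module (B ⧸ 𝔟 ^ m) M :=
      Module.IsTorsionBySet.module (fun x r => hW r.1 r.2 x : Module.IsTorsionBySet B M (𝔟 ^ m : Ideal B))
    letI : Module (B ⧸ 𝔟 ^ m)ᵐᵒᵖ M := Module.compHom M ((RingHom.id (B ⧸ 𝔟 ^ m)).fromOpposite mul_comm)
    haveI : IsCentralScalar (B ⧸ 𝔟 ^ m) M := ⟨fun _ _ => rfl⟩
    exact ⟨TrivSqZeroExt (B ⧸ 𝔟 ^ m) M, inferInstance,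
      (TrivSqZeroExt.inlHom (B ⧸ 𝔟 ^ m) M).comp (Ideal.Quotient.mk _),
      (TrivSqZeroExt.inrHom (B ⧸ 𝔟 ^ m) M).toAddMonoidHom,
      (TrivSqZeroExt.fstHom (B ⧸ 𝔟 ^ m) (B ⧸ 𝔟 ^ m) M).toRingHom,
      fun c => rfl, fun x => rfl, fun e he => ⟨e.snd, TrivSqZeroExt.ext he.symm rfl⟩,
      fun c x => TrivSqZeroExt.inl_mul_inr (Ideal.Quotient.mk (𝔟 ^ m) c) x,
      fun x y => TrivSqZeroExt.inr_mul_inr _ x y, TrivSqZeroExt.inr_injective,
      fun c hc => by
        show TrivSqZeroExt.inl (Ideal.Quotient.mk (𝔟 ^ m) c) = 0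
        rw [Ideal.Quotient.eq_zero_iff_mem.2 hc, TrivSqZeroExt.inl_zero]⟩
  obtain ⟨hinj, hι0⟩ := hinj
  letI : Algebra A E := (ι.comp (algebraMap A B)).toAlgebra
  let v₁ : B →ₐ[A] E := { ι with commutes' := fun _ => rfl }
  let v₂ : B →ₐ[A] E :=
    { toFun := fun b => ι b + a (d b)
      map_one' := by simp
      map_mul' := fun x y => by
        rw [Derivation.leibniz, map_add a, ← hmul, ← hmul, map_mul]
        linear_combination -hsq (d x) (d y)
      map_zero' := by simp
      map_add' := fun x y => by simp only [map_add]; ring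
      commutes' := fun r => by
        rw [Derivation.map_algebraMap, map_zero, add_zero]
        rfl }
  let J : Ideal E := RingHom.ker fst
  have hJ : IsNilpotent J := ⟨2, by
    rw [sq, Ideal.zero_eq_bot, eq_bot_iff, Ideal.mul_le]
    intro e he e' he'
    obtain ⟨x, rfl⟩ := hfex e he
    obtain ⟨y, rfl⟩ := hfex e' he'
    exact hsq x y⟩
  have hA : ∃ k : ℕ, (𝔞 ^ k).map (algebraMap A E) = ⊥ := ⟨k * m, by
    rw [eq_bot_iff, Ideal.map_le_iff_le_comap]
    intro r hr
    rw [Ideal.mem_comap, Ideal.mem_bot]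
    refine hι0 _ ?_
    have h1 := Ideal.mem_map_of_mem (algebraMap A B) hr
    rw [pow_mul, Ideal.map_pow] at h1
    exact Ideal.pow_right_mono hk m h1⟩
  have := h E hA J hJ v₁ v₂ ⟨m, hι0⟩ ⟨m + m, fun x hx => by
    show ι x + a (d x) = 0
    have hd : d x = 0 := by
      rw [pow_add] at hx
      refine Submodule.mul_induction_on hx (fun u hu w hw => ?_) (fun u w hu hw => by rw [map_add, hu, hw, add_zero])
      rw [Derivation.leibniz, hW u hu, hW w hw, add_zero]
    rw [hι0 x (Ideal.pow_le_pow_right (Nat.le_add_right m m) hx), hd, map_zero, add_zero]⟩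
    (fun b => Ideal.Quotient.eq.2 (by
      show fst (ι b - (ι b + a (d b))) = 0
      rw [map_sub, map_add, hfa, add_zero, sub_self]))
  refine Derivation.ext fun b => hinj ?_
  have hb : ι b = ι b + a (d b) := AlgHom.congr_fun this b
  rw [Derivation.zero_apply, map_zero]
  exact left_eq_add.1 hb

end Groth.Agent.H05EGA4.CompletedKaehler
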