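import Groth.Agent.H05EGA4.CotIdx
import Groth.Agent.H05EGA4.PrimeTransfer
import Groth.Agent.S2680
import Groth.Prelude.Def_EGA41

/-! Cartier's equality for finitely generated field extensions. -/

set_option autoImplicit false
set_option linter.style.haveILetI false

open TensorProduct KaehlerDifferential IsLocalRing

universe u v

namespace Groth.Agent.H05EGA4.CotIdx

/-- The residue field of the generic point of a closed subvariety of affine space. -/
theorem trdeg_eq_dim (K L : Type u) [Field K] [Field L] [Algebra K L] (r : ℕ) (θ : Fin r → L)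
    (hθ : ∀ l : L, ∃ a b : MvPolynomial (Fin r) K,
      MvPolynomial.aeval θ b ≠ 0 ∧ l = MvPolynomial.aeval θ a / MvPolynomial.aeval θ b) :
    ∃ t : ℕ, Algebra.trdeg K L = t ∧
      ((RingHom.ker (MvPolynomial.aeval θ : MvPolynomial (Fin r) K →ₐ[K] L).toRingHom).height :
        WithBot ℕ∞) + t = r := by
  let φ : MvPolynomial (Fin r) K →ₐ[K] L := MvPolynomial.aeval θ
  let 𝔫 := RingHom.ker φ.toRingHom
  haveI : 𝔫.IsPrime := RingHom.ker_isPrime _
  let ψ : (MvPolynomial (Fin r) K ⧸ 𝔫) →ₐ[K] L := Ideal.Quotient.liftₐ 𝔫 φ fun a ha => ha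
  letI : Algebra (MvPolynomial (Fin r) K ⧸ 𝔫) L := ψ.toRingHom.toAlgebra
  haveI : IsScalarTower K (MvPolynomial (Fin r) K ⧸ 𝔫) L :=
    IsScalarTower.of_algebraMap_eq fun c => (ψ.commutes c).symm
  haveI : FaithfulSMul (MvPolynomial (Fin r) K ⧸ 𝔫) L := (faithfulSMul_iff_algebraMap_injective _ _).2
    (RingHom.lift_injective_of_ker_le_ideal 𝔫 (fun a ha => ha) le_rfl)
  haveI : IsFractionRing (MvPolynomial (Fin r) K ⧸ 𝔫) L := IsFractionRing.of_field _ _ fun l => by
    obtain ⟨a, b, -, rfl⟩ := hθ l
    exact ⟨Ideal.Quotient.mk 𝔫 a, Ideal.Quotient.mk 𝔫 b, rfl⟩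
  obtain ⟨t, ht1, ht2, -⟩ := Groth.Agent.S2680.result K (MvPolynomial (Fin r) K ⧸ 𝔫)
  let e : FractionRing (MvPolynomial (Fin r) K ⧸ 𝔫) ≃ₐ[K] L :=
    (FractionRing.algEquiv (MvPolynomial (Fin r) K ⧸ 𝔫) L).restrictScalars K
  refine ⟨t, e.trdeg_eq.symm.trans ht1, ?_⟩
  have h := Groth.Agent.H8Props.FieldDim.height_add_dim_quotient K (MvPolynomial (Fin r) K) 𝔫
  rw [ht2] at h
  rw [h, MvPolynomial.ringKrullDim_of_isNoetherianRing, ringKrullDim_eq_zero_of_field, zero_add, Nat.card_fin]

variable (F : Type v) [Field F] [PerfectField F]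

theorem index_field (K L : Type u) [Field K] [Field L] [Algebra F K] [Algebra F L]
    [Algebra K L] [IsScalarTower F K L] [hL : Algebra.EssFiniteType K L] :
    FiniteDimensional L (LinearMap.ker (mapBaseChange F K L)) ∧
    FiniteDimensional L (Ω[L⁄F] ⧸ LinearMap.range (mapBaseChange F K L)) ∧
    ∃ t : ℕ, Algebra.trdeg K L = t ∧ (mapBaseChange F K L).index = -(t : ℤ) := by
  classical
  let s := Algebra.EssFiniteType.finset K L
  let θ : Fin s.card → L := fun i => (s.equivFin.symm i : L)
  have hrange : Set.range θ = (s : Set L) := Set.ext fun x =>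
    ⟨by rintro ⟨i, rfl⟩; exact (s.equivFin.symm i).2, fun hx => ⟨s.equivFin ⟨x, hx⟩, by simp [θ]⟩⟩
  have hadj : ∀ a ∈ Algebra.adjoin K (s : Set L), ∃ q : MvPolynomial (Fin s.card) K,
      MvPolynomial.aeval θ q = a := fun a ha => by
    rw [← hrange, Algebra.adjoin_range_eq_range_aeval] at ha
    exact ha
  have hθ : ∀ l : L, ∃ a b : MvPolynomial (Fin s.card) K,
      MvPolynomial.aeval θ b ≠ 0 ∧ l = MvPolynomial.aeval θ a / MvPolynomial.aeval θ b := fun l => by
    haveI : IsLocalization ((IsUnit.submonoid L).comap (algebraMap (Algebra.adjoin K (s : Set L)) L)) L :=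
      hL.cond.choose_spec
    obtain ⟨⟨a, b⟩, hab⟩ := IsLocalization.surj
      ((IsUnit.submonoid L).comap (algebraMap (Algebra.adjoin K (s : Set L)) L)) l
    obtain ⟨qa, ha⟩ := hadj _ a.2
    obtain ⟨qb, hb⟩ := hadj _ b.1.2
    have hb0 : ((b.1 : Algebra.adjoin K (s : Set L)) : L) ≠ 0 := (show IsUnit _ from b.2).ne_zero
    refine ⟨qa, qb, by rwa [hb], ?_⟩
    rw [ha, hb, eq_div_iff hb0]
    exact hab
  obtain ⟨t, htL, hht⟩ := trdeg_eq_dim K L s.card θ hθ
  let P := MvPolynomial (Fin s.card) K
  letI : Algebra P L := (MvPolynomial.aeval θ : P →ₐ[K] L).toRingHom.toAlgebra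
  haveI : IsScalarTower K P L := IsScalarTower.of_algebraMap_eq fun c =>
    ((MvPolynomial.aeval θ : P →ₐ[K] L).commutes c).symm
  haveI : IsScalarTower F P L := IsScalarTower.of_algebraMap_eq fun c => by
    rw [IsScalarTower.algebraMap_apply F K L, IsScalarTower.algebraMap_apply F K P,
      ← IsScalarTower.algebraMap_apply K P L]
  let 𝔫 := RingHom.ker (algebraMap P L)
  haveI : 𝔫.IsPrime := RingHom.ker_isPrime _
  let R := Localization.AtPrime 𝔫
  haveI : IsRegularLocalRing R := IsRegularRing.isRegularLocalRing_localization (R := P) 𝔫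
  let ι : R →+* L := IsLocalization.lift (M := 𝔫.primeCompl) (g := algebraMap P L)
    (fun y => isUnit_iff_ne_zero.2 y.2)
  have hι : Function.Surjective ι := fun l => by
    obtain ⟨a, b, hb, rfl⟩ := hθ l
    refine ⟨IsLocalization.mk' R a (⟨b, hb⟩ : 𝔫.primeCompl), ?_⟩
    exact (IsLocalization.lift_mk'_spec _ _ _ _).2 (mul_div_cancel₀ _ hb).symm
  letI : Algebra R L := ι.toAlgebra
  haveI : IsScalarTower P R L := IsScalarTower.of_algebraMap_eq fun c => (IsLocalization.lift_eq _ c).symm
  haveI : IsScalarTower F R L := IsScalarTower.to₁₃₄ F P R L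
  obtain ⟨hk1, hc1, hs1, hi1⟩ := index_residue F R L hι
  have hdim : (Module.finrank (ResidueField R) (CotangentSpace R) : ℤ) + t = s.card := by
    have h1 : ringKrullDim R = (𝔫.height : WithBot ℕ∞) := IsLocalization.AtPrime.ringKrullDim_eq_height 𝔫 R
    have h2 := IsRegularLocalRing.spanFinrank_maximalIdeal (R := R)
    rw [← finrank_cotangent_eq, h1] at h2
    rw [show (RingHom.ker (MvPolynomial.aeval θ : P →ₐ[K] L).toRingHom) = 𝔫 from rfl, ← h2] at hht
    exact_mod_cast hht
  haveI := hk1
  haveI := hc1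
  obtain ⟨hinj, hc0, hi0⟩ := toPoly_props (F := F) K L s.card
  haveI := hc0
  haveI : FiniteDimensional L (LinearMap.ker (toPoly (F := F) K L s.card)) := by
    rw [LinearMap.ker_eq_bot.2 hinj]
    infer_instance
  haveI := Algebra.FormallyEtale.of_isLocalization (Rₘ := R) 𝔫.primeCompl
  let e : L ⊗[P] Ω[P⁄F] ≃ₗ[L] L ⊗[R] Ω[R⁄F] :=
    (AlgebraTensorModule.cancelBaseChange P R L L Ω[P⁄F]).symm ≪≫ₗ
      (LinearEquiv.refl R (R ⊗[P] Ω[P⁄F]) |>.trans (tensorKaehlerEquivOfFormallyEtale F P R)).baseChange R L
  have he : mapBaseChange F R L ∘ₗ e.toLinearMap = mapBaseChange F P L := by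
    refine TensorProduct.AlgebraTensorModule.ext fun l ω => ?_
    have this : e (l ⊗ₜ ω) = l ⊗ₜ KaehlerDifferential.map F F P R ω := by
      simp [e]
      exact congrArg (l ⊗ₜ[R] ·) (one_smul R (KaehlerDifferential.map F F P R ω))
    rw [LinearMap.comp_apply, LinearEquiv.coe_coe, this, mapBaseChange_tmul, mapBaseChange_tmul]
    clear this
    congr 1
    have hω : ω ∈ Submodule.span P (Set.range (D F P)) := span_range_derivation F P ▸ trivial
    induction hω using Submodule.span_induction with
    | mem x hx =>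
      obtain ⟨a, rfl⟩ := hx
      rw [map_D, map_D, map_D, ← IsScalarTower.algebraMap_apply]
    | zero => simp
    | add x y _ _ hx hy => rw [map_add, map_add, hx, hy, map_add]
    | smul a x _ hx => rw [map_smul, LinearMap.map_smul_of_tower, map_smul, hx]
  haveI : FiniteDimensional L (LinearMap.ker (mapBaseChange F P L)) := by
    rw [← he, LinearMap.ker_comp]
    exact Module.Finite.equiv (e.ofSubmodule' (LinearMap.ker (mapBaseChange F R L))).symm
  have hsP : Function.Surjective (mapBaseChange F P L) := by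
    rw [← he]
    exact hs1.comp e.surjective
  haveI : Subsingleton (Ω[L⁄F] ⧸ LinearMap.range (mapBaseChange F P L)) :=
    Submodule.Quotient.subsingleton_iff.2 (LinearMap.range_eq_top.2 hsP)
  have hiP : (mapBaseChange F P L).index = Module.finrank (ResidueField R) (CotangentSpace R) := by
    rw [LinearMap.index_of_surjective hsP]
    have h2 : Module.finrank L (LinearMap.ker (mapBaseChange F P L)) =
        Module.finrank L (LinearMap.ker (mapBaseChange F R L)) := by
      rw [← he, LinearMap.ker_comp]
      exact (e.ofSubmodule' _).finrank_eq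
    rw [h2, ← LinearMap.index_of_surjective hs1, hi1]
  have hcomp := mapBaseChange_comp_toPoly (F := F) K L s.card
  refine ⟨?_, ?_, t, htL, ?_⟩
  · rw [← hcomp, LinearMap.ker_comp]
    infer_instance
  · rw [← hcomp, LinearMap.range_comp]
    infer_instance
  · rw [← hcomp, LinearMap.index_comp, hiP, hi0]
    omega

omit F in
/-- Over a base without absolute differentials the absolute and relative modules agree. -/
theorem map_bijective (P S : Type u) [CommRing P] [CommRing S] [Algebra P S] [Subsingleton Ω[P⁄ℤ]] :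
    Function.Bijective (KaehlerDifferential.map ℤ P S S) := by
  refine ⟨?_, map_surjective ℤ P S⟩
  rw [injective_iff_map_eq_zero]
  intro x hx
  obtain ⟨y, rfl⟩ := (exact_mapBaseChange_map ℤ P S x).1 hx
  induction y using TensorProduct.induction_on with
  | zero => simp
  | add a b ha hb =>
    rw [map_add, ha ((exact_mapBaseChange_map ℤ P S).apply_apply_eq_zero a),
      hb ((exact_mapBaseChange_map ℤ P S).apply_apply_eq_zero b), add_zero]
  | tmul s w => rw [Subsingleton.elim w 0, tmul_zero, map_zero]

/-- Compatibility of `mapBaseChange` with a change of base. -/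
theorem mapBaseChange_map {R S K L : Type*} [CommRing R] [CommRing S] [CommRing K] [CommRing L]
    [Algebra R S] [Algebra R K] [Algebra S K] [IsScalarTower R S K] [Algebra R L] [Algebra S L]
    [IsScalarTower R S L] [Algebra K L] [IsScalarTower R K L] [IsScalarTower S K L] (z : L ⊗[K] Ω[K⁄R]) :
    mapBaseChange S K L (((KaehlerDifferential.map R S K K)).baseChange L z) =
      KaehlerDifferential.map R S L L (mapBaseChange R K L z) := by
  induction z using TensorProduct.induction_on with
  | zero => simp
  | add a b ha hb => simp only [map_add, ha, hb]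
  | tmul l w =>
    rw [LinearMap.baseChange_tmul, mapBaseChange_tmul, mapBaseChange_tmul, map_smul]
    congr 1
    have hw : w ∈ Submodule.span K (Set.range (D R K)) := by rw [span_range_derivation]; trivial
    induction hw using Submodule.span_induction with
    | mem x hx =>
      obtain ⟨a, rfl⟩ := hx
      simp only [map_D]
      rfl
    | zero => simp
    | add a b _ _ ha hb => simp only [map_add, ha, hb]
    | smul c a _ ha =>
      simp only [map_smul, LinearMap.map_smul_of_tower, ha]

/-- The imperfection modules surject onto each other along an extension of the base. -/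
theorem imperfection_map_surjective {R : Type*} {S : Type*} {K L : Type u} [CommRing R] [CommRing S] [CommRing K]
    [CommRing L] [Algebra R S] [Algebra R K] [Algebra S K] [IsScalarTower R S K] [Algebra R L] [Algebra S L]
    [IsScalarTower R S L] [Algebra K L] [IsScalarTower R K L] [IsScalarTower S K L]
    {w : L ⊗[K] Ω[K⁄S]} (hw : w ∈ EGA41.imperfection S K L) :
    ∃ z ∈ EGA41.imperfection R K L, ((KaehlerDifferential.map R S K K)).baseChange L z = w := by
  obtain ⟨η, rfl⟩ := LinearMap.lTensor_surjective L (map_surjective R S K) w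
  have h1 : KaehlerDifferential.map R S L L (mapBaseChange R K L η) = 0 := by
    rw [← mapBaseChange_map]
    exact hw
  obtain ⟨ζ, hζ⟩ := (exact_mapBaseChange_map R S L _).1 h1
  let ψ : L ⊗[S] Ω[S⁄R] →ₗ[L] L ⊗[K] Ω[K⁄R] :=
    ((TensorProduct.mk K L Ω[K⁄R] 1).restrictScalars S ∘ₗ
      KaehlerDifferential.map R R S K).liftBaseChange L
  have hψ : ∀ (c : S), KaehlerDifferential.map R R S K (D R S c) = D R K (algebraMap S K c) :=
    fun c => map_D R R S K c
  have hψ1 : ∀ u, mapBaseChange R K L (ψ u) = mapBaseChange R S L u ∧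
      ((KaehlerDifferential.map R S K K)).baseChange L (ψ u) = 0 := by
    intro u
    induction u using TensorProduct.induction_on with
    | zero => simp
    | add a b ha hb => simp only [map_add, ha, hb, add_zero, and_self]
    | tmul l x =>
      have hx : x ∈ Submodule.span S (Set.range (D R S)) := by rw [span_range_derivation]; trivial
      induction hx using Submodule.span_induction generalizing l with
      | mem y hy =>
        obtain ⟨c, rfl⟩ := hy
        simp only [ψ, LinearMap.liftBaseChange_tmul, LinearMap.comp_apply, LinearMap.restrictScalars_apply,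
          TensorProduct.mk_apply, map_smul, mapBaseChange_tmul, LinearMap.baseChange_tmul, one_smul, hψ, map_D,
          Algebra.algebraMap_self_apply, Derivation.map_algebraMap, tmul_zero, smul_zero,
          ← IsScalarTower.algebraMap_apply, and_self]
      | zero => simp
      | add a b _ _ ha hb => simp only [tmul_add, map_add, ha l, hb l, add_zero, and_self]
      | smul c a _ ha => rw [← smul_tmul]; exact ha _
  refine ⟨η - ψ ζ, ?_, ?_⟩
  · show mapBaseChange R K L (η - ψ ζ) = 0
    rw [map_sub, (hψ1 ζ).1, hζ, sub_self]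
  · rw [map_sub, (hψ1 ζ).2, sub_zero]
    rfl

omit F in
/-- Cartier's equality over the integers. -/
theorem cartier (K L : Type u) [Field K] [Field L] [Algebra K L] [Algebra.EssFiniteType K L] :
    Module.Finite L (Ω[L⁄K]) ∧ Module.Finite L (EGA41.imperfection ℤ K L) ∧
      (Module.finrank L (Ω[L⁄K]) : ℤ) - Module.finrank L (EGA41.imperfection ℤ K L) =
        Cardinal.toNat (Algebra.trdeg K L) := by
  haveI := PrimeTransfer.perfectField_bot K
  haveI := PrimeTransfer.subsingleton_kaehler_bot K
  let F := (⊥ : Subfield K)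
  obtain ⟨hker, hcok, t, ht, hidx⟩ := index_field F K L
  let π := KaehlerDifferential.map F K L L
  let q : (Ω[L⁄F] ⧸ LinearMap.range (mapBaseChange F K L)) ≃ₗ[L] Ω[L⁄K] :=
    (Submodule.quotEquivOfEq _ _ (LinearMap.exact_iff.1 (exact_mapBaseChange_map F K L)).symm).trans
      (π.quotKerEquivOfSurjective (map_surjective F K L))
  let ek : L ⊗[K] Ω[K⁄ℤ] ≃ₗ[L] L ⊗[K] Ω[K⁄F] :=
    (LinearEquiv.ofBijective _ (map_bijective F K)).baseChange K L
  have heq : LinearMap.ker (mapBaseChange ℤ K L) =
      (LinearMap.ker (mapBaseChange F K L)).comap ek.toLinearMap := by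
    ext z
    have h : mapBaseChange F K L (ek z) = KaehlerDifferential.map ℤ F L L (mapBaseChange ℤ K L z) :=
      mapBaseChange_map z
    rw [LinearMap.mem_ker, Submodule.mem_comap, LinearMap.mem_ker, LinearEquiv.coe_coe, h,
      map_eq_zero_iff _ (map_bijective F L).1]
  let ei : EGA41.imperfection ℤ K L ≃ₗ[L] LinearMap.ker (mapBaseChange F K L) :=
    (LinearEquiv.ofEq _ _ heq).trans (ek.ofSubmodule' _)
  haveI := hker
  haveI := hcok
  refine ⟨Module.Finite.equiv q, Module.Finite.equiv ei.symm, ?_⟩
  rw [← q.finrank_eq, ei.finrank_eq, ht, Cardinal.toNat_natCast]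
  rw [LinearMap.index_eq_finrank_sub] at hidx
  omega

end Groth.Agent.H05EGA4.CotIdx
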