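import Groth.Agent.H05EGA4.CompletedFree
import Groth.Agent.H05EGA4.CompletedKaehler
import Groth.Agent.H05EGA4.AdicConormal
import Groth.Agent.H05EGA4.CotIdx2
import Groth.Agent.H05EGA4.FSCriteria

/-! The rank of the completed differentials of a formally smooth local algebra over a field. -/

set_option autoImplicit false
set_option linter.style.haveILetI false

open TensorProduct KaehlerDifferential IsLocalRing

universe u

namespace Groth.Agent.H05EGA4.KaehlerRank

/-- The chain rule for absolute differentials. -/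
theorem map_map {R : Type*} {S T U : Type u} [CommRing R] [CommRing S] [CommRing T] [CommRing U] [Algebra R S] [Algebra R T]
    [Algebra R U] [Algebra S T] [Algebra T U] [Algebra S U] [IsScalarTower S T U] [IsScalarTower R S T]
    [IsScalarTower R T U] [IsScalarTower R S U] (ω : Ω[S⁄R]) :
    KaehlerDifferential.map R R T U (KaehlerDifferential.map R R S T ω) =
      KaehlerDifferential.map R R S U ω := by
  have hω : ω ∈ Submodule.span S (Set.range (D R S)) := span_range_derivation R S ▸ trivial
  induction hω using Submodule.span_induction with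
  | mem x hx =>
    obtain ⟨a, rfl⟩ := hx
    rw [map_D, map_D, map_D, ← IsScalarTower.algebraMap_apply]
  | zero => simp
  | add x y _ _ hx hy => rw [map_add, map_add, hx, hy, map_add]
  | smul a x _ hx => rw [map_smul, LinearMap.map_smul_of_tower, map_smul, hx]

/-- Composition of base changes of differentials. -/
theorem mapBaseChange_comp (R : Type*) (S T U : Type u) [CommRing R] [CommRing S] [CommRing T] [CommRing U] [Algebra R S]
    [Algebra R T] [Algebra R U] [Algebra S T] [Algebra T U] [Algebra S U] [IsScalarTower S T U] [IsScalarTower R S T]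
    [IsScalarTower R T U] [IsScalarTower R S U] :
    mapBaseChange R T U ∘ₗ ((mapBaseChange R S T).baseChange U ∘ₗ
      (AlgebraTensorModule.cancelBaseChange S T U U Ω[S⁄R]).symm.toLinearMap) = mapBaseChange R S U := by
  refine AlgebraTensorModule.ext fun l ω => ?_
  simp only [LinearMap.comp_apply, LinearEquiv.coe_coe, AlgebraTensorModule.cancelBaseChange_symm_tmul,
    LinearMap.baseChange_tmul, mapBaseChange_tmul, one_smul, map_map]

/-- `dim K ⊗ Ω_{A/k} = dim 𝔪/𝔪² + trdeg K/k`. -/
theorem finrank_eq {k A : Type u} [Field k] [CommRing A] [IsLocalRing A] [IsNoetherianRing A] [Algebra k A]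
    (h : CAlgX.IsAdicFormallySmooth k A (maximalIdeal A)) [Algebra.EssFiniteType k (ResidueField A)] :
    Module.Finite (ResidueField A) (ResidueField A ⊗[A] Ω[A⁄k]) ∧
      Module.finrank (ResidueField A) (ResidueField A ⊗[A] Ω[A⁄k]) =
        Module.finrank (ResidueField A) (CotangentSpace A) +
          Cardinal.toNat (Algebra.trdeg k (ResidueField A)) := by
  let K := ResidueField A
  haveI := PrimeTransfer.perfectField_bot k
  haveI := PrimeTransfer.subsingleton_kaehler_bot k
  let F := (⊥ : Subfield k)
  obtain ⟨hΩfin, hΥ, hcar⟩ := CotIdx.cartier k K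
  haveI : IsScalarTower F A K := IsScalarTower.of_algebraMap_eq fun c =>
    IsScalarTower.algebraMap_apply k A K (c : k)
  obtain ⟨hkF, -, hsF, hiF⟩ := CotIdx.index_residue F A K residue_surjective
  -- absolute differentials
  let g : K ⊗[A] Ω[A⁄ℤ] →ₗ[K] Ω[K⁄ℤ] := mapBaseChange ℤ A K
  have hgs : Function.Surjective g := mapBaseChange_surjective ℤ A K residue_surjective
  let eA : K ⊗[A] Ω[A⁄ℤ] ≃ₗ[K] K ⊗[A] Ω[A⁄F] :=
    (LinearEquiv.ofBijective _ (CotIdx.map_bijective F A)).baseChange A K
  have heq : LinearMap.ker g = (LinearMap.ker (mapBaseChange F A K)).comap eA.toLinearMap := by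
    ext z
    have hz : mapBaseChange F A K (eA z) = KaehlerDifferential.map ℤ F K K (mapBaseChange ℤ A K z) :=
      CotIdx.mapBaseChange_map z
    rw [LinearMap.mem_ker, Submodule.mem_comap, LinearMap.mem_ker, LinearEquiv.coe_coe, hz]
    exact (map_eq_zero_iff _ (CotIdx.map_bijective F K).1).symm
  let eg : LinearMap.ker g ≃ₗ[K] LinearMap.ker (mapBaseChange F A K) :=
    (LinearEquiv.ofEq _ _ heq).trans (eA.ofSubmodule' _)
  haveI : FiniteDimensional K (LinearMap.ker g) := Module.Finite.equiv eg.symm
  have hg : g.index = Module.finrank K (CotangentSpace A) := by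
    rw [LinearMap.index_of_surjective hgs, eg.finrank_eq, ← LinearMap.index_of_surjective hsF, hiF]
  -- the map from the differentials of the base field
  let e := AlgebraTensorModule.cancelBaseChange k A K K (Ω[k⁄ℤ])
  let φ : K ⊗[k] (Ω[k⁄ℤ]) →ₗ[K] K ⊗[A] (Ω[A⁄ℤ]) :=
    ((mapBaseChange ℤ k A).baseChange K).comp e.symm.toLinearMap
  have hL := (injective_lTensor_iff_forall_derivation k A).mpr fun D => exists_derivation_of_isAdicFormallySmooth h D
  have hφi : Function.Injective φ := fun x y hxy => e.symm.injective (hL hxy)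
  have hcomp : g ∘ₗ φ = mapBaseChange ℤ k K := mapBaseChange_comp ℤ k A K
  have hrange : LinearMap.ker ((KaehlerDifferential.map ℤ k A A).baseChange K) = LinearMap.range φ := by
    rw [LinearMap.range_comp_of_range_eq_top _ (LinearEquiv.range _)]
    ext z
    exact lTensor_exact K (exact_mapBaseChange_map ℤ k A) (map_surjective ℤ k A) z
  let q : ((K ⊗[A] Ω[A⁄ℤ]) ⧸ LinearMap.range φ) ≃ₗ[K] K ⊗[A] Ω[A⁄k] :=
    (Submodule.quotEquivOfEq _ _ hrange.symm).trans
      (((KaehlerDifferential.map ℤ k A A).baseChange K).quotKerEquivOfSurjective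
        (LinearMap.lTensor_surjective K (map_surjective ℤ k A)))
  haveI hfin : Module.Finite K (K ⊗[A] Ω[A⁄k]) := by
    haveI : Module.Finite (A ⧸ maximalIdeal A) Ω[A ⧸ maximalIdeal A⁄k] := hΩfin
    haveI : Module.Finite A (maximalIdeal A).Cotangent :=
      Module.Finite.of_surjective (maximalIdeal A).toCotangent (maximalIdeal A).toCotangent_surjective
    haveI : Module.Finite (A ⧸ maximalIdeal A) (maximalIdeal A).Cotangent :=
      Module.Finite.of_restrictScalars_finite A _ _
    haveI := CompletedKaehler.finite_quotient_smul (A := k) (maximalIdeal A)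
    haveI : Module.Finite A (K ⊗[A] Ω[A⁄k]) :=
      Module.Finite.equiv (TensorProduct.quotTensorEquivQuotSMul Ω[A⁄k] (maximalIdeal A)).symm
    exact Module.Finite.of_restrictScalars_finite A K _
  refine ⟨hfin, ?_⟩
  haveI : FiniteDimensional K (LinearMap.ker φ) := by
    rw [LinearMap.ker_eq_bot.2 hφi]; infer_instance
  haveI : FiniteDimensional K ((K ⊗[A] Ω[A⁄ℤ]) ⧸ LinearMap.range φ) := Module.Finite.equiv q.symm
  haveI : Subsingleton (Ω[K⁄ℤ] ⧸ LinearMap.range g) :=
    Submodule.Quotient.subsingleton_iff.2 (LinearMap.range_eq_top.2 hgs)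
  have hidx : (mapBaseChange ℤ k K).index =
      Module.finrank K (LinearMap.ker (mapBaseChange ℤ k K)) - (Module.finrank K Ω[K⁄k] : ℤ) := by
    rw [LinearMap.index_eq_finrank_sub]
    congr 2
    exact ((Submodule.quotEquivOfEq _ _ (LinearMap.exact_iff.1 (exact_mapBaseChange_map ℤ k K)).symm).trans
      ((KaehlerDifferential.map ℤ k K K).quotKerEquivOfSurjective (map_surjective ℤ k K))).finrank_eq
  have hφ : φ.index = -(Module.finrank K (K ⊗[A] Ω[A⁄k]) : ℤ) := by
    rw [LinearMap.index_of_injective hφi, q.finrank_eq]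
  have hsum := LinearMap.index_comp (f := φ) g
  rw [hcomp, hidx, hg, hφ] at hsum
  show Module.finrank K (K ⊗[A] Ω[A⁄k]) =
    Module.finrank K (CotangentSpace A) + Cardinal.toNat (Algebra.trdeg k K)
  have hcar' : (Module.finrank K Ω[K⁄k] : ℤ) - Module.finrank K (LinearMap.ker (mapBaseChange ℤ k K)) =
      Cardinal.toNat (Algebra.trdeg k K) := hcar
  generalize hf : Module.finrank K (K ⊗[A] Ω[A⁄k]) = f at hsum ⊢
  generalize hb : Module.finrank K (CotangentSpace A) = b at hsum ⊢
  generalize ha : Cardinal.toNat (Algebra.trdeg k K) = a at hcar' ⊢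
  generalize hw : Module.finrank K Ω[K⁄k] = w at hsum hcar'
  generalize hu : Module.finrank K (LinearMap.ker (mapBaseChange ℤ k K)) = u at hcar'
  clear * - hsum hcar' hu
  omega

/-- The completed differentials are free of rank `dim A + trdeg K/k`. -/
theorem completed_free {k A : Type u} [Field k] [CommRing A] [IsLocalRing A] [IsNoetherianRing A] [Algebra k A]
    [IsAdicComplete (maximalIdeal A) A]
    (h : CAlgX.IsAdicFormallySmooth k A (maximalIdeal A)) [Algebra.EssFiniteType k (ResidueField A)] :
    Nonempty (AdicCompletion (maximalIdeal A) (Ω[A⁄k]) ≃ₗ[A]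
      (Fin (Module.finrank (ResidueField A) (CotangentSpace A) +
          Cardinal.toNat (Algebra.trdeg k (ResidueField A))) → A)) := by
  obtain ⟨hfin, hd⟩ := finrank_eq h
  rw [← hd]
  exact CompletedFree.nonempty_adicCompletion_equiv fun n _ =>
    AdicConormal.projective_kaehler_quotient n (AdicConormal.liftsAt_of_isAdicFormallySmooth h n) le_rfl

end Groth.Agent.H05EGA4.KaehlerRank
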