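import Groth.Agent.H05EGA4.SymSmooth
import Mathlib.RingTheory.Kaehler.Basic
import Mathlib.LinearAlgebra.TensorProduct.RightExactness

/-! Relative adic formal smoothness through an auxiliary base. -/

set_option autoImplicit false
set_option linter.style.haveILetI false
set_option maxHeartbeats 1000000

open TensorProduct KaehlerDifferential

universe u

namespace Groth.Agent.H05EGA4.RelSymSmooth

variable {Λ A B : Type u} [CommRing Λ] [CommRing A] [CommRing B] [Algebra Λ A] [Algebra A B]
  [Algebra Λ B] [IsScalarTower Λ A B]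

/-- `Λ`-derivations of `A` into modules killed by `K` extend to `B`. -/
def ExtBase (Λ A : Type u) {B : Type u} [CommRing Λ] [CommRing A] [CommRing B] [Algebra Λ A]
    [Algebra A B] [Algebra Λ B] (K : Ideal B) : Prop :=
  ∀ (M : Type u) [AddCommGroup M] [Module B M] [Module A M] [Module Λ M] [IsScalarTower A B M]
    [IsScalarTower Λ B M] [IsScalarTower Λ A M],
    (∀ b ∈ K, ∀ x : M, b • x = 0) → ∀ D₀ : Derivation Λ A M,
      ∃ d : Derivation Λ B M, ∀ a, d (algebraMap A B a) = D₀ a

theorem extBase_of_split (J : Ideal B)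
    (hinj : Function.Injective ((mapBaseChange Λ A B).lTensor (B ⧸ J)))
    [Module.Projective (B ⧸ J) ((B ⧸ J) ⊗[B] (Ω[B⁄A]))] : ExtBase Λ A J := by
  intro M _ _ _ _ _ _ _ hM D₀
  let f := (mapBaseChange Λ A B).baseChange (B ⧸ J)
  let g := (KaehlerDifferential.map Λ A B B).baseChange (B ⧸ J)
  have hf : Function.Injective f := by
    rwa [show ⇑f = (mapBaseChange Λ A B).lTensor (B ⧸ J) from rfl]
  have hg : Function.Surjective g :=
    LinearMap.lTensor_surjective (B ⧸ J) (KaehlerDifferential.map_surjective Λ A B)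
  have hfg : Function.Exact f g :=
    lTensor_exact (B ⧸ J) (exact_mapBaseChange_map Λ A B) (KaehlerDifferential.map_surjective Λ A B)
  obtain ⟨l, hl⟩ := Module.projective_lifting_property g LinearMap.id hg
  have htf := hfg.split_tfae'.out 0 1
  obtain ⟨-, r, hr⟩ := htf.mp ⟨hf, l, hl⟩
  let u : (B ⧸ J) ⊗[B] (B ⊗[A] Ω[A⁄Λ]) →ₗ[B] M :=
    AdicConormal.liftQuot (S := B ⧸ J) Ideal.Quotient.mk_surjective
      (D₀.liftKaehlerDifferential.liftBaseChange B)
      (fun b hb x => hM b (Ideal.mk_ker.le hb) _)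
  refine ⟨((u ∘ₗ r.restrictScalars B) ∘ₗ TensorProduct.mk B (B ⧸ J) Ω[B⁄Λ] 1).compDer (D Λ B),
    fun a => ?_⟩
  show u (r ((1 : B ⧸ J) ⊗ₜ[B] D Λ B (algebraMap A B a))) = D₀ a
  have h : f ((1 : B ⧸ J) ⊗ₜ[B] ((1 : B) ⊗ₜ[A] D Λ A a)) = (1 : B ⧸ J) ⊗ₜ[B] D Λ B (algebraMap A B a) := by
    show (1 : B ⧸ J) ⊗ₜ[B] mapBaseChange Λ A B _ = _
    rw [mapBaseChange_tmul, one_smul, map_D]
  rw [← h, show r (f ((1 : B ⧸ J) ⊗ₜ[B] ((1 : B) ⊗ₜ[A] D Λ A a))) = _ from LinearMap.congr_fun hr _]
  show u ((1 : B ⧸ J) ⊗ₜ[B] _) = _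
  rw [AdicConormal.liftQuot_one_tmul, LinearMap.liftBaseChange_tmul, one_smul,
    Derivation.liftKaehlerDifferential_comp_D]

theorem extBase_pow {J : Ideal B} (hB : CAlgX.IsAdicFormallySmooth Λ B J) (h : ExtBase Λ A J) :
    ∀ s : ℕ, ExtBase Λ A (J ^ s) := by
  intro s
  induction s with
  | zero =>
    intro M _ _ _ _ _ _ _ hM D₀
    refine ⟨0, fun a => ?_⟩
    have h0 := hM 1 (by simp) (D₀ a)
    rw [one_smul] at h0
    rw [h0]; rfl
  | succ s ih =>
    intro M _ _ _ _ _ _ _ hM D₀
    let M' : Submodule B M := J • ⊤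
    obtain ⟨d', hd'⟩ := h (M ⧸ M') (fun b hb x => by
      obtain ⟨x, rfl⟩ := Submodule.Quotient.mk_surjective _ x
      rw [← Submodule.Quotient.mk_smul, Submodule.Quotient.mk_eq_zero]
      exact Submodule.smul_mem_smul hb trivial) ((M'.mkQ.restrictScalars A).compDer D₀)
    obtain ⟨d, hd⟩ := AdicConormal.exists_derivation_lift (s + 1)
      (AdicConormal.liftsAt_of_isAdicFormallySmooth hB (s + 1)) hM M'.mkQ M'.mkQ_surjective d'
    have hmem : ∀ a, D₀ a - d.compAlgebraMap A a ∈ M' := fun a => by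
      rw [← Submodule.Quotient.eq]
      exact ((hd (algebraMap A B a)).trans (hd' a)).symm
    let δ : Derivation Λ A M' := Derivation.mk'
      { toFun := fun a => ⟨(D₀ - d.compAlgebraMap A) a, hmem a⟩
        map_add' := fun a b => Subtype.ext ((D₀ - d.compAlgebraMap A).map_add a b)
        map_smul' := fun l a => Subtype.ext ((D₀ - d.compAlgebraMap A).map_smul l a) }
      fun a b => Subtype.ext ((D₀ - d.compAlgebraMap A).leibniz a b)
    obtain ⟨e, he⟩ := ih M' (fun b hb x => Subtype.ext (by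
      show b • x.1 = 0
      refine Submodule.smul_induction_on x.2 (fun c hc y _ => ?_)
        (fun u v hu hv => by rw [smul_add, hu, hv, add_zero])
      rw [smul_smul]
      exact hM (b * c) (by rw [pow_succ]; exact Ideal.mul_mem_mul hb hc) y)) δ
    refine ⟨d + M'.subtype.compDer e, fun a => ?_⟩
    show d (algebraMap A B a) + (e (algebraMap A B a) : M) = D₀ a
    rw [he]
    show d (algebraMap A B a) + (D₀ a - d (algebraMap A B a)) = _
    abel

theorem isAdicFormallySmooth_of_extBase {J : Ideal B} (hB : CAlgX.IsAdicFormallySmooth Λ B J)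
    (h : ∀ s, ExtBase Λ A (J ^ s)) : CAlgX.IsAdicFormallySmooth A B J := by
  intro E _ _ N0 hN ψ ⟨k, hk⟩
  letI : Algebra Λ E := ((algebraMap A E).comp (algebraMap Λ A)).toAlgebra
  haveI : IsScalarTower Λ A E := IsScalarTower.of_algebraMap_eq fun _ => rfl
  obtain ⟨χ, hχ⟩ := hB E N0 hN (ψ.restrictScalars Λ) ⟨k, hk⟩
  letI : Algebra B E := χ.toRingHom.toAlgebra
  haveI : IsScalarTower Λ B E := IsScalarTower.of_algebraMap_eq fun r => (χ.commutes r).symm
  have hχN : ∀ b, Ideal.Quotient.mk N0 (χ b) = ψ b := fun b => AlgHom.congr_fun hχ b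
  have hNN : ∀ x ∈ N0, ∀ y ∈ N0, x * y = 0 := fun x hx y hy => by
    have := Ideal.mul_mem_mul hx hy
    rwa [← sq, hN, Ideal.mem_bot] at this
  let N' : Submodule B E := N0.restrictScalars B
  letI : Module A N' := Module.compHom N' (algebraMap A B)
  haveI : IsScalarTower A B N' := IsScalarTower.of_algebraMap_smul fun _ _ => rfl
  haveI : IsScalarTower Λ A N' := IsScalarTower.of_algebraMap_smul fun l x => by
    show algebraMap A B (algebraMap Λ A l) • x = l • x
    rw [← IsScalarTower.algebraMap_apply, algebraMap_smul]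
  have hmem : ∀ a, χ (algebraMap A B a) - algebraMap A E a ∈ N' := fun a => by
    show _ ∈ N0
    rw [← Ideal.Quotient.eq_zero_iff_mem, map_sub, hχN, AlgHom.commutes, sub_eq_zero]
    rfl
  let D₀ : Derivation Λ A N' := Derivation.mk'
    { toFun := fun a => ⟨χ (algebraMap A B a) - algebraMap A E a, hmem a⟩
      map_add' := fun a b => Subtype.ext (by
        simp only [map_add, Submodule.coe_add]
        ring)
      map_smul' := fun l a => Subtype.ext (by
        show χ (algebraMap A B (l • a)) - algebraMap A E (l • a) =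
          l • (χ (algebraMap A B a) - algebraMap A E a)
        rw [Algebra.smul_def l a, map_mul, map_mul, map_mul, ← IsScalarTower.algebraMap_apply Λ A B,
          χ.commutes, ← IsScalarTower.algebraMap_apply Λ A E, ← mul_sub, ← Algebra.smul_def]) }
    fun a b => Subtype.ext (by
      show χ (algebraMap A B (a * b)) - algebraMap A E (a * b) =
        χ (algebraMap A B a) * (χ (algebraMap A B b) - algebraMap A E b) +
          χ (algebraMap A B b) * (χ (algebraMap A B a) - algebraMap A E a)
      rw [map_mul, map_mul, map_mul]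
      linear_combination (-1 : E) * hNN _ (hmem a) _ (hmem b))
  obtain ⟨d, hd⟩ := h k N' (fun b hb x => Subtype.ext (hNN _
    (Ideal.Quotient.eq_zero_iff_mem.1 ((hχN b).trans (hk b hb))) _ x.2)) D₀
  refine ⟨{ toFun := fun b => χ b - (d b : E)
            map_one' := by simp
            map_mul' := fun b c => by
              rw [Derivation.leibniz, Submodule.coe_add, map_mul]
              show χ b * χ c - (χ b * (d c : E) + χ c * (d b : E)) = _
              linear_combination (-1 : E) * hNN _ (d b).2 _ (d c).2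
            map_zero' := by simp
            map_add' := fun b c => by simp [map_add]; abel
            commutes' := fun a => by
              rw [hd]
              exact sub_sub_cancel _ _ }, AlgHom.ext fun b => ?_⟩
  show Ideal.Quotient.mk N0 (χ b - (d b : E)) = ψ b
  rw [map_sub, hχN, Ideal.Quotient.eq_zero_iff_mem.2 (d b).2, sub_zero]

theorem extBase_of_isAdicFormallySmooth {J : Ideal B} (hB : CAlgX.IsAdicFormallySmooth A B J) :
    ExtBase Λ A J := by
  intro M _ _ _ _ _ _ _ hM D₀
  let D : AdicConormal.Datum J (⊥ : Ideal B) M :=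
    ⟨0, hM, fun b hb x => by rw [Ideal.mem_bot.1 hb, zero_smul], fun _ _ => rfl⟩
  obtain ⟨E, _, _, ι, a, fst, hfι, hfa, hfex, hmul, hsq, hinj, -, hι0, hgen⟩ :=
    AdicConormal.exists_extension (A := Λ) D
  let N : Ideal E := RingHom.ker fst
  have hN : N ^ 2 = ⊥ := by
    rw [sq, eq_bot_iff, Ideal.mul_le]
    intro e he e' he'
    obtain ⟨x, rfl⟩ := hfex e he
    obtain ⟨y, rfl⟩ := hfex e' he'
    exact hsq x y
  let tw : A →+* E :=
    { toFun := fun x => ι (algebraMap A B x) + a (D₀ x)
      map_one' := by simp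
      map_mul' := fun x y => by
        rw [Derivation.leibniz, map_add a, ← algebraMap_smul B x (D₀ y), ← algebraMap_smul B y (D₀ x),
          ← hmul, ← hmul, map_mul, map_mul]
        linear_combination -hsq (D₀ x) (D₀ y)
      map_zero' := by simp
      map_add' := fun x y => by simp only [map_add]; ring }
  letI : Algebra A E := tw.toAlgebra
  let ψ : B →ₐ[A] E ⧸ N :=
    { (Ideal.Quotient.mk N).comp ι.toRingHom with
      commutes' := fun x => Ideal.Quotient.eq.2 (by
        show ι (algebraMap A B x) - (ι (algebraMap A B x) + a (D₀ x)) ∈ N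
        rw [sub_add_cancel_left, neg_mem_iff, RingHom.mem_ker, hfa]) }
  obtain ⟨χ, hχ⟩ := hB E N hN ψ ⟨1, fun b hb => by
    show Ideal.Quotient.mk N (ι b) = 0
    rw [hι0 b (by rwa [pow_one] at hb), map_zero]⟩
  have hd0 : ∀ b, ∃ x, a x = χ b - ι b := fun b => hfex _
    (RingHom.mem_ker.1 (Ideal.Quotient.eq.1 (AlgHom.congr_fun hχ b)))
  choose d hd using hd0
  have hmul' : ∀ u v, d (u * v) = u • d v + v • d u := fun u v => hinj (by
    rw [map_add, ← hmul, ← hmul, hd, hd, hd, map_mul, map_mul]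
    have h0 := hsq (d u) (d v)
    rw [hd, hd] at h0
    linear_combination h0)
  have hadd : ∀ u v, d (u + v) = d u + d v := fun u v => hinj (by simp only [map_add, hd]; ring)
  have htw : ∀ x, d (algebraMap A B x) = D₀ x := fun x => hinj (by
    rw [hd, χ.commutes]
    show ι (algebraMap A B x) + a (D₀ x) - ι (algebraMap A B x) = _
    ring)
  refine ⟨Derivation.mk'
    { toFun := d
      map_add' := hadd
      map_smul' := fun l u => by
        rw [RingHom.id_apply, Algebra.smul_def, hmul', IsScalarTower.algebraMap_apply Λ A B, htw,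
          Derivation.map_algebraMap, smul_zero, add_zero,
          ← IsScalarTower.algebraMap_apply, algebraMap_smul] }
    hmul', htw⟩

theorem injective_of_extBase {J : Ideal B} (h : ExtBase Λ A J) :
    Function.Injective ((mapBaseChange Λ A B).lTensor (B ⧸ J)) := by
  obtain ⟨d, hd⟩ := h ((B ⧸ J) ⊗[B] (B ⊗[A] Ω[A⁄Λ]))
    (fun b hb x => by
      rw [← algebraMap_smul (B ⧸ J) b x, Ideal.Quotient.algebraMap_eq,
        Ideal.Quotient.eq_zero_iff_mem.2 hb, zero_smul])
    (((TensorProduct.mk B (B ⧸ J) (B ⊗[A] Ω[A⁄Λ]) 1).restrictScalars A ∘ₗ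
      TensorProduct.mk A B Ω[A⁄Λ] 1).compDer (D Λ A))
  let r := d.liftKaehlerDifferential.liftBaseChange (B ⧸ J)
  refine Function.LeftInverse.injective (g := r) fun z => ?_
  induction z using TensorProduct.induction_on with
  | zero => simp
  | add x y hx hy => rw [map_add, map_add, hx, hy]
  | tmul c w =>
    rw [LinearMap.lTensor_tmul, LinearMap.liftBaseChange_tmul]
    have h1 : ∀ ω : Ω[A⁄Λ], d.liftKaehlerDifferential (mapBaseChange Λ A B ((1 : B) ⊗ₜ ω)) =
        (1 : B ⧸ J) ⊗ₜ[B] ((1 : B) ⊗ₜ[A] ω) := fun ω => by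
      have : ω ∈ Submodule.span A (Set.range (D Λ A)) := by rw [span_range_derivation]; trivial
      induction this using Submodule.span_induction with
      | mem x hx =>
        obtain ⟨a, rfl⟩ := hx
        rw [mapBaseChange_tmul, one_smul, map_D, Derivation.liftKaehlerDifferential_comp_D, hd]
        rfl
      | zero => simp
      | add x y _ _ hx hy => rw [tmul_add, map_add, map_add, hx, hy, tmul_add]
      | smul a x _ hx =>
        rw [tmul_smul, ← algebraMap_smul B a ((1 : B) ⊗ₜ[A] x), map_smul, map_smul, hx, tmul_smul]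
    have h2 : d.liftKaehlerDifferential (mapBaseChange Λ A B w) = (1 : B ⧸ J) ⊗ₜ[B] w := by
      induction w using TensorProduct.induction_on with
      | zero => simp
      | add x y hx hy => rw [map_add, map_add, hx, hy, tmul_add]
      | tmul b ω =>
        rw [show b ⊗ₜ[A] ω = b • ((1 : B) ⊗ₜ[A] ω) by rw [smul_tmul', smul_eq_mul, mul_one],
          map_smul, map_smul, h1, tmul_smul]
    rw [h2, smul_tmul', smul_eq_mul, mul_one]

omit [Algebra Λ A] [IsScalarTower Λ A B] in
theorem isAdicFormallySmooth_comp [Algebra Λ A] [IsScalarTower Λ A B] [Algebra.FormallySmooth Λ A]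
    {J : Ideal B} (hB : CAlgX.IsAdicFormallySmooth A B J) : CAlgX.IsAdicFormallySmooth Λ B J := by
  intro E _ _ N hN ψ hψ
  let u : A →ₐ[Λ] E := Algebra.FormallySmooth.lift N ⟨2, hN⟩ (ψ.comp (IsScalarTower.toAlgHom Λ A B))
  letI : Algebra A E := u.toRingHom.toAlgebra
  haveI : IsScalarTower Λ A E := IsScalarTower.of_algebraMap_eq fun l => (u.commutes l).symm
  let ψ' : B →ₐ[A] E ⧸ N :=
    { ψ.toRingHom with
      commutes' := fun a => (Algebra.FormallySmooth.mk_lift N ⟨2, hN⟩
        (ψ.comp (IsScalarTower.toAlgHom Λ A B)) a).symm }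
  obtain ⟨χ, hχ⟩ := hB E N hN ψ' hψ
  exact ⟨χ.restrictScalars Λ, AlgHom.ext fun b => AlgHom.congr_fun hχ b⟩

end Groth.Agent.H05EGA4.RelSymSmooth
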