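import Groth.Agent.H05EGA4.NagataDetect
import Groth.Agent.H05EGA4.KaehlerRank
import Groth.Agent.H05EGA4.RelSymSmooth
import Groth.Agent.S2451

/-! Nagata's Jacobian criterion. -/

set_option autoImplicit false
set_option linter.style.haveILetI false
set_option maxHeartbeats 1000000

open IsLocalRing

universe u

namespace Groth.Agent.H05EGA4.NagataMain

/-- With finite reduction modulo the maximal ideal, every element of the completion comes from the module. -/
theorem of_surjective_of_finite {A : Type u} [CommRing A] (I : Ideal A) [IsAdicComplete I A] {M : Type u}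
    [AddCommGroup M] [Module A M] [Module.Finite A (M ⧸ (I • ⊤ : Submodule A M))] :
    Function.Surjective (AdicCompletion.of I M) := by
  obtain ⟨n, g, hg⟩ := Module.Finite.exists_fin' A (M ⧸ (I • ⊤ : Submodule A M))
  obtain ⟨f, hf⟩ := Module.projective_lifting_property (I • ⊤ : Submodule A M).mkQ g (Submodule.mkQ_surjective _)
  have hs := AdicCompletion.map_surjective_of_mkQ_comp_surjective (I := I) (f := f) (by rw [hf]; exact hg)
  intro z
  obtain ⟨y, rfl⟩ := hs z
  have hof : Function.Surjective (AdicCompletion.of I (Fin n → A)) := fun y => by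
    refine ⟨fun i => (AdicCompletion.ofLinearEquiv I A).symm (AdicCompletion.piEquivFin I n y i), ?_⟩
    refine (AdicCompletion.piEquivFin I n).injective (funext fun i => ?_)
    rw [show AdicCompletion.piEquivFin I n (AdicCompletion.of I (Fin n → A) _) i =
      AdicCompletion.of I A ((AdicCompletion.ofLinearEquiv I A).symm (AdicCompletion.piEquivFin I n y i)) from rfl]
    exact (AdicCompletion.ofLinearEquiv I A).apply_symm_apply _
  obtain ⟨v, rfl⟩ := hof y
  exact ⟨f v, (AdicCompletion.map_of I f v).symm⟩

/-- Restriction of a derivation along an algebra map. -/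
theorem exists_restrict {A R M : Type u} [CommRing A] [CommRing R] [Algebra A R] [AddCommGroup M] [Module R M]
    [Module A M] [IsScalarTower A R M] (E : Derivation ℤ R M) :
    ∃ E' : Derivation ℤ A M, ∀ a, E' a = E (algebraMap A R a) :=
  ⟨Derivation.mk' (E.toLinearMap.toAddMonoidHom.comp (algebraMap A R).toAddMonoidHom).toIntLinearMap fun a b => by
    show E (algebraMap A R (a * b)) = a • E (algebraMap A R b) + b • E (algebraMap A R a)
    rw [map_mul, E.leibniz, algebraMap_smul, algebraMap_smul], fun _ => rfl⟩

/-- Detection in characteristic zero. -/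
theorem relation_eq_zero_charZero {k K₀ A : Type u} [Field k] [Field K₀] [CharZero K₀] [CommRing A]
    [IsRegularLocalRing A] [IsAdicComplete (maximalIdeal A) A] [Algebra k K₀] [Algebra k A] [Algebra K₀ A]
    [IsScalarTower k K₀ A] [Module.Finite K₀ (ResidueField A)]
    (hA : CAlgX.IsAdicFormallySmooth K₀ A (maximalIdeal A)) (P : Ideal A) [P.IsPrime]
    [IsRegularLocalRing (Localization.AtPrime P)]
    {m : ℕ} (f : Fin m → A) (hf : ∀ i, f i ∈ P)
    (hind : LinearIndependent (ResidueField (Localization.AtPrime P))
        (fun i => (maximalIdeal (Localization.AtPrime P)).toCotangent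
          ⟨algebraMap A _ (f i), (IsLocalization.AtPrime.to_map_mem_maximal_iff _ P _).2 (hf i)⟩))
    (lam : Fin m → P.ResidueField)
    (hlam : ∀ D : Derivation k A A, ∑ j, lam j * algebraMap A P.ResidueField (D (f j)) = 0) : lam = 0 := by
  obtain ⟨e⟩ := KaehlerRank.completed_free hA
  have ht : Algebra.trdeg K₀ (ResidueField A) = 0 := trdeg_eq_zero
  rw [ht, map_zero, add_zero] at e
  set n := Module.finrank (ResidueField A) (CotangentSpace A)
  haveI := (KaehlerRank.finrank_eq hA).1
  haveI : Module.Finite A (ResidueField A) := Module.Finite.of_surjective (Algebra.linearMap A _) residue_surjective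
  haveI : Module.Finite A (TensorProduct A (ResidueField A) (Ω[A⁄K₀])) := Module.Finite.trans (ResidueField A) _
  haveI : Module.Finite A (TensorProduct A (A ⧸ maximalIdeal A) Ω[A⁄K₀]) :=
    ‹Module.Finite A (TensorProduct A (ResidueField A) Ω[A⁄K₀])›
  haveI : Module.Finite A (Ω[A⁄K₀] ⧸ (maximalIdeal A • ⊤ : Submodule A Ω[A⁄K₀])) :=
    Module.Finite.equiv (TensorProduct.quotTensorEquivQuotSMul Ω[A⁄K₀] (maximalIdeal A))
  let ε : Ω[A⁄K₀] →ₗ[A] (Fin n → A) := e.toLinearMap ∘ₗ AdicCompletion.of (maximalIdeal A) Ω[A⁄K₀]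
  have hε : Function.Surjective ε :=
    e.surjective.comp (of_surjective_of_finite (maximalIdeal A))
  let D : Fin n → Derivation K₀ A A := fun i => ((LinearMap.proj i).comp ε).compDer (KaehlerDifferential.D K₀ A)
  have hgen : ∀ v : Fin n → P.ResidueField,
      (∀ a, ∑ i, v i * algebraMap A P.ResidueField (D i a) = 0) → v = 0 := by
    intro v hv
    let Φ : (Fin n → A) →ₗ[A] P.ResidueField :=
      ∑ i, v i • ((Algebra.linearMap A P.ResidueField).comp (LinearMap.proj i))
    have hΦ : ∀ x, Φ x = ∑ i, v i * algebraMap A P.ResidueField (x i) := fun x => by simp [Φ]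
    have h0 : Φ ∘ₗ ε = 0 := by
      refine LinearMap.ext_on (KaehlerDifferential.span_range_derivation K₀ A) ?_
      rintro _ ⟨a, rfl⟩
      rw [LinearMap.comp_apply, hΦ]
      exact hv a
    funext i
    classical
    obtain ⟨ω, hω⟩ := hε (Pi.single i 1)
    have h1 : Φ (ε ω) = 0 := LinearMap.congr_fun h0 ω
    rw [hω, hΦ] at h1
    simpa [Pi.single_apply, apply_ite (algebraMap A P.ResidueField)] using h1
  have hn : ringKrullDim A = n := ((IsRegularLocalRing.iff_finrank_cotangentSpace A).1 inferInstance).symm
  haveI : IsLocalRing (A ⧸ P) := IsLocalRing.of_surjective' _ Ideal.Quotient.mk_surjective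
  haveI : IsAdicComplete (maximalIdeal (A ⧸ P)) (A ⧸ P) := by
    rw [show maximalIdeal (A ⧸ P) = (maximalIdeal A).map (algebraMap A (A ⧸ P)) from
      (IsLocalRing.map_maximalIdeal_of_surjective (Ideal.Quotient.mk P) Ideal.Quotient.mk_surjective).symm,
      IsAdicComplete.map_algebraMap_iff]
    exact H24Adic.isAdicComplete_of_finite _
  haveI : Module.Finite K₀ (ResidueField (A ⧸ P)) := by
    haveI : IsLocalHom (algebraMap A (A ⧸ P)) := IsLocalHom.of_surjective _ Ideal.Quotient.mk_surjective
    exact Module.Finite.of_surjective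
      ({ toFun := ResidueField.map (algebraMap A (A ⧸ P))
         map_add' := map_add _
         map_smul' := fun c x => by
          obtain ⟨x, rfl⟩ := residue_surjective x
          rw [RingHom.id_apply, Algebra.smul_def, Algebra.smul_def, map_mul,
            IsScalarTower.algebraMap_apply K₀ A (ResidueField A), ResidueField.algebraMap_eq, ResidueField.map_residue,
            IsScalarTower.algebraMap_apply K₀ (A ⧸ P) (ResidueField (A ⧸ P)), ResidueField.algebraMap_eq,
            IsScalarTower.algebraMap_apply K₀ A (A ⧸ P)] } :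
        ResidueField A →ₗ[K₀] ResidueField (A ⧸ P))
      (fun z => by
        obtain ⟨z, rfl⟩ := residue_surjective z
        obtain ⟨a, rfl⟩ := Ideal.Quotient.mk_surjective z
        exact ⟨residue A a, ResidueField.map_residue _ _⟩)
  obtain ⟨s, w, hwinj, -, hwfin⟩ := S2460.result (k₀ := K₀) (A := A ⧸ P)
  let S := MvPowerSeries (Fin s) K₀
  letI : Algebra S (A ⧸ P) := w.toRingHom.toAlgebra
  haveI : IsScalarTower K₀ S (A ⧸ P) := IsScalarTower.of_algebraMap_eq fun c => (w.commutes c).symm
  haveI : Module.Finite S (A ⧸ P) := hwfin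
  letI : Algebra S P.ResidueField := ((algebraMap (A ⧸ P) P.ResidueField).comp w.toRingHom).toAlgebra
  haveI : IsScalarTower S (A ⧸ P) P.ResidueField := IsScalarTower.of_algebraMap_eq fun _ => rfl
  have hinjSL : Function.Injective (algebraMap S P.ResidueField) :=
    (IsFractionRing.injective (A ⧸ P) P.ResidueField).comp hwinj
  let F := FractionRing S
  letI : Algebra F P.ResidueField := (IsFractionRing.lift hinjSL).toAlgebra
  haveI : IsScalarTower S F P.ResidueField :=
    IsScalarTower.of_algebraMap_eq fun x => (IsFractionRing.lift_algebraMap hinjSL x).symm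
  haveI : CharZero F := charZero_of_injective_ringHom
    (f := (algebraMap S F).comp MvPowerSeries.C) (RingHom.injective _)
  haveI : Algebra.IsIntegral S (A ⧸ P) := Algebra.IsIntegral.of_finite _ _
  haveI : Algebra.IsAlgebraic F P.ResidueField := ⟨fun z => by
    obtain ⟨a, b, hb, rfl⟩ := IsFractionRing.div_surjective (A := A ⧸ P) z
    have hint : ∀ c : A ⧸ P, IsIntegral F (algebraMap (A ⧸ P) P.ResidueField c) := fun c =>
      (IsIntegral.map (IsScalarTower.toAlgHom S (A ⧸ P) P.ResidueField) (Algebra.IsIntegral.isIntegral (R := S) c)).tower_top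
    rw [div_eq_mul_inv]
    exact (hint a).isAlgebraic.mul (hint b).isAlgebraic.inv⟩
  haveI : Algebra.IsSeparable F P.ResidueField := inferInstance
  exact NagataDetect.relation_eq_zero_separable (K := K₀) D hn P hgen hwinj F P.ResidueField f hf hind lam
    fun E => hlam (E.restrictScalars k)

/-- Detection from formal smoothness of the quotient, in characteristic `p`. -/
theorem relation_eq_zero_of_fs (p : ℕ) [hp : Fact p.Prime] {k A : Type u} [Field k] [CharP k p]
    (hk : Module.Finite (frobenius k p).fieldRange k) [CommRing A] [IsRegularLocalRing A]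
    [IsAdicComplete (maximalIdeal A) A] [Algebra k A]
    (hA : CAlgX.IsAdicFormallySmooth k A (maximalIdeal A))
    {q P : Ideal A} [P.IsPrime] (hq : q ≤ P) [(P.map (Ideal.Quotient.mk q)).IsPrime]
    (hB : CAlgX.IsAdicFormallySmooth k (Localization.AtPrime (P.map (Ideal.Quotient.mk q)))
      (maximalIdeal (Localization.AtPrime (P.map (Ideal.Quotient.mk q)))))
    {m : ℕ} (f : Fin m → A) (hf : ∀ i, f i ∈ q)
    (hind : LinearIndependent (ResidueField (Localization.AtPrime P))
        (fun i => (maximalIdeal (Localization.AtPrime P)).toCotangent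
          ⟨algebraMap A _ (f i), (IsLocalization.AtPrime.to_map_mem_maximal_iff _ P _).2 (hq (hf i))⟩))
    (lam : Fin m → P.ResidueField)
    (hlam : ∀ D : Derivation k A A, ∑ j, lam j * algebraMap A P.ResidueField (D (f j)) = 0) : lam = 0 := by
  classical
  obtain ⟨π, hπ, hker, hπA⟩ := NagataJac.localQuot (q := q) (P := P) hq
  have hπk : ∀ t : k, π (algebraMap k _ t) = algebraMap k _ t := fun t => by
    rw [IsScalarTower.algebraMap_apply k A (Localization.AtPrime P), hπA,
      IsScalarTower.algebraMap_apply k (A ⧸ q) (Localization.AtPrime (P.map (Ideal.Quotient.mk q))),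
      IsScalarTower.algebraMap_apply k A (A ⧸ q), Ideal.Quotient.algebraMap_eq]
  have hR := S4574.result hA P
  refine NagataDetect.relation_eq_zero_charP p hk P f (fun l => ?_) (fun d => ?_) lam hlam
  · obtain ⟨c, hc⟩ := LinearMap.exists_leftInverse_of_injective
      (Fintype.linearCombination (ResidueField (Localization.AtPrime P)) fun i =>
        (maximalIdeal (Localization.AtPrime P)).toCotangent
          ⟨algebraMap A _ (f i), (IsLocalization.AtPrime.to_map_mem_maximal_iff _ P _).2 (hq (hf i))⟩)
      (by rw [LinearMap.ker_eq_bot]; exact hind.fintypeLinearCombination_injective)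
    have hIm : q.map (algebraMap A (Localization.AtPrime P)) ≤ maximalIdeal (Localization.AtPrime P) :=
      Ideal.map_le_iff_le_comap.2 fun a ha => (IsLocalization.AtPrime.to_map_mem_maximal_iff _ P a).2 (hq ha)
    let φ : q.map (algebraMap A (Localization.AtPrime P)) →ₗ[Localization.AtPrime P]
        ResidueField (Localization.AtPrime P) :=
      { toFun := fun z => c ((maximalIdeal (Localization.AtPrime P)).toCotangent ⟨z.1, hIm z.2⟩) l
        map_add' := fun a b => by
          rw [← Pi.add_apply, ← map_add, ← map_add]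
          rfl
        map_smul' := fun r z => by
          have h1 : (maximalIdeal (Localization.AtPrime P)).toCotangent ⟨r * z.1, hIm (Ideal.mul_mem_left _ r z.2)⟩ =
              residue _ r • (maximalIdeal (Localization.AtPrime P)).toCotangent ⟨z.1, hIm z.2⟩ := by
            rw [← ResidueField.algebraMap_eq]
            refine (LinearMap.map_smul (maximalIdeal (Localization.AtPrime P)).toCotangent r ⟨z.1, hIm z.2⟩).trans ?_
            exact (algebraMap_smul _ r _).symm
          show c ((maximalIdeal (Localization.AtPrime P)).toCotangent ⟨r * z.1, _⟩) l = r • _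
          rw [h1, map_smul, Pi.smul_apply, smul_eq_mul, Algebra.smul_def, ResidueField.algebraMap_eq] }
    obtain ⟨Δ, hΔ⟩ := exists_derivation_residue_of_fs (P := A)
      ({ π with commutes' := hπk } : Localization.AtPrime P →ₐ[k] _) hπ (q.map (algebraMap A _)) hker hB φ
    refine ⟨Δ.restrictScalars ℤ, fun t => Δ.map_algebraMap t, fun j => ?_⟩
    refine (hΔ (f j) (Ideal.mem_map_of_mem _ (hf j))).trans ?_
    show c _ l = _
    have h2 := congrFun (LinearMap.congr_fun hc (Pi.single j 1)) l
    rw [LinearMap.comp_apply, Fintype.linearCombination_apply_single, one_smul] at h2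
    exact h2.trans (by rw [LinearMap.id_apply, Pi.single_apply])
  · obtain ⟨E, hE⟩ := exists_derivation_of_isAdicFormallySmooth hR d
    obtain ⟨E', hE'⟩ := exists_restrict (A := A) E
    exact ⟨E', fun t => (hE' _).trans ((congrArg E (IsScalarTower.algebraMap_apply k A _ t).symm).trans (hE t))⟩

/-- Formal smoothness over the ground field of a formally smooth algebra over a separable extension. -/
theorem fs_of_separable {k K₀ A : Type u} [Field k] [Field K₀] [Algebra k K₀] [Algebra.IsGeometricallyReduced k K₀]
    [CommRing A] [Algebra k A] [Algebra K₀ A] [IsScalarTower k K₀ A] {J : Ideal A}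
    (hA : CAlgX.IsAdicFormallySmooth K₀ A J) : CAlgX.IsAdicFormallySmooth k A J := by
  haveI : Algebra.FormallySmooth k K₀ := S2451.result.2 inferInstance
  exact RelSymSmooth.isAdicFormallySmooth_comp hA

/-- The Jacobian data of a formally smooth local ring of a quotient. -/
theorem exists_jacobian (p : ℕ) {k K₀ A : Type u} [Field k] [ExpChar k p]
    (hk : p = 1 ∨ Module.Finite (frobenius k p).fieldRange k)
    [Field K₀] [Algebra k K₀] [Algebra.IsGeometricallyReduced k K₀]
    [CommRing A] [IsLocalRing A] [IsNoetherianRing A] [IsAdicComplete (maximalIdeal A) A]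
    [Algebra k A] [Algebra K₀ A] [IsScalarTower k K₀ A] [Module.Finite K₀ (ResidueField A)]
    (hA : CAlgX.IsAdicFormallySmooth K₀ A (maximalIdeal A))
    (q P : Ideal A) [P.IsPrime] (hq : q ≤ P) [(P.map (Ideal.Quotient.mk q)).IsPrime]
    (hB : CAlgX.IsAdicFormallySmooth k (Localization.AtPrime (P.map (Ideal.Quotient.mk q)))
      (maximalIdeal (Localization.AtPrime (P.map (Ideal.Quotient.mk q))))) :
    ∃ (m : ℕ) (D : Fin m → Derivation k A A) (f : Fin m → A), (∀ i, f i ∈ q) ∧
      q.map (algebraMap A (Localization.AtPrime P)) =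
        Ideal.span (Set.range fun i => algebraMap A (Localization.AtPrime P) (f i)) ∧
      Matrix.det (Matrix.of fun i j => D i (f j)) ∉ P := by
  haveI : IsRegularLocalRing A := (isRegularLocalRing_of_isAdicFormallySmooth hA).1
  have hAk := fs_of_separable (k := k) hA
  haveI : IsRegularLocalRing (Localization.AtPrime P) :=
    (isRegularLocalRing_of_isAdicFormallySmooth (S4574.result hAk P)).1
  haveI : IsNoetherianRing (Localization.AtPrime (P.map (Ideal.Quotient.mk q))) :=
    IsLocalization.isNoetherianRing (P.map (Ideal.Quotient.mk q)).primeCompl _ inferInstance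
  haveI : IsRegularLocalRing (Localization.AtPrime (P.map (Ideal.Quotient.mk q))) :=
    (isRegularLocalRing_of_isAdicFormallySmooth hB).1
  obtain ⟨m, f, hf, hgen, hind⟩ := NagataJac.exists_generators (q := q) (P := P) hq
  obtain ⟨D, hD⟩ := NagataDer.exists_det_notMem (k := k) P f fun lam hlam => by
    cases ‹ExpChar k p› with
    | zero =>
      haveI : CharZero K₀ := charZero_of_injective_ringHom (algebraMap k K₀).injective
      exact relation_eq_zero_charZero hA P f (fun i => hq (hf i)) hind lam hlam
    | prime hp =>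
      haveI := Fact.mk hp
      exact relation_eq_zero_of_fs p (hk.resolve_left hp.ne_one) hAk hq hB f hf hind lam hlam
  exact ⟨m, D, f, hf, hgen, hD⟩

/-- Transport of formal smoothness along an equality of primes. -/
theorem transport {k B : Type u} [Field k] [CommRing B] [Algebra k B] {n n' : Ideal B} [hn : n.IsPrime]
    [hn' : n'.IsPrime] (h : n = n')
    (hfs : CAlgX.IsAdicFormallySmooth k (Localization.AtPrime n) (maximalIdeal (Localization.AtPrime n))) :
    CAlgX.IsAdicFormallySmooth k (Localization.AtPrime n') (maximalIdeal (Localization.AtPrime n')) := by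
  subst h
  exact hfs

/-- The formally smooth locus of the quotient is open. -/
theorem isOpen_locus (p : ℕ) {k K₀ A : Type u} [Field k] [ExpChar k p]
    (hk : p = 1 ∨ Module.Finite (frobenius k p).fieldRange k)
    [Field K₀] [Algebra k K₀] [Algebra.IsGeometricallyReduced k K₀]
    [CommRing A] [IsLocalRing A] [IsNoetherianRing A] [IsAdicComplete (maximalIdeal A) A]
    [Algebra k A] [Algebra K₀ A] [IsScalarTower k K₀ A] [Module.Finite K₀ (ResidueField A)]
    (hA : CAlgX.IsAdicFormallySmooth K₀ A (maximalIdeal A)) (q : Ideal A) :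
    IsOpen {n : PrimeSpectrum (A ⧸ q) |
      CAlgX.IsAdicFormallySmooth k (Localization.AtPrime n.asIdeal) (maximalIdeal (Localization.AtPrime n.asIdeal))} := by
  classical
  rw [isOpen_iff_forall_mem_open]
  intro n hn
  let P := n.asIdeal.comap (Ideal.Quotient.mk q)
  have hqle : ∀ n' : PrimeSpectrum (A ⧸ q), q ≤ n'.asIdeal.comap (Ideal.Quotient.mk q) := fun n' a ha => by
    rw [Ideal.mem_comap, Ideal.Quotient.eq_zero_iff_mem.2 ha]
    exact zero_mem _
  have hback : ∀ n' : PrimeSpectrum (A ⧸ q),
      (n'.asIdeal.comap (Ideal.Quotient.mk q)).map (Ideal.Quotient.mk q) = n'.asIdeal := fun n' =>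
    Ideal.map_comap_of_surjective _ Ideal.Quotient.mk_surjective _
  haveI : (P.map (Ideal.Quotient.mk q)).IsPrime := by rw [hback]; exact n.isPrime
  obtain ⟨m, D, f, hf, hgen, hdet⟩ := exists_jacobian p hk hA q P (hqle n) (transport (hback n).symm hn)
  have hs : ∀ x ∈ q, ∃ s, s ∉ P ∧ s * x ∈ Ideal.span (Set.range f) := fun x hx => by
    have h1 : algebraMap A (Localization.AtPrime P) x ∈ (Ideal.span (Set.range f)).map (algebraMap A _) := by
      rw [Ideal.map_span, ← Set.range_comp]
      exact hgen.le (Ideal.mem_map_of_mem _ hx)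
    obtain ⟨s, hs, h2⟩ := (IsLocalization.algebraMap_mem_map_algebraMap_iff P.primeCompl (Localization.AtPrime P) _ x).1 h1
    exact ⟨s, hs, h2⟩
  obtain ⟨G, hG⟩ := (IsNoetherian.noetherian q : q.FG)
  choose s hsP hsx using fun x : G => hs x (hG ▸ Ideal.subset_span x.2)
  let c := Matrix.det (Matrix.of fun i j => D i (f j)) * ∏ x : G, s x
  have hcP : c ∉ P := by
    refine fun h => ?_
    rcases Ideal.IsPrime.mem_or_mem inferInstance h with h | h
    · exact hdet h
    · obtain ⟨x, -, hx⟩ := (Ideal.IsPrime.prod_mem_iff).1 h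
      exact hsP x hx
  refine ⟨PrimeSpectrum.basicOpen (Ideal.Quotient.mk q c), fun n' hn' => ?_,
    (PrimeSpectrum.basicOpen _).isOpen, fun h => hcP h⟩
  let P' := n'.asIdeal.comap (Ideal.Quotient.mk q)
  have hcP' : c ∉ P' := hn'
  haveI : (P'.map (Ideal.Quotient.mk q)).IsPrime := by rw [hback]; exact n'.isPrime
  haveI : IsRegularLocalRing A := (isRegularLocalRing_of_isAdicFormallySmooth hA).1
  refine transport (hback n') (NagataJac.isAdicFormallySmooth_of_jacobian (hqle n')
    (S4574.result (fs_of_separable (k := k) hA) P') D f hf (le_antisymm ?_ ?_) fun h => hcP' (Ideal.mul_mem_right _ _ h))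
  · refine Ideal.map_le_iff_le_comap.2 (hG.symm.le.trans (Ideal.span_le.2 fun x hx => ?_))
    have hu : IsUnit (algebraMap A (Localization.AtPrime P') (s ⟨x, hx⟩)) := by
      refine IsLocalization.map_units _ (⟨s ⟨x, hx⟩, fun h => hcP' (Ideal.mul_mem_left _ _ ?_)⟩ : P'.primeCompl)
      exact Ideal.IsPrime.prod_mem_iff.2 ⟨_, Finset.mem_univ _, h⟩
    rw [SetLike.mem_coe, Ideal.mem_comap, ← Ideal.unit_mul_mem_iff_mem _ hu, ← map_mul]
    have h1 := Ideal.mem_map_of_mem (algebraMap A (Localization.AtPrime P')) (hsx ⟨x, hx⟩)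
    rw [Ideal.map_span, ← Set.range_comp] at h1
    exact h1
  · rw [Ideal.span_le]
    rintro _ ⟨i, rfl⟩
    exact Ideal.mem_map_of_mem _ (hf i)

end Groth.Agent.H05EGA4.NagataMain
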