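import Groth.Agent.H05EGA4.CKCoker
import Groth.Agent.H05EGA4.CKUnits
import Groth.Agent.H05EGA4.CKPresentation
import Groth.Agent.H05EGA4.NagataMain
import Groth.Agent.H05EGA4.KaehlerRank
import Groth.Agent.H05EGA4.GeomFibre
import Groth.Agent.H05EGA4.Equidim
import Mathlib.RingTheory.AlgebraicIndependent.Transcendental

/-! Completed differentials at a geometrically regular prime. -/

set_option autoImplicit false
set_option linter.style.haveILetI false
set_option maxHeartbeats 1600000

open IsLocalRing TensorProduct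

universe u

namespace Groth.Agent.H05EGA4.CKGeom

/-- Transport of formal smoothness to a localisation of an isomorphic algebra. -/
theorem transport {k B A : Type u} [Field k] [CommRing B] [Algebra k B] [CommRing A] [Algebra k A] (e : B ≃ₐ[k] A)
    (n : Ideal B) [n.IsPrime] (P : Ideal A) [P.IsPrime] (h : P.comap e.toRingEquiv.toRingHom = n)
    (hfs : CAlgX.IsAdicFormallySmooth k (Localization.AtPrime P) (maximalIdeal (Localization.AtPrime P))) :
    CAlgX.IsAdicFormallySmooth k (Localization.AtPrime n) (maximalIdeal (Localization.AtPrime n)) := by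
  have hH : Submonoid.map e n.primeCompl = P.primeCompl := by
    ext z
    constructor
    · rintro ⟨x, hx, rfl⟩
      exact fun hP => hx (h ▸ hP)
    · intro hz
      exact ⟨e.symm z, fun hn => hz (by rw [← h] at hn; simpa using hn), e.apply_symm_apply z⟩
  let E := IsLocalization.algEquivOfAlgEquiv (A := k) (Localization.AtPrime n) (Localization.AtPrime P) e hH
  refine isAdicFormallySmooth_of_algEquiv E.symm _ _ ?_ hfs
  exact IsLocalRing.map_maximalIdeal_of_surjective _ E.symm.toRingEquiv.surjective

/-- Freeness of the completed differentials at a geometrically regular prime. -/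
theorem free_of_geometricallyRegular (p : ℕ) (k A : Type u) [Field k] [ExpChar k p]
    (hk : p = 1 ∨ Module.Finite (frobenius k p).fieldRange k) [CommRing A] [IsLocalRing A] [IsNoetherianRing A]
    [Algebra k A] [IsAdicComplete (maximalIdeal A) A] [Module.Finite k (ResidueField A)]
    (P : Ideal A) [P.IsPrime] (hP : CAlg.IsGeometricallyRegular k (Localization.AtPrime P))
    (q : Ideal A) (hq : q ∈ minimalPrimes A) (hqP : q ≤ P) (n : ℕ) (hn : ringKrullDim (A ⧸ q) = n) :
    Module.Free (Localization.AtPrime P) (LocalizedModule P.primeCompl (AdicCompletion (maximalIdeal A) (Ω[A⁄k]))) ∧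
      Module.finrank (Localization.AtPrime P)
        (LocalizedModule P.primeCompl (AdicCompletion (maximalIdeal A) (Ω[A⁄k]))) = n := by
  classical
  haveI := (CKBase.finite_and_surjective k A).1
  haveI := hq.1.1
  obtain ⟨R, _, _, _, _, _, _, π, hπ, hfs⟩ := CKPresentation.exists_presentation k A
  letI : Algebra R A := π.toRingHom.toAlgebra
  haveI : IsRegularLocalRing R := (isRegularLocalRing_of_isAdicFormallySmooth hfs).1
  haveI : Algebra.EssFiniteType k (ResidueField R) := inferInstance
  obtain ⟨ε⟩ := KaehlerRank.completed_free hfs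
  generalize hN : Module.finrank (ResidueField R) (CotangentSpace R) +
    Cardinal.toNat (Algebra.trdeg k (ResidueField R)) = N at ε
  have hdimR : ringKrullDim R = (N : WithBot ℕ∞) := by
    rw [← hN, trdeg_eq_zero, map_zero, add_zero, finrank_cotangent_eq, IsRegularLocalRing.spanFinrank_maximalIdeal]
  let J := RingHom.ker π.toRingHom
  let P' := P.comap π.toRingHom
  have hJP : J ≤ P' := fun x hx => by
    rw [Ideal.mem_comap, RingHom.mem_ker.1 hx]; exact zero_mem _
  let e : (R ⧸ J) ≃ₐ[k] A := Ideal.quotientKerAlgEquivOfSurjective hπ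
  haveI : (P'.map (Ideal.Quotient.mk J)).IsPrime :=
    Ideal.map_isPrime_of_surjective Ideal.Quotient.mk_surjective (by rwa [Ideal.mk_ker])
  have heP : P.comap e.toRingEquiv.toRingHom = P'.map (Ideal.Quotient.mk J) := by
    rw [← Ideal.map_comap_of_surjective (Ideal.Quotient.mk J) Ideal.Quotient.mk_surjective (P.comap e.toRingEquiv.toRingHom)]
    rfl
  have hB := transport e _ P heP (isAdicFormallySmooth_of_isGeometricallyRegular hP)
  haveI : Algebra.IsGeometricallyReduced k k := by
    rw [Algebra.isGeometricallyReduced_field_iff]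
    exact isReduced_of_injective (Algebra.TensorProduct.rid k k (AlgebraicClosure k))
      (Algebra.TensorProduct.rid k k (AlgebraicClosure k)).injective
  obtain ⟨m, D, f, hf, hgen, hdet⟩ := NagataMain.exists_jacobian p (K₀ := k) hk hfs J P' hJP hB
  have hloc : ∀ r ∈ J, ∃ s, s ∉ P' ∧ ∃ a : Fin m → R, ∑ i, a i * f i = s * r := fun r hr => by
    have h1 : algebraMap R (Localization.AtPrime P') r ∈ (Ideal.span (Set.range f)).map (algebraMap R _) := by
      rw [Ideal.map_span, ← Set.range_comp]
      exact hgen.le (Ideal.mem_map_of_mem _ hr)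
    obtain ⟨s, hs, h2⟩ := (IsLocalization.algebraMap_mem_map_algebraMap_iff P'.primeCompl (Localization.AtPrime P') _ r).1 h1
    exact ⟨s, hs, (Ideal.mem_span_range_iff_exists_fun).1 h2⟩
  obtain ⟨W, ⟨E⟩, hWdef⟩ := CKCoker.exists_equiv π hπ ε
  let Δ : R → (Fin N → A) := fun r i => π (ε (AdicCompletion.of _ _ (KaehlerDifferential.D k R r)) i)
  have hΔadd : ∀ r s, Δ (r + s) = Δ r + Δ s := fun r s => funext fun i => by simp [Δ, map_add]
  have hΔmul : ∀ r s, Δ (r * s) = π r • Δ s + π s • Δ r := fun r s => funext fun i => by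
    simp [Δ, Derivation.leibniz, map_add, map_smul]
  let w : Fin m → (Fin N → A) := fun j => Δ (f j)
  have hwW : ∀ j, w j ∈ W := fun j => hWdef ▸ Submodule.subset_span ⟨f j, hf j, rfl⟩
  have hWgen : ∀ x ∈ W, ∃ t, t ∉ P ∧ t • x ∈ Submodule.span A (Set.range w) := fun x hx => by
    rw [hWdef] at hx
    induction hx using Submodule.span_induction with
    | mem y hy =>
      obtain ⟨r, hr, rfl⟩ := hy
      obtain ⟨s, hs, a, ha⟩ := hloc r hr
      refine ⟨π s, hs, ?_⟩
      have h1 : Δ (s * r) = π s • Δ r + π r • Δ s := by rw [hΔmul]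
      rw [show π r = 0 from hr, zero_smul, add_zero] at h1
      show π s • Δ r ∈ _
      rw [← h1, ← ha]
      have hsum : ∀ t : Finset (Fin m), Δ (∑ i ∈ t, a i * f i) ∈ Submodule.span A (Set.range w) := fun t => by
        induction t using Finset.induction_on with
        | empty =>
          rw [Finset.sum_empty, show Δ 0 = 0 by funext i; simp [Δ]]
          exact zero_mem _
        | insert b t hb ih =>
          rw [Finset.sum_insert hb, hΔadd, hΔmul, show π (f b) = 0 from hf b, zero_smul, add_zero]
          exact add_mem (Submodule.smul_mem _ _ (Submodule.subset_span ⟨b, rfl⟩)) ih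
      exact hsum _
    | zero => exact ⟨1, fun h => ‹P.IsPrime›.ne_top ((Ideal.eq_top_iff_one P).2 h), by rw [smul_zero]; exact zero_mem _⟩
    | add x y _ _ hx hy =>
      obtain ⟨t, ht, htx⟩ := hx
      obtain ⟨t', ht', hty⟩ := hy
      refine ⟨t * t', fun hh => (‹P.IsPrime›.mem_or_mem hh).elim ht ht', ?_⟩
      rw [smul_add]
      refine add_mem ?_ ?_
      · rw [mul_comm, mul_smul]; exact Submodule.smul_mem _ _ htx
      · rw [mul_smul]; exact Submodule.smul_mem _ _ hty
    | smul c x _ hx =>
      obtain ⟨t, ht, htx⟩ := hx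
      exact ⟨t, ht, by rw [smul_comm]; exact Submodule.smul_mem _ _ htx⟩
  choose φ hφ using fun i => CKBase.exists_lift_completion (D i)
  let μ : Fin m → ((Fin N → A) →ₗ[A] A) := fun i =>
    Fintype.linearCombination A fun c => π (φ i (ε.symm (Pi.single c 1)))
  have hμ : ∀ i (v : Fin N → R), μ i (fun c => π (v c)) = π (φ i (ε.symm v)) := fun i v => by
    conv_rhs => rw [pi_eq_sum_univ' v]
    simp [μ, Fintype.linearCombination_apply, map_sum, map_smul]
  have hμw : ∀ i j, μ i (w j) = π (D i (f j)) := fun i j => by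
    show μ i (fun c => π (ε _ c)) = _
    rw [hμ, ε.symm_apply_apply, hφ]
  obtain ⟨hfree, hrk⟩ := CKCoker.free_of_split W E P w hwW hWgen μ (by
    have : Matrix.det (Matrix.of fun i j => μ i (w j)) = π.toRingHom (Matrix.det (Matrix.of fun i j => D i (f j))) := by
      rw [RingHom.map_det]
      congr 1
      ext i j
      exact hμw i j
    rw [this]
    exact hdet)
  refine ⟨hfree, ?_⟩
  haveI := hfree
  haveI : Module.Finite (Localization.AtPrime P) (LocalizedModule P.primeCompl (AdicCompletion (maximalIdeal A) (Ω[A⁄k]))) :=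
    Module.Finite.of_isLocalizedModule P.primeCompl
      (LocalizedModule.mkLinearMap P.primeCompl (AdicCompletion (maximalIdeal A) (Ω[A⁄k])))
  obtain ⟨s, δ, hs, hind⟩ := CKRank.exists_derivations_quotient k A q
  have hlow : s ≤ Module.finrank (Localization.AtPrime P)
      (LocalizedModule P.primeCompl (AdicCompletion (maximalIdeal A) (Ω[A⁄k]))) := by
    refine (CKRank.le_finrank P q hqP δ hind).trans ?_
    have hb := Module.finBasis (Localization.AtPrime P) (LocalizedModule P.primeCompl (AdicCompletion (maximalIdeal A) (Ω[A⁄k])))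
    exact CKUnits.finrank_le P _ hb.span_eq
  have hns : n = s := by
    rw [hn] at hs
    exact_mod_cast hs
  -- the height of the preimage
  let q' := q.comap π.toRingHom
  have hq'min : q' ∈ (Ideal.span (Set.range f)).minimalPrimes := by
    refine ⟨⟨Ideal.IsPrime.comap _, Ideal.span_le.2 (by
      rintro _ ⟨i, rfl⟩
      show π (f i) ∈ q
      rw [show π (f i) = 0 from hf i]
      exact zero_mem _)⟩, fun Q hQ hle => ?_⟩
    haveI := hQ.1
    have hJQ : J ≤ Q := fun r hr => by
      obtain ⟨t, ht, a, ha⟩ := hloc r hr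
      have hsum : t * r ∈ Q := ha ▸ sum_mem fun i _ => Ideal.mul_mem_left _ _ (hQ.2 (Ideal.subset_span ⟨i, rfl⟩))
      exact (hQ.1.mem_or_mem hsum).resolve_left fun h => ht (hqP (hle h))
    haveI : (Q.map π.toRingHom).IsPrime := Ideal.map_isPrime_of_surjective hπ hJQ
    have h1 : q ≤ Q.map π.toRingHom := hq.2 ⟨inferInstance, bot_le⟩ (by
      rw [← Ideal.map_comap_of_surjective π.toRingHom hπ q]
      exact Ideal.map_mono hle)
    intro x hx
    have h2 : x ∈ (Q.map π.toRingHom).comap π.toRingHom := h1 hx
    rwa [Ideal.comap_map_of_surjective' π.toRingHom hπ, sup_eq_left.2 hJQ] at h2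
  have hht : q'.height ≤ (m : ℕ∞) := by
    refine (Ideal.height_le_card_of_mem_minimalPrimes_span (Set.finite_range f) hq'min).trans ?_
    refine Nat.cast_le.2 ?_
    rw [← Set.image_univ]
    exact (Set.ncard_image_le Set.finite_univ).trans (by rw [Set.ncard_univ, Nat.card_fin])
  haveI : q'.IsPrime := Ideal.IsPrime.comap _
  haveI : LocCoh.IsCohenMacaulayLocalRing R := H4Depth.isCohenMacaulayLocalRing_of_regular R
  have hform := height_add_dim_eq_of_isCohenMacaulay R q'
  let eq' : (R ⧸ q') ≃+* (A ⧸ q) := (Ideal.quotEquivOfEq (by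
    rw [← RingHom.comap_ker, Ideal.mk_ker])).trans
    (RingHom.quotientKerEquivOfSurjective (f := (Ideal.Quotient.mk q).comp π.toRingHom) (Ideal.Quotient.mk_surjective.comp hπ))
  rw [ringKrullDim_eq_of_ringEquiv eq', hn, hdimR] at hform
  have hupper : N ≤ n + m := by
    obtain ⟨h, hh⟩ : ∃ h : ℕ, q'.height = h := ENat.ne_top_iff_exists.1 (ne_top_of_le_ne_top (ENat.coe_ne_top m) hht) |>.imp fun _ h => h.symm
    rw [hh] at hform hht
    have h2 : (h : WithBot ℕ∞) + (n : WithBot ℕ∞) = (N : WithBot ℕ∞) := by simpa using hform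
    have h2' : h + n = N := by exact_mod_cast h2
    have h3 : h ≤ m := by exact_mod_cast hht
    omega
  omega

end Groth.Agent.H05EGA4.CKGeom
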