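import Mathlib
import Groth.Agent.H24Adic.Basic
import Groth.Agent.H24Adic.Rig
import Groth.Agent.H24Adic.Noetherian
import Groth.Agent.H3CAlg.LimFlat
import Groth.Agent.H3CAlg.FlatAdic
import Groth.Agent.H05EGA4.CompleteNormalization
import Groth.Agent.S14727
import Groth.Prelude.Def_EGA4c

/-!
Completed tensor products of complete local algebras over a field.
-/

set_option autoImplicit false
set_option linter.style.haveILetI false
universe u
open IsLocalRing TensorProduct

namespace Groth.Agent.H05EGA4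

namespace AdicLim

variable {R : Type u} [CommRing R] {I P : Ideal R}

theorem ker_evalₐ (hI : I.FG) (j : ℕ) (c : AdicCompletion I R) :
    AdicCompletion.evalₐ I j c = 0 ↔ c ∈ (I.map (algebraMap R (AdicCompletion I R))) ^ j := by
  rw [← Ideal.map_pow]
  have h1 : c ∈ (I ^ j).map (algebraMap R (AdicCompletion I R)) ↔
      c ∈ (I ^ j • ⊤ : Submodule R (AdicCompletion I R)) := by
    rw [Ideal.smul_top_eq_map, Submodule.restrictScalars_mem]
  rw [h1, AdicCompletion.pow_smul_top_eq_ker_eval hI, LinearMap.mem_ker]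
  have hinj : Function.Injective (Ideal.Quotient.factor (show I ^ j • ⊤ ≤ I ^ j by simp)) := by
    rw [RingHom.injective_iff_ker_eq_bot, Ideal.Quotient.factor_ker]
    exact Ideal.map_mk_eq_bot_of_le (by simp)
  rw [← AdicCompletion.factor_eval_eq_evalₐ I c (by simp)]
  exact map_eq_zero_iff _ hinj

theorem evalₐ_algebraMap (j : ℕ) (x : R) :
    AdicCompletion.evalₐ I j (algebraMap R (AdicCompletion I R) x) = Ideal.Quotient.mk _ x :=
  (AdicCompletion.evalₐ I j).commutes x

/-- The projection of the `I`-adic completion to a quotient by a power of a smaller ideal. -/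
theorem exists_proj (hI : I.FG) [IsNoetherianRing (AdicCompletion I R)] (hPI : P ≤ I) (n : ℕ)
    [IsAdicComplete (I.map (Ideal.Quotient.mk (P ^ n))) (R ⧸ P ^ n)] :
    ∃ π : AdicCompletion I R →+* R ⧸ P ^ n,
      (∀ x, π (algebraMap R _ x) = Ideal.Quotient.mk _ x) ∧ Function.Surjective π ∧
      RingHom.ker π = (P.map (algebraMap R (AdicCompletion I R))) ^ n ∧
      ∀ (j : ℕ) (c : AdicCompletion I R) (x : R), AdicCompletion.evalₐ I j c = Ideal.Quotient.mk _ x →
        π c - Ideal.Quotient.mk _ x ∈ (I.map (Ideal.Quotient.mk (P ^ n))) ^ j := by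
  let J := I.map (Ideal.Quotient.mk (P ^ n))
  have hle : ∀ j, I ^ j ≤ (J ^ j).comap (Ideal.Quotient.mk (P ^ n)) := fun j => by
    rw [← Ideal.map_le_iff_le_comap, Ideal.map_pow]
  let f : ∀ j, AdicCompletion I R →+* (R ⧸ P ^ n) ⧸ J ^ j := fun j =>
    (Ideal.quotientMap (J ^ j) (Ideal.Quotient.mk (P ^ n)) (hle j)).comp (AdicCompletion.evalₐ I j).toRingHom
  have hf : ∀ {a b : ℕ} (hab : a ≤ b), (Ideal.Quotient.factorPow J hab).comp (f b) = f a := by
    intro a b hab
    refine RingHom.ext fun c => ?_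
    obtain ⟨t, rfl⟩ := AdicCompletion.mk_surjective I R c
    simp only [f, RingHom.comp_apply, AlgHom.toRingHom_eq_coe, RingHom.coe_coe, AdicCompletion.evalₐ_mk,
      Ideal.quotientMap_mk]
    show Ideal.Quotient.mk (J ^ a) (Ideal.Quotient.mk (P ^ n) (t.val b)) = _
    rw [Ideal.Quotient.eq, ← map_sub]
    refine hle a ?_
    have h := (SModEq.sub_mem.mp (t.2 hab).symm)
    rwa [smul_eq_mul, Ideal.mul_top] at h
  let π := IsAdicComplete.liftRingHom J f hf
  have hspec : ∀ (j : ℕ) (c : AdicCompletion I R) (x : R), AdicCompletion.evalₐ I j c = Ideal.Quotient.mk _ x →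
      π c - Ideal.Quotient.mk _ x ∈ J ^ j := fun j c x hx => by
    rw [← Ideal.Quotient.eq, IsAdicComplete.mk_liftRingHom]
    simp only [f, RingHom.comp_apply, AlgHom.toRingHom_eq_coe, RingHom.coe_coe, hx, Ideal.quotientMap_mk]
  have hof : ∀ x, π (algebraMap R _ x) = Ideal.Quotient.mk _ x := fun x => by
    rw [← sub_eq_zero]
    refine IsHausdorff.haus (I := J) inferInstance _ fun j => ?_
    rw [SModEq.zero, smul_eq_mul, Ideal.mul_top]
    exact hspec j _ x (evalₐ_algebraMap j x)
  refine ⟨π, hof, fun y => ?_, ?_, hspec⟩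
  · obtain ⟨x, rfl⟩ := Ideal.Quotient.mk_surjective y
    exact ⟨_, hof x⟩
  · refine le_antisymm (fun c hc => ?_) ?_
    · let C := AdicCompletion I R
      let IC := I.map (algebraMap R C)
      let PC := (P.map (algebraMap R C)) ^ n
      haveI : IsAdicComplete IC C := AdicCompletion.isAdicComplete_self I hI
      haveI : IsHausdorff IC (C ⧸ PC) := IsHausdorff.of_le_jacobson IC _ (IsAdicComplete.le_jacobson_bot IC)
      refine Ideal.Quotient.eq_zero_iff_mem.mp (IsHausdorff.haus (I := IC) inferInstance (Ideal.Quotient.mk PC c) fun j => ?_)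
      rw [SModEq.zero, Ideal.smul_top_eq_map, Submodule.restrictScalars_mem]
      obtain ⟨x, hx⟩ := Ideal.Quotient.mk_surjective (AdicCompletion.evalₐ I j c)
      have h1 : Ideal.Quotient.mk (P ^ n) x ∈ (I ^ j).map (Ideal.Quotient.mk (P ^ n)) := by
        have := hspec j c x hx.symm
        rw [RingHom.mem_ker.mp hc, zero_sub, neg_mem_iff] at this
        rwa [Ideal.map_pow]
      rw [← Ideal.mem_comap, Ideal.comap_map_of_surjective' _ Ideal.Quotient.mk_surjective, Ideal.mk_ker,
        Submodule.mem_sup] at h1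
      obtain ⟨i, hi, p, hp, rfl⟩ := h1
      have h2 : c - algebraMap R C (i + p) ∈ IC ^ j :=
        (ker_evalₐ hI j _).mp (by rw [map_sub, evalₐ_algebraMap, hx, sub_self])
      have h3 : c - algebraMap R C p ∈ IC ^ j := by
        have := add_mem h2 (show algebraMap R C i ∈ IC ^ j by
          show algebraMap R C i ∈ (I.map _) ^ j
          rw [← Ideal.map_pow]
          exact Ideal.mem_map_of_mem _ hi)
        rwa [map_add, show c - (algebraMap R C i + algebraMap R C p) + algebraMap R C i = c - algebraMap R C p by ring] at this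
      have h4 : Ideal.Quotient.mk PC c = Ideal.Quotient.mk PC (c - algebraMap R C p) := by
        rw [Ideal.Quotient.eq, sub_sub_cancel]
        show algebraMap R C p ∈ (P.map _) ^ n
        rw [← Ideal.map_pow]
        exact Ideal.mem_map_of_mem _ hp
      rw [h4]
      exact Ideal.mem_map_of_mem _ h3
    · rw [← Ideal.map_pow, Ideal.map_le_iff_le_comap]
      intro x hx
      rw [Ideal.mem_comap, RingHom.mem_ker, hof, Ideal.Quotient.eq_zero_iff_mem]
      exact hx

variable (hI : I.FG) (hPI : P ≤ I) [IsNoetherianRing (AdicCompletion I R)]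
  (hc : ∀ n, IsAdicComplete (I.map (Ideal.Quotient.mk (P ^ n))) (R ⧸ P ^ n))

include hI hPI in
theorem map_le_jacobson : P.map (algebraMap R (AdicCompletion I R)) ≤ (⊥ : Ideal (AdicCompletion I R)).jacobson := by
  haveI : IsAdicComplete (I.map (algebraMap R (AdicCompletion I R))) (AdicCompletion I R) :=
    AdicCompletion.isAdicComplete_self I hI
  exact (Ideal.map_mono hPI).trans (IsAdicComplete.le_jacobson_bot _)

include hI hPI in
theorem eq_zero_of_forall_pow (c : AdicCompletion I R)
    (h : ∀ n, c ∈ (P.map (algebraMap R (AdicCompletion I R))) ^ n) : c = 0 := by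
  haveI := IsHausdorff.of_le_jacobson _ (AdicCompletion I R) (map_le_jacobson hI hPI)
  refine IsHausdorff.haus (I := P.map (algebraMap R (AdicCompletion I R))) inferInstance c fun n => ?_
  rw [SModEq.zero, smul_eq_mul, Ideal.mul_top]
  exact h n

include hI hPI hc in
/-- The completion is flat over every algebra over which all the quotients are projective. -/
theorem flat_of_projective {B : Type u} [CommRing B] [IsNoetherianRing B] [Algebra B R]
    (hproj : ∀ n, Module.Projective B (R ⧸ P ^ n)) : Module.Flat B (AdicCompletion I R) := by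
  haveI := hproj
  haveI := hc
  choose π hπof hπsurj hπker hspec using fun n => exists_proj (P := P) hI hPI n
  let πB : ∀ n, AdicCompletion I R →ₐ[B] R ⧸ P ^ n := fun n =>
    { π n with
      commutes' := fun b => by
        show π n (algebraMap B _ b) = _
        rw [IsScalarTower.algebraMap_apply B R (AdicCompletion I R), hπof]
        rfl }
  let f : ∀ n, (R ⧸ P ^ (n + 1)) →ₐ[B] R ⧸ P ^ n := fun n =>
    Ideal.Quotient.factorₐ B (Ideal.pow_le_pow_right n.le_succ)
  refine Groth.Agent.H3CAlg.flat_of_tower_projective B (fun n => R ⧸ P ^ n)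
    (fun n => (f n).toLinearMap) (fun n => ?_) _ (fun n => (πB n).toLinearMap)
    (fun n c => ?_) (fun c hc' => ?_) (fun y hy => ?_)
  · intro z
    obtain ⟨z, rfl⟩ := Ideal.Quotient.mk_surjective z
    exact ⟨Ideal.Quotient.mk _ z, rfl⟩
  · show f n (π (n + 1) c) = π n c
    haveI := hc n
    rw [← sub_eq_zero]
    refine IsHausdorff.haus (I := I.map (Ideal.Quotient.mk (P ^ n))) inferInstance _ fun j => ?_
    rw [SModEq.zero, smul_eq_mul, Ideal.mul_top]
    obtain ⟨x, hx⟩ := Ideal.Quotient.mk_surjective (AdicCompletion.evalₐ I j c)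
    have h1 : f n (π (n + 1) c) - Ideal.Quotient.mk _ x ∈ (I.map (Ideal.Quotient.mk (P ^ n))) ^ j := by
      have h := Ideal.mem_map_of_mem (f n).toRingHom (hspec (n + 1) j c x hx.symm)
      rw [Ideal.map_pow, Ideal.map_map, map_sub] at h
      exact h
    have h2 := sub_mem h1 (hspec n j c x hx.symm)
    rwa [sub_sub_sub_cancel_right] at h2
  · exact eq_zero_of_forall_pow hI hPI c fun n => by
      rw [← hπker n, RingHom.mem_ker]
      exact hc' n
  · choose z hz using fun n => Ideal.Quotient.mk_surjective (y n)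
    have hz' : ∀ {a b : ℕ}, a ≤ b → z b - z a ∈ P ^ a := by
      intro a b hab
      induction hab with
      | refl => simp
      | @step b hab ih =>
        have h1 : f b (y (b + 1)) = y b := hy b
        rw [← hz b, ← hz (b + 1)] at h1
        have h2 : z (b + 1) - z b ∈ P ^ b := Ideal.Quotient.eq.mp h1
        have := add_mem (Ideal.pow_le_pow_right hab h2) ih
        rwa [sub_add_sub_cancel] at this
    let t : AdicCompletion.AdicCauchySequence I R := ⟨z, fun {a b} hab => by
      rw [SModEq.sub_mem, smul_eq_mul, Ideal.mul_top]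
      have := neg_mem (Ideal.pow_right_mono hPI a (hz' hab))
      rwa [neg_sub] at this⟩
    refine ⟨AdicCompletion.mk I R t, fun n => ?_⟩
    · show π n _ = y n
      haveI := hc n
      rw [← hz n, ← sub_eq_zero]
      refine IsHausdorff.haus (I := I.map (Ideal.Quotient.mk (P ^ n))) inferInstance _ fun j => ?_
      rw [SModEq.zero, smul_eq_mul, Ideal.mul_top]
      have h1 := hspec n (j + n) (AdicCompletion.mk I R t) (z (j + n)) (AdicCompletion.evalₐ_mk _ _ _)
      rw [Ideal.Quotient.eq.mpr (hz' (Nat.le_add_left n j))] at h1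
      exact Ideal.pow_le_pow_right (Nat.le_add_right j n) h1

include hI hPI hc in
theorem nonempty_quotient_equiv (n : ℕ) :
    ∃ e : (AdicCompletion I R ⧸ (P ^ n).map (algebraMap R (AdicCompletion I R))) ≃+* R ⧸ P ^ n,
      ∀ x, e (Ideal.Quotient.mk _ (algebraMap R _ x)) = Ideal.Quotient.mk _ x := by
  haveI := hc
  obtain ⟨π, hof, hs, hk, -⟩ := exists_proj (P := P) hI hPI n
  rw [← Ideal.map_pow] at hk
  exact ⟨(Ideal.quotEquivOfEq hk.symm).trans (RingHom.quotientKerEquivOfSurjective hs), hof⟩

include hI hPI hc in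
/-- Flatness of the completion over a Noetherian ring containing the ideal `m` with `P = m R`. -/
theorem flat_of_flat {A : Type u} [CommRing A] [IsNoetherianRing A] [Algebra A R]
    (m : Ideal A) (hm : P = m.map (algebraMap A R))
    (hflat : ∀ n, Module.Flat (A ⧸ m ^ n) (R ⧸ (m ^ n).map (algebraMap A R))) :
    Module.Flat A (AdicCompletion I R) := by
  haveI : IsScalarTower A R (AdicCompletion I R) := inferInstance
  refine H3CAlg.flat_of_flat_quotient_pow (S := AdicCompletion I R) (M := AdicCompletion I R) m ?_ fun n _ => ?_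
  · rw [IsScalarTower.algebraMap_eq A R (AdicCompletion I R), ← Ideal.map_map, ← hm]
    exact map_le_jacobson hI hPI
  · haveI : Module.Flat (A ⧸ m ^ n) (AdicCompletion I R ⧸ (m ^ n).map (algebraMap A (AdicCompletion I R))) := by
      obtain ⟨e, he⟩ := nonempty_quotient_equiv hI hPI hc n
      have heq : (P ^ n).map (algebraMap R (AdicCompletion I R)) = (m ^ n).map (algebraMap A (AdicCompletion I R)) := by
        rw [hm, ← Ideal.map_pow, Ideal.map_map, ← IsScalarTower.algebraMap_eq]
      have heq' : P ^ n = (m ^ n).map (algebraMap A R) := by rw [hm, Ideal.map_pow]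
      let e2 := ((Ideal.quotEquivOfEq heq.symm).trans e).trans (Ideal.quotEquivOfEq heq')
      haveI := hflat n
      refine Module.Flat.of_linearEquiv (R := A ⧸ m ^ n) (M := R ⧸ (m ^ n).map (algebraMap A R))
        (LinearEquiv.ofBijective ({ toFun := e2, map_add' := map_add e2, map_smul' := fun a x => ?_ } :
          _ →ₗ[A ⧸ m ^ n] _) e2.bijective)
      obtain ⟨a, rfl⟩ := Ideal.Quotient.mk_surjective a
      rw [Algebra.smul_def, map_mul, RingHom.id_apply, Algebra.smul_def]
      congr 1
      show e2 (Ideal.Quotient.mk _ (algebraMap A (AdicCompletion I R) a)) = _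
      simp only [e2, RingEquiv.trans_apply, Ideal.quotEquivOfEq_mk,
        IsScalarTower.algebraMap_apply A R (AdicCompletion I R), he]
      rfl
    exact H3CAlg.flat_tensor_of_flat_quotient (m ^ n)

end AdicLim

/-- A localisation of a complete ring at a maximal ideal containing the ideal of definition is complete. -/
theorem isAdicComplete_localization {C : Type u} [CommRing C] [IsNoetherianRing C] (I : Ideal C) [IsAdicComplete I C]
    (hfin : Finite (MaximalSpectrum C)) (hI : ∀ p : Ideal C, p.IsPrime → I ≤ p → p.IsMaximal) (M : Ideal C)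
    [hM : M.IsMaximal] :
    IsAdicComplete (maximalIdeal (Localization.AtPrime M)) (Localization.AtPrime M) := by
  classical
  let CM := Localization.AtPrime M
  have hIM : I ≤ M := by
    have h1 := IsAdicComplete.le_jacobson_bot I
    exact h1.trans (sInf_le ⟨bot_le, hM⟩)
  have hmap : I.map (algebraMap C CM) ≤ maximalIdeal CM :=
    (Ideal.map_mono hIM).trans Localization.AtPrime.map_eq_maximalIdeal.le
  haveI : IsHausdorff I CM := (IsHausdorff.map_algebraMap_iff (R := C) (S := CM)).mp
    (IsHausdorff.of_le_jacobson (I.map (algebraMap C CM)) CM (hmap.trans (IsLocalRing.jacobson_eq_maximalIdeal _ bot_ne_top).ge))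
  let v : {m : MaximalSpectrum C // I ≤ m.asIdeal} := ⟨⟨M, hM⟩, hIM⟩
  haveI : IsAdicComplete I CM := by
    rw [← AdicCompletion.of_bijective_iff]
    refine ⟨AdicCompletion.of_injective_iff.mpr inferInstance, fun y => ?_⟩
    obtain ⟨c, hc⟩ := (Groth.Agent.S14727.result C hfin I hI).2 (Pi.single v y)
    obtain ⟨c, rfl⟩ := AdicCompletion.of_surjective I C c
    refine ⟨algebraMap C CM c, ?_⟩
    have h2 := congrFun hc v
    rw [Pi.single_eq_same, LinearMap.pi_apply, AdicCompletion.map_of] at h2
    exact h2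
  haveI := (IsAdicComplete.map_algebraMap_iff (R := C) (S := CM) (M := CM) I).mpr inferInstance
  have hrad : maximalIdeal CM ≤ (I.map (algebraMap C CM)).radical := by
    rw [Ideal.radical_eq_sInf]
    refine le_sInf fun q hq => ?_
    haveI := hq.2
    have h1 : I ≤ q.comap (algebraMap C CM) := Ideal.map_le_iff_le_comap.mp hq.1
    haveI := hI _ inferInstance h1
    have h2 : q.comap (algebraMap C CM) = M := Ideal.IsMaximal.eq_of_le inferInstance hM.ne_top
      (((IsLocalization.AtPrime.orderIsoOfPrime CM M) ⟨q, hq.2⟩).2.2)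
    rw [← Localization.AtPrime.map_eq_maximalIdeal]
    exact (Ideal.map_mono h2.ge).trans Ideal.map_comap_le
  obtain ⟨N, hN⟩ := Ideal.exists_pow_le_of_le_radical_of_fg hrad (IsNoetherian.noetherian _)
  exact H24Adic.isAdicComplete_of_pow_le (a := N) (b := 1) hN (by rw [pow_one]; exact hmap) CM

namespace CT

variable (k A B : Type u) [Field k] [CommRing A] [CommRing B] [Algebra k A] [Algebra k B]
  [IsNoetherianRing A] [IsNoetherianRing B] [IsLocalRing A] [IsLocalRing B]

abbrev P : Ideal (A ⊗[k] B) := (maximalIdeal A).map (algebraMap A (A ⊗[k] B))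

theorem P_le : P k A B ≤ EGA4.cTensorIdeal k A B := by
  refine le_trans (le_of_eq ?_) le_sup_left
  rfl

theorem fg : (EGA4.cTensorIdeal k A B).FG :=
  Submodule.FG.sup (Ideal.FG.map (IsNoetherian.noetherian _) _) (Ideal.FG.map (IsNoetherian.noetherian _) _)

theorem includeRight_mem {b : B} (hb : b ∈ maximalIdeal B) : (1 : A) ⊗ₜ[k] b ∈ EGA4.cTensorIdeal k A B :=
  Submodule.mem_sup_right (Ideal.mem_map_of_mem (Algebra.TensorProduct.includeRight : B →ₐ[k] A ⊗[k] B) hb)

theorem finite_quot [Module.Finite k (ResidueField A)] (n : ℕ) : Module.Finite k (A ⧸ maximalIdeal A ^ n) := by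
  let q := Ideal.Quotient.mkₐ k (maximalIdeal A ^ n)
  let J := (maximalIdeal A).map q
  have hnil : IsNilpotent J := ⟨n, by
    show J ^ n = ⊥
    rw [← Ideal.map_pow, eq_bot_iff, Ideal.map_le_iff_le_comap]
    intro x hx
    rw [Ideal.mem_comap, Ideal.mem_bot]
    exact Ideal.Quotient.eq_zero_iff_mem.mpr hx⟩
  haveI : Module.Finite k (A ⧸ maximalIdeal A) := ‹Module.Finite k (ResidueField A)›
  haveI : Module.Finite k ((A ⧸ maximalIdeal A ^ n) ⧸ J) :=
    Module.Finite.of_surjective (Ideal.Quotient.liftₐ (maximalIdeal A) ((Ideal.Quotient.mkₐ k J).comp q)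
      fun a ha => Ideal.Quotient.eq_zero_iff_mem.mpr (Ideal.mem_map_of_mem q ha)).toLinearMap fun y => by
      obtain ⟨y, rfl⟩ := Ideal.Quotient.mk_surjective y
      obtain ⟨a, rfl⟩ := Ideal.Quotient.mk_surjective y
      exact ⟨Ideal.Quotient.mk _ a, rfl⟩
  exact finite_of_finite_quotient_nilpotent J hnil (IsNoetherian.noetherian _)

section

attribute [local instance] Algebra.TensorProduct.rightAlgebra

theorem map_P_pow (n : ℕ) : (maximalIdeal A ^ n).map (algebraMap A (A ⊗[k] B)) = P k A B ^ n := Ideal.map_pow _ _ _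

theorem projective_quot (n : ℕ) : Module.Projective B ((A ⊗[k] B) ⧸ P k A B ^ n) :=
  H3CAlg.projective_tensor_quotient k A B (maximalIdeal A ^ n) (fun _ => rfl) _ (map_P_pow k A B n)

variable [Module.Finite k (ResidueField A)]

theorem finite_B (n : ℕ) : Module.Finite B ((A ⊗[k] B) ⧸ P k A B ^ n) := by
  haveI := finite_quot k A n
  let e := ((Algebra.TensorProduct.comm k B (A ⧸ maximalIdeal A ^ n)).toRingEquiv.trans
    (Algebra.TensorProduct.quotientTensorEquiv (R := k) A B A (maximalIdeal A ^ n)).toRingEquiv).trans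
    (Ideal.quotEquivOfEq (map_P_pow k A B n))
  refine Module.Finite.of_surjective (M := B ⊗[k] (A ⧸ maximalIdeal A ^ n))
    ({ toFun := e, map_add' := map_add e, map_smul' := fun b x => ?_ } : _ →ₗ[B] _) e.surjective
  rw [Algebra.smul_def, map_mul, RingHom.id_apply]
  refine Eq.trans ?_ (Algebra.smul_def b (e x)).symm
  congr 1

variable [IsAdicComplete (maximalIdeal B) B]

theorem complete_quot (n : ℕ) : IsAdicComplete ((EGA4.cTensorIdeal k A B).map (Ideal.Quotient.mk (P k A B ^ n)))
    ((A ⊗[k] B) ⧸ P k A B ^ n) := by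
  haveI := finite_B k A B n
  let S := (A ⊗[k] B) ⧸ P k A B ^ n
  haveI : IsAdicComplete (maximalIdeal B) S := H24Adic.isAdicComplete_of_finite _
  haveI := (IsAdicComplete.map_algebraMap_iff (R := B) (S := S) (M := S) (maximalIdeal B)).mpr inferInstance
  have hQ : (maximalIdeal B).map (algebraMap B S) ≤ (EGA4.cTensorIdeal k A B).map (Ideal.Quotient.mk (P k A B ^ n)) := by
    rw [Ideal.map_le_iff_le_comap]
    intro b hb
    exact Ideal.mem_map_of_mem _ (includeRight_mem k A B hb)
  refine H24Adic.isAdicComplete_of_pow_le (I := (maximalIdeal B).map (algebraMap B S)) (a := n + 1) (b := 1) ?_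
    (le_of_eq_of_le (pow_one _) hQ) S
  refine le_of_eq_of_le (Ideal.map_pow _ _ _).symm ?_
  refine (Ideal.map_mono (Ideal.sup_pow_add_le_pow_sup_pow (n := n) (m := 1))).trans ?_
  rw [Ideal.map_sup, pow_one, sup_le_iff]
  refine ⟨?_, ?_⟩
  · refine le_trans (le_of_eq ?_) bot_le
    rw [eq_bot_iff, Ideal.map_le_iff_le_comap]
    intro x hx
    rw [Ideal.mem_comap, Ideal.mem_bot, Ideal.Quotient.eq_zero_iff_mem]
    exact hx
  · rw [Ideal.map_le_iff_le_comap, Ideal.map_le_iff_le_comap]
    intro b hb
    exact Ideal.mem_map_of_mem (algebraMap B S) hb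

theorem isNoetherianRing_cTensor : IsNoetherianRing (EGA4.CTensor k A B) := by
  haveI := finite_B k A B 1
  let I := EGA4.cTensorIdeal k A B
  haveI : IsNoetherianRing ((A ⊗[k] B) ⧸ P k A B ^ 1) := IsNoetherianRing.of_finite B _
  haveI : IsNoetherianRing ((A ⊗[k] B) ⧸ I) := isNoetherianRing_of_surjective _ _
    (Ideal.Quotient.factor (S := P k A B ^ 1) (T := I) (by rw [pow_one]; exact P_le k A B)) (Ideal.Quotient.factor_surjective _)
  haveI := AdicCompletion.isAdicComplete_self I (fg k A B)
  haveI : IsNoetherianRing (AdicCompletion I (A ⊗[k] B) ⧸ I.map (algebraMap (A ⊗[k] B) (AdicCompletion I (A ⊗[k] B)))) :=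
    isNoetherianRing_of_ringEquiv _ ((Ideal.quotEquivOfEq (AdicCompletion.ker_evalOneₐ_eq_map I (fg k A B)).symm).trans
      (RingHom.quotientKerEquivOfSurjective (AdicCompletion.evalOneₐ_surjective I))).symm
  exact H24Adic.isNoetherianRing_of_isAdicComplete (I.map (algebraMap (A ⊗[k] B) (AdicCompletion I (A ⊗[k] B)))) ((fg k A B).map _)

theorem exists_proj (n : ℕ) :
    ∃ π : EGA4.CTensor k A B →+* (A ⊗[k] B) ⧸ P k A B ^ n,
      (∀ x, π (algebraMap _ _ x) = Ideal.Quotient.mk _ x) ∧ Function.Surjective π ∧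
      RingHom.ker π = ((P k A B).map (algebraMap _ (EGA4.CTensor k A B))) ^ n := by
  haveI := isNoetherianRing_cTensor k A B
  haveI := complete_quot k A B n
  obtain ⟨π, h1, h2, h3, -⟩ := AdicLim.exists_proj (fg k A B) (P_le k A B) n
  exact ⟨π, h1, h2, h3⟩

theorem flat_right : Module.Flat B (EGA4.CTensor k A B) := by
  haveI := isNoetherianRing_cTensor k A B
  exact AdicLim.flat_of_projective (fg k A B) (P_le k A B) (complete_quot k A B) (projective_quot k A B)

end

variable [Module.Finite k (ResidueField A)] [IsAdicComplete (maximalIdeal B) B]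

theorem flat_left : Module.Flat A (EGA4.CTensor k A B) := by
  haveI := isNoetherianRing_cTensor k A B
  refine AdicLim.flat_of_flat (fg k A B) (P_le k A B) (complete_quot k A B) (maximalIdeal A) rfl fun n => ?_
  exact Module.Flat.of_linearEquiv ((Algebra.TensorProduct.quotientTensorEquiv (R := k) A B A
    (maximalIdeal A ^ n)).toLinearEquiv.extendScalarsOfSurjective Ideal.Quotient.mk_surjective).symm

theorem map_maximalIdeal : (maximalIdeal A).map (algebraMap A (EGA4.CTensor k A B)) =
    (P k A B).map (algebraMap _ (EGA4.CTensor k A B)) := by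
  rw [Ideal.map_map, ← IsScalarTower.algebraMap_eq]

theorem map_le_jacobson : (maximalIdeal A).map (algebraMap A (EGA4.CTensor k A B)) ≤
    (⊥ : Ideal (EGA4.CTensor k A B)).jacobson := by
  haveI := isNoetherianRing_cTensor k A B
  rw [map_maximalIdeal]
  exact AdicLim.map_le_jacobson (fg k A B) (P_le k A B)

theorem nonempty_fibre_equiv : Nonempty ((EGA4.CTensor k A B ⧸ (maximalIdeal A).map (algebraMap A (EGA4.CTensor k A B))) ≃+*
    ((A ⧸ maximalIdeal A) ⊗[k] B)) := by
  obtain ⟨π, -, hs, hk⟩ := exists_proj k A B 1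
  have hk' : RingHom.ker π = (maximalIdeal A).map (algebraMap A (EGA4.CTensor k A B)) := by
    rw [hk, map_maximalIdeal]; exact pow_one _
  exact ⟨((Ideal.quotEquivOfEq hk'.symm).trans (RingHom.quotientKerEquivOfSurjective hs)).trans
    ((Ideal.quotEquivOfEq (pow_one (P k A B))).trans
      (Algebra.TensorProduct.quotientTensorEquiv (R := k) A B A (maximalIdeal A)).symm.toRingEquiv)⟩

theorem cTensorIdeal_le (p : Ideal (EGA4.CTensor k A B)) [p.IsMaximal] :
    (EGA4.cTensorIdeal k A B).map (algebraMap _ (EGA4.CTensor k A B)) ≤ p := by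
  haveI := AdicCompletion.isAdicComplete_self _ (fg k A B)
  exact (IsAdicComplete.le_jacobson_bot _).trans (sInf_le ⟨bot_le, ‹_›⟩)

theorem surjective_quotient (p : Ideal (EGA4.CTensor k A B))
    (hp : (EGA4.cTensorIdeal k A B).map (algebraMap _ (EGA4.CTensor k A B)) ≤ p) :
    Function.Surjective ((Ideal.Quotient.mk p).comp (algebraMap (A ⊗[k] B) (EGA4.CTensor k A B))) := by
  intro y
  obtain ⟨c, rfl⟩ := Ideal.Quotient.mk_surjective y
  obtain ⟨x, hx⟩ := Ideal.Quotient.mk_surjective (AdicCompletion.evalₐ (EGA4.cTensorIdeal k A B) 1 c)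
  refine ⟨x, (Ideal.Quotient.eq.mpr (hp ?_)).symm⟩
  rw [← pow_one (Ideal.map _ _)]
  exact (AdicLim.ker_evalₐ (fg k A B) 1 _).mp (by rw [map_sub, AdicLim.evalₐ_algebraMap, hx, sub_self])

theorem isMaximal_of_le (p : Ideal (EGA4.CTensor k A B)) [hp' : p.IsPrime]
    (hp : (EGA4.cTensorIdeal k A B).map (algebraMap _ (EGA4.CTensor k A B)) ≤ p) :
    p.IsMaximal ∧ (p.comap (algebraMap (A ⊗[k] B) (EGA4.CTensor k A B))).IsMaximal := by
  letI : Algebra B (A ⊗[k] B) := Algebra.TensorProduct.rightAlgebra
  haveI := finite_B k A B 1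
  let q := p.comap (algebraMap (A ⊗[k] B) (EGA4.CTensor k A B))
  have hq : EGA4.cTensorIdeal k A B ≤ q := Ideal.map_le_iff_le_comap.mp hp
  have hle : P k A B ^ 1 ≤ q := by rw [pow_one]; exact (P_le k A B).trans hq
  let S := (A ⊗[k] B) ⧸ P k A B ^ 1
  let q' := q.map (Ideal.Quotient.mk (P k A B ^ 1))
  have hker : RingHom.ker (Ideal.Quotient.mk (P k A B ^ 1)) ≤ q := by rw [Ideal.mk_ker]; exact hle
  haveI : q'.IsPrime := Ideal.map_isPrime_of_surjective Ideal.Quotient.mk_surjective hker
  haveI : Algebra.IsIntegral B S := Algebra.IsIntegral.of_finite B S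
  have hcomap : q'.comap (Ideal.Quotient.mk (P k A B ^ 1)) = q := by
    rw [Ideal.comap_map_of_surjective' _ Ideal.Quotient.mk_surjective]
    exact sup_eq_left.mpr hker
  have hB : (q'.comap (algebraMap B S)).IsMaximal := by
    have : maximalIdeal B = q'.comap (algebraMap B S) := (maximalIdeal.isMaximal B).eq_of_le
      (Ideal.comap_ne_top _ (Ideal.IsPrime.ne_top ‹_›)) fun b hb => by
        have h1 := Ideal.mem_map_of_mem (Ideal.Quotient.mk (P k A B ^ 1)) (hq (includeRight_mem k A B hb))
        exact h1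
    rw [← this]
    exact maximalIdeal.isMaximal B
  haveI := Ideal.isMaximal_of_isIntegral_of_isMaximal_comap q' hB
  have hqm : q.IsMaximal := by rw [← hcomap]; exact Ideal.comap_isMaximal_of_surjective _ Ideal.Quotient.mk_surjective
  refine ⟨?_, hqm⟩
  have hs := surjective_quotient k A B p hp
  have hk : RingHom.ker ((Ideal.Quotient.mk p).comp (algebraMap (A ⊗[k] B) (EGA4.CTensor k A B))) = q := by
    rw [← RingHom.comap_ker, Ideal.mk_ker]
  exact Ideal.Quotient.maximal_of_isField _ (((Ideal.quotEquivOfEq hk.symm).trans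
    (RingHom.quotientKerEquivOfSurjective hs)).symm.toMulEquiv.isField
      ((Ideal.Quotient.maximal_ideal_iff_isField_quotient q).mp hqm))

theorem finite_maximalSpectrum : Finite (MaximalSpectrum (EGA4.CTensor k A B)) := by
  letI : Algebra B (A ⊗[k] B) := Algebra.TensorProduct.rightAlgebra
  haveI := finite_B k A B 1
  let I := EGA4.cTensorIdeal k A B
  haveI : IsNoetherianRing ((A ⊗[k] B) ⧸ P k A B ^ 1) := IsNoetherianRing.of_finite B _
  haveI : IsNoetherianRing ((A ⊗[k] B) ⧸ I) := isNoetherianRing_of_surjective _ _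
    (Ideal.Quotient.factor (S := P k A B ^ 1) (T := I) (by rw [pow_one]; exact P_le k A B)) (Ideal.Quotient.factor_surjective _)
  haveI := isNoetherianRing_cTensor k A B
  let C := EGA4.CTensor k A B
  let IC := I.map (algebraMap (A ⊗[k] B) C)
  haveI : Ring.KrullDimLE 0 (C ⧸ IC) := Ring.krullDimLE_zero_iff.mpr fun p hp => by
    have h1 := (isMaximal_of_le k A B (p.comap (Ideal.Quotient.mk IC)) fun x hx => by
      rw [Ideal.mem_comap, Ideal.Quotient.eq_zero_iff_mem.mpr hx]; exact zero_mem _).1
    have h2 := Ideal.map_comap_of_surjective _ Ideal.Quotient.mk_surjective p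
    rw [← h2]
    exact (Ideal.map_eq_top_or_isMaximal_of_surjective _ Ideal.Quotient.mk_surjective h1).resolve_left
      (by rw [h2]; exact hp.ne_top)
  haveI : IsArtinianRing (C ⧸ IC) := IsNoetherianRing.isArtinianRing_of_krullDimLE_zero
  refine Finite.of_injective (β := PrimeSpectrum (C ⧸ IC)) (fun m => ⟨m.asIdeal.map (Ideal.Quotient.mk IC), ?_⟩)
    fun m m' h => ?_
  · exact Ideal.map_isPrime_of_surjective Ideal.Quotient.mk_surjective (by rw [Ideal.mk_ker]; exact cTensorIdeal_le k A B _)
  · have hm : ∀ (m : MaximalSpectrum C), (m.asIdeal.map (Ideal.Quotient.mk IC)).comap (Ideal.Quotient.mk IC) = m.asIdeal :=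
      fun m => by
        rw [Ideal.comap_map_of_surjective' _ Ideal.Quotient.mk_surjective, Ideal.mk_ker]
        exact sup_eq_left.mpr (cTensorIdeal_le k A B _)
    ext1
    rw [← hm m, ← hm m']
    exact congrArg (fun q => Ideal.comap (Ideal.Quotient.mk IC) q.asIdeal) h

theorem finite_quotient (M : Ideal (EGA4.CTensor k A B)) [M.IsMaximal]
    [Algebra B (A ⊗[k] B)] (halg : ∀ b : B, algebraMap B (A ⊗[k] B) b = (1 : A) ⊗ₜ b) :
    Module.Finite B (EGA4.CTensor k A B ⧸ M) := by
  obtain rfl : ‹Algebra B (A ⊗[k] B)› = Algebra.TensorProduct.rightAlgebra := Algebra.algebra_ext _ _ halg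
  letI : Algebra B (A ⊗[k] B) := Algebra.TensorProduct.rightAlgebra
  haveI := finite_B k A B 1
  let f := (Ideal.Quotient.mkₐ B M).comp (IsScalarTower.toAlgHom B (A ⊗[k] B) (EGA4.CTensor k A B))
  refine Module.Finite.of_surjective (Ideal.Quotient.liftₐ (P k A B ^ 1) f fun x hx => ?_).toLinearMap fun y => ?_
  · rw [pow_one] at hx
    exact Ideal.Quotient.eq_zero_iff_mem.mpr (cTensorIdeal_le k A B M (Ideal.mem_map_of_mem _ (P_le k A B hx)))
  · obtain ⟨x, rfl⟩ := surjective_quotient k A B M (cTensorIdeal_le k A B M) y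
    exact ⟨Ideal.Quotient.mk _ x, rfl⟩

theorem isAdicComplete_atMaximal (M : Ideal (EGA4.CTensor k A B)) [M.IsMaximal] :
    IsAdicComplete (maximalIdeal (Localization.AtPrime M)) (Localization.AtPrime M) := by
  haveI := isNoetherianRing_cTensor k A B
  haveI := AdicCompletion.isAdicComplete_self _ (fg k A B)
  exact isAdicComplete_localization ((EGA4.cTensorIdeal k A B).map (algebraMap _ (EGA4.CTensor k A B)))
    (finite_maximalSpectrum k A B) (fun p _ hp => (isMaximal_of_le k A B p hp).1) M

end CT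

end Groth.Agent.H05EGA4
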