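import Mathlib
import Groth.Agent.H05EGA4.FibreLifting
import Groth.Agent.H05EGA4.GRSHom
import Groth.Agent.H05EGA4.CompleteNormalization
import Groth.Agent.H05EGA4.FormalFibres

/-!
# Fibres of flat homomorphisms of complete local rings (helper5, EGA IV 7.5)
-/

set_option autoImplicit false
set_option linter.style.haveILetI false
set_option linter.unusedSectionVars false
set_option linter.unusedVariables false
set_option linter.deprecated false
set_option maxHeartbeats 1600000
set_option synthInstance.maxHeartbeats 200000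
universe u
open IsLocalRing TensorProduct Groth.Agent

namespace Groth.Agent.H05EGA4

variable {r n : WithBot ℕ∞}

/-- In a Noetherian domain whose nonzero primes all contain one element, nonzero primes are maximal. -/
theorem isMaximal_of_forall_mem {E : Type u} [CommRing E] [IsDomain E] [IsNoetherianRing E] {f : E} (hf : f ≠ 0)
    (h : ∀ P : Ideal E, P.IsPrime → P ≠ ⊥ → f ∈ P) (P : Ideal E) [P.IsPrime] (hP : P ≠ ⊥) : P.IsMaximal := by
  classical
  obtain ⟨M, hM, hle⟩ := Ideal.exists_le_maximal P (Ideal.IsPrime.ne_top inferInstance)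
  haveI := hM.isPrime
  by_contra hnot
  have hlt : P < M := lt_of_le_of_ne hle fun e => hnot (e ▸ hM)
  let S := (Ideal.finite_minimalPrimes_of_isNoetherianRing E (Ideal.span {f})).toFinset
  obtain ⟨g, hgM, hg⟩ : ∃ g ∈ M, ∀ Q ∈ S, g ∉ Q := by
    by_contra hall
    push Not at hall
    have hsub : (M : Set E) ⊆ ⋃ Q ∈ (S : Set (Ideal E)), (Q : Set E) := fun x hx => by
      obtain ⟨Q, hQ, hxQ⟩ := hall x hx
      exact Set.mem_biUnion hQ hxQ
    obtain ⟨Q, hQ, hMQ⟩ := (Ideal.subset_union_prime (f := id) ⊥ ⊥ fun Q hQ _ _ =>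
      ((Set.Finite.mem_toFinset _).mp hQ).isPrime).mp hsub
    have hQm := (Set.Finite.mem_toFinset _).mp hQ
    have hfP : Ideal.span {f} ≤ P := (Ideal.span_singleton_le_iff_mem _).mpr (h P inferInstance hP)
    exact not_le_of_gt hlt (le_trans hMQ (hQm.2 ⟨inferInstance, hfP⟩ (hle.trans hMQ)))
  obtain ⟨Q, hQ, hQM⟩ := Ideal.exists_minimalPrimes_le ((Ideal.span_singleton_le_iff_mem _).mpr hgM)
  haveI := hQ.isPrime
  haveI : (Ideal.span {g}).IsPrincipal := ⟨⟨g, rfl⟩⟩
  have hh := Ideal.height_le_one_of_isPrincipal_of_mem_minimalPrimes _ _ hQ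
  by_cases hQ0 : Q = ⊥
  · have hg0 : g = 0 := by
      have := hQ.le (Ideal.mem_span_singleton_self g)
      rwa [hQ0, Ideal.mem_bot] at this
    obtain ⟨Q', hQ', -⟩ := Ideal.exists_minimalPrimes_le
      (show Ideal.span {f} ≤ P from (Ideal.span_singleton_le_iff_mem _).mpr (h P inferInstance hP))
    exact hg Q' ((Set.Finite.mem_toFinset _).mpr hQ') (hg0 ▸ zero_mem _)
  · have hfQ : Ideal.span {f} ≤ Q := (Ideal.span_singleton_le_iff_mem _).mpr (h Q inferInstance hQ0)
    obtain ⟨Q', hQ', hQ'Q⟩ := Ideal.exists_minimalPrimes_le hfQ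
    haveI := hQ'.isPrime
    rcases hQ'Q.lt_or_eq with hlt' | heq
    · have h1 : Q'.height < Q.height := Ideal.height_strict_mono_of_isPrime hlt'
      have h2 : Q'.height ≠ 0 := fun h0 => hf (by
        have h3 := (Ideal.height_eq_zero_iff.mp h0).2 ⟨Ideal.isPrime_bot, le_rfl⟩ bot_le
        exact (Ideal.mem_bot (R := E)).mp (h3 (hQ'.le (Ideal.mem_span_singleton_self f))))
      exact h2 (ENat.lt_one_iff_eq_zero.mp (h1.trans_le hh))
    · exact hg Q' ((Set.Finite.mem_toFinset _).mpr hQ') (heq ▸ hQ.le (Ideal.mem_span_singleton_self g))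

/-- Such a domain is finite over a complete local ring containing `f` in its maximal ideal. -/
theorem finite_of_forall_mem {A' E : Type u} [CommRing A'] [IsLocalRing A'] [IsNoetherianRing A']
    [IsAdicComplete (maximalIdeal A') A'] [CommRing E] [IsDomain E] [IsNoetherianRing E] [Algebra A' E]
    (hres : ∀ M : Ideal E, M.IsMaximal → Module.Finite A' (E ⧸ M))
    (hmap : ∀ M : Ideal E, M.IsMaximal → (maximalIdeal A').map (algebraMap A' E) ≤ M)
    {f : A'} (hf : f ∈ maximalIdeal A') (hf0 : algebraMap A' E f ≠ 0)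
    (h : ∀ P : Ideal E, P.IsPrime → P ≠ ⊥ → algebraMap A' E f ∈ P) : Module.Finite A' E := by
  classical
  let I := Ideal.span {algebraMap A' E f}
  have hmax : ∀ P : Ideal (E ⧸ I), P.IsPrime → P.IsMaximal := fun P hP => by
    haveI := hP
    have hne : P.comap (Ideal.Quotient.mk I) ≠ ⊥ := fun hb => hf0 ((Ideal.mem_bot (R := E)).mp (hb ▸
      (show algebraMap A' E f ∈ P.comap (Ideal.Quotient.mk I) by
        rw [Ideal.mem_comap, Ideal.Quotient.eq_zero_iff_mem.mpr (Ideal.mem_span_singleton_self _)]
        exact zero_mem _)))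
    haveI := isMaximal_of_forall_mem hf0 h (P.comap (Ideal.Quotient.mk I)) hne
    have hmap' : P = (P.comap (Ideal.Quotient.mk I)).map (Ideal.Quotient.mk I) :=
      (Ideal.map_comap_of_surjective _ Ideal.Quotient.mk_surjective P).symm
    rw [hmap']
    exact Ideal.IsMaximal.map_of_surjective_of_ker_le Ideal.Quotient.mk_surjective
      (Ideal.mk_ker.le.trans (Ideal.mk_ker.ge.trans (Ideal.comap_mono bot_le)))
  haveI : IsArtinianRing (E ⧸ I) :=
    isArtinianRing_iff_isNoetherianRing_krullDimLE_zero.mpr ⟨inferInstance, Ring.KrullDimLE.mk₀ hmax⟩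
  haveI : ∀ M : MaximalSpectrum (E ⧸ I), Module.Finite A' ((E ⧸ I) ⧸ M.asIdeal) := fun M => by
    let M' := M.asIdeal.comap (Ideal.Quotient.mk I)
    haveI := M.isMaximal
    haveI := hres M' (Ideal.comap_isMaximal_of_surjective _ Ideal.Quotient.mk_surjective)
    let φ : (E ⧸ M') →ₐ[A'] (E ⧸ I) ⧸ M.asIdeal :=
      Ideal.Quotient.liftₐ M' ((Ideal.Quotient.mkₐ A' M.asIdeal).comp (Ideal.Quotient.mkₐ A' I))
        fun x hx => Ideal.Quotient.eq_zero_iff_mem.mpr hx
    refine Module.Finite.of_surjective φ.toLinearMap fun y => ?_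
    obtain ⟨y, rfl⟩ := Ideal.Quotient.mk_surjective y
    obtain ⟨y, rfl⟩ := Ideal.Quotient.mk_surjective y
    exact ⟨Ideal.Quotient.mk M' y, rfl⟩
  haveI : Module.Finite A' ((E ⧸ I) ⧸ Ring.jacobson (E ⧸ I)) := by
    let ψ : (E ⧸ I) →ₐ[A'] (∀ M : MaximalSpectrum (E ⧸ I), (E ⧸ I) ⧸ M.asIdeal) :=
      AlgHom.pi fun M => Ideal.Quotient.mkₐ A' M.asIdeal
    have hker : ∀ x, ψ x = 0 ↔ x ∈ Ring.jacobson (E ⧸ I) := fun x => by
      rw [Ring.jacobson_eq_sInf_isMaximal, Submodule.mem_sInf]
      exact ⟨fun h P hP => Ideal.Quotient.eq_zero_iff_mem.mp (congrFun h ⟨P, hP⟩),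
        fun h => funext fun M => Ideal.Quotient.eq_zero_iff_mem.mpr (h M.asIdeal M.isMaximal)⟩
    let ψ' := Ideal.Quotient.liftₐ (Ring.jacobson (E ⧸ I)) ψ fun x hx => (hker x).mpr hx
    refine Module.Finite.of_injective ψ'.toLinearMap ((injective_iff_map_eq_zero ψ').mpr fun y hy => ?_)
    obtain ⟨y, rfl⟩ := Ideal.Quotient.mk_surjective y
    exact Ideal.Quotient.eq_zero_iff_mem.mpr ((hker y).mp hy)
  haveI : Module.Finite A' (E ⧸ I) :=
    finite_of_finite_quotient_nilpotent (Ring.jacobson (E ⧸ I))
      (by rw [← Ideal.jacobson_bot]; exact IsArtinianRing.isNilpotent_jacobson_bot)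
      (IsNoetherian.noetherian _)
  have hle : (maximalIdeal A').map (algebraMap A' E) ≠ ⊤ := by
    obtain ⟨M, hM⟩ := Ideal.exists_maximal E
    exact ne_top_of_le_ne_top hM.ne_top (hmap M hM)
  haveI : IsHausdorff ((maximalIdeal A').map (algebraMap A' E)) E := ⟨fun x hx => by
    have hx' : x ∈ ⨅ k, ((maximalIdeal A').map (algebraMap A' E)) ^ k := by
      rw [Submodule.mem_iInf]
      intro k
      have := hx k
      rwa [SModEq.zero, smul_eq_mul, Ideal.mul_top] at this
    rwa [Ideal.iInf_pow_eq_bot_of_isDomain _ hle, Ideal.mem_bot] at hx'⟩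
  haveI : IsHausdorff (maximalIdeal A') E := (IsHausdorff.map_algebraMap_iff (S := E) (I := maximalIdeal A') (M := E)).mp inferInstance
  haveI : Module.Finite A' (E ⧸ (maximalIdeal A' • ⊤ : Submodule A' E)) := by
    refine Module.Finite.of_surjective (Submodule.liftQ (I.restrictScalars A') (maximalIdeal A' • ⊤ : Submodule A' E).mkQ ?_
      ∘ₗ (Submodule.Quotient.restrictScalarsEquiv A' I).symm.toLinearMap) ?_
    · intro x hx
      obtain ⟨c, rfl⟩ := Ideal.mem_span_singleton'.mp hx
      rw [LinearMap.mem_ker, Submodule.mkQ_apply, Submodule.Quotient.mk_eq_zero, mul_comm, ← Algebra.smul_def]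
      exact Submodule.smul_mem_smul hf trivial
    · intro y
      obtain ⟨y, rfl⟩ := Submodule.mkQ_surjective _ y
      exact ⟨Ideal.Quotient.mk I y, rfl⟩
  exact H24Adic.finite_of_finite_quotient (maximalIdeal A')

/-- A point over the regular locus. -/
theorem exists_prime_over_regular {A' D : Type u} [CommRing A'] [IsDomain A'] [IsLocalRing A'] [IsNoetherianRing A']
    [IsIntegrallyClosed A'] [IsAdicComplete (maximalIdeal A') A'] (hA' : ¬ IsField A') (hJ : IsJ0 A')
    [CommRing D] [IsDomain D] [IsNoetherianRing D] [Algebra A' D] [FaithfulSMul A' D]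
    (hres : ∀ M : Ideal D, M.IsMaximal → Module.Finite A' (D ⧸ M))
    (hover : ∀ M : Ideal D, M.IsMaximal → M.comap (algebraMap A' D) = maximalIdeal A') :
    ∃ P : PrimeSpectrum D, P.asIdeal.comap (algebraMap A' D) ≠ ⊥ ∧
      IsRegularLocalRing (Localization.AtPrime (P.asIdeal.comap (algebraMap A' D))) := by
  classical
  have hinj := FaithfulSMul.algebraMap_injective A' D
  obtain ⟨f0, hf00, hreg⟩ : ∃ f0 : A', f0 ≠ 0 ∧
      ∀ P : PrimeSpectrum A', f0 ∉ P.asIdeal → IsRegularLocalRing (Localization.AtPrime P.asIdeal) := by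
    obtain ⟨U, hU, ⟨P0, hP0⟩, hUreg⟩ := hJ
    obtain ⟨V, ⟨f0, rfl⟩, hPV, hVU⟩ := PrimeSpectrum.isTopologicalBasis_basic_opens.exists_subset_of_mem_open hP0 hU
    exact ⟨f0, fun h0 => hPV (h0 ▸ zero_mem _), fun P hP => hUreg (hVU hP)⟩
  by_cases hdim : ∀ P : Ideal A', P.IsPrime → P ≠ ⊥ → P.IsMaximal
  · haveI : Ring.DimensionLEOne A' := ⟨fun {P} hne hP => hdim P hP hne⟩
    haveI : IsDedekindDomain A' :=
      { (inferInstance : IsNoetherianRing A'), (inferInstance : Ring.DimensionLEOne A'),
        (inferInstance : IsIntegrallyClosed A') with }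
    obtain ⟨M, hM⟩ := Ideal.exists_maximal D
    refine ⟨⟨M, hM.isPrime⟩, ?_, IsRegularRing.isRegularLocalRing_localization _⟩
    show M.comap _ ≠ ⊥
    rw [hover M hM]
    exact fun h => hA' (IsLocalRing.isField_iff_maximalIdeal_eq.mpr h)
  by_contra hnone
  push Not at hnone hdim
  obtain ⟨m0, hm0, hm00⟩ := Submodule.exists_mem_ne_zero_of_ne_bot
    (fun h : maximalIdeal A' = ⊥ => hA' (IsLocalRing.isField_iff_maximalIdeal_eq.mpr h))
  let f := f0 * m0
  have hfm : f ∈ maximalIdeal A' := Ideal.mul_mem_left _ _ hm0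
  have hf0 : algebraMap A' D f ≠ 0 := fun h0 => mul_ne_zero hf00 hm00 (hinj (h0.trans (map_zero _).symm))
  have hbot : ∀ P : Ideal D, P.IsPrime → algebraMap A' D f ∉ P → P.comap (algebraMap A' D) = ⊥ := fun P hP hfP => by
    haveI := hP
    by_contra hne
    exact hnone ⟨P, hP⟩ hne (hreg (PrimeSpectrum.comap (algebraMap A' D) ⟨P, hP⟩) fun hm => hfP
      (show f ∈ P.comap (algebraMap A' D) from Ideal.mul_mem_right _ _ hm))
  obtain ⟨P, ⟨hP, hfP⟩, hPmax⟩ := (wellFounded_gt (α := Ideal D)).has_min
    {P | P.IsPrime ∧ algebraMap A' D f ∉ P} ⟨⊥, Ideal.isPrime_bot, fun h => hf0 ((Ideal.mem_bot (R := D)).mp h)⟩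
  haveI := hP
  let E := D ⧸ P
  have hPA : P.comap (algebraMap A' D) = ⊥ := hbot P hP hfP
  have hinjE : Function.Injective (algebraMap A' E) := (injective_iff_map_eq_zero _).mpr fun a ha => by
    rw [IsScalarTower.algebraMap_apply A' D E] at ha
    have : a ∈ P.comap (algebraMap A' D) := (Ideal.Quotient.eq_zero_iff_mem (I := P)).mp ha
    rwa [hPA, Ideal.mem_bot] at this
  have hfE : algebraMap A' E f ≠ 0 := fun h0 => mul_ne_zero hf00 hm00 (hinjE (h0.trans (map_zero _).symm))
  have hall : ∀ Q : Ideal E, Q.IsPrime → Q ≠ ⊥ → algebraMap A' E f ∈ Q := fun Q hQ hne => by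
    haveI := hQ
    by_contra hfQ
    refine hPmax (Q.comap (Ideal.Quotient.mk P)) ⟨inferInstance, fun hm => hfQ ?_⟩ ?_
    · rw [IsScalarTower.algebraMap_apply A' D E]; exact hm
    · refine lt_of_le_of_ne (Ideal.mk_ker.ge.trans (Ideal.comap_mono bot_le)) fun heq => hne ?_
      rw [← Ideal.map_comap_of_surjective _ Ideal.Quotient.mk_surjective Q, ← heq, Ideal.map_quotient_self]
  have hcm : ∀ M : Ideal E, M.IsMaximal → (M.comap (Ideal.Quotient.mk P)).IsMaximal := fun M hM =>
    Ideal.comap_isMaximal_of_surjective _ Ideal.Quotient.mk_surjective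
  haveI : Module.Finite A' E := finite_of_forall_mem (fun M hM => by
      haveI := hres _ (hcm M hM)
      let φ : (D ⧸ M.comap (Ideal.Quotient.mk P)) →ₐ[A'] E ⧸ M :=
        Ideal.Quotient.liftₐ _ ((Ideal.Quotient.mkₐ A' M).comp (Ideal.Quotient.mkₐ A' P))
          fun x hx => Ideal.Quotient.eq_zero_iff_mem.mpr hx
      refine Module.Finite.of_surjective φ.toLinearMap fun y => ?_
      obtain ⟨y, rfl⟩ := Ideal.Quotient.mk_surjective y
      obtain ⟨y, rfl⟩ := Ideal.Quotient.mk_surjective y
      exact ⟨Ideal.Quotient.mk _ y, rfl⟩)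
    (fun M hM => by
      rw [Ideal.map_le_iff_le_comap, ← hover _ (hcm M hM), Ideal.comap_comap]
      exact le_of_eq rfl) hfm hfE hall
  haveI : Algebra.IsIntegral A' E := Algebra.IsIntegral.of_finite _ _
  obtain ⟨P0, hP0, hP0ne, hP0max⟩ := hdim
  haveI := hP0
  obtain ⟨Q, -, hQ, hQP⟩ := Ideal.exists_ideal_over_prime_of_isIntegral P0 (⊥ : Ideal E) (by
    rw [show (⊥ : Ideal E).comap (algebraMap A' E) = ⊥ from (RingHom.injective_iff_ker_eq_bot _).mp hinjE]
    exact bot_le)
  haveI := hQ
  have hQne : Q ≠ ⊥ := fun h => hP0ne (by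
    rw [← hQP, h]; exact (RingHom.injective_iff_ker_eq_bot _).mp hinjE)
  haveI := isMaximal_of_forall_mem hfE hall Q hQne
  exact hP0max (hQP ▸ Ideal.isMaximal_comap_of_isIntegral_of_isMaximal Q)

/-- Residue fields of an algebra finite over a local ring. -/
theorem finite_residue_and_comap {A A' B C : Type u} [CommRing A] [CommRing A'] [CommRing B] [CommRing C]
    [IsLocalRing B] [IsLocalRing A'] [Algebra A B] [Algebra A A'] [Algebra A' C] [Algebra A C] [Algebra B C]
    [IsScalarTower A A' C] [IsScalarTower A B C] [Module.Finite B C] [Module.Finite A (ResidueField B)]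
    (M : Ideal C) (hM : M.IsMaximal) :
    Module.Finite A' (C ⧸ M) ∧ M.comap (algebraMap A' C) = maximalIdeal A' := by
  haveI := hM
  haveI : (M.comap (algebraMap B C)).IsMaximal := Ideal.isMaximal_comap_of_isIntegral_of_isMaximal M
  have hM' : M.comap (algebraMap B C) = maximalIdeal B := IsLocalRing.eq_maximalIdeal inferInstance
  let g0 : ResidueField B →+* C ⧸ M := Ideal.Quotient.lift (maximalIdeal B)
    ((Ideal.Quotient.mk M).comp (algebraMap B C)) fun x hx => by
      rw [RingHom.comp_apply, Ideal.Quotient.eq_zero_iff_mem]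
      exact (hM'.ge hx : x ∈ M.comap (algebraMap B C))
  letI : Algebra (ResidueField B) (C ⧸ M) := g0.toAlgebra
  haveI : IsScalarTower B (ResidueField B) (C ⧸ M) := .of_algebraMap_eq fun x => rfl
  haveI : Module.Finite B (C ⧸ M) := Module.Finite.of_surjective (Ideal.Quotient.mkₐ B M).toLinearMap Ideal.Quotient.mk_surjective
  haveI : Module.Finite (ResidueField B) (C ⧸ M) := Module.Finite.of_restrictScalars_finite B _ _
  haveI : IsScalarTower A (ResidueField B) (C ⧸ M) := .of_algebraMap_eq fun a => by
    rw [IsScalarTower.algebraMap_apply A B (ResidueField B), ← IsScalarTower.algebraMap_apply B (ResidueField B) (C ⧸ M),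
      ← IsScalarTower.algebraMap_apply A B (C ⧸ M)]
  haveI : Module.Finite A (C ⧸ M) := Module.Finite.trans (ResidueField B) _
  haveI hfin : Module.Finite A' (C ⧸ M) := Module.Finite.of_restrictScalars_finite A A' _
  refine ⟨hfin, ?_⟩
  letI := Ideal.Quotient.field M
  haveI : Algebra.IsIntegral A' (C ⧸ M) := Algebra.IsIntegral.of_finite _ _
  have h := Ideal.isMaximal_comap_of_isIntegral_of_isMaximal (R := A') (⊥ : Ideal (C ⧸ M)) (hI := Ideal.bot_isMaximal)
  rw [IsScalarTower.algebraMap_eq A' C (C ⧸ M), ← Ideal.comap_comap, Ideal.Quotient.algebraMap_eq,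
    ← RingHom.ker_eq_comap_bot, Ideal.mk_ker] at h
  exact IsLocalRing.eq_maximalIdeal h

/-- A specialisation over a nonzero regular point. -/
theorem exists_specialization_over_regular {A A' B C : Type u} [CommRing A] [CommRing A'] [CommRing B] [CommRing C]
    [IsDomain A'] [IsLocalRing A'] [IsNoetherianRing A'] [IsIntegrallyClosed A'] [IsAdicComplete (maximalIdeal A') A']
    [IsLocalRing B] [IsNoetherianRing C] [Algebra A B] [Algebra A A'] [Algebra A' C] [Algebra A C] [Algebra B C]
    [IsScalarTower A A' C] [IsScalarTower A B C] [Module.Finite B C] [Module.Finite A (ResidueField B)]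
    (hfield : ¬ IsField A') (hJ : IsJ0 A') (q : Ideal C) [q.IsPrime] (hq : q.comap (algebraMap A' C) = ⊥) :
    ∃ q1 : PrimeSpectrum C, q ≤ q1.asIdeal ∧ q1.asIdeal.comap (algebraMap A' C) ≠ ⊥ ∧
      IsRegularLocalRing (Localization.AtPrime (q1.asIdeal.comap (algebraMap A' C))) := by
  let D := C ⧸ q
  haveI : FaithfulSMul A' D := (faithfulSMul_iff_algebraMap_injective _ _).mpr
    ((injective_iff_map_eq_zero _).mpr fun a ha => by
      rw [IsScalarTower.algebraMap_apply A' C D] at ha
      have : a ∈ q.comap (algebraMap A' C) := (Ideal.Quotient.eq_zero_iff_mem (I := q)).mp ha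
      rwa [hq, Ideal.mem_bot] at this)
  obtain ⟨P, hPne, hPreg⟩ := exists_prime_over_regular (D := D) hfield hJ
    (fun M hM => by
      haveI := hM
      haveI := (finite_residue_and_comap (A := A) (A' := A') (B := B) _
        (Ideal.comap_isMaximal_of_surjective (Ideal.Quotient.mk q) Ideal.Quotient.mk_surjective (K := M))).1
      let φ : (C ⧸ M.comap (Ideal.Quotient.mk q)) →ₐ[A'] D ⧸ M :=
        Ideal.Quotient.liftₐ _ ((Ideal.Quotient.mkₐ A' M).comp (Ideal.Quotient.mkₐ A' q))
          fun x hx => Ideal.Quotient.eq_zero_iff_mem.mpr hx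
      refine Module.Finite.of_surjective φ.toLinearMap fun y => ?_
      obtain ⟨y, rfl⟩ := Ideal.Quotient.mk_surjective y
      obtain ⟨y, rfl⟩ := Ideal.Quotient.mk_surjective y
      exact ⟨Ideal.Quotient.mk _ y, rfl⟩)
    (fun M hM => by
      haveI := hM
      rw [← (finite_residue_and_comap (A := A) (A' := A') (B := B) _
        (Ideal.comap_isMaximal_of_surjective (Ideal.Quotient.mk q) Ideal.Quotient.mk_surjective (K := M))).2,
        Ideal.comap_comap]
      rfl)
  exact ⟨PrimeSpectrum.comap (Ideal.Quotient.mk q) P, Ideal.mk_ker.ge.trans (Ideal.comap_mono bot_le), hPne, hPreg⟩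

/-- A localisation of a universally catenary ring is catenary. -/
theorem isCatenary_atPrime_of_finiteType {B B' : Type u} [CommRing B] [CommRing B'] [Algebra B B']
    [Algebra.FiniteType B B'] (h : CAlg.IsUniversallyCatenary B) (q : Ideal B') [q.IsPrime] :
    CAlg.IsCatenary (Localization.AtPrime q) :=
  H02CA.catenary_transfer (H8Props.UnivCatenary.submonoidEmbedding q.primeCompl (Localization.AtPrime q))
    (H8Props.UnivCatenary.convex_submonoidEmbedding _ _) (h.2 B' inferInstance)

/-- Conditions at a point from the fibre over a regular point above it. -/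
theorem rsLocal_of_fibre_regular {A' B' : Type u} [CommRing A'] [CommRing B'] [IsNoetherianRing A']
    [IsNoetherianRing B'] [Algebra A' B'] [Module.Flat A' B'] (hL : Liftable.{u} r n) (q q1 : Ideal B') [q.IsPrime]
    [q1.IsPrime] (hle : q ≤ q1) (hcat : CAlg.IsCatenary (Localization.AtPrime q1))
    (hreg : IsRegularLocalRing (Localization.AtPrime (q1.comap (algebraMap A' B'))))
    (hfib : RS r n ((q1.comap (algebraMap A' B')).Fiber B')) : RSLocal r n (Localization.AtPrime q) := by
  let p1 := q1.comap (algebraMap A' B')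
  haveI : q1.LiesOver p1 := ⟨rfl⟩
  letI := Localization.AtPrime.algebraOfLiesOver p1 q1
  haveI : IsLocalHom (algebraMap (Localization.AtPrime p1) (Localization.AtPrime q1)) := by
    rw [Localization.AtPrime.IsLiesOverAlgebra.algebraMap_eq]
    infer_instance
  haveI : IsRegularLocalRing (Localization.AtPrime p1) := hreg
  haveI : IsNoetherianRing (p1.Fiber B') := H02CA.isNoetherianRing_tensor_of_essFiniteType _ _ _
  let Q := PrimeSpectrum.preimageEquivFiber A' B' ⟨p1, inferInstance⟩ ⟨⟨q1, inferInstance⟩, rfl⟩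
  have hQ : Q.asIdeal.comap Algebra.TensorProduct.includeRight = q1 :=
    congr($((PrimeSpectrum.preimageEquivFiber A' B' ⟨p1, inferInstance⟩).left_inv ⟨⟨q1, inferInstance⟩, rfl⟩).1.asIdeal)
  have hF : RS r n (Localization.AtPrime Q.asIdeal) := hfib.of_isLocalization Q.asIdeal.primeCompl _
  have hC : RS r n (Localization.AtPrime q1 ⧸
      (maximalIdeal (Localization.AtPrime p1)).map (algebraMap (Localization.AtPrime p1) (Localization.AtPrime q1))) := by
    have heq : (maximalIdeal (Localization.AtPrime p1)).map (algebraMap (Localization.AtPrime p1) (Localization.AtPrime q1)) =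
        p1.map (algebraMap A' (Localization.AtPrime q1)) := by
      rw [← Localization.AtPrime.map_eq_maximalIdeal, Ideal.map_map, ← IsScalarTower.algebraMap_eq]
    revert hF
    generalize Q = Q' at hQ ⊢
    intro hF
    have key : ∀ (q' : Ideal B') [q'.IsPrime], Q'.asIdeal.comap Algebra.TensorProduct.includeRight = q' →
        RS r n (Localization.AtPrime q' ⧸ p1.map (algebraMap A' (Localization.AtPrime q'))) := by
      rintro q' _ rfl
      letI := Localization.AtPrime.algebraOfLiesOver p1 (Q'.asIdeal.comap (Algebra.TensorProduct.includeRight : B' →ₐ[A'] p1.Fiber B'))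
      exact hF.of_ringEquiv (Ideal.Fiber.localizationAlgEquivQuotient p1 Q'.asIdeal).toRingEquiv
    exact (key q1 hQ).of_ringEquiv (Ideal.quotEquivOfEq heq.symm)
  obtain ⟨N, hN⟩ := exists_nat_ringKrullDim (Localization.AtPrime p1)
  exact (rs_atPrime_iff q1).mp (RS.of_regular_base hL N (Localization.AtPrime p1) (Localization.AtPrime q1) hN.le hcat hC) q hle

/-- Finite domains over a complete local ring with finite base: the generic fibres. -/
theorem rs_tensor_of_complete (hL : Liftable.{u} r n) (A B : Type u) [CommRing A] [CommRing B] [IsNoetherianRing A]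
    [IsNoetherianRing B] [IsLocalRing A] [IsLocalRing B] [IsAdicComplete (maximalIdeal A) A]
    [Algebra A B] [IsLocalHom (algebraMap A B)] [Module.Flat A B]
    [Module.Finite (ResidueField A) (ResidueField B)] (hcat : CAlg.IsUniversallyCatenary B)
    (hclosed : ∀ (K : Type u) [Field K] [Algebra A K], Module.Finite A K → RS r n (K ⊗[A] B)) :
    ∀ (p : Ideal A) (A₁ : Type u) [CommRing A₁] [IsDomain A₁] [Algebra A A₁] [Module.Finite A A₁]
      (K : Type u) [Field K] [Algebra A₁ K] [Algebra A K] [IsScalarTower A A₁ K] [IsFractionRing A₁ K],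
      RingHom.ker (algebraMap A A₁) = p → RS r n (K ⊗[A] B) := by
  intro p
  induction p using IsWellFounded.induction (α := Ideal A) (· > ·) with
  | _ p ih => ?_
  intro A₁ _ _ _ _ K _ _ _ _ _ hker
  haveI : IsNoetherianRing A₁ := IsNoetherianRing.of_finite A A₁
  obtain ⟨hloc1, hc1⟩ := isAdicComplete_of_finite_domain (A := A) (A' := A₁)
  haveI := hloc1
  haveI := hc1
  haveI : FaithfulSMul A₁ K := (faithfulSMul_iff_algebraMap_injective _ _).mpr (IsFractionRing.injective A₁ K)
  obtain ⟨hfin1, -⟩ := finite_and_isJ0_of_complete_domain A₁ K fun K0 _ _ _ _ _ =>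
    Module.Finite.of_surjective (Algebra.linearMap K0 K) fun z => by
      obtain ⟨a, b, hb, rfl⟩ := IsFractionRing.div_surjective (A := A₁) z
      exact ⟨algebraMap A₁ K0 a / algebraMap A₁ K0 b, by simp [← IsScalarTower.algebraMap_apply]⟩
  let A' := integralClosure A₁ K
  haveI : IsFractionRing A' K := integralClosure.isFractionRing_of_finite_extension K K
  haveI : IsIntegrallyClosed A' := integralClosure.isIntegrallyClosedOfFiniteExtension K
  haveI : Module.Finite A₁ A' := hfin1
  haveI : Module.Finite A A' := Module.Finite.trans A₁ A'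
  haveI : IsNoetherianRing A' := IsNoetherianRing.of_finite A A'
  obtain ⟨hloc2, hc2⟩ := isAdicComplete_of_finite_domain (A := A) (A' := A')
  haveI := hloc2
  haveI := hc2
  by_cases hfield : IsField A'
  · refine hclosed K ?_
    obtain ⟨e⟩ : Nonempty (A' ≃ₗ[A] K) := ⟨LinearEquiv.ofBijective (IsScalarTower.toAlgHom A A' K).toLinearMap
      ⟨IsFractionRing.injective A' K, fun z => by
        obtain ⟨a, b, hb, rfl⟩ := IsFractionRing.div_surjective (A := A') z
        obtain ⟨c, hc⟩ := hfield.mul_inv_cancel (nonZeroDivisors.ne_zero hb)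
        refine ⟨a * c, ?_⟩
        show algebraMap A' K (a * c) = _
        rw [eq_div_iff (IsLocalization.map_units K (⟨b, hb⟩ : nonZeroDivisors A')).ne_zero, ← map_mul, mul_assoc,
          mul_comm c b, hc, mul_one]⟩⟩
    exact Module.Finite.equiv e
  have hJ : IsJ0 A' := (finite_and_isJ0_of_complete_domain A' K fun K0 _ _ _ _ _ =>
    Module.Finite.of_surjective (Algebra.linearMap K0 K) fun z => by
      obtain ⟨a, b, hb, rfl⟩ := IsFractionRing.div_surjective (A := A') z
      exact ⟨algebraMap A' K0 a / algebraMap A' K0 b, by simp [← IsScalarTower.algebraMap_apply]⟩).2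
  let B' := A' ⊗[A] B
  letI : Algebra B B' := Algebra.TensorProduct.rightAlgebra
  haveI : IsScalarTower A B B' := .of_algebraMap_eq fun a => by
    show algebraMap A B' a = (1 : A') ⊗ₜ[A] algebraMap A B a
    rw [Algebra.algebraMap_eq_smul_one (A := B), TensorProduct.tmul_smul]
    exact Algebra.algebraMap_eq_smul_one a
  haveI hB'fin : Module.Finite B B' := by
    have h1 : Module.Finite B (B ⊗[A] A') := inferInstance
    exact Module.Finite.equiv (LinearEquiv.ofBijective
      ({ toFun := Algebra.TensorProduct.comm A B A'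
         map_add' := map_add _
         map_smul' := fun b z => by
          rw [RingHom.id_apply, Algebra.smul_def, Algebra.smul_def, map_mul]
          congr 1 } : B ⊗[A] A' →ₗ[B] B') (Algebra.TensorProduct.comm A B A').bijective)
  haveI : IsNoetherianRing B' := IsNoetherianRing.of_finite B B'
  haveI : Module.Finite A (ResidueField B) := Module.Finite.trans (ResidueField A) (ResidueField B)
  have key : ∀ (q : Ideal B') [q.IsPrime], q.comap (algebraMap A' B') = ⊥ → RSLocal r n (Localization.AtPrime q) := by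
    intro q _ hq
    obtain ⟨Q1, hqle, hPne, hreg1⟩ := exists_specialization_over_regular (A := A) (B := B) (A' := A') (C := B') hfield hJ q hq
    let q1 := Q1.asIdeal
    let p1 := q1.comap (algebraMap A' B')
    have hfib : RS r n (p1.Fiber B') := by
      let p' := RingHom.ker (algebraMap A (A' ⧸ p1))
      have hlt : p' > p := by
        have hle : p ≤ p' := fun a ha => by
          rw [← hker] at ha
          rw [RingHom.mem_ker, IsScalarTower.algebraMap_apply A A₁ (A' ⧸ p1), RingHom.mem_ker.mp ha, map_zero]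
        refine lt_of_le_of_ne hle fun heq => ?_
        haveI : Algebra.IsIntegral A A' := Algebra.IsIntegral.of_finite _ _
        have hker' : p = RingHom.ker (algebraMap A A') := by
          rw [← hker]
          ext a
          rw [RingHom.mem_ker, RingHom.mem_ker, IsScalarTower.algebraMap_apply A A₁ A']
          exact ⟨fun h => by rw [h, map_zero], fun h => IsFractionRing.injective A₁ K (by
            rw [map_zero, IsScalarTower.algebraMap_apply A₁ A' K, h, map_zero])⟩
        letI : Algebra (A ⧸ p) A' := (Ideal.Quotient.lift p (algebraMap A A')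
          fun a ha => RingHom.mem_ker.mp (hker' ▸ ha)).toAlgebra
        haveI : IsScalarTower A (A ⧸ p) A' := .of_algebraMap_eq fun _ => rfl
        haveI : Algebra.IsIntegral (A ⧸ p) A' := Algebra.IsIntegral.tower_top A
        haveI : Nontrivial (A ⧸ p) := (algebraMap (A ⧸ p) A').domain_nontrivial
        refine hPne (Ideal.eq_bot_of_comap_eq_bot (R := A ⧸ p) (I := p1) (eq_bot_iff.mpr fun x hx => ?_))
        obtain ⟨a, rfl⟩ := Ideal.Quotient.mk_surjective x
        rw [Ideal.mem_bot, Ideal.Quotient.eq_zero_iff_mem, heq, RingHom.mem_ker,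
          IsScalarTower.algebraMap_apply A A' (A' ⧸ p1)]
        exact Ideal.Quotient.eq_zero_iff_mem.mpr hx
      have hRS := ih p' hlt (A' ⧸ p1) p1.ResidueField rfl
      haveI : IsNoetherianRing (p1.ResidueField ⊗[A] B) := by
        haveI : Algebra.EssFiniteType A p1.ResidueField := Algebra.EssFiniteType.comp A A' p1.ResidueField
        exact H02CA.isNoetherianRing_tensor_of_essFiniteType _ _ _
      exact hRS.of_ringEquiv (Algebra.TensorProduct.cancelBaseChange A A' A' p1.ResidueField B).symm.toRingEquiv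
    exact rsLocal_of_fibre_regular hL q q1 hqle (isCatenary_atPrime_of_finiteType hcat q1) hreg1 hfib
  let X := K ⊗[A'] B'
  letI : Algebra B' X := Algebra.TensorProduct.rightAlgebra
  haveI : IsLocalization (Algebra.algebraMapSubmonoid B' (nonZeroDivisors A')) X := inferInstance
  haveI : IsNoetherianRing X := IsLocalization.isNoetherianRing (Algebra.algebraMapSubmonoid B' (nonZeroDivisors A')) X inferInstance
  refine RS.of_ringEquiv (Algebra.TensorProduct.cancelBaseChange A A' A' K B).toRingEquiv fun Q _ => ?_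
  letI : Algebra B' X := Algebra.TensorProduct.rightAlgebra
  refine (rsLocal_localization_iff (Algebra.algebraMapSubmonoid B' (nonZeroDivisors A')) X Q).mpr (key _ ?_)
  rw [eq_bot_iff]
  intro a ha
  by_contra ha0
  have hdisj := ((IsLocalization.isPrime_iff_isPrime_disjoint (Algebra.algebraMapSubmonoid B' (nonZeroDivisors A')) X Q).mp inferInstance).2
  exact Set.disjoint_left.mp hdisj ⟨a, mem_nonZeroDivisors_of_ne_zero (fun h => ha0 (by rw [h]; exact zero_mem _)), rfl⟩ ha

/-- Finite field-valued algebras over a local ring live on the closed fibre. -/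
theorem rs_tensor_of_grs_closed_fibre {A B : Type u} [CommRing A] [CommRing B] [IsNoetherianRing A] [IsNoetherianRing B]
    [IsLocalRing A] [Algebra A B] (h : GRS r n (maximalIdeal A).ResidueField ((maximalIdeal A).Fiber B))
    (K : Type u) [Field K] [Algebra A K] (hfin : Module.Finite A K) : RS r n (K ⊗[A] B) := by
  haveI : Algebra.IsIntegral A K := Algebra.IsIntegral.of_finite _ _
  have hker : RingHom.ker (algebraMap A K) = maximalIdeal A := IsLocalRing.eq_maximalIdeal (by
    rw [RingHom.ker_eq_comap_bot]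
    exact Ideal.isMaximal_comap_of_isIntegral_of_isMaximal (⊥ : Ideal K) (hI := Ideal.bot_isMaximal))
  let k := (maximalIdeal A).ResidueField
  let g : k →+* K := Ideal.ResidueField.lift (maximalIdeal A) (algebraMap A K) hker.ge fun x hx =>
    isUnit_iff_ne_zero.mpr fun h0 => hx (hker.le (RingHom.mem_ker.mpr h0))
  letI : Algebra k K := g.toAlgebra
  haveI : IsScalarTower A k K :=
    .of_algebraMap_eq fun a => (Ideal.ResidueField.lift_algebraMap (I := maximalIdeal A) (algebraMap A K) hker.ge _ a).symm
  haveI : Module.Finite k K := Module.Finite.of_restrictScalars_finite A k K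
  haveI : IsNoetherianRing ((maximalIdeal A).Fiber B) := H02CA.isNoetherianRing_tensor_of_essFiniteType _ _ _
  haveI : IsNoetherianRing (K ⊗[k] ((maximalIdeal A).Fiber B)) := H02CA.isNoetherianRing_tensor_of_essFiniteType _ _ _
  exact (h K inferInstance).of_ringEquiv (H02CA.fiberBaseChangeEquiv (maximalIdeal A) K B)

/-- From a bound on finite residue fields to all fibres, over a complete local ring. -/
theorem grsHom_of_complete_of_closed (hL : Liftable.{u} r n) {A B : Type u} [CommRing A] [CommRing B]
    [IsNoetherianRing A] [IsNoetherianRing B] [IsLocalRing A] [IsLocalRing B] [IsAdicComplete (maximalIdeal A) A]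
    [IsAdicComplete (maximalIdeal B) B] [Algebra A B] [IsLocalHom (algebraMap A B)] [Module.Flat A B]
    [Module.Finite (ResidueField A) (ResidueField B)]
    (hclosed : ∀ (K : Type u) [Field K] [Algebra A K], Module.Finite A K → RS r n (K ⊗[A] B)) :
    GRSHom r n A B := by
  refine grsHom_of_forall inferInstance fun p _ k' _ _ _ _ _ _ => ?_
  letI : Algebra (A ⧸ p) k' := ((algebraMap p.ResidueField k').comp (algebraMap (A ⧸ p) p.ResidueField)).toAlgebra
  haveI : IsScalarTower (A ⧸ p) p.ResidueField k' := .of_algebraMap_eq fun _ => rfl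
  haveI : IsScalarTower A (A ⧸ p) k' := .of_algebraMap_eq fun a => by
    rw [IsScalarTower.algebraMap_apply (A ⧸ p) p.ResidueField k', ← IsScalarTower.algebraMap_apply A (A ⧸ p) p.ResidueField,
      ← IsScalarTower.algebraMap_apply A p.ResidueField k']
  haveI : IsLocalRing (A ⧸ p) := .of_surjective' _ Ideal.Quotient.mk_surjective
  obtain ⟨hl, hc⟩ := isAdicComplete_of_finite_domain (A := A) (A' := A ⧸ p)
  haveI := hl
  haveI := hc
  haveI : FaithfulSMul (A ⧸ p) k' := (faithfulSMul_iff_algebraMap_injective _ _).mpr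
    ((algebraMap p.ResidueField k').injective.comp (IsFractionRing.injective (A ⧸ p) p.ResidueField))
  obtain ⟨hfin, -⟩ := finite_and_isJ0_of_complete_domain (A ⧸ p) k' fun K _ _ _ _ _ => by
    let e := IsLocalization.algEquiv (nonZeroDivisors (A ⧸ p)) p.ResidueField K
    letI : Algebra p.ResidueField K := e.toRingEquiv.toRingHom.toAlgebra
    have : IsScalarTower p.ResidueField K k' := IsScalarTower.of_algebraMap_eq' (IsLocalization.ringHom_ext
      (nonZeroDivisors (A ⧸ p)) (RingHom.ext fun a => by
        show algebraMap p.ResidueField k' (algebraMap (A ⧸ p) _ a) = algebraMap K k' (e (algebraMap (A ⧸ p) _ a))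
        rw [e.commutes, ← IsScalarTower.algebraMap_apply, ← IsScalarTower.algebraMap_apply]))
    exact Module.Finite.of_restrictScalars_finite p.ResidueField K k'
  haveI : IsFractionRing (integralClosure (A ⧸ p) k') k' := integralClosure.isFractionRing_of_finite_extension p.ResidueField k'
  haveI : Module.Finite (A ⧸ p) (integralClosure (A ⧸ p) k') := hfin
  haveI : Module.Finite A (integralClosure (A ⧸ p) k') := Module.Finite.trans (A ⧸ p) _
  exact rs_tensor_of_complete hL A B (isUniversallyCatenary_of_isAdicComplete B) hclosed _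
    (integralClosure (A ⧸ p) k') k' rfl

/-- Fibres of a flat local homomorphism from the closed fibre of the completion. -/
theorem grsHom_of_cpl_closed_fibre (hL : Liftable.{u} r n) {A B : Type u} [CommRing A] [CommRing B]
    [IsNoetherianRing A] [IsNoetherianRing B] [IsLocalRing A] [IsLocalRing B] [Algebra A B]
    [IsLocalHom (algebraMap A B)] [Module.Flat A B] [Module.Finite (ResidueField A) (ResidueField B)]
    (hA : GRSHom r n A (EGA4.Cpl A)) (h : GRS r n (maximalIdeal A).ResidueField ((maximalIdeal A).Fiber (EGA4.Cpl B))) :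
    GRSHom r n A B := by
  haveI := isNoetherianRing_cpl A
  haveI := isNoetherianRing_cpl B
  haveI := faithfullyFlat_cpl B
  haveI : IsAdicComplete (maximalIdeal (EGA4.Cpl A)) (EGA4.Cpl A) := by
    rw [AdicCompletion.maximalIdeal_eq_map]
    exact AdicCompletion.isAdicComplete_self _ (IsNoetherian.noetherian _)
  haveI : IsAdicComplete (maximalIdeal (EGA4.Cpl B)) (EGA4.Cpl B) := by
    rw [AdicCompletion.maximalIdeal_eq_map]
    exact AdicCompletion.isAdicComplete_self _ (IsNoetherian.noetherian _)
  obtain ⟨ψ, hψ⟩ := exists_completion_lift (maximalIdeal A) (maximalIdeal (EGA4.Cpl B))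
    ((algebraMap B (EGA4.Cpl B)).comp (algebraMap A B)) (by
      rw [← Ideal.map_map, AdicCompletion.maximalIdeal_eq_map]
      exact Ideal.map_mono (map_maximalIdeal_le _))
  have hflat := (H02CA.flat_completion_iff (algebraMap A B) ψ hψ).mpr (RingHom.flat_algebraMap_iff.mpr inferInstance)
  haveI := H02CA.isLocalHom_completion (algebraMap A B) ψ hψ
  letI : Algebra (EGA4.Cpl A) (EGA4.Cpl B) := ψ.toAlgebra
  haveI : Module.Flat (EGA4.Cpl A) (EGA4.Cpl B) := hflat
  haveI : IsLocalHom (algebraMap (EGA4.Cpl A) (EGA4.Cpl B)) := ‹IsLocalHom ψ›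
  haveI : IsScalarTower A (EGA4.Cpl A) (EGA4.Cpl B) := IsScalarTower.of_algebraMap_eq fun a => by
    rw [IsScalarTower.algebraMap_apply A B (EGA4.Cpl B)]
    exact (RingHom.congr_fun hψ a).symm
  haveI : Module.Finite (ResidueField (EGA4.Cpl A)) (ResidueField (EGA4.Cpl B)) := by
    haveI : Module.Finite A (ResidueField B) := Module.Finite.trans (ResidueField A) (ResidueField B)
    let g : ResidueField B →+* ResidueField (EGA4.Cpl B) := ResidueField.map (algebraMap B (EGA4.Cpl B))
    let gl : ResidueField B →ₗ[A] ResidueField (EGA4.Cpl B) :=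
      { g with
        map_smul' := fun a x => by
          obtain ⟨x, rfl⟩ := residue_surjective x
          show g (a • residue B x) = a • g (residue B x)
          rw [Algebra.smul_def, Algebra.smul_def, map_mul, IsScalarTower.algebraMap_apply A B (ResidueField B),
            IsScalarTower.algebraMap_apply A B (ResidueField (EGA4.Cpl B)), ResidueField.algebraMap_eq,
            IsScalarTower.algebraMap_apply B (EGA4.Cpl B) (ResidueField (EGA4.Cpl B))]
          congr 1 }
    haveI : Module.Finite A (ResidueField (EGA4.Cpl B)) := Module.Finite.of_surjective gl fun y => by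
      obtain ⟨x, hx⟩ := (AdicCompletion.residueField_map_bijective B).2 y
      exact ⟨x, hx⟩
    haveI : Module.Finite (EGA4.Cpl A) (ResidueField (EGA4.Cpl B)) := Module.Finite.of_restrictScalars_finite A _ _
    exact Module.Finite.of_restrictScalars_finite (EGA4.Cpl A) _ _
  have hG : GRSHom r n (EGA4.Cpl A) (EGA4.Cpl B) := by
    refine grsHom_of_complete_of_closed hL fun K _ _ hfin => ?_
    letI : Algebra A K := ((algebraMap (EGA4.Cpl A) K).comp (algebraMap A (EGA4.Cpl A))).toAlgebra
    haveI : IsScalarTower A (EGA4.Cpl A) K := .of_algebraMap_eq fun _ => rfl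
    haveI : Algebra.IsIntegral (EGA4.Cpl A) K := Algebra.IsIntegral.of_finite _ _
    have hker : RingHom.ker (algebraMap (EGA4.Cpl A) K) = maximalIdeal (EGA4.Cpl A) := IsLocalRing.eq_maximalIdeal (by
      rw [RingHom.ker_eq_comap_bot]
      exact Ideal.isMaximal_comap_of_isIntegral_of_isMaximal (⊥ : Ideal K) (hI := Ideal.bot_isMaximal))
    have hdec : ∀ c : EGA4.Cpl A, ∃ a : A, c - algebraMap A (EGA4.Cpl A) a ∈ maximalIdeal (EGA4.Cpl A) := fun c => by
      obtain ⟨x, hx⟩ := (AdicCompletion.residueField_map_bijective A).2 (residue _ c)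
      obtain ⟨a, rfl⟩ := residue_surjective x
      refine ⟨a, ?_⟩
      rw [← residue_eq_zero_iff, map_sub, sub_eq_zero, ← hx]
      rfl
    haveI : Module.Finite A K := by
      obtain ⟨S, hS⟩ := hfin.fg_top
      refine ⟨⟨S, eq_top_iff.mpr fun z _ => ?_⟩⟩
      have hz : z ∈ Submodule.span (EGA4.Cpl A) (S : Set K) := by rw [hS]; trivial
      induction hz using Submodule.span_induction with
      | mem x hx => exact Submodule.subset_span hx
      | zero => exact zero_mem _
      | add x y _ _ hx hy => exact add_mem (hx trivial) (hy trivial)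
      | smul c x _ hx =>
        obtain ⟨a, ha⟩ := hdec c
        have : c • x = a • x := by
          rw [← sub_eq_zero, ← algebraMap_smul (EGA4.Cpl A) a x, ← sub_smul, Algebra.smul_def,
            RingHom.mem_ker.mp (hker.ge ha), zero_mul]
        rw [this]
        exact Submodule.smul_mem _ _ (hx trivial)
    haveI : TensorProduct.CompatibleSMul A (EGA4.Cpl A) K (EGA4.Cpl B) := ⟨fun c m x => by
      obtain ⟨a, ha⟩ := hdec c
      have h0 : ∀ s ∈ maximalIdeal (EGA4.Cpl A), (s • m) ⊗ₜ[A] x = 0 ∧ m ⊗ₜ[A] (s • x) = 0 := by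
        intro s hs
        refine ⟨by rw [Algebra.smul_def, RingHom.mem_ker.mp (hker.ge hs), zero_mul, TensorProduct.zero_tmul], ?_⟩
        rw [AdicCompletion.maximalIdeal_eq_map] at hs
        induction hs using Submodule.span_induction generalizing x with
        | mem y hy =>
          obtain ⟨b, hb, rfl⟩ := hy
          rw [algebraMap_smul, ← TensorProduct.smul_tmul, Algebra.smul_def, IsScalarTower.algebraMap_apply A (EGA4.Cpl A) K,
            RingHom.mem_ker.mp (hker.ge (?_ : algebraMap A (EGA4.Cpl A) b ∈ _)), zero_mul, TensorProduct.zero_tmul]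
          rw [AdicCompletion.maximalIdeal_eq_map]
          exact Ideal.mem_map_of_mem _ hb
        | zero => rw [zero_smul, TensorProduct.tmul_zero]
        | add y z _ _ hy hz => rw [add_smul, TensorProduct.tmul_add, hy, hz, add_zero]
        | smul y z _ hz => rw [smul_eq_mul, mul_comm, mul_smul]; exact hz _
      obtain ⟨h1, h2⟩ := h0 _ ha
      rw [sub_smul, TensorProduct.sub_tmul, sub_eq_zero, algebraMap_smul] at h1
      rw [sub_smul, TensorProduct.tmul_sub, sub_eq_zero, algebraMap_smul] at h2
      rw [h1, h2, TensorProduct.smul_tmul]⟩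
    let e := Algebra.TensorProduct.equivOfCompatibleSMul A (EGA4.Cpl A) A K (EGA4.Cpl B)
    haveI : IsNoetherianRing (K ⊗[A] EGA4.Cpl B) := H02CA.isNoetherianRing_tensor_of_essFiniteType _ _ _
    exact (rs_tensor_of_grs_closed_fibre h K inferInstance).of_ringEquiv e.toRingEquiv.symm
  exact (hA.comp hG).of_comp_faithfullyFlat

end Groth.Agent.H05EGA4
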