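import Groth.Agent.H05EGA4.CKLift
import Groth.Agent.H05EGA4.CTensorSerre
import Groth.Agent.H05EGA4.CKGeom
import Groth.Agent.H05EGA4.FieldSmooth
import Groth.Agent.H05EGA4.FSBaseChange
import Groth.Agent.H05EGA4.Regular2

/-! Completed differentials at a prime, bounded through a perfect base extension. -/

set_option autoImplicit false
set_option linter.style.haveILetI false
set_option maxHeartbeats 2000000
set_option synthInstance.maxHeartbeats 200000

universe u

open IsLocalRing TensorProduct Groth.Agent

namespace Groth.Agent.H05EGA4.CKUpper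

variable (k A : Type u) [Field k] [CommRing A] [IsLocalRing A] [IsNoetherianRing A] [Algebra k A]
  [IsAdicComplete (maximalIdeal A) A] [Module.Finite k (ResidueField A)]
  (k' : Type u) [Field k'] [Algebra k k'] [IsAdicComplete (maximalIdeal k') k']

omit [IsAdicComplete (maximalIdeal A) A] in
/-- The universal derivation of `A` extends to the completed base change. -/
theorem exists_derivation (B : Type u) [CommRing B] [IsLocalRing B] [IsNoetherianRing B]
    [IsAdicComplete (maximalIdeal B) B] [Algebra A B] [Algebra (EGA4.CTensor k A k') B]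
    [IsScalarTower A (EGA4.CTensor k A k') B] (M : Ideal (EGA4.CTensor k A k')) [M.IsMaximal]
    [IsLocalization.AtPrime B M] (hM : (maximalIdeal A).map (algebraMap A (EGA4.CTensor k A k')) ≤ M)
    [Algebra k' B] (halg : ∀ c, algebraMap k' B c =
      algebraMap (EGA4.CTensor k A k') B (algebraMap (A ⊗[k] k') _ ((1 : A) ⊗ₜ c)))
    (N : Type u) [AddCommGroup N] [Module A N] [Module k N] [IsScalarTower k A N] [Module.Finite A N]
    (D : Derivation k A N) :
    ∃ δ : Derivation k' B (B ⊗[A] N), ∀ a, δ (algebraMap A B a) = 1 ⊗ₜ D a := by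
  let R := A ⊗[k] k'
  let C := EGA4.CTensor k A k'
  let I := EGA4.cTensorIdeal k A k'
  letI : Algebra k B := ((algebraMap A B).comp (algebraMap k A)).toAlgebra
  haveI : IsScalarTower k A B := IsScalarTower.of_algebraMap_eq fun _ => rfl
  haveI : Module.Finite B (B ⊗[A] N) := inferInstance
  haveI : Module.Finite B (TrivSqZeroExt B (B ⊗[A] N)) := (inferInstance : Module.Finite B (B × (B ⊗[A] N)))
  haveI : IsNoetherianRing (TrivSqZeroExt B (B ⊗[A] N)) := IsNoetherianRing.of_finite B (TrivSqZeroExt B (B ⊗[A] N))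
  let W : Ideal (TrivSqZeroExt B (B ⊗[A] N)) := (maximalIdeal B).map (algebraMap B (TrivSqZeroExt B (B ⊗[A] N)))
  haveI : IsAdicComplete W (TrivSqZeroExt B (B ⊗[A] N)) := (IsAdicComplete.map_algebraMap_iff (R := B) (S := (TrivSqZeroExt B (B ⊗[A] N))) (M := (TrivSqZeroExt B (B ⊗[A] N))) (maximalIdeal B)).mpr
    (H24Adic.isAdicComplete_of_finite _)
  let fst : (TrivSqZeroExt B (B ⊗[A] N)) →ₐ[B] B := TrivSqZeroExt.fstHom B B (B ⊗[A] N)
  let V : Ideal (TrivSqZeroExt B (B ⊗[A] N)) := (maximalIdeal B).comap fst.toRingHom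
  have hsplit : ∀ v : (TrivSqZeroExt B (B ⊗[A] N)), v = algebraMap B (TrivSqZeroExt B (B ⊗[A] N)) v.fst + TrivSqZeroExt.inr v.snd := fun v =>
    (TrivSqZeroExt.inl_fst_add_inr_snd_eq v).symm
  have hWV : W ≤ V := Ideal.map_le_iff_le_comap.2 fun b hb => by
    show fst (algebraMap B (TrivSqZeroExt B (B ⊗[A] N)) b) ∈ maximalIdeal B
    rwa [AlgHom.commutes]
  have hV2 : V ^ 2 ≤ W := by
    rw [pow_two, Ideal.mul_le]
    intro v hv w hw
    rw [hsplit v, hsplit w, add_mul, mul_add, mul_add]
    refine add_mem (add_mem (Ideal.mul_mem_right _ _ (Ideal.mem_map_of_mem _ hv))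
      (Ideal.mul_mem_right _ _ (Ideal.mem_map_of_mem _ hv))) (add_mem (Ideal.mul_mem_left _ _ (Ideal.mem_map_of_mem _ hw)) ?_)
    rw [TrivSqZeroExt.inr_mul_inr]
    exact zero_mem _
  haveI : IsAdicComplete V (TrivSqZeroExt B (B ⊗[A] N)) := H24Adic.isAdicComplete_of_pow_le (I := W) (a := 2) (b := 1) hV2
    (by rwa [pow_one]) (TrivSqZeroExt B (B ⊗[A] N))
  let jA : A →ₐ[k] (TrivSqZeroExt B (B ⊗[A] N)) :=
    { toFun := fun a => TrivSqZeroExt.inl (algebraMap A B a) + TrivSqZeroExt.inr ((1 : B) ⊗ₜ D a)
      map_one' := by simp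
      map_mul' := fun a b => TrivSqZeroExt.ext (by simp) (by
        simp only [TrivSqZeroExt.snd_add, TrivSqZeroExt.snd_inl, TrivSqZeroExt.snd_inr, zero_add,
          TrivSqZeroExt.snd_mul, TrivSqZeroExt.fst_add, TrivSqZeroExt.fst_inl, TrivSqZeroExt.fst_inr, add_zero,
          Derivation.leibniz, TensorProduct.tmul_add, TensorProduct.tmul_smul, algebraMap_smul, op_smul_eq_smul])
      map_zero' := by simp
      map_add' := fun a b => TrivSqZeroExt.ext (by simp) (by simp [TensorProduct.tmul_add])
      commutes' := fun c => TrivSqZeroExt.ext (by simp; rfl) (by simp [Derivation.map_algebraMap]; rfl) }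
  let jk : k' →ₐ[k] (TrivSqZeroExt B (B ⊗[A] N)) :=
    { (algebraMap B (TrivSqZeroExt B (B ⊗[A] N))).comp (algebraMap k' B) with
      commutes' := fun c => by
        show algebraMap B (TrivSqZeroExt B (B ⊗[A] N)) (algebraMap k' B (algebraMap k k' c)) = algebraMap B (TrivSqZeroExt B (B ⊗[A] N)) (algebraMap k B c)
        congr 1
        rw [halg]
        show _ = algebraMap A B (algebraMap k A c)
        rw [IsScalarTower.algebraMap_apply A C B, IsScalarTower.algebraMap_apply A R C]
        congr 2
        show ((1 : A) ⊗ₜ[k] algebraMap k k' c) = algebraMap k A c ⊗ₜ[k] (1 : k')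
        rw [Algebra.algebraMap_eq_smul_one, Algebra.algebraMap_eq_smul_one, TensorProduct.smul_tmul] }
  let φ : R →ₐ[k] (TrivSqZeroExt B (B ⊗[A] N)) := Algebra.TensorProduct.lift jA jk fun _ _ => Commute.all _ _
  have hfst : ∀ r, fst (φ r) = algebraMap C B (algebraMap R C r) := fun r => by
    induction r using TensorProduct.induction_on with
    | zero => simp
    | add x y hx hy => simp only [map_add, hx, hy]
    | tmul a c =>
      rw [Algebra.TensorProduct.lift_tmul, map_mul]
      show (TrivSqZeroExt.inl (algebraMap A B a) + TrivSqZeroExt.inr ((1 : B) ⊗ₜ D a) : (TrivSqZeroExt B (B ⊗[A] N))).fst *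
        fst (algebraMap B (TrivSqZeroExt B (B ⊗[A] N)) (algebraMap k' B c)) = _
      rw [AlgHom.commutes, halg, TrivSqZeroExt.fst_add, TrivSqZeroExt.fst_inl, TrivSqZeroExt.fst_inr, add_zero,
        IsScalarTower.algebraMap_apply A C B, IsScalarTower.algebraMap_apply A R C, Algebra.algebraMap_self,
        RingHom.id_apply, ← map_mul, ← map_mul]
      congr 2
      show (a ⊗ₜ[k] (1 : k')) * ((1 : A) ⊗ₜ[k] c) = _
      rw [Algebra.TensorProduct.tmul_mul_tmul, mul_one, one_mul]
  have hIM : I.map ((algebraMap C B).comp (algebraMap R C)) ≤ maximalIdeal B := by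
    rw [← Ideal.map_map, Ideal.map_le_iff_le_comap]
    show I.map (algebraMap R C) ≤ (maximalIdeal B).under C
    rw [IsLocalization.AtPrime.comap_maximalIdeal B M]
    refine le_trans (le_of_eq ?_) hM
    rw [CT.map_maximalIdeal]
    congr 1
    show EGA4.cTensorIdeal k A k' = _
    rw [EGA4.cTensorIdeal, maximalIdeal_eq_bot, Ideal.map_bot, sup_bot_eq]
    rfl
  have hIV : I.map φ.toRingHom ≤ V := by
    rw [Ideal.map_le_iff_le_comap]
    intro r hr
    show fst (φ r) ∈ maximalIdeal B
    rw [hfst]
    exact hIM (Ideal.mem_map_of_mem _ hr)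
  obtain ⟨Φ, hΦ⟩ := CKLift.exists_lift I V φ.toRingHom hIV
  have hfstC : ∀ c, fst (Φ c) = algebraMap C B c := by
    have h : fst.toRingHom.comp Φ = algebraMap C B := by
      refine CKLift.hom_ext I (CT.fg k A k') (maximalIdeal B) _ _ (fun x => (congrArg fst (hΦ x)).trans (hfst x)) ?_
      rw [RingHom.comp_assoc, show Φ.comp (algebraMap R C) = φ.toRingHom from RingHom.ext hΦ,
        show fst.toRingHom.comp φ.toRingHom = (algebraMap C B).comp (algebraMap R C) from RingHom.ext hfst]
      exact hIM
    exact RingHom.congr_fun h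
  have hu : ∀ y : M.primeCompl, IsUnit (Φ y) := fun y => by
    rw [TrivSqZeroExt.isUnit_iff_isUnit_fst]
    rw [show (Φ y).fst = algebraMap C B y from hfstC y]
    exact IsLocalization.map_units B y
  let Θ : B →+* (TrivSqZeroExt B (B ⊗[A] N)) := IsLocalization.lift hu
  have hΘC : ∀ c, Θ (algebraMap C B c) = Φ c := IsLocalization.lift_eq hu
  have hfstB : ∀ b, (Θ b).fst = b := by
    have h : fst.toRingHom.comp Θ = RingHom.id B := IsLocalization.ringHom_ext M.primeCompl
      (RingHom.ext fun c => (congrArg fst (hΘC c)).trans (hfstC c))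
    exact RingHom.congr_fun h
  have hk : ∀ c, Θ (algebraMap k' B c) = algebraMap B (TrivSqZeroExt B (B ⊗[A] N)) (algebraMap k' B c) := fun c => by
    conv_lhs => rw [halg, hΘC, hΦ]
    show φ ((1 : A) ⊗ₜ c) = _
    rw [Algebra.TensorProduct.lift_tmul, map_one, one_mul]
    rfl
  refine ⟨Derivation.mk'
    { toFun := fun b => (Θ b).snd
      map_add' := fun a b => by rw [map_add, TrivSqZeroExt.snd_add]
      map_smul' := fun c b => by
        rw [RingHom.id_apply, Algebra.smul_def, map_mul, hk, TrivSqZeroExt.snd_mul, hfstB]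
        show algebraMap k' B c • (Θ b).snd + MulOpposite.op b • (0 : (B ⊗[A] N)) = _
        rw [smul_zero, add_zero, algebraMap_smul] }
    fun a b => by
      show (Θ (a * b)).snd = a • (Θ b).snd + b • (Θ a).snd
      rw [map_mul, TrivSqZeroExt.snd_mul, hfstB, hfstB, op_smul_eq_smul], fun a => ?_⟩
  show (Θ (algebraMap A B a)).snd = _
  rw [IsScalarTower.algebraMap_apply A C B, hΘC, IsScalarTower.algebraMap_apply A R C, hΦ]
  show (φ (a ⊗ₜ (1 : k'))).snd = _
  rw [Algebra.TensorProduct.lift_tmul, map_one, mul_one]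
  simp [jA]

/-- Regularity over a perfect field bounds the completed differentials. -/
theorem finrank_le [PerfectField k'] (p : Ideal A) [p.IsPrime] (n : ℕ)
    (hn : ∀ q ∈ minimalPrimes A, q ≤ p → ringKrullDim (A ⧸ q) ≤ n)
    (p' : Ideal (EGA4.CTensor k A k')) [p'.IsPrime] (hp' : p'.comap (algebraMap A (EGA4.CTensor k A k')) = p)
    [IsRegularLocalRing (Localization.AtPrime p')] :
    Module.finrank p.ResidueField (p.ResidueField ⊗[A] AdicCompletion (maximalIdeal A) (Ω[A⁄k])) ≤ n := by
  classical
  let R := A ⊗[k] k'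
  let C := EGA4.CTensor k A k'
  haveI : IsNoetherianRing C := CT.isNoetherianRing_cTensor k A k'
  haveI : Module.Flat A C := CT.flat_left k A k'
  obtain ⟨M, hMmax, hp'M⟩ := Ideal.exists_le_maximal p' (Ideal.IsPrime.ne_top ‹_›)
  haveI := hMmax
  have hM : (maximalIdeal A).map (algebraMap A C) ≤ M := (CT.map_le_jacobson k A k').trans (sInf_le ⟨bot_le, hMmax⟩)
  let B := Localization.AtPrime M
  haveI : IsAdicComplete (maximalIdeal B) B := CT.isAdicComplete_atMaximal k A k' M
  haveI : IsNoetherianRing B := IsLocalization.isNoetherianRing M.primeCompl B inferInstance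
  letI : Algebra k' B :=
    (((algebraMap C B).comp (algebraMap R C)).comp (Algebra.TensorProduct.includeRight : k' →ₐ[k] R).toRingHom).toAlgebra
  haveI : Module.Finite k' (ResidueField B) := by
    letI : Algebra k' R := Algebra.TensorProduct.rightAlgebra
    haveI := CT.finite_quotient k A k' M fun _ => rfl
    let e : (C ⧸ M) →+* ResidueField B := algebraMap (C ⧸ M) M.ResidueField
    have h1 : (algebraMap k' (ResidueField B)) = e.comp (algebraMap k' (C ⧸ M)) := RingHom.ext fun c => rfl
    refine RingHom.finite_algebraMap.1 ?_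
    rw [h1]
    exact (RingHom.Finite.of_surjective e M.bijective_algebraMap_quotient_residueField.2).comp
      (RingHom.finite_algebraMap.2 inferInstance)
  let M0 := AdicCompletion (maximalIdeal A) (Ω[A⁄k])
  haveI : Module.Finite A M0 := (CKBase.finite_and_surjective k A).1
  let D : Derivation k A M0 := ((AdicCompletion.of (maximalIdeal A) (Ω[A⁄k])).compDer (KaehlerDifferential.D k A))
  obtain ⟨δ, hδ⟩ := exists_derivation k A k' B M hM (fun _ => rfl) M0 D
  haveI : IsScalarTower k' B (B ⊗[A] M0) := inferInstance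
  obtain ⟨f, hf⟩ := CKBase.exists_lift_completion δ
  have hfs : Function.Surjective f := by
    rw [← LinearMap.range_eq_top, eq_top_iff]
    intro z hz
    clear hz
    induction z using TensorProduct.induction_on with
    | zero => exact zero_mem _
    | add x y hx hy => exact add_mem hx hy
    | tmul b m =>
      rw [show b ⊗ₜ[A] m = b • ((1 : B) ⊗ₜ[A] m) by rw [TensorProduct.smul_tmul', smul_eq_mul, mul_one]]
      refine Submodule.smul_mem _ b ?_
      obtain ⟨ω, rfl⟩ := (CKBase.finite_and_surjective k A).2 m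
      have hω : ω ∈ Submodule.span A (Set.range (KaehlerDifferential.D k A)) :=
        KaehlerDifferential.span_range_derivation k A ▸ trivial
      induction hω using Submodule.span_induction with
      | mem x hx =>
        obtain ⟨a, rfl⟩ := hx
        exact ⟨_, (hf (algebraMap A B a)).trans (hδ a)⟩
      | zero => simp
      | add x y _ _ hx hy => rw [map_add, TensorProduct.tmul_add]; exact add_mem hx hy
      | smul a x _ hx =>
        rw [map_smul, TensorProduct.tmul_smul, ← algebraMap_smul B a ((1 : B) ⊗ₜ[A] _)]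
        exact Submodule.smul_mem _ _ hx
  -- the prime in `B`
  let P := p'.map (algebraMap C B)
  have hdisj : Disjoint (M.primeCompl : Set C) (p' : Set C) := Set.disjoint_left.2 fun x hx h => hx (hp'M h)
  haveI : P.IsPrime := IsLocalization.isPrime_of_isPrime_disjoint M.primeCompl B p' inferInstance hdisj
  have hPc : P.comap (algebraMap C B) = p' := IsLocalization.comap_map_of_isPrime_disjoint M.primeCompl B inferInstance hdisj
  haveI : IsRegularLocalRing (Localization.AtPrime P) := by
    haveI := IsLocalization.isLocalization_isLocalization_atPrime_isLocalization M.primeCompl (Localization.AtPrime P) P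
    haveI : IsLocalization.AtPrime (Localization.AtPrime P) p' := by
      have h : (P.comap (algebraMap C B)).primeCompl = p'.primeCompl := by ext x; show x ∉ P.comap (algebraMap C B) ↔ x ∉ p'; rw [hPc]
      rw [IsLocalization.AtPrime, ← h]
      exact this
    exact IsRegularLocalRing.of_ringEquiv (R := Localization.AtPrime p')
      (IsLocalization.algEquiv p'.primeCompl (Localization.AtPrime p') (Localization.AtPrime P)).toRingEquiv
  have hgeo : CAlg.IsGeometricallyRegular k' (Localization.AtPrime P) :=
    isGeometricallyRegular_of_isAdicFormallySmooth (isAdicFormallySmooth_of_perfectField k' _)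
  obtain ⟨q, hq, hqP⟩ := Ideal.exists_minimalPrimes_le (I := (⊥ : Ideal B)) (J := P) bot_le
  haveI := hq.isPrime
  have hdim : ringKrullDim (B ⧸ q) ≤ n := by
    haveI : Module.Flat A B := Module.Flat.trans A C B
    let q0 := q.comap (algebraMap A B)
    have hq0p : q0 ≤ p := by
      rw [← hp', show q0 = (q.comap (algebraMap C B)).comap (algebraMap A C) from by
        rw [Ideal.comap_comap, ← IsScalarTower.algebraMap_eq], ← hPc]
      exact Ideal.comap_mono (Ideal.comap_mono hqP)
    obtain ⟨q1, hq1, hq1le⟩ := Ideal.exists_minimalPrimes_le (I := (⊥ : Ideal A)) (J := q0) bot_le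
    haveI := hq1.isPrime
    haveI : q.LiesOver q0 := ⟨rfl⟩
    obtain ⟨Q, hQle, hQp, hQ⟩ := Ideal.exists_ideal_le_liesOver_of_le (p := q1) (q := q0) q hq1le
    have hQq : Q = q := le_antisymm hQle (hq.2 ⟨hQp, bot_le⟩ hQle)
    have hq01 : q0 = q1 := by
      rw [show q1 = Q.comap (algebraMap A B) from hQ.over, hQq]
    have hn' := hn q1 hq1 (hq1le.trans hq0p)
    rw [← hq01] at hn'
    refine le_trans ?_ hn'
    let A0 := A ⧸ q0
    let B0 := B ⧸ q
    haveI : IsLocalRing A0 := .of_surjective' _ Ideal.Quotient.mk_surjective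
    haveI : IsLocalRing B0 := .of_surjective' _ Ideal.Quotient.mk_surjective
    haveI : IsNoetherianRing B0 := inferInstance
    rw [← IsLocalRing.maximalIdeal_height_eq_ringKrullDim (R := A0), ← IsLocalRing.maximalIdeal_height_eq_ringKrullDim (R := B0)]
    haveI : (maximalIdeal B0).LiesOver (maximalIdeal A0) := by
      haveI : (maximalIdeal B0).comap (algebraMap A0 B0) |>.IsPrime := inferInstance
      refine ⟨((maximalIdeal.isMaximal A0).eq_of_le (Ideal.comap_ne_top _ (Ideal.IsPrime.ne_top inferInstance)) ?_)⟩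
      intro x hx
      obtain ⟨x, rfl⟩ := Ideal.Quotient.mk_surjective x
      have hx' : x ∈ maximalIdeal A := by
        by_contra h
        exact hx ((IsLocalRing.notMem_maximalIdeal.1 h).map _)
      show Ideal.Quotient.mk q (algebraMap A B x) ∈ maximalIdeal B0
      rw [← IsLocalRing.map_maximalIdeal_of_surjective (Ideal.Quotient.mk q) Ideal.Quotient.mk_surjective]
      refine Ideal.mem_map_of_mem _ ?_
      rw [IsScalarTower.algebraMap_apply A C B, IsLocalization.AtPrime.to_map_mem_maximal_iff B M]
      exact hM (Ideal.mem_map_of_mem _ hx')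
    refine WithBot.coe_le_coe.2 ((Ideal.height_le_height_add_of_liesOver (maximalIdeal A0) (maximalIdeal B0)).trans (le_of_eq ?_))
    suffices h0 : ((maximalIdeal B0).map (Ideal.Quotient.mk ((maximalIdeal A0).map (algebraMap A0 B0)))).height = 0 by rw [h0, add_zero]
    let J := (maximalIdeal A0).map (algebraMap A0 B0)
    have hJle : J ≤ maximalIdeal B0 := Ideal.map_le_iff_le_comap.2 (Ideal.LiesOver.over (p := maximalIdeal A0) (P := maximalIdeal B0)).le
    haveI : ((maximalIdeal B0).map (Ideal.Quotient.mk J)).IsPrime :=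
      Ideal.map_isPrime_of_surjective Ideal.Quotient.mk_surjective (by rwa [Ideal.mk_ker])
    rw [Ideal.height_eq_zero_iff]
    refine ⟨⟨inferInstance, bot_le⟩, fun Q hQ hQle => ?_⟩
    haveI := hQ.1
    -- every prime over the maximal ideal of `A` is maximal
    let Q' := ((Q.comap (Ideal.Quotient.mk J)).comap (Ideal.Quotient.mk q)).comap (algebraMap C B)
    have hI : EGA4.cTensorIdeal k A k' = CT.P k A k' := by
      rw [EGA4.cTensorIdeal, maximalIdeal_eq_bot, Ideal.map_bot, sup_bot_eq]; rfl
    have hQ' : (EGA4.cTensorIdeal k A k').map (algebraMap R C) ≤ Q' := by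
      refine le_trans (le_of_eq (congrArg (Ideal.map (algebraMap R C)) hI)) ?_
      rw [← CT.map_maximalIdeal, Ideal.map_le_iff_le_comap]
      intro x hx
      show Ideal.Quotient.mk J (Ideal.Quotient.mk q (algebraMap C B (algebraMap A C x))) ∈ Q
      rw [← IsScalarTower.algebraMap_apply A C B]
      have : Ideal.Quotient.mk q (algebraMap A B x) ∈ J := by
        refine Ideal.mem_map_of_mem (algebraMap A0 B0) (x := Ideal.Quotient.mk q0 x) ?_
        intro hu
        haveI : IsLocalHom (Ideal.Quotient.mk q0) := IsLocalHom.of_surjective _ Ideal.Quotient.mk_surjective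
        exact hx (isUnit_of_map_unit (Ideal.Quotient.mk q0) x hu)
      rw [Ideal.Quotient.eq_zero_iff_mem.2 this]
      exact zero_mem _
    have hQ'max := (CT.isMaximal_of_le k A k' Q' hQ').1
    intro z hz
    obtain ⟨z, rfl⟩ := Ideal.Quotient.mk_surjective z
    obtain ⟨w, rfl⟩ := Ideal.Quotient.mk_surjective z
    obtain ⟨⟨c, s⟩, hcs⟩ := IsLocalization.surj M.primeCompl w
    have hw : w ∈ maximalIdeal B := by
      rw [Ideal.mem_quotient_iff_mem hJle, ← IsLocalRing.map_maximalIdeal_of_surjective (Ideal.Quotient.mk q) Ideal.Quotient.mk_surjective,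
        Ideal.mem_quotient_iff_mem (IsLocalRing.le_maximalIdeal (Ideal.IsPrime.ne_top inferInstance))] at hz
      exact hz
    have hQB : (Q.comap (Ideal.Quotient.mk J)).comap (Ideal.Quotient.mk q) = maximalIdeal B := by
      have h1 : Q' = M := hQ'max.eq_of_le hMmax.ne_top (by
        intro c hc
        rw [← IsLocalization.AtPrime.comap_maximalIdeal B M]
        show algebraMap C B c ∈ maximalIdeal B
        have hc' : algebraMap C B c ∈ (Q.comap (Ideal.Quotient.mk J)).comap (Ideal.Quotient.mk q) := hc
        exact IsLocalRing.le_maximalIdeal (Ideal.IsPrime.ne_top inferInstance) hc')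
      refine le_antisymm (IsLocalRing.le_maximalIdeal (Ideal.IsPrime.ne_top inferInstance)) ?_
      rw [← Localization.AtPrime.map_eq_maximalIdeal, Ideal.map_le_iff_le_comap]
      exact h1.ge
    have := hQB.ge hw
    exact this
  haveI : Module.Finite B (AdicCompletion (maximalIdeal B) (Ω[B⁄k'])) := (CKBase.finite_and_surjective k' B).1
  obtain ⟨d, hd⟩ : ∃ d : ℕ, ringKrullDim (B ⧸ q) = d := by
    obtain ⟨s, _, hs, -⟩ := CKRank.exists_derivations_quotient k' B q
    exact ⟨s, hs⟩
  obtain ⟨e, he⟩ := ExpChar.exists k'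
  have hk : e = 1 ∨ Module.Finite (frobenius k' e).fieldRange k' := by
    right
    haveI : PerfectRing k' e := PerfectField.toPerfectRing e
    refine Module.Finite.of_surjective (Algebra.linearMap (frobenius k' e).fieldRange k') fun x => ?_
    obtain ⟨y, hy⟩ := surjective_frobenius k' e x
    exact ⟨⟨x, y, hy⟩, rfl⟩
  obtain ⟨hfree, hrank⟩ := CKGeom.free_of_geometricallyRegular e k' B hk P hgeo q hq hqP d hd
  haveI := hfree
  haveI : Module.Finite (Localization.AtPrime P) (LocalizedModule P.primeCompl (AdicCompletion (maximalIdeal B) (Ω[B⁄k']))) :=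
    Module.Finite.of_isLocalizedModule P.primeCompl (LocalizedModule.mkLinearMap _ _)
  have h1 := CKUnits.finrank_le P (Module.finBasisOfFinrankEq (Localization.AtPrime P) _ hrank) (Module.Basis.span_eq _)
  have hd' : d ≤ n := by
    rw [hd] at hdim
    exact_mod_cast hdim
  refine le_trans ?_ (h1.trans hd')
  -- transport to the prime of `A`
  have hPp : P.comap (algebraMap A B) = p := by
    rw [IsScalarTower.algebraMap_eq A C B, ← Ideal.comap_comap, hPc, hp']
  let K := p.ResidueField
  let K' := P.ResidueField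
  let g : K →+* K' := Ideal.ResidueField.map p P (algebraMap A B) hPp.symm
  letI : Algebra K K' := g.toAlgebra
  haveI : IsScalarTower A K K' := IsScalarTower.of_algebraMap_eq fun a => by
    show _ = g (algebraMap A K a)
    rw [IsScalarTower.algebraMap_apply A B K']
    exact (Ideal.ResidueField.map_algebraMap p P (algebraMap A B) hPp.symm a).symm
  have h2 : Module.finrank K' (K' ⊗[A] M0) = Module.finrank K (K ⊗[A] M0) := by
    rw [← (AlgebraTensorModule.cancelBaseChange A K K' K' M0).finrank_eq, Module.finrank_baseChange]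
  rw [← h2, ← (AlgebraTensorModule.cancelBaseChange A B K' K' M0).finrank_eq]
  exact LinearMap.finrank_le_finrank_of_surjective (f := f.baseChange K') (LinearMap.lTensor_surjective K' hfs)

end Groth.Agent.H05EGA4.CKUpper
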