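import Groth.Agent.H05EGA4.CKChange
import Groth.Agent.H05EGA4.CKUpper
import Groth.Agent.H05EGA4.Equidim

/-! The criterion for freeness of completed differentials at a prime (EGA 0_IV 22.7.3 / IV 18). -/

set_option autoImplicit false
set_option linter.style.haveILetI false
set_option maxHeartbeats 2000000
set_option synthInstance.maxHeartbeats 200000

universe u

open IsLocalRing TensorProduct Groth.Agent

namespace Groth.Agent.H05EGA4.CKCrit

variable (k A : Type u) [Field k] [CommRing A] [IsLocalRing A] [IsNoetherianRing A] [Algebra k A]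
  [IsAdicComplete (maximalIdeal A) A] [Module.Finite k (ResidueField A)]

/-- Free of rank `n` gives the bound on the fibre. -/
theorem bound_of_free (p : Ideal A) [p.IsPrime] (n : ℕ)
    (h : Module.Free (Localization.AtPrime p) (LocalizedModule p.primeCompl (AdicCompletion (maximalIdeal A) (Ω[A⁄k]))) ∧
      Module.finrank (Localization.AtPrime p) (LocalizedModule p.primeCompl (AdicCompletion (maximalIdeal A) (Ω[A⁄k]))) = n) :
    Module.finrank p.ResidueField (p.ResidueField ⊗[A] AdicCompletion (maximalIdeal A) (Ω[A⁄k])) ≤ n := by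
  haveI := (CKBase.finite_and_surjective k A).1
  haveI := h.1
  haveI : Module.Finite (Localization.AtPrime p) (LocalizedModule p.primeCompl (AdicCompletion (maximalIdeal A) (Ω[A⁄k]))) :=
    Module.Finite.of_isLocalizedModule p.primeCompl (LocalizedModule.mkLinearMap _ _)
  exact CKUnits.finrank_le p (Module.finBasisOfFinrankEq (Localization.AtPrime p) _ h.2) (Module.Basis.span_eq _)

omit [IsLocalRing A] [IsNoetherianRing A] [Algebra k A] [IsAdicComplete (maximalIdeal A) A] [Module.Finite k (ResidueField A)] in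
theorem map_kills {C : Type u} [CommRing C] [Algebra A C] (J : Ideal A) (p : Ideal A) [p.IsPrime]
    (hJ : ∀ x ∈ J, algebraMap A (Localization.AtPrime p) x = 0) (p' : Ideal C) [p'.IsPrime]
    (hp' : p'.comap (algebraMap A C) = p) :
    ∀ x ∈ J.map (algebraMap A C), algebraMap C (Localization.AtPrime p') x = 0 := by
  intro x hx
  have h : J.map (algebraMap A C) ≤ RingHom.ker (algebraMap C (Localization.AtPrime p')) :=
    Ideal.map_le_iff_le_comap.2 fun z hz => by
      obtain ⟨s, hs⟩ := (IsLocalization.map_eq_zero_iff p.primeCompl (Localization.AtPrime p) z).1 (hJ z hz)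
      have hs' : algebraMap A C s ∈ p'.primeCompl := fun h => s.2 (hp' ▸ h)
      exact (IsLocalization.map_eq_zero_iff p'.primeCompl (Localization.AtPrime p') _).2
        ⟨⟨_, hs'⟩, by rw [← map_mul, hs, map_zero]⟩
  exact h hx

/-- The criterion. -/
theorem main (p : Ideal A) [p.IsPrime] (hp : p ≠ maximalIdeal A) (n : ℕ)
    (hn₁ : ∀ q ∈ minimalPrimes A, q ≤ p → ringKrullDim (A ⧸ q) ≤ n)
    (hn₂ : ∃ q ∈ minimalPrimes A, q ≤ p ∧ ringKrullDim (A ⧸ q) = n)
    (hr : Module.finrank p.ResidueField (p.ResidueField ⊗[A] AdicCompletion (maximalIdeal A) (Ω[A⁄k])) ≤ n) :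
    (Module.Free (Localization.AtPrime p) (LocalizedModule p.primeCompl (AdicCompletion (maximalIdeal A) (Ω[A⁄k]))) ∧
      Module.finrank (Localization.AtPrime p) (LocalizedModule p.primeCompl (AdicCompletion (maximalIdeal A) (Ω[A⁄k]))) = n) ∧
    CAlg.IsGeometricallyRegular k (Localization.AtPrime p) ∧
    ∀ (k' : Type u) [Field k'] [Algebra k k'] [IsAdicComplete (maximalIdeal k') k']
      (p' : Ideal (EGA4.CTensor k A k')) [p'.IsPrime], p'.comap (algebraMap A (EGA4.CTensor k A k')) = p →
      IsRegularLocalRing (Localization.AtPrime p') := by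
  classical
  haveI := (CKBase.finite_and_surjective k A).1
  let M := AdicCompletion (maximalIdeal A) (Ω[A⁄k])
  let Ap := Localization.AtPrime p
  let J := RingHom.ker (algebraMap A Ap)
  have hJ : ∀ x ∈ J, algebraMap A Ap x = 0 := fun x hx => hx
  have hJp : J ≤ p := CKLift.le_of_forall_eq_zero J p hJ
  let A1 := A ⧸ J
  haveI : Nontrivial A1 := Ideal.Quotient.nontrivial_iff.2 fun h => Ideal.IsPrime.ne_top ‹_› (top_le_iff.1 (h ▸ hJp))
  haveI : IsLocalRing A1 := .of_surjective' _ Ideal.Quotient.mk_surjective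
  haveI : IsAdicComplete (maximalIdeal A1) A1 := by
    rw [← IsLocalRing.map_maximalIdeal_of_surjective _ (Ideal.Quotient.mk_surjective (I := J))]
    exact H24Adic.isAdicComplete_map_quotient J
  haveI : IsLocalHom (Ideal.Quotient.mk J) := IsLocalHom.of_surjective _ Ideal.Quotient.mk_surjective
  haveI : Module.Finite k (ResidueField A1) :=
    Module.Finite.of_surjective (AlgHom.toLinearMap
      { ResidueField.map (Ideal.Quotient.mk J) with commutes' := fun r => rfl } :
        ResidueField A →ₗ[k] ResidueField A1)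
      (fun z => by
        obtain ⟨z, rfl⟩ := residue_surjective z
        obtain ⟨z, rfl⟩ := Ideal.Quotient.mk_surjective z
        exact ⟨residue A z, rfl⟩)
  let p1 := p.map (Ideal.Quotient.mk J)
  haveI : p1.IsPrime := Ideal.map_isPrime_of_surjective Ideal.Quotient.mk_surjective (by rwa [Ideal.mk_ker])
  have hp1c : p1.comap (Ideal.Quotient.mk J) = p := by
    ext x; exact Ideal.mem_quotient_iff_mem hJp
  have hp1 : p1 ≠ maximalIdeal A1 := fun h => hp <| by
    rw [← hp1c, h]
    exact le_antisymm (fun x hx => by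
      by_contra hu
      exact hx ((IsLocalRing.notMem_maximalIdeal.1 hu).map _)) (fun x hx => map_nonunit (Ideal.Quotient.mk J) x hx)
  obtain ⟨q, hqm, hqp, hqd⟩ := hn₂
  haveI := hqm.1.1
  have hJq : J ≤ q := fun x hx => by
    obtain ⟨s, hs⟩ := (IsLocalization.map_eq_zero_iff p.primeCompl Ap x).1 hx
    refine (‹q.IsPrime›.mem_or_mem (x := (s : A)) (y := x) (hs ▸ zero_mem _)).resolve_left fun h => s.2 (hqp h)
  have hdimA1 : ringKrullDim A1 = n := by
    refine le_antisymm (ringKrullDim_quotient_le_of_minimalPrimes J fun P hP => ?_) ?_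
    · haveI := hP.isPrime
      have hPp : P ≤ p := by
        obtain ⟨P', hP', hPP'⟩ := Ideal.exists_minimalPrimes_comap_eq (I := (⊥ : Ideal Ap)) (algebraMap A Ap) P hP
        haveI := hP'.isPrime
        rw [← hPP']
        exact fun x hx => by
          by_contra hxp
          exact Ideal.IsPrime.ne_top ‹P'.IsPrime› (Ideal.eq_top_of_isUnit_mem _ hx (IsLocalization.map_units Ap (⟨x, hxp⟩ : p.primeCompl)))
      obtain ⟨q0, hq0, hq0P⟩ := Ideal.exists_minimalPrimes_le (I := (⊥ : Ideal A)) (J := P) bot_le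
      exact (ringKrullDim_le_of_surjective (Ideal.Quotient.factor hq0P) (Ideal.Quotient.factor_surjective _)).trans
        (hn₁ q0 hq0 (hq0P.trans hPp))
    · rw [← hqd]
      exact ringKrullDim_le_of_surjective (Ideal.Quotient.factor hJq) (Ideal.Quotient.factor_surjective _)
  let q1 := q.map (Ideal.Quotient.mk J)
  haveI : q1.IsPrime := Ideal.map_isPrime_of_surjective Ideal.Quotient.mk_surjective (by rwa [Ideal.mk_ker])
  have hq1d : ringKrullDim (A1 ⧸ q1) = n := by
    rw [← hqd]
    exact ringKrullDim_eq_of_ringEquiv ((DoubleQuot.quotQuotEquivQuotSup J q).trans (Ideal.quotEquivOfEq (sup_eq_right.2 hJq)))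
  -- the map to the differentials of the quotient
  let M1 := AdicCompletion (maximalIdeal A1) (Ω[A1⁄k])
  haveI := (CKBase.finite_and_surjective k A1).1
  haveI : Module.Finite A M1 := Module.Finite.trans A1 M1
  obtain ⟨g, hg⟩ := CKBase.exists_lift_completion (k := k) (A := A) (M := M1)
    (Derivation.mk' ((((AdicCompletion.of (maximalIdeal A1) (Ω[A1⁄k])).compDer (KaehlerDifferential.D k A1)).toLinearMap).comp
      (Ideal.Quotient.mkₐ k J).toLinearMap) fun a b => by
        show ((AdicCompletion.of (maximalIdeal A1) (Ω[A1⁄k])).compDer (KaehlerDifferential.D k A1)) (Ideal.Quotient.mk J (a * b)) = _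
        rw [map_mul, Derivation.leibniz]
        rfl)
  have hgs : Function.Surjective g := by
    rw [← LinearMap.range_eq_top, eq_top_iff]
    intro z hz
    clear hz
    obtain ⟨ω, rfl⟩ := (CKBase.finite_and_surjective k A1).2 z
    have hω : ω ∈ Submodule.span A1 (Set.range (KaehlerDifferential.D k A1)) :=
      KaehlerDifferential.span_range_derivation k A1 ▸ trivial
    induction hω using Submodule.span_induction with
    | mem x hx =>
      obtain ⟨a, rfl⟩ := hx
      obtain ⟨a, rfl⟩ := Ideal.Quotient.mk_surjective a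
      exact ⟨_, hg a⟩
    | zero => rw [map_zero]; exact zero_mem _
    | add x y _ _ hx hy => rw [map_add]; exact add_mem hx hy
    | smul a x _ hx =>
      obtain ⟨a, rfl⟩ := Ideal.Quotient.mk_surjective a
      rw [map_smul]
      exact Submodule.smul_mem _ a hx
  obtain ⟨m0, hm0⟩ := CKRank.exists_generators (M := M) p
  let n' := Module.finrank p.ResidueField (p.ResidueField ⊗[A] M)
  have hspan : ∀ x : M, ∃ t, t ∉ p ∧ t • x ∈ Submodule.span A (Set.range m0) := fun x => by
    obtain ⟨t, ht, htx⟩ := CKRank.exists_smul_mem_span p m0 hm0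
    exact ⟨t, ht, htx x⟩
  have hr1 : Module.finrank p1.ResidueField (p1.ResidueField ⊗[A1] M1) ≤ n := by
    have h := CKRank.span_tmul_eq_top p1 (fun i => g (m0 i)) fun y => by
      obtain ⟨x, rfl⟩ := hgs y
      obtain ⟨t, ht, htx⟩ := hspan x
      refine ⟨Ideal.Quotient.mk J t, fun h => ht (hp1c ▸ h), ?_⟩
      have h1 := Submodule.mem_map_of_mem (f := g) htx
      rw [Submodule.map_span, ← Set.range_comp, map_smul] at h1
      exact Submodule.span_le_restrictScalars A A1 _ h1
    have := finrank_range_le_card (R := p1.ResidueField) fun i => (1 : p1.ResidueField) ⊗ₜ[A1] g (m0 i)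
    rw [Set.finrank, h, finrank_top, Fintype.card_fin] at this
    exact this.trans hr
  obtain ⟨iA, iT, iloc, ifin, iet⟩ := CKEtale2.exists_etale (k := k) p1 q1 hp1 (Ideal.map_mono hqp) hdimA1 hq1d hr1
  haveI := iloc
  haveI := ifin
  haveI := iet
  obtain ⟨e, he⟩ := CKLift.nonempty_equiv J p hJ
  refine ⟨?_, ?_, fun k' _ _ _ p' _ hp' =>
    CKChange.isRegular_baseChange k A J n k' p' (map_kills A J p hJ p' hp') p1 (hp1c.trans hp'.symm)⟩
  · choose τ φ hφ using fun j => CKFree.exists_functional (k := k) (n := n) p1 j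
    have hu : ∀ x : p.primeCompl, IsUnit (algebraMap A (Module.End A Ap) x) :=
      IsLocalizedModule.map_units (Algebra.linearMap A Ap)
    let Φ : Fin n → (M →ₗ[A] Ap) := fun j =>
      { toFun := fun x => e (φ j (g x))
        map_add' := fun x y => by rw [map_add, map_add, map_add]
        map_smul' := fun a x => by
          rw [RingHom.id_apply, map_smul, show a • g x = Ideal.Quotient.mk J a • g x from rfl, map_smul,
            Algebra.smul_def, map_mul, he, Algebra.smul_def] }
    choose ξ hξ using fun i : Fin n => Ideal.Quotient.mk_surjective (I := J) (algebraMap (MvPowerSeries (Fin n) k) A1 (MvPowerSeries.X i))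
    choose τ' hτ' using fun j : Fin n => Ideal.Quotient.mk_surjective (I := J) (τ j : A1)
    have hτp : ∀ j, τ' j ∉ p := fun j h => (τ j).2 (by rw [← hτ']; exact Ideal.mem_map_of_mem _ h)
    let f := LocalizedModule.mkLinearMap p.primeCompl M
    let Ψ : LocalizedModule p.primeCompl M →ₗ[Ap] (Fin n → Ap) := LinearMap.pi fun j =>
      (IsLocalizedModule.lift p.primeCompl f (Φ j) hu).extendScalarsOfIsLocalization p.primeCompl Ap
    let mm : Fin n → M := fun i => AdicCompletion.of (maximalIdeal A) (Ω[A⁄k]) (KaehlerDifferential.D k A (ξ i))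
    have hΦ : ∀ i j, Φ j (mm i) = algebraMap A Ap (τ' j) * (if i = j then 1 else 0) := fun i j => by
      show e (φ j (g (mm i))) = _
      rw [hg]
      show e (φ j (AdicCompletion.of _ _ (KaehlerDifferential.D k A1 (Ideal.Quotient.mk J (ξ i))))) = _
      rw [hξ, hφ, map_mul, ← hτ', he]
      split <;> simp <;> rfl
    have hΨ : Function.Surjective Ψ := by
      rw [← LinearMap.range_eq_top, eq_top_iff, ← (Pi.basisFun Ap (Fin n)).span_eq, Submodule.span_le]
      rintro _ ⟨i, rfl⟩
      obtain ⟨w, hw⟩ := IsLocalization.map_units Ap (⟨τ' i, hτp i⟩ : p.primeCompl)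
      refine ⟨(↑w⁻¹ : Ap) • f (mm i), funext fun j => ?_⟩
      rw [map_smul, Pi.smul_apply, Pi.basisFun_apply]
      show (↑w⁻¹ : Ap) • IsLocalizedModule.lift p.primeCompl f (Φ j) hu (f (mm i)) = _
      rw [IsLocalizedModule.lift_apply, hΦ, smul_eq_mul]
      by_cases hij : i = j
      · subst hij
        rw [if_pos rfl, mul_one, Pi.single_eq_same, ← show (w : Ap) = algebraMap A Ap (τ' i) from hw, Units.inv_mul]
      · rw [if_neg hij, mul_zero, mul_zero, Pi.single_eq_of_ne (Ne.symm hij)]
    let mpad : Fin n → M := fun i => if h : (i : ℕ) < n' then m0 ⟨i, h⟩ else 0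
    have hG : Submodule.span Ap (Set.range fun i => f (mpad i)) = ⊤ := by
      refine (CKRank.span_localized_eq_top_iff p mpad).2 fun x => ?_
      obtain ⟨t, ht, htx⟩ := hspan x
      refine ⟨t, ht, Submodule.span_mono ?_ htx⟩
      rintro _ ⟨i, rfl⟩
      exact ⟨⟨i, lt_of_lt_of_le i.2 hr⟩, dif_pos i.2⟩
    let G := Fintype.linearCombination Ap fun i => f (mpad i)
    have hGs : Function.Surjective G := by
      rw [← LinearMap.range_eq_top, Fintype.range_linearCombination, hG]
    have hinj : Function.Injective (Ψ ∘ₗ G) :=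
      OrzechProperty.injective_of_surjective_endomorphism _ (hΨ.comp hGs)
    let eG := LinearEquiv.ofBijective G ⟨fun a b hab => hinj (show Ψ (G a) = Ψ (G b) by rw [hab]), hGs⟩
    exact ⟨Module.Free.of_equiv eG, by rw [← eG.finrank_eq, Module.finrank_fin_fun]⟩
  · intro k' _ _ hfin
    haveI : IsRegularRing (k' ⊗[k] Localization.AtPrime p1) :=
      CKFree.isGeometricallyRegular_of_etale (k := k) (n := n) p1 k' hfin
    let ea : Localization.AtPrime p1 ≃ₐ[k] Ap := AlgEquiv.ofRingEquiv (f := e) fun c => by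
      rw [IsScalarTower.algebraMap_apply k A1 (Localization.AtPrime p1), IsScalarTower.algebraMap_apply k A Ap]
      exact he (algebraMap k A c)
    exact IsRegularRing.of_ringEquiv (R := k' ⊗[k] Localization.AtPrime p1)
      (Algebra.TensorProduct.congr (AlgEquiv.refl : k' ≃ₐ[k] k') ea).toRingEquiv

/-- A prime of the completed base change over a given prime. -/
theorem exists_over (p : Ideal A) [p.IsPrime] (k' : Type u) [Field k'] [Algebra k k']
    [IsAdicComplete (maximalIdeal k') k'] :
    ∃ p' : Ideal (EGA4.CTensor k A k'), p'.IsPrime ∧ p'.comap (algebraMap A (EGA4.CTensor k A k')) = p := by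
  let C := EGA4.CTensor k A k'
  haveI : Module.Flat A C := CT.flat_left k A k'
  obtain ⟨e⟩ := CT.nonempty_fibre_equiv k A k'
  haveI : Nontrivial (ResidueField A ⊗[k] k') :=
    (Algebra.TensorProduct.includeRight_injective (R := k) (A := ResidueField A) (B := k')
      (algebraMap k (ResidueField A)).injective).nontrivial
  haveI : Nontrivial (C ⧸ (maximalIdeal A).map (algebraMap A C)) := e.toEquiv.nontrivial
  obtain ⟨M, hM, hle⟩ := Ideal.exists_le_maximal _ (Ideal.Quotient.nontrivial_iff.1 ‹_›)
  haveI := hM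
  haveI : M.LiesOver (maximalIdeal A) := ⟨(maximalIdeal.isMaximal A).eq_of_le (Ideal.comap_ne_top _ hM.ne_top)
    (Ideal.map_le_iff_le_comap.1 hle)⟩
  obtain ⟨Q, -, hQ, hQp⟩ := Ideal.exists_ideal_le_liesOver_of_le (p := p) (q := maximalIdeal A) M
    (IsLocalRing.le_maximalIdeal (Ideal.IsPrime.ne_top ‹_›))
  exact ⟨Q, hQ, hQp.over.symm⟩

theorem completedIdeal_eq (k' : Type u) [Field k'] [Algebra k k'] :
    (maximalIdeal A).map (Algebra.TensorProduct.includeLeft : A →ₐ[k] A ⊗[k] k') = EGA4.cTensorIdeal k A k' := by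
  rw [EGA4.cTensorIdeal, maximalIdeal_eq_bot, Ideal.map_bot, sup_bot_eq]

theorem comap_eq (k' : Type u) [Field k'] [Algebra k k'] (I : Ideal (A ⊗[k] k'))
    (p' : Ideal (AdicCompletion I (A ⊗[k] k'))) :
    (p'.comap (algebraMap (A ⊗[k] k') _)).comap (Algebra.TensorProduct.includeLeft : A →ₐ[k] A ⊗[k] k').toRingHom =
      p'.comap (algebraMap A (AdicCompletion I (A ⊗[k] k'))) := by
  rw [Ideal.comap_comap, IsScalarTower.algebraMap_eq A (A ⊗[k] k') (AdicCompletion I (A ⊗[k] k'))]
  rfl

variable (p : Ideal A) [p.IsPrime] (hp : p ≠ maximalIdeal A) (n : ℕ)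
    (hn₁ : ∀ q ∈ minimalPrimes A, q ≤ p → ringKrullDim (A ⧸ q) ≤ n)
    (hn₂ : ∃ q ∈ minimalPrimes A, q ≤ p ∧ ringKrullDim (A ⧸ q) = n)

theorem isAdicComplete_field (k' : Type u) [Field k'] : IsAdicComplete (maximalIdeal k') k' := by
  rw [maximalIdeal_eq_bot]; infer_instance

include hp hn₁ hn₂ in
theorem regular_of_free
    (h : Module.Free (Localization.AtPrime p) (LocalizedModule p.primeCompl (AdicCompletion (maximalIdeal A) (Ω[A⁄k]))) ∧
      Module.finrank (Localization.AtPrime p) (LocalizedModule p.primeCompl (AdicCompletion (maximalIdeal A) (Ω[A⁄k]))) = n)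
    (k' : Type u) [Field k'] [Algebra k k'] (I : Ideal (A ⊗[k] k')) (hI : I = EGA4.cTensorIdeal k A k')
    (p' : Ideal (AdicCompletion I (A ⊗[k] k'))) [p'.IsPrime]
    (hp' : (p'.comap (algebraMap (A ⊗[k] k') _)).comap
      (Algebra.TensorProduct.includeLeft : A →ₐ[k] A ⊗[k] k').toRingHom = p) :
    IsRegularLocalRing (Localization.AtPrime p') := by
  subst hI
  haveI := isAdicComplete_field k'
  exact (main k A p hp n hn₁ hn₂ (bound_of_free k A p n h)).2.2 k' p' ((comap_eq k A k' _ p').symm.trans hp')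

include hn₁ in
theorem bound_of_regular (k' : Type u) [Field k'] [Algebra k k'] [PerfectField k'] (I : Ideal (A ⊗[k] k'))
    (hI : I = EGA4.cTensorIdeal k A k') (p' : Ideal (AdicCompletion I (A ⊗[k] k'))) [p'.IsPrime]
    (hp' : (p'.comap (algebraMap (A ⊗[k] k') _)).comap
      (Algebra.TensorProduct.includeLeft : A →ₐ[k] A ⊗[k] k').toRingHom = p)
    [IsRegularLocalRing (Localization.AtPrime p')] :
    Module.finrank p.ResidueField (p.ResidueField ⊗[A] AdicCompletion (maximalIdeal A) (Ω[A⁄k])) ≤ n := by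
  subst hI
  haveI := isAdicComplete_field k'
  exact CKUpper.finrank_le k A k' p n hn₁ p' ((comap_eq k A k' _ p').symm.trans hp')

omit [p.IsPrime] in
theorem exists_prime [p.IsPrime] (k' : Type u) [Field k'] [Algebra k k'] (I : Ideal (A ⊗[k] k'))
    (hI : I = EGA4.cTensorIdeal k A k') :
    ∃ (p' : Ideal (AdicCompletion I (A ⊗[k] k'))), p'.IsPrime ∧ (p'.comap (algebraMap (A ⊗[k] k') _)).comap
      (Algebra.TensorProduct.includeLeft : A →ₐ[k] A ⊗[k] k').toRingHom = p := by
  subst hI
  haveI := isAdicComplete_field k'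
  obtain ⟨p', h1, h2⟩ := exists_over k A p k'
  exact ⟨p', h1, (comap_eq k A k' _ p').trans h2⟩

end Groth.Agent.H05EGA4.CKCrit
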