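import Groth.Agent.H05EGA4.CKUnits
import Groth.Agent.H05EGA4.CompleteNormalization
import Mathlib.RingTheory.Unramified.Locus

/-! Finite maps from power series rings unramified at a prime. -/

set_option autoImplicit false
set_option linter.style.haveILetI false
set_option maxHeartbeats 1000000

open IsLocalRing TensorProduct

universe u

namespace Groth.Agent.H05EGA4.CKEtale

variable {k A : Type u} [Field k] [CommRing A] [IsLocalRing A] [IsNoetherianRing A] [Algebra k A]

/-- A derivation into a finite module killing the parameters kills the power series ring. -/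
theorem kills_powerSeries {m : ℕ} [Algebra (MvPowerSeries (Fin m) k) A] [IsScalarTower k (MvPowerSeries (Fin m) k) A]
    [IsLocalHom (algebraMap (MvPowerSeries (Fin m) k) A)] {M : Type u} [AddCommGroup M] [Module A M] [Module k M]
    [Module.Finite A M] (δ : Derivation k A M)
    (hX : ∀ i, δ (algebraMap (MvPowerSeries (Fin m) k) A (MvPowerSeries.X i)) = 0) (t : MvPowerSeries (Fin m) k) :
    δ (algebraMap (MvPowerSeries (Fin m) k) A t) = 0 := by
  let S := MvPowerSeries (Fin m) k
  have hm : (H02CA.PS.vars (Fin m) k).map (algebraMap S A) ≤ maximalIdeal A := by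
    rw [H02CA.PS.vars, Ideal.map_span, Ideal.span_le]
    rintro _ ⟨_, ⟨i, rfl⟩, rfl⟩
    refine (IsLocalRing.mem_maximalIdeal _).2 fun hu => ?_
    have h2 := isUnit_of_map_unit (algebraMap S A) (MvPowerSeries.X i) hu
    rw [MvPowerSeries.isUnit_iff_constantCoeff, MvPowerSeries.constantCoeff_X] at h2
    exact not_isUnit_zero h2
  have hpoly : ∀ q : MvPolynomial (Fin m) k, δ (algebraMap S A (q : S)) = 0 := fun q => by
    induction q using MvPolynomial.induction_on with
    | C a =>
      rw [MvPolynomial.coe_C, show algebraMap S A (MvPowerSeries.C a) = algebraMap k A a from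
        (IsScalarTower.algebraMap_apply k S A a).symm, Derivation.map_algebraMap]
    | add a b ha hb => rw [MvPolynomial.coe_add, map_add, map_add, ha, hb, add_zero]
    | mul_X a i ha => rw [MvPolynomial.coe_mul, MvPolynomial.coe_X, map_mul, Derivation.leibniz, hX, ha, smul_zero, smul_zero, add_zero]
  have hpow : ∀ n, ∀ y ∈ maximalIdeal A ^ (n + 1), δ y ∈ (maximalIdeal A ^ n • ⊤ : Submodule A M) := by
    intro n
    induction n with
    | zero => intro y _; simp
    | succ n ih =>
      intro y hy
      rw [pow_succ] at hy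
      refine Submodule.mul_induction_on hy (fun a ha b hb => ?_) fun a b ha hb => by rw [map_add]; exact add_mem ha hb
      rw [Derivation.leibniz]
      refine add_mem (Submodule.smul_mem_smul ha trivial) ?_
      rw [pow_succ', Submodule.mul_smul]
      exact Submodule.smul_mem_smul hb (ih a ha)
  refine IsHausdorff.haus (I := maximalIdeal A)
    (IsHausdorff.of_isLocalRing _ _ (maximalIdeal.isMaximal A).ne_top) _ fun n => ?_
  rw [SModEq.zero]
  have h1 := hpow n (algebraMap S A (t - (MvPowerSeries.truncTotal (n + 1) t : MvPolynomial (Fin m) k))) (by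
    have h2 := Ideal.mem_map_of_mem (algebraMap S A) (H02CA.PS.sub_truncTotal_mem (n + 1) t)
    rw [Ideal.map_pow] at h2
    exact Ideal.pow_right_mono hm _ h2)
  rwa [map_sub, map_sub, hpoly, sub_zero] at h1

/-- Parameters outside a non-maximal prime. -/
theorem exists_parameters_notMem (p : Ideal A) [p.IsPrime] (hp : p ≠ maximalIdeal A) {d m : ℕ}
    (hd : ringKrullDim A = d) (hdm : d ≤ m) :
    ∃ x : Fin m → A, (∀ i, x i ∈ maximalIdeal A ∧ x i ∉ p) ∧ maximalIdeal A ≤ (Ideal.span (Set.range x)).radical := by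
  classical
  obtain ⟨y, hym, hrad⟩ := H05EGA4.exists_parameters hd
  obtain ⟨z, hzm, hzp⟩ : ∃ z ∈ maximalIdeal A, z ∉ p := by
    by_contra! h
    exact hp (le_antisymm (le_maximalIdeal (Ideal.IsPrime.ne_top ‹_›)) h)
  obtain ⟨n, hn⟩ := hrad hzm
  have hzN : z ^ (n + 1) ∈ maximalIdeal A * Ideal.span (Set.range y) := by
    rw [pow_succ']
    exact Ideal.mul_mem_mul hzm hn
  let x : Fin m → A := fun i => if h : (i : ℕ) < d then (if y ⟨i, h⟩ ∈ p then y ⟨i, h⟩ + z ^ (n + 1) else y ⟨i, h⟩) else z
  have hzNm : z ^ (n + 1) ∈ maximalIdeal A := Ideal.pow_mem_of_mem _ hzm _ (Nat.succ_pos n)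
  have hzNp : z ^ (n + 1) ∉ p := fun h => hzp (‹p.IsPrime›.mem_of_pow_mem _ h)
  refine ⟨x, fun i => ?_, fun w hw => ?_⟩
  · simp only [x]
    split_ifs with h h'
    · exact ⟨add_mem (hym _) hzNm, fun h2 => hzNp ((Submodule.add_mem_iff_right p h').1 h2)⟩
    · exact ⟨hym _, h'⟩
    · exact ⟨hzm, hzp⟩
  · have hle : Ideal.span (Set.range y) ≤ Ideal.span (Set.range x) := by
      refine Submodule.le_of_le_smul_of_le_jacobson_bot (IsNoetherian.noetherian _)
        (IsLocalRing.maximalIdeal_le_jacobson _) ?_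
      rw [Ideal.span_le]
      rintro _ ⟨j, rfl⟩
      have hx : x ⟨j, lt_of_lt_of_le j.2 hdm⟩ ∈ Ideal.span (Set.range x) := Ideal.subset_span ⟨_, rfl⟩
      simp only [x, Fin.is_lt, dite_true, Fin.eta] at hx
      split_ifs at hx with h
      · rw [show y j = (y j + z ^ (n + 1)) + -(z ^ (n + 1)) by ring]
        exact Submodule.add_mem_sup hx (neg_mem hzN)
      · exact Submodule.mem_sup_left hx
    exact Ideal.radical_mono hle (hrad hw)

variable [IsAdicComplete (maximalIdeal A) A] [Module.Finite k (ResidueField A)]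

/-- Substituting parameters gives a finite map. -/
theorem finite_of_primary {m : ℕ} [Algebra (MvPowerSeries (Fin m) k) A] [IsScalarTower k (MvPowerSeries (Fin m) k) A]
    (hxm : ∀ i, algebraMap (MvPowerSeries (Fin m) k) A (MvPowerSeries.X i) ∈ maximalIdeal A)
    (hrad : maximalIdeal A ≤
      (Ideal.span (Set.range fun i => algebraMap (MvPowerSeries (Fin m) k) A (MvPowerSeries.X i))).radical) :
    Module.Finite (MvPowerSeries (Fin m) k) A ∧ IsLocalHom (algebraMap (MvPowerSeries (Fin m) k) A) := by
  let S := MvPowerSeries (Fin m) k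
  let V : Ideal S := Ideal.span (Set.range MvPowerSeries.X)
  let I := Ideal.span (Set.range fun i => algebraMap S A (MvPowerSeries.X i))
  have hV : V.map (algebraMap S A) = I := by rw [Ideal.map_span, ← Set.range_comp]; rfl
  have hIm : I ≤ maximalIdeal A := Ideal.span_le.2 (Set.range_subset_iff.2 hxm)
  refine ⟨?_, ⟨fun t ht => ?_⟩⟩
  · obtain ⟨n, hn⟩ := Ideal.exists_pow_le_of_le_radical_of_fg hrad (IsNoetherian.noetherian _)
    have hnil : IsNilpotent ((maximalIdeal A).map (Ideal.Quotient.mk I)) := ⟨n, by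
      rw [← Ideal.map_pow]; exact (Ideal.map_eq_bot_iff_le_ker _).mpr (by rwa [Ideal.mk_ker])⟩
    haveI : Module.Finite k (A ⧸ maximalIdeal A) := (inferInstance : Module.Finite k (ResidueField A))
    haveI : Module.Finite k ((A ⧸ I) ⧸ (maximalIdeal A).map (Ideal.Quotient.mk I)) :=
      Module.Finite.equiv ((DoubleQuot.quotQuotEquivQuotSupₐ k I (maximalIdeal A)).trans
        (Ideal.quotientEquivAlgOfEq k (sup_eq_right.mpr hIm))).symm.toLinearEquiv
    haveI : Module.Finite k (A ⧸ I) :=
      H05EGA4.finite_of_finite_quotient_nilpotent _ hnil (IsNoetherian.noetherian _)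
    haveI : IsHausdorff V A := H05EGA4.isHausdorff_of_pow_smul_le V (maximalIdeal A) (hV.trans_le hIm)
    haveI : IsAdicComplete V S := inferInstance
    haveI : Module.Finite S (A ⧸ I) := Module.Finite.of_restrictScalars_finite k _ _
    haveI : Module.Finite S (A ⧸ (V • ⊤ : Submodule S A)) :=
      Module.Finite.equiv ((Submodule.quotEquivOfEq _ _ (by rw [Ideal.smul_top_eq_map, hV])).trans
        (Submodule.Quotient.restrictScalarsEquiv S I) : (A ⧸ (V • ⊤ : Submodule S A)) ≃ₗ[S] A ⧸ I).symm
    exact H24Adic.finite_of_finite_quotient (I := V)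
  · rw [MvPowerSeries.isUnit_iff_constantCoeff]
    refine IsUnit.mk0 _ fun h0 => ?_
    have h1 : t ∈ H02CA.PS.vars (Fin m) k := H02CA.PS.mem_vars_iff.2 h0
    exact (IsLocalRing.mem_maximalIdeal _).1 (hIm (hV ▸ Ideal.mem_map_of_mem _ h1)) ht

/-- An unramified parameter system generates the differentials. -/
theorem span_of_unramified {m : ℕ} [Algebra (MvPowerSeries (Fin m) k) A] [IsScalarTower k (MvPowerSeries (Fin m) k) A]
    [IsLocalHom (algebraMap (MvPowerSeries (Fin m) k) A)] [Module.Finite (MvPowerSeries (Fin m) k) A]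
    (p : Ideal A) [hp : p.IsPrime] [hu : Algebra.IsUnramifiedAt (MvPowerSeries (Fin m) k) p]
    (ω : AdicCompletion (maximalIdeal A) (Ω[A⁄k])) :
    ∃ t, t ∉ p ∧ t • ω ∈ Submodule.span A (Set.range fun i => AdicCompletion.of (maximalIdeal A) (Ω[A⁄k])
      (KaehlerDifferential.D k A (algebraMap (MvPowerSeries (Fin m) k) A (MvPowerSeries.X i)))) := by
  let S := MvPowerSeries (Fin m) k
  haveI := (CKBase.finite_and_surjective k A).1
  let dh := (AdicCompletion.of (maximalIdeal A) (Ω[A⁄k])).compDer (KaehlerDifferential.D k A)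
  let N := Submodule.span A (Set.range fun i => dh (algebraMap S A (MvPowerSeries.X i)))
  let Q := AdicCompletion (maximalIdeal A) (Ω[A⁄k]) ⧸ N
  let δ : Derivation k A Q := N.mkQ.compDer dh
  have hS : ∀ t : S, δ (algebraMap S A t) = 0 := kills_powerSeries δ fun i =>
    (Submodule.Quotient.mk_eq_zero N).2 (Submodule.subset_span ⟨i, rfl⟩)
  haveI : IsScalarTower S A Q := inferInstance
  let δS : Derivation S A Q := Derivation.mk'
    { toFun := δ
      map_add' := map_add δ
      map_smul' := fun t a => by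
        rw [Algebra.smul_def, Derivation.leibniz, hS, smul_zero, add_zero, RingHom.id_apply]
        exact algebraMap_smul A t _ }
    δ.leibniz
  have h1 : (⟨p, hp⟩ : PrimeSpectrum A) ∈ Algebra.unramifiedLocus S A := hu
  rw [Algebra.unramifiedLocus_eq_compl_support] at h1
  have h2 : ¬ Module.annihilator A Ω[A⁄S] ≤ (⟨p, hp⟩ : PrimeSpectrum A).asIdeal := fun h =>
    h1 (Module.mem_support_iff_of_finite.2 h)
  obtain ⟨t, ht, htp⟩ := SetLike.not_le_iff_exists.1 h2
  refine ⟨t, htp, ?_⟩
  have hω : ω ∈ Submodule.span A (Set.range fun a => dh a) := (CKBase.span_eq_top k A).symm ▸ trivial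
  induction hω using Submodule.span_induction with
  | mem x hx =>
    obtain ⟨a, rfl⟩ := hx
    refine (Submodule.Quotient.mk_eq_zero N).1 ?_
    rw [Submodule.Quotient.mk_smul]
    show t • δS a = 0
    rw [← δS.liftKaehlerDifferential_comp_D, ← map_smul, Module.mem_annihilator.1 ht, map_zero]
  | zero => rw [smul_zero]; exact zero_mem _
  | add x y _ _ hx hy => rw [smul_add]; exact add_mem hx hy
  | smul r x _ hx => rw [smul_comm]; exact Submodule.smul_mem _ _ hx

/-- Parameters whose differentials generate give an unramified map. -/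
theorem unramified_of_span {m : ℕ} [Algebra (MvPowerSeries (Fin m) k) A] [IsScalarTower k (MvPowerSeries (Fin m) k) A]
    [Module.Finite (MvPowerSeries (Fin m) k) A] (p : Ideal A) [hp : p.IsPrime]
    (h : ∀ ω, ∃ t, t ∉ p ∧ t • ω ∈ Submodule.span A (Set.range fun i => AdicCompletion.of (maximalIdeal A) (Ω[A⁄k])
      (KaehlerDifferential.D k A (algebraMap (MvPowerSeries (Fin m) k) A (MvPowerSeries.X i))))) :
    Algebra.IsUnramifiedAt (MvPowerSeries (Fin m) k) p := by
  let S := MvPowerSeries (Fin m) k
  have h1 : (⟨p, hp⟩ : PrimeSpectrum A) ∈ Algebra.unramifiedLocus S A := by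
    rw [Algebra.unramifiedLocus_eq_compl_support, Set.mem_compl_iff, Module.notMem_support_iff']
    obtain ⟨φ, hφ⟩ := CKBase.exists_lift_completion ((KaehlerDifferential.D S A).restrictScalars k)
    intro w
    have hw : w ∈ Submodule.span A (Set.range (KaehlerDifferential.D S A)) :=
      (KaehlerDifferential.span_range_derivation S A).symm ▸ trivial
    induction hw using Submodule.span_induction with
    | mem x hx =>
      obtain ⟨a, rfl⟩ := hx
      obtain ⟨t, ht, hts⟩ := h (AdicCompletion.of _ _ (KaehlerDifferential.D k A a))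
      refine ⟨t, ht, ?_⟩
      have h2 : ∀ z ∈ Submodule.span A (Set.range fun i => AdicCompletion.of (maximalIdeal A) (Ω[A⁄k])
          (KaehlerDifferential.D k A (algebraMap S A (MvPowerSeries.X i)))), φ z = 0 := fun z hz => by
        refine (LinearMap.eqOn_span (g := (0 : AdicCompletion (maximalIdeal A) (Ω[A⁄k]) →ₗ[A] Ω[A⁄S])) ?_ hz)
        rintro _ ⟨i, rfl⟩
        exact (hφ _).trans ((KaehlerDifferential.D S A).map_algebraMap _)
      have h3 := h2 _ hts
      rwa [map_smul, hφ] at h3
    | zero => exact ⟨1, fun h1 => hp.ne_top ((Ideal.eq_top_iff_one p).2 h1), smul_zero _⟩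
    | add x y _ _ hx hy =>
      obtain ⟨t, ht, htx⟩ := hx
      obtain ⟨t', ht', hty⟩ := hy
      exact ⟨t * t', fun hh => (hp.mem_or_mem hh).elim ht ht',
        by rw [smul_add, mul_smul, mul_smul, hty, smul_comm, htx, smul_zero, smul_zero, add_zero]⟩
    | smul r x _ hx =>
      obtain ⟨t, ht, htx⟩ := hx
      exact ⟨t, ht, by rw [smul_comm, htx, smul_zero]⟩
  exact h1

/-- A finite local map unramified at the prime from generators of the differentials. -/
theorem exists_unramified (p : Ideal A) [p.IsPrime] (hp : p ≠ maximalIdeal A) {d m : ℕ} (hd : ringKrullDim A = d)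
    (hdm : d ≤ m) (hr : Module.finrank p.ResidueField (p.ResidueField ⊗[A] AdicCompletion (maximalIdeal A) (Ω[A⁄k])) ≤ m) :
    ∃ (_ : Algebra (MvPowerSeries (Fin m) k) A) (_ : IsScalarTower k (MvPowerSeries (Fin m) k) A),
      IsLocalHom (algebraMap (MvPowerSeries (Fin m) k) A) ∧ Module.Finite (MvPowerSeries (Fin m) k) A ∧
        Algebra.IsUnramifiedAt (MvPowerSeries (Fin m) k) p := by
  obtain ⟨x, hx, hrad⟩ := exists_parameters_notMem p hp hd hdm
  obtain ⟨u, hu⟩ := CKUnits.exists_units k p x (fun i => (hx i).2) hr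
  obtain ⟨ψ, hψ⟩ := H02CA.PS.exists_algHom (R := k) (σ := Fin m) (maximalIdeal A) (fun i => (u i : A) * x i)
    fun i => Ideal.mul_mem_left _ _ (hx i).1
  letI : Algebra (MvPowerSeries (Fin m) k) A := ψ.toRingHom.toAlgebra
  haveI : IsScalarTower k (MvPowerSeries (Fin m) k) A := IsScalarTower.of_algebraMap_eq fun c => (ψ.commutes c).symm
  have hX : (fun i => algebraMap (MvPowerSeries (Fin m) k) A (MvPowerSeries.X i)) = fun i => (u i : A) * x i := funext hψ
  obtain ⟨hfin, hloc⟩ := finite_of_primary (k := k) (A := A) (m := m)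
    (fun i => by rw [show algebraMap (MvPowerSeries (Fin m) k) A (MvPowerSeries.X i) = _ from congrFun hX i]; exact Ideal.mul_mem_left _ _ (hx i).1)
    (hrad.trans (Ideal.radical_mono (Ideal.span_le.2 (Set.range_subset_iff.2 fun i => by
      rw [SetLike.mem_coe, hX]
      exact (Ideal.unit_mul_mem_iff_mem _ (u i).isUnit).1 (Ideal.subset_span ⟨i, rfl⟩)))))
  haveI := hfin
  refine ⟨inferInstance, inferInstance, hloc, hfin, unramified_of_span p fun ω => ?_⟩
  rw [show (fun i => AdicCompletion.of (maximalIdeal A) (Ω[A⁄k])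
      (KaehlerDifferential.D k A (algebraMap (MvPowerSeries (Fin m) k) A (MvPowerSeries.X i)))) = _ from
    funext fun i => congrArg (fun a => AdicCompletion.of (maximalIdeal A) (Ω[A⁄k]) (KaehlerDifferential.D k A a)) (congrFun hX i)]
  exact hu ω

end Groth.Agent.H05EGA4.CKEtale
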