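import Groth.Agent.H05EGA4.Regular2
import Groth.Agent.H05EGA4.CompleteNormalization
import Mathlib.RingTheory.Etale.Locus
import Mathlib.RingTheory.Smooth.Fiber
import Mathlib.RingTheory.IntegralClosure.GoingDown

/-! Unramified is etale for finite algebras over regular rings at primes of full dimension. -/

set_option autoImplicit false
set_option linter.style.haveILetI false
set_option maxHeartbeats 1000000

open IsLocalRing TensorProduct

universe u

namespace Groth.Agent.H05EGA4.CKFlat

/-- The dimensions of the local rings agree. -/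
theorem ringKrullDim_localization_eq {R A : Type u} [CommRing R] [IsDomain R] [IsIntegrallyClosed R] [CommRing A]
    [Algebra R A] [Module.Finite R A] (p q : Ideal A) [p.IsPrime] [q.IsPrime] (hqp : q ≤ p)
    (hinj : q.comap (algebraMap R A) = ⊥) :
    ringKrullDim (Localization.AtPrime p) = ringKrullDim (Localization.AtPrime (p.comap (algebraMap R A))) := by
  haveI : Algebra.IsIntegral R A := Algebra.IsIntegral.of_finite R A
  let P := p.comap (algebraMap R A)
  rw [IsLocalization.AtPrime.ringKrullDim_eq_height p, IsLocalization.AtPrime.ringKrullDim_eq_height P]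
  refine le_antisymm ?_ ?_
  · refine WithBot.coe_le_coe.2 ?_
    show (⟨p, inferInstance⟩ : PrimeSpectrum A).asIdeal.height ≤ (⟨P, inferInstance⟩ : PrimeSpectrum R).asIdeal.height
    rw [PrimeSpectrum.height_eq_orderHeight, PrimeSpectrum.height_eq_orderHeight]
    exact Order.height_le_height_apply_of_strictMono (PrimeSpectrum.comap (algebraMap R A))
      (fun Q Q' h => Ideal.IsIntegral.comap_lt_comap h) ⟨p, inferInstance⟩
  · refine WithBot.coe_le_coe.2 ?_
    haveI : FaithfulSMul R (A ⧸ q) := (faithfulSMul_iff_algebraMap_injective R _).2 <| by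
      rw [RingHom.injective_iff_ker_eq_bot, IsScalarTower.algebraMap_eq R A (A ⧸ q), ← RingHom.comap_ker]
      rw [Ideal.Quotient.algebraMap_eq, Ideal.mk_ker, hinj]
    haveI : Algebra.IsIntegral R (A ⧸ q) := Algebra.IsIntegral.of_finite R (A ⧸ q)
    haveI : (p.map (Ideal.Quotient.mk q)).IsPrime :=
      Ideal.map_isPrime_of_surjective Ideal.Quotient.mk_surjective (by rwa [Ideal.mk_ker])
    have hcm : (p.map (Ideal.Quotient.mk q)).comap (Ideal.Quotient.mk q) = p := by
      rw [Ideal.comap_map_of_surjective _ Ideal.Quotient.mk_surjective, ← RingHom.ker_eq_comap_bot, Ideal.mk_ker,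
        sup_eq_left.2 hqp]
    show (⟨P, inferInstance⟩ : PrimeSpectrum R).asIdeal.height ≤ (⟨p, inferInstance⟩ : PrimeSpectrum A).asIdeal.height
    rw [PrimeSpectrum.height_eq_orderHeight, PrimeSpectrum.height_eq_orderHeight]
    refine Order.height_le fun l hl => ?_
    haveI : (p.map (Ideal.Quotient.mk q)).LiesOver l.last.asIdeal := ⟨by
      rw [hl, Ideal.under_def, IsScalarTower.algebraMap_eq R A (A ⧸ q), ← Ideal.comap_comap,
        Ideal.Quotient.algebraMap_eq, hcm]⟩
    obtain ⟨L, hlen, hlast, -⟩ := Ideal.exists_ltSeries_of_hasGoingDown l (p.map (Ideal.Quotient.mk q))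
    rw [← hlen]
    refine Order.length_le_height (p := L.map (PrimeSpectrum.comap (Ideal.Quotient.mk q))
      fun x y h => lt_of_le_of_ne (Ideal.comap_mono h.le) fun he => h.ne (PrimeSpectrum.ext
        (Ideal.comap_injective_of_surjective _ Ideal.Quotient.mk_surjective (congrArg PrimeSpectrum.asIdeal he)))) ?_
    rw [LTSeries.last_map, hlast]
    exact le_of_eq (PrimeSpectrum.ext hcm)

/-- Unramified at such a prime implies etale with regular local ring. -/
theorem isEtaleAt {R A : Type u} [CommRing R] [IsRegularLocalRing R] [IsDomain R] [IsIntegrallyClosed R] [CommRing A]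
    [IsNoetherianRing A] [Algebra R A] [Module.Finite R A] (p q : Ideal A) [p.IsPrime] [q.IsPrime] (hqp : q ≤ p)
    (hinj : q.comap (algebraMap R A) = ⊥) [Algebra.IsUnramifiedAt R p] :
    Algebra.IsEtaleAt R p ∧ IsRegularLocalRing (Localization.AtPrime p) := by
  let P := p.under R
  let Rp := Localization.AtPrime P
  let Sp := Localization (Algebra.algebraMapSubmonoid A P.primeCompl)
  let Sq := Localization.AtPrime p
  letI := Localization.AtPrime.algebraOfLiesOver P p
  haveI : IsRegularLocalRing Rp := isRegularLocalRing_localization R P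
  haveI : IsLocalHom (algebraMap Rp Sq) := inferInstance
  haveI : Algebra.FormallyUnramified Rp Sq := .of_restrictScalars R _ _
  haveI : Algebra.EssFiniteType Rp Sq := .of_comp R _ _
  have hmax : (maximalIdeal Rp).map (algebraMap Rp Sq) = maximalIdeal Sq := Algebra.FormallyUnramified.map_maximalIdeal
  letI : Field (Sq ⧸ (maximalIdeal Rp).map (algebraMap Rp Sq)) := by
    haveI : ((maximalIdeal Rp).map (algebraMap Rp Sq)).IsMaximal := by rw [hmax]; infer_instance
    exact Ideal.Quotient.field _
  obtain ⟨hreg, hflat⟩ := flat_of_ringKrullDim_eq_add (A := Rp) (B := Sq) (by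
    rw [ringKrullDim_eq_zero_of_field (Sq ⧸ _), add_zero]
    exact ringKrullDim_localization_eq p q hqp hinj)
  refine ⟨?_, hreg⟩
  haveI := hflat
  let f : Sp →ₐ[A] Sq := IsLocalization.liftAlgHom (M := Algebra.algebraMapSubmonoid A P.primeCompl)
        (f := Algebra.ofId _ _) (by
      rintro ⟨_, x, hx, rfl⟩
      simpa using! IsLocalization.map_units (M := p.primeCompl) Sq ⟨algebraMap _ _ x, hx⟩)
  letI : Algebra Sp Sq := f.toRingHom.toAlgebra
  haveI : IsScalarTower A Sp Sq := IsScalarTower.of_algebraMap_eq fun a => (f.commutes a).symm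
  haveI : IsScalarTower R Sp Sq := .to₁₃₄ _ A _ _
  haveI : IsScalarTower Rp Sp Sq := .of_algebraMap_eq' <| by
    apply IsLocalization.ringHom_ext P.primeCompl
    simp only [RingHom.comp_assoc, ← IsScalarTower.algebraMap_eq]
  haveI : IsLocalization (Algebra.algebraMapSubmonoid Sp p.primeCompl) Sq :=
    .isLocalization_of_submonoid_le _ _ (Algebra.algebraMapSubmonoid A P.primeCompl) _
    (by rintro _ ⟨x, hx, rfl⟩; exact hx)
  haveI : Algebra.FinitePresentation R A := Algebra.FinitePresentation.of_finiteType.1 inferInstance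
  haveI : Algebra.FinitePresentation Rp Sp := by
    haveI : Algebra.IsPushout R Rp A Sp :=
      .symm <| Algebra.isPushout_of_isLocalization P.primeCompl _ _ _
    exact .equiv (Algebra.IsPushout.equiv R Rp A Sp)
  haveI : Algebra.FormallyEtale (ResidueField Rp) (ResidueField Rp ⊗[Rp] Sq) :=
    Algebra.FormallyEtale.of_formallyUnramified_of_field _ _
  haveI := Algebra.FormallySmooth.of_formallySmooth_residueField_tensor
    (R := Rp) (S := Sq) (P := Sp) (Algebra.algebraMapSubmonoid _ p.primeCompl)
  haveI : Algebra.FormallySmooth R Sq := Algebra.FormallySmooth.comp R Rp Sq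
  exact Algebra.FormallyEtale.iff_formallyUnramified_and_formallySmooth.2 ⟨inferInstance, inferInstance⟩

end Groth.Agent.H05EGA4.CKFlat
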