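import Mathlib
import Groth.Prelude.Def_EGA41
import Groth.Prelude.Def_CAlgX
import Groth.Agent.H05EGA4.AdicLift
import Groth.Agent.H05EGA4.FlatFibreFS
import Groth.Agent.H24Adic.CompletionMap
import Groth.Agent.H02CA.AdicSmooth

/-!
# Formal smoothness for adic topologies on both sides (helper5)
-/

set_option autoImplicit false
set_option linter.style.haveILetI false
universe u
open IsLocalRing Groth.Agent

namespace Groth.Agent.H05EGA4

/-- Lifting into an adically complete algebra. -/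
theorem exists_lift_formallySmoothAdic {A B C : Type u} [CommRing A] [CommRing B] [CommRing C] [Algebra A B]
    [Algebra A C] {𝔞 : Ideal A} {𝔟 : Ideal B} (hB : EGA41.IsFormallySmoothAdic A 𝔞 B 𝔟)
    (𝔪 : Ideal C) [IsAdicComplete 𝔪 C] (hA : ∃ k : ℕ, (𝔞 ^ k).map (algebraMap A C) ≤ 𝔪) (J : Ideal C) (hJ : J ≤ 𝔪)
    (u : B →ₐ[A] C ⧸ J) (hu : ∃ k : ℕ, ∀ x ∈ 𝔟 ^ k, ∀ c, u x = Ideal.Quotient.mk J c → c ∈ 𝔪) :
    ∃ v : B →ₐ[A] C, ∀ x c, u x = Ideal.Quotient.mk J c → ∀ t, v x - c ∈ J ⊔ 𝔪 ^ t := by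
  obtain ⟨k, hk⟩ := hu
  obtain ⟨a, ha⟩ := hA
  refine exists_lift_adicComplete_of_compatible 𝔪 J hJ u fun t K hK htK u' hu' => ?_
  let q := Ideal.Quotient.mk (𝔪 ^ (t + 1))
  let K' : Ideal (C ⧸ 𝔪 ^ (t + 1)) := K.map q
  let e : ((C ⧸ 𝔪 ^ (t + 1)) ⧸ K') ≃ₐ[A] C ⧸ K :=
    (DoubleQuot.quotQuotEquivQuotSupₐ A (𝔪 ^ (t + 1)) K).trans
      (Ideal.quotientEquivAlgOfEq A (sup_eq_right.mpr htK))
  have hK' : IsNilpotent K' := ⟨t + 1, by
    rw [← Ideal.map_pow]
    exact le_bot_iff.mp ((Ideal.map_mono (Ideal.pow_right_mono hK _)).trans (Ideal.map_quotient_self _).le)⟩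
  have h𝔞 : ∃ j : ℕ, (𝔞 ^ j).map (algebraMap A (C ⧸ 𝔪 ^ (t + 1))) = ⊥ := ⟨a * (t + 1), by
    rw [IsScalarTower.algebraMap_eq A C (C ⧸ 𝔪 ^ (t + 1)), ← Ideal.map_map, pow_mul, Ideal.map_pow]
    exact le_bot_iff.mp ((Ideal.map_mono (Ideal.pow_right_mono ha _)).trans (Ideal.map_quotient_self _).le)⟩
  obtain ⟨χ, hχ⟩ := hB (C ⧸ 𝔪 ^ (t + 1)) K' hK' h𝔞 (e.symm.toAlgHom.comp u') ⟨k * (t + 1), by
    intro x hx
    rw [pow_mul] at hx
    have h1 : (𝔟 ^ k).map u'.toRingHom ≤ 𝔪.map (Ideal.Quotient.mk K) := Ideal.map_le_iff_le_comap.mpr fun y hy => by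
      obtain ⟨c, hc⟩ := Ideal.Quotient.mk_surjective (u' y)
      show u' y ∈ 𝔪.map (Ideal.Quotient.mk K)
      rw [← hc]
      refine Ideal.mem_map_of_mem _ ?_
      obtain ⟨d, hd⟩ := Ideal.Quotient.mk_surjective (u y)
      have := add_mem (hu' y c d hc.symm hd.symm) (hk y hy d hd.symm)
      rwa [sub_add_cancel] at this
    have h2 := Ideal.pow_right_mono h1 (t + 1) (Ideal.map_pow u'.toRingHom (𝔟 ^ k) _ ▸ Ideal.mem_map_of_mem u'.toRingHom hx)
    rw [← Ideal.map_pow] at h2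
    have h3 : u' x ∈ (⊥ : Ideal (C ⧸ K)) :=
      (Ideal.map_mono htK).trans (Ideal.map_quotient_self K).le h2
    show e.symm (u' x) = 0
    rw [Ideal.mem_bot.mp h3, map_zero]⟩
  refine ⟨χ, fun x c hc => ?_⟩
  have h1 := congrArg e (AlgHom.congr_fun hχ x)
  simp only [AlgHom.comp_apply] at h1
  rw [hc] at h1
  exact (e.apply_symm_apply _).symm.trans h1.symm

/-- When the base ideal maps into the ideal of the algebra, nilpotent test ideals and square-zero ones agree. -/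
theorem isFormallySmoothAdic_iff_isAdicFormallySmooth {A B : Type u} [CommRing A] [CommRing B] [Algebra A B]
    (𝔞 : Ideal A) (𝔟 : Ideal B) (h : ∃ k : ℕ, (𝔞 ^ k).map (algebraMap A B) ≤ 𝔟) :
    EGA41.IsFormallySmoothAdic A 𝔞 B 𝔟 ↔ CAlgX.IsAdicFormallySmooth A B 𝔟 := by
  constructor
  · intro hB C _ _ J hJ ψ hψ
    obtain ⟨a, ha⟩ := h
    obtain ⟨k, hk⟩ := hψ
    refine hB C J ⟨2, hJ⟩ ⟨a * k * 2, ?_⟩ ψ ⟨k, hk⟩
    rw [pow_mul, Ideal.map_pow, ← le_bot_iff, ← hJ]
    refine Ideal.pow_right_mono (Ideal.map_le_iff_le_comap.mpr fun y hy => ?_) 2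
    rw [Ideal.mem_comap, ← Ideal.Quotient.eq_zero_iff_mem,
      show Ideal.Quotient.mk J (algebraMap A C y) = ψ (algebraMap A B y) from (ψ.commutes y).symm]
    refine hk _ ?_
    rw [pow_mul] at hy
    have h1 := Ideal.mem_map_of_mem (algebraMap A B) hy
    rw [Ideal.map_pow] at h1
    exact Ideal.pow_right_mono ha k h1
  · intro hB C _ _ J hJ _ ψ hψ
    obtain ⟨s, hs⟩ := hJ
    obtain ⟨χ, hχ, -⟩ := exists_lift_nilpotent hB s C J (le_bot_iff.mp
      ((Ideal.pow_le_pow_right Nat.lt_two_pow_self.le).trans hs.le)) ψ hψ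
    exact ⟨χ, hχ⟩

/-- Test maps out of a completion factor through a truncation. -/
theorem exists_algHom_adicCompletion_of_kills {A B C : Type u} [CommRing A] [CommRing B] [CommRing C] [Algebra A B]
    [Algebra A C] (𝔟 : Ideal B) (v : B →ₐ[A] C) (k : ℕ) (hk : ∀ x ∈ 𝔟 ^ k, v x = 0) :
    ∃ w : AdicCompletion 𝔟 B →ₐ[A] C, (∀ x, w (algebraMap B _ x) = v x) ∧
      ∀ y ∈ (𝔟.map (algebraMap B (AdicCompletion 𝔟 B))) ^ k, w y = 0 := by
  let w := (Ideal.Quotient.liftₐ _ v hk).comp ((AdicCompletion.evalₐ 𝔟 k).restrictScalars A)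
  have hw : ∀ x, w (algebraMap B _ x) = v x := fun x => by
    show Ideal.Quotient.liftₐ _ v hk (AdicCompletion.evalₐ 𝔟 k (algebraMap B _ x)) = v x
    rw [AlgHom.commutes]
    rfl
  refine ⟨w, hw, fun y hy => ?_⟩
  rw [← Ideal.map_pow] at hy
  refine (Ideal.map_le_iff_le_comap.mpr fun x hx => ?_ : Ideal.map _ (𝔟 ^ k) ≤ RingHom.ker w.toRingHom) hy
  show w (algebraMap B _ x) = 0
  rw [hw, hk x hx]

/-- Two test maps out of a completion agreeing on the ring are equal. -/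
theorem algHom_adicCompletion_ext {A B C : Type u} [CommRing A] [CommRing B] [CommRing C] [Algebra A B]
    [Algebra A C] {𝔟 : Ideal B} (h𝔟 : 𝔟.FG) {f g : AdicCompletion 𝔟 B →ₐ[A] C} (k : ℕ)
    (hf : ∀ y ∈ (𝔟.map (algebraMap B (AdicCompletion 𝔟 B))) ^ k, f y = 0)
    (hg : ∀ y ∈ (𝔟.map (algebraMap B (AdicCompletion 𝔟 B))) ^ k, g y = 0)
    (h : ∀ x, f (algebraMap B _ x) = g (algebraMap B _ x)) : f = g := by
  refine AlgHom.ext fun y => ?_
  obtain ⟨p, hp⟩ := H24Adic.exists_sub_of_mem h𝔟 k y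
  rw [Ideal.map_pow] at hp
  have h1 := hf _ hp
  have h2 := hg _ hp
  rw [map_sub, sub_eq_zero] at h1 h2
  rw [h1, h2, h]

/-- A map from an adically complete algebra to a flat one, bijective modulo the ideal, is bijective. -/
theorem bijective_of_flat_of_bijective_mod {A B B' : Type u} [CommRing A] (J : Ideal A) [CommRing B]
    [IsNoetherianRing B] [Algebra A B] [CommRing B'] [Algebra A B'] [Module.Flat A B']
    [IsAdicComplete (J.map (algebraMap A B)) B] [IsAdicComplete (J.map (algebraMap A B')) B']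
    (v : B →ₐ[A] B') (h0 : ∀ s, ∃ x, v x - s ∈ J.map (algebraMap A B'))
    (h1 : ∀ x, v x ∈ J.map (algebraMap A B') → x ∈ J.map (algebraMap A B)) : Function.Bijective v := by
  let JB := J.map (algebraMap A B)
  let JB' := J.map (algebraMap A B')
  have hJ : JB.map v.toRingHom = JB' := by
    rw [Ideal.map_map, show v.toRingHom.comp (algebraMap A B) = algebraMap A B' from v.comp_algebraMap]
  have hsur : Function.Surjective v := by
    refine H02CA.PS.surjective_of_approx v.toRingHom JB JB' (fun x hx => hJ ▸ Ideal.mem_map_of_mem _ hx) h0 ?_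
    intro s hs
    induction hs using Submodule.span_induction with
    | mem z hz =>
      obtain ⟨a, ha, rfl⟩ := hz
      exact ⟨algebraMap A B a, Ideal.mem_map_of_mem _ ha,
        by show v (algebraMap A B a) - _ ∈ _; rw [v.commutes, sub_self]; exact zero_mem _⟩
    | zero => exact ⟨0, zero_mem _, by rw [map_zero, sub_zero]; exact zero_mem _⟩
    | add y z _ _ hy hz =>
      obtain ⟨x, hx, hxy⟩ := hy
      obtain ⟨x', hx', hxz⟩ := hz
      exact ⟨x + x', add_mem hx hx', by rw [map_add, add_sub_add_comm]; exact add_mem hxy hxz⟩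
    | smul r y hymem hy =>
      obtain ⟨x, hx, hxy⟩ := hy
      obtain ⟨c, hc⟩ := h0 r
      refine ⟨x * c, Ideal.mul_mem_right _ _ hx, ?_⟩
      show v (x * c) - r • y ∈ _
      rw [map_mul, smul_eq_mul, show v x * v c - r * y = (v x - y) * v c + y * (v c - r) by ring]
      exact add_mem (Ideal.mul_mem_right _ _ hxy) (pow_two JB' ▸ Ideal.mul_mem_mul hymem hc)
  refine ⟨(injective_iff_map_eq_zero v).mpr fun x hx => ?_, hsur⟩
  let K : Submodule B B := RingHom.ker v.toRingHom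
  have hKle : K ≤ JB • K := by
    intro z hz
    let g : ↥(K.restrictScalars A) →ₗ[A] B := (K.restrictScalars A).subtype
    have hz' : g ⟨z, hz⟩ ∈ J • (⊤ : Submodule A B) := by
      rw [Ideal.smul_top_eq_map]
      exact h1 z (by rw [show v z = 0 from hz]; exact zero_mem _)
    have h2 := mem_smul_top_of_flat g v.toLinearMap Subtype.val_injective hsur (by
      intro y
      exact ⟨fun hy => ⟨⟨y, hy⟩, rfl⟩, fun ⟨w, hw⟩ => hw ▸ w.2⟩) J ⟨z, hz⟩ hz'
    have h3 := Submodule.mem_map_of_mem (f := g) h2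
    rw [Submodule.map_smul'', Submodule.map_top, Submodule.range_subtype] at h3
    change z ∈ _ at h3
    refine Submodule.smul_induction_on (p := fun x => x ∈ JB • K) h3 (fun a ha y hy => ?_) fun _ _ => add_mem
    rw [← algebraMap_smul B a y]
    exact Submodule.smul_mem_smul (Ideal.mem_map_of_mem _ ha) hy
  have hK0 : K = ⊥ := Submodule.eq_bot_of_le_smul_of_le_jacobson_bot JB K (IsNoetherian.noetherian _) hKle
    (IsAdicComplete.le_jacobson_bot JB)
  exact (Submodule.mem_bot B).mp (hK0 ▸ (RingHom.mem_ker.mpr hx : x ∈ K))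

end Groth.Agent.H05EGA4
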