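import Groth.Agent.H05EGA4.CKEtale
import Groth.Agent.H05EGA4.CKFlat
import Groth.Agent.H05EGA4.FSBaseChange
import Groth.Agent.S4574
import Groth.Agent.S4533
import Groth.Agent.H05EGA4.FSAdic

/-! Completed differentials at a prime etale over a power series ring. -/

set_option autoImplicit false
set_option linter.style.haveILetI false
set_option maxHeartbeats 1000000

open IsLocalRing TensorProduct

universe u

namespace Groth.Agent.H05EGA4.CKFree

/-- Extension of a derivation along a formally etale map, over abstract rings. -/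
theorem exists_ext_etale {S T : Type u} [CommRing S] [CommRing T] [Algebra S T] [Algebra.FormallyEtale S T]
    (f : S → S) (hadd : ∀ a b, f (a + b) = f a + f b) (hmul : ∀ a b, f (a * b) = a * f b + b * f a) :
    ∃ D : T → T, (∀ a b, D (a + b) = D a + D b) ∧ (∀ a b, D (a * b) = a * D b + b * D a) ∧
      ∀ t, D (algebraMap S T t) = algebraMap S T (f t) := by
  let d : Derivation ℤ S T := Derivation.mk'
    (AddMonoidHom.mk' (fun t => algebraMap S T (f t)) fun a b => by rw [hadd, map_add]).toIntLinearMap fun a b => by
      show algebraMap S T (f (a * b)) = a • algebraMap S T (f b) + b • algebraMap S T (f a)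
      rw [hmul, map_add, map_mul, map_mul, Algebra.smul_def, Algebra.smul_def]
  obtain ⟨D, hD⟩ := NagataDer.exists_extend_localization (T := T) d
  exact ⟨D, map_add D, fun a b => by rw [Derivation.leibniz, smul_eq_mul, smul_eq_mul], hD⟩

/-- Denominators of a derivation of a localisation on a finite algebra are bounded. -/
theorem exists_bound {S A T : Type u} [CommRing S] [CommRing A] [CommRing T] [Algebra S A] [Algebra A T] [Algebra S T]
    [IsScalarTower S A T] [Module.Finite S A] (M : Submonoid A) [IsLocalization M T] (D : T → T)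
    (hadd : ∀ a b, D (a + b) = D a + D b) (hmul : ∀ a b, D (a * b) = a * D b + b * D a)
    (hD : ∀ s, ∃ a, algebraMap A T a = D (algebraMap S T s)) :
    ∃ t : M, ∀ a, ∃ a', algebraMap A T a' = algebraMap A T t * D (algebraMap A T a) := by
  obtain ⟨n, g, hg⟩ := Module.Finite.exists_fin (R := S) (M := A)
  obtain ⟨t, ht⟩ := IsLocalization.exist_integer_multiples_of_finite M fun i => D (algebraMap A T (g i))
  refine ⟨t, fun a => ?_⟩
  have ha : a ∈ Submodule.span S (Set.range g) := hg ▸ trivial
  induction ha using Submodule.span_induction with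
  | mem x hx =>
    obtain ⟨i, rfl⟩ := hx
    obtain ⟨a', ha'⟩ := ht i
    exact ⟨a', ha'.trans (Algebra.smul_def _ _)⟩
  | zero =>
    have h0 : D 0 = 0 := by simpa using hadd 0 0
    exact ⟨0, by simp [h0]⟩
  | add x y _ _ hx hy =>
    obtain ⟨x', hx'⟩ := hx
    obtain ⟨y', hy'⟩ := hy
    exact ⟨x' + y', by rw [map_add, hx', hy', map_add, hadd, mul_add]⟩
  | smul s x _ hx =>
    obtain ⟨x', hx'⟩ := hx
    obtain ⟨s', hs'⟩ := hD s
    refine ⟨algebraMap S A s * x' + (t : A) * x * s', ?_⟩
    rw [Algebra.smul_def, map_add, map_mul, map_mul, map_mul, map_mul, hx', hs', ← IsScalarTower.algebraMap_apply,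
      hmul]
    ring

variable {k A : Type u} [Field k] [CommRing A] [IsLocalRing A] [IsNoetherianRing A] [Algebra k A]
  [IsAdicComplete (maximalIdeal A) A] [Module.Finite k (ResidueField A)] {n : ℕ}
  [Algebra (MvPowerSeries (Fin n) k) A] [IsScalarTower k (MvPowerSeries (Fin n) k) A]
  [Module.Finite (MvPowerSeries (Fin n) k) A]

/-- Partial derivatives give functionals. -/
theorem exists_functional (p : Ideal A) [p.IsPrime] [Algebra.IsEtaleAt (MvPowerSeries (Fin n) k) p] (j : Fin n) :
    ∃ (t : p.primeCompl) (φ : AdicCompletion (maximalIdeal A) (Ω[A⁄k]) →ₗ[A] Localization.AtPrime p), ∀ i,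
      φ (AdicCompletion.of (maximalIdeal A) (Ω[A⁄k])
        (KaehlerDifferential.D k A (algebraMap (MvPowerSeries (Fin n) k) A (MvPowerSeries.X i)))) =
        algebraMap A (Localization.AtPrime p) t * (if i = j then 1 else 0) := by
  classical
  let S := MvPowerSeries (Fin n) k
  let T := Localization.AtPrime p
  obtain ⟨D, hDadd, hDmul, hD⟩ := exists_ext_etale (S := S) (T := T) (MvPowerSeries.pderiv k j) (map_add _)
    fun a b => by rw [Derivation.leibniz, smul_eq_mul, smul_eq_mul]
  obtain ⟨t, ht⟩ := exists_bound (S := S) p.primeCompl D hDadd hDmul fun s =>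
    ⟨algebraMap S A (MvPowerSeries.pderiv k j s), by rw [hD, ← IsScalarTower.algebraMap_apply]⟩
  choose d hd using ht
  let N : Submodule A T := LinearMap.range (Algebra.linearMap A T)
  let δ : Derivation k A N := Derivation.mk'
    { toFun := fun a => ⟨algebraMap A T (d a), _, rfl⟩
      map_add' := fun a b => Subtype.ext (by
        show algebraMap A T (d (a + b)) = algebraMap A T (d a) + algebraMap A T (d b)
        simp only [hd, map_add, hDadd, mul_add])
      map_smul' := fun c a => Subtype.ext (by
        show algebraMap A T (d (c • a)) = c • algebraMap A T (d a)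
        have hc : D (algebraMap A T (algebraMap k A c)) = 0 := by
          rw [IsScalarTower.algebraMap_apply k S A, ← IsScalarTower.algebraMap_apply S A T, hD]
          rw [show MvPowerSeries.pderiv k j (algebraMap k S c) = 0 from Derivation.map_algebraMap _ _, map_zero]
        rw [hd, hd, Algebra.smul_def c a, map_mul, hDmul, hc, mul_zero, add_zero,
          Algebra.smul_def c, IsScalarTower.algebraMap_apply k A T]
        ring) }
    fun a b => Subtype.ext (by
      show algebraMap A T (d (a * b)) = a • algebraMap A T (d b) + b • algebraMap A T (d a)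
      rw [hd, hd, hd, map_mul, hDmul, Algebra.smul_def, Algebra.smul_def]
      ring)
  obtain ⟨φ, hφ⟩ := CKBase.exists_lift_completion δ
  refine ⟨t, N.subtype ∘ₗ φ, fun i => ?_⟩
  rw [LinearMap.comp_apply, hφ]
  show algebraMap A T (d _) = _
  rw [hd, ← IsScalarTower.algebraMap_apply S A T, hD, MvPowerSeries.pderiv_X, Pi.single_apply]
  split_ifs <;> simp <;> rfl

/-- Freeness at an etale prime. -/
theorem free_of_etale (p : Ideal A) [p.IsPrime] [IsLocalHom (algebraMap (MvPowerSeries (Fin n) k) A)]
    [Algebra.IsEtaleAt (MvPowerSeries (Fin n) k) p] :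
    Module.Free (Localization.AtPrime p) (LocalizedModule p.primeCompl (AdicCompletion (maximalIdeal A) (Ω[A⁄k]))) ∧
      Module.finrank (Localization.AtPrime p)
        (LocalizedModule p.primeCompl (AdicCompletion (maximalIdeal A) (Ω[A⁄k]))) = n := by
  classical
  let S := MvPowerSeries (Fin n) k
  let M := AdicCompletion (maximalIdeal A) (Ω[A⁄k])
  let f := LocalizedModule.mkLinearMap p.primeCompl M
  let m : Fin n → M := fun i => AdicCompletion.of (maximalIdeal A) (Ω[A⁄k])
    (KaehlerDifferential.D k A (algebraMap S A (MvPowerSeries.X i)))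
  haveI : Algebra.IsUnramifiedAt S p := (Algebra.FormallyEtale.iff_formallyUnramified_and_formallySmooth.1 inferInstance).1
  have hsp : Submodule.span (Localization.AtPrime p) (Set.range fun i => f (m i)) = ⊤ :=
    (CKRank.span_localized_eq_top_iff p m).2 fun ω => CKEtale.span_of_unramified p ω
  choose t φ hφ using fun j => exists_functional (k := k) (n := n) p j
  have hu : ∀ x : p.primeCompl, IsUnit (algebraMap A (Module.End A (Localization.AtPrime p)) x) :=
    IsLocalizedModule.map_units (Algebra.linearMap A (Localization.AtPrime p))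
  let Φ := fun j => (IsLocalizedModule.lift p.primeCompl f (φ j) hu).extendScalarsOfIsLocalization p.primeCompl (Localization.AtPrime p)
  have hΦ : ∀ j i, Φ j (f (m i)) = algebraMap A (Localization.AtPrime p) (t j) * (if i = j then 1 else 0) := fun j i =>
    (IsLocalizedModule.lift_apply p.primeCompl f (φ j) hu (m i)).trans (hφ j i)
  have hli : LinearIndependent (Localization.AtPrime p) fun i => f (m i) := Fintype.linearIndependent_iff.2 fun c hc j => by
    have h1 := congrArg (Φ j) hc
    simp only [map_sum, map_smul, hΦ, map_zero, smul_eq_mul, mul_ite, mul_one, mul_zero, Finset.sum_ite_eq',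
      Finset.mem_univ, if_true] at h1
    exact (IsUnit.mul_left_eq_zero (IsLocalization.map_units (Localization.AtPrime p) (t j))).1 h1
  let b := Module.Basis.mk hli hsp.ge
  exact ⟨Module.Free.of_basis b, by rw [Module.finrank_eq_card_basis b, Fintype.card_fin]⟩

omit [IsLocalRing A] [IsNoetherianRing A] [IsAdicComplete (maximalIdeal A) A] [Module.Finite k (ResidueField A)] in
/-- Geometric regularity at an etale prime. -/
theorem isGeometricallyRegular_of_etale [IsNoetherianRing A] (p : Ideal A) [p.IsPrime]
    [Algebra.IsEtaleAt (MvPowerSeries (Fin n) k) p] :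
    CAlg.IsGeometricallyRegular k (Localization.AtPrime p) := by
  let S := MvPowerSeries (Fin n) k
  let P := p.under S
  let Rp := Localization.AtPrime P
  let Sq := Localization.AtPrime p
  letI := Localization.AtPrime.algebraOfLiesOver P p
  haveI : IsLocalHom (algebraMap Rp Sq) := inferInstance
  haveI : IsScalarTower k Rp Sq := IsScalarTower.of_algebraMap_eq fun c => by
    rw [IsScalarTower.algebraMap_apply k S Rp, IsScalarTower.algebraMap_apply k S Sq,
      IsScalarTower.algebraMap_apply S Rp Sq]
  haveI : Algebra.FormallyEtale Rp Sq := Algebra.FormallyEtale.localization_base P.primeCompl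
  have hS : CAlgX.IsAdicFormallySmooth k S (maximalIdeal S) := by
    have hmax : maximalIdeal S =
        (⊥ : Ideal k).map (MvPowerSeries.C : k →+* MvPowerSeries (Fin n) k) ⊔
          RingHom.ker (MvPowerSeries.constantCoeff : MvPowerSeries (Fin n) k →+* k) := by
      rw [Ideal.map_bot, bot_sup_eq]
      exact (IsLocalRing.ker_eq_maximalIdeal _ fun c => ⟨MvPowerSeries.C c, by simp⟩).symm
    refine (Groth.Agent.H05EGA4.isFormallySmoothAdic_iff_isAdicFormallySmooth (⊥ : Ideal k) _ ⟨1, by rw [pow_one, Ideal.map_bot]; exact bot_le⟩).mp ?_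
    rw [hmax]
    exact Groth.Agent.S4533.result k ⊥ n
  have hP := Groth.Agent.S4574.result hS P
  refine isGeometricallyRegular_of_isAdicFormallySmooth fun C _ _ J hJ ψ hψ => ?_
  obtain ⟨e, he⟩ := hψ
  obtain ⟨χ₀, hχ₀⟩ := hP C J hJ (ψ.comp (IsScalarTower.toAlgHom k Rp Sq)) ⟨e, fun x hx => he _ (by
    have h1 := Ideal.mem_map_of_mem (algebraMap Rp Sq) hx
    rw [Ideal.map_pow] at h1
    exact Ideal.pow_right_mono (map_maximalIdeal_le _) e h1)⟩
  letI : Algebra Rp C := χ₀.toRingHom.toAlgebra
  haveI : IsScalarTower k Rp C := IsScalarTower.of_algebraMap_eq fun c => (χ₀.commutes c).symm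
  let ψ' : Sq →ₐ[Rp] C ⧸ J := { ψ.toRingHom with
    commutes' := fun r => (AlgHom.congr_fun hχ₀ r).symm }
  obtain ⟨χ, hχ⟩ := Algebra.FormallySmooth.comp_surjective Rp Sq J hJ ψ'
  exact ⟨χ.restrictScalars k, AlgHom.ext fun x => AlgHom.congr_fun hχ x⟩

end Groth.Agent.H05EGA4.CKFree
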