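import Groth.Agent.H05EGA4.CTensor
import Groth.Agent.H24Adic.Rig

/-! Homomorphisms out of adic completions of algebras, and localisations of quotients. -/

set_option autoImplicit false
set_option linter.style.haveILetI false
set_option maxHeartbeats 1000000

universe u

open IsLocalRing

namespace Groth.Agent.H05EGA4.CKLift

variable {R T : Type u} [CommRing R] [CommRing T] (I : Ideal R)

/-- A continuous homomorphism extends to the completion. -/
theorem exists_lift (V : Ideal T) [IsAdicComplete V T] (φ : R →+* T) (h : I.map φ ≤ V) :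
    ∃ Φ : AdicCompletion I R →+* T, ∀ x, Φ (algebraMap R _ x) = φ x := by
  have hle : ∀ j, I ^ j ≤ (V ^ j).comap φ := fun j => by
    rw [← Ideal.map_le_iff_le_comap, Ideal.map_pow]
    exact Ideal.pow_right_mono h j
  let f : ∀ j, AdicCompletion I R →+* T ⧸ V ^ j := fun j =>
    (Ideal.quotientMap (V ^ j) φ (hle j)).comp (AdicCompletion.evalₐ I j).toRingHom
  have hf : ∀ {a b : ℕ} (hab : a ≤ b), (Ideal.Quotient.factorPow V hab).comp (f b) = f a := by
    intro a b hab
    refine RingHom.ext fun c => ?_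
    obtain ⟨t, rfl⟩ := AdicCompletion.mk_surjective I R c
    simp only [f, RingHom.comp_apply, AlgHom.toRingHom_eq_coe, RingHom.coe_coe, AdicCompletion.evalₐ_mk,
      Ideal.quotientMap_mk]
    show Ideal.Quotient.mk (V ^ a) (φ (t.val b)) = _
    rw [Ideal.Quotient.eq, ← map_sub]
    refine hle a ?_
    have h := (SModEq.sub_mem.mp (t.2 hab).symm)
    rwa [smul_eq_mul, Ideal.mul_top] at h
  refine ⟨IsAdicComplete.liftRingHom V f hf, fun x => ?_⟩
  rw [← sub_eq_zero]
  refine IsHausdorff.haus (I := V) inferInstance _ fun j => ?_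
  rw [SModEq.zero, smul_eq_mul, Ideal.mul_top, ← Ideal.Quotient.eq, IsAdicComplete.mk_liftRingHom]
  simp only [f, RingHom.comp_apply, AlgHom.toRingHom_eq_coe, RingHom.coe_coe, AdicLim.evalₐ_algebraMap,
    Ideal.quotientMap_mk]

/-- Homomorphisms out of a completion are determined by the algebra. -/
theorem hom_ext (hI : I.FG) (V : Ideal T) [IsHausdorff V T] (f g : AdicCompletion I R →+* T)
    (hfg : ∀ x, f (algebraMap R _ x) = g (algebraMap R _ x))
    (hV : I.map (f.comp (algebraMap R (AdicCompletion I R))) ≤ V) : f = g := by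
  refine RingHom.ext fun c => sub_eq_zero.1 ?_
  refine IsHausdorff.haus (I := V) inferInstance _ fun j => ?_
  rw [SModEq.zero, smul_eq_mul, Ideal.mul_top]
  obtain ⟨x, hx⟩ := Ideal.Quotient.mk_surjective (AdicCompletion.evalₐ I j c)
  have hc : c - algebraMap R _ x ∈ (I.map (algebraMap R (AdicCompletion I R))) ^ j :=
    (AdicLim.ker_evalₐ hI j _).1 (by rw [map_sub, AdicLim.evalₐ_algebraMap, hx, sub_self])
  have hgV : (I.map (algebraMap R (AdicCompletion I R))).map g ≤ V := by
    rw [Ideal.map_map, show g.comp (algebraMap R (AdicCompletion I R)) = f.comp (algebraMap R (AdicCompletion I R)) from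
      RingHom.ext fun x => (hfg x).symm]
    exact hV
  have hfV : (I.map (algebraMap R (AdicCompletion I R))).map f ≤ V := by rw [Ideal.map_map]; exact hV
  have h1 : ∀ (e : AdicCompletion I R →+* T), (I.map (algebraMap R (AdicCompletion I R))).map e ≤ V →
      e (c - algebraMap R _ x) ∈ V ^ j := fun e he => by
    have := Ideal.mem_map_of_mem e hc
    rw [Ideal.map_pow] at this
    exact Ideal.pow_right_mono he j this
  have h2 := sub_mem (h1 f hfV) (h1 g hgV)
  rwa [map_sub, map_sub, hfg, sub_sub_sub_cancel_right] at h2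

/-- Localisation at a prime of a quotient by an ideal vanishing there. -/
theorem isLocalization_quotient (J : Ideal R) (P : Ideal R) [P.IsPrime]
    (hJ : ∀ x ∈ J, algebraMap R (Localization.AtPrime P) x = 0) :
    letI : Algebra (R ⧸ J) (Localization.AtPrime P) := (Ideal.Quotient.lift J (algebraMap R _) hJ).toAlgebra
    IsLocalization (P.primeCompl.map (Ideal.Quotient.mk J)) (Localization.AtPrime P) := by
  letI : Algebra (R ⧸ J) (Localization.AtPrime P) := (Ideal.Quotient.lift J (algebraMap R _) hJ).toAlgebra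
  refine ⟨⟨fun y => ?_, fun z => ?_, fun {a b} h => ?_⟩⟩
  · obtain ⟨_, x, hx, rfl⟩ := y
    exact IsLocalization.map_units (Localization.AtPrime P) (⟨x, hx⟩ : P.primeCompl)
  · obtain ⟨⟨a, s⟩, h⟩ := IsLocalization.surj P.primeCompl z
    exact ⟨(Ideal.Quotient.mk J a, ⟨Ideal.Quotient.mk J s, s, s.2, rfl⟩), h⟩
  · obtain ⟨a, rfl⟩ := Ideal.Quotient.mk_surjective a
    obtain ⟨b, rfl⟩ := Ideal.Quotient.mk_surjective b
    obtain ⟨c, hc⟩ := (IsLocalization.eq_iff_exists P.primeCompl (Localization.AtPrime P)).1 h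
    exact ⟨⟨Ideal.Quotient.mk J c, c, c.2, rfl⟩, by simp only [← map_mul, hc]⟩

theorem primeCompl_map_eq (J P : Ideal R) [P.IsPrime] (hle : J ≤ P) [hp : (P.map (Ideal.Quotient.mk J)).IsPrime] :
    (P.map (Ideal.Quotient.mk J)).primeCompl = P.primeCompl.map (Ideal.Quotient.mk J) := by
  ext x
  obtain ⟨x, rfl⟩ := Ideal.Quotient.mk_surjective x
  show Ideal.Quotient.mk J x ∉ P.map (Ideal.Quotient.mk J) ↔ _
  rw [Ideal.mem_quotient_iff_mem hle]
  constructor
  · exact fun hx => ⟨x, hx, rfl⟩
  · rintro ⟨y, hy, hyx⟩ hx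
    have := hle (Ideal.Quotient.eq.1 hyx)
    exact hy (by simpa using add_mem this hx)

theorem le_of_forall_eq_zero (J P : Ideal R) [P.IsPrime]
    (hJ : ∀ x ∈ J, algebraMap R (Localization.AtPrime P) x = 0) : J ≤ P := fun x hx => by
  by_contra hxP
  have := IsLocalization.map_units (Localization.AtPrime P) (⟨x, hxP⟩ : P.primeCompl)
  rw [hJ x hx] at this
  exact not_isUnit_zero this

/-- Regularity at a prime from the quotient. -/
theorem nonempty_equiv (J P : Ideal R) [P.IsPrime]
    (hJ : ∀ x ∈ J, algebraMap R (Localization.AtPrime P) x = 0) [hp : (P.map (Ideal.Quotient.mk J)).IsPrime] :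
    ∃ e : Localization.AtPrime (P.map (Ideal.Quotient.mk J)) ≃+* Localization.AtPrime P,
      ∀ x, e (algebraMap (R ⧸ J) _ (Ideal.Quotient.mk J x)) = algebraMap R _ x := by
  letI : Algebra (R ⧸ J) (Localization.AtPrime P) := (Ideal.Quotient.lift J (algebraMap R _) hJ).toAlgebra
  haveI : IsLocalization (P.map (Ideal.Quotient.mk J)).primeCompl (Localization.AtPrime P) := by
    rw [primeCompl_map_eq J P (le_of_forall_eq_zero J P hJ)]
    exact isLocalization_quotient J P hJ
  exact ⟨(IsLocalization.algEquiv (P.map (Ideal.Quotient.mk J)).primeCompl _ _).toRingEquiv,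
    fun x => ((IsLocalization.algEquiv (P.map (Ideal.Quotient.mk J)).primeCompl _ _).commutes _).trans rfl⟩

end Groth.Agent.H05EGA4.CKLift
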