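import Groth.Agent.H05EGA4.CKBase
import Groth.Agent.H05EGA4.IntegralDim
import Groth.Agent.H05EGA4.NagataJac
import Groth.Agent.H02CA.PowerSeries
import Groth.Agent.H24Adic.Rig
import Groth.Agent.S2460
import Mathlib.RingTheory.LocalRing.Module

/-! Fibres of the completed differentials. -/

set_option autoImplicit false
set_option linter.style.haveILetI false
set_option maxHeartbeats 1000000

open IsLocalRing TensorProduct

universe u

namespace Groth.Agent.H05EGA4.CKRank

variable {A M : Type u} [CommRing A] [AddCommGroup M] [Module A M]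

/-- Lifts of generators of the fibre generate after inverting an element outside the prime. -/
theorem exists_smul_mem_span [Module.Finite A M] (p : Ideal A) [p.IsPrime] {ι : Type*} (m : ι → M)
    (h : Submodule.span p.ResidueField (Set.range fun i => (1 : p.ResidueField) ⊗ₜ[A] m i) = ⊤) :
    ∃ t, t ∉ p ∧ ∀ x, t • x ∈ Submodule.span A (Set.range m) := by
  let N := Submodule.span A (Set.range m)
  let f : p.ResidueField ⊗[A] M →ₗ[p.ResidueField] p.ResidueField ⊗[A] (M ⧸ N) := N.mkQ.baseChange p.ResidueField
  have hf : Function.Surjective f := LinearMap.lTensor_surjective p.ResidueField N.mkQ_surjective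
  have h0 : Subsingleton (p.ResidueField ⊗[A] (M ⧸ N)) := by
    refine subsingleton_of_forall_eq 0 fun z => ?_
    obtain ⟨z, rfl⟩ := hf z
    have hz : z ∈ Submodule.span p.ResidueField (Set.range fun i => (1 : p.ResidueField) ⊗ₜ[A] m i) := h ▸ trivial
    have h1 : Submodule.span p.ResidueField (Set.range fun i => (1 : p.ResidueField) ⊗ₜ[A] m i) ≤ LinearMap.ker f := by
      rw [Submodule.span_le]
      rintro _ ⟨i, rfl⟩
      show N.mkQ.baseChange p.ResidueField (1 ⊗ₜ m i) = 0
      rw [LinearMap.baseChange_tmul, Submodule.mkQ_apply,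
        (Submodule.Quotient.mk_eq_zero N).2 (Submodule.subset_span ⟨i, rfl⟩), tmul_zero]
    exact LinearMap.mem_ker.1 (h1 hz)
  have h1 : ¬ Module.annihilator A (M ⧸ N) ≤ (⟨p, inferInstance⟩ : PrimeSpectrum A).asIdeal := fun hle => by
    have h2 := (Module.mem_support_iff_nontrivial_residueField_tensorProduct _).1
      (Module.mem_support_iff_of_finite.2 hle)
    exact not_subsingleton _ h0
  obtain ⟨t, ht, htp⟩ := SetLike.not_le_iff_exists.1 h1
  refine ⟨t, htp, fun x => ?_⟩
  rw [← Submodule.Quotient.mk_eq_zero N, Submodule.Quotient.mk_smul]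
  exact Module.mem_annihilator.1 ht _

theorem span_range_one_tmul (p : Ideal A) [p.IsPrime] :
    Submodule.span p.ResidueField (Set.range fun x : M => (1 : p.ResidueField) ⊗ₜ[A] x) = ⊤ := by
  rw [eq_top_iff]
  intro z _
  induction z with
  | zero => exact zero_mem _
  | tmul c x =>
    rw [show c ⊗ₜ[A] x = c • ((1 : p.ResidueField) ⊗ₜ[A] x) by rw [TensorProduct.smul_tmul', smul_eq_mul, mul_one]]
    exact Submodule.smul_mem _ _ (Submodule.subset_span ⟨x, rfl⟩)
  | add x y hx hy => exact add_mem (hx trivial) (hy trivial)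

/-- Generators at a prime. -/
theorem exists_generators [Module.Finite A M] (p : Ideal A) [p.IsPrime] :
    ∃ m : Fin (Module.finrank p.ResidueField (p.ResidueField ⊗[A] M)) → M,
      Submodule.span p.ResidueField (Set.range fun i => (1 : p.ResidueField) ⊗ₜ[A] m i) = ⊤ := by
  classical
  obtain ⟨b, hb, hbs, hind⟩ := exists_linearIndependent p.ResidueField (Set.range fun x : M => (1 : p.ResidueField) ⊗ₜ[A] x)
  rw [span_range_one_tmul] at hbs
  haveI : Finite b := hind.finite
  haveI := Fintype.ofFinite b
  let B := Module.Basis.mk hind (by rw [Subtype.range_coe, hbs])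
  let σ : Fin (Module.finrank p.ResidueField (p.ResidueField ⊗[A] M)) ≃ b := Fintype.equivOfCardEq (by
    rw [Fintype.card_fin, Module.finrank_eq_card_basis B])
  choose m hm using fun i => hb (σ i).2
  refine ⟨m, ?_⟩
  rw [← hbs]
  congr 1
  ext z
  constructor
  · rintro ⟨i, rfl⟩
    exact (hm i).symm ▸ (σ i).2
  · intro hz
    exact ⟨σ.symm ⟨z, hz⟩, (hm _).trans (by rw [Equiv.apply_symm_apply])⟩

/-- Generation of the localisation. -/
theorem span_localized_eq_top_iff (p : Ideal A) [p.IsPrime] {ι : Type*} (m : ι → M) :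
    Submodule.span (Localization.AtPrime p) (Set.range fun i => LocalizedModule.mkLinearMap p.primeCompl M (m i)) = ⊤ ↔
      ∀ x, ∃ t, t ∉ p ∧ t • x ∈ Submodule.span A (Set.range m) := by
  let f := LocalizedModule.mkLinearMap p.primeCompl M
  constructor
  · intro h x
    have key : ∀ z ∈ Submodule.span (Localization.AtPrime p) (Set.range fun i => f (m i)),
        ∃ t : p.primeCompl, ∃ y ∈ Submodule.span A (Set.range m), t • z = f y := fun z hz => by
      induction hz using Submodule.span_induction with
      | mem z hz =>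
        obtain ⟨i, rfl⟩ := hz
        exact ⟨1, m i, Submodule.subset_span ⟨i, rfl⟩, one_smul _ _⟩
      | zero => exact ⟨1, 0, zero_mem _, by rw [one_smul, map_zero]⟩
      | add z w _ _ hz hw =>
        obtain ⟨t, y, hy, ht⟩ := hz
        obtain ⟨t', y', hy', ht'⟩ := hw
        refine ⟨t * t', (t' : A) • y + (t : A) • y', add_mem (Submodule.smul_mem _ _ hy) (Submodule.smul_mem _ _ hy'), ?_⟩
        rw [map_add, map_smul, map_smul, ← ht, ← ht']
        simp only [Submonoid.smul_def, Submonoid.coe_mul, smul_add, smul_smul, mul_comm]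
      | smul c z _ hz =>
        obtain ⟨t, y, hy, ht⟩ := hz
        obtain ⟨⟨a, s⟩, has⟩ := IsLocalization.surj p.primeCompl c
        refine ⟨s * t, a • y, Submodule.smul_mem _ _ hy, ?_⟩
        rw [map_smul, ← ht, Submonoid.smul_def, Submonoid.smul_def, Submonoid.coe_mul,
          ← algebraMap_smul (Localization.AtPrime p) a, ← algebraMap_smul (Localization.AtPrime p) ((s : A) * t),
          ← algebraMap_smul (Localization.AtPrime p) (t : A) z, smul_smul, smul_smul, ← has, map_mul]
        ring_nf
    obtain ⟨t, y, hy, ht⟩ := key (f x) (h ▸ trivial)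
    rw [Submonoid.smul_def, ← map_smul] at ht
    obtain ⟨u, hu⟩ := (IsLocalizedModule.eq_iff_exists p.primeCompl f).1 ht
    refine ⟨(u : A) * t, fun h' => ((inferInstance : p.IsPrime).mem_or_mem h').elim u.2 t.2, ?_⟩
    rw [mul_smul]
    have : (u : A) • (t : A) • x = (u : A) • y := hu
    rw [this]
    exact Submodule.smul_mem _ _ hy
  · intro h
    rw [eq_top_iff]
    intro z _
    obtain ⟨⟨x, s⟩, rfl⟩ := IsLocalizedModule.mk'_surjective p.primeCompl f z
    obtain ⟨t, ht, htx⟩ := h x
    have h1 : f (t • x) ∈ Submodule.span (Localization.AtPrime p) (Set.range fun i => f (m i)) := by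
      have h2 := Submodule.mem_map_of_mem (f := f) htx
      rw [Submodule.map_span, ← Set.range_comp] at h2
      exact Submodule.span_le_restrictScalars A (Localization.AtPrime p) _ h2
    have h3 : IsLocalizedModule.mk' f x s =
        (IsLocalization.mk' (Localization.AtPrime p) 1 (s * ⟨t, ht⟩)) • f (t • x) := by
      rw [← IsLocalizedModule.mk'_one p.primeCompl f (t • x), IsLocalizedModule.mk'_smul_mk' (A := Localization.AtPrime p),
        one_smul, IsLocalizedModule.mk'_eq_mk'_iff]
      exact ⟨1, by simp [Submonoid.smul_def, smul_smul, mul_comm]⟩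
    show IsLocalizedModule.mk' f x s ∈ _
    rw [h3]
    exact Submodule.smul_mem _ _ h1

theorem span_tmul_eq_top (p : Ideal A) [p.IsPrime] {ι : Type*} (m : ι → M)
    (h : ∀ x, ∃ t, t ∉ p ∧ t • x ∈ Submodule.span A (Set.range m)) :
    Submodule.span p.ResidueField (Set.range fun i => (1 : p.ResidueField) ⊗ₜ[A] m i) = ⊤ := by
  rw [eq_top_iff, ← span_range_one_tmul p, Submodule.span_le]
  rintro _ ⟨x, rfl⟩
  obtain ⟨t, ht, htx⟩ := h x
  have h2 : (1 : p.ResidueField) ⊗ₜ[A] (t • x) ∈ Submodule.span p.ResidueField (Set.range fun i => (1 : p.ResidueField) ⊗ₜ[A] m i) := by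
    have h1 := Submodule.mem_map_of_mem (f := TensorProduct.mk A p.ResidueField M 1) htx
    rw [Submodule.map_span, ← Set.range_comp] at h1
    exact Submodule.span_le_restrictScalars A p.ResidueField _ h1
  rw [TensorProduct.tmul_smul] at h2
  have ht0 : algebraMap A p.ResidueField t ≠ 0 := fun h0 => ht (Ideal.algebraMap_residueField_eq_zero.1 h0)
  rw [← algebraMap_smul p.ResidueField t] at h2
  have h3 := Submodule.smul_mem _ (algebraMap A p.ResidueField t)⁻¹ h2
  rwa [smul_smul, inv_mul_cancel₀ ht0, one_smul] at h3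

/-- Independent derivations into a domain quotient below a prime bound the fibre from below. -/
theorem le_finrank {k : Type u} [Field k] [IsLocalRing A] [IsNoetherianRing A] [Algebra k A]
    [IsAdicComplete (maximalIdeal A) A] [Module.Finite k (ResidueField A)] (p q : Ideal A) [p.IsPrime] [q.IsPrime]
    (hqp : q ≤ p) {s : ℕ} (δ : Fin s → Derivation k A (A ⧸ q))
    (hind : ∀ c : Fin s → FractionRing (A ⧸ q), (∀ a, ∑ i, c i * algebraMap (A ⧸ q) _ (δ i a) = 0) → c = 0) :
    s ≤ Module.finrank p.ResidueField (p.ResidueField ⊗[A] AdicCompletion (maximalIdeal A) (Ω[A⁄k])) := by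
  haveI := (CKBase.finite_and_surjective k A).1
  obtain ⟨m, hm⟩ := exists_generators (M := AdicCompletion (maximalIdeal A) (Ω[A⁄k])) p
  obtain ⟨t, ht, htm⟩ := exists_smul_mem_span p m hm
  choose φ hφ using fun i => CKBase.exists_lift_completion (δ i)
  let L := FractionRing (A ⧸ q)
  let E : (Fin s → L) →ₗ[L] (Fin (Module.finrank p.ResidueField (p.ResidueField ⊗[A] AdicCompletion (maximalIdeal A) (Ω[A⁄k]))) → L) :=
    LinearMap.pi fun j => ∑ i, algebraMap (A ⧸ q) L (φ i (m j)) • LinearMap.proj i
  have hsm : ∀ (r : A) z i, algebraMap (A ⧸ q) L (φ i (r • z)) = algebraMap A L r * algebraMap (A ⧸ q) L (φ i z) := fun r z i => by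
    rw [map_smul, Algebra.smul_def, map_mul, ← IsScalarTower.algebraMap_apply A (A ⧸ q) L]
  have hpull : ∀ (r : L) (c x : Fin s → L), ∑ i, c i * (r * x i) = r * ∑ i, c i * x i := fun r c x => by
    rw [Finset.mul_sum]
    exact Finset.sum_congr rfl fun _ _ => by ring
  have hE : Function.Injective E := (injective_iff_map_eq_zero _).2 fun c hc => hind c fun a => by
    have h1 : ∀ z ∈ Submodule.span A (Set.range m), ∑ i, c i * algebraMap (A ⧸ q) L (φ i z) = 0 := fun z hz => by
      induction hz using Submodule.span_induction with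
      | mem z hz =>
        obtain ⟨j, rfl⟩ := hz
        have h := congrFun hc j
        simp only [E, LinearMap.pi_apply, LinearMap.sum_apply, LinearMap.smul_apply, LinearMap.proj_apply, smul_eq_mul,
          Pi.zero_apply] at h
        exact (Finset.sum_congr rfl fun i _ => mul_comm _ _).trans h
      | zero => simp
      | add z w _ _ hz hw => simp [mul_add, Finset.sum_add_distrib, hz, hw]
      | smul r z _ hz => simp only [hsm, hpull, hz, mul_zero]
    have h2 := h1 _ (htm (AdicCompletion.of _ _ (KaehlerDifferential.D k A a)))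
    simp only [hsm, hpull, hφ] at h2
    refine (mul_eq_zero.1 h2).resolve_left fun h0 => ht (hqp ?_)
    rw [IsScalarTower.algebraMap_apply A (A ⧸ q) L] at h0
    exact Ideal.Quotient.eq_zero_iff_mem.1 (IsFractionRing.injective (A ⧸ q) L (h0.trans (map_zero _).symm))
  simpa using LinearMap.finrank_le_finrank_of_injective hE

end Groth.Agent.H05EGA4.CKRank

namespace Groth.Agent.H05EGA4.CKRank

/-- Independent derivations into a quotient by a prime, in number its dimension. -/
theorem exists_derivations_quotient (k A : Type u) [Field k] [CommRing A] [IsLocalRing A] [IsNoetherianRing A]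
    [Algebra k A] [IsAdicComplete (maximalIdeal A) A] [Module.Finite k (ResidueField A)] (q : Ideal A) [q.IsPrime] :
    ∃ (s : ℕ) (δ : Fin s → Derivation k A (A ⧸ q)), ringKrullDim (A ⧸ q) = s ∧
      ∀ c : Fin s → FractionRing (A ⧸ q), (∀ a, ∑ i, c i * algebraMap (A ⧸ q) _ (δ i a) = 0) → c = 0 := by
  haveI : IsLocalRing (A ⧸ q) := .of_surjective' _ Ideal.Quotient.mk_surjective
  haveI : IsAdicComplete (maximalIdeal (A ⧸ q)) (A ⧸ q) := by
    rw [← IsLocalRing.map_maximalIdeal_of_surjective _ (Ideal.Quotient.mk_surjective (I := q))]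
    exact H24Adic.isAdicComplete_map_quotient q
  haveI : IsLocalHom (Ideal.Quotient.mk q) := IsLocalHom.of_surjective _ Ideal.Quotient.mk_surjective
  haveI : Module.Finite k (ResidueField (A ⧸ q)) :=
    Module.Finite.of_surjective (AlgHom.toLinearMap
      { ResidueField.map (Ideal.Quotient.mk q) with commutes' := fun r => rfl } :
        ResidueField A →ₗ[k] ResidueField (A ⧸ q))
      (fun z => by
        obtain ⟨z, rfl⟩ := residue_surjective z
        obtain ⟨z, rfl⟩ := Ideal.Quotient.mk_surjective z
        exact ⟨residue A z, rfl⟩)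
  obtain ⟨s, w, hw, -, hwf⟩ := S2460.result (k₀ := k) (A := A ⧸ q)
  letI : Algebra (MvPowerSeries (Fin s) k) (A ⧸ q) := w.toRingHom.toAlgebra
  haveI : IsScalarTower k (MvPowerSeries (Fin s) k) (A ⧸ q) := IsScalarTower.of_algebraMap_eq fun c => (w.commutes c).symm
  haveI : Module.Finite (MvPowerSeries (Fin s) k) (A ⧸ q) := hwf
  obtain ⟨δ, hδ⟩ := CKBase.exists_derivations (s := s) (A ⧸ q) (FractionRing (A ⧸ q)) hw
  refine ⟨s, fun i => (δ i).compAlgebraMap A, ?_, fun c hc => hδ c fun r => ?_⟩
  · rw [(dim_int (MvPowerSeries (Fin s) k) (A ⧸ q)).2 hw, H02CA.PS.ringKrullDim_eq]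
    rfl
  · obtain ⟨a, rfl⟩ := Ideal.Quotient.mk_surjective r
    exact hc a

end Groth.Agent.H05EGA4.CKRank
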