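import Mathlib
import Groth.Agent.S2598
import Groth.Agent.H1CAlg.FlatDepthModule
import Groth.Agent.H05EGA4.DepthMisc
import Groth.Agent.H05EGA4.CodepthOpen
import Groth.Agent.H05EGA4.FlatDim

/-!
Depth and dimension of `F ⊗ E` at a point (EGA IV 6.3, 6.4).
-/

set_option autoImplicit false
set_option linter.style.haveILetI false
set_option linter.unusedSectionVars false
universe u
open TensorProduct IsLocalRing LocCoh Pointwise

namespace Groth.Agent.H05EGA4.FlatSk

variable {A B : Type u} [CommRing A] [CommRing B] [Algebra A B]
variable (F : Type u) [AddCommGroup F] [Module B F] [Module A F] [IsScalarTower A B F]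

theorem flat_tensor_flat (C : Type u) [CommRing C] [Algebra B C] [Algebra A C] [IsScalarTower A B C] [Module.Flat B C]
    [Module.Flat A F] : Module.Flat A (C ⊗[B] F) := by
  rw [Module.Flat.iff_lTensor_preserves_injective_linearMap]
  intro X Y _ _ _ _ g hg
  let eX := AlgebraTensorModule.assoc A B B C F X
  let eY := AlgebraTensorModule.assoc A B B C F Y
  let g' : F ⊗[A] X →ₗ[B] F ⊗[A] Y := AlgebraTensorModule.lTensor B F g
  have hg' : Function.Injective g' := Module.Flat.lTensor_preserves_injective_linearMap (M := F) g hg
  have hcomm : ∀ z, eY (g.lTensor (C ⊗[B] F) z) = g'.lTensor C (eX z) := fun z => by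
    induction z with
    | zero => simp
    | add a b ha hb => simp [ha, hb]
    | tmul w x =>
      induction w with
      | zero => simp
      | add a b ha hb => simp only [add_tmul, map_add, ha, hb]
      | tmul c f => rfl
  intro z z' h
  refine eX.injective (Module.Flat.lTensor_preserves_injective_linearMap (M := C) g' hg' ?_)
  rw [← hcomm, ← hcomm, h]

variable [IsNoetherianRing A] [IsNoetherianRing B]
variable (E : Type u) [AddCommGroup E] [Module A E] [Module.Finite A E] [Module.Finite B F] [Module.Flat A F]

/-- The formulas at a point of `supp F`. -/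
theorem formulas (r : Ideal B) [r.IsPrime] (hrF : (⟨r, inferInstance⟩ : PrimeSpectrum B) ∈ Module.support B F) :
    (((depth (Localization.AtPrime r) (LocalizedModule r.primeCompl (F ⊗[A] E)) : ℕ∞) : WithBot ℕ∞) =
        ((depth (Localization.AtPrime (r.comap (algebraMap A B))) (LocalizedModule (r.comap (algebraMap A B)).primeCompl E) : ℕ∞) : WithBot ℕ∞) +
        ((depth (Localization.AtPrime r) (EGA4.FibLocMod A B r F) : ℕ∞) : WithBot ℕ∞)) ∧
      Module.supportDim (Localization.AtPrime r) (LocalizedModule r.primeCompl (F ⊗[A] E)) =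
        Module.supportDim (Localization.AtPrime (r.comap (algebraMap A B))) (LocalizedModule (r.comap (algebraMap A B)).primeCompl E) +
          Module.supportDim (Localization.AtPrime r) (EGA4.FibLocMod A B r F) ∧
      Nontrivial (EGA4.FibLocMod A B r F) := by
  set s := r.comap (algebraMap A B) with hs
  haveI : r.LiesOver s := ⟨rfl⟩
  letI := Localization.AtPrime.algebraOfLiesOver s r
  haveI : IsLocalHom (algebraMap (Localization.AtPrime s) (Localization.AtPrime r)) := by
    rw [Localization.AtPrime.IsLiesOverAlgebra.algebraMap_eq]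
    infer_instance
  let Fr := LocalizedModule r.primeCompl F
  haveI : Nontrivial Fr := Module.mem_support_iff.mp hrF
  haveI : Module.Finite (Localization.AtPrime r) Fr := module_finite_localizedModule r F
  letI : Module (Localization.AtPrime s) Fr := Module.compHom Fr (algebraMap (Localization.AtPrime s) (Localization.AtPrime r))
  haveI : IsScalarTower (Localization.AtPrime s) (Localization.AtPrime r) Fr := IsScalarTower.of_algebraMap_smul fun _ _ => rfl
  haveI : IsScalarTower A (Localization.AtPrime r) Fr := IsScalarTower.of_algebraMap_smul fun a x => by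
    rw [IsScalarTower.algebraMap_apply A B (Localization.AtPrime r), algebraMap_smul, algebraMap_smul]
  haveI : IsScalarTower A (Localization.AtPrime s) Fr := IsScalarTower.of_algebraMap_smul fun a x => by
    show algebraMap (Localization.AtPrime s) (Localization.AtPrime r) (algebraMap A (Localization.AtPrime s) a) • x = a • x
    rw [← IsScalarTower.algebraMap_apply, algebraMap_smul]
  let eF : Fr ≃ₗ[Localization.AtPrime r] Localization.AtPrime r ⊗[B] F := LocalizedModule.equivTensorProduct r.primeCompl F
  haveI : Module.Flat (Localization.AtPrime s) Fr := by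
    haveI := flat_tensor_flat (A := A) (B := B) F (Localization.AtPrime r)
    haveI : Module.Flat A Fr := Module.Flat.of_linearEquiv (eF.restrictScalars A)
    exact (Module.flat_iff_of_isLocalization (Localization.AtPrime s) s.primeCompl Fr).mpr inferInstance
  haveI : Module.Finite (Localization.AtPrime s) (LocalizedModule s.primeCompl E) := module_finite_localizedModule s E
  haveI : Module.Finite B (F ⊗[A] E) := FlatDim.finite_tensor E
  let e : (Fr ⊗[Localization.AtPrime s] LocalizedModule s.primeCompl E) ≃ₗ[Localization.AtPrime r]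
      LocalizedModule r.primeCompl (F ⊗[A] E) :=
    (AlgebraTensorModule.congr (LinearEquiv.refl (Localization.AtPrime r) Fr) (LocalizedModule.equivTensorProduct s.primeCompl E)) ≪≫ₗ
    (AlgebraTensorModule.cancelBaseChange A (Localization.AtPrime s) (Localization.AtPrime r) Fr E) ≪≫ₗ
    (AlgebraTensorModule.congr eF (LinearEquiv.refl A E)) ≪≫ₗ
    (AlgebraTensorModule.assoc A B (Localization.AtPrime r) (Localization.AtPrime r) F E) ≪≫ₗ
    (LocalizedModule.equivTensorProduct r.primeCompl (F ⊗[A] E)).symm
  have heq : (maximalIdeal (Localization.AtPrime s)).map (algebraMap (Localization.AtPrime s) (Localization.AtPrime r)) =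
      s.map (algebraMap A (Localization.AtPrime r)) := by
    rw [← Localization.AtPrime.map_eq_maximalIdeal, Ideal.map_map, ← IsScalarTower.algebraMap_eq]
  let e2 : EGA4.FibMod (Localization.AtPrime s) (Localization.AtPrime r) Fr ≃ₗ[Localization.AtPrime r] EGA4.FibLocMod A B r F :=
    Submodule.quotEquivOfEq _ _ (congrArg (fun J => J • (⊤ : Submodule (Localization.AtPrime r) Fr)) heq)
  haveI : Nontrivial (EGA4.FibMod (Localization.AtPrime s) (Localization.AtPrime r) Fr) :=
    Submodule.Quotient.nontrivial_iff.mpr (H1CAlg.FlatDepthModule.smul_top_ne_top (map_maximalIdeal_le _))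
  refine ⟨?_, ?_, e2.toEquiv.symm.nontrivial⟩
  · rw [← H4Depth.depth_congr e, H1CAlg.FlatDepthModule.depth_tensor, ← H4Depth.depth_congr e2, WithBot.coe_add]
  · rcases subsingleton_or_nontrivial (LocalizedModule s.primeCompl E) with hE | hE
    · haveI : Subsingleton (LocalizedModule r.primeCompl (F ⊗[A] E)) := e.toEquiv.symm.subsingleton
      rw [(Module.supportDim_eq_bot_iff_subsingleton _ _).mpr inferInstance,
        (Module.supportDim_eq_bot_iff_subsingleton (Localization.AtPrime s) (LocalizedModule s.primeCompl E)).mpr hE, WithBot.bot_add]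
    · rw [← Module.supportDim_eq_of_equiv e, ← Module.supportDim_eq_of_equiv e2]
      exact Groth.Agent.S2598.result (Localization.AtPrime s) (Localization.AtPrime r) (LocalizedModule s.primeCompl E) Fr

theorem min_le_min_add {n : ℕ} {a b : WithBot ℕ∞} {c d : ℕ∞} (h1 : min (n : WithBot ℕ∞) a ≤ c)
    (h2 : min (n : WithBot ℕ∞) b ≤ d) : min (n : WithBot ℕ∞) (a + b) ≤ ((c : WithBot ℕ∞) + (d : WithBot ℕ∞)) := by
  induction a using WithBot.recBotCoe with
  | bot => simp
  | coe a =>
    induction b using WithBot.recBotCoe with
    | bot => simp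
    | coe b =>
      rcases le_or_gt (n : ℕ∞) (c + d) with h | h
      · exact min_le_left _ _ |>.trans (by exact_mod_cast h)
      · have h1' : min (n : ℕ∞) a ≤ c := by exact_mod_cast h1
        have h2' : min (n : ℕ∞) b ≤ d := by exact_mod_cast h2
        have ha : a ≤ c := (min_le_iff.mp h1').resolve_left (not_le.mpr (lt_of_le_of_lt le_self_add h))
        have hb : b ≤ d := (min_le_iff.mp h2').resolve_left (not_le.mpr (lt_of_le_of_lt le_add_self h))
        exact (min_le_right _ _).trans (by exact_mod_cast add_le_add ha hb)

theorem supportDim_eq_zero_of_unique {R M : Type u} [CommRing R] [AddCommGroup M] [Module R M] [Nontrivial M]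
    [Subsingleton (Module.support R M)] : Module.supportDim R M = 0 := by
  haveI : Nonempty (Module.support R M) := ((Module.nonempty_support_iff (R := R)).mpr ‹_›).to_subtype
  exact Order.krullDim_eq_zero

/-- `(S_k)` at a prime of `supp F` for `F ⊗ E` descends. -/
theorem hasSkAt_base (k : ℕ) (q : PrimeSpectrum B) (hq : q ∈ Module.support B F)
    (h : EGA4.HasSkAt k B (F ⊗[A] E) q.asIdeal) : EGA4.HasSkAt k A E (q.asIdeal.comap (algebraMap A B)) := by
  haveI : Module.Finite B (F ⊗[A] E) := FlatDim.finite_tensor E
  rw [hasSkAt_iff_forall_le] at h ⊢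
  intro s hs
  obtain ⟨Q, hQ, hQq, hQs⟩ := FlatDim.goingDown_support (A := A) q hq s hs
  have hQle : s.asIdeal.map (algebraMap A B) ⊔ Module.annihilator B F ≤ Q.asIdeal := by
    rw [Module.support_eq_zeroLocus] at hQ
    exact sup_le (Ideal.map_le_iff_le_comap.mpr (by rw [← hQs]; rfl)) hQ
  obtain ⟨r, hr, hrQ⟩ := Ideal.exists_minimalPrimes_le hQle
  haveI := hr.isPrime
  have hrs : r.comap (algebraMap A B) = s.asIdeal :=
    le_antisymm ((Ideal.comap_mono hrQ).trans (by rw [← hQs]; rfl))
      (Ideal.map_le_iff_le_comap.mp (le_sup_left.trans hr.1.2))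
  have hrF : (⟨r, inferInstance⟩ : PrimeSpectrum B) ∈ Module.support B F := by
    rw [Module.support_eq_zeroLocus]
    exact le_sup_right.trans hr.1.2
  obtain ⟨hd, hsd, hnt⟩ := formulas (A := A) F E r hrF
  haveI := hnt
  haveI : Module.Finite (Localization.AtPrime r) (LocalizedModule r.primeCompl F) := module_finite_localizedModule r F
  haveI : Subsingleton (Module.support (Localization.AtPrime r) (EGA4.FibLocMod A B r F)) := by
    have huniq : ∀ P : PrimeSpectrum (Localization.AtPrime r),
        P ∈ Module.support (Localization.AtPrime r) (EGA4.FibLocMod A B r F) →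
          P.asIdeal = maximalIdeal (Localization.AtPrime r) := by
      intro P hP
      have hP' : P ∈ Module.support (Localization.AtPrime r) (LocalizedModule r.primeCompl F) ∩
          PrimeSpectrum.zeroLocus (((r.comap (algebraMap A B)).map (algebraMap A (Localization.AtPrime r)) :
            Ideal (Localization.AtPrime r)) : Set (Localization.AtPrime r)) := by
        rw [← Module.support_quotient]
        exact hP
      obtain ⟨hP1, hP2⟩ := hP'
      rw [Module.support_eq_zeroLocus] at hP1
      have hle : P.asIdeal.comap (algebraMap B (Localization.AtPrime r)) ≤ r := fun b hb => by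
        by_contra hbr
        exact P.2.ne_top (Ideal.eq_top_of_isUnit_mem _ hb
          (IsLocalization.map_units (Localization.AtPrime r) (⟨b, hbr⟩ : r.primeCompl)))
      have hge : s.asIdeal.map (algebraMap A B) ⊔ Module.annihilator B F ≤
          P.asIdeal.comap (algebraMap B (Localization.AtPrime r)) := by
        refine sup_le (Ideal.map_le_iff_le_comap.mpr fun a ha => ?_) fun b hb => ?_
        · refine hP2 ?_
          rw [← IsScalarTower.algebraMap_apply]
          exact Ideal.mem_map_of_mem _ (hrs.ge ha)
        · refine hP1 (Module.mem_annihilator.mpr fun x => ?_)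
          induction x using LocalizedModule.induction_on with
          | h m t => rw [algebraMap_smul, LocalizedModule.smul'_mk, Module.mem_annihilator.mp hb m, LocalizedModule.zero_mk]
      have := le_antisymm hle (hr.2 ⟨inferInstance, hge⟩ hle)
      rw [← IsLocalization.map_under r.primeCompl (Localization.AtPrime r) P.asIdeal,
        ← Localization.AtPrime.map_eq_maximalIdeal]
      exact congrArg _ this
    exact ⟨fun x y => Subtype.ext (PrimeSpectrum.ext ((huniq x.1 x.2).trans (huniq y.1 y.2).symm))⟩
  have hz := supportDim_eq_zero_of_unique (R := Localization.AtPrime r) (M := EGA4.FibLocMod A B r F)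
  have hdz : depth (Localization.AtPrime r) (EGA4.FibLocMod A B r F) = 0 := by
    have := H4Depth.depth_le_supportDim (R := Localization.AtPrime r) (M := EGA4.FibLocMod A B r F)
    rw [hz] at this
    exact nonpos_iff_eq_zero.mp (by exact_mod_cast this)
  rw [hdz, WithBot.coe_zero, add_zero] at hd
  rw [hz, add_zero] at hsd
  have := h ⟨r, inferInstance⟩ (hrQ.trans hQq)
  simp only [sdAt, dpAt, hd, hsd] at this
  have hE : sdAt s.asIdeal E = sdAt (r.comap (algebraMap A B)) E ∧ dpAt s.asIdeal E = dpAt (r.comap (algebraMap A B)) E :=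
    (dpAt_congr E hrs.symm).symm
  rw [hE.1, hE.2]
  exact this

/-- `(S_k)` for `F ⊗ E` from the base and the fibres. -/
theorem hasSkAt_tensor (k : ℕ)
    (hfib : ∀ (q : Ideal B) [q.IsPrime], LocCoh.HasSk k (EGA4.FibLocRing A B q) (EGA4.FibLocMod A B q F))
    (q : Ideal B) [q.IsPrime] (hE : EGA4.HasSkAt k A E (q.comap (algebraMap A B))) :
    EGA4.HasSkAt k B (F ⊗[A] E) q := by
  haveI : Module.Finite B (F ⊗[A] E) := FlatDim.finite_tensor E
  rw [hasSkAt_iff_forall_le] at hE ⊢
  intro r hrq
  by_cases hrF : r ∈ Module.support B F
  · obtain ⟨hd, hsd, hnt⟩ := formulas (A := A) F E r.asIdeal hrF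
    haveI := hnt
    simp only [sdAt, dpAt, hd, hsd]
    refine min_le_min_add (hE (PrimeSpectrum.comap (algebraMap A B) r) (Ideal.comap_mono hrq)) ?_
    let R := Localization.AtPrime r.asIdeal
    let I : Ideal R := (r.asIdeal.comap (algebraMap A B)).map (algebraMap A R)
    haveI : Nontrivial (R ⧸ I) := Ideal.Quotient.nontrivial_iff.mpr fun hI => by
      have : EGA4.FibLocMod A B r.asIdeal F = (LocalizedModule r.asIdeal.primeCompl F ⧸
        (I • (⊤ : Submodule R (LocalizedModule r.asIdeal.primeCompl F)))) := rfl
      refine not_subsingleton (EGA4.FibLocMod A B r.asIdeal F) ?_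
      rw [this, hI, Submodule.top_smul]
      exact Submodule.Quotient.subsingleton_iff.mpr rfl
    let C := EGA4.FibLocRing A B r.asIdeal
    let M := EGA4.FibLocMod A B r.asIdeal F
    haveI : IsLocalRing C := IsLocalRing.of_surjective' (Ideal.Quotient.mk I) Ideal.Quotient.mk_surjective
    haveI : Module.Finite R (LocalizedModule r.asIdeal.primeCompl F) := module_finite_localizedModule r.asIdeal F
    haveI : Module.Finite C M := Module.Finite.of_restrictScalars_finite R C M
    haveI : IsLocalization.AtPrime C (maximalIdeal C) :=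
      IsLocalization.of_le_isUnit fun x hx => not_not.mp fun hn => hx ((mem_maximalIdeal x).mpr hn)
    have hbc : IsBaseChange C (LinearMap.id : M →ₗ[C] M) := IsBaseChange.ofEquiv (LinearEquiv.refl C M)
    obtain ⟨h1, h2⟩ := dpAt_sdAt_of_isBaseChange (maximalIdeal C) C (LinearMap.id : M →ₗ[C] M) hbc
    have hs : Function.Surjective (algebraMap R C) := Ideal.Quotient.mk_surjective
    rw [← H8Props.FlatDepth.depth_eq_of_surjective (R := R) (S := C) (M := M) hs,
      ← supportDim_eq_of_surjective (R := R) (S := C) (M := M) hs]
    have := hfib r.asIdeal (maximalIdeal C)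
    rw [h1, h2]
    exact this
  · haveI : Subsingleton (LocalizedModule r.asIdeal.primeCompl (F ⊗[A] E)) :=
      Module.notMem_support_iff.mp fun hm => hrF ((FlatDim.mem_support_tensor r).mp hm).1
    simp only [sdAt]
    rw [Module.supportDim_eq_bot_of_subsingleton]
    exact min_le_right _ _ |>.trans bot_le

end Groth.Agent.H05EGA4.FlatSk
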