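import Mathlib
import Groth.Agent.H4Depth.Connected
import Groth.Agent.H4Depth.LocDepth

/-!
Connectedness in codimension `d - 1` (EGA IV 5.10.9) and filtrations of modules with one associated prime.
-/

set_option autoImplicit false
universe u
open IsLocalRing

namespace Groth.Agent.H05EGA4.ChainConn

variable {A : Type u} [CommRing A] [IsNoetherianRing A]

theorem exists_q (d : ℕ)
    (h : ∀ (p : Ideal A) [p.IsPrime], (d : ℕ∞) ≤ p.height →
      (2 : ℕ∞) ≤ LocCoh.depth (Localization.AtPrime p) (Localization.AtPrime p))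
    [ConnectedSpace (PrimeSpectrum A)] (C₁ : Set (Ideal A)) (hC : C₁ ⊆ minimalPrimes A) (hne₁ : C₁.Nonempty)
    (hne₂ : (minimalPrimes A \ C₁).Nonempty) :
    ∃ c₁ ∈ C₁, ∃ c₂ ∈ minimalPrimes A \ C₁, ∃ (q : Ideal A) (_ : q.IsPrime), c₁ ≤ q ∧ c₂ ≤ q ∧ q.height + 1 ≤ (d : ℕ∞) := by
  classical
  by_contra hno
  push Not at hno
  let V : Set (Ideal A) → Set (PrimeSpectrum A) := fun C => ⋃ c ∈ C, PrimeSpectrum.zeroLocus (c : Set A)
  have hfin : ∀ C ⊆ minimalPrimes A, C.Finite := fun C hC => (minimalPrimes.finite_of_isNoetherianRing A).subset hC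
  have hclosed : ∀ C ⊆ minimalPrimes A, IsClosed (V C) := fun C hC =>
    (hfin C hC).isClosed_biUnion fun c _ => PrimeSpectrum.isClosed_zeroLocus _
  set C₂ := minimalPrimes A \ C₁
  have hC₂ : C₂ ⊆ minimalPrimes A := Set.diff_subset
  have hcover : ∀ x : PrimeSpectrum A, x ∈ V C₁ ∨ x ∈ V C₂ := fun x => by
    obtain ⟨c, hc, hcx⟩ := Ideal.exists_minimalPrimes_le (bot_le : (⊥ : Ideal A) ≤ x.asIdeal)
    by_cases hc1 : c ∈ C₁
    · exact Or.inl (Set.mem_biUnion hc1 hcx)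
    · exact Or.inr (Set.mem_biUnion ⟨hc, hc1⟩ hcx)
  have hinter : (V C₁ ∩ V C₂).Nonempty := by
    obtain ⟨c₁, hc₁⟩ := hne₁
    obtain ⟨c₂, hc₂⟩ := hne₂
    have hu := (isPreconnected_univ : IsPreconnected (Set.univ : Set (PrimeSpectrum A)))
    rw [isPreconnected_closed_iff] at hu
    have := hu (V C₁) (V C₂) (hclosed _ hC) (hclosed _ hC₂) (fun x _ => hcover x)
      ⟨⟨c₁, (hC hc₁).isPrime⟩, trivial, Set.mem_biUnion hc₁ (show (c₁ : Set A) ⊆ c₁ from le_rfl)⟩
      ⟨⟨c₂, hc₂.1.isPrime⟩, trivial, Set.mem_biUnion hc₂ (show (c₂ : Set A) ⊆ c₂ from le_rfl)⟩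
    rwa [Set.univ_inter] at this
  obtain ⟨x, hx₁, hx₂⟩ := hinter
  simp only [V, Set.mem_iUnion] at hx₁ hx₂
  obtain ⟨c₁, hc₁, hxc₁⟩ := hx₁
  obtain ⟨c₂, hc₂, hxc₂⟩ := hx₂
  obtain ⟨q, hq, hqx⟩ := Ideal.exists_minimalPrimes_le (I := c₁ ⊔ c₂) (J := x.asIdeal) (sup_le hxc₁ hxc₂)
  haveI hqp : q.IsPrime := hq.1.1
  -- descend to a prime minimal among those in both parts
  obtain ⟨Q, ⟨hQp, ⟨e₁, he₁, he₁Q⟩, ⟨e₂, he₂, he₂Q⟩⟩, hQmin⟩ := (InvImage.wf (fun P : PrimeSpectrum A => P.asIdeal.height) (wellFounded_lt (α := ℕ∞))).has_min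
    {P : PrimeSpectrum A | True ∧ (∃ c ∈ C₁, c ≤ P.asIdeal) ∧ (∃ c ∈ C₂, c ≤ P.asIdeal)}
    ⟨⟨q, hqp⟩, trivial, ⟨c₁, hc₁, le_sup_left.trans hq.1.2⟩, ⟨c₂, hc₂, le_sup_right.trans hq.1.2⟩⟩
  haveI := Q.isPrime
  have hd : (d : ℕ∞) ≤ Q.asIdeal.height := by
    have := hno e₁ he₁ e₂ he₂ Q.asIdeal Q.isPrime he₁Q he₂Q
    exact (ENat.lt_add_one_iff (Ideal.height_ne_top Q.isPrime.ne_top)).mp this
  let R := Localization.AtPrime Q.asIdeal
  have hid : ∀ e : R, IsIdempotentElem e → e = 0 ∨ e = 1 := fun e he => by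
    by_cases hu : IsUnit e
    · exact Or.inr ((hu.mul_left_cancel (he.eq.trans (mul_one e).symm)))
    · refine Or.inl ((IsLocalRing.isUnit_one_sub_self_of_mem_nonunits e hu).mul_right_eq_zero.mp ?_)
      rw [sub_mul, one_mul, he.eq, sub_self]
  have hconn := H4Depth.isPreconnected_compl_zeroLocus (maximalIdeal R) hid (h Q.asIdeal hd)
  let f : PrimeSpectrum R → PrimeSpectrum A := PrimeSpectrum.comap (algebraMap A R)
  have hf : Continuous f := PrimeSpectrum.continuous_comap _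
  rw [isPreconnected_closed_iff] at hconn
  have hlift : ∀ c ∈ minimalPrimes A, c ≤ Q.asIdeal → c ≠ Q.asIdeal →
      ∃ P ∈ ((PrimeSpectrum.zeroLocus (maximalIdeal R : Set R))ᶜ : Set (PrimeSpectrum R)), (f P).asIdeal = c := by
    intro c hc hcQ hne
    haveI := hc.isPrime
    have hdisj : Disjoint (Q.asIdeal.primeCompl : Set A) c := Set.disjoint_left.mpr fun y hy hyc => hy (hcQ hyc)
    have hcm := IsLocalization.under_map_of_isPrime_disjoint Q.asIdeal.primeCompl R ‹c.IsPrime› hdisj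
    refine ⟨⟨c.map (algebraMap A R), IsLocalization.isPrime_of_isPrime_disjoint _ R c ‹_› hdisj⟩, fun hmem => ?_, hcm⟩
    refine hne (le_antisymm hcQ fun y hy => ?_)
    rw [← hcm]
    exact hmem ((IsLocalization.AtPrime.to_map_mem_maximal_iff R Q.asIdeal y).mpr hy)
  have hne1 : e₁ ≠ Q.asIdeal := fun e => he₂.2 (by
    rwa [le_antisymm ((hC he₁).2 ⟨he₂.1.isPrime, bot_le⟩ (by rw [e]; exact he₂Q)) (by rw [e]; exact he₂Q)] at he₁)
  have hne2 : e₂ ≠ Q.asIdeal := fun e => he₂.2 (by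
    have h1 : e₂ ≤ e₁ := he₂.1.2 ⟨(hC he₁).isPrime, bot_le⟩ (by rw [e]; exact he₁Q)
    rwa [le_antisymm h1 (by rw [e]; exact he₁Q)])
  obtain ⟨P₁, hP₁, hfP₁⟩ := hlift e₁ (hC he₁) he₁Q hne1
  obtain ⟨P₂, hP₂, hfP₂⟩ := hlift e₂ he₂.1 he₂Q hne2
  obtain ⟨P, hP, hP1, hP2⟩ := hconn (f ⁻¹' V C₁) (f ⁻¹' V C₂) ((hclosed _ hC).preimage hf)
    ((hclosed _ hC₂).preimage hf) (fun P _ => hcover (f P))
    ⟨P₁, hP₁, Set.mem_biUnion he₁ (show (e₁ : Set A) ⊆ (f P₁).asIdeal from hfP₁.ge)⟩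
    ⟨P₂, hP₂, Set.mem_biUnion he₂ (show (e₂ : Set A) ⊆ (f P₂).asIdeal from hfP₂.ge)⟩
  simp only [V, Set.mem_preimage, Set.mem_iUnion] at hP1 hP2
  obtain ⟨a₁, ha₁, ha₁P⟩ := hP1
  obtain ⟨a₂, ha₂, ha₂P⟩ := hP2
  refine hQmin (f P) ⟨trivial, ⟨a₁, ha₁, ha₁P⟩, ⟨a₂, ha₂, ha₂P⟩⟩
    (Ideal.height_strict_mono_of_isPrime_of_isPrime (lt_of_le_of_ne ?_ fun e => hP ?_))
  · exact fun y hy => (IsLocalization.AtPrime.to_map_mem_maximal_iff R Q.asIdeal y).mp
      (le_maximalIdeal P.isPrime.ne_top hy)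
  · refine (IsLocalization.AtPrime.map_eq_maximalIdeal Q.asIdeal R).ge.trans ?_
    exact Ideal.map_le_iff_le_comap.mpr (show Q.asIdeal ≤ (f P).asIdeal from e.ge)

theorem exists_chain (d : ℕ)
    (h : ∀ (p : Ideal A) [p.IsPrime], (d : ℕ∞) ≤ p.height →
      (2 : ℕ∞) ≤ LocCoh.depth (Localization.AtPrime p) (Localization.AtPrime p))
    [ConnectedSpace (PrimeSpectrum A)] (p' p'' : Ideal A) (hp' : p' ∈ minimalPrimes A) (hp'' : p'' ∈ minimalPrimes A) :
    ∃ (n : ℕ) (c : Fin (n + 1) → Ideal A), c 0 = p' ∧ c (Fin.last n) = p'' ∧ (∀ i, c i ∈ minimalPrimes A) ∧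
      ∀ i : Fin n, ∃ (q : Ideal A) (_ : q.IsPrime),
        c i.castSucc ≤ q ∧ c i.succ ≤ q ∧ q.height + 1 ≤ (d : ℕ∞) := by
  classical
  let Reach : Ideal A → Prop := fun x => ∃ (n : ℕ) (c : Fin (n + 1) → Ideal A), c 0 = p' ∧ c (Fin.last n) = x ∧
      (∀ i, c i ∈ minimalPrimes A) ∧ ∀ i : Fin n, ∃ (q : Ideal A) (_ : q.IsPrime),
        c i.castSucc ≤ q ∧ c i.succ ≤ q ∧ q.height + 1 ≤ (d : ℕ∞)
  show Reach p''
  by_contra hno
  obtain ⟨c₁, ⟨hc₁m, hc₁⟩, c₂, ⟨hc₂m, hc₂⟩, q, hq, h1, h2, h3⟩ := exists_q d h {x ∈ minimalPrimes A | Reach x}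
    (fun x hx => hx.1) ⟨p', hp', 0, fun _ => p', rfl, rfl, fun _ => hp', fun i => i.elim0⟩
    ⟨p'', hp'', fun hx => hno hx.2⟩
  refine hc₂ ⟨hc₂m, ?_⟩
  obtain ⟨n, c, hc0, hcl, hcm, hcs⟩ := hc₁
  refine ⟨n + 1, Fin.snoc c c₂, ?_, Fin.snoc_last _ _, fun i => ?_, fun i => ?_⟩
  · rw [← Fin.castSucc_zero, Fin.snoc_castSucc]; exact hc0
  · refine Fin.lastCases ?_ (fun j => ?_) i
    · rw [Fin.snoc_last]; exact hc₂m
    · rw [Fin.snoc_castSucc]; exact hcm j
  · refine Fin.lastCases ?_ (fun j => ?_) i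
    · refine ⟨q, hq, ?_, ?_, h3⟩
      · rw [Fin.snoc_castSucc, hcl]; exact h1
      · rw [Fin.succ_last, Fin.snoc_last]; exact h2
    · rw [Fin.snoc_castSucc, Fin.succ_castSucc, Fin.snoc_castSucc]
      exact hcs j

variable {M : Type u} [AddCommGroup M] [Module A M] [Module.Finite A M] {p : Ideal A} [p.IsPrime]

theorem exists_step (hp : associatedPrimes A M = {p}) (N : Submodule A M)
    (hN : ∀ (s : A) (x : M), s ∉ p → s • x ∈ N → x ∈ N) (hne : N ≠ ⊤) :
    ∃ N' : Submodule A M, N < N' ∧ (∀ (s : A) (x : M), s ∉ p → s • x ∈ N' → x ∈ N') ∧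
      ∃ g : (↥N' ⧸ Submodule.comap N'.subtype N) →ₗ[A] (A ⧸ p), Function.Injective g := by
  classical
  haveI : Nontrivial (M ⧸ N) := Submodule.Quotient.nontrivial_iff.mpr hne
  obtain ⟨Q, hQ⟩ := associatedPrimes.nonempty A (M ⧸ N)
  obtain ⟨hQp, z, hz⟩ := isAssociatedPrime_iff.mp hQ
  obtain ⟨x, rfl⟩ := Submodule.Quotient.mk_surjective _ z
  have hmemQ : ∀ a, a ∈ Q ↔ a • x ∈ N := fun a => by
    rw [hz, Submodule.mem_colon_singleton, Submodule.mem_bot, ← Submodule.Quotient.mk_smul,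
      Submodule.Quotient.mk_eq_zero]
  have hQp' : Q ≤ p := fun a ha => by
    by_contra hap
    exact hQp.ne_top (Ideal.eq_top_iff_one Q |>.mpr ((hmemQ 1).mpr (by rw [one_smul]; exact hN a x hap ((hmemQ a).mp ha))))
  have hpQ : p ≤ Q := by
    have hann : Module.annihilator A M ≤ Q := fun a ha => (hmemQ a).mpr (by
      rw [Module.mem_annihilator.mp ha x]; exact zero_mem _)
    obtain ⟨P, hP, hPQ⟩ := Ideal.exists_minimalPrimes_le hann
    have hPa := Module.associatedPrimes.minimalPrimes_annihilator_subset_associatedPrimes A M hP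
    rw [hp, Set.mem_singleton_iff] at hPa
    exact hPa ▸ hPQ
  have hQeq : Q = p := le_antisymm hQp' hpQ
  subst hQeq
  let N' : Submodule A M :=
    { carrier := {y | ∃ s ∉ Q, ∃ a : A, s • y - a • x ∈ N}
      zero_mem' := ⟨1, hQp.one_notMem, 0, by simp⟩
      add_mem' := by
        rintro y y' ⟨s, hs, a, ha⟩ ⟨s', hs', a', ha'⟩
        refine ⟨s * s', fun h => (hQp.mem_or_mem h).elim hs hs', s' * a + s * a', ?_⟩
        have : (s * s') • (y + y') - (s' * a + s * a') • x = s' • (s • y - a • x) + s • (s' • y' - a' • x) := by module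
        rw [this]
        exact add_mem (N.smul_mem _ ha) (N.smul_mem _ ha')
      smul_mem' := by
        rintro r y ⟨s, hs, a, ha⟩
        refine ⟨s, hs, r * a, ?_⟩
        have : s • r • y - (r * a) • x = r • (s • y - a • x) := by module
        rw [this]
        exact N.smul_mem _ ha }
  have hxN' : x ∈ N' := ⟨1, hQp.one_notMem, 1, by simp⟩
  have hle : N ≤ N' := fun y hy => ⟨1, hQp.one_notMem, 0, by simpa using hy⟩
  have hxN : x ∉ N := fun hx => hQp.one_notMem ((hmemQ 1).mpr (by rw [one_smul]; exact hx))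
  refine ⟨N', lt_of_le_of_ne hle fun e => hxN (by rw [e]; exact hxN'), fun s y hs hy => ?_, ?_⟩
  · obtain ⟨t, ht, a, ha⟩ := hy
    exact ⟨t * s, fun h => (hQp.mem_or_mem h).elim ht hs, a, by rw [mul_smul]; exact ha⟩
  -- a common denominator
  obtain ⟨G, hG⟩ := (IsNoetherian.noetherian N' : N'.FG)
  have hden : ∀ S : Finset M, (∀ y ∈ S, y ∈ N') → ∃ s ∉ Q, ∀ y ∈ S, ∃ a : A, s • y - a • x ∈ N := by
    intro S
    induction S using Finset.induction_on with
    | empty => exact fun _ => ⟨1, hQp.one_notMem, by simp⟩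
    | insert y S hyS ih =>
      intro hS
      obtain ⟨s, hs, hsS⟩ := ih fun y' hy' => hS y' (Finset.mem_insert_of_mem hy')
      obtain ⟨t, ht, a, ha⟩ := hS y (Finset.mem_insert_self y S)
      refine ⟨t * s, fun h => (hQp.mem_or_mem h).elim ht hs, fun y' hy' => ?_⟩
      rcases Finset.mem_insert.mp hy' with rfl | hy'
      · refine ⟨s * a, ?_⟩
        have : (t * s) • y' - (s * a) • x = s • (t • y' - a • x) := by module
        rw [this]
        exact N.smul_mem _ ha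
      · obtain ⟨b, hb⟩ := hsS y' hy'
        refine ⟨t * b, ?_⟩
        have : (t * s) • y' - (t * b) • x = t • (s • y' - b • x) := by module
        rw [this]
        exact N.smul_mem _ hb
  obtain ⟨s₀, hs₀, hG₀⟩ := hden G fun y hy => hG.le (Submodule.subset_span hy)
  have hall : ∀ y ∈ N', ∃ a : A, s₀ • y - a • x ∈ N := by
    intro y hy
    rw [← hG] at hy
    induction hy using Submodule.span_induction with
    | mem g hg => exact hG₀ g hg
    | zero => exact ⟨0, by simp⟩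
    | add u v _ _ hu hv =>
      obtain ⟨a, ha⟩ := hu
      obtain ⟨b, hb⟩ := hv
      refine ⟨a + b, ?_⟩
      have : s₀ • (u + v) - (a + b) • x = (s₀ • u - a • x) + (s₀ • v - b • x) := by module
      rw [this]
      exact add_mem ha hb
    | smul r u _ hu =>
      obtain ⟨a, ha⟩ := hu
      refine ⟨r * a, ?_⟩
      have : s₀ • r • u - (r * a) • x = r • (s₀ • u - a • x) := by module
      rw [this]
      exact N.smul_mem _ ha
  have huniq : ∀ (y : M) (a b : A), s₀ • y - a • x ∈ N → s₀ • y - b • x ∈ N →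
      Ideal.Quotient.mk Q a = Ideal.Quotient.mk Q b := fun y a b ha hb => by
    rw [Ideal.Quotient.eq, hmemQ]
    have : (a - b) • x = (s₀ • y - b • x) - (s₀ • y - a • x) := by module
    rw [this]
    exact sub_mem hb ha
  choose α hα using fun y : N' => hall y.1 y.2
  let g : N' →ₗ[A] A ⧸ Q :=
    { toFun := fun y => Ideal.Quotient.mk Q (α y)
      map_add' := fun u v => by
        rw [← map_add]
        refine huniq _ _ _ (hα _) ?_
        have : s₀ • ((u + v : N') : M) - (α u + α v) • x = (s₀ • (u : M) - α u • x) + (s₀ • (v : M) - α v • x) := by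
          rw [Submodule.coe_add]; module
        rw [this]
        exact add_mem (hα u) (hα v)
      map_smul' := fun r u => by
        show _ = Ideal.Quotient.mk Q (r * α u)
        refine huniq _ _ _ (hα _) ?_
        have : s₀ • ((r • u : N') : M) - (r * α u) • x = r • (s₀ • (u : M) - α u • x) := by
          rw [Submodule.coe_smul]; module
        rw [this]
        exact N.smul_mem _ (hα u) }
  have hker : LinearMap.ker g = Submodule.comap N'.subtype N := by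
    ext u
    rw [LinearMap.mem_ker, Submodule.mem_comap, Submodule.subtype_apply]
    constructor
    · intro hu
      refine hN s₀ _ hs₀ ?_
      have h0 : α u • x ∈ N := (hmemQ _).mp (Ideal.Quotient.eq_zero_iff_mem.mp hu)
      simpa using add_mem (hα u) h0
    · intro hu
      show Ideal.Quotient.mk Q (α u) = 0
      rw [← map_zero (Ideal.Quotient.mk Q)]
      exact huniq _ _ _ (hα u) (by simpa using N.smul_mem s₀ hu)
  exact ⟨Submodule.liftQ _ g hker.ge, LinearMap.ker_eq_bot.mp (Submodule.ker_liftQ_eq_bot _ _ _ hker.le)⟩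

theorem exists_filtration (hp : associatedPrimes A M = {p}) :
    ∃ (m : ℕ) (F : Fin (m + 1) → Submodule A M), Antitone F ∧ F 0 = ⊤ ∧ F (Fin.last m) = ⊥ ∧
      ∀ i : Fin m, ∃ g : (↥(F i.castSucc) ⧸ Submodule.comap (F i.castSucc).subtype (F i.succ)) →ₗ[A] (A ⧸ p),
        Function.Injective g := by
  have hbot : ∀ (s : A) (x : M), s ∉ p → s • x ∈ (⊥ : Submodule A M) → x ∈ (⊥ : Submodule A M) := by
    intro s x hs hx
    rw [Submodule.mem_bot] at hx ⊢
    by_contra hx0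
    obtain ⟨Q, hQ, hle⟩ := exists_le_isAssociatedPrime_of_isNoetherianRing A x hx0
    have hQp : Q = p := by
      have : Q ∈ associatedPrimes A M := hQ
      rwa [hp] at this
    exact hs (hQp ▸ hle (by rw [Submodule.mem_colon_singleton, Submodule.mem_bot]; exact hx))
  suffices H : ∀ N : Submodule A M, (∀ (s : A) (x : M), s ∉ p → s • x ∈ N → x ∈ N) →
      ∃ (m : ℕ) (F : Fin (m + 1) → Submodule A M), Antitone F ∧ F 0 = ⊤ ∧ F (Fin.last m) = N ∧
      ∀ i : Fin m, ∃ g : (↥(F i.castSucc) ⧸ Submodule.comap (F i.castSucc).subtype (F i.succ)) →ₗ[A] (A ⧸ p),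
        Function.Injective g from H ⊥ hbot
  intro N
  induction N using WellFoundedGT.induction with
  | _ N ih =>
  intro hN
  by_cases hne : N = ⊤
  · exact ⟨0, fun _ => ⊤, fun _ _ _ => le_rfl, rfl, hne.symm, fun i => i.elim0⟩
  obtain ⟨N', hlt, hN', g, hg⟩ := exists_step hp N hN hne
  obtain ⟨m, F, hF, hF0, hFl, hFs⟩ := ih N' hlt hN'
  refine ⟨m + 1, Fin.snoc F N, ?_, ?_, Fin.snoc_last _ _, fun i => ?_⟩
  · refine Fin.antitone_iff_succ_le.mpr fun i => ?_
    refine Fin.lastCases ?_ (fun j => ?_) i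
    · rw [Fin.succ_last, Fin.snoc_last, Fin.snoc_castSucc, hFl]; exact hlt.le
    · rw [Fin.succ_castSucc, Fin.snoc_castSucc, Fin.snoc_castSucc]
      exact hF (Fin.castSucc_le_succ j)
  · rw [← Fin.castSucc_zero, Fin.snoc_castSucc]; exact hF0
  · refine Fin.lastCases ?_ (fun j => ?_) i
    · rw [Fin.snoc_castSucc, hFl, Fin.succ_last, Fin.snoc_last]
      exact ⟨g, hg⟩
    · rw [Fin.snoc_castSucc, Fin.succ_castSucc, Fin.snoc_castSucc]
      exact hFs j

end Groth.Agent.H05EGA4.ChainConn
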