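import Groth.Prelude.Def_Exal2
import Mathlib

/-!
Elementary facts on extensions of algebras (EGA 0_IV 18, 20).
-/

set_option autoImplicit false
set_option linter.style.haveILetI false
universe u v w

namespace Groth.Agent.H05EGA4.ExalBasic

open Exal

variable {A : Type u} {B L : Type v} [CommRing A] [CommRing B] [Algebra A B] [AddCommGroup L] [Module B L]

theorem proj_incl (X : Ext A B L) (z : L) : X.proj (X.incl z) = 0 := (X.isExtension.exact _).mpr ⟨z, rfl⟩

theorem incl_mul_incl (X : Ext A B L) (z w : L) : X.incl z * X.incl w = 0 := by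
  rw [X.isExtension.mul_incl, proj_incl, zero_smul, map_zero]

theorem kerLift_incl (X : Ext A B L) (z : L) (h : X.proj (X.incl z) = 0) : X.kerLift (X.incl z) h = z :=
  X.isExtension.incl_injective (X.incl_kerLift _ _)

theorem proj_sub {X : Ext A B L} {x y : X.E} (h : X.proj x = X.proj y) : X.proj (x - y) = 0 := by
  rw [map_sub, h, sub_self]

/-- A map of extensions is an equivalence. -/
theorem equiv_of_hom {X Y : Ext A B L} (f : X.E →ₐ[A] Y.E) (hp : ∀ x, Y.proj (f x) = X.proj x)
    (hi : ∀ z, f (X.incl z) = Y.incl z) : ∃ e : X.Equiv Y, ∀ x, e.toAlgEquiv x = f x := by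
  have hb : Function.Bijective f := by
    constructor
    · rw [injective_iff_map_eq_zero]
      intro x hx
      have : X.proj x = 0 := by rw [← hp, hx, map_zero]
      obtain ⟨z, rfl⟩ := (X.isExtension.exact x).mp this
      rw [hi] at hx
      rw [Y.isExtension.incl_injective (hx.trans Y.incl.map_zero.symm), map_zero]
    · intro y
      obtain ⟨x, hx⟩ := X.isExtension.proj_surjective (Y.proj y)
      obtain ⟨z, hz⟩ := (Y.isExtension.exact (y - f x)).mp (by rw [map_sub, hp, hx, sub_self])
      exact ⟨x + X.incl z, by rw [map_add, hi, hz, add_sub_cancel]⟩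
  exact ⟨⟨AlgEquiv.ofBijective f hb, hp, hi⟩, fun x => rfl⟩

theorem incl_smul (X : Ext A B L) {y : X.E} {b : B} (h : X.proj y = b) (z : L) :
    X.incl (b • z) = y * X.incl z := by rw [X.isExtension.mul_incl, h]

/-- Two lifts of the same map differ by a derivation. -/
noncomputable def diffDerivation {R : Type w} {S : Type*} [CommRing R] [CommRing S] [Algebra R S] [Algebra S B]
    [Module R L] [Module S L] [IsScalarTower S B L] [IsScalarTower R S L]
    (X : Ext A B L) [Algebra R X.E] (f g : S →ₐ[R] X.E) (hf : ∀ s, X.proj (f s) = algebraMap S B s)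
    (hg : ∀ s, X.proj (g s) = algebraMap S B s) : Derivation R S L :=
  Derivation.mk'
    { toFun := fun s => X.kerLift (f s - g s) (proj_sub ((hf s).trans (hg s).symm))
      map_add' := fun s t => by
        apply X.isExtension.incl_injective
        simp only [map_add, X.incl_kerLift]
        abel
      map_smul' := fun r s => by
        apply X.isExtension.incl_injective
        have h2 := X.incl_kerLift (f s - g s) (proj_sub ((hf s).trans (hg s).symm))
        rw [RingHom.id_apply, X.incl_kerLift, ← IsScalarTower.algebraMap_smul S r (X.kerLift _ _),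
          ← IsScalarTower.algebraMap_smul B (algebraMap R S r), incl_smul X (hf (algebraMap R S r)), h2,
          map_smul, map_smul, AlgHom.commutes, ← smul_sub, Algebra.smul_def] }
    fun a b => by
      apply X.isExtension.incl_injective
      simp only [LinearMap.coe_mk, AddHom.coe_mk]
      have ha := X.incl_kerLift (f a - g a) (proj_sub ((hf a).trans (hg a).symm))
      have hb := X.incl_kerLift (f b - g b) (proj_sub ((hf b).trans (hg b).symm))
      rw [map_add, ← IsScalarTower.algebraMap_smul B a, ← IsScalarTower.algebraMap_smul B b,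
        incl_smul X (hf a), incl_smul X (hg b), ha, hb, X.incl_kerLift, map_mul, map_mul]
      ring

theorem incl_diffDerivation {R : Type w} {S : Type*} [CommRing R] [CommRing S] [Algebra R S] [Algebra S B]
    [Module R L] [Module S L] [IsScalarTower S B L] [IsScalarTower R S L]
    (X : Ext A B L) [Algebra R X.E] (f g : S →ₐ[R] X.E) (hf : ∀ s, X.proj (f s) = algebraMap S B s)
    (hg : ∀ s, X.proj (g s) = algebraMap S B s) (s : S) :
    X.incl (diffDerivation X f g hf hg s) = f s - g s :=
  X.incl_kerLift (f s - g s) (proj_sub ((hf s).trans (hg s).symm))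

end Groth.Agent.H05EGA4.ExalBasic
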