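import Groth.Prelude.Def_Exal2
import Groth.Prelude.Def_Exal3
import Groth.Agent.H05EGA4.ExalBasic
import Mathlib

/-!
The characteristic homomorphism of an extension (EGA 0_IV 20.6).
-/

set_option autoImplicit false
set_option linter.style.haveILetI false
set_option linter.unusedSectionVars false
universe u v
open TensorProduct Exal

namespace Groth.Agent.H05EGA4.CharHom

attribute [local instance] Exal.opModule Exal.isCentralScalar_opModule

variable (A : Type u) {B C L : Type v} [CommRing A] [CommRing B] [CommRing C] [Algebra A B] [Algebra B C]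
  [Algebra A C] [IsScalarTower A B C] [AddCommGroup L] [Module C L]

theorem bc_tmul (X : Ext B C L) (c : C) (ω : Ω[B⁄A]) :
    X.baseChangeToMiddle A (c ⊗ₜ[B] ω) = c ⊗ₜ[X.CharCarrier A] KaehlerDifferential.map A A B (X.CharCarrier A) ω := rfl

theorem bc_smul (X : Ext B C L) (c : C) (w : C ⊗[B] Ω[B⁄A]) :
    X.baseChangeToMiddle A (c • w) = c • X.baseChangeToMiddle A w := by
  induction w using TensorProduct.induction_on with
  | zero => simp
  | add x y hx hy => rw [smul_add, map_add, map_add, hx, hy, smul_add]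
  | tmul d ω => rw [TensorProduct.smul_tmul', bc_tmul, bc_tmul, TensorProduct.smul_tmul']

/-- The base change of the map to the middle ring, with its `C`-linear structure. -/
noncomputable def bcC (X : Ext B C L) : C ⊗[B] Ω[B⁄A] →ₗ[C] C ⊗[X.CharCarrier A] Ω[X.CharCarrier A⁄A] where
  toFun := X.baseChangeToMiddle A
  map_add' := map_add _
  map_smul' := bc_smul A X

theorem bc_mem_range_deltaL (X : Ext B C L) (w : C ⊗[B] Ω[B⁄A]) (hw : KaehlerDifferential.mapBaseChange A B C w = 0) :
    ∃ l : L, X.deltaL A l = X.baseChangeToMiddle A w := by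
  have hcomm : ∀ w, KaehlerDifferential.mapBaseChange A (X.CharCarrier A) C (X.baseChangeToMiddle A w) =
      KaehlerDifferential.mapBaseChange A B C w := by
    intro w
    induction w using TensorProduct.induction_on with
    | zero => simp
    | add x y hx hy => simp only [map_add, hx, hy]
    | tmul c ω =>
      rw [bc_tmul, KaehlerDifferential.mapBaseChange_tmul, KaehlerDifferential.mapBaseChange_tmul]
      congr 1
      have hω : ω ∈ Submodule.span B (Set.range (KaehlerDifferential.D A B)) := by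
        rw [KaehlerDifferential.span_range_derivation]; trivial
      induction hω using Submodule.span_induction with
      | mem x hx =>
        obtain ⟨b, rfl⟩ := hx
        rw [KaehlerDifferential.map_D, KaehlerDifferential.map_D, KaehlerDifferential.map_D,
          ← IsScalarTower.algebraMap_apply]
      | zero => simp
      | add x y _ _ hx hy => rw [map_add, map_add, map_add, hx, hy]
      | smul b x _ hx =>
        rw [map_smul (KaehlerDifferential.map A A B (X.CharCarrier A)), map_smul (KaehlerDifferential.map A A B C),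
          ← algebraMap_smul (X.CharCarrier A) b (KaehlerDifferential.map A A B (X.CharCarrier A) x), map_smul, hx,
          algebraMap_smul]
  have hsurj : Function.Surjective (algebraMap (X.CharCarrier A) C) := X.isExtension.proj_surjective
  have hsurjCot : ∀ q : (RingHom.ker (algebraMap (X.CharCarrier A) C)).Cotangent, ∃ k, Ideal.toCotangent _ k = q :=
    Ideal.toCotangent_surjective _
  obtain ⟨q, hq⟩ := (KaehlerDifferential.exact_kerCotangentToTensor_mapBaseChange A (X.CharCarrier A) C hsurj _).mp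
    ((hcomm w).trans hw)
  obtain ⟨k, rfl⟩ := hsurjCot q
  rw [KaehlerDifferential.kerCotangentToTensor_toCotangent] at hq
  obtain ⟨l, hl⟩ := (X.isExtension.exact (k : X.CharCarrier A)).mp k.2
  refine ⟨l, ?_⟩
  rw [← hq]
  show (1 : C) ⊗ₜ[X.CharCarrier A] KaehlerDifferential.D A (X.CharCarrier A) (X.inclC A l) = _
  rw [show X.inclC A l = (k : X.CharCarrier A) from hl]

theorem exists_section {X : Ext B C L} (h : X.IsTrivialOver A) :
    ∃ s : C →ₐ[A] X.CharCarrier A, ∀ c, algebraMap (X.CharCarrier A) C (s c) = c := by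
  obtain ⟨s, hs⟩ := h
  exact ⟨{ toFun := fun c => s c
           map_one' := map_one s
           map_mul' := map_mul s
           map_zero' := map_zero s
           map_add' := map_add s
           commutes' := s.commutes }, hs⟩

theorem exists_phi (X : Ext B C L) (s : C →ₐ[A] X.CharCarrier A) (hs : ∀ c, algebraMap (X.CharCarrier A) C (s c) = c) :
    ∃ φ : C ⊗[B] Ω[B⁄A] →ₗ[C] L,
      (∀ w, KaehlerDifferential.mapBaseChange A B C w = 0 → X.deltaL A (φ w) = X.baseChangeToMiddle A w) ∧
      (∀ b : B, X.inclC A (φ (1 ⊗ₜ[B] KaehlerDifferential.D A B b)) =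
        algebraMap B (X.CharCarrier A) b - s (algebraMap B C b)) ∧ Function.Injective (X.deltaL A) := by
  letI : Algebra A X.E := inferInstanceAs (Algebra A (X.CharCarrier A))
  letI : Module (X.CharCarrier A) L := Module.compHom L (algebraMap (X.CharCarrier A) C)
  letI : Module A L := Module.compHom L (algebraMap A C)
  haveI : IsScalarTower (X.CharCarrier A) C L := IsScalarTower.of_algebraMap_smul fun _ _ => rfl
  haveI : IsScalarTower A (X.CharCarrier A) L := IsScalarTower.of_algebraMap_smul fun a z => by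
    show algebraMap (X.CharCarrier A) C (algebraMap A (X.CharCarrier A) a) • z = algebraMap A C a • z
    rw [← IsScalarTower.algebraMap_apply]
  let f : X.CharCarrier A →ₐ[A] X.E := AlgHom.id A (X.CharCarrier A)
  let g : X.CharCarrier A →ₐ[A] X.E := s.comp (IsScalarTower.toAlgHom A (X.CharCarrier A) C)
  let δ : Derivation A (X.CharCarrier A) L :=
    ExalBasic.diffDerivation X f g (fun x => rfl) (fun x => hs _)
  have hδ : ∀ x, X.inclC A (δ x) = x - s (algebraMap (X.CharCarrier A) C x) :=
    ExalBasic.incl_diffDerivation X f g (fun x => rfl) (fun x => hs _)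
  let r : C ⊗[X.CharCarrier A] Ω[X.CharCarrier A⁄A] →ₗ[C] L := (δ.liftKaehlerDifferential).liftBaseChange C
  have hr : ∀ l, r (X.deltaL A l) = l := fun l => by
    show r ((1 : C) ⊗ₜ[X.CharCarrier A] KaehlerDifferential.D A (X.CharCarrier A) (X.inclC A l)) = l
    rw [show r = (δ.liftKaehlerDifferential).liftBaseChange C from rfl, LinearMap.liftBaseChange_tmul, one_smul,
      Derivation.liftKaehlerDifferential_comp_D]
    apply X.isExtension.incl_injective
    show X.inclC A (δ (X.inclC A l)) = X.inclC A l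
    rw [hδ, show algebraMap (X.CharCarrier A) C (X.inclC A l) = 0 from ExalBasic.proj_incl X l, map_zero, sub_zero]
  refine ⟨r ∘ₗ bcC A X, fun w hw => ?_, fun b => ?_, fun l l' h => ?_⟩
  · obtain ⟨l, hl⟩ := bc_mem_range_deltaL A X w hw
    show X.deltaL A (r (X.baseChangeToMiddle A w)) = _
    rw [← hl, hr]
  · show X.inclC A (r (X.baseChangeToMiddle A (1 ⊗ₜ[B] KaehlerDifferential.D A B b))) = _
    rw [bc_tmul, KaehlerDifferential.map_D, show r = (δ.liftKaehlerDifferential).liftBaseChange C from rfl,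
      LinearMap.liftBaseChange_tmul, one_smul, Derivation.liftKaehlerDifferential_comp_D, hδ,
      ← IsScalarTower.algebraMap_apply]
  · rw [← hr l, ← hr l', h]

theorem isCharHom_iff (X : Ext B C L) (φ : C ⊗[B] Ω[B⁄A] →ₗ[C] L)
    (h1 : ∀ w, KaehlerDifferential.mapBaseChange A B C w = 0 → X.deltaL A (φ w) = X.baseChangeToMiddle A w)
    (hinj : Function.Injective (X.deltaL A)) (χ : ↥(EGA41.imperfection A B C) →ₗ[C] L) :
    X.IsCharHom A χ ↔ ∀ z : ↥(EGA41.imperfection A B C), χ z = φ z := by
  refine ⟨fun h z => hinj ((h z).trans (h1 z z.2).symm), fun h z => ?_⟩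
  rw [h z]
  exact h1 z z.2

theorem existsUnique_charHom (X : Ext B C L) (hX : X.IsTrivialOver A) :
    ∃! χ : ↥(EGA41.imperfection A B C) →ₗ[C] L, X.IsCharHom A χ := by
  obtain ⟨s, hs⟩ := exists_section A hX
  obtain ⟨φ, h1, -, hinj⟩ := exists_phi A X s hs
  refine ⟨φ ∘ₗ (EGA41.imperfection A B C).subtype, (isCharHom_iff A X φ h1 hinj _).mpr fun _ => rfl, fun χ hχ => ?_⟩
  exact LinearMap.ext fun z => (isCharHom_iff A X φ h1 hinj χ).mp hχ z

/-- An extension of a linear map from the image of `C ⊗ Ω_{B/A}` to `Ω_{C/A}`. -/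
theorem exists_extend (h : Module.Injective C L ∨
    ∃ s : Ω[C⁄B] →ₗ[C] Ω[C⁄A], ∀ ω : Ω[C⁄B], KaehlerDifferential.map A B C C (s ω) = ω)
    (Δ : C ⊗[B] Ω[B⁄A] →ₗ[C] L) (hΔ : ∀ w, KaehlerDifferential.mapBaseChange A B C w = 0 → Δ w = 0) :
    ∃ ψ : Ω[C⁄A] →ₗ[C] L, ∀ w, ψ (KaehlerDifferential.mapBaseChange A B C w) = Δ w := by
  let μ := KaehlerDifferential.mapBaseChange A B C
  let e := μ.quotKerEquivRange
  have hle : LinearMap.ker μ ≤ LinearMap.ker Δ := fun w hw => hΔ w hw
  let Δ' : LinearMap.range μ →ₗ[C] L :=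
    (Submodule.liftQ (LinearMap.ker μ) Δ hle) ∘ₗ e.symm.toLinearMap
  have hΔ' : ∀ w, Δ' ⟨μ w, LinearMap.mem_range_self μ w⟩ = Δ w := fun w => by
    show Submodule.liftQ (LinearMap.ker μ) Δ hle (e.symm ⟨μ w, LinearMap.mem_range_self μ w⟩) = _
    rw [show (⟨μ w, LinearMap.mem_range_self μ w⟩ : LinearMap.range μ) = e (Submodule.Quotient.mk w) from rfl,
      LinearEquiv.symm_apply_apply, Submodule.liftQ_apply]
  rcases h with hinj | ⟨s, hs⟩
  · obtain ⟨ψ, hψ⟩ := hinj.out (LinearMap.range μ).subtype Subtype.val_injective Δ'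
    exact ⟨ψ, fun w => (hψ ⟨μ w, LinearMap.mem_range_self μ w⟩).trans (hΔ' w)⟩
  · have hmem : ∀ ω, ((LinearMap.id : Ω[C⁄A] →ₗ[C] Ω[C⁄A]) - s ∘ₗ KaehlerDifferential.map A B C C) ω ∈ LinearMap.range μ := fun ω =>
      (KaehlerDifferential.exact_mapBaseChange_map A B C _).mp (by
        simp only [LinearMap.sub_apply, LinearMap.id_apply, LinearMap.comp_apply, map_sub, hs, sub_self])
    refine ⟨Δ' ∘ₗ (LinearMap.codRestrict _ _ hmem), fun w => ?_⟩
    refine Eq.trans (congrArg Δ' (Subtype.ext ?_)) (hΔ' w)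
    show μ w - s (KaehlerDifferential.map A B C C (μ w)) = μ w
    rw [(KaehlerDifferential.exact_mapBaseChange_map A B C).apply_apply_eq_zero w, map_zero, sub_zero]

theorem equiv_of_charHom (h : Module.Injective C L ∨
    ∃ s : Ω[C⁄B] →ₗ[C] Ω[C⁄A], ∀ ω : Ω[C⁄B], KaehlerDifferential.map A B C C (s ω) = ω)
    (X Y : Ext B C L) (hX : X.IsTrivialOver A) (hY : Y.IsTrivialOver A)
    (χ : ↥(EGA41.imperfection A B C) →ₗ[C] L) (hXχ : X.IsCharHom A χ) (hYχ : Y.IsCharHom A χ) :
    Nonempty (X.Equiv Y) := by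
  obtain ⟨sX, hsX⟩ := exists_section A hX
  obtain ⟨sY, hsY⟩ := exists_section A hY
  obtain ⟨φX, hX1, hX2, hXi⟩ := exists_phi A X sX hsX
  obtain ⟨φY, hY1, hY2, hYi⟩ := exists_phi A Y sY hsY
  obtain ⟨ψ, hψ⟩ := exists_extend A h (φY - φX) fun w hw => by
    rw [LinearMap.sub_apply, ← (isCharHom_iff A Y φY hY1 hYi χ).mp hYχ ⟨w, hw⟩,
      (isCharHom_iff A X φX hX1 hXi χ).mp hXχ ⟨w, hw⟩, sub_self]
  let δ' : C → L := fun c => ψ (KaehlerDifferential.D A C c)
  let pX : X.CharCarrier A → C := algebraMap (X.CharCarrier A) C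
  let m : X.CharCarrier A → L := fun x =>
    X.kerLift (x - sX (pX x)) (by
      show algebraMap (X.CharCarrier A) C (x - sX (pX x)) = 0
      rw [map_sub, hsX, sub_self])
  have hm : ∀ x, X.inclC A (m x) = x - sX (pX x) := fun x => X.incl_kerLift _ _
  let g : X.E → Y.E := fun x => sY (pX x) + Y.inclC A (m x + δ' (pX x))
  have hgi : ∀ (c : C) (l : L), g (sX c + X.inclC A l : X.CharCarrier A) = (sY c + Y.inclC A (l + δ' c) : Y.CharCarrier A) := by
    intro c l
    have hp : pX (sX c + X.inclC A l) = c := by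
      show algebraMap (X.CharCarrier A) C (sX c + X.inclC A l) = c
      rw [map_add, hsX, show algebraMap (X.CharCarrier A) C (X.inclC A l) = 0 from ExalBasic.proj_incl X l, add_zero]
    have hl : m (sX c + X.inclC A l) = l := X.isExtension.incl_injective (by
      show X.inclC A (m _) = X.inclC A l
      rw [hm, hp, add_sub_cancel_left])
    show sY (pX _) + Y.inclC A (m _ + δ' (pX _)) = _
    rw [hp, hl]
  have hrep : ∀ x : X.CharCarrier A, x = sX (pX x) + X.inclC A (m x) := fun x => by rw [hm, add_sub_cancel]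
  have hmul : ∀ (c d : C) (k l : L), (sX c + X.inclC A k) * (sX d + X.inclC A l) = sX (c * d) + X.inclC A (c • l + d • k) := by
    intro c d k l
    have h1 : sX c * X.inclC A l = X.inclC A (c • l) := (ExalBasic.incl_smul X (hsX c) l).symm
    have h2 : sX d * X.inclC A k = X.inclC A (d • k) := (ExalBasic.incl_smul X (hsX d) k).symm
    have h3 : X.inclC A k * X.inclC A l = 0 := ExalBasic.incl_mul_incl X k l
    rw [map_mul, map_add, ← h1, ← h2]
    linear_combination h3
  have hmulY : ∀ (c d : C) (k l : L), (sY c + Y.inclC A k) * (sY d + Y.inclC A l) = sY (c * d) + Y.inclC A (c • l + d • k) := by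
    intro c d k l
    have h1 : sY c * Y.inclC A l = Y.inclC A (c • l) := (ExalBasic.incl_smul Y (hsY c) l).symm
    have h2 : sY d * Y.inclC A k = Y.inclC A (d • k) := (ExalBasic.incl_smul Y (hsY d) k).symm
    have h3 : Y.inclC A k * Y.inclC A l = 0 := ExalBasic.incl_mul_incl Y k l
    rw [map_mul, map_add, ← h1, ← h2]
    linear_combination h3
  have hδmul : ∀ c d : C, δ' (c * d) = c • δ' d + d • δ' c := fun c d => by
    show ψ (KaehlerDifferential.D A C (c * d)) = _
    rw [Derivation.leibniz, map_add, map_smul, map_smul]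
  have hgmul : ∀ x y : X.CharCarrier A, g (x * y : X.CharCarrier A) = ((g x : Y.CharCarrier A) * g y : Y.CharCarrier A) := by
    intro x y
    rw [show x * y = sX (pX x * pX y) + X.inclC A (pX x • m y + pX y • m x) by
      conv_lhs => rw [hrep x, hrep y, hmul], hgi]
    show _ = (sY (pX x) + Y.inclC A (m x + δ' (pX x))) * (sY (pX y) + Y.inclC A (m y + δ' (pX y)))
    rw [hmulY, hδmul, smul_add, smul_add]
    congr 2
    abel
  have hgadd : ∀ x y : X.CharCarrier A, g (x + y : X.CharCarrier A) = ((g x : Y.CharCarrier A) + g y : Y.CharCarrier A) := by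
    intro x y
    rw [show x + y = sX (pX x + pX y) + X.inclC A (m x + m y) by
      conv_lhs => rw [hrep x, hrep y]
      rw [map_add, map_add]; abel, hgi]
    show _ = (sY (pX x) + Y.inclC A (m x + δ' (pX x))) + (sY (pX y) + Y.inclC A (m y + δ' (pX y)))
    rw [show δ' (pX x + pX y) = δ' (pX x) + δ' (pX y) by simp only [δ', map_add], map_add sY,
      map_add (Y.inclC A), map_add (Y.inclC A), map_add (Y.inclC A), map_add (Y.inclC A), map_add (Y.inclC A)]
    abel
  have hgalg : ∀ b : B, g (algebraMap B X.E b) = algebraMap B Y.E b := fun b => by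
    have e1 : algebraMap B (X.CharCarrier A) b = sX (algebraMap B C b) + X.inclC A (φX (1 ⊗ₜ[B] KaehlerDifferential.D A B b)) := by
      rw [hX2, add_sub_cancel]
    show g (algebraMap B (X.CharCarrier A) b) = (algebraMap B (Y.CharCarrier A) b : Y.CharCarrier A)
    have e2 : δ' (algebraMap B C b) = φY (1 ⊗ₜ[B] KaehlerDifferential.D A B b) - φX (1 ⊗ₜ[B] KaehlerDifferential.D A B b) := by
      show ψ (KaehlerDifferential.D A C (algebraMap B C b)) = _
      rw [← LinearMap.sub_apply, ← hψ, KaehlerDifferential.mapBaseChange_tmul, one_smul, KaehlerDifferential.map_D]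
    rw [e1, hgi, e2, add_sub_cancel, hY2, add_sub_cancel]
  have hg1 : g (1 : X.E) = 1 := by
    have := hgalg 1
    rwa [map_one, map_one] at this
  have hg0 : g (0 : X.E) = 0 := by
    have := hgalg 0
    rwa [map_zero, map_zero] at this
  let f : X.E →ₐ[B] Y.E :=
    { toFun := g, map_one' := hg1, map_mul' := hgmul, map_zero' := hg0, map_add' := hgadd, commutes' := hgalg }
  obtain ⟨e, -⟩ := ExalBasic.equiv_of_hom f (fun x => by
      show algebraMap (Y.CharCarrier A) C (sY (pX x) + Y.inclC A (m x + δ' (pX x))) = X.proj x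
      rw [map_add, show algebraMap (Y.CharCarrier A) C (Y.inclC A (m x + δ' (pX x))) = 0 from ExalBasic.proj_incl Y _,
        add_zero]
      exact hsY _)
    (fun z => by
      have := hgi 0 z
      rw [map_zero, map_zero, zero_add, zero_add, show δ' 0 = 0 by simp only [δ', map_zero], add_zero] at this
      exact this)
  exact ⟨e⟩

theorem exists_ext_of_map (φ : C ⊗[B] Ω[B⁄A] →ₗ[C] L) :
    ∃ X : Ext B C L, X.IsTrivialOver A ∧
      X.IsCharHom A (φ ∘ₗ (EGA41.imperfection A B C).subtype) := by
  letI : Module B L := Module.compHom L (algebraMap B C)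
  haveI : IsScalarTower B C L := IsScalarTower.of_algebraMap_smul fun _ _ => rfl
  letI : Module A L := Module.compHom L (algebraMap A C)
  haveI : IsScalarTower A B L := IsScalarTower.of_algebraMap_smul fun a z => by
    show algebraMap B C (algebraMap A B a) • z = algebraMap A C a • z
    rw [← IsScalarTower.algebraMap_apply]
  let φ₀ : Ω[B⁄A] →ₗ[B] L := (φ.restrictScalars B) ∘ₗ (TensorProduct.mk B C Ω[B⁄A] 1)
  let D : Derivation A B L := φ₀.compDer (KaehlerDifferential.D A B)
  let X := Ext.ofDerivation (C := C) D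
  let s : C →ₐ[A] X.CharCarrier A :=
    { toFun := fun c => (TrivSqZeroExt.inl c : TrivSqZeroExt C L)
      map_one' := TrivSqZeroExt.inl_one L
      map_mul' := TrivSqZeroExt.inl_mul L
      map_zero' := TrivSqZeroExt.inl_zero L
      map_add' := TrivSqZeroExt.inl_add L
      commutes' := fun a => by
        show (TrivSqZeroExt.inl (algebraMap A C a) : TrivSqZeroExt C L) =
          TrivSqZeroExt.inl (algebraMap B C (algebraMap A B a)) + TrivSqZeroExt.inr (D (algebraMap A B a))
        rw [D.map_algebraMap, TrivSqZeroExt.inr_zero, add_zero, ← IsScalarTower.algebraMap_apply] }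
  have hs : ∀ c, algebraMap (X.CharCarrier A) C (s c) = c := fun c => rfl
  have htriv : X.IsTrivialOver A :=
    ⟨{ toFun := fun c => s c, map_one' := map_one s, map_mul' := map_mul s, map_zero' := map_zero s,
       map_add' := map_add s, commutes' := s.commutes }, hs⟩
  obtain ⟨φX, h1, h2, hinj⟩ := exists_phi A X s hs
  have heq : φX = φ := by
    refine AlgebraTensorModule.ext fun c ω => ?_
    rw [← mul_one c, ← smul_eq_mul, ← TensorProduct.smul_tmul', map_smul, map_smul]
    congr 1
    have hω : ω ∈ Submodule.span B (Set.range (KaehlerDifferential.D A B)) := by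
      rw [KaehlerDifferential.span_range_derivation]; trivial
    induction hω using Submodule.span_induction with
    | mem x hx =>
      obtain ⟨b, rfl⟩ := hx
      apply X.isExtension.incl_injective
      refine (h2 b).trans (sub_eq_of_eq_add ?_)
      show (TrivSqZeroExt.inl (algebraMap B C b) + TrivSqZeroExt.inr (D b) : TrivSqZeroExt C L) =
        TrivSqZeroExt.inr (φ (1 ⊗ₜ[B] KaehlerDifferential.D A B b)) + TrivSqZeroExt.inl (algebraMap B C b)
      rw [add_comm]
      rfl
    | zero => rw [TensorProduct.tmul_zero, map_zero, map_zero]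
    | add x y _ _ hx hy => rw [TensorProduct.tmul_add, map_add, map_add, hx, hy]
    | smul b x _ hx =>
      rw [TensorProduct.tmul_smul, LinearMap.map_smul_of_tower, LinearMap.map_smul_of_tower, hx]
  subst heq
  exact ⟨X, htriv, (isCharHom_iff A X φX h1 hinj _).mpr fun _ => rfl⟩

theorem exists_charHom (h : Module.Injective C L ∨
    ∃ r : C ⊗[B] Ω[B⁄A] →ₗ[C] ↥(EGA41.imperfection A B C), ∀ z : ↥(EGA41.imperfection A B C), r z = z)
    (χ : ↥(EGA41.imperfection A B C) →ₗ[C] L) :
    ∃ X : Ext B C L, X.IsTrivialOver A ∧ X.IsCharHom A χ := by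
  obtain ⟨φ, hφ⟩ : ∃ φ : C ⊗[B] Ω[B⁄A] →ₗ[C] L, φ ∘ₗ (EGA41.imperfection A B C).subtype = χ := by
    rcases h with hinj | ⟨r, hr⟩
    · obtain ⟨φ, hφ⟩ := hinj.out (X := ↥(EGA41.imperfection A B C)) (Y := C ⊗[B] Ω[B⁄A]) (EGA41.imperfection A B C).subtype Subtype.val_injective χ
      exact ⟨φ, LinearMap.ext hφ⟩
    · exact ⟨χ ∘ₗ r, LinearMap.ext fun z => congrArg χ (hr z)⟩
  obtain ⟨X, h1, h2⟩ := exists_ext_of_map A φ
  exact ⟨X, h1, hφ ▸ h2⟩

theorem summand_of_smooth [Algebra.FormallySmooth A C] [Module.Projective C Ω[C⁄B]] :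
    (∃ r : C ⊗[B] Ω[B⁄A] →ₗ[C] ↥(EGA41.imperfection A B C), ∀ z : ↥(EGA41.imperfection A B C), r z = z) ∧
      ∃ s : Ω[C⁄B] →ₗ[C] Ω[C⁄A], ∀ ω : Ω[C⁄B], KaehlerDifferential.map A B C C (s ω) = ω := by
  obtain ⟨s, hs⟩ := Module.projective_lifting_property (KaehlerDifferential.map A B C C) LinearMap.id
    (KaehlerDifferential.map_surjective A B C)
  have hs' : ∀ ω, KaehlerDifferential.map A B C C (s ω) = ω := LinearMap.congr_fun hs
  refine ⟨?_, s, hs'⟩
  let μ := KaehlerDifferential.mapBaseChange A B C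
  have hmem : ∀ ω, ((LinearMap.id : Ω[C⁄A] →ₗ[C] Ω[C⁄A]) - s ∘ₗ KaehlerDifferential.map A B C C) ω ∈ LinearMap.range μ := fun ω =>
    (KaehlerDifferential.exact_mapBaseChange_map A B C _).mp (by
      simp only [LinearMap.sub_apply, LinearMap.id_apply, LinearMap.comp_apply, map_sub, hs', sub_self])
  let π := LinearMap.codRestrict _ _ hmem
  obtain ⟨t, ht⟩ := Module.projective_lifting_property μ.rangeRestrict π μ.surjective_rangeRestrict
  have hk : ∀ w, ((LinearMap.id : C ⊗[B] Ω[B⁄A] →ₗ[C] _) - t ∘ₗ μ) w ∈ EGA41.imperfection A B C := fun w => by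
    show μ (w - t (μ w)) = 0
    rw [map_sub, sub_eq_zero]
    have h2 : μ (t (μ w)) = μ w - s (KaehlerDifferential.map A B C C (μ w)) :=
      congrArg Subtype.val (LinearMap.congr_fun ht (μ w))
    rw [h2, (KaehlerDifferential.exact_mapBaseChange_map A B C).apply_apply_eq_zero w, map_zero, sub_zero]
  refine ⟨LinearMap.codRestrict _ _ hk, fun z => Subtype.ext ?_⟩
  show (z : C ⊗[B] Ω[B⁄A]) - t (μ z) = z
  rw [show μ z = 0 from z.2, map_zero, sub_zero]

theorem isTrivialOver_of_smooth [Algebra.FormallySmooth A C] (X : Ext B C L) : X.IsTrivialOver A := by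
  have hnil : IsNilpotent (RingHom.ker ((IsScalarTower.toAlgHom A (X.CharCarrier A) C : X.CharCarrier A →ₐ[A] C) : X.CharCarrier A →+* C)) := by
    refine ⟨2, le_bot_iff.mp ?_⟩
    rw [sq]
    refine Ideal.mul_le.mpr fun x hx y hy => ?_
    obtain ⟨z, hz⟩ := (X.isExtension.exact (x : X.E)).mp hx
    obtain ⟨w, hw⟩ := (X.isExtension.exact (y : X.E)).mp hy
    rw [← hz, ← hw]
    exact (ExalBasic.incl_mul_incl X z w) ▸ Submodule.zero_mem _
  let s := Algebra.FormallySmooth.liftOfSurjective (AlgHom.id A C) (IsScalarTower.toAlgHom A (X.CharCarrier A) C)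
    X.isExtension.proj_surjective hnil
  exact ⟨{ toFun := fun c => s c, map_one' := map_one s, map_mul' := map_mul s, map_zero' := map_zero s,
           map_add' := map_add s, commutes' := s.commutes },
    fun c => Algebra.FormallySmooth.liftOfSurjective_apply (AlgHom.id A C) (IsScalarTower.toAlgHom A (X.CharCarrier A) C)
      X.isExtension.proj_surjective hnil c⟩

end Groth.Agent.H05EGA4.CharHom
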