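import Groth.Prelude.Def_Exal2
import Groth.Prelude.Def_Exal3
import Groth.Agent.H05EGA4.CharHom
import Mathlib

/-!
The characteristic homomorphism of an infinitesimal extension (EGA 0_IV 20.6).
-/

set_option autoImplicit false
set_option linter.style.haveILetI false
set_option linter.unusedSectionVars false
set_option maxHeartbeats 800000
universe u v w
open TensorProduct Exal

namespace Groth.Agent.H05EGA4.CharHomInf

theorem ext_D {R : Type u} {S C : Type v} {N : Type w} [CommRing R] [CommRing S] [CommRing C] [Algebra R S] [Algebra S C]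
    [AddCommGroup N] [Module C N] {f g : C ⊗[S] Ω[S⁄R] →ₗ[C] N}
    (h : ∀ s, f (1 ⊗ₜ[S] KaehlerDifferential.D R S s) = g (1 ⊗ₜ[S] KaehlerDifferential.D R S s)) : f = g := by
  refine LinearMap.ext fun w => ?_
  induction w using TensorProduct.induction_on with
  | zero => rw [map_zero, map_zero]
  | add x y hx hy => rw [map_add, map_add, hx, hy]
  | tmul c ω => ?_
  rw [show c ⊗ₜ[S] ω = c • ((1 : C) ⊗ₜ[S] ω) by rw [TensorProduct.smul_tmul', smul_eq_mul, mul_one], map_smul, map_smul]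
  congr 1
  have hω : ω ∈ Submodule.span S (Set.range (KaehlerDifferential.D R S)) := by
    rw [KaehlerDifferential.span_range_derivation]; trivial
  induction hω using Submodule.span_induction with
  | mem x hx =>
    obtain ⟨b, rfl⟩ := hx
    exact h b
  | zero => rw [TensorProduct.tmul_zero, map_zero, map_zero]
  | add x y _ _ hx hy => rw [TensorProduct.tmul_add, map_add, map_add, hx, hy]
  | smul b x _ hx =>
    rw [TensorProduct.tmul_smul, ← algebraMap_smul C b, map_smul, map_smul, hx]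

section Basic

variable (A : Type u) {B : Type v} [CommRing A] [CommRing B] [Algebra A B] (K : Ideal B)

theorem exists_eq_tmul_D (w : (B ⧸ K) ⊗[B] Ω[B⁄A]) (hw : KaehlerDifferential.mapBaseChange A B (B ⧸ K) w = 0) :
    ∃ k ∈ K, w = 1 ⊗ₜ[B] KaehlerDifferential.D A B k := by
  have hsurj : Function.Surjective (algebraMap B (B ⧸ K)) := Ideal.Quotient.mk_surjective
  obtain ⟨q, hq⟩ := (KaehlerDifferential.exact_kerCotangentToTensor_mapBaseChange A B (B ⧸ K) hsurj _).mp hw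
  obtain ⟨⟨k, hk⟩, rfl⟩ := Ideal.toCotangent_surjective _ q
  exact ⟨k, Ideal.Quotient.eq_zero_iff_mem.mp hk, by rw [← hq, KaehlerDifferential.kerCotangentToTensor_toCotangent]⟩

theorem tmul_D_eq_zero (k : B) (hk : k ∈ K ^ 2) : (1 : B ⧸ K) ⊗ₜ[B] KaehlerDifferential.D A B k = 0 := by
  have hk' : k ∈ RingHom.ker (algebraMap B (B ⧸ K)) := Ideal.Quotient.eq_zero_iff_mem.mpr (Ideal.pow_le_self two_ne_zero hk)
  rw [← KaehlerDifferential.kerCotangentToTensor_toCotangent A B (B ⧸ K) ⟨k, hk'⟩,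
    (Ideal.toCotangent_eq_zero _ ⟨k, hk'⟩).mpr (by
      show k ∈ RingHom.ker (algebraMap B (B ⧸ K)) ^ 2
      rw [Ideal.Quotient.algebraMap_eq, Ideal.mk_ker]
      exact hk), map_zero]

theorem mapBaseChange_tmul_D (k : B) (hk : k ∈ K) :
    KaehlerDifferential.mapBaseChange A B (B ⧸ K) (1 ⊗ₜ[B] KaehlerDifferential.D A B k) = 0 := by
  rw [KaehlerDifferential.mapBaseChange_tmul, one_smul, KaehlerDifferential.map_D, Ideal.Quotient.algebraMap_eq,
    Ideal.Quotient.eq_zero_iff_mem.mpr hk, map_zero]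

variable {A K} (s : (B ⧸ K) →ₐ[A] (Ext.infinitesimal K).CharCarrier A)
  (φ : (B ⧸ K) ⊗[B] Ω[B⁄A] →ₗ[B ⧸ K] K.Cotangent)
  (h2 : ∀ b : B, (Ext.infinitesimal K).inclC A (φ (1 ⊗ₜ[B] KaehlerDifferential.D A B b)) =
        algebraMap B ((Ext.infinitesimal K).CharCarrier A) b - s (algebraMap B (B ⧸ K) b))

include h2

theorem phi_tmul_D (k : B) (hk : k ∈ K) :
    φ (1 ⊗ₜ[B] KaehlerDifferential.D A B k) = K.toCotangent ⟨k, hk⟩ := by
  apply (Ext.infinitesimal K).isExtension.incl_injective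
  refine (h2 k).trans ?_
  rw [show algebraMap B (B ⧸ K) k = 0 from Ideal.Quotient.eq_zero_iff_mem.mpr hk, map_zero, sub_zero]
  rfl

theorem eq_zero_of_phi (w : (B ⧸ K) ⊗[B] Ω[B⁄A]) (hw : KaehlerDifferential.mapBaseChange A B (B ⧸ K) w = 0)
    (h0 : φ w = 0) : w = 0 := by
  obtain ⟨k, hk, rfl⟩ := exists_eq_tmul_D A K w hw
  rw [phi_tmul_D s φ h2 k hk, Ideal.toCotangent_eq_zero] at h0
  exact tmul_D_eq_zero A K k h0

end Basic

theorem bijective_charHom {A : Type u} {B : Type v} [CommRing A] [CommRing B] [Algebra A B]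
    (K : Ideal B) (hK : (Ext.infinitesimal K).IsTrivialOver A)
    (χ : ↥(EGA41.imperfection A B (B ⧸ K)) →ₗ[B ⧸ K] K.Cotangent)
    (hχ : (Ext.infinitesimal K).IsCharHom A χ) : Function.Bijective χ := by
  obtain ⟨s, hs⟩ := CharHom.exists_section A hK
  obtain ⟨φ, h1, h2, hinj⟩ := CharHom.exists_phi A (Ext.infinitesimal K) s hs
  have hχ' := (CharHom.isCharHom_iff A (Ext.infinitesimal K) φ h1 hinj χ).mp hχ
  refine ⟨fun x y h => Subtype.ext (sub_eq_zero.mp ?_), fun y => ?_⟩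
  · have hx : KaehlerDifferential.mapBaseChange A B (B ⧸ K) x.1 = 0 := x.2
    have hy : KaehlerDifferential.mapBaseChange A B (B ⧸ K) y.1 = 0 := y.2
    refine eq_zero_of_phi s φ h2 _ (by rw [map_sub, hx, hy, sub_self]) ?_
    rw [map_sub, ← hχ', ← hχ', h, sub_self]
  · obtain ⟨⟨k, hk⟩, rfl⟩ := Ideal.toCotangent_surjective _ y
    refine ⟨⟨1 ⊗ₜ[B] KaehlerDifferential.D A B k, mapBaseChange_tmul_D A K k hk⟩, ?_⟩
    rw [hχ']
    exact phi_tmul_D s φ h2 k hk

section Tower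

variable {Λ : Type u} {A B : Type v} [CommRing Λ] [CommRing A] [CommRing B] [Algebra Λ A] [Algebra Λ B] [Algebra A B]
  [IsScalarTower Λ A B] (K : Ideal B)

variable (Λ A) in
/-- The map `C ⊗_A Ω_{A/Λ} → C ⊗_B Ω_{B/Λ}` for `C = B ⧸ K`. -/
noncomputable def nu : (B ⧸ K) ⊗[A] Ω[A⁄Λ] →ₗ[B ⧸ K] (B ⧸ K) ⊗[B] Ω[B⁄Λ] :=
  ((KaehlerDifferential.mapBaseChange Λ A B).baseChange (B ⧸ K)) ∘ₗ
    (AlgebraTensorModule.cancelBaseChange A B (B ⧸ K) (B ⧸ K) Ω[A⁄Λ]).symm.toLinearMap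

theorem nu_tmul_D (a : A) : nu Λ A K (1 ⊗ₜ[A] KaehlerDifferential.D Λ A a) =
    1 ⊗ₜ[B] KaehlerDifferential.D Λ B (algebraMap A B a) := by
  simp [nu]

theorem mapBaseChange_nu (w : (B ⧸ K) ⊗[A] Ω[A⁄Λ]) :
    KaehlerDifferential.mapBaseChange Λ B (B ⧸ K) (nu Λ A K w) = KaehlerDifferential.mapBaseChange Λ A (B ⧸ K) w := by
  have h : KaehlerDifferential.mapBaseChange Λ B (B ⧸ K) ∘ₗ nu Λ A K = KaehlerDifferential.mapBaseChange Λ A (B ⧸ K) :=
    ext_D fun a => by
      rw [LinearMap.comp_apply, nu_tmul_D, KaehlerDifferential.mapBaseChange_tmul, KaehlerDifferential.mapBaseChange_tmul,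
        one_smul, one_smul, KaehlerDifferential.map_D, KaehlerDifferential.map_D, ← IsScalarTower.algebraMap_apply]
  exact LinearMap.congr_fun h w

theorem exists_phi_nu (htriv : ((Ext.infinitesimal K).restrictBase A).IsTrivialOver Λ)
    (χ : ↥(EGA41.imperfection Λ A (B ⧸ K)) →ₗ[B ⧸ K] K.Cotangent)
    (hχ : ((Ext.infinitesimal K).restrictBase A).IsCharHom Λ χ) :
    ∃ φ : (B ⧸ K) ⊗[B] Ω[B⁄Λ] →ₗ[B ⧸ K] K.Cotangent,
      (∀ z : ↥(EGA41.imperfection Λ A (B ⧸ K)), χ z = φ (nu Λ A K z)) ∧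
      (∀ w, KaehlerDifferential.mapBaseChange Λ B (B ⧸ K) w = 0 → φ w = 0 → w = 0) ∧
      ∀ (k : B) (hk : k ∈ K), φ (1 ⊗ₜ[B] KaehlerDifferential.D Λ B k) = K.toCotangent ⟨k, hk⟩ := by
  obtain ⟨sA, hsA⟩ := CharHom.exists_section Λ htriv
  obtain ⟨φA, hA1, hA2, hAi⟩ := CharHom.exists_phi Λ ((Ext.infinitesimal K).restrictBase A) sA hsA
  let s : (B ⧸ K) →ₐ[Λ] (Ext.infinitesimal K).CharCarrier Λ :=
    { toFun := fun c => sA c
      map_one' := map_one sA
      map_mul' := map_mul sA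
      map_zero' := map_zero sA
      map_add' := map_add sA
      commutes' := fun l => (sA.commutes l).trans
        (congrArg (algebraMap B (Ext.infinitesimal K).E) (IsScalarTower.algebraMap_apply Λ A B l).symm) }
  obtain ⟨φ, -, h2, -⟩ := CharHom.exists_phi Λ (Ext.infinitesimal K) s hsA
  have hφ : φA = φ ∘ₗ nu Λ A K := ext_D fun a => by
    apply (Ext.infinitesimal K).isExtension.incl_injective
    rw [LinearMap.comp_apply, nu_tmul_D]
    refine (hA2 a).trans (Eq.trans ?_ (h2 (algebraMap A B a)).symm)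
    rw [← IsScalarTower.algebraMap_apply A B (B ⧸ K)]
    rfl
  refine ⟨φ, fun z => ?_, fun w hw h0 => eq_zero_of_phi s φ h2 w hw h0, fun k hk => phi_tmul_D s φ h2 k hk⟩
  rw [(CharHom.isCharHom_iff Λ ((Ext.infinitesimal K).restrictBase A) φA hA1 hAi χ).mp hχ z, hφ]
  rfl

theorem exact_charHom (htriv : ((Ext.infinitesimal K).restrictBase A).IsTrivialOver Λ)
    (χ : ↥(EGA41.imperfection Λ A (B ⧸ K)) →ₗ[B ⧸ K] K.Cotangent)
    (hχ : ((Ext.infinitesimal K).restrictBase A).IsCharHom Λ χ) :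
    (∀ z : ↥(EGA41.imperfection Λ A (B ⧸ K)), χ z = 0 ↔ nu Λ A K z = 0) ∧
      ∀ (x : B) (hx : x ∈ K),
        K.toCotangent ⟨x, hx⟩ ∈ LinearMap.range χ ↔
          (1 : B ⧸ K) ⊗ₜ[B] KaehlerDifferential.D A B x = (0 : (B ⧸ K) ⊗[B] Ω[B⁄A]) := by
  obtain ⟨φ, hφ, hzero, hD⟩ := exists_phi_nu K htriv χ hχ
  have hz0 : ∀ z : ↥(EGA41.imperfection Λ A (B ⧸ K)), KaehlerDifferential.mapBaseChange Λ A (B ⧸ K) z.1 = 0 :=
    fun z => z.2
  refine ⟨fun z => ⟨fun h => hzero _ ((mapBaseChange_nu K z.1).trans (hz0 z)) ((hφ z).symm.trans h),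
    fun h => by rw [hφ, h, map_zero]⟩, fun x hx => ?_⟩
  have hex : Function.Exact ((KaehlerDifferential.mapBaseChange Λ A B).lTensor (B ⧸ K))
      ((KaehlerDifferential.map Λ A B B).lTensor (B ⧸ K)) :=
    lTensor_exact (B ⧸ K) (KaehlerDifferential.exact_mapBaseChange_map Λ A B)
      (KaehlerDifferential.map_surjective Λ A B)
  have hxA : (KaehlerDifferential.map Λ A B B).lTensor (B ⧸ K) (1 ⊗ₜ[B] KaehlerDifferential.D Λ B x) =
      1 ⊗ₜ[B] KaehlerDifferential.D A B x := by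
    rw [LinearMap.lTensor_tmul, KaehlerDifferential.map_D]
    rfl
  constructor
  · rintro ⟨z, hz⟩
    have heq : nu Λ A K z = 1 ⊗ₜ[B] KaehlerDifferential.D Λ B x := by
      refine sub_eq_zero.mp (hzero _ ?_ ?_)
      · rw [map_sub, mapBaseChange_nu, mapBaseChange_tmul_D Λ K x hx, sub_zero]
        exact hz0 z
      · rw [map_sub, ← hφ, hz, hD x hx, sub_self]
    rw [← hxA]
    exact (hex _).mpr ⟨_, heq⟩
  · intro h
    obtain ⟨t, ht⟩ := (hex _).mp (hxA.trans h)
    obtain ⟨w, rfl⟩ := (AlgebraTensorModule.cancelBaseChange A B (B ⧸ K) (B ⧸ K) Ω[A⁄Λ]).symm.surjective t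
    have ht' : nu Λ A K w = 1 ⊗ₜ[B] KaehlerDifferential.D Λ B x := ht
    have hw : KaehlerDifferential.mapBaseChange Λ A (B ⧸ K) w = 0 := by
      rw [← mapBaseChange_nu, ht', mapBaseChange_tmul_D Λ K x hx]
    refine ⟨⟨w, hw⟩, ?_⟩
    rw [hφ]
    show φ (nu Λ A K w) = _
    rw [ht', hD x hx]

theorem nu_injective [Algebra.FormallySmooth A B] : Function.Injective (nu Λ A K) := by
  let μ := KaehlerDifferential.mapBaseChange Λ A B
  have hμ : Function.Injective μ := by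
    refine (injective_iff_map_eq_zero μ).mpr fun w hw => ?_
    obtain ⟨q, rfl⟩ := (Algebra.H1Cotangent.exact_δ_mapBaseChange (R := Λ) (S := A) (T := B) w).mp hw
    haveI : Subsingleton (Algebra.H1Cotangent A B) := Algebra.FormallySmooth.subsingleton_h1Cotangent
    rw [Subsingleton.elim q 0, map_zero]
  obtain ⟨s, hs⟩ := Module.projective_lifting_property (KaehlerDifferential.map Λ A B B) LinearMap.id
    (KaehlerDifferential.map_surjective Λ A B)
  have hs' : ∀ ω, KaehlerDifferential.map Λ A B B (s ω) = ω := LinearMap.congr_fun hs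
  have hmem : ∀ ω, ((LinearMap.id : Ω[B⁄Λ] →ₗ[B] Ω[B⁄Λ]) - s ∘ₗ KaehlerDifferential.map Λ A B B) ω ∈ LinearMap.range μ :=
    fun ω => (KaehlerDifferential.exact_mapBaseChange_map Λ A B _).mp (by
      simp only [LinearMap.sub_apply, LinearMap.id_apply, LinearMap.comp_apply, map_sub, hs', sub_self])
  let r : Ω[B⁄Λ] →ₗ[B] B ⊗[A] Ω[A⁄Λ] :=
    (LinearEquiv.ofInjective μ hμ).symm.toLinearMap ∘ₗ LinearMap.codRestrict _ _ hmem
  have hr : r ∘ₗ μ = LinearMap.id := by
    refine LinearMap.ext fun w => ?_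
    show (LinearEquiv.ofInjective μ hμ).symm _ = w
    rw [LinearEquiv.symm_apply_eq]
    refine Subtype.ext ?_
    show μ w - s (KaehlerDifferential.map Λ A B B (μ w)) = μ w
    rw [(KaehlerDifferential.exact_mapBaseChange_map Λ A B).apply_apply_eq_zero w, map_zero, sub_zero]
  have hinj : Function.Injective (μ.baseChange (B ⧸ K)) := fun x y h => by
    have h' := congrArg (r.baseChange (B ⧸ K)) h
    simpa only [← LinearMap.comp_apply, ← LinearMap.baseChange_comp, hr, LinearMap.baseChange_id, LinearMap.id_apply]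
      using h'
  exact hinj.comp (AlgebraTensorModule.cancelBaseChange A B (B ⧸ K) (B ⧸ K) Ω[A⁄Λ]).symm.injective

theorem injective_charHom [Algebra.FormallySmooth A B] (htriv : ((Ext.infinitesimal K).restrictBase A).IsTrivialOver Λ)
    (χ : ↥(EGA41.imperfection Λ A (B ⧸ K)) →ₗ[B ⧸ K] K.Cotangent)
    (hχ : ((Ext.infinitesimal K).restrictBase A).IsCharHom Λ χ) : Function.Injective χ :=
  fun x y h => Subtype.ext (nu_injective K (sub_eq_zero.mp (by
    rw [← map_sub]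
    exact ((exact_charHom K htriv χ hχ).1 (x - y)).mp ((LinearMap.map_sub χ x y).trans (sub_eq_zero.mpr h)))))

end Tower

end Groth.Agent.H05EGA4.CharHomInf
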