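import Groth.Agent.H05EGA4.FlatWithFibre
import Groth.Agent.S2454

/-! Existence and uniqueness of Cohen algebras. -/

set_option autoImplicit false
set_option linter.style.haveILetI false
set_option maxHeartbeats 400000
universe u
open IsLocalRing Groth.Agent

namespace Groth.Agent.H05EGA4

theorem bijective_of_surjective_ringEndo {R : Type u} [CommRing R] [IsNoetherianRing R] (φ : R →+* R)
    (hφ : Function.Surjective φ) : Function.Bijective φ := by
  refine ⟨(injective_iff_map_eq_zero φ).2 fun x hx => ?_, hφ⟩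
  let K : ℕ →o Ideal R :=
    { toFun := fun n => RingHom.ker (φ ^ n : R →+* R)
      monotone' := monotone_nat_of_le_succ fun n y (hy : (φ ^ n) y = 0) => by
        show (φ ^ (n + 1)) y = 0
        rw [pow_succ', RingHom.mul_def, RingHom.comp_apply, hy, map_zero] }
  obtain ⟨n, hn⟩ := monotone_stabilizes_iff_noetherian.2 inferInstance K
  obtain ⟨y, rfl⟩ := (show Function.Surjective (φ ^ n : R →+* R) by
    rw [RingHom.coe_pow]; exact hφ.iterate n) x
  have hy : y ∈ K (n + 1) := by
    show (φ ^ (n + 1)) y = 0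
    rw [pow_succ', RingHom.mul_def, RingHom.comp_apply, hx]
  rw [← hn (n + 1) (Nat.le_succ n)] at hy
  exact hy

variable {A : Type u} [CommRing A] [IsLocalRing A]

/-- A Cohen algebra maps onto any complete unramified algebra with isomorphic residue field. -/
theorem exists_surjective_of_isCohenAlgebra {B B' : Type u} [CommRing B] [IsLocalRing B] [Algebra A B]
    [IsLocalHom (algebraMap A B)] [CommRing B'] [IsLocalRing B'] [Algebra A B'] [IsLocalHom (algebraMap A B')]
    (hB : EGA41.IsCohenAlgebra A B) (hcB' : IsAdicComplete (maximalIdeal B') B')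
    (hmB' : (maximalIdeal A).map (algebraMap A B') = maximalIdeal B')
    (σ : ResidueField B ≃ₐ[ResidueField A] ResidueField B') :
    ∃ w : B →ₐ[A] B', Function.Surjective w ∧ ∀ b, residue B' (w b) = σ (residue B b) := by
  have hfs := S2454.result hB
  obtain ⟨-, -, hcB, -, hmB, -⟩ := hB
  let τ : B →+* ResidueField B' := (σ : ResidueField B →+* ResidueField B').comp (residue B)
  have hτA : ∀ a, τ (algebraMap A B a) = residue B' (algebraMap A B' a) := fun a => σ.commutes (residue A a)
  have hτs : Function.Surjective τ := σ.surjective.comp residue_surjective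
  let u : B →ₐ[A] B' ⧸ maximalIdeal B' := { τ with commutes' := hτA }
  obtain ⟨w, hw⟩ := exists_lift_adicComplete (maximalIdeal B') (maximalIdeal B') le_rfl (fun n K hK hnK v => by
    let J : Ideal (B' ⧸ maximalIdeal B' ^ (n + 1)) := K.map (Ideal.Quotient.mk _)
    let e := DoubleQuot.quotQuotEquivQuotOfLEₐ A hnK
    have hzero : ∀ a ∈ maximalIdeal A ^ (n + 1),
        algebraMap A (B' ⧸ maximalIdeal B' ^ (n + 1)) a = 0 := fun a ha => by
      show Ideal.Quotient.mk _ (algebraMap A B' a) = 0
      rw [Ideal.Quotient.eq_zero_iff_mem, ← hmB', ← Ideal.map_pow]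
      exact Ideal.mem_map_of_mem _ ha
    have hJ : IsNilpotent J := ⟨n + 1, le_bot_iff.1 <| (Ideal.pow_right_mono (Ideal.map_mono hK) _).trans <| by
      rw [← Ideal.map_pow, Ideal.map_quotient_self]⟩
    obtain ⟨v', hv'⟩ := hfs (B' ⧸ maximalIdeal B' ^ (n + 1)) J hJ
      ⟨n + 1, le_bot_iff.1 (Ideal.map_le_iff_le_comap.2 hzero)⟩ (e.symm.toAlgHom.comp v)
      ⟨n + 1, fun x hx => by
        rw [← hmB, ← Ideal.map_pow] at hx
        have h1 : (maximalIdeal A ^ (n + 1)).map (algebraMap A B) ≤ RingHom.ker v :=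
          Ideal.map_le_iff_le_comap.2 fun a ha => by
            show v (algebraMap A B a) = 0
            rw [AlgHom.commutes]
            show Ideal.Quotient.mk K (algebraMap A B' a) = 0
            rw [Ideal.Quotient.eq_zero_iff_mem]
            refine hnK ?_
            rw [← hmB', ← Ideal.map_pow]
            exact Ideal.mem_map_of_mem _ ha
        show e.symm (v x) = 0
        rw [show v x = 0 from h1 hx, map_zero]⟩
    refine ⟨v', fun x c hc => ?_⟩
    have h2 : Ideal.Quotient.mk J (v' x) = e.symm (v x) := AlgHom.congr_fun hv' x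
    rw [hc] at h2
    rw [← e.apply_symm_apply (v x), ← h2]
    rfl) u
  have hres : ∀ b, residue B' (w b) = σ (residue B b) := fun b => by
    obtain ⟨c, hc⟩ := Ideal.Quotient.mk_surjective (u b)
    have h := hw b c hc.symm 1
    rw [pow_one, sup_idem] at h
    show residue B' (w b) = u b
    rw [← hc, ← sub_eq_zero]
    show residue B' (w b) - residue B' c = 0
    rw [← map_sub, residue_eq_zero_iff]
    exact h
  refine ⟨w, ?_, hres⟩
  have h0 : ∀ s, ∃ x, w x - s ∈ maximalIdeal B' := fun s => by
    obtain ⟨x, hx⟩ := hτs (residue B' s)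
    refine ⟨x, ?_⟩
    rw [← residue_eq_zero_iff, map_sub, hres, sub_eq_zero]
    exact hx
  refine H02CA.PS.surjective_of_approx w.toRingHom (maximalIdeal B) (maximalIdeal B') (fun x hx => ?_) h0 ?_
  · rw [← residue_eq_zero_iff]
    show residue B' (w x) = 0
    rw [hres, (residue_eq_zero_iff x).2 hx, map_zero]
  · intro s hs
    rw [← hmB'] at hs
    induction hs using Submodule.span_induction with
    | mem y hy =>
      obtain ⟨a, ha, rfl⟩ := hy
      exact ⟨algebraMap A B a, hmB ▸ Ideal.mem_map_of_mem _ ha, by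
        show w (algebraMap A B a) - algebraMap A B' a ∈ _
        rw [AlgHom.commutes, sub_self]; exact zero_mem _⟩
    | zero => exact ⟨0, zero_mem _, by rw [map_zero, sub_zero]; exact zero_mem _⟩
    | add y z _ _ hy hz =>
      obtain ⟨x, hx, hxy⟩ := hy
      obtain ⟨x', hx', hxz⟩ := hz
      exact ⟨x + x', add_mem hx hx', by rw [map_add, add_sub_add_comm]; exact add_mem hxy hxz⟩
    | smul r y hy' hy =>
      obtain ⟨x, hx, hxy⟩ := hy
      obtain ⟨c, hc⟩ := h0 r
      refine ⟨c * x, Ideal.mul_mem_left _ c hx, ?_⟩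
      have hy2 : y ∈ maximalIdeal B' := by rw [← hmB']; exact hy'
      have hd : (w.toRingHom c - r) * y ∈ maximalIdeal B' ^ 2 := by rw [pow_two]; exact Ideal.mul_mem_mul hc hy2
      rw [smul_eq_mul, map_mul,
        show w.toRingHom c * w.toRingHom x - r * y = w.toRingHom c * (w.toRingHom x - y) + (w.toRingHom c - r) * y by ring]
      exact add_mem (Ideal.mul_mem_left _ _ hxy) hd

theorem exists_algEquiv_of_isCohenAlgebra {B B' : Type u} [CommRing B] [IsLocalRing B] [Algebra A B]
    [IsLocalHom (algebraMap A B)] [CommRing B'] [IsLocalRing B'] [Algebra A B'] [IsLocalHom (algebraMap A B')]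
    (hB : EGA41.IsCohenAlgebra A B) (hB' : EGA41.IsCohenAlgebra A B')
    (σ : ResidueField B ≃ₐ[ResidueField A] ResidueField B') :
    ∃ w : B ≃ₐ[A] B', ∀ b, residue B' (w b) = σ (residue B b) := by
  obtain ⟨-, hn, hc, -, hm, -⟩ := id hB
  obtain ⟨-, -, hc', -, hm', -⟩ := id hB'
  obtain ⟨w, hw, hres⟩ := exists_surjective_of_isCohenAlgebra hB hc' hm' σ
  obtain ⟨w', hw', -⟩ := exists_surjective_of_isCohenAlgebra hB' hc hm σ.symm
  haveI := hn
  have hb := bijective_of_surjective_ringEndo (w'.comp w).toRingHom (hw'.comp hw)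
  exact ⟨AlgEquiv.ofBijective w ⟨fun x y h => hb.1 (congrArg w' h), hw⟩, hres⟩

open TensorProduct in
theorem exists_isCohenAlgebra [IsNoetherianRing A]
    (K : Type u) [Field K] [Algebra (ResidueField A) K] [Algebra.IsGeometricallyReduced (ResidueField A) K] :
    ∃ (B : Type u) (_ : CommRing B) (_ : IsLocalRing B) (_ : Algebra A B) (_ : IsLocalHom (algebraMap A B)),
      EGA41.IsCohenAlgebra A B ∧ Nonempty (ResidueField B ≃ₐ[ResidueField A] K) := by
  haveI : IsAdicComplete (maximalIdeal K) K := (coefficientRing_spec (Or.inl (Field.toIsField K))).2.2.2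
  obtain ⟨B, _, _, hn, _, _, hc, hfl, ⟨e⟩⟩ := exists_flat_complete_with_fibre (A := A) K
  let f : B →+* K := (e : ResidueField A ⊗[A] B →+* K).comp Algebra.TensorProduct.includeRight.toRingHom
  have h2 : ∀ z : ResidueField A ⊗[A] B, ∃ y, z = 1 ⊗ₜ y := fun z => by
    induction z using TensorProduct.induction_on with
    | zero => exact ⟨0, by rw [tmul_zero]⟩
    | add a b ha hb =>
      obtain ⟨c, rfl⟩ := ha
      obtain ⟨d, rfl⟩ := hb
      exact ⟨c + d, by rw [tmul_add]⟩
    | tmul a c =>
      obtain ⟨x, rfl⟩ := residue_surjective a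
      exact ⟨x • c, by rw [← smul_tmul, Algebra.smul_def, mul_one]; rfl⟩
  have hfs : Function.Surjective f := fun y => by
    obtain ⟨z, hz⟩ := h2 (e.symm y)
    exact ⟨z, by show e (1 ⊗ₜ z) = y; rw [← hz, e.apply_symm_apply]⟩
  have hker : RingHom.ker f = maximalIdeal B := eq_maximalIdeal (RingHom.ker_isMaximal_of_surjective f hfs)
  let fr : ResidueField B →+* K := Ideal.Quotient.lift (maximalIdeal B) f fun x hx => hker.ge hx
  have hfrA : ∀ x, fr (algebraMap (ResidueField A) (ResidueField B) x) = algebraMap (ResidueField A) K x := fun x => by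
    obtain ⟨a, rfl⟩ := residue_surjective x
    show e (1 ⊗ₜ algebraMap A B a) = _
    rw [show (1 : ResidueField A) ⊗ₜ[A] algebraMap A B a = algebraMap (ResidueField A) _ (residue A a) by
      rw [Algebra.TensorProduct.algebraMap_apply, Algebra.algebraMap_eq_smul_one (R := A) a, ← smul_tmul,
        Algebra.smul_def, mul_one]
      rfl, e.commutes]
  let σ : ResidueField B ≃ₐ[ResidueField A] K := AlgEquiv.ofBijective { fr with commutes' := hfrA }
    ⟨fr.injective, fun y => by
      obtain ⟨z, rfl⟩ := hfs y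
      exact ⟨residue B z, rfl⟩⟩
  refine ⟨B, inferInstance, inferInstance, inferInstance, inferInstance,
    ⟨inferInstance, hn, hc, hfl, le_antisymm (map_maximalIdeal_le (algebraMap A B)) fun x hx => ?_,
      Algebra.IsGeometricallyReduced.of_injective σ.toAlgHom σ.injective⟩, ⟨σ⟩⟩
  have h : e (1 ⊗ₜ x) = 0 := hker.ge hx
  rw [map_eq_zero_iff e e.injective] at h
  let Q := B ⧸ (maximalIdeal A).map (algebraMap A B)
  let g : ResidueField A →ₐ[A] Q := Ideal.Quotient.liftₐ (maximalIdeal A) (Algebra.ofId A Q) fun a ha => by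
    show Ideal.Quotient.mk _ (algebraMap A B a) = 0
    exact Ideal.Quotient.eq_zero_iff_mem.2 (Ideal.mem_map_of_mem _ ha)
  have hP : ∀ z, Algebra.TensorProduct.lift g
      (Ideal.Quotient.mkₐ A ((maximalIdeal A).map (algebraMap A B))) (fun _ _ => Commute.all _ _) ((1 : ResidueField A) ⊗ₜ[A] z) =
      Ideal.Quotient.mk _ z := fun z => by simp only [Algebra.TensorProduct.lift_tmul, map_one, one_mul]; rfl
  rw [← Ideal.Quotient.eq_zero_iff_mem, ← hP, h, map_zero]

end Groth.Agent.H05EGA4
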