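import Groth.Agent.H05EGA4.CohenMisc
import Groth.Agent.H05EGA4.FlatPresentation
import Groth.Agent.H02CA.RegularQuotient
import Groth.Agent.H02CA.AdicSmooth
import Groth.Agent.S5784

/-! Minimal presentations of complete local rings. -/

set_option autoImplicit false
set_option linter.style.haveILetI false
set_option maxHeartbeats 400000
universe u
open IsLocalRing Groth.Agent

namespace Groth.Agent.H05EGA4

theorem exists_minimal_regular_quotient {R P₀ : Type u} [CommRing R] [Nontrivial R]
    [CommRing P₀] [IsRegularLocalRing P₀] (π₀ : P₀ →+* R) (hπ₀ : Function.Surjective π₀) :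
    ∃ (P : Type u) (_ : CommRing P) (_ : IsRegularLocalRing P) (π : P →+* R),
      Function.Surjective π ∧ RingHom.ker π ≤ maximalIdeal P ^ 2 := by
  obtain ⟨K, ⟨hKker, hKreg⟩, hmax⟩ := set_has_maximal_iff_noetherian.mpr inferInstance
    {K : Ideal P₀ | K ≤ RingHom.ker π₀ ∧ IsRegularLocalRing (P₀ ⧸ K)}
    ⟨⊥, bot_le, IsRegularLocalRing.of_ringEquiv (RingEquiv.quotientBot P₀).symm⟩
  haveI : IsRegularLocalRing (P₀ ⧸ K) := hKreg
  let π : P₀ ⧸ K →+* R := Ideal.Quotient.lift K π₀ fun a ha => hKker ha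
  have hπ : Function.Surjective π := fun r => by
    obtain ⟨p, rfl⟩ := hπ₀ r
    exact ⟨Ideal.Quotient.mk K p, rfl⟩
  refine ⟨P₀ ⧸ K, inferInstance, hKreg, π, hπ, fun f hf => ?_⟩
  by_contra hf2
  have hfm : f ∈ maximalIdeal (P₀ ⧸ K) := le_maximalIdeal (RingHom.ker_ne_top π) hf
  have hind : ∀ a : Fin 1 → P₀ ⧸ K, ∑ j, a j * f ∈ maximalIdeal (P₀ ⧸ K) ^ 2 → ∀ j, a j ∈ maximalIdeal (P₀ ⧸ K) :=
    fun a ha j => by
      rw [Fin.sum_univ_one] at ha
      by_contra hj
      obtain rfl := Subsingleton.elim j 0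
      exact hf2 ((Ideal.unit_mul_mem_iff_mem _ (of_not_not fun h => hj ((mem_maximalIdeal _).mpr h))).mp ha)
  have hreg := (H02CA.regular_quotient_of_independent (fun _ : Fin 1 => f) (fun _ => hfm) hind).1
  obtain ⟨g, rfl⟩ := Ideal.Quotient.mk_surjective f
  have hspan : Ideal.span (Set.range fun _ : Fin 1 => Ideal.Quotient.mk K g) = (Ideal.span {g}).map (Ideal.Quotient.mk K) := by
    rw [Ideal.map_span, Set.image_singleton, Set.range_const]
  haveI : IsRegularLocalRing ((P₀ ⧸ K) ⧸ (Ideal.span {g}).map (Ideal.Quotient.mk K)) := hspan ▸ hreg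
  have hK'reg : IsRegularLocalRing (P₀ ⧸ (K ⊔ Ideal.span {g})) :=
    IsRegularLocalRing.of_ringEquiv (R := (P₀ ⧸ K) ⧸ (Ideal.span {g}).map (Ideal.Quotient.mk K))
      (DoubleQuot.quotQuotEquivQuotSup K (Ideal.span {g}))
  have hlt : K < K ⊔ Ideal.span {g} := Submodule.lt_sup_iff_notMem.mpr fun hg => hf2 (by
    rw [Ideal.Quotient.eq_zero_iff_mem.mpr hg]; exact zero_mem _)
  exact hmax _ ⟨sup_le hKker ((Ideal.span_singleton_le_iff_mem _).mpr hf), hK'reg⟩ hlt

theorem exists_regularLocalRing_equiv_quotient_sq {A : Type u} [CommRing A] [IsLocalRing A] [IsArtinianRing A]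
    (h : maximalIdeal A ^ 2 = ⊥) :
    ∃ (B : Type u) (_ : CommRing B) (_ : IsRegularLocalRing B), Nonempty (A ≃+* B ⧸ maximalIdeal B ^ 2) := by
  haveI : IsAdicComplete (maximalIdeal A) A := H02CA.AdicSmooth.isAdicComplete_of_pow_eq_bot h
  obtain ⟨Λ, _, n, f, hΛ, hf⟩ := exists_surjective_mvPowerSeries A (IsNoetherian.noetherian _)
  obtain ⟨_, _, _, -⟩ := coefficientRing_spec hΛ
  haveI := isRegularRing_of_isField_or_isCohenRing hΛ
  haveI : IsRegularRing (MvPowerSeries (Fin n) Λ) := S5784.result Λ _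
  haveI : IsRegularLocalRing (MvPowerSeries (Fin n) Λ) := IsRegularLocalRing.of_isRegularRing_of_isLocalRing _
  obtain ⟨B, _, _, π, hπ, hker⟩ := exists_minimal_regular_quotient f hf
  haveI : IsLocalHom π := Function.Surjective.isLocalHom π hπ
  have hk : RingHom.ker π = maximalIdeal B ^ 2 := le_antisymm hker fun x hx => by
    have h1 := Ideal.mem_map_of_mem π hx
    rw [Ideal.map_pow, IsLocalRing.map_maximalIdeal_of_surjective π hπ, h, Ideal.mem_bot] at h1
    exact h1
  exact ⟨B, inferInstance, inferInstance,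
    ⟨(RingHom.quotientKerEquivOfSurjective hπ).symm.trans (Ideal.quotEquivOfEq hk)⟩⟩

/-- A presentation with minimal generators has kernel in the square of the maximal ideal. -/
theorem ker_le_sq_of_linearIndependent {A B : Type u} [CommRing A] [IsLocalRing A] [CommRing B] [IsLocalRing B]
    (ψ : B →+* A) (hψ : Function.Surjective ψ) {n : ℕ} (x : Fin n → B)
    (hx : Ideal.span (Set.range x) = maximalIdeal B) (hm : ∀ i, ψ (x i) ∈ maximalIdeal A)
    (hli : LinearIndependent (ResidueField A) fun i => (maximalIdeal A).toCotangent ⟨ψ (x i), hm i⟩) :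
    RingHom.ker ψ ≤ maximalIdeal B ^ 2 := by
  intro f hf
  haveI : IsLocalHom ψ := Function.Surjective.isLocalHom ψ hψ
  have hfm : f ∈ maximalIdeal B := le_maximalIdeal (RingHom.ker_ne_top ψ) hf
  rw [← hx, Ideal.mem_span_range_iff_exists_fun] at hfm
  obtain ⟨g, rfl⟩ := hfm
  have h0 : ∑ i, residue A (ψ (g i)) • (maximalIdeal A).toCotangent ⟨ψ (x i), hm i⟩ = 0 := by
    have h1 : ∀ i, residue A (ψ (g i)) • (maximalIdeal A).toCotangent ⟨ψ (x i), hm i⟩ =
        (maximalIdeal A).toCotangent (ψ (g i) • ⟨ψ (x i), hm i⟩) := fun i => by rw [map_smul]; rfl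
    simp only [h1, ← map_sum]
    rw [Ideal.toCotangent_eq_zero]
    rw [RingHom.mem_ker, map_sum] at hf
    simp only [map_mul] at hf
    simp only [Submodule.coe_sum, Submodule.coe_smul, smul_eq_mul, hf]
    exact zero_mem _
  have h2 := Fintype.linearIndependent_iff.1 hli _ h0
  refine Submodule.sum_mem _ fun i _ => ?_
  rw [pow_two]
  refine Ideal.mul_mem_mul (fun hu => ?_) (hx ▸ Ideal.subset_span ⟨i, rfl⟩)
  exact ((residue_eq_zero_iff _).1 (h2 i)) (hu.map ψ)

theorem exists_minimal_powerSeries_presentation {A K : Type u} [CommRing A] [IsLocalRing A] [IsNoetherianRing A]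
    [IsAdicComplete (maximalIdeal A) A] [Field K] (v : K →+* A) (hv : ∀ a, ∃ l, v l - a ∈ maximalIdeal A) :
    ∃ (n : ℕ) (f : MvPowerSeries (Fin n) K →+* A), Function.Surjective f ∧
      RingHom.ker f ≤ maximalIdeal (MvPowerSeries (Fin n) K) ^ 2 := by
  let b := Module.finBasis (ResidueField A) (CotangentSpace A)
  choose x hx using fun i => (maximalIdeal A).toCotangent_surjective (b i)
  have hspan : Ideal.span (Set.range fun i => (x i : A)) = maximalIdeal A := by
    have h1 : Submodule.span (ResidueField A) ((maximalIdeal A).toCotangent '' Set.range x) = ⊤ := by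
      rw [← Set.range_comp, show (maximalIdeal A).toCotangent ∘ x = b from funext hx, b.span_eq]
    have h3 := congrArg (Submodule.map (maximalIdeal A).subtype) ((CotangentSpace.span_image_eq_top_iff (R := A)).mp h1)
    rw [Submodule.map_top, Submodule.range_subtype, Submodule.map_span, ← Set.range_comp] at h3
    exact h3
  obtain ⟨ψ, hψ, -, hψX⟩ := exists_surjective_mvPowerSeries_of_generators v hv _ hspan
  haveI : IsLocalRing (MvPowerSeries (Fin (Module.finrank (ResidueField A) (CotangentSpace A))) K) := inferInstance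
  refine ⟨_, ψ, hψ, ker_le_sq_of_linearIndependent ψ hψ MvPowerSeries.X ?_
    (fun i => by rw [hψX]; exact (x i).2) ?_⟩
  · rw [maximalIdeal_mvPowerSeries K, (IsLocalRing.isField_iff_maximalIdeal_eq.mp (Field.toIsField K)), Ideal.map_bot,
      bot_sup_eq]
  · convert b.linearIndependent using 1
    funext i
    rw [← hx i]
    exact congrArg _ (Subtype.ext (hψX i))

end Groth.Agent.H05EGA4
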