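import Mathlib.RingTheory.AdicCompletion.Functoriality
import Mathlib.RingTheory.AdicCompletion.AsTensorProduct
import Mathlib.RingTheory.LocalRing.Module
import Mathlib.LinearAlgebra.TensorProduct.Quotient
import Mathlib.RingTheory.OrzechProperty
import Mathlib.LinearAlgebra.Dimension.Constructions
import Mathlib.LinearAlgebra.Dimension.Finite

/-! Completions of modules with free reductions modulo the powers of the maximal ideal. -/

set_option autoImplicit false
set_option linter.style.haveILetI false

open TensorProduct IsLocalRing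

universe u

namespace Groth.Agent.H05EGA4.CompletedFree

variable {A M : Type u} [CommRing A] [IsLocalRing A] [AddCommGroup M] [Module A M]

/-- A map from a free module lifting a basis modulo the maximal ideal is bijective modulo `I` when the
reduction modulo `I` is projective. -/
theorem mem_smul_top_of_map_mem {d : ℕ} (f : (Fin d → A) →ₗ[A] M) (I : Ideal A) (hI : I ≤ maximalIdeal A)
    (hs : Function.Surjective ((f.baseChange (A ⧸ I)))) [Module.Projective (A ⧸ I) ((A ⧸ I) ⊗[A] M)]
    (hd : Module.finrank (ResidueField A) (ResidueField A ⊗[A] M) = d) (x : Fin d → A)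
    (hx : f x ∈ (I • ⊤ : Submodule A M)) : x ∈ (I • ⊤ : Submodule A (Fin d → A)) := by
  haveI : Nontrivial (A ⧸ I) := Ideal.Quotient.nontrivial_iff.2 fun h => by
    subst h
    exact (maximalIdeal.isMaximal A).ne_top (top_le_iff.1 hI)
  haveI : IsLocalRing (A ⧸ I) := IsLocalRing.of_surjective' _ Ideal.Quotient.mk_surjective
  haveI : Module.Finite (A ⧸ I) ((A ⧸ I) ⊗[A] M) := Module.Finite.of_surjective _ hs
  haveI : Module.Free (A ⧸ I) ((A ⧸ I) ⊗[A] M) := Module.free_of_flat_of_isLocalRing
  letI : Algebra (A ⧸ I) (ResidueField A) := (Ideal.Quotient.factor hI).toAlgebra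
  haveI : IsScalarTower A (A ⧸ I) (ResidueField A) := IsScalarTower.of_algebraMap_eq fun _ => rfl
  have hr : Module.finrank (A ⧸ I) ((A ⧸ I) ⊗[A] M) = d := by
    rw [← hd, ← Module.finrank_baseChange (R := ResidueField A) (S := A ⧸ I) (M' := (A ⧸ I) ⊗[A] M)]
    exact (AlgebraTensorModule.cancelBaseChange A (A ⧸ I) (ResidueField A) (ResidueField A) M).finrank_eq
  have hr' : Module.finrank (A ⧸ I) ((A ⧸ I) ⊗[A] (Fin d → A)) = d := by
    rw [Module.finrank_baseChange, Module.finrank_fin_fun]
  let e := LinearEquiv.ofFinrankEq ((A ⧸ I) ⊗[A] M) ((A ⧸ I) ⊗[A] (Fin d → A)) (hr.trans hr'.symm)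
  have hinj : Function.Injective (f.baseChange (A ⧸ I)) := by
    have := OrzechProperty.injective_of_surjective_endomorphism
      (e.toLinearMap ∘ₗ f.baseChange (A ⧸ I)) (e.surjective.comp hs)
    exact fun a b hab => this (congrArg e hab)
  have h0 : (1 : A ⧸ I) ⊗ₜ[A] x = 0 := by
    refine hinj ?_
    rw [LinearMap.baseChange_tmul, map_zero]
    refine (TensorProduct.quotTensorEquivQuotSMul M I).injective ?_
    rw [map_zero, show (1 : A ⧸ I) = Ideal.Quotient.mk I 1 from rfl,
      TensorProduct.quotTensorEquivQuotSMul_mk_tmul, one_smul, Submodule.Quotient.mk_eq_zero]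
    exact hx
  have h1 := congrArg (TensorProduct.quotTensorEquivQuotSMul (Fin d → A) I) h0
  rwa [map_zero, show (1 : A ⧸ I) = Ideal.Quotient.mk I 1 from rfl,
    TensorProduct.quotTensorEquivQuotSMul_mk_tmul, one_smul, Submodule.Quotient.mk_eq_zero] at h1

/-- If all `M / 𝔪ⁿ M` are projective and `M / 𝔪 M` has dimension `d`, then the completion is free of rank `d`. -/
theorem nonempty_adicCompletion_equiv [IsAdicComplete (maximalIdeal A) A]
    (hproj : ∀ n, 0 < n → Module.Projective (A ⧸ maximalIdeal A ^ n) ((A ⧸ maximalIdeal A ^ n) ⊗[A] M))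
    [Module.Finite (ResidueField A) (ResidueField A ⊗[A] M)] :
    Nonempty (AdicCompletion (maximalIdeal A) M ≃ₗ[A]
      (Fin (Module.finrank (ResidueField A) (ResidueField A ⊗[A] M)) → A)) := by
  set d := Module.finrank (ResidueField A) (ResidueField A ⊗[A] M) with hd
  let b := Module.finBasis (ResidueField A) (ResidueField A ⊗[A] M)
  have hsurj1 : Function.Surjective (TensorProduct.mk A (ResidueField A) M 1) :=
    TensorProduct.mk_surjective A M (ResidueField A) residue_surjective
  choose w hw using fun i => hsurj1 (b i)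
  let f : (Fin d → A) →ₗ[A] M := (Pi.basisFun A (Fin d)).constr A w
  have hf : ∀ i, f (Pi.single i 1) = w i := fun i => by
    rw [← Pi.basisFun_apply]
    exact Module.Basis.constr_basis _ _ _ i
  -- modulo every power of the maximal ideal `f` is surjective
  have htop : (maximalIdeal A • ⊤ : Submodule A M) ⊔ LinearMap.range f = ⊤ := by
    rw [eq_top_iff]
    intro m _
    have hm : (1 : ResidueField A) ⊗ₜ[A] m ∈ Submodule.span (ResidueField A) (Set.range b) :=
      b.span_eq.symm ▸ trivial
    obtain ⟨c, hc⟩ := (Submodule.mem_span_range_iff_exists_fun _).1 hm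
    choose c' hc' using fun i => residue_surjective (c i)
    have hsum : (1 : ResidueField A) ⊗ₜ[A] (m - ∑ i, c' i • w i) = 0 := by
      rw [TensorProduct.tmul_sub, TensorProduct.tmul_sum, sub_eq_zero, ← hc]
      refine Finset.sum_congr rfl fun i _ => ?_
      rw [← hw i, ← hc' i, TensorProduct.mk_apply, TensorProduct.tmul_smul]
      exact algebraMap_smul (ResidueField A) (c' i) ((1 : ResidueField A) ⊗ₜ[A] w i)
    have hmem : m - ∑ i, c' i • w i ∈ (maximalIdeal A • ⊤ : Submodule A M) := by
      have h2 : TensorProduct.quotTensorEquivQuotSMul M (maximalIdeal A)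
          ((Ideal.Quotient.mk (maximalIdeal A) 1) ⊗ₜ[A] (m - ∑ i, c' i • w i)) = 0 :=
        (LinearEquiv.map_eq_zero_iff _).2 hsum
      rwa [TensorProduct.quotTensorEquivQuotSMul_mk_tmul, one_smul, Submodule.Quotient.mk_eq_zero] at h2
    refine Submodule.mem_sup.2 ⟨_, hmem, ∑ i, c' i • w i, ?_, sub_add_cancel _ _⟩
    exact Submodule.sum_mem _ fun i _ => Submodule.smul_mem _ _ ⟨Pi.single i 1, hf i⟩
  have hpow : ∀ n : ℕ, (maximalIdeal A ^ n • ⊤ : Submodule A M) ⊔ LinearMap.range f = ⊤ := by
    intro n
    induction n with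
    | zero => simp
    | succ n ih =>
      refine top_le_iff.1 (le_of_eq_of_le ih.symm (sup_le ?_ le_sup_right))
      calc (maximalIdeal A ^ n • ⊤ : Submodule A M)
          = maximalIdeal A ^ n • ((maximalIdeal A • ⊤ : Submodule A M) ⊔ LinearMap.range f) := by rw [htop]
        _ ≤ _ := by
          rw [Submodule.smul_sup, ← Submodule.mul_smul, ← pow_succ]
          exact sup_le_sup_left Submodule.smul_le_right _
  have hbc : ∀ n : ℕ, Function.Surjective (f.baseChange (A ⧸ maximalIdeal A ^ n)) := by
    intro n z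
    obtain ⟨m, rfl⟩ := TensorProduct.mk_surjective A M (A ⧸ maximalIdeal A ^ n) Ideal.Quotient.mk_surjective z
    obtain ⟨u, hu, _, ⟨x, rfl⟩, hm⟩ := Submodule.mem_sup.1 ((hpow n).ge (Submodule.mem_top (x := m)))
    refine ⟨1 ⊗ₜ x, ?_⟩
    rw [LinearMap.baseChange_tmul, TensorProduct.mk_apply, ← hm, TensorProduct.tmul_add, right_eq_add]
    refine (TensorProduct.quotTensorEquivQuotSMul M (maximalIdeal A ^ n)).injective ?_
    rw [map_zero, show (1 : A ⧸ maximalIdeal A ^ n) = Ideal.Quotient.mk _ 1 from rfl,
      TensorProduct.quotTensorEquivQuotSMul_mk_tmul, one_smul, Submodule.Quotient.mk_eq_zero]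
    exact hu
  have hmk : Function.Surjective ((maximalIdeal A • ⊤ : Submodule A M).mkQ ∘ₗ f) := by
    intro z
    obtain ⟨m, rfl⟩ := Submodule.mkQ_surjective _ z
    obtain ⟨u, hu, _, ⟨x, rfl⟩, hm⟩ := Submodule.mem_sup.1 (htop.ge (Submodule.mem_top (x := m)))
    refine ⟨x, ?_⟩
    rw [LinearMap.comp_apply, ← hm, map_add, Submodule.mkQ_apply, Submodule.mkQ_apply,
      (Submodule.Quotient.mk_eq_zero _).2 hu, zero_add]
  have hbij : Function.Bijective ((AdicCompletion.map (maximalIdeal A) f).restrictScalars A) := by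
    refine ⟨fun x y hxy => AdicCompletion.ext fun {n} => ?_,
      AdicCompletion.map_surjective_of_mkQ_comp_surjective hmk⟩
    have h : (AdicCompletion.map (maximalIdeal A) f x).val n =
        (AdicCompletion.map (maximalIdeal A) f y).val n :=
      congrArg (fun z : AdicCompletion (maximalIdeal A) M => z.val n) hxy
    rw [AdicCompletion.map_val_apply, AdicCompletion.map_val_apply] at h
    obtain ⟨a, ha⟩ := Submodule.mkQ_surjective _ (x.val n)
    obtain ⟨c, hc⟩ := Submodule.mkQ_surjective _ (y.val n)
    rw [← ha, ← hc] at h ⊢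
    rcases Nat.eq_zero_or_pos n with hn | hn
    · subst hn
      rw [Submodule.mkQ_apply, Submodule.mkQ_apply, Submodule.Quotient.eq, pow_zero, Ideal.one_eq_top,
        Submodule.top_smul]
      trivial
    haveI := hproj n hn
    rw [Submodule.mkQ_apply, Submodule.mkQ_apply] at h ⊢
    erw [LinearMap.reduceModIdeal_apply, LinearMap.reduceModIdeal_apply, Submodule.Quotient.eq,
      ← map_sub] at h
    rw [Submodule.Quotient.eq]
    exact mem_smul_top_of_map_mem f _ (Ideal.pow_le_self hn.ne') (hbc n) hd.symm _ h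
  exact ⟨(LinearEquiv.ofBijective _ hbij).symm.trans
    (((AdicCompletion.piEquivFin (maximalIdeal A) d).restrictScalars A).trans
      (LinearEquiv.piCongrRight fun _ => (AdicCompletion.ofLinearEquiv (maximalIdeal A) A).symm))⟩

end Groth.Agent.H05EGA4.CompletedFree
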