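import Groth.Agent.H05EGA4.ConsTop
import Groth.Agent.H17.IndCons
import Groth.Prelude.Def_EGA43
import Mathlib

/-!
Pro-constructible and ind-constructible sets on affine charts (EGA IV 1.9).
-/

set_option autoImplicit false
set_option linter.style.haveILetI false
universe u
open AlgebraicGeometry CategoryTheory Topology TopologicalSpace Set
open Groth.Agent

namespace Groth.Agent.H05EGA4.ConsChart

variable {X Y : Scheme.{u}}

theorem isClosed_constr_compl_iff {Z : Type u} [TopologicalSpace Z] {E : Set Z} :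
    IsClosed[constructibleTopology Z] Eᶜ ↔ IsOpen[constructibleTopology Z] E :=
  @isClosed_compl_iff Z (constructibleTopology Z) E

theorem isOpen_constr_compl_iff {Z : Type u} [TopologicalSpace Z] {E : Set Z} :
    IsOpen[constructibleTopology Z] Eᶜ ↔ IsClosed[constructibleTopology Z] E :=
  @isOpen_compl_iff Z E (constructibleTopology Z)

theorem exists_constructible_of_isOpen {Z : Type u} [TopologicalSpace Z] [QuasiSeparatedSpace Z] {s : Set Z}
    (hs : IsOpen[constructibleTopology Z] s) {y : Z} (hy : y ∈ s) :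
    ∃ T, IsConstructible T ∧ y ∈ T ∧ T ⊆ s := by
  have hb := @TopologicalSpace.isTopologicalBasis_of_subbasis Z (constructibleTopology Z)
    (constructibleTopologySubbasis Z) rfl
  obtain ⟨T, hT, hyT, hTs⟩ := @TopologicalSpace.IsTopologicalBasis.exists_subset_of_mem_open Z
    (constructibleTopology Z) _ hb y s hy hs
  obtain ⟨f, ⟨hff, hfsub⟩, rfl⟩ := hT
  exact ⟨⋂₀ f, IsConstructible.sInter hff fun t ht => H28Top.isConstructible_of_mem_subbasis (hfsub ht), hyT, hTs⟩

theorem eq_sInter_of_isClosed {Z : Type u} [TopologicalSpace Z] [QuasiSeparatedSpace Z] {C : Set Z}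
    (hC : IsClosed[constructibleTopology Z] C) :
    C = ⋂₀ {T | IsConstructible T ∧ C ⊆ T} := by
  refine Subset.antisymm (subset_sInter fun T hT => hT.2) fun z hz => ?_
  by_contra hzC
  obtain ⟨T, hT, hzT, hTC⟩ := exists_constructible_of_isOpen (isOpen_constr_compl_iff.mpr hC) hzC
  exact hz Tᶜ ⟨hT.compl, fun c hc hcT => hTC hcT hc⟩ hzT

theorem proConstructible_univ : ProCons.IsProConstructible (univ : Set X) := fun x =>
  ⟨univ, isOpen_univ, trivial, ∅, by simp, by simp⟩

theorem proConstructible_compl {E : Set X} (hE : ProCons.IsIndConstructible E) : ProCons.IsProConstructible Eᶜ := by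
  rw [compl_eq_univ_sdiff]
  exact H7Lim.isProConstructible_sdiff' proConstructible_univ hE

theorem indConstructible_compl {E : Set X} (hE : ProCons.IsProConstructible E) : ProCons.IsIndConstructible Eᶜ := by
  intro x
  obtain ⟨U, hU, hxU, S, hS, e⟩ := hE x
  refine ⟨U, hU, hxU, (fun T => Tᶜ) '' S, ?_, ?_⟩
  · rintro _ ⟨T, hT, rfl⟩
    exact fun y => (hS T hT y).imp fun V ⟨a, b, c⟩ => ⟨a, b, c.compl⟩
  · rw [preimage_compl, e, compl_sInter]

theorem ind_iff_compl {E : Set X} : ProCons.IsIndConstructible E ↔ ProCons.IsProConstructible Eᶜ :=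
  ⟨proConstructible_compl, fun h => compl_compl E ▸ indConstructible_compl h⟩

/-- Open for the constructible topology on every chart. -/
theorem chart_open_of_ind {E : Set X} (hE : ProCons.IsIndConstructible E) {Z : Scheme.{u}} [IsAffine Z] (g : Z ⟶ X) :
    IsOpen[constructibleTopology Z] (g ⁻¹' E) := by
  rw [← isClosed_constr_compl_iff, ← preimage_compl]
  exact H7Lim.isClosed_constr_preimage (proConstructible_compl hE) g

theorem ind_iff_chart {E : Set X} : ProCons.IsIndConstructible E ↔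
    ∀ (R : CommRingCat.{u}) (a : Spec R ⟶ X) [IsOpenImmersion a], IsOpen[constructibleTopology (Spec R)] (a ⁻¹' E) :=
  ⟨fun h _ a _ => chart_open_of_ind h a, fun h =>
    H17.IndCons.ChartInd.isIndConstructible fun R a _ _ hy => exists_constructible_of_isOpen (h R a) hy⟩

theorem pro_iff_chart {E : Set X} : ProCons.IsProConstructible E ↔
    ∀ (R : CommRingCat.{u}) (a : Spec R ⟶ X) [IsOpenImmersion a], IsClosed[constructibleTopology (Spec R)] (a ⁻¹' E) := by
  refine ⟨fun h _ a _ => H7Lim.isClosed_constr_preimage h a, fun h => ?_⟩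
  rw [← compl_compl E, ← ind_iff_compl, ind_iff_chart]
  intro R a _
  rw [preimage_compl]
  exact isOpen_constr_compl_iff.mpr (h R a)

theorem isLocallyConstructible_iff {E : Set X} :
    IsLocallyConstructible E ↔ ProCons.IsIndConstructible E ∧ ProCons.IsProConstructible E := by
  refine ⟨fun h => ?_, fun ⟨h1, h2⟩ => H17.IndCons.ChartCons.isLocallyConstructible fun R a _ => ?_⟩
  · rw [ind_iff_chart, pro_iff_chart]
    have hc : ∀ (R : CommRingCat.{u}) (a : Spec R ⟶ X) [IsOpenImmersion a], IsConstructible (a ⁻¹' E) :=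
      fun R a _ => (h.preimage_of_isOpenEmbedding a.isOpenEmbedding).isConstructible
    exact ⟨fun R a _ => H28Top.isOpen_constr_of_isConstructible (hc R a),
      fun R a _ => H28Top.isClosed_constr_of_isConstructible (hc R a)⟩
  · exact H28Top.isConstructible_iff_isClopen_constr.mpr
      ⟨pro_iff_chart.mp h2 R a, ind_iff_chart.mp h1 R a⟩

/-- The image of a pro-constructible set by a quasi-compact morphism. -/
theorem pro_image (f : X ⟶ Y) [QuasiCompact f] {E : Set X} (hE : ProCons.IsProConstructible E) :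
    ProCons.IsProConstructible (f '' E) := by
  rw [pro_iff_chart]
  intro R a _
  let W : X.Opens := f ⁻¹ᵁ a.opensRange
  have hW : IsCompact (W : Set X) := f.isCompact_preimage (isCompact_range a.continuous)
  obtain ⟨S, h, hh⟩ := isCompact_iff_exists.mp hW
  have hle : range (h ≫ f) ⊆ range a := by
    rintro _ ⟨t, rfl⟩
    have : h t ∈ (W : Set X) := hh ▸ mem_range_self t
    exact this
  let g := IsOpenImmersion.lift a (h ≫ f) hle
  have hg : ∀ t, a (g t) = f (h t) := fun t => congr($(IsOpenImmersion.lift_fac a (h ≫ f) hle) t)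
  have heq : a ⁻¹' (f '' E) = g '' (h ⁻¹' E) := by
    ext r
    constructor
    · rintro ⟨x, hx, hxr⟩
      have : x ∈ (W : Set X) := show f x ∈ range a from ⟨r, hxr.symm⟩
      rw [← hh] at this
      obtain ⟨t, rfl⟩ := this
      exact ⟨t, hx, a.isOpenEmbedding.injective ((hg t).trans hxr)⟩
    · rintro ⟨t, ht, rfl⟩
      exact ⟨h t, ht, (hg t).symm⟩
  rw [heq]
  haveI : SpectralSpace ↥(Spec S) := inferInstanceAs (SpectralSpace (PrimeSpectrum S))
  haveI : SpectralSpace ↥(Spec R) := inferInstanceAs (SpectralSpace (PrimeSpectrum R))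
  exact H28Top.isClosed_constr_range g.isSpectralMap (H7Lim.isClosed_constr_preimage hE h)

/-- The image of an ind-constructible set by a morphism locally of finite presentation. -/
theorem ind_image (f : X ⟶ Y) [LocallyOfFinitePresentation f] {E : Set X} (hE : ProCons.IsIndConstructible E) :
    ProCons.IsIndConstructible (f '' E) := by
  refine H17.IndCons.ChartInd.isIndConstructible fun R a _ r hr => ?_
  obtain ⟨x, hx, hxr⟩ := hr
  obtain ⟨V, hV, hxV, hVle⟩ := exists_isAffineOpen_mem_and_subset (x := x) (U := f ⁻¹ᵁ a.opensRange) ⟨r, hxr.symm⟩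
  let b : Spec Γ(X, V) ⟶ X := hV.fromSpec
  have hxb : x ∈ range b := hV.range_fromSpec.ge hxV
  obtain ⟨t, rfl⟩ := hxb
  obtain ⟨T, hT, htT, hTE⟩ := exists_constructible_of_isOpen (chart_open_of_ind hE b) (show t ∈ b ⁻¹' E from hx)
  have hle : range (b ≫ f) ⊆ range a := by
    rintro _ ⟨t', rfl⟩
    exact hVle (hV.range_fromSpec.le (mem_range_self t'))
  let g := IsOpenImmersion.lift a (b ≫ f) hle
  have hg : ∀ t', a (g t') = f (b t') := fun t' => congr($(IsOpenImmersion.lift_fac a (b ≫ f) hle) t')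
  have hfac : g ≫ a = b ≫ f := IsOpenImmersion.lift_fac a (b ≫ f) hle
  have hpb : IsPullback (𝟙 _) g (b ≫ f) a :=
    ⟨⟨by rw [Category.id_comp, hfac]⟩, ⟨Limits.PullbackCone.IsLimit.mk _ (fun s => s.fst) (fun s => Category.comp_id _)
      (fun s => by rw [← cancel_mono a, Category.assoc, hfac, s.condition])
      (fun s m h1 _ => by simpa using h1)⟩⟩
  haveI : LocallyOfFinitePresentation g :=
    MorphismProperty.of_isPullback (P := @LocallyOfFinitePresentation) hpb (inferInstance : LocallyOfFinitePresentation (b ≫ f))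
  refine ⟨g '' T, g.isConstructible_image hT, ⟨t, htT, a.isOpenEmbedding.injective ((hg t).trans hxr)⟩, ?_⟩
  rintro _ ⟨t', ht', rfl⟩
  exact ⟨b t', hTE ht', (hg t').symm⟩

theorem ind_preimage (f : X ⟶ Y) {E : Set Y} (hE : ProCons.IsIndConstructible E) :
    ProCons.IsIndConstructible (f ⁻¹' E) :=
  ind_iff_chart.mpr fun _ a _ => chart_open_of_ind hE (a ≫ f)

theorem pro_preimage (f : X ⟶ Y) {E : Set Y} (hE : ProCons.IsProConstructible E) :
    ProCons.IsProConstructible (f ⁻¹' E) :=
  pro_iff_chart.mpr fun _ a _ => H7Lim.isClosed_constr_preimage hE (a ≫ f)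

theorem constructibility_iff_preimage (f : X ⟶ Y) [Surjective f]
    (hf : QuasiCompact f ∨ LocallyOfFinitePresentation f) (E : Set Y) :
    (IsLocallyConstructible E ↔ IsLocallyConstructible (f ⁻¹' E)) ∧
    (ProCons.IsProConstructible E ↔ ProCons.IsProConstructible (f ⁻¹' E)) ∧
    (ProCons.IsIndConstructible E ↔ ProCons.IsIndConstructible (f ⁻¹' E)) := by
  have himg : ∀ S : Set Y, f '' (f ⁻¹' S) = S := fun S => image_preimage_eq S f.surjective
  have key : (ProCons.IsProConstructible (f ⁻¹' E) → ProCons.IsProConstructible E) ∧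
      (ProCons.IsIndConstructible (f ⁻¹' E) → ProCons.IsIndConstructible E) := by
    rcases hf with hq | hl
    · refine ⟨fun h => himg E ▸ pro_image f h, fun h => ?_⟩
      rw [ind_iff_compl] at h ⊢
      rw [← preimage_compl] at h
      exact himg Eᶜ ▸ pro_image f h
    · refine ⟨fun h => ?_, fun h => himg E ▸ ind_image f h⟩
      rw [← compl_compl E, ← ind_iff_compl]
      exact himg Eᶜ ▸ ind_image f (by rw [preimage_compl]; exact indConstructible_compl h)
  have h2 : ProCons.IsProConstructible E ↔ ProCons.IsProConstructible (f ⁻¹' E) := ⟨pro_preimage f, key.1⟩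
  have h3 : ProCons.IsIndConstructible E ↔ ProCons.IsIndConstructible (f ⁻¹' E) := ⟨ind_preimage f, key.2⟩
  refine ⟨?_, h2, h3⟩
  rw [isLocallyConstructible_iff, isLocallyConstructible_iff, h2, h3]

theorem exists_finite_inter_subset [CompactSpace X] {E : Set X} (hE : ProCons.IsIndConstructible E)
    {ι : Type u} (F : ι → Set X) (hF : ∀ i, ProCons.IsProConstructible (F i)) (h : ⋂ i, F i ⊆ E) :
    ∃ J : Finset ι, ⋂ i ∈ J, F i ⊆ E := by
  classical
  obtain ⟨J, hJ⟩ := ConsTop.exists_finite_subcover X univ proConstructible_univ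
    (fun o : Option ι => o.elim E fun i => (F i)ᶜ)
    (fun o => by cases o with
      | none => exact hE
      | some i => exact indConstructible_compl (hF i))
    (fun x _ => by
      by_cases hx : x ∈ ⋂ i, F i
      · exact mem_iUnion.mpr ⟨none, h hx⟩
      · simp only [mem_iInter, not_forall] at hx
        obtain ⟨i, hi⟩ := hx
        exact mem_iUnion.mpr ⟨some i, hi⟩)
  refine ⟨Finset.eraseNone J, fun x hx => ?_⟩
  obtain ⟨o, ho, hxo⟩ := mem_iUnion₂.mp (hJ (mem_univ x))
  cases o with
  | none => exact hxo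
  | some i => exact absurd (mem_iInter₂.mp hx i (Finset.mem_eraseNone.mpr ho)) hxo

theorem mem_interior_iff {E : Set X} (hE : ProCons.IsIndConstructible E) (x : X) :
    x ∈ interior E ↔ ∀ x' : X, x' ⤳ x → x' ∈ E := by
  refine ⟨fun h x' hx' => interior_subset (hx'.mem_open isOpen_interior h), fun h => ?_⟩
  obtain ⟨R, a, _, y, rfl⟩ := H17.IndCons.exists_chart x
  let C : Set (Spec R) := {z | ∃ e ∈ ({y} : Set (Spec R)), z ⤳ e}
  have hC : C = ⋂₀ {U : Set (Spec R) | (IsOpen U ∧ IsCompact U) ∧ {y} ⊆ U} :=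
    H28Top.generalization_eq_sInter isCompact_singleton
  have hsub : C ⊆ a ⁻¹' E := fun z ⟨e, he, hz⟩ => h _ (he ▸ hz.map a.continuous)
  have hcl : @IsCompact (Spec R) (constructibleTopology (Spec R)) (a ⁻¹' E)ᶜ :=
    @IsClosed.isCompact _ (constructibleTopology (Spec R)) _ (H28Top.compactSpace_constr (Spec R))
      (isClosed_constr_compl_iff.mpr (chart_open_of_ind hE a))
  obtain ⟨t, ht⟩ := @IsCompact.elim_finite_subcover _ (constructibleTopology (Spec R)) _
    {U : Set (Spec R) // (IsOpen U ∧ IsCompact U) ∧ y ∈ U} hcl (fun U => U.1ᶜ)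
    (fun U => (H28Top.isClosed_constr_of_compactOpen U.2.1.1 U.2.1.2).isOpen_compl)
    (fun z hz => by
      by_contra hn
      simp only [mem_iUnion, mem_compl_iff, not_exists, not_not] at hn
      refine hz (hsub (hC ▸ ?_))
      exact fun U hU => hn ⟨U, hU.1, hU.2 rfl⟩)
  have hW : IsOpen (⋂ U ∈ t, U.1) := isOpen_biInter_finset fun U _ => U.2.1.1
  refine interior_maximal ?_ (a.isOpenEmbedding.isOpenMap _ hW) ⟨y, mem_iInter₂.mpr fun U _ => U.2.2, rfl⟩
  rintro _ ⟨w, hw, rfl⟩
  by_contra hn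
  obtain ⟨U, hU, hwU⟩ := mem_iUnion₂.mp (ht (show w ∈ (a ⁻¹' E)ᶜ from hn))
  exact hwU (mem_iInter₂.mp hw U hU)

theorem exists_generization_of_isOpenAt (f : X ⟶ Y) (x : X) (h : EGA43.IsOpenAt f.base x)
    (y' : Y) (hy' : y' ⤳ f x) : ∃ x' : X, x' ⤳ x ∧ f x' = y' := by
  obtain ⟨R, a, _, r, rfl⟩ := H17.IndCons.exists_chart x
  by_contra hcon
  simp only [not_exists, not_and] at hcon
  let G : Set (Spec R) := a ⁻¹' (f ⁻¹' {y'})
  have hG : @IsCompact (Spec R) (constructibleTopology (Spec R)) G :=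
    @IsClosed.isCompact _ (constructibleTopology (Spec R)) _ (H28Top.compactSpace_constr (Spec R))
      (H7Lim.isClosed_constr_preimage (pro_preimage f (by
        have := pro_image (Y.fromSpecResidueField y') proConstructible_univ
        rwa [image_univ, Scheme.range_fromSpecResidueField] at this)) a)
  have hC : {z | ∃ e ∈ ({r} : Set (Spec R)), z ⤳ e} = ⋂₀ {U : Set (Spec R) | (IsOpen U ∧ IsCompact U) ∧ {r} ⊆ U} :=
    H28Top.generalization_eq_sInter isCompact_singleton
  obtain ⟨t, ht⟩ := @IsCompact.elim_finite_subcover _ (constructibleTopology (Spec R)) _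
    {U : Set (Spec R) // (IsOpen U ∧ IsCompact U) ∧ r ∈ U} hG (fun U => U.1ᶜ)
    (fun U => (H28Top.isClosed_constr_of_compactOpen U.2.1.1 U.2.1.2).isOpen_compl)
    (fun z hz => by
      by_contra hn
      simp only [mem_iUnion, mem_compl_iff, not_exists, not_not] at hn
      obtain ⟨e, he, hze⟩ : z ∈ {z | ∃ e ∈ ({r} : Set (Spec R)), z ⤳ e} := by
        rw [hC]; exact fun U hU => hn ⟨U, hU.1, hU.2 rfl⟩
      rw [mem_singleton_iff] at he
      subst he
      exact hcon (a z) (hze.map a.continuous) hz)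
  have hW : IsOpen (a '' (⋂ U ∈ t, U.1)) :=
    a.isOpenEmbedding.isOpenMap _ (isOpen_biInter_finset fun U _ => U.2.1.1)
  have hmem := h _ (hW.mem_nhds ⟨r, mem_iInter₂.mpr fun U _ => U.2.2, rfl⟩)
  obtain ⟨O, hOsub, hO, hOr⟩ := mem_nhds_iff.mp hmem
  obtain ⟨_, ⟨w, hw, rfl⟩, hwy⟩ := hOsub (hy'.mem_open hO hOr)
  obtain ⟨U, hU, hwU⟩ := mem_iUnion₂.mp (ht (show w ∈ G from hwy))
  exact hwU (mem_iInter₂.mp hw U hU)

theorem isOpenAt_of_generizations (f : X ⟶ Y) [LocallyOfFinitePresentation f] (x : X)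
    (h : ∀ y' : Y, y' ⤳ f x → ∃ x' : X, x' ⤳ x ∧ f x' = y') : EGA43.IsOpenAt f.base x := by
  intro U hU
  obtain ⟨V, hVU, hV, hxV⟩ := mem_nhds_iff.mp hU
  have hind : ProCons.IsIndConstructible (V : Set X) := ind_iff_chart.mpr fun R a _ =>
    H28Top.isOpen_constr_of_isOpen (hV.preimage a.continuous)
  refine Filter.mem_of_superset (mem_interior_iff_mem_nhds.mp ?_) (image_mono hVU)
  rw [mem_interior_iff (ind_image f hind)]
  intro y' hy'
  obtain ⟨x', hx', rfl⟩ := h y' hy'
  exact ⟨x', hx'.mem_open hV hxV, rfl⟩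

end Groth.Agent.H05EGA4.ConsChart
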