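import Groth.Agent.H05EGA4.ConsRange
import Mathlib

/-!
Quasi-compact maps are the proper maps of constructible spaces; locally Noetherian criterion.
-/

set_option autoImplicit false
set_option linter.style.haveILetI false
universe u
open AlgebraicGeometry CategoryTheory Topology TopologicalSpace Set

namespace Groth.Agent.H05EGA4.ConsProper

theorem isProperMap_of_isCompact_preimage {A B : Type u} (s : TopologicalSpace A) (t : TopologicalSpace B)
    [@T2Space B t] [@WeaklyLocallyCompactSpace B t] {f : A → B} (hc : Continuous[s, t] f)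
    (h : ∀ K, @IsCompact B t K → @IsCompact A s (f ⁻¹' K)) : @IsProperMap A B s t f := by
  letI := s; letI := t
  exact isProperMap_iff_isCompact_preimage.mpr ⟨hc, fun K hK => h K hK⟩

theorem isCompact_preimage_of_isProperMap {A B : Type u} (s : TopologicalSpace A) (t : TopologicalSpace B)
    {f : A → B} (h : @IsProperMap A B s t f) {K : Set B} (hK : @IsCompact B t K) : @IsCompact A s (f ⁻¹' K) := by
  letI := s; letI := t
  exact h.isCompact_preimage hK

theorem weaklyLocallyCompact {A : Type u} (t : TopologicalSpace A)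
    (h : ∀ x, ∃ V, @IsCompact A t V ∧ IsOpen[t] V ∧ x ∈ V) : @WeaklyLocallyCompactSpace A t := by
  letI := t
  exact ⟨fun x => let ⟨V, h1, h2, h3⟩ := h x; ⟨V, h1, h2.mem_nhds h3⟩⟩

variable {X Y : Scheme.{u}}

theorem isCompact_constr [QuasiSeparatedSpace X] {U : X.Opens} (hU : IsCompact (U : Set X)) :
    @IsCompact X (constructibleTopology X) (U : Set X) := by
  obtain ⟨R, g, hg⟩ := isCompact_iff_exists.mp hU
  rw [← hg, ← image_univ]
  exact @IsCompact.image _ _ (constructibleTopology (Spec R)) (constructibleTopology X) _ g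
    (@isCompact_univ _ (constructibleTopology _) (H28Top.compactSpace_constr (Spec R)))
    (H7Lim.continuous_constr_of_affine g)

theorem quasiCompact_iff_isProperMap [QuasiSeparatedSpace X] [QuasiSeparatedSpace Y] (f : X ⟶ Y) :
    QuasiCompact f ↔ @IsProperMap X Y (constructibleTopology X) (constructibleTopology Y) f := by
  constructor
  · intro hf
    haveI : @T2Space Y (constructibleTopology Y) := H28Top.t2Space_constr Y
    have hwlc : @WeaklyLocallyCompactSpace Y (constructibleTopology Y) := by
      refine weaklyLocallyCompact _ fun y => ?_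
      obtain ⟨V, hV, hyV, -⟩ := exists_isAffineOpen_mem_and_subset (x := y) (U := (⊤ : Y.Opens)) trivial
      exact ⟨V, isCompact_constr hV.isCompact, H28Top.isOpen_constr_of_compactOpen V.2 hV.isCompact, hyV⟩
    have hc := H7Lim.continuous_constr_of_affine f
    refine isProperMap_of_isCompact_preimage _ _ hc fun K hK => ?_
    choose V hV hxV hVs using fun y : Y => exists_isAffineOpen_mem_and_subset (x := y) (U := (⊤ : Y.Opens)) trivial
    obtain ⟨t, ht⟩ := @IsCompact.elim_finite_subcover Y (constructibleTopology Y) _ Y hK (fun y => (V y : Set Y))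
      (fun y => H28Top.isOpen_constr_of_compactOpen (V y).2 (hV y).isCompact)
      (fun y _ => mem_iUnion.mpr ⟨y, hxV y⟩)
    have hU : @IsCompact X (constructibleTopology X) (⋃ y ∈ t, f ⁻¹' (V y : Set Y)) :=
      @Finset.isCompact_biUnion X _ (constructibleTopology X) t _ fun y _ =>
        isCompact_constr (U := f ⁻¹ᵁ V y) (f.isCompact_preimage (hV y).isCompact)
    exact @IsCompact.of_isClosed_subset X (constructibleTopology X) _ _ hU
      (@IsClosed.preimage _ _ (constructibleTopology X) (constructibleTopology Y) _ hc _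
        (@IsCompact.isClosed Y (constructibleTopology Y) _ _ hK))
      (fun x hx => by
        obtain ⟨y, hy, hfy⟩ := mem_iUnion₂.mp (ht hx)
        exact mem_iUnion₂.mpr ⟨y, hy, hfy⟩)
  · intro h
    refine ⟨fun U hU hUc => ?_⟩
    have h1 := isCompact_preimage_of_isProperMap _ _ h (isCompact_constr (U := ⟨U, hU⟩) hUc)
    simpa using @IsCompact.image X X (constructibleTopology X) _ _ id h1 H28Top.continuous_id_constr

theorem ind_iff_nhd [IsLocallyNoetherian X] (E : Set X) :
    ProCons.IsIndConstructible E ↔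
      ∀ x ∈ E, (Subtype.val ⁻¹' E : Set ↥(closure ({x} : Set X))) ∈ nhds (⟨x, subset_closure rfl⟩ : ↥(closure ({x} : Set X))) := by
  constructor
  · intro hE x hx
    obtain ⟨R, a, _, y, rfl⟩ := H17.IndCons.exists_chart x
    obtain ⟨T, hT, hyT, hTE⟩ := ConsChart.exists_constructible_of_isOpen (ConsChart.chart_open_of_ind hE a) (show y ∈ a ⁻¹' E from hx)
    obtain ⟨U, hU, ⟨z, hzU, hz⟩, hUT⟩ := H28Top.IsConstructible.exists_isOpen_inter_subset
      (Y := closure ({y} : Set (Spec R))) hT isIrreducible_singleton.closure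
      (closure_mono (singleton_subset_iff.2 ⟨hyT, subset_closure rfl⟩))
    have hyU : y ∈ U := (specializes_iff_mem_closure.mpr hz).mem_open hU hzU
    refine mem_nhds_iff.mpr ⟨Subtype.val ⁻¹' (a '' U), ?_,
      (a.isOpenEmbedding.isOpenMap U hU).preimage continuous_subtype_val, ⟨y, hyU, rfl⟩⟩
    rintro ⟨w, hw⟩ ⟨v, hvU, hvw⟩
    have hv : v ∈ closure ({y} : Set (Spec R)) := by
      rw [← specializes_iff_mem_closure, ← a.isOpenEmbedding.isInducing.specializes_iff, specializes_iff_mem_closure]
      exact hvw ▸ hw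
    have hvE : a v ∈ E := hTE (hUT ⟨hvU, hv⟩)
    exact (show a v = w from hvw) ▸ hvE
  · intro h
    refine H17.IndCons.ChartInd.isIndConstructible fun R a _ y hy => ?_
    haveI : IsLocallyNoetherian (Spec R) := isLocallyNoetherian_of_isOpenImmersion a
    haveI : IsNoetherian (Spec R) := {}
    obtain ⟨O, hOE, hO, hyO⟩ := mem_nhds_iff.mp (h (a y) hy)
    obtain ⟨O', hO', rfl⟩ := isOpen_induced_iff.mp hO
    refine ⟨a ⁻¹' O' ∩ closure {y}, (H28Top.isConstructible_of_isOpen (hO'.preimage a.continuous)).inter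
      (H28Top.isConstructible_of_isClosed isClosed_closure), ⟨hyO, subset_closure rfl⟩, fun v ⟨hvO, hv⟩ => ?_⟩
    have hav : a v ∈ closure ({a y} : Set X) :=
      specializes_iff_mem_closure.mp ((specializes_iff_mem_closure.mpr hv).map a.continuous)
    exact hOE (show (⟨a v, hav⟩ : closure ({a y} : Set X)) ∈ Subtype.val ⁻¹' O' from hvO)

theorem range_colimit {I : Type u} [SmallCategory I] [IsFiltered I]
    (B : CommRingCat.{u}) (D : I ⥤ CommRingCat.{u}) (s : (Functor.const I).obj B ⟶ D) (c : Limits.Cocone D)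
    (hc : Limits.IsColimit c) (i₀ : I) :
    Set.range (Spec.map (s.app i₀ ≫ c.ι.app i₀)).base = ⋂ i : I, Set.range (Spec.map (s.app i)).base := by
  have hind : ∀ i j : I, ∀ φ : i ⟶ j, s.app i ≫ D.map φ = s.app j := fun i j φ => by
    simpa using (s.naturality φ).symm
  have hsame : ∀ i : I, s.app i ≫ c.ι.app i = s.app i₀ ≫ c.ι.app i₀ := fun i => by
    obtain ⟨k, a, b, -⟩ := IsFilteredOrEmpty.cocone_objs i i₀
    rw [← c.w a, ← c.w b, ← Category.assoc, hind, ← Category.assoc, hind]
  refine Subset.antisymm (subset_iInter fun i => ?_) fun q hq => ?_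
  · rw [← hsame i, Spec.map_comp, Scheme.Hom.comp_base, TopCat.coe_comp]
    exact range_comp_subset_range _ _
  · by_contra hn
    let D' : Iᵒᵖ ⥤ Scheme.{u} := D.op ⋙ Scheme.Spec
    let c' : Limits.Cone D' := Scheme.Spec.mapCone c.op
    have hc' : Limits.IsLimit c' := Limits.isLimitOfPreserves Scheme.Spec hc.op
    haveI : ∀ (i j : Iᵒᵖ) (f : i ⟶ j), IsAffineHom (D'.map f) := fun i j f => by
      dsimp [D']; infer_instance
    have hE : H7Lim.QCImage ((Spec.map (s.app i₀)) ⁻¹' {q}) := by
      rw [← Scheme.range_fromSpecResidueField]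
      exact (H7Lim.qcImage_range _).preimage _
    obtain ⟨j, φ, hφ⟩ := H7Lim.QCImage.exists_preimage_eq_empty (c := c') hc' (i := Opposite.op i₀) hE (by
      refine eq_empty_of_forall_notMem fun z hz => hn ⟨z, ?_⟩
      rw [Spec.map_comp, Scheme.Hom.comp_base, TopCat.coe_comp, Function.comp_apply]
      exact hz)
    obtain ⟨w, hw⟩ := mem_iInter.mp hq j.unop
    refine (eq_empty_iff_forall_notMem.mp hφ) w ?_
    show (Spec.map (s.app i₀)) (Spec.map (D.map φ.unop) w) = q
    rw [← Scheme.Hom.comp_apply, ← Spec.map_comp, hind]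
    exact hw

end Groth.Agent.H05EGA4.ConsProper
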