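import Groth.Agent.H05EGA4.ConsChart
import Mathlib

/-!
Closed sets of the constructible topology as images (EGA IV 1.9.5).
-/

set_option autoImplicit false
set_option linter.style.haveILetI false
universe u
open AlgebraicGeometry CategoryTheory Topology TopologicalSpace Set

namespace Groth.Agent.H05EGA4.ConsRange

theorem exists_basic_nhd {R : Type u} [CommRing R] {C : Set (PrimeSpectrum R)}
    (hC : IsClosed[constructibleTopology (PrimeSpectrum R)] C) {q : PrimeSpectrum R} (hq : q ∉ C) :
    ∃ (a : R) (G : Finset R), a ∉ q.asIdeal ∧ (G : Set R) ⊆ q.asIdeal ∧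
      ∀ c ∈ C, (G : Set R) ⊆ c.asIdeal → a ∈ c.asIdeal := by
  classical
  have hb := @TopologicalSpace.isTopologicalBasis_of_subbasis (PrimeSpectrum R) (constructibleTopology _)
    (constructibleTopologySubbasis (PrimeSpectrum R)) rfl
  obtain ⟨T, hT, hqT, hTC⟩ := @TopologicalSpace.IsTopologicalBasis.exists_subset_of_mem_open _
    (constructibleTopology _) _ hb q Cᶜ hq hC.isOpen_compl
  obtain ⟨f, ⟨hff, hfsub⟩, rfl⟩ := hT
  have key : ∀ g : Set (Set (PrimeSpectrum R)), g.Finite → g ⊆ f → ∃ (a : R) (G : Finset R), a ∉ q.asIdeal ∧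
      (G : Set R) ⊆ q.asIdeal ∧ ∀ c : PrimeSpectrum R, a ∉ c.asIdeal → (G : Set R) ⊆ c.asIdeal → ∀ t ∈ g, c ∈ t := by
    intro g hg
    induction g, hg using Set.Finite.induction_on with
    | empty => exact fun _ => ⟨1, ∅, fun h => q.2.ne_top ((Ideal.eq_top_iff_one _).mpr h), by simp, by simp⟩
    | @insert t g _ _ ih =>
      intro hsub
      obtain ⟨a, G, ha, hG, hi⟩ := ih ((subset_insert t g).trans hsub)
      have hqt : q ∈ t := hqT t (hsub (mem_insert t g))
      rcases hfsub (hsub (mem_insert t g)) with ⟨ho, -⟩ | ⟨hcl, hcomp⟩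
      · obtain ⟨_, ⟨b, rfl⟩, hqb, hbt⟩ :=
          PrimeSpectrum.isTopologicalBasis_basic_opens.exists_subset_of_mem_open hqt ho
        refine ⟨a * b, G, fun h => (q.2.mem_or_mem h).elim ha hqb, hG, fun c hac hGc t' ht' => ?_⟩
        rcases mem_insert_iff.mp ht' with rfl | ht'
        · exact hbt (fun hb => hac (c.asIdeal.mul_mem_left a hb))
        · exact hi c (fun h => hac (c.asIdeal.mul_mem_right b h)) hGc t' ht'
      · obtain ⟨s, hs⟩ := PrimeSpectrum.isCompact_isOpen_iff.mp ⟨hcomp, hcl.isOpen_compl⟩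
        have hst : PrimeSpectrum.zeroLocus (s : Set R) = t := compl_injective hs
        refine ⟨a, G ∪ s, ha, ?_, fun c hac hGc t' ht' => ?_⟩
        · rw [Finset.coe_union]
          exact union_subset hG (show q ∈ PrimeSpectrum.zeroLocus (s : Set R) from hst.symm ▸ hqt)
        · rw [Finset.coe_union, union_subset_iff] at hGc
          rcases mem_insert_iff.mp ht' with rfl | ht'
          · exact hst ▸ hGc.2
          · exact hi c hac hGc.1 t' ht'
  obtain ⟨a, G, ha, hG, h⟩ := key f hff subset_rfl
  exact ⟨a, G, ha, hG, fun c hc hGc => by_contra fun hac => hTC (fun t ht => h c hac hGc t ht) hc⟩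

theorem exists_ringHom_range_eq {R : Type u} [CommRing R] {C : Set (PrimeSpectrum R)}
    (hC : IsClosed[constructibleTopology (PrimeSpectrum R)] C) :
    ∃ (B : Type u) (_ : CommRing B) (f : R →+* B), range (PrimeSpectrum.comap f) = C := by
  classical
  let P := ∀ c : C, c.1.asIdeal.ResidueField
  let φ : R →+* P := RingHom.pi fun c => algebraMap R c.1.asIdeal.ResidueField
  refine ⟨P, inferInstance, φ, Subset.antisymm ?_ fun c hc => ?_⟩
  · rintro q ⟨Q, rfl⟩
    by_contra hq
    obtain ⟨a, G, ha, hG, h⟩ := exists_basic_nhd hC hq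
    let u : R → P := fun g c => 1 - φ g c * (φ g c)⁻¹
    have h1 : ∀ g ∈ G, u g ∉ Q.asIdeal := fun g hg hu => by
      refine Q.2.ne_top ((Ideal.eq_top_iff_one _).mpr ?_)
      have h2 : φ g * (fun c => (φ g c)⁻¹) ∈ Q.asIdeal := Q.asIdeal.mul_mem_right _ (hG hg)
      have h3 := Q.asIdeal.add_mem hu h2
      convert h3 using 1
      funext c
      show (1 : c.1.asIdeal.ResidueField) = (1 - φ g c * (φ g c)⁻¹) + φ g c * (φ g c)⁻¹
      ring
    have h2 : φ a * ∏ g ∈ G, u g = 0 := by
      funext c
      rw [Pi.mul_apply, Finset.prod_apply, Pi.zero_apply]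
      by_cases hc : ∀ g ∈ G, φ g c = 0
      · have : φ a c = 0 := Ideal.algebraMap_residueField_eq_zero.mpr
          (h c.1 c.2 fun g hg => Ideal.algebraMap_residueField_eq_zero.mp (hc g hg))
        rw [this, zero_mul]
      · push Not at hc
        obtain ⟨g, hg, hgc⟩ := hc
        rw [Finset.prod_eq_zero hg (by simp [u, hgc]), mul_zero]
    rcases Q.2.mem_or_mem (h2 ▸ Q.asIdeal.zero_mem : φ a * ∏ g ∈ G, u g ∈ Q.asIdeal) with h3 | h3
    · exact ha h3
    · obtain ⟨g, hg, hgm⟩ := (Ideal.IsPrime.prod_mem_iff (s := G)).mp h3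
      exact h1 g hg hgm
  · refine ⟨⟨RingHom.ker (Pi.evalRingHom (fun c : C => c.1.asIdeal.ResidueField) ⟨c, hc⟩), RingHom.ker_isPrime _⟩, ?_⟩
    ext r
    exact Ideal.algebraMap_residueField_eq_zero

theorem isClosed_range_comap {R B : Type u} [CommRing R] [CommRing B] (f : R →+* B) :
    IsClosed[constructibleTopology (PrimeSpectrum R)] (range (PrimeSpectrum.comap f)) := by
  let g : Spec (CommRingCat.of B) ⟶ Spec (CommRingCat.of R) := Spec.map (CommRingCat.ofHom f)
  haveI : SpectralSpace ↥(Spec (CommRingCat.of B)) := inferInstanceAs (SpectralSpace (PrimeSpectrum B))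
  haveI : SpectralSpace ↥(Spec (CommRingCat.of R)) := inferInstanceAs (SpectralSpace (PrimeSpectrum R))
  have h := H28Top.isClosed_constr_range g.isSpectralMap (E := univ) (@isClosed_univ _ (constructibleTopology _))
  rwa [image_univ] at h

theorem range_iff_sInter {R : Type u} [CommRing R] (E : Set (PrimeSpectrum R)) :
    (∃ (B : Type u) (_ : CommRing B) (f : R →+* B), range (PrimeSpectrum.comap f) = E) ↔
      ∃ S : Set (Set (PrimeSpectrum R)), (∀ s ∈ S, IsConstructible s) ∧ E = ⋂₀ S := by
  constructor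
  · rintro ⟨B, _, f, rfl⟩
    exact ⟨_, fun s hs => hs.1, ConsChart.eq_sInter_of_isClosed (isClosed_range_comap f)⟩
  · rintro ⟨S, hS, rfl⟩
    exact exists_ringHom_range_eq (@isClosed_sInter _ (constructibleTopology (PrimeSpectrum R)) _
      fun s hs => H28Top.isClosed_constr_of_isConstructible (hS s hs))

theorem exists_fp_range_eq {R : CommRingCat.{u}} {s : Set (PrimeSpectrum R)} (hs : IsConstructible s) :
    ∃ (S : Type u) (_ : CommRing S) (φ : R →+* S),
      LocallyOfFinitePresentation (Spec.map (CommRingCat.ofHom φ)) ∧ range (PrimeSpectrum.comap φ) = s := by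
  obtain ⟨D, rfl⟩ := PrimeSpectrum.exists_constructibleSetData_iff.mpr hs
  let T : D → CommRingCat.{u} := fun i =>
    .of (Localization.Away (Ideal.Quotient.mk (Ideal.span (Set.range i.1.g)) i.1.f))
  refine ⟨Π i : D, Localization.Away (Ideal.Quotient.mk (Ideal.span (Set.range i.1.g)) i.1.f),
    inferInstance, algebraMap _ _, ?_, ?_⟩
  · rw [← MorphismProperty.cancel_left_of_respectsIso (P := @LocallyOfFinitePresentation) (sigmaSpec T)]
    have heq : sigmaSpec T ≫ Spec.map (CommRingCat.ofHom (algebraMap R (Π i : D, T i))) =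
        Limits.Sigma.desc fun i => Spec.map (CommRingCat.ofHom (algebraMap R (T i))) := by
      refine Limits.Sigma.hom_ext _ _ fun i => ?_
      rw [Limits.Sigma.ι_desc, ι_sigmaSpec_assoc, ← Spec.map_comp]
      rfl
    refine heq ▸ IsZariskiLocalAtSource.sigmaDesc (P := @LocallyOfFinitePresentation) fun i => ?_
    refine (HasRingHomProperty.Spec_iff (P := @LocallyOfFinitePresentation)).mpr ?_
    let I := Ideal.span (Set.range i.1.g)
    have h1 : (Ideal.Quotient.mk I).FinitePresentation :=
      RingHom.FinitePresentation.of_surjective _ Ideal.Quotient.mk_surjective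
        (by rw [Ideal.mk_ker]; exact Submodule.fg_span (Set.finite_range _))
    have h2 : (algebraMap (R ⧸ I) (Localization.Away (Ideal.Quotient.mk I i.1.f))).FinitePresentation :=
      RingHom.finitePresentation_algebraMap.mpr (IsLocalization.Away.finitePresentation (Ideal.Quotient.mk I i.1.f))
    exact h2.comp h1
  · rw [← PrimeSpectrum.iUnion_range_comap_comp_evalRingHom, PrimeSpectrum.ConstructibleSetData.toSet]
    simp_rw [← Finset.mem_coe, Set.biUnion_eq_iUnion]
    congr! with _ _ C
    let I := Ideal.span (Set.range C.1.g)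
    let f := Ideal.Quotient.mk I C.1.f
    trans PrimeSpectrum.comap (Ideal.Quotient.mk I) '' (Set.range (PrimeSpectrum.comap (algebraMap _ (Localization.Away f))))
    · rw [← Set.range_comp]; rfl
    · rw [PrimeSpectrum.localization_away_comap_range _ f, ← PrimeSpectrum.comap_basicOpen, TopologicalSpace.Opens.coe_comap,
        ContinuousMap.coe_mk, Set.image_preimage_eq_inter_range,
        range_comap_of_surjective _ _ Ideal.Quotient.mk_surjective, PrimeSpectrum.BasicConstructibleSetData.toSet,
        Set.sdiff_eq_compl_inter, PrimeSpectrum.basicOpen_eq_zeroLocus_compl, Ideal.mk_ker, PrimeSpectrum.zeroLocus_span]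

variable (X : Scheme.{u}) [CompactSpace X] [QuasiSeparatedSpace X]

theorem exists_surjective_lfp :
    ∃ (R : CommRingCat.{u}) (h : Spec R ⟶ X), Function.Surjective h ∧ LocallyOfFinitePresentation h := by
  let 𝒰 : X.OpenCover := X.affineCover.finiteSubcover
  haveI : LocallyOfFinitePresentation (Limits.Sigma.desc 𝒰.f) :=
    IsZariskiLocalAtSource.sigmaDesc (P := @LocallyOfFinitePresentation) fun i => inferInstance
  exact ⟨Γ(∐ 𝒰.X, ⊤), (∐ 𝒰.X).isoSpec.inv ≫ Limits.Sigma.desc 𝒰.f, Surjective.surj, inferInstance⟩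

theorem isClosed_constr_of_pro {C : Set X} (hC : ProCons.IsProConstructible C) :
    IsClosed[constructibleTopology X] C := by
  obtain ⟨R, h, hsurj⟩ := compactSpace_iff_exists.mp ‹CompactSpace X›
  have h1 : @IsCompact _ (constructibleTopology (Spec R)) (h ⁻¹' C) :=
    @IsClosed.isCompact _ (constructibleTopology _) _ (H28Top.compactSpace_constr (Spec R))
      (H7Lim.isClosed_constr_preimage hC h)
  have h2 := @IsCompact.isClosed X (constructibleTopology X) (H28Top.t2Space_constr X) _
    (@IsCompact.image _ _ (constructibleTopology (Spec R)) (constructibleTopology X) _ h h1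
      (H7Lim.continuous_constr_of_affine h))
  rwa [image_preimage_eq C hsurj] at h2

theorem pro_of_isClosed_constr {C : Set X} (hC : IsClosed[constructibleTopology X] C) :
    ProCons.IsProConstructible C :=
  ConsChart.pro_iff_chart.mpr fun _ a _ =>
    @IsClosed.preimage _ _ (constructibleTopology _) (constructibleTopology X) _ (H7Lim.continuous_constr_of_affine a) _ hC

theorem pro_range {X' : Scheme.{u}} (f : X' ⟶ X) [QuasiCompact f] : ProCons.IsProConstructible (range f) := by
  rw [← image_univ]
  exact ConsChart.pro_image f ConsChart.proConstructible_univ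

theorem pro_iff_affine (E : Set X) :
    ProCons.IsProConstructible E ↔ ∃ (X' : Scheme.{u}) (f : X' ⟶ X), IsAffine X' ∧ Set.range f.base = E := by
  constructor
  · intro hE
    obtain ⟨R, h, hsurj⟩ := compactSpace_iff_exists.mp ‹CompactSpace X›
    obtain ⟨B, _, φ, hφ⟩ := exists_ringHom_range_eq (R := R) (H7Lim.isClosed_constr_preimage hE h)
    refine ⟨Spec (CommRingCat.of B), Spec.map (CommRingCat.ofHom φ) ≫ h, inferInstance, ?_⟩
    rw [Scheme.Hom.comp_base, TopCat.coe_comp, range_comp]
    exact (congrArg (fun S => h '' S) hφ).trans (image_preimage_eq E hsurj)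
  · rintro ⟨X', f, hX', rfl⟩
    exact pro_range X f

theorem qc_iff_sInter (E : Set X) :
    (∃ (X' : Scheme.{u}) (f : X' ⟶ X), QuasiCompact f ∧ Set.range f.base = E) ↔
      ∃ S : Set (Set X), (∀ s ∈ S, IsConstructible s) ∧ E = ⋂₀ S := by
  constructor
  · rintro ⟨X', f, hf, rfl⟩
    exact ⟨_, fun s hs => hs.1, ConsChart.eq_sInter_of_isClosed (isClosed_constr_of_pro X (pro_range X f))⟩
  · rintro ⟨S, hS, rfl⟩
    obtain ⟨X', f, _, hf⟩ := (pro_iff_affine X _).mp (pro_of_isClosed_constr X
      (@isClosed_sInter _ (constructibleTopology X) _ fun s hs => H28Top.isClosed_constr_of_isConstructible (hS s hs)))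
    exact ⟨X', f, inferInstance, hf⟩

end Groth.Agent.H05EGA4.ConsRange
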