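import Groth.Agent.H7Lim.ProCons
import Mathlib

/-!
The constructible topology of a scheme, via affine charts (EGA IV 1.9.13–1.9.15).
-/

set_option autoImplicit false
set_option linter.style.haveILetI false
universe u
open AlgebraicGeometry CategoryTheory Topology

namespace Groth.Agent.H05EGA4.ConsTop

theorem exists_finite_subcover (X : Scheme.{u}) [CompactSpace X]
    (F : Set X) (hF : ProCons.IsProConstructible F) {ι : Type u} (E : ι → Set X)
    (hE : ∀ i, ProCons.IsIndConstructible (E i)) (h : F ⊆ ⋃ i, E i) :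
    ∃ J : Finset ι, F ⊆ ⋃ i ∈ J, E i := by
  classical
  have huniv : ProCons.IsProConstructible (Set.univ : Set X) := fun x =>
    ⟨Set.univ, isOpen_univ, trivial, ∅, by simp, by simp⟩
  have key : ∀ x : X, ∃ (V : X.Opens) (J : Finset ι), x ∈ V ∧ F ∩ V ⊆ ⋃ i ∈ J, E i := by
    intro x
    obtain ⟨V, hV, hxV, -⟩ := exists_isAffineOpen_mem_and_subset (x := x) (U := (⊤ : X.Opens)) trivial
    haveI : IsAffine V.toScheme := hV
    have hc : @IsCompact _ (constructibleTopology V.toScheme) (V.ι ⁻¹' F) :=
      @IsClosed.isCompact _ (constructibleTopology V.toScheme) _ (H28Top.compactSpace_constr V.toScheme) (H7Lim.isClosed_constr_preimage hF V.ι)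
    have ho : ∀ i, IsOpen[(constructibleTopology V.toScheme)] (V.ι ⁻¹' E i) := fun i => by
      have := H7Lim.isClosed_constr_preimage (H7Lim.isProConstructible_sdiff' huniv (hE i)) V.ι
      rw [← @isOpen_compl_iff _ _ (constructibleTopology V.toScheme), ← Set.compl_eq_univ_sdiff, Set.preimage_compl, compl_compl] at this
      exact this
    obtain ⟨J, hJ⟩ := @IsCompact.elim_finite_subcover _ (constructibleTopology V.toScheme) _ ι hc (fun i => V.ι ⁻¹' E i) ho
      (by rw [← Set.preimage_iUnion]; exact Set.preimage_mono h)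
    refine ⟨V, J, hxV, fun y ⟨hyF, hyV⟩ => ?_⟩
    have := hJ (show (⟨y, hyV⟩ : V.toScheme) ∈ V.ι ⁻¹' F from hyF)
    simp only [Set.mem_iUnion] at this ⊢
    obtain ⟨i, hi, hy⟩ := this
    exact ⟨i, hi, hy⟩
  choose V J hxV hJ using key
  obtain ⟨t, ht⟩ := isCompact_univ.elim_finite_subcover (fun x => (V x : Set X)) (fun x => (V x).2)
    fun x _ => Set.mem_iUnion.mpr ⟨x, hxV x⟩
  refine ⟨t.biUnion J, fun y hy => ?_⟩
  obtain ⟨x, hx, hyV⟩ := Set.mem_iUnion₂.mp (ht (Set.mem_univ y))
  obtain ⟨i, hi, hyi⟩ := Set.mem_iUnion₂.mp (hJ x ⟨hy, hyV⟩)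
  exact Set.mem_iUnion₂.mpr ⟨i, Finset.mem_biUnion.mpr ⟨x, hx, hi⟩, hyi⟩

variable (X : Scheme.{u}) [QuasiSeparatedSpace X]

theorem quasiCompact_ι {V : X.Opens} (hV : IsCompact (V : Set X)) : QuasiCompact V.ι := by
  refine ⟨fun U hU hUc => ?_⟩
  rw [V.ι.isOpenEmbedding.isInducing.isCompact_iff, Set.image_preimage_eq_inter_range, Scheme.Opens.range_ι]
  exact QuasiSeparatedSpace.inter_isCompact U V hU hUc V.2 hV

theorem isClosed_isOpen_image {V : X.Opens} (hV : IsAffineOpen V) {E : Set X}
    (hE : IsConstructible (V.ι ⁻¹' E : Set V.toScheme)) :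
    IsClosed[constructibleTopology X] (E ∩ V) ∧ IsOpen[constructibleTopology X] (E ∩ V) := by
  haveI : IsAffine V.toScheme := hV
  haveI := quasiCompact_ι X hV.isCompact
  have hcl : ∀ S : Set V.toScheme, IsClosed[(constructibleTopology V.toScheme)] S → IsClosed[(constructibleTopology X)] (V.ι '' S) := fun S hS =>
    @IsCompact.isClosed _ (constructibleTopology X) (H28Top.t2Space_constr X) _
      (@IsCompact.image _ _ (constructibleTopology V.toScheme) (constructibleTopology X) S V.ι (@IsClosed.isCompact _ (constructibleTopology V.toScheme) _ (H28Top.compactSpace_constr V.toScheme) hS)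
        (H7Lim.continuous_constr_of_affine V.ι))
  have hclop := H28Top.isClopen_constr_of_isConstructible hE
  have heq : ∀ S : Set X, V.ι '' (V.ι ⁻¹' S) = S ∩ V := fun S => by
    rw [Set.image_preimage_eq_inter_range, Scheme.Opens.range_ι]
  refine ⟨heq E ▸ hcl _ hclop.1, ?_⟩
  have h2 : IsClosed[(constructibleTopology X)] (Eᶜ ∩ V) := by
    have h := hcl _ (@IsClopen.compl _ (constructibleTopology V.toScheme) _ hclop).1
    rwa [← Set.preimage_compl, heq] at h
  have : E ∩ (V : Set X) = (V : Set X) ∩ (Eᶜ ∩ V)ᶜ := by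
    ext y
    simp only [Set.mem_inter_iff, Set.mem_compl_iff, not_and, SetLike.mem_coe]
    tauto
  rw [this]
  exact @IsOpen.inter _ (constructibleTopology X) _ _ (H28Top.isOpen_constr_of_compactOpen V.2 hV.isCompact) h2.isOpen_compl

theorem isOpen_of_isLocallyConstructible {E : Set X} (hE : IsLocallyConstructible E) :
    IsOpen[constructibleTopology X] E := by
  rw [@isOpen_iff_forall_mem_open X (constructibleTopology X)]
  intro x hx
  obtain ⟨V, hV, hxV, -⟩ := exists_isAffineOpen_mem_and_subset (x := x) (U := (⊤ : X.Opens)) trivial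
  haveI : IsAffine V.toScheme := hV
  have hc : IsConstructible (V.ι ⁻¹' E : Set V.toScheme) :=
    (hE.preimage_of_isOpenEmbedding V.ι.isOpenEmbedding).isConstructible
  exact ⟨E ∩ V, Set.inter_subset_left, (isClosed_isOpen_image X hV hc).2, hx, hxV⟩

theorem isLocallyConstructible_iff (E : Set X) :
    IsLocallyConstructible E ↔ (IsOpen[constructibleTopology X] E ∧ IsClosed[constructibleTopology X] E) := by
  refine ⟨fun hE => ⟨isOpen_of_isLocallyConstructible X hE, ?_⟩, fun ⟨ho, hc⟩ x => ?_⟩
  · rw [← @isOpen_compl_iff X _ (constructibleTopology X)]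
    exact isOpen_of_isLocallyConstructible X fun x => (hE x).imp fun U ⟨a, b, c⟩ => ⟨a, b, c.compl⟩
  · obtain ⟨V, hV, hxV, -⟩ := exists_isAffineOpen_mem_and_subset (x := x) (U := (⊤ : X.Opens)) trivial
    haveI : IsAffine V.toScheme := hV
    haveI := quasiCompact_ι X hV.isCompact
    refine ⟨V, V.2.mem_nhds hxV, V.2, ?_⟩
    have h := (H28Top.isConstructible_iff_isClopen_constr (X := V.toScheme) (E := V.ι ⁻¹' E)).mpr
      ⟨@IsClosed.preimage _ _ (constructibleTopology V.toScheme) (constructibleTopology X) _
          (H7Lim.continuous_constr_of_affine V.ι) _ hc,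
        @IsOpen.preimage _ _ (constructibleTopology V.toScheme) (constructibleTopology X) _
          (H7Lim.continuous_constr_of_affine V.ι) _ ho⟩
    exact h

theorem separation_properties :
    T2Space (WithConstructibleTopology X) ∧ LocallyCompactSpace (WithConstructibleTopology X) ∧
      TotallyDisconnectedSpace (WithConstructibleTopology X) := by
  haveI : TotallySeparatedSpace (WithConstructibleTopology X) := by
    rw [totallySeparatedSpace_iff_exists_isClopen]
    intro x y hxy
    obtain ⟨U, hU, hxU, hyU⟩ := (@totallySeparatedSpace_iff_exists_isClopen X (constructibleTopology X)).mp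
      (H28Top.totallySeparatedSpace_constr X) ((WithTopology.ofTopology_injective _).ne hxy)
    exact ⟨WithTopology.ofTopology ⁻¹' U, ⟨WithConstructibleTopology.isClosed_iff.mpr hU.1,
      WithConstructibleTopology.isOpen_iff.mpr hU.2⟩, hxU, hyU⟩
  haveI : WeaklyLocallyCompactSpace (WithConstructibleTopology X) := by
    refine ⟨fun x => ?_⟩
    obtain ⟨V, hV, hxV, -⟩ :=
      exists_isAffineOpen_mem_and_subset (x := WithTopology.ofTopology x) (U := (⊤ : X.Opens)) trivial
    haveI : IsAffine V.toScheme := hV
    haveI := quasiCompact_ι X hV.isCompact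
    have hc : @IsCompact X (constructibleTopology X) (V : Set X) := by
      have := @IsCompact.image _ _ (constructibleTopology V.toScheme) (constructibleTopology X) Set.univ V.ι
        (@isCompact_univ _ (constructibleTopology V.toScheme) (H28Top.compactSpace_constr V.toScheme))
        (H7Lim.continuous_constr_of_affine V.ι)
      rwa [Set.image_univ, Scheme.Opens.range_ι] at this
    have hVo : IsOpen ((WithTopology.ofTopology ⁻¹' (V : Set X)) : Set (WithConstructibleTopology X)) :=
      WithConstructibleTopology.isOpen_iff.mpr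
        (H28Top.isOpen_constr_of_compactOpen (U := (V : Set X)) V.2 hV.isCompact)
    refine ⟨WithTopology.ofTopology ⁻¹' (V : Set X), ?_, hVo.mem_nhds hxV⟩
    rw [WithTopology.preimage_ofTopology]
    exact @IsCompact.image _ _ (constructibleTopology X) _ _ _ hc (WithTopology.continuous_toTopology _)
  exact ⟨inferInstance, inferInstance, inferInstance⟩

end Groth.Agent.H05EGA4.ConsTop
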