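import Mathlib.AlgebraicGeometry.Limits
import Mathlib.AlgebraicGeometry.Morphisms.QuasiCompact

set_option autoImplicit false
universe u
open AlgebraicGeometry CategoryTheory CategoryTheory.Limits

namespace Groth.Agent.H05EGA4

theorem cl_inl (X Y : Scheme.{u}) : Topology.IsClosedEmbedding (coprod.inl : X ⟶ X ⨿ Y) := by
  refine ⟨(coprod.inl : X ⟶ X ⨿ Y).isOpenEmbedding.isEmbedding, ?_⟩
  rw [show Set.range (coprod.inl : X ⟶ X ⨿ Y) = (Set.range (coprod.inr : Y ⟶ X ⨿ Y))ᶜ from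
    (isCompl_range_inl_inr X Y).eq_compl]
  exact (coprod.inr : Y ⟶ X ⨿ Y).isOpenEmbedding.isOpen_range.isClosed_compl

theorem cl_inr (X Y : Scheme.{u}) : Topology.IsClosedEmbedding (coprod.inr : Y ⟶ X ⨿ Y) := by
  refine ⟨(coprod.inr : Y ⟶ X ⨿ Y).isOpenEmbedding.isEmbedding, ?_⟩
  rw [show Set.range (coprod.inr : Y ⟶ X ⨿ Y) = (Set.range (coprod.inl : X ⟶ X ⨿ Y))ᶜ from
    (isCompl_range_inl_inr X Y).symm.eq_compl]
  exact (coprod.inl : X ⟶ X ⨿ Y).isOpenEmbedding.isOpen_range.isClosed_compl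

theorem pre_coprod {X' X'' Y : Scheme.{u}} (f' : X' ⟶ Y) (f'' : X'' ⟶ Y) (U : Set Y) :
    (coprod.desc f' f'') ⁻¹' U = (coprod.inl : X' ⟶ X' ⨿ X'') '' (f' ⁻¹' U) ∪ (coprod.inr : X'' ⟶ X' ⨿ X'') '' (f'' ⁻¹' U) := by
  ext z
  obtain ⟨(x | x), rfl⟩ := (coprodMk X' X'').surjective z
  · rw [coprodMk_inl]
    simp [← Scheme.Hom.comp_apply, coprod.inl_desc, (inl_ne_inr _ _ _ _).symm,
      (coprod.inl : X' ⟶ X' ⨿ X'').isOpenEmbedding.injective.eq_iff]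
  · rw [coprodMk_inr]
    simp [← Scheme.Hom.comp_apply, coprod.inr_desc, (inl_ne_inr _ _ _ _),
      (coprod.inr : X'' ⟶ X' ⨿ X'').isOpenEmbedding.injective.eq_iff]

end Groth.Agent.H05EGA4
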