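import Groth.Agent.H05EGA4.CohenSmooth
import Groth.Agent.H05EGA4.Regular2
import Groth.Agent.H8Props.FieldDimHeight
import Mathlib.Algebra.Module.LinearMap.Index
import Mathlib.RingTheory.RegularLocalRing.Polynomial
import Mathlib.RingTheory.Etale.Kaehler
import Mathlib.RingTheory.Smooth.Basic
import Mathlib.RingTheory.Kaehler.Polynomial
import Mathlib.LinearAlgebra.FiniteDimensional.Basic
import Mathlib.LinearAlgebra.Dimension.Constructions
import Mathlib.FieldTheory.Perfect
import Mathlib.RingTheory.Flat.FaithfullyFlat.Basic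

/-! Indices of the maps between modules of differentials over a perfect field. -/

set_option autoImplicit false
set_option linter.style.haveILetI false

open TensorProduct KaehlerDifferential IsLocalRing

universe u v

namespace Groth.Agent.H05EGA4.CotIdx

variable (F : Type v) [Field F] [PerfectField F]

omit [PerfectField F] in
/-- The conormal map is injective when the quotient is formally smooth. -/
theorem kerCotangent_injective (R L : Type u) [CommRing R] [CommRing L] [Algebra F R] [Algebra F L]
    [Algebra R L] [IsScalarTower F R L] [Algebra.FormallySmooth F L]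
    (hs : Function.Surjective (algebraMap R L)) :
    Function.Injective (kerCotangentToTensor F R L) := by
  have hπ : Function.Surjective (IsScalarTower.toAlgHom F R L).kerSquareLift := fun l => by
    obtain ⟨x, rfl⟩ := hs l
    exact ⟨Ideal.Quotient.mk _ x, rfl⟩
  have hnil : IsNilpotent (RingHom.ker (IsScalarTower.toAlgHom F R L).kerSquareLift.toRingHom) :=
    ⟨2, by rw [AlgHom.ker_kerSquareLift, Ideal.cotangentIdeal_square]; rfl⟩
  have hsec : (IsScalarTower.toAlgHom F R L).kerSquareLift.comp
      (Algebra.FormallySmooth.liftOfSurjective (AlgHom.id F L) _ hπ hnil) = AlgHom.id F L :=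
    Algebra.FormallySmooth.comp_liftOfSurjective _ _ hπ hnil
  obtain ⟨σ, hσ⟩ := (retractionKerCotangentToTensorEquivSection (R := F) (P := R) (S := L) hs).symm
    ⟨_, hsec⟩
  exact Function.LeftInverse.injective (g := σ) (fun z => LinearMap.congr_fun hσ z)

/-- `0 → m/m² → L ⊗ Ω_R → Ω_L → 0` for a Noetherian local ring `R` with residue field `L`. -/
theorem index_residue (R : Type u) [CommRing R] [IsLocalRing R] [IsNoetherianRing R] [Algebra F R]
    (L : Type u) [Field L] [Algebra F L] [Algebra R L] [IsScalarTower F R L]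
    (hs : Function.Surjective (algebraMap R L)) :
    FiniteDimensional L (LinearMap.ker (mapBaseChange F R L)) ∧
    FiniteDimensional L (Ω[L⁄F] ⧸ LinearMap.range (mapBaseChange F R L)) ∧
    Function.Surjective (mapBaseChange F R L) ∧
    (mapBaseChange F R L).index = Module.finrank (ResidueField R) (CotangentSpace R) := by
  have hker : RingHom.ker (algebraMap R L) = maximalIdeal R := IsLocalRing.ker_eq_maximalIdeal _ hs
  have hz : ∀ r ∈ maximalIdeal R, algebraMap R L r = 0 := fun r hr => RingHom.mem_ker.1 (hker.ge hr)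
  have hsurj := mapBaseChange_surjective F R L hs
  haveI : Algebra.FormallySmooth F L := formallySmooth_of_perfectField F L
  let g₀ : maximalIdeal R →ₗ[R] L ⊗[R] Ω[R⁄F] :=
    { toFun := fun x => (1 : L) ⊗ₜ[R] D F R x.1
      map_add' := fun x y => by simp [TensorProduct.tmul_add]
      map_smul' := fun r x => by
        show (1 : L) ⊗ₜ[R] D F R (r • x.1) = r • (1 : L) ⊗ₜ[R] D F R x.1
        rw [smul_eq_mul, Derivation.leibniz, TensorProduct.tmul_add, TensorProduct.tmul_smul,
          add_eq_left, ← TensorProduct.smul_tmul, Algebra.smul_def, mul_one, hz _ x.2, zero_tmul] }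
  let g₁ : CotangentSpace R →ₗ[R] L ⊗[R] Ω[R⁄F] :=
    (maximalIdeal R • ⊤ : Submodule R (maximalIdeal R)).liftQ g₀ (by
      rw [Submodule.smul_le]
      intro r hr x _
      show g₀ (r • x) = 0
      rw [g₀.map_smul]
      show r • (1 : L) ⊗ₜ[R] D F R x.1 = 0
      rw [TensorProduct.smul_tmul', Algebra.smul_def, mul_one, hz _ hr, zero_tmul])
  have hg₁ : ∀ y, g₁ y ∈ (LinearMap.ker (mapBaseChange F R L)).restrictScalars R := by
    intro y
    obtain ⟨x, rfl⟩ := (maximalIdeal R).toCotangent_surjective y
    show mapBaseChange F R L (1 ⊗ₜ D F R x.1) = 0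
    rw [mapBaseChange_tmul, map_D, one_smul, hz _ x.2, map_zero]
  let g : CotangentSpace R →ₗ[R] (LinearMap.ker (mapBaseChange F R L)).restrictScalars R :=
    g₁.codRestrict _ hg₁
  have hg : Function.Bijective g := by
    constructor
    · have hinj := kerCotangent_injective F R L hs
      rw [injective_iff_map_eq_zero]
      intro x hx
      obtain ⟨⟨x, hxm⟩, rfl⟩ := (maximalIdeal R).toCotangent_surjective x
      have h0 : (RingHom.ker (algebraMap R L)).toCotangent ⟨x, hker.ge hxm⟩ = 0 := by
        refine hinj ?_
        rw [kerCotangentToTensor_toCotangent, map_zero]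
        exact congrArg Subtype.val hx
      rw [Ideal.toCotangent_eq_zero] at h0 ⊢
      exact SetLike.le_def.1 (congrArg (· ^ 2) hker).le h0
    · rintro ⟨w, hw⟩
      obtain ⟨z, hz'⟩ := (exact_kerCotangentToTensor_mapBaseChange F R L hs w).1 hw
      obtain ⟨⟨x, hxk⟩, rfl⟩ := (RingHom.ker (algebraMap R L)).toCotangent_surjective z
      exact ⟨(maximalIdeal R).toCotangent ⟨x, hker.le hxk⟩, Subtype.ext hz'⟩
  let i : ResidueField R ≃+* L :=
    (Ideal.quotEquivOfEq hker.symm).trans (RingHom.quotientKerEquivOfSurjective hs)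
  let j : CotangentSpace R ≃+ LinearMap.ker (mapBaseChange F R L) :=
    (LinearEquiv.ofBijective g hg).toAddEquiv
  have hij : ∀ (c : ResidueField R) (x : CotangentSpace R), j (c • x) = i c • j x := by
    intro c x
    obtain ⟨c, rfl⟩ := residue_surjective c
    rw [show residue R c • x = c • x from algebraMap_smul (ResidueField R) c x]
    refine Subtype.ext ?_
    show (g (c • x)).1 = algebraMap R L c • (g x).1
    rw [map_smul, algebraMap_smul]
    rfl
  have hrank : Module.rank (ResidueField R) (CotangentSpace R) =
      Module.rank L (LinearMap.ker (mapBaseChange F R L)) :=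
    rank_eq_of_equiv_equiv i j i.bijective hij
  haveI hfin : FiniteDimensional L (LinearMap.ker (mapBaseChange F R L)) := by
    haveI : Module.Finite R (CotangentSpace R) :=
      Module.Finite.of_surjective (maximalIdeal R).toCotangent (maximalIdeal R).toCotangent_surjective
    haveI : Module.Finite R (LinearMap.ker (mapBaseChange F R L)) :=
      Module.Finite.of_surjective (g : CotangentSpace R →ₗ[R] LinearMap.ker (mapBaseChange F R L)) hg.2
    exact Module.Finite.of_restrictScalars_finite R L _
  haveI : Subsingleton (Ω[L⁄F] ⧸ LinearMap.range (mapBaseChange F R L)) :=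
    Submodule.Quotient.subsingleton_iff.2 (LinearMap.range_eq_top.2 hsurj)
  refine ⟨hfin, inferInstance, hsurj, ?_⟩
  rw [LinearMap.index_of_surjective hsurj, Module.finrank, Module.finrank, hrank]

variable {F}

section Poly

variable (A L : Type u) [CommRing A] [Field L] [Algebra F A] [Algebra F L] [Algebra A L]
  [IsScalarTower F A L] (r : ℕ) [Algebra (MvPolynomial (Fin r) A) L]
  [IsScalarTower A (MvPolynomial (Fin r) A) L] [IsScalarTower F (MvPolynomial (Fin r) A) L]

/-- The map `L ⊗ Ω_A → L ⊗ Ω_{A[T]}`. -/
noncomputable def toPoly : L ⊗[A] Ω[A⁄F] →ₗ[L] L ⊗[MvPolynomial (Fin r) A] Ω[MvPolynomial (Fin r) A⁄F] :=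
  ((TensorProduct.mk (MvPolynomial (Fin r) A) L Ω[MvPolynomial (Fin r) A⁄F] 1).restrictScalars A ∘ₗ
    KaehlerDifferential.map F F A (MvPolynomial (Fin r) A)).liftBaseChange L

theorem toPoly_tmul (l : L) (ω : Ω[A⁄F]) :
    toPoly A L r (l ⊗ₜ ω) = l ⊗ₜ KaehlerDifferential.map F F A (MvPolynomial (Fin r) A) ω := by
  simp [toPoly, TensorProduct.smul_tmul']

theorem mapBaseChange_comp_toPoly :
    mapBaseChange F (MvPolynomial (Fin r) A) L ∘ₗ toPoly (F := F) A L r = mapBaseChange F A L := by
  refine TensorProduct.AlgebraTensorModule.ext fun l ω => ?_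
  rw [LinearMap.comp_apply, toPoly_tmul, mapBaseChange_tmul, mapBaseChange_tmul]
  congr 1
  have hω : ω ∈ Submodule.span A (Set.range (D F A)) := span_range_derivation F A ▸ trivial
  induction hω using Submodule.span_induction with
  | mem x hx =>
    obtain ⟨a, rfl⟩ := hx
    rw [map_D, map_D, map_D, ← IsScalarTower.algebraMap_apply]
  | zero => simp
  | add x y _ _ hx hy => rw [map_add, map_add, hx, hy, map_add]
  | smul a x _ hx => rw [map_smul, LinearMap.map_smul_of_tower, map_smul, hx]

theorem toPoly_props :
    Function.Injective (toPoly (F := F) A L r) ∧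
    FiniteDimensional L
      ((L ⊗[MvPolynomial (Fin r) A] Ω[MvPolynomial (Fin r) A⁄F]) ⧸ LinearMap.range (toPoly (F := F) A L r)) ∧
    (toPoly (F := F) A L r).index = -(r : ℤ) := by
  classical
  let P := MvPolynomial (Fin r) A
  let e : L ⊗[P] (P ⊗[A] Ω[A⁄F]) ≃ₗ[L] L ⊗[A] Ω[A⁄F] :=
    AlgebraTensorModule.cancelBaseChange A P L L Ω[A⁄F]
  have he : (mapBaseChange F A P).baseChange L = toPoly (F := F) A L r ∘ₗ e.toLinearMap := by
    refine TensorProduct.AlgebraTensorModule.ext fun l z => ?_
    induction z using TensorProduct.induction_on with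
    | zero => simp
    | add x y hx hy => simp only [TensorProduct.tmul_add, map_add, hx, hy]
    | tmul p ω =>
      rw [LinearMap.baseChange_tmul, LinearMap.comp_apply]
      show l ⊗ₜ _ = toPoly (F := F) A L r (e _)
      rw [AlgebraTensorModule.cancelBaseChange_tmul, toPoly_tmul, mapBaseChange_tmul,
        ← TensorProduct.smul_tmul]
  haveI : Algebra.FormallySmooth A P := inferInstance
  have hinj : Function.Injective (mapBaseChange F A P) := by
    rw [injective_iff_map_eq_zero]
    intro x hx
    obtain ⟨z, rfl⟩ := (Algebra.H1Cotangent.exact_δ_mapBaseChange F A P x).1 hx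
    rw [Subsingleton.elim z 0, map_zero]
  have hsurj : Function.Surjective (KaehlerDifferential.map F A P P) := map_surjective F A P
  have hex := exact_mapBaseChange_map F A P
  obtain ⟨σ, hσ⟩ := Module.projective_lifting_property (KaehlerDifferential.map F A P P) LinearMap.id hsurj
  obtain ⟨-, ρ, hρ⟩ := ((Function.Exact.split_tfae' hex).out 0 1 rfl rfl).mp ⟨hinj, σ, hσ⟩
  let π := (KaehlerDifferential.map F A P P).baseChange L
  have hπ : Function.Surjective π := LinearMap.lTensor_surjective L hsurj
  have hexL : Function.Exact ((mapBaseChange F A P).baseChange L) π :=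
    lTensor_exact L hex hsurj
  have hinjL : Function.Injective ((mapBaseChange F A P).baseChange L) :=
    Function.LeftInverse.injective (g := ρ.baseChange L) fun x => by
      rw [← LinearMap.comp_apply, ← LinearMap.baseChange_comp, hρ, LinearMap.baseChange_id]
      rfl
  have hrange : LinearMap.range (toPoly (F := F) A L r) = LinearMap.ker π := by
    rw [LinearMap.exact_iff.1 hexL, he, LinearMap.range_comp, LinearEquiv.range, Submodule.map_top]
  let q : ((L ⊗[P] Ω[P⁄F]) ⧸ LinearMap.range (toPoly (F := F) A L r)) ≃ₗ[L] L ⊗[P] Ω[P⁄A] :=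
    (Submodule.quotEquivOfEq _ _ hrange).trans (π.quotKerEquivOfSurjective hπ)
  let b := Algebra.TensorProduct.basis L (mvPolynomialBasis A (Fin r))
  haveI : FiniteDimensional L (L ⊗[P] Ω[P⁄A]) := Module.Finite.of_basis b
  have h1 : Function.Injective (toPoly (F := F) A L r) := by
    rw [he] at hinjL
    exact fun x y hxy => e.symm.injective (hinjL (by simpa using hxy))
  refine ⟨h1, q.symm.finiteDimensional, ?_⟩
  rw [LinearMap.index_of_injective h1, q.finrank_eq, Module.finrank_eq_card_basis b, Fintype.card_fin]

end Poly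

/-- Cartier's equality for a finite field extension. -/
theorem index_finite_field (K L : Type u) [Field K] [Field L] [Algebra F K] [Algebra F L]
    [Algebra K L] [IsScalarTower F K L] (r : ℕ) (θ : Fin r → L)
    (hθ : Function.Surjective (MvPolynomial.aeval θ : MvPolynomial (Fin r) K →ₐ[K] L))
    [Module.Finite K L] :
    FiniteDimensional L (LinearMap.ker (mapBaseChange F K L)) ∧
    FiniteDimensional L (Ω[L⁄F] ⧸ LinearMap.range (mapBaseChange F K L)) ∧
    (mapBaseChange F K L).index = 0 := by
  let P := MvPolynomial (Fin r) K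
  letI : Algebra P L := (MvPolynomial.aeval θ : P →ₐ[K] L).toRingHom.toAlgebra
  haveI : IsScalarTower K P L := IsScalarTower.of_algebraMap_eq fun c =>
    ((MvPolynomial.aeval θ : P →ₐ[K] L).commutes c).symm
  haveI : IsScalarTower F P L := IsScalarTower.of_algebraMap_eq fun c => by
    rw [IsScalarTower.algebraMap_apply F K L, IsScalarTower.algebraMap_apply F K P,
      ← IsScalarTower.algebraMap_apply K P L]
  let 𝔫 := RingHom.ker (algebraMap P L)
  haveI : 𝔫.IsMaximal := RingHom.ker_isMaximal_of_surjective _ hθ
  let R := Localization.AtPrime 𝔫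
  haveI : IsRegularLocalRing R := IsRegularRing.isRegularLocalRing_localization (R := P) 𝔫
  let ι : R →+* L := IsLocalization.lift (M := 𝔫.primeCompl) (g := algebraMap P L)
    (fun y => isUnit_iff_ne_zero.2 y.2)
  have hι : Function.Surjective ι := fun l => by
    obtain ⟨x, rfl⟩ := hθ l
    exact ⟨algebraMap P R x, IsLocalization.lift_eq _ _⟩
  letI : Algebra R L := ι.toAlgebra
  haveI : IsScalarTower P R L := IsScalarTower.of_algebraMap_eq fun c => (IsLocalization.lift_eq _ c).symm
  have hker : RingHom.ker ι = maximalIdeal R := IsLocalRing.ker_eq_maximalIdeal ι hι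
  haveI : IsScalarTower F R L := IsScalarTower.to₁₃₄ F P R L
  have hdim : Module.finrank (ResidueField R) (CotangentSpace R) = r := by
    have h1 : ringKrullDim R = r := by
      rw [IsLocalization.AtPrime.ringKrullDim_eq_height 𝔫 R]
      have h := Groth.Agent.H8Props.FieldDim.height_add_dim_quotient K P 𝔫
      rw [show ringKrullDim (P ⧸ 𝔫) = 0 from ?_, add_zero] at h
      · rw [h, MvPolynomial.ringKrullDim_of_isNoetherianRing, ringKrullDim_eq_zero_of_field, zero_add,
          Nat.card_fin]
      · letI := Ideal.Quotient.field 𝔫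
        exact ringKrullDim_eq_zero_of_field _
    have h2 := IsRegularLocalRing.spanFinrank_maximalIdeal (R := R)
    rw [← finrank_cotangent_eq, h1] at h2
    exact_mod_cast h2
  obtain ⟨hk1, hc1, hs1, hi1⟩ := index_residue F R L hι
  haveI := hk1
  haveI := hc1
  obtain ⟨hinj, hc0, hi0⟩ := toPoly_props (F := F) K L r
  haveI := hc0
  haveI : FiniteDimensional L (LinearMap.ker (toPoly (F := F) K L r)) := by
    rw [LinearMap.ker_eq_bot.2 hinj]
    infer_instance
  haveI := Algebra.FormallyEtale.of_isLocalization (Rₘ := R) 𝔫.primeCompl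
  let e : L ⊗[P] Ω[P⁄F] ≃ₗ[L] L ⊗[R] Ω[R⁄F] :=
    (AlgebraTensorModule.cancelBaseChange P R L L Ω[P⁄F]).symm ≪≫ₗ
      (LinearEquiv.refl R (R ⊗[P] Ω[P⁄F]) |>.trans (tensorKaehlerEquivOfFormallyEtale F P R)).baseChange R L
  have he : mapBaseChange F R L ∘ₗ e.toLinearMap = mapBaseChange F P L := by
    refine TensorProduct.AlgebraTensorModule.ext fun l ω => ?_
    have this : e (l ⊗ₜ ω) = l ⊗ₜ KaehlerDifferential.map F F P R ω := by
      simp [e]
      exact congrArg (l ⊗ₜ[R] ·) (one_smul R (KaehlerDifferential.map F F P R ω))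
    rw [LinearMap.comp_apply, LinearEquiv.coe_coe, this, mapBaseChange_tmul, mapBaseChange_tmul]
    clear this
    congr 1
    have hω : ω ∈ Submodule.span P (Set.range (D F P)) := span_range_derivation F P ▸ trivial
    induction hω using Submodule.span_induction with
    | mem x hx =>
      obtain ⟨a, rfl⟩ := hx
      rw [map_D, map_D, map_D, ← IsScalarTower.algebraMap_apply]
    | zero => simp
    | add x y _ _ hx hy => rw [map_add, map_add, hx, hy, map_add]
    | smul a x _ hx => rw [map_smul, LinearMap.map_smul_of_tower, map_smul, hx]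
  haveI : FiniteDimensional L (LinearMap.ker (mapBaseChange F P L)) := by
    rw [← he, LinearMap.ker_comp]
    exact Module.Finite.equiv (e.ofSubmodule' (LinearMap.ker (mapBaseChange F R L))).symm
  have hsP : Function.Surjective (mapBaseChange F P L) := mapBaseChange_surjective F P L hθ
  haveI : Subsingleton (Ω[L⁄F] ⧸ LinearMap.range (mapBaseChange F P L)) :=
    Submodule.Quotient.subsingleton_iff.2 (LinearMap.range_eq_top.2 hsP)
  have hiP : (mapBaseChange F P L).index = r := by
    rw [LinearMap.index_of_surjective hsP]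
    have h2 : Module.finrank L (LinearMap.ker (mapBaseChange F P L)) =
        Module.finrank L (LinearMap.ker (mapBaseChange F R L)) := by
      rw [← he, LinearMap.ker_comp]
      exact (e.ofSubmodule' _).finrank_eq
    rw [h2, ← LinearMap.index_of_surjective hs1, hi1, hdim]
  have hcomp := mapBaseChange_comp_toPoly (F := F) K L r
  refine ⟨?_, ?_, ?_⟩
  · rw [← hcomp, LinearMap.ker_comp]
    infer_instance
  · rw [← hcomp, LinearMap.range_comp]
    infer_instance
  · rw [← hcomp, LinearMap.index_comp, hiP, hi0]
    ring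

omit [PerfectField F] in
/-- The kernel of a base change of a surjection. -/
theorem range_baseChange_ker {R S M N : Type*} [CommRing R] [CommRing S] [Algebra R S] [AddCommGroup M]
    [Module R M] [AddCommGroup N] [Module R N] (f : M →ₗ[R] N) (hf : Function.Surjective f) :
    LinearMap.range ((LinearMap.ker f).subtype.baseChange S) = LinearMap.ker (f.baseChange S) :=
  Submodule.ext fun x => ((lTensor_exact S f.exact_subtype_ker_map hf) x).symm

/-- The chain rule for the maps of differentials to a fixed algebra. -/
theorem map_map {S T U : Type u} [CommRing S] [CommRing T] [CommRing U] [Algebra F S] [Algebra F T]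
    [Algebra F U] [Algebra S T] [Algebra T U] [Algebra S U] [IsScalarTower S T U] [IsScalarTower F S T]
    [IsScalarTower F T U] [IsScalarTower F S U] (ω : Ω[S⁄F]) :
    KaehlerDifferential.map F F T U (KaehlerDifferential.map F F S T ω) =
      KaehlerDifferential.map F F S U ω := by
  have hω : ω ∈ Submodule.span S (Set.range (D F S)) := span_range_derivation F S ▸ trivial
  induction hω using Submodule.span_induction with
  | mem x hx =>
    obtain ⟨a, rfl⟩ := hx
    rw [map_D, map_D, map_D, ← IsScalarTower.algebraMap_apply]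
  | zero => simp
  | add x y _ _ hx hy => rw [map_add, map_add, hx, hy, map_add]
  | smul a x _ hx => rw [map_smul, LinearMap.map_smul_of_tower, map_smul, hx]

/-- `dim m_B/m_B² + dim ⟨dg_i⟩ = dim m_A/m_A² + r` for `B = A[T]/(G)` when `dG_i = dg_i`. -/
theorem finrank_cotangent_add {A B : Type u} [CommRing A] [IsLocalRing A] [IsNoetherianRing A]
    [Algebra F A] (r : ℕ) [CommRing B] [IsLocalRing B] [Algebra A B]
    [Algebra (MvPolynomial (Fin r) A) B] [IsScalarTower A (MvPolynomial (Fin r) A) B] [Algebra F B]
    [IsScalarTower F A B] [IsScalarTower F (MvPolynomial (Fin r) A) B]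
    [IsLocalHom (algebraMap A B)]
    (hsurj : Function.Surjective (algebraMap (MvPolynomial (Fin r) A) B))
    (G : Fin r → MvPolynomial (Fin r) A) (g : Fin r → A)
    (hker : RingHom.ker (algebraMap (MvPolynomial (Fin r) A) B) = Ideal.span (Set.range G))
    (hrel : ∀ i, D F (MvPolynomial (Fin r) A) (G i) =
      KaehlerDifferential.map F F A (MvPolynomial (Fin r) A) (D F A (g i))) :
    Module.finrank (ResidueField B) (CotangentSpace B) +
      Module.finrank (ResidueField B) (Submodule.span (ResidueField B)
        (Set.range fun i => (1 : ResidueField B) ⊗ₜ[A] D F A (g i))) =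
      Module.finrank (ResidueField A) (CotangentSpace A) + r := by
  let P := MvPolynomial (Fin r) A
  let K := ResidueField A
  let L := ResidueField B
  haveI : IsNoetherianRing B := isNoetherianRing_of_surjective P B _ hsurj
  haveI : IsScalarTower F K L := IsScalarTower.of_algebraMap_eq fun c => by
    rw [IsScalarTower.algebraMap_apply F A K, ← IsScalarTower.algebraMap_apply A K L,
      ← IsScalarTower.algebraMap_apply F A L]
  haveI : IsScalarTower F P L := IsScalarTower.to₁₂₄ F P B L
  let θ : Fin r → L := fun i => algebraMap P L (MvPolynomial.X i)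
  have hθ : Function.Surjective (MvPolynomial.aeval θ : MvPolynomial (Fin r) K →ₐ[K] L) := by
    intro l
    obtain ⟨b, rfl⟩ := residue_surjective l
    obtain ⟨x, rfl⟩ := hsurj b
    refine ⟨MvPolynomial.map (algebraMap A K) x, ?_⟩
    rw [MvPolynomial.aeval_map_algebraMap]
    have : (IsScalarTower.toAlgHom A P L) = MvPolynomial.aeval θ := MvPolynomial.aeval_unique _
    rw [← this]
    rfl
  haveI : Algebra.FiniteType K L := Algebra.FiniteType.of_surjective _ hθ
  haveI : Module.Finite K L := finite_of_finite_type_of_isJacobsonRing K L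
  -- the pieces
  obtain ⟨hkA, -, hsA, hiA⟩ := index_residue F A K residue_surjective
  obtain ⟨hkB, hcB, hsB, hiB⟩ := index_residue F B L residue_surjective
  obtain ⟨hkK, hcK, hiK⟩ := index_finite_field (F := F) K L r θ hθ
  obtain ⟨hinj, hc0, hi0⟩ := toPoly_props (F := F) A L r
  haveI := hkA
  haveI := hkB
  haveI := hcB
  haveI := hkK
  haveI := hcK
  haveI := hc0
  -- the base change of the sequence of `A`
  let η : L ⊗[A] Ω[A⁄F] →ₗ[L] L ⊗[K] Ω[K⁄F] :=
    (mapBaseChange F A K).baseChange L ∘ₗ
      (AlgebraTensorModule.cancelBaseChange A K L L Ω[A⁄F]).symm.toLinearMap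
  have hη : mapBaseChange F K L ∘ₗ η = mapBaseChange F A L := by
    refine TensorProduct.AlgebraTensorModule.ext fun l ω => ?_
    simp only [η, LinearMap.comp_apply, LinearEquiv.coe_coe,
      AlgebraTensorModule.cancelBaseChange_symm_tmul, LinearMap.baseChange_tmul, mapBaseChange_tmul,
      one_smul, map_map]
  have hηs : Function.Surjective η :=
    (LinearMap.lTensor_surjective L hsA).comp (LinearEquiv.surjective _)
  haveI : Subsingleton ((L ⊗[K] Ω[K⁄F]) ⧸ LinearMap.range η) :=
    Submodule.Quotient.subsingleton_iff.2 (LinearMap.range_eq_top.2 hηs)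
  let N := LinearMap.ker (mapBaseChange F A K)
  let eη : L ⊗[K] N ≃ₗ[L] LinearMap.ker η :=
    (LinearEquiv.ofInjective
      ((AlgebraTensorModule.cancelBaseChange A K L L Ω[A⁄F]).toLinearMap ∘ₗ N.subtype.baseChange L)
      (fun x y h => Module.Flat.lTensor_preserves_injective_linearMap (M := L) N.subtype
        N.injective_subtype ((AlgebraTensorModule.cancelBaseChange A K L L Ω[A⁄F]).injective h))).trans
    (LinearEquiv.ofEq _ _ (by
      rw [LinearMap.ker_comp, ← Submodule.map_equiv_eq_comap_symm, LinearMap.range_comp]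
      congr 1
      exact range_baseChange_ker (S := L) (mapBaseChange F A K) hsA))
  haveI : Module.Free K N := Module.Free.of_basis (Module.Basis.ofVectorSpace K N)
  haveI : FiniteDimensional L (LinearMap.ker η) := Module.Finite.equiv eη
  have hiη : η.index = Module.finrank (ResidueField A) (CotangentSpace A) := by
    rw [LinearMap.index_of_surjective hηs, ← hiA, LinearMap.index_of_surjective hsA,
      ← eη.finrank_eq, Module.finrank_baseChange]
  -- the map to `B`
  let e : L ⊗[B] (B ⊗[P] Ω[P⁄F]) ≃ₗ[L] L ⊗[P] Ω[P⁄F] :=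
    AlgebraTensorModule.cancelBaseChange P B L L Ω[P⁄F]
  let β : L ⊗[P] Ω[P⁄F] →ₗ[L] L ⊗[B] Ω[B⁄F] :=
    (mapBaseChange F P B).baseChange L ∘ₗ e.symm.toLinearMap
  have hβ : mapBaseChange F B L ∘ₗ β = mapBaseChange F P L := by
    refine TensorProduct.AlgebraTensorModule.ext fun l ω => ?_
    simp only [β, e, LinearMap.comp_apply, LinearEquiv.coe_coe,
      AlgebraTensorModule.cancelBaseChange_symm_tmul, LinearMap.baseChange_tmul, mapBaseChange_tmul,
      one_smul, map_map]
  have hsPB := mapBaseChange_surjective F P B hsurj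
  have hβs : Function.Surjective β :=
    (LinearMap.lTensor_surjective L hsPB).comp (LinearEquiv.surjective _)
  haveI : Subsingleton ((L ⊗[B] Ω[B⁄F]) ⧸ LinearMap.range β) :=
    Submodule.Quotient.subsingleton_iff.2 (LinearMap.range_eq_top.2 hβs)
  let T := Submodule.span L (Set.range fun i => (1 : L) ⊗ₜ[A] D F A (g i))
  have hgen : LinearMap.ker (mapBaseChange F P B) =
      Submodule.span B (Set.range fun i => (1 : B) ⊗ₜ[P] D F P (G i)) := by
    refine le_antisymm (fun w hw => ?_) (Submodule.span_le.2 ?_)
    · obtain ⟨z, rfl⟩ := (exact_kerCotangentToTensor_mapBaseChange F P B hsurj w).1 hw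
      obtain ⟨⟨x, hx⟩, rfl⟩ := (RingHom.ker (algebraMap P B)).toCotangent_surjective z
      rw [kerCotangentToTensor_toCotangent]
      obtain ⟨c, hc⟩ := Ideal.mem_span_range_iff_exists_fun.1 (hker.le hx)
      show (1 : B) ⊗ₜ[P] D F P x ∈ _
      rw [← hc, map_sum, TensorProduct.tmul_sum]
      refine Submodule.sum_mem _ fun i _ => ?_
      have hGi : algebraMap P B (G i) = 0 := RingHom.mem_ker.1 (hker.ge (Ideal.subset_span ⟨i, rfl⟩))
      rw [Derivation.leibniz, TensorProduct.tmul_add, TensorProduct.tmul_smul,
        ← TensorProduct.smul_tmul (G i), ← Algebra.algebraMap_eq_smul_one, hGi, zero_tmul, add_zero,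
        ← algebraMap_smul B (c i)]
      exact Submodule.smul_mem _ _ (Submodule.subset_span ⟨i, rfl⟩)
    · rintro _ ⟨i, rfl⟩
      show mapBaseChange F P B (1 ⊗ₜ D F P (G i)) = 0
      rw [mapBaseChange_tmul, map_D, RingHom.mem_ker.1 (hker.ge (Ideal.subset_span ⟨i, rfl⟩)),
        map_zero, smul_zero]
  have hkerβ : LinearMap.ker β = T.map (toPoly (F := F) A L r) := by
    rw [LinearMap.ker_comp, ← Submodule.map_equiv_eq_comap_symm, Submodule.map_span, ← Set.range_comp]
    have h1 : LinearMap.ker ((mapBaseChange F P B).baseChange L) =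
        Submodule.span L (Set.range fun i => (1 : L) ⊗ₜ[B] ((1 : B) ⊗ₜ[P] D F P (G i))) := by
      have hex := range_baseChange_ker (S := L) (mapBaseChange F P B) hsPB
      refine le_antisymm (fun w hw => ?_) (Submodule.span_le.2 ?_)
      · obtain ⟨z, rfl⟩ : w ∈ LinearMap.range ((LinearMap.ker (mapBaseChange F P B)).subtype.baseChange L) :=
          hex.ge hw
        induction z using TensorProduct.induction_on with
        | zero => rw [map_zero]; exact zero_mem _
        | add x y hx hy => rw [map_add]; exact add_mem (hx (hex.le ⟨_, rfl⟩)) (hy (hex.le ⟨_, rfl⟩))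
        | tmul l x =>
          obtain ⟨c, hc⟩ := (Submodule.mem_span_range_iff_exists_fun B).1 (hgen.le x.2)
          rw [LinearMap.baseChange_tmul, Submodule.coe_subtype, ← hc, TensorProduct.tmul_sum]
          refine Submodule.sum_mem _ fun i _ => ?_
          rw [TensorProduct.tmul_smul, TensorProduct.smul_tmul', ← mul_one (c i • l), ← smul_eq_mul,
            ← TensorProduct.smul_tmul']
          exact Submodule.smul_mem _ _ (Submodule.subset_span ⟨i, rfl⟩)
      · rintro _ ⟨i, rfl⟩
        show (mapBaseChange F P B).baseChange L _ = 0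
        rw [LinearMap.baseChange_tmul, show mapBaseChange F P B (1 ⊗ₜ D F P (G i)) = 0 from
          (hgen.ge (Submodule.subset_span ⟨i, rfl⟩) : _), tmul_zero]
    rw [h1, Submodule.map_span, ← Set.range_comp]
    congr 2
    funext i
    show e ((1 : L) ⊗ₜ[B] ((1 : B) ⊗ₜ[P] D F P (G i))) = toPoly (F := F) A L r (1 ⊗ₜ[A] D F A (g i))
    rw [AlgebraTensorModule.cancelBaseChange_tmul, toPoly_tmul, ← hrel, one_smul]
  haveI : FiniteDimensional L T := FiniteDimensional.span_of_finite L (Set.finite_range _)
  haveI : FiniteDimensional L (LinearMap.ker β) := by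
    rw [hkerβ]
    infer_instance
  haveI : FiniteDimensional L (LinearMap.ker (toPoly (F := F) A L r)) := by
    rw [LinearMap.ker_eq_bot.2 hinj]
    infer_instance
  have hiβ : β.index = Module.finrank L T := by
    rw [LinearMap.index_of_surjective hβs, hkerβ,
      (T.equivMapOfInjective _ hinj).finrank_eq]
  haveI : FiniteDimensional L (LinearMap.ker (mapBaseChange F P L)) := by
    rw [← hβ, LinearMap.ker_comp]
    infer_instance
  haveI : FiniteDimensional L (Ω[L⁄F] ⧸ LinearMap.range (mapBaseChange F P L)) := by
    rw [← hβ, LinearMap.range_comp]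
    infer_instance
  have h1 : (mapBaseChange F A L).index = Module.finrank (ResidueField A) (CotangentSpace A) := by
    rw [← hη, LinearMap.index_comp, hiK, hiη, zero_add]
  have h2 : (mapBaseChange F A L).index =
      (Module.finrank (ResidueField B) (CotangentSpace B) : ℤ) + Module.finrank L T - r := by
    rw [← mapBaseChange_comp_toPoly (F := F) A L r, LinearMap.index_comp, hi0, ← hβ,
      LinearMap.index_comp, hiB, hiβ]
    ring
  show _ + Module.finrank L T = _
  omega

end Groth.Agent.H05EGA4.CotIdx
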