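import Mathlib
import Groth.Prelude.Def_EGA4b
import Groth.Agent.H24Adic.HensQuotCompletion
import Groth.Agent.H24Adic.Basic

/-!
The completion of a local ring after base change to the completion of the base.
-/

set_option autoImplicit false
set_option linter.style.haveILetI false
set_option maxHeartbeats 800000
universe u
open IsLocalRing TensorProduct Groth.Agent

namespace Groth.Agent.H05EGA4.CplBaseChange

variable (A B : Type u) [CommRing A] [CommRing B] [IsNoetherianRing A] [IsLocalRing A] [IsLocalRing B]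
  [Algebra A B] [IsLocalHom (algebraMap A B)]

theorem approx (n : ℕ) (x : B ⊗[A] EGA4.Cpl A) :
    ∃ b : B, x - algebraMap B (B ⊗[A] EGA4.Cpl A) b ∈ ((maximalIdeal B).map (algebraMap B (B ⊗[A] EGA4.Cpl A))) ^ n := by
  induction x using TensorProduct.induction_on with
  | zero => exact ⟨0, by simp⟩
  | tmul c y =>
    obtain ⟨a, ha⟩ := H24Adic.exists_sub_of_mem (IsNoetherian.noetherian (maximalIdeal A)) n y
    refine ⟨c * algebraMap A B a, ?_⟩
    have h1 := Ideal.mem_map_of_mem (Algebra.TensorProduct.includeRight (R := A) (A := B) (B := EGA4.Cpl A)) ha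
    have hle : ((maximalIdeal A ^ n).map (algebraMap A (EGA4.Cpl A))).map
        (Algebra.TensorProduct.includeRight (R := A) (A := B) (B := EGA4.Cpl A)) ≤
        ((maximalIdeal B).map (algebraMap B (B ⊗[A] EGA4.Cpl A))) ^ n := by
      rw [Ideal.map_pow, Ideal.map_pow]
      refine Ideal.pow_right_mono ?_ n
      rw [Ideal.map_le_iff_le_comap, Ideal.map_le_iff_le_comap]
      intro r hr
      rw [Ideal.mem_comap, Ideal.mem_comap, AlgHom.commutes, IsScalarTower.algebraMap_apply A B]
      refine Ideal.mem_map_of_mem _ ?_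
      exact (IsLocalRing.mem_maximalIdeal _).mpr fun hu => (IsLocalRing.mem_maximalIdeal _).mp hr (IsUnit.of_map (algebraMap A B) r hu)
    have h2 := Ideal.mul_mem_left _ (algebraMap B (B ⊗[A] EGA4.Cpl A) c) (hle h1)
    convert h2 using 1
    rw [map_sub, AlgHom.commutes, mul_sub, map_mul, ← IsScalarTower.algebraMap_apply]
    congr 1
    show c ⊗ₜ y = (c ⊗ₜ (1 : EGA4.Cpl A)) * ((1 : B) ⊗ₜ y)
    rw [Algebra.TensorProduct.tmul_mul_tmul, mul_one, one_mul]
  | add x y hx hy =>
    obtain ⟨b, hb⟩ := hx; obtain ⟨c, hc⟩ := hy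
    exact ⟨b + c, by rw [map_add, add_sub_add_comm]; exact add_mem hb hc⟩

theorem exists_retraction (n : ℕ) :
    ∃ ρ : B ⊗[A] EGA4.Cpl A →ₐ[B] B ⧸ maximalIdeal B ^ n,
      ∀ x ∈ ((maximalIdeal B).map (algebraMap B (B ⊗[A] EGA4.Cpl A))) ^ n, ρ x = 0 := by
  let q : (A ⧸ maximalIdeal A ^ n) →ₐ[A] B ⧸ maximalIdeal B ^ n :=
    Ideal.quotientMapₐ (maximalIdeal B ^ n) (Algebra.ofId A B) fun r hr => by
      have := Ideal.mem_map_of_mem (algebraMap A B) hr
      rw [Ideal.map_pow] at this
      exact Ideal.pow_right_mono (map_maximalIdeal_le (algebraMap A B)) n this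
  let ρ : B ⊗[A] EGA4.Cpl A →ₐ[B] B ⧸ maximalIdeal B ^ n :=
    Algebra.TensorProduct.lift (Algebra.ofId B _) (q.comp (AdicCompletion.evalₐ (maximalIdeal A) n))
      (fun _ _ => Commute.all _ _)
  refine ⟨ρ, fun x hx => ?_⟩
  rw [← Ideal.map_pow] at hx
  have : ((maximalIdeal B) ^ n).map (algebraMap B (B ⊗[A] EGA4.Cpl A)) ≤ RingHom.ker ρ :=
    Ideal.map_le_iff_le_comap.mpr fun b hb => by
      show ρ (algebraMap B _ b) = 0
      rw [AlgHom.commutes]
      exact Ideal.Quotient.eq_zero_iff_mem.mpr hb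
  exact this hx

theorem nonempty_equiv_of_approx {B B' : Type u} [CommRing B] [IsLocalRing B] [CommRing B'] [Algebra B B']
    (happrox : ∀ (n : ℕ) (x : B'), ∃ b : B, x - algebraMap B B' b ∈ ((maximalIdeal B).map (algebraMap B B')) ^ n)
    (hretr : ∀ n : ℕ, ∃ ρ : B' →ₐ[B] B ⧸ maximalIdeal B ^ n,
      ∀ x ∈ ((maximalIdeal B).map (algebraMap B B')) ^ n, ρ x = 0)
    (n' : Ideal B') [n'.IsPrime] (h1 : n'.comap (algebraMap B B') = maximalIdeal B) :
    Nonempty (EGA4.Cpl B ≃+* EGA4.Cpl (Localization.AtPrime n')) := by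
  let L := Localization.AtPrime n'
  let mB' := (maximalIdeal B).map (algebraMap B B')
  have hle : mB' ≤ n' := Ideal.map_le_iff_le_comap.mpr h1.ge
  have hn' : n' = mB' := le_antisymm (fun x hx => by
    obtain ⟨b, hb⟩ := happrox 1 x
    replace hb := Ideal.pow_le_self one_ne_zero hb
    have hbm : b ∈ maximalIdeal B := by
      rw [← h1]
      show algebraMap B B' b ∈ n'
      have := n'.sub_mem hx (hle hb)
      rwa [sub_sub_cancel] at this
    have h5 := add_mem hb (Ideal.mem_map_of_mem (algebraMap B B') hbm)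
    rwa [sub_add_cancel] at h5) hle
  have hmL : (maximalIdeal B).map (algebraMap B L) = maximalIdeal L := by
    rw [IsScalarTower.algebraMap_eq B B' L, ← Ideal.map_map, ← Localization.AtPrime.map_eq_maximalIdeal]
    exact congrArg (Ideal.map (algebraMap B' L)) hn'.symm
  have hunit : ∀ (n : ℕ) (ρ : B' →ₐ[B] B ⧸ maximalIdeal B ^ n), (∀ x ∈ mB' ^ n, ρ x = 0) →
      ∀ s : B', s ∉ n' → IsUnit (ρ s) := by
    intro n ρ hρ s hs
    obtain ⟨c, hc⟩ := happrox n s
    have hc' : ρ s = Ideal.Quotient.mk _ c := by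
      have := hρ _ hc
      rw [map_sub, sub_eq_zero, AlgHom.commutes] at this
      exact this
    rw [hc']
    rcases Nat.eq_zero_or_pos n with rfl | hn
    · have : Subsingleton (B ⧸ maximalIdeal B ^ 0) := Ideal.Quotient.subsingleton_iff.mpr (by rw [pow_zero, Ideal.one_eq_top])
      exact isUnit_of_subsingleton _
    · refine (IsLocalRing.notMem_maximalIdeal.mp fun hcm => hs ?_).map (Ideal.Quotient.mk _)
      have h3 : s - algebraMap B B' c ∈ n' := hle (Ideal.pow_le_self hn.ne' hc)
      simpa using n'.add_mem h3 (hle (Ideal.mem_map_of_mem (algebraMap B B') hcm))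
  have hg : ∀ n, Function.Bijective (Ideal.quotientMapₐ (B := L) ((maximalIdeal B).map (algebraMap B L) ^ n) (Algebra.ofId B L)
      (H24Adic.map_pow_le_comap (maximalIdeal B) (Algebra.ofId B L) n)) := by
    intro n
    obtain ⟨ρ, hρ⟩ := hretr n
    refine ⟨(injective_iff_map_eq_zero _).mpr fun z hz => ?_, fun z => ?_⟩
    · obtain ⟨b, rfl⟩ := Ideal.Quotient.mk_surjective z
      rw [Ideal.quotient_map_mkₐ, Ideal.Quotient.mkₐ_eq_mk, Ideal.Quotient.eq_zero_iff_mem] at hz
      change algebraMap B L b ∈ (Ideal.map (algebraMap B L) (maximalIdeal B)) ^ n at hz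
      rw [← Ideal.map_pow, IsScalarTower.algebraMap_eq B B' L, ← Ideal.map_map,
        RingHom.comp_apply, IsLocalization.algebraMap_mem_map_algebraMap_iff n'.primeCompl] at hz
      obtain ⟨s, hs, hsb⟩ := hz
      have h0 : ρ (s * algebraMap B B' b) = 0 := hρ _ (by rw [← Ideal.map_pow]; exact hsb)
      rw [map_mul, AlgHom.commutes, (hunit n ρ hρ s hs).mul_right_eq_zero] at h0
      rw [Ideal.Quotient.eq_zero_iff_mem, Algebra.algebraMap_self, Ideal.map_id]
      exact Ideal.Quotient.eq_zero_iff_mem.mp h0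
    · obtain ⟨l, rfl⟩ := Ideal.Quotient.mk_surjective z
      obtain ⟨x, s, rfl⟩ := IsLocalization.exists_mk'_eq n'.primeCompl l
      obtain ⟨b, hb⟩ := happrox n x
      obtain ⟨c, hc⟩ := happrox n (s : B')
      obtain ⟨u, hu⟩ : ∃ u : B, c * u - 1 ∈ maximalIdeal B ^ n := by
        have hcu : IsUnit (Ideal.Quotient.mk (maximalIdeal B ^ n) c) := by
          have h4 := hρ _ hc
          rw [map_sub, sub_eq_zero, AlgHom.commutes] at h4
          have := hunit n ρ hρ s s.2
          rw [h4] at this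
          exact this
        obtain ⟨v, hv⟩ := hcu.exists_right_inv
        obtain ⟨v, rfl⟩ := Ideal.Quotient.mk_surjective v
        exact ⟨v, Ideal.Quotient.eq_zero_iff_mem.mp (by rw [map_sub, map_mul, map_one, hv, sub_self])⟩
      refine ⟨Ideal.Quotient.mk _ (b * u), ?_⟩
      rw [Ideal.quotient_map_mkₐ, Ideal.Quotient.mkₐ_eq_mk, Ideal.Quotient.eq]
      show algebraMap B L (b * u) - IsLocalization.mk' L x s ∈ ((maximalIdeal B).map (algebraMap B L)) ^ n
      rw [← Ideal.unit_mul_mem_iff_mem _ (IsLocalization.map_units L s)]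
      have hd : algebraMap B' L (s : B') * (algebraMap B L (b * u) - IsLocalization.mk' L x s) =
          algebraMap B' L ((s : B') * algebraMap B B' (b * u) - x) := by
        rw [mul_sub, IsLocalization.mk'_spec', map_sub, map_mul (algebraMap B' L), IsScalarTower.algebraMap_apply B B' L (b * u)]
      rw [hd, ← Ideal.map_pow, IsScalarTower.algebraMap_eq B B' L, ← Ideal.map_map, Ideal.map_pow]
      refine Ideal.mem_map_of_mem _ ?_
      have hu' : algebraMap B B' (c * u - 1) ∈ mB' ^ n := by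
        rw [← Ideal.map_pow]
        exact Ideal.mem_map_of_mem _ hu
      have : (s : B') * algebraMap B B' (b * u) - x =
          ((s : B') - algebraMap B B' c) * algebraMap B B' (b * u) + algebraMap B B' b * algebraMap B B' (c * u - 1) -
            (x - algebraMap B B' b) := by
        rw [map_sub, map_mul, map_mul, map_one]; ring
      rw [this]
      exact sub_mem (add_mem (Ideal.mul_mem_right _ _ hc) (Ideal.mul_mem_left _ _ hu')) hb
  obtain ⟨e⟩ := H24Adic.nonempty_algEquiv_adicCompletion (maximalIdeal B) (Algebra.ofId B L) hg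
  rw [Algebra.algebraMap_self, Ideal.map_id, hmL] at e
  exact ⟨e.toRingEquiv⟩

theorem nonempty_equiv (n' : Ideal (B ⊗[A] EGA4.Cpl A)) [n'.IsPrime]
    (h1 : n'.comap (algebraMap B (B ⊗[A] EGA4.Cpl A)) = maximalIdeal B) :
    Nonempty (EGA4.Cpl B ≃+* EGA4.Cpl (Localization.AtPrime n')) :=
  nonempty_equiv_of_approx (fun n x => approx A B n x) (exists_retraction A B) n' h1

end Groth.Agent.H05EGA4.CplBaseChange
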