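import Mathlib
import Groth.Prelude.Def_Curv2
import Groth.Prelude.Def_Found
import Groth.Agent.H22Alg.NormalizationDimOne
import Groth.Agent.H17.DimIneqScheme
import Groth.Agent.H8Props.FieldDimFibre
import Groth.Agent.H25Norm.Sections
import Groth.Agent.H05EGA4.CompleteNormalization

/-!
Curves: an alteration is finite; regular alteration gives finite normalization; the normalization is an
isomorphism over an open.  (exists_isIso_open is copied from H22Alg.NormCoker to keep the closure small.)
-/

set_option autoImplicit false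
set_option linter.style.haveILetI false
universe u
open CategoryTheory CategoryTheory.Limits AlgebraicGeometry TopologicalSpace Groth.Agent

namespace Groth.Agent.H05EGA4.CurveNorm

/-- The map from the integral closure of the base. -/
theorem exists_lift {A : Type u} [CommRing A] [IsDomain A] (C : Type u) [CommRing C] [IsDomain C] [IsIntegrallyClosed C] [Algebra A C]
    (hinj : Function.Injective (algebraMap A C)) :
    ∃ g : integralClosure A (FractionRing A) →ₐ[A] C, Function.Injective g := by
  let L := FractionRing C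
  have hu : ∀ y : nonZeroDivisors A, IsUnit (Algebra.ofId A L y) := fun y => by
    refine Ne.isUnit ?_
    rw [Algebra.ofId_apply, IsScalarTower.algebraMap_apply A C L,
      map_ne_zero_iff _ (IsFractionRing.injective C L), map_ne_zero_iff _ hinj]
    exact nonZeroDivisors.ne_zero y.2
  let j : FractionRing A →ₐ[A] L := IsLocalization.liftAlgHom (M := nonZeroDivisors A) (f := Algebra.ofId A L) hu
  let i : C →ₐ[A] L := IsScalarTower.toAlgHom A C L
  have hi : Function.Injective i := IsFractionRing.injective C L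
  have hmem : ∀ b : integralClosure A (FractionRing A), j b ∈ i.range := fun b => by
    have h1 : IsIntegral C (j b) := (b.2.map j).tower_top
    obtain ⟨c, hc⟩ := IsIntegrallyClosed.algebraMap_eq_of_integral h1
    exact ⟨c, hc⟩
  let m := (j.comp (integralClosure A (FractionRing A)).val).codRestrict i.range hmem
  refine ⟨(AlgEquiv.ofInjective i hi).symm.toAlgHom.comp m,
    (AlgEquiv.ofInjective i hi).symm.injective.comp fun x y hxy => ?_⟩
  exact Subtype.val_injective (j.toRingHom.injective (congrArg Subtype.val hxy))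

theorem finite_univ_of_closed_points {Z : Type u} [TopologicalSpace Z] [NoetherianSpace Z] [QuasiSober Z]
    (h : ∀ z : Z, IsClosed ({z} : Set Z)) : (Set.univ : Set Z).Finite := by
  obtain ⟨S, hS, hSc, hSi, hSu⟩ := NoetherianSpace.exists_finite_set_isClosed_irreducible (α := Z) isClosed_univ
  rw [hSu]
  refine hS.sUnion fun T hT => ?_
  obtain ⟨g, hg⟩ := QuasiSober.sober (hSi T hT) (hSc T hT)
  rw [← hg.def, (h g).closure_eq]
  exact Set.finite_singleton g

/-- An alteration of a Noetherian curve is finite. -/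
theorem isFinite_of_alteration {X Y : Scheme.{u}} [IsLocallyNoetherian Y] (g : X ⟶ Y) (hg : Curv2.IsAlteration g)
    (hdim : topologicalKrullDim Y ≤ 1) : IsFinite g := by
  obtain ⟨hp, hX, hY, hd, V, hV, hfin⟩ := hg
  haveI := hp; haveI := hX; haveI := hY; haveI := hd; haveI := hfin
  -- fibres over points of `V` have no specializations
  have hgV : ∀ a b : X, g b ∈ V → g a = g b → a ⤳ b → a = b := by
    intro a b hb hab h
    have ha : g a ∈ V := hab ▸ hb
    let a' : (g ⁻¹ᵁ V).toScheme := ⟨a, ha⟩
    let b' : (g ⁻¹ᵁ V).toScheme := ⟨b, hb⟩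
    have hs : a' ⤳ b' := (g ⁻¹ᵁ V).ι.isOpenEmbedding.isInducing.specializes_iff.1 h
    have he : (g ∣_ V) a' = (g ∣_ V) b' := V.ι.isOpenEmbedding.injective
      ((congr($(morphismRestrict_ι g V) a')).trans (hab.trans (congr($(morphismRestrict_ι g V) b')).symm))
    haveI : DiscreteTopology ↥((g ∣_ V).base ⁻¹' {(g ∣_ V) b'}) :=
      isDiscrete_iff_discreteTopology.1 ((g ∣_ V).isDiscrete_preimage_singleton _)
    have h2 : (⟨a', he⟩ : ↥((g ∣_ V).base ⁻¹' {(g ∣_ V) b'})) ⤳ ⟨b', rfl⟩ := (subtype_specializes_iff _ _).2 hs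
    exact congrArg Subtype.val (congrArg Subtype.val h2.eq)
  have hηV : genericPoint Y ∈ V := ((genericPoint_spec Y).mem_open_set_iff V.2).2 ⟨_, trivial, hV.choose_spec⟩
  have hgen : g (genericPoint X) = genericPoint Y := by
    refine ((genericPoint_spec Y).eq (?_ : closure {g (genericPoint X)} = Set.univ)).symm
    refine Set.eq_univ_of_univ_subset ?_
    rw [← g.denseRange.closure_eq]
    refine closure_minimal ?_ isClosed_closure
    rintro _ ⟨z, rfl⟩
    exact specializes_iff_mem_closure.1 (((genericPoint_spec X).specializes trivial).map g.continuous)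
  have hE : ∀ ξ : X, closure {ξ} ∈ irreducibleComponents ↥X →
      letI := (g.residueFieldMap ξ).hom.toAlgebra
      Algebra.trdeg (Y.residueField (g.base ξ)) (X.residueField ξ) ≤ (0 : ℕ) := by
    intro ξ hξ
    have hξ' : ξ = genericPoint X := by
      have h1 : closure {ξ} = (Set.univ : Set X) := by
        rw [irreducibleComponents_eq_singleton] at hξ
        exact hξ
      exact ((genericPoint_spec X).eq h1).symm
    obtain ⟨s, hs, hs'⟩ := H8Props.FieldDim.exists_trdeg_fiber g (g.asFiber ξ)
    have h0 : H8Props.FieldDim.cdim (g.asFiber ξ) ≤ 0 := by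
      haveI : DiscreteTopology ↥(closure ({g.asFiber ξ} : Set (g.fiber (g ξ)))) := by
        haveI : Subsingleton ↥(closure ({g.asFiber ξ} : Set (g.fiber (g ξ)))) := by
          refine ⟨fun a b => Subtype.ext ((g.fiberι _).isEmbedding.injective ?_)⟩
          have key : ∀ c : ↥(closure ({g.asFiber ξ} : Set (g.fiber (g ξ)))), g.fiberι _ c.1 = ξ := fun c => by
            have h1 : ξ ⤳ g.fiberι _ c.1 := by
              have := (specializes_iff_mem_closure.2 c.2).map (g.fiberι (g ξ)).continuous
              rwa [g.fiberι_asFiber] at this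
            have h2 : g (g.fiberι (g ξ) c.1) = g ξ := (g.range_fiberι _).le ⟨c.1, rfl⟩
            exact (hgV ξ _ (by rw [h2, hξ', hgen]; exact hηV) h2.symm h1).symm
          rw [key, key]
        infer_instance
      exact topologicalKrullDim_zero_of_discreteTopology _
    rw [hs] at h0
    have : s = 0 := by
      have : (s : ℕ∞) ≤ 0 := WithBot.coe_le_coe.1 h0
      exact_mod_cast (nonpos_iff_eq_zero.1 this)
    subst this
    rw [g.fiberι_asFiber ξ] at hs'
    rw [hs']
  haveI : LocallyQuasiFinite g := by
    refine locallyQuasiFinite_iff_isDiscrete_preimage_singleton.2 fun y => ?_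
    rw [← g.range_fiberι]
    haveI : DiscreteTopology (g.fiber y) := by
      haveI : LocallyOfFiniteType (g.fiberToSpecResidueField y) := MorphismProperty.pullback_snd _ _ inferInstance
      haveI : IsLocallyNoetherian (g.fiber y) := LocallyOfFiniteType.isLocallyNoetherian (g.fiberToSpecResidueField y)
      haveI : IsNoetherian (g.fiber y) := ⟨⟩
      refine JacobsonSpace.discreteTopology ((finite_univ_of_closed_points fun u => ?_).subset (Set.subset_univ _))
      show IsClosed ({u} : Set (g.fiber y))
      rw [← closure_eq_iff_isClosed]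
      refine Set.Subset.antisymm (fun z hz => ?_) subset_closure
      have h1 : g.fiberι y u ⤳ g.fiberι y z := (specializes_iff_mem_closure.2 hz).map (g.fiberι y).continuous
      have h2 : ∀ c, g (g.fiberι y c) = y := fun c => (g.range_fiberι y).le ⟨c, rfl⟩
      by_cases hy : y ∈ V
      · exact (g.fiberι y).isEmbedding.injective
          (hgV _ _ (by rw [h2]; exact hy) (by rw [h2, h2]) h1).symm
      · by_contra hne
        obtain ⟨s, hs, hs'⟩ := H8Props.FieldDim.exists_trdeg_fiber g u
        have hb : ∀ b : ℕ∞, ringKrullDim (Y.presheaf.stalk (g.base (g.fiberι y u))) = b → b ≤ 1 := fun b hb => by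
          letI := specializationOrder Y
          have h3 : ringKrullDim (Y.presheaf.stalk (g.base (g.fiberι y u))) ≤ 1 := by
            rw [ringKrullDim_stalk_eq_coheight]
            refine (Order.coheight_le_krullDim _).trans ?_
            rw [← Order.krullDim_eq_of_orderIso (irreducibleSetEquivPoints (α := Y))]
            exact hdim
          rw [hb] at h3
          exact WithBot.coe_le_coe.1 h3
        obtain ⟨b, hb', hl⟩ := H17.DimIneq.scheme_ineq g (g.fiberι y u) 0 fun ξ hξ _ => hE ξ hξ
        have h1' : ((1 : ℕ) : WithBot ℕ∞) ≤ ringKrullDim (X.presheaf.stalk (g.fiberι y u)) := by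
          rw [ringKrullDim_stalk_eq_coheight]
          refine WithBot.coe_le_coe.2 ?_
          rw [Nat.cast_one, Order.one_le_iff_pos, pos_iff_ne_zero]
          intro h0
          letI := specializationOrder X
          have hm : IsMax (g.fiberι y u) := Order.coheight_eq_zero.1 h0
          have hle : g.fiberι y u ≤ genericPoint X := (genericPoint_spec X).specializes trivial
          have he : g.fiberι y u = genericPoint X := le_antisymm hle (hm hle)
          exact hy (by rw [← h2 u, he, hgen]; exact hηV)
        have h4 := hl 1 h1'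
        rw [hs'] at h4
        have hs0 : s = 0 := by
          obtain ⟨n, rfl⟩ := ENat.ne_top_iff_exists.1 (ne_top_of_le_ne_top ENat.one_ne_top (hb b hb'))
          have hn : n ≤ 1 := by exact_mod_cast hb _ hb'
          have h5 : ((1 + s : ℕ) : Cardinal.{u}) ≤ (n : ℕ) := by simpa using h4
          have h6 : 1 + s ≤ n := by exact_mod_cast h5
          omega
        have hlt := H8Props.FieldDim.cdim_lt (k := Y.residueField y) (g.fiberToSpecResidueField y)
          (specializes_iff_mem_closure.2 hz) (fun e => hne e.symm)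
        rw [hs, hs0] at hlt
        obtain ⟨t, ht⟩ := H8Props.FieldDim.exists_nat_cdim (k := Y.residueField y) (g.fiberToSpecResidueField y) z
        rw [ht] at hlt
        exact absurd hlt (by simp)
    exact isDiscrete_iff_discreteTopology.2 (g.fiberι y).isEmbedding.toHomeomorph.discreteTopology
  exact IsFinite.of_isProper_of_locallyQuasiFinite g

/-- A regular alteration of a Noetherian curve gives a finite normalization. -/
theorem isFinite_normalizationι (Y : Scheme.{u}) [IsIntegral Y]
    [QuasiCompact (Y.fromSpecStalk (genericPoint Y))] [QuasiSeparated (Y.fromSpecStalk (genericPoint Y))]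
    [IsLocallyNoetherian Y] (hdim : topologicalKrullDim Y ≤ 1) {X : Scheme.{u}} (g : X ⟶ Y)
    (hg : Curv2.IsAlteration g) (hreg : ∀ x : X, IsRegularLocalRing (X.presheaf.stalk x)) :
    IsFinite (Curv2.normalizationι Y) := by
  haveI hgf : IsFinite g := isFinite_of_alteration g hg hdim
  obtain ⟨-, hX, -, hd, -⟩ := hg
  haveI := hX; haveI := hd
  rw [isFinite_iff]
  haveI := H22Alg.NormalizationDimOne.isIntegralHom_normalizationι Y
  refine ⟨inferInstance, fun U hU => ?_⟩
  rcases isEmpty_or_nonempty (↥U : Type u) with hemp | hne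
  · have hbot : Curv2.normalizationι Y ⁻¹ᵁ U = ⊥ := eq_bot_iff.2 fun y hy => hemp.elim ⟨_, hy⟩
    haveI : Subsingleton Γ(Curv2.normalization Y, Curv2.normalizationι Y ⁻¹ᵁ U) := by rw [hbot]; infer_instance
    exact RingHom.Finite.of_surjective _ fun x => ⟨0, Subsingleton.elim _ _⟩
  · haveI : Nonempty U.toScheme := hne
    haveI : IsNoetherianRing Γ(Y, U) := IsLocallyNoetherian.component_noetherian ⟨U, hU⟩
    haveI : IsDomain Γ(Y, U) := IsIntegral.component_integral U
    obtain ⟨φ, hφ⟩ := H22Alg.NormalizationDimOne.exists_obj_iso Y hU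
    haveI : IsFractionRing Γ(Y, U) Y.functionField := functionField_isFractionRing_of_isAffineOpen Y U hU
    obtain ⟨x, hxU⟩ := g.denseRange.exists_mem_open U.2 ⟨_, (Classical.arbitrary U).2⟩
    haveI : Nonempty (g ⁻¹ᵁ U).toScheme := ⟨⟨x, hxU⟩⟩
    haveI : IsIntegral (g ⁻¹ᵁ U).toScheme := isIntegral_of_isOpenImmersion (g ⁻¹ᵁ U).ι
    haveI : IsDomain Γ(X, g ⁻¹ᵁ U) := IsIntegral.component_integral (g ⁻¹ᵁ U)
    haveI : IsIntegrallyClosed Γ(X, g ⁻¹ᵁ U) := by
      haveI := H25Norm.isIntegrallyClosed_top (g ⁻¹ᵁ U).toScheme fun t => by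
        haveI := hreg ((g ⁻¹ᵁ U).ι t)
        haveI := H05EGA4.isIntegrallyClosed_of_isRegularLocalRing (X.presheaf.stalk ((g ⁻¹ᵁ U).ι t))
        exact IsIntegrallyClosed.of_equiv (asIso ((g ⁻¹ᵁ U).ι.stalkMap t)).commRingCatIsoToRingEquiv
      exact IsIntegrallyClosed.of_equiv (g ⁻¹ᵁ U).topIso.commRingCatIsoToRingEquiv
    letI : Algebra Γ(Y, U) Γ(X, g ⁻¹ᵁ U) := (g.app U).hom.toAlgebra
    haveI : Module.Finite Γ(Y, U) Γ(X, g ⁻¹ᵁ U) := (isFinite_iff g).1 hgf |>.2 U hU
    have hinj : Function.Injective (algebraMap Γ(Y, U) Γ(X, g ⁻¹ᵁ U)) := by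
      refine (injective_iff_map_eq_zero _).2 fun a ha => ?_
      rw [← AlgebraicGeometry.basicOpen_eq_bot_iff]
      by_contra hne'
      obtain ⟨z, hz⟩ := g.denseRange.exists_mem_open (Y.basicOpen a).2
        (Set.nonempty_iff_ne_empty.2 fun h => hne' (SetLike.coe_injective h))
      have h1 : z ∈ g ⁻¹ᵁ Y.basicOpen a := hz
      rw [Scheme.preimage_basicOpen] at h1
      rw [show g.app U a = 0 from ha, Scheme.basicOpen_zero] at h1
      exact h1
    obtain ⟨j, hj⟩ := exists_lift (A := Γ(Y, U)) Γ(X, g ⁻¹ᵁ U) hinj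
    haveI : _root_.IsNoetherian Γ(Y, U) Γ(X, g ⁻¹ᵁ U) := isNoetherian_of_isNoetherianRing_of_finite _ _
    haveI : Module.Finite Γ(Y, U) (integralClosure Γ(Y, U) (FractionRing Γ(Y, U))) :=
      Module.Finite.of_injective j.toLinearMap hj
    let e : FractionRing Γ(Y, U) ≃ₐ[Γ(Y, U)] Y.functionField := FractionRing.algEquiv Γ(Y, U) Y.functionField
    haveI : Module.Finite Γ(Y, U) (integralClosure Γ(Y, U) Y.functionField) :=
      Module.Finite.equiv e.mapIntegralClosure.toLinearEquiv
    have h1 : (algebraMap Γ(Y, U) (integralClosure Γ(Y, U) Y.functionField)).Finite :=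
      RingHom.finite_algebraMap.mpr ‹_›
    have h2 := RingHom.Finite.comp (RingHom.Finite.of_surjective φ.toRingHom φ.surjective) h1
    convert h2 using 1
    exact RingHom.ext fun b => (hφ b).symm

variable (X : Scheme.{u}) [IsIntegral X] [QuasiCompact (X.fromSpecStalk (genericPoint X))]
  [QuasiSeparated (X.fromSpecStalk (genericPoint X))]

theorem exists_denominator {B : Type*} [CommRing B] [IsDomain B] {K : Type*} [Field K] [Algebra B K]
    [IsFractionRing B K] [Module.Finite B (integralClosure B K)] :
    ∃ f : B, f ≠ 0 ∧ ∀ c : integralClosure B K, ∃ b : B, algebraMap B K b = algebraMap B K f * (c : K) := by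
  classical
  obtain ⟨s, hs⟩ := (Module.Finite.fg_top : (⊤ : Submodule B (integralClosure B K)).FG)
  obtain ⟨⟨f, hf⟩, h⟩ := IsLocalization.exist_integer_multiples (nonZeroDivisors B) s
    (fun c : integralClosure B K => (c : K))
  refine ⟨f, nonZeroDivisors.ne_zero hf, fun c => ?_⟩
  have hc : c ∈ Submodule.span B (s : Set (integralClosure B K)) := hs ▸ trivial
  induction hc using Submodule.span_induction with
  | mem c hc =>
    obtain ⟨b, hb⟩ := h c hc
    exact ⟨b, hb.trans (Algebra.smul_def f (c : K))⟩
  | zero => exact ⟨0, by simp⟩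
  | add c d _ _ hc hd =>
    obtain ⟨b, hb⟩ := hc
    obtain ⟨b', hb'⟩ := hd
    exact ⟨b + b', by rw [map_add, hb, hb', Subalgebra.coe_add, mul_add]⟩
  | smul r c _ hc =>
    obtain ⟨b, hb⟩ := hc
    exact ⟨r * b, by rw [map_mul, hb, Subalgebra.coe_smul, Algebra.smul_def]; ring⟩

theorem exists_isIso_open (hfin : IsFinite (Curv2.normalizationι X)) :
    ∃ U : X.Opens, Dense (U : Set X) ∧ IsIso (Curv2.normalizationι X ∣_ U) := by
  obtain ⟨U, hU, hx, -⟩ := exists_isAffineOpen_mem_and_subset (show genericPoint X ∈ (⊤ : X.Opens) from trivial)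
  haveI : Nonempty U := ⟨⟨_, hx⟩⟩
  haveI := functionField_isFractionRing_of_isAffineOpen X U hU
  haveI : IsAffineHom (Curv2.normalizationι X) := hfin.toIsAffineHom
  obtain ⟨φ, hφ⟩ := H22Alg.NormalizationDimOne.exists_obj_iso X hU
  let ν := Curv2.normalizationι X
  haveI : Module.Finite Γ(X, U) (integralClosure Γ(X, U) X.functionField) := by
    have h := (isFinite_iff ν).1 hfin |>.2 U hU
    letI := (ν.app U).hom.toAlgebra
    haveI : Module.Finite Γ(X, U) Γ(Curv2.normalization X, ν ⁻¹ᵁ U) := h
    exact Module.Finite.equiv (AlgEquiv.ofRingEquiv (f := φ.symm) fun b => φ.injective (by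
      rw [RingEquiv.apply_symm_apply]; exact (hφ b).symm)).toLinearEquiv
  obtain ⟨f, hf, hden⟩ := exists_denominator (B := Γ(X, U)) (K := X.functionField)
  refine ⟨X.basicOpen f, ?_, ?_⟩
  · refine ((X.basicOpen f).2.dense (Set.nonempty_iff_ne_empty.2 fun he => hf ?_))
    exact (AlgebraicGeometry.basicOpen_eq_bot_iff f).1 (SetLike.coe_injective (by simpa using he))
  · have hUf : IsAffineOpen (X.basicOpen f) := hU.basicOpen f
    haveI : IsAffine (X.basicOpen f).toScheme := hUf
    haveI : IsAffine (ν ⁻¹ᵁ X.basicOpen f).toScheme := hUf.preimage ν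
    let B' := Γ(Curv2.normalization X, ν ⁻¹ᵁ U)
    have happ : Function.Bijective (ν.app (X.basicOpen f)) := by
      haveI := hU.isLocalization_basicOpen f
      have hpre : ν ⁻¹ᵁ X.basicOpen f = (Curv2.normalization X).basicOpen (ν.app U f) := Scheme.preimage_basicOpen ν f
      letI : Algebra B' Γ(Curv2.normalization X, ν ⁻¹ᵁ X.basicOpen f) :=
        ((Curv2.normalization X).presheaf.map (homOfLE (ν.preimage_mono (X.basicOpen_le f))).op).hom.toAlgebra
      haveI : IsLocalization.Away (ν.app U f) Γ(Curv2.normalization X, ν ⁻¹ᵁ X.basicOpen f) :=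
        (hU.preimage ν).isLocalization_of_eq_basicOpen (ν.app U f) (homOfLE (ν.preimage_mono (X.basicOpen_le f))) hpre
      have hnat : ∀ b : Γ(X, U), ν.app (X.basicOpen f) (algebraMap Γ(X, U) Γ(X, X.basicOpen f) b) =
          algebraMap B' Γ(Curv2.normalization X, ν ⁻¹ᵁ X.basicOpen f) (ν.app U b) :=
        fun b => congr($(ν.naturality (homOfLE (X.basicOpen_le f)).op) b)
      have hfu : IsUnit (algebraMap Γ(X, U) Γ(X, X.basicOpen f) f) :=
        IsLocalization.map_units _ (⟨f, 1, pow_one f⟩ : Submonoid.powers f)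
      constructor
      · refine (injective_iff_map_eq_zero _).2 fun z hz => ?_
        obtain ⟨⟨b, s⟩, hb⟩ := IsLocalization.surj (Submonoid.powers f) z
        have h0 : algebraMap B' Γ(Curv2.normalization X, ν ⁻¹ᵁ X.basicOpen f) (ν.app U b) = 0 := by
          rw [← hnat, ← hb, map_mul, hz, zero_mul]
        obtain ⟨⟨_, m, rfl⟩, hm⟩ := (IsLocalization.map_eq_zero_iff (Submonoid.powers (ν.app U f)) _ _).1 h0
        have hb0 : f ^ m * b = 0 := by
          refine IsFractionRing.injective Γ(X, U) X.functionField ?_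
          have key : ∀ b : Γ(X, U), ((φ.symm (ν.app U b) : integralClosure Γ(X, U) X.functionField) : X.functionField) =
              algebraMap Γ(X, U) X.functionField b := fun b => by rw [← hφ, RingEquiv.symm_apply_apply]; rfl
          have h1 := congrArg (fun w => ((φ.symm w : integralClosure Γ(X, U) X.functionField) : X.functionField)) hm
          simp only [map_mul, map_pow, map_zero, Subalgebra.coe_mul, Subalgebra.coe_pow, Subalgebra.coe_zero, key] at h1 ⊢
          exact h1
        rw [(mul_eq_zero.1 hb0).resolve_left (pow_ne_zero m hf), map_zero] at hb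
        exact (IsLocalization.map_units _ s).mul_left_eq_zero.1 hb
      · intro w
        obtain ⟨⟨c, ⟨_, m, rfl⟩⟩, hc⟩ := IsLocalization.surj (Submonoid.powers (ν.app U f)) w
        obtain ⟨b, hb⟩ := hden (φ.symm c)
        have hcb : ν.app U f * c = ν.app U b := by
          rw [← hφ, ← hφ, ← φ.apply_symm_apply c, ← map_mul]
          exact congrArg φ (Subtype.ext hb.symm)
        refine ⟨algebraMap Γ(X, U) Γ(X, X.basicOpen f) b * ↑(hfu.pow (m + 1)).unit⁻¹, ?_⟩
        have hu2 : IsUnit (ν.app (X.basicOpen f) (algebraMap Γ(X, U) Γ(X, X.basicOpen f) f ^ (m + 1))) :=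
          (hfu.pow (m + 1)).map _
        refine hu2.mul_left_injective ?_
        show ν.app _ _ * ν.app _ _ = w * ν.app _ _
        rw [← map_mul, mul_assoc, (hfu.pow (m + 1)).val_inv_mul, mul_one, map_pow, hnat, hnat, ← hcb, map_mul,
          pow_succ', ← mul_assoc, mul_comm w, mul_assoc, ← map_pow]
        exact congrArg _ hc.symm
    haveI : IsIso ((ν ∣_ X.basicOpen f).appTop) := by
      rw [morphismRestrict_appTop]
      haveI : IsIso (ν.app (X.basicOpen f)) := (ConcreteCategory.isIso_iff_bijective _).2 happ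
      haveI h1 : IsIso (ν.app ((X.basicOpen f).ι ''ᵁ ⊤)) := by rw [Scheme.Opens.ι_image_top]; infer_instance
      exact @IsIso.comp_isIso _ _ _ _ _ _ _ h1 (Functor.map_isIso _ _)
    exact (HasAffineProperty.iff_of_isAffine (P := MorphismProperty.isomorphisms Scheme)).2
      ⟨inferInstance, inferInstance⟩

end Groth.Agent.H05EGA4.CurveNorm
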