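import Groth.Agent.S7372
import Groth.Agent.H11Strict.ClosedImm
import Groth.Agent.H26Blow.Exists
import Groth.Agent.S7373
import Groth.Agent.H12AlgSp.LqfDim

/-! # Separating curves on a Noetherian scheme by blowing up closed points. -/

set_option autoImplicit false
set_option linter.style.haveILetI false

universe u

open CategoryTheory CategoryTheory.Limits AlgebraicGeometry TopologicalSpace Resolve

namespace Groth.Agent.H05EGA4.CurveSeparate

open S7372

/-- Local rings of a regular integral curve are principal ideal rings. -/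
theorem pid_stalk {C : Scheme.{u}} [IsIntegral C] [IsLocallyNoetherian C] (hdim : topologicalKrullDim C ≤ 1)
    (hreg : ∀ x : C, IsRegularLocalRing (C.presheaf.stalk x)) (x : C) : IsPrincipalIdealRing (C.presheaf.stalk x) := by
  haveI := hreg x
  letI := specializationOrder C
  have hd : Order.krullDim C ≤ 1 := by
    rw [← Order.krullDim_eq_of_orderIso (irreducibleSetEquivPoints (α := C))]; exact hdim
  have h1 : ringKrullDim (C.presheaf.stalk x) ≤ 1 := by
    rw [ringKrullDim_stalk_eq_coheight]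
    exact (Order.coheight_le_krullDim x).trans hd
  have h3 : (IsLocalRing.maximalIdeal (C.presheaf.stalk x)).spanFinrank ≤ 1 := by
    rw [← IsRegularLocalRing.spanFinrank_maximalIdeal] at h1
    exact_mod_cast h1
  rw [IsLocalRing.spanFinrank_maximalIdeal_eq_finrank_cotangentSpace] at h3
  exact (((tfae_of_isNoetherianRing_of_isLocalRing_of_isDomain (C.presheaf.stalk x)).out 5 0).mp h3 :)

theorem isEffCartier_of_pid {N : Scheme.{u}} [IsIntegral N] [IsLocallyNoetherian N]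
    (hN : ∀ x : N, IsPrincipalIdealRing (N.presheaf.stalk x))
    (J : N.IdealSheafData) (hJ : genericPoint N ∉ (J.support : Set N)) : BlowUp.IsEffCartierIdeal J := by
  intro x
  obtain ⟨W, hW, hx, -⟩ := exists_isAffineOpen_mem_and_subset (show x ∈ (⊤ : N.Opens) from trivial)
  haveI : Nonempty W := ⟨⟨x, hx⟩⟩
  haveI : IsDomain Γ(N, W) := IsIntegral.component_integral W
  haveI : IsNoetherianRing Γ(N, W) := IsLocallyNoetherian.component_noetherian ⟨W, hW⟩
  have hηW : genericPoint N ∈ W := ((genericPoint_spec N).mem_open_set_iff W.2).2 ⟨x, trivial, hx⟩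
  have hne : J.ideal ⟨W, hW⟩ ≠ ⊥ := by
    intro h0
    refine hJ ?_
    have h1 : genericPoint N ∈ N.zeroLocus (U := W) (J.ideal ⟨W, hW⟩ : Set Γ(N, W)) ∩ (W : Set N) := by
      refine ⟨(Scheme.mem_zeroLocus_iff N _ _).2 fun f hf hmem => ?_, hηW⟩
      rw [h0] at hf
      obtain rfl : f = 0 := hf
      rw [Scheme.basicOpen_zero] at hmem
      exact hmem
    rw [← J.coe_support_inter ⟨W, hW⟩] at h1
    exact h1.1
  let p := (hW.primeIdealOf ⟨x, hx⟩).asIdeal
  letI := TopCat.Presheaf.algebra_section_stalk N.presheaf ⟨x, hx⟩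
  haveI := hW.isLocalization_stalk ⟨x, hx⟩
  haveI : IsPrincipalIdealRing (N.presheaf.stalk x) := hN x
  obtain ⟨t, ht⟩ := (IsPrincipalIdealRing.principal
    ((J.ideal ⟨W, hW⟩).map (algebraMap Γ(N, W) (N.presheaf.stalk x)))).principal
  -- a generator in the ideal
  have ht' : t ∈ (J.ideal ⟨W, hW⟩).map (algebraMap Γ(N, W) (N.presheaf.stalk x)) := by
    rw [ht]; exact Submodule.mem_span_singleton_self t
  obtain ⟨⟨⟨a, ha⟩, s⟩, has⟩ := (IsLocalization.mem_map_algebraMap_iff p.primeCompl (N.presheaf.stalk x)).1 ht'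
  have hspan : (J.ideal ⟨W, hW⟩).map (algebraMap Γ(N, W) (N.presheaf.stalk x)) =
      Ideal.span {algebraMap Γ(N, W) (N.presheaf.stalk x) a} := by
    rw [ht]
    show Ideal.span {t} = _
    rw [← has, Ideal.span_singleton_mul_right_unit (IsLocalization.map_units _ s)]
  obtain ⟨S, hS⟩ := IsNoetherian.noetherian (J.ideal ⟨W, hW⟩)
  have hd : ∀ w ∈ J.ideal ⟨W, hW⟩, ∃ c : p.primeCompl, (c : Γ(N, W)) * w ∈ Ideal.span {a} := by
    intro w hw
    have h1 : algebraMap Γ(N, W) (N.presheaf.stalk x) w ∈ (Ideal.span {a}).map (algebraMap Γ(N, W) (N.presheaf.stalk x)) := by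
      rw [Ideal.map_span, Set.image_singleton, ← hspan]
      exact Ideal.mem_map_of_mem _ hw
    obtain ⟨c, hc, hcw⟩ := (IsLocalization.algebraMap_mem_map_algebraMap_iff p.primeCompl (N.presheaf.stalk x) _ _).1 h1
    exact ⟨⟨c, hc⟩, hcw⟩
  classical
  choose c hc using hd
  let c₀ : p.primeCompl := ∏ w ∈ S.attach, c w.1 (hS ▸ Submodule.subset_span w.2)
  have hc₀ : ∀ w ∈ J.ideal ⟨W, hW⟩, (c₀ : Γ(N, W)) * w ∈ Ideal.span {a} := by
    intro w hw
    rw [← hS] at hw
    induction hw using Submodule.span_induction with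
    | mem v hv =>
      obtain ⟨d, hd⟩ := Finset.dvd_prod_of_mem (fun w : {w // w ∈ S} => c w.1 (hS ▸ Submodule.subset_span w.2))
        (Finset.mem_attach S ⟨v, hv⟩)
      show ((c₀ : p.primeCompl) : Γ(N, W)) * v ∈ _
      rw [show c₀ = _ * d from hd, Submonoid.coe_mul, mul_comm _ (d : Γ(N, W)), mul_assoc]
      exact Ideal.mul_mem_left _ _ (hc v (hS ▸ Submodule.subset_span hv))
    | zero => simp
    | add v v' _ _ h1 h2 => rw [mul_add]; exact add_mem h1 h2
    | smul r v _ h1 => rw [smul_eq_mul, mul_left_comm]; exact Ideal.mul_mem_left _ r h1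
  have hxc : x ∈ N.basicOpen (c₀ : Γ(N, W)) := by
    rw [N.mem_basicOpen (hx := hx)]
    exact IsLocalization.map_units (N.presheaf.stalk x) c₀
  have hle : N.basicOpen (c₀ : Γ(N, W)) ≤ W := N.basicOpen_le _
  let O : N.affineOpens := ⟨N.basicOpen (c₀ : Γ(N, W)), hW.basicOpen _⟩
  let res := (N.presheaf.map (homOfLE hle).op).hom
  have hu : IsUnit (res c₀) := RingedSpace.isUnit_res_basicOpen _ (c₀ : Γ(N, W))
  refine ⟨O, hxc, res a, ?_, ?_⟩
  · have hane : a ≠ 0 := fun h0 => hne ((Submodule.eq_bot_iff _).2 fun w hw => by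
      have h1 := hc₀ w hw
      rw [h0, Ideal.span_singleton_zero, Ideal.mem_bot] at h1
      refine (mul_eq_zero.1 h1).resolve_left fun h2 => c₀.2 ?_
      rw [h2]; exact zero_mem _)
    haveI : Nonempty O.1 := ⟨⟨x, hxc⟩⟩
    haveI : IsDomain Γ(N, O.1) := IsIntegral.component_integral O.1
    refine mem_nonZeroDivisors_of_ne_zero fun h0 => hane ?_
    haveI : Nonempty W := ⟨⟨x, hx⟩⟩
    exact map_injective_of_isIntegral N (homOfLE hle) (h0.trans (map_zero res).symm)
  · rw [← J.map_ideal (U := O) (V := ⟨W, hW⟩) hle]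
    refine le_antisymm (Ideal.map_le_iff_le_comap.2 fun w hw => ?_) (Ideal.span_le.2 ?_)
    · have h1 := Ideal.mem_map_of_mem res (hc₀ w hw)
      rw [Ideal.map_span, Set.image_singleton, map_mul] at h1
      exact (Ideal.unit_mul_mem_iff_mem _ hu).1 h1
    · rintro _ rfl
      exact Ideal.mem_map_of_mem res ha


theorem isIso_of_isBlowUp_cartier {Z' Z : Scheme.{u}} {b : Z' ⟶ Z} {J : Z.IdealSheafData}
    (hb : BlowUp.IsBlowUp b J) (hJ : BlowUp.IsEffCartierIdeal J) : IsIso b := by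
  obtain ⟨s, hs, -⟩ := hb.2 Z (𝟙 Z) (by rw [Scheme.IdealSheafData.comap_id]; exact hJ)
  obtain ⟨h, -, hu⟩ := hb.2 Z' b hb.1
  exact ⟨⟨s, (hu _ (show (b ≫ s) ≫ b = b by rw [Category.assoc, hs, Category.comp_id])).trans (hu _ (Category.id_comp _)).symm, hs⟩⟩

theorem support_comap_point {D X : Scheme.{u}} (k : D ⟶ X) {x : X} (hx : IsClosed ({x} : Set X)) :
    (((Scheme.IdealSheafData.vanishingIdeal ⟨{x}, hx⟩).comap k).support : Set D) = k.base ⁻¹' {x} := by
  rw [Scheme.IdealSheafData.support_comap]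
  show k.base ⁻¹' ((Scheme.IdealSheafData.vanishingIdeal ⟨{x}, hx⟩).support : Set X) = _
  rw [Scheme.IdealSheafData.coe_support_vanishingIdeal]
  rfl

theorem generic_notMem_support {D X : Scheme.{u}} [IsIntegral D] (hη : ¬ IsClosed ({genericPoint D} : Set D))
    (k : D ⟶ X) [IsClosedImmersion k] {x : X} (hx : IsClosed ({x} : Set X)) :
    genericPoint D ∉ (((Scheme.IdealSheafData.vanishingIdeal ⟨{x}, hx⟩).comap k).support : Set D) := by
  rw [support_comap_point]
  intro h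
  refine hη ?_
  have h2 : k.base ⁻¹' {x} = {genericPoint D} := Set.eq_singleton_iff_unique_mem.2
    ⟨h, fun w hw => k.isClosedEmbedding.injective ((show k w = x from hw).trans (show k (genericPoint D) = x from h).symm)⟩
  rw [← h2]
  exact hx.preimage k.continuous

/-- `g : D ⟶ Y` is a finite birational model of the curve `Y` dominated by `ν : N ⟶ Y`. -/
def IsModel {N Y : Scheme.{u}} (ν : N ⟶ Y) {D : Scheme.{u}} (g : D ⟶ Y) : Prop :=
  ∃ (_ : IsIntegral D) (_ : IsNoetherian D), IsFinite g ∧ ¬ IsClosed ({genericPoint D} : Set D) ∧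
    (∃ V : Y.Opens, (V : Set Y).Nonempty ∧ IsIso (g ∣_ V)) ∧ ∃ h : N ⟶ D, h ≫ g = ν

section Model

variable {Y : Scheme.{u}} [IsIntegral Y] [IsNoetherian Y] (hηY : ¬ IsClosed ({genericPoint Y} : Set Y))
  {N : Scheme.{u}} [IsIntegral N] {ν : N ⟶ Y} [IsFinite ν] (hν : ν (genericPoint N) = genericPoint Y)
  (hN : ∀ U : N.affineOpens, (U.1 : Set N).Nonempty → IsDedekindDomain Γ(N, U.1))

include hν in
theorem hom_generic {D : Scheme.{u}} [IsIntegral D] (g : D ⟶ Y) [IsFinite g] (h : N ⟶ D) (e : h ≫ g = ν) :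
    h (genericPoint N) = genericPoint D := by
  have h1 : g (h (genericPoint N)) = genericPoint Y := by rw [← hν, ← e]; rfl
  refine (eq_of_specializes_of_isFinite g _ _ ((genericPoint_spec D).specializes trivial) ?_).symm
  rw [h1]
  refine ((genericPoint_spec Y).specializes trivial |>.antisymm ?_ |>.eq).symm
  rw [← h1]
  exact ((genericPoint_spec D).specializes trivial).map g.continuous

theorem model_trans {D D' : Scheme.{u}} {g : D ⟶ Y} (hg : IsModel ν g) (b : D' ⟶ D) [IsIso b] :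
    IsModel ν (b ≫ g) := by
  obtain ⟨hi, hn, hf, hη, ⟨V, hV, hiso⟩, h, e⟩ := hg
  haveI := hi; haveI := hn; haveI := hf; haveI := hiso
  haveI : Nonempty D' := ⟨inv b (genericPoint D)⟩
  haveI : IsIntegral D' := isIntegral_of_isOpenImmersion b
  haveI : CompactSpace D' := QuasiCompact.compactSpace_of_compactSpace b
  haveI : IsLocallyNoetherian D' := LocallyOfFiniteType.isLocallyNoetherian b
  refine ⟨inferInstance, ⟨⟩, inferInstance, fun hc => hη ?_, ⟨V, hV, ?_⟩, h ≫ inv b, by simp [e]⟩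
  · have := b.isClosedMap _ hc
    rwa [Set.image_singleton, genericPoint_eq_of_isOpenImmersion b] at this
  · rw [morphismRestrict_comp]
    exact IsIso.comp_isIso' (IsZariskiLocalAtTarget.restrict (P := MorphismProperty.isomorphisms Scheme) (f := b)
      (inferInstanceAs (IsIso b)) _) hiso

include hηY hν hN in
theorem model_blow_point {D D' : Scheme.{u}} {g : D ⟶ Y} (hg : IsModel ν g) (b : D' ⟶ D) {z : D}
    (hz : IsClosed ({z} : Set D))
    (hb : BlowUp.IsBlowUp b (Scheme.IdealSheafData.vanishingIdeal ⟨{z}, hz⟩)) : IsModel ν (b ≫ g) := by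
  obtain ⟨hi, hn, hf, hη, ⟨V, hV, hiso⟩, h, e⟩ := hg
  haveI := hi; haveI := hn; haveI := hf
  obtain ⟨hi', hn', hbp, hgenb, hη', hib⟩ := step b hη hz hb
  haveI := hi'; haveI := hn'; haveI := hbp; haveI := hib
  haveI : IsFinite (h ≫ g) := e ▸ ‹IsFinite ν›
  have hgenh := hom_generic hν g h e
  have hzη : z ≠ genericPoint D := fun hh => hη (hh ▸ hz)
  have hcart : BlowUp.IsEffCartierIdeal ((Scheme.IdealSheafData.vanishingIdeal ⟨{z}, hz⟩).comap h) := by
    refine isEffCartier_of_dedekind hN _ ?_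
    rw [support_comap_point]
    exact fun hm => hzη ((show h (genericPoint N) = z from hm).symm.trans hgenh)
  obtain ⟨h', hh', -⟩ := hb.2 N h hcart
  have e' : h' ≫ b ≫ g = ν := by rw [← Category.assoc, hh', e]
  haveI : IsFinite (h' ≫ b ≫ g) := e' ▸ ‹IsFinite ν›
  haveI : IsFinite h' := MorphismProperty.of_postcomp (W := @IsFinite) (W' := @IsSeparated) h' (b ≫ g) inferInstance inferInstance
  have hgenh' : h' (genericPoint N) = genericPoint D' := by
    have hbeq : b (h' (genericPoint N)) = b (genericPoint D') := by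
      rw [hgenb, ← hgenh, ← hh']; rfl
    exact eq_of_map_eq_of_isIso b (⟨{z}ᶜ, hz.isOpen_compl⟩ : D.Opens) hbeq (by rw [hgenb]; exact fun hm => hzη hm.symm)
  haveI : IsDominant h' := ⟨fun w => closure_mono
    (s := ({genericPoint D'} : Set D')) (t := Set.range h'.base) (fun v hv => ⟨genericPoint N, hgenh'.trans hv.symm⟩)
    (specializes_iff_mem_closure.1 ((genericPoint_spec D').specializes trivial))⟩
  have hsurj : ∀ w : D', w ∈ Set.range h'.base := fun w => by
    have hd : w ∈ closure (Set.range h') := h'.denseRange w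
    rwa [h'.isClosedMap.isClosed_range.closure_eq] at hd
  haveI : LocallyQuasiFinite (b ≫ g) := by
    refine locallyQuasiFinite_iff_finite_preimage_singleton.2 fun y => ?_
    refine ((ν.finite_preimage_singleton y).image h'.base).subset fun w hw => ?_
    obtain ⟨n, rfl⟩ := hsurj w
    refine ⟨n, ?_, rfl⟩
    show ν n = y
    rw [← e']
    exact hw
  refine ⟨hi', hn', IsFinite.of_isProper_of_locallyQuasiFinite (b ≫ g), hη', ?_, h', e'⟩
  let W : Y.Opens := ⟨(g.base '' {z})ᶜ, (g.isClosedMap _ hz).isOpen_compl⟩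
  have hW : genericPoint Y ∈ W := by
    rintro ⟨w, hw, he⟩
    exact hηY (by rw [← he, ← Set.image_singleton]; exact g.isClosedMap _ ((show w = z from hw) ▸ hz))
  refine ⟨V ⊓ W, ⟨genericPoint Y, ((genericPoint_spec Y).mem_open_set_iff V.2).2 ⟨_, trivial, hV.choose_spec⟩, hW⟩, ?_⟩
  haveI := hiso
  rw [morphismRestrict_comp]
  exact IsIso.comp_isIso' (isIso_restrict_of_le b (U := ⟨{z}ᶜ, hz.isOpen_compl⟩) fun w hw hwz => hw.2 ⟨w, hwz, rfl⟩)
    (isIso_restrict_of_le g inf_le_left)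

include hηY hν hN in
theorem model_blow {D D' X : Scheme.{u}} {g : D ⟶ Y} (hg : IsModel ν g) (k : D ⟶ X) [IsClosedImmersion k]
    {x : X} (hx : IsClosed ({x} : Set X)) (b : D' ⟶ D)
    (hb : BlowUp.IsBlowUp b ((Scheme.IdealSheafData.vanishingIdeal ⟨{x}, hx⟩).comap k)) : IsModel ν (b ≫ g) := by
  by_cases hmem : ∃ z, k z = x
  · obtain ⟨z, rfl⟩ := hmem
    have hz : IsClosed ({z} : Set D) := by
      have : k.base ⁻¹' {k z} = {z} := by ext w; exact ⟨fun h => k.isClosedEmbedding.injective h, fun h => congrArg k h⟩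
      exact this ▸ hx.preimage k.continuous
    rw [S7373.comap_vanishing_point k hz hx] at hb
    exact model_blow_point hηY hν hN hg b hz hb
  · have htop : (Scheme.IdealSheafData.vanishingIdeal ⟨{x}, hx⟩).comap k = ⊤ := by
      rw [← Scheme.IdealSheafData.support_eq_bot_iff]
      refine SetLike.coe_injective ?_
      rw [support_comap_point]
      exact Set.eq_empty_iff_forall_notMem.2 fun w hw => hmem ⟨w, hw⟩
    haveI : IsIso b := isIso_of_isBlowUp_cartier hb (by
      rw [htop]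
      intro w
      obtain ⟨W, hW, hw, -⟩ := exists_isAffineOpen_mem_and_subset (show w ∈ (⊤ : D.Opens) from trivial)
      exact ⟨⟨W, hW⟩, hw, 1, one_mem _, by simp⟩)
    exact model_trans hg b

end Model

section State

variable {X : Scheme.{u}} {n : ℕ} {Y : Fin n → Scheme.{u}} (ι : ∀ i, Y i ⟶ X)
  [∀ i, IsIntegral (Y i)] [∀ i, IsNoetherian (Y i)] (hdim : ∀ i, topologicalKrullDim (Y i) ≤ 1)
  (hηY : ∀ i, ¬ IsClosed ({genericPoint (Y i)} : Set (Y i)))
  {N : Fin n → Scheme.{u}} [∀ i, IsIntegral (N i)] (ν : ∀ i, N i ⟶ Y i) [∀ i, IsFinite (ν i)]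
  (hν : ∀ i, ν i (genericPoint (N i)) = genericPoint (Y i))
  (hN : ∀ i, ∀ U : (N i).affineOpens, (U.1 : Set (N i)).Nonempty → IsDedekindDomain Γ(N i, U.1))

/-- A sequence of point blowups of `X` together with models of the curves embedded in it. -/
def IsState {X₁ : Scheme.{u}} (G : X₁ ⟶ X) {D : Fin n → Scheme.{u}} (k : ∀ i, D i ⟶ X₁)
    (g : ∀ i, D i ⟶ Y i) : Prop :=
  Resolve.IsPtBlowupSeq G ∧ (∀ i, IsClosedImmersion (k i)) ∧ (∀ i, k i ≫ G = g i ≫ ι i) ∧ ∀ i, IsModel (ν i) (g i)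

include hηY hν hN in
theorem state_blow {X₁ : Scheme.{u}} {G : X₁ ⟶ X} {D : Fin n → Scheme.{u}} {k : ∀ i, D i ⟶ X₁}
    {g : ∀ i, D i ⟶ Y i} (hS : IsState ι ν G k g) {x : X₁} (hx : IsClosed ({x} : Set X₁))
    {D' : Fin n → Scheme.{u}} (b : ∀ i, D' i ⟶ D i)
    (hb : ∀ i, BlowUp.IsBlowUp (b i) ((Scheme.IdealSheafData.vanishingIdeal ⟨{x}, hx⟩).comap (k i))) :
    ∃ (X₂ : Scheme.{u}) (b₂ : X₂ ⟶ X₁) (k' : ∀ i, D' i ⟶ X₂),
      BlowUp.IsBlowUp b₂ (Scheme.IdealSheafData.vanishingIdeal ⟨{x}, hx⟩) ∧ (∀ i, k' i ≫ b₂ = b i ≫ k i) ∧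
      IsState ι ν (b₂ ≫ G) k' (fun i => b i ≫ g i) := by
  obtain ⟨hG, hk, hkG, hmod⟩ := hS
  haveI := hk
  obtain ⟨X₂, b₂, hb₂⟩ := H26Blow.exists_isBlowUp (Scheme.IdealSheafData.vanishingIdeal ⟨{x}, hx⟩)
  have hl : ∀ i, ∃ k' : D' i ⟶ X₂, k' ≫ b₂ = b i ≫ k i := fun i => by
    obtain ⟨k', hk', -⟩ := hb₂.2 (D' i) (b i ≫ k i) (by rw [Scheme.IdealSheafData.comap_comp]; exact (hb i).1)
    exact ⟨k', hk'⟩
  choose k' hk' using hl
  exact ⟨X₂, b₂, k', hb₂, hk', Resolve.IsPtBlowupSeq.step b₂ G x hx hb₂ hG,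
    fun i => (H11Strict.isClosedImmersion_of_isBlowUp _ (k i) b₂ hb₂ (b i) (hb i) (k' i) (hk' i)).1,
    fun i => by rw [← Category.assoc, hk', Category.assoc, hkG, Category.assoc],
    fun i => model_blow (hηY i) (hν i) (hN i) (hmod i) (k i) hx (b i) (hb i)⟩

include hdim in
theorem dim_model {i : Fin n} {D : Scheme.{u}} {g : D ⟶ Y i} (hg : IsModel (ν i) g) : topologicalKrullDim D ≤ 1 := by
  obtain ⟨-, -, hf, -⟩ := hg
  haveI := hf
  exact (H12AlgSp.topologicalKrullDim_le_of_lqf g).trans (hdim i)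

include hdim in
theorem cartier_of_regular {i : Fin n} {X₁ D : Scheme.{u}} {g : D ⟶ Y i} (hg : IsModel (ν i) g)
    (hreg : ∀ y : D, IsRegularLocalRing (D.presheaf.stalk y)) (k : D ⟶ X₁) [IsClosedImmersion k] {x : X₁}
    (hx : IsClosed ({x} : Set X₁)) :
    BlowUp.IsEffCartierIdeal ((Scheme.IdealSheafData.vanishingIdeal ⟨{x}, hx⟩).comap k) := by
  have hd := dim_model hdim ν hg
  obtain ⟨hi, hn, -, hη, -⟩ := hg
  haveI := hi; haveI := hn
  exact isEffCartier_of_pid (pid_stalk hd hreg) _ (generic_notMem_support hη k hx)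

include hdim hηY hν hN in
theorem exists_lift_seq (l : Fin n) {Zn Z : Scheme.{u}} {r : Zn ⟶ Z} (hr : Resolve.IsPtBlowupSeq r) :
    ∀ (X₁ : Scheme.{u}) (G : X₁ ⟶ X) (D : Fin n → Scheme.{u}) (k : ∀ i, D i ⟶ X₁) (g : ∀ i, D i ⟶ Y i),
      IsState ι ν G k g → Nonempty (D l ≅ Z) →
      ∃ (X₂ : Scheme.{u}) (G' : X₂ ⟶ X) (D' : Fin n → Scheme.{u}) (k' : ∀ i, D' i ⟶ X₂) (g' : ∀ i, D' i ⟶ Y i),
        IsState ι ν G' k' g' ∧ Nonempty (D' l ≅ Zn) ∧
          ∀ i, (∀ y : D i, IsRegularLocalRing ((D i).presheaf.stalk y)) →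
            ∀ y : D' i, IsRegularLocalRing ((D' i).presheaf.stalk y) := by
  induction hr with
  | @iso Zn Z e =>
    intro X₁ G D k g hS he
    exact ⟨X₁, G, D, k, g, hS, ⟨he.some ≪≫ e.symm⟩, fun i h => h⟩
  | @step Zn Z₁ Z b r z hz hb hr ih =>
    intro X₁ G D k g hS he
    obtain ⟨X₂, G', D', k', g', hS', ⟨φ⟩, hkeep⟩ := ih X₁ G D k g hS he
    haveI := hS'.2.1
    have hz' : IsClosed ({φ.inv z} : Set (D' l)) := by
      rw [← Set.image_singleton]; exact φ.inv.isClosedEmbedding.isClosedMap _ hz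
    have hxc : IsClosed ({k' l (φ.inv z)} : Set X₂) := by
      rw [← Set.image_singleton]; exact (k' l).isClosedEmbedding.isClosedMap _ hz'
    let J := Scheme.IdealSheafData.vanishingIdeal ⟨{k' l (φ.inv z)}, hxc⟩
    have hJl : J.comap (k' l) = (Scheme.IdealSheafData.vanishingIdeal ⟨{z}, hz⟩).comap φ.hom := by
      rw [S7373.comap_vanishing_point (k' l) hz' hxc]
      have hzz : φ.hom (φ.inv z) = z := congr($(φ.inv_hom_id) z)
      generalize φ.inv z = w at hz' hzz
      subst hzz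
      exact (S7373.comap_vanishing_point φ.hom hz' hz).symm
    have hall : ∀ i, ∃ (D'' : Scheme.{u}) (bb : D'' ⟶ D' i),
        BlowUp.IsBlowUp bb (J.comap (k' i)) ∧ (i = l → Nonempty (D'' ≅ Zn)) := fun i => by
      by_cases hil : i = l
      · subst hil
        exact ⟨Zn, b ≫ φ.inv, hJl ▸ H26Blow.isBlowUp_comp_iso hb φ, fun _ => ⟨Iso.refl _⟩⟩
      · obtain ⟨D'', bb, hbb⟩ := H26Blow.exists_isBlowUp (J.comap (k' i))
        exact ⟨D'', bb, hbb, fun h => absurd h hil⟩
    choose D'' bb hbb hl' using hall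
    obtain ⟨X₃, b₃, k'', -, -, hS''⟩ := state_blow ι hηY ν hν hN hS' hxc bb hbb
    refine ⟨X₃, _, D'', k'', _, hS'', hl' l rfl, fun i hi y => ?_⟩
    have hregi := hkeep i hi
    haveI : IsIso (bb i) := isIso_of_isBlowUp_cartier (hbb i) (cartier_of_regular hdim ν (hS'.2.2.2 i) hregi (k' i) hxc)
    haveI := hregi (bb i y)
    exact IsRegularLocalRing.of_ringEquiv (asIso ((bb i).stalkMap y)).commRingCatIsoToRingEquiv

include hdim hηY hν hN in
theorem exists_regular (s : Finset (Fin n)) (hι : ∀ i, IsClosedImmersion (ι i)) :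
    ∃ (X₁ : Scheme.{u}) (G : X₁ ⟶ X) (D : Fin n → Scheme.{u}) (k : ∀ i, D i ⟶ X₁) (g : ∀ i, D i ⟶ Y i),
      IsState ι ν G k g ∧ ∀ i ∈ s, ∀ y : D i, IsRegularLocalRing ((D i).presheaf.stalk y) := by
  classical
  induction s using Finset.induction_on with
  | empty =>
    refine ⟨X, (Iso.refl X).hom, Y, ι, fun i => 𝟙 _, ⟨Resolve.IsPtBlowupSeq.iso _, hι, fun i => by simp, fun i => ?_⟩,
      fun i hi => absurd hi (Finset.notMem_empty i)⟩
    exact ⟨inferInstance, inferInstance, inferInstance, hηY i,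
      ⟨⊤, ⟨genericPoint (Y i), trivial⟩, IsZariskiLocalAtTarget.restrict (P := MorphismProperty.isomorphisms Scheme)
        (f := 𝟙 (Y i)) (inferInstanceAs (IsIso (𝟙 (Y i)))) _⟩, ν i, Category.comp_id _⟩
  | insert l s _ ih =>
    obtain ⟨X₁, G, D, k, g, hS, hreg⟩ := ih
    have hd := dim_model hdim ν (hS.2.2.2 l)
    obtain ⟨hi, hn, hf, hη, -, h, e⟩ := hS.2.2.2 l
    haveI := hi; haveI := hn; haveI := hf
    haveI : IsFinite (h ≫ g l) := e ▸ inferInstanceAs (IsFinite (ν l))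
    haveI : IsFinite h := MorphismProperty.of_postcomp (W := @IsFinite) (W' := @IsSeparated) h (g l) inferInstance inferInstance
    obtain ⟨Zn, r, hr, hrreg⟩ := exists_seq_of_finite (D l) hd hη h (hom_generic (hν l) (g l) h e) (hN l)
    obtain ⟨X₂, G', D', k', g', hS', ⟨φ⟩, hkeep⟩ := exists_lift_seq ι hdim hηY ν hν hN l hr X₁ G D k g hS ⟨Iso.refl _⟩
    refine ⟨X₂, G', D', k', g', hS', fun i hi' y => ?_⟩
    rcases Finset.mem_insert.1 hi' with rfl | hi'
    · haveI := hrreg (φ.hom y)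
      exact IsRegularLocalRing.of_ringEquiv (asIso (φ.hom.stalkMap y)).commRingCatIsoToRingEquiv
    · exact hkeep i (hreg i hi') y

/-- Strict transforms split off the exceptional divisor. -/
theorem comap_le_mul {X₁ X₂ C : Scheme.{u}} [IsIntegral C] (b₂ : X₂ ⟶ X₁) {J : X₁.IdealSheafData}
    (hJ : BlowUp.IsEffCartierIdeal (J.comap b₂)) (k : C ⟶ X₁) [IsClosedImmersion k] (k' : C ⟶ X₂)
    [IsClosedImmersion k'] (hk : k' ≫ b₂ = k) (hle : k.ker ≤ J)
    (hgen : genericPoint C ∉ ((J.comap k).support : Set C)) :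
    k.ker.comap b₂ ≤ J.comap b₂ * k'.ker := by
  have h1 : k.ker.comap b₂ ≤ k'.ker := by
    rw [← Scheme.IdealSheafData.le_map_iff_comap_le, Scheme.IdealSheafData.map_ker, hk]
  have h2 : k.ker.comap b₂ ≤ J.comap b₂ := Scheme.IdealSheafData.comap_mono b₂ hle
  rw [← sup_eq_right]
  refine H29Blow.ext_of_forall_exists fun w => ?_
  obtain ⟨V, hwV, e, -, he⟩ := hJ w
  refine ⟨V, hwV, ?_⟩
  rw [Scheme.IdealSheafData.ideal_sup]
  refine sup_eq_right.2 fun a ha => ?_
  show a ∈ ((J.comap b₂).ideal * k'.ker.ideal) V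
  rw [Pi.mul_apply, he]
  obtain ⟨c, hc⟩ := Ideal.mem_span_singleton'.1 (show a ∈ Ideal.span {e} from he ▸ h2 V ha)
  have hak : a ∈ k'.ker.ideal V := h1 V ha
  rw [← hc, mul_comm c e]
  refine Ideal.mul_mem_mul (Ideal.mem_span_singleton_self e) ?_
  rw [Scheme.Hom.ker_apply, RingHom.mem_ker] at hak ⊢
  rw [← hc, map_mul] at hak
  by_cases hne : Nonempty (k' ⁻¹ᵁ V.1)
  · haveI := hne
    haveI : IsDomain Γ(C, k' ⁻¹ᵁ V.1) := IsIntegral.component_integral _
    refine (mul_eq_zero.1 hak).resolve_right fun h0 => hgen ?_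
    have hE : (J.comap k).ideal ⟨k' ⁻¹ᵁ V.1, V.2.preimage k'⟩ = ⊥ := by
      rw [← hk, Scheme.IdealSheafData.comap_comp,
        H29Blow.ideal_comap _ k' V ⟨k' ⁻¹ᵁ V.1, V.2.preimage k'⟩ le_rfl, he, Ideal.map_span, Set.image_singleton,
        Scheme.Hom.appLE_eq_app, Ideal.span_singleton_eq_bot]
      exact h0
    obtain ⟨⟨p, hp⟩⟩ := hne
    have hηV : genericPoint C ∈ k' ⁻¹ᵁ V.1 :=
      ((genericPoint_spec C).mem_open_set_iff (k' ⁻¹ᵁ V.1).2).2 ⟨p, trivial, hp⟩
    have h3 : genericPoint C ∈ C.zeroLocus (U := k' ⁻¹ᵁ V.1)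
        ((J.comap k).ideal ⟨k' ⁻¹ᵁ V.1, V.2.preimage k'⟩ : Set Γ(C, k' ⁻¹ᵁ V.1)) ∩ (k' ⁻¹ᵁ V.1 : Set C) := by
      refine ⟨(Scheme.mem_zeroLocus_iff C _ _).2 fun f hf hmem => ?_, hηV⟩
      rw [hE] at hf
      obtain rfl : f = 0 := hf
      rw [Scheme.basicOpen_zero] at hmem
      exact hmem
    rw [← (J.comap k).coe_support_inter ⟨k' ⁻¹ᵁ V.1, V.2.preimage k'⟩] at h3
    exact h3.1
  · haveI : Subsingleton Γ(C, k' ⁻¹ᵁ V.1) := by
      have hbot : k' ⁻¹ᵁ V.1 = ⊥ := by
        ext p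
        exact ⟨fun hp => (hne ⟨⟨p, hp⟩⟩).elim, fun hp => hp.elim⟩
      rw [hbot]
      exact inferInstance
    exact Subsingleton.elim _ _

include hdim hηY hν hN in
theorem exists_disjoint (hι : ∀ i, IsClosedImmersion (ι i))
    (hsep : ∀ i j, i ≠ j → ι i (genericPoint (Y i)) ∉ Set.range (ι j).base) :
    ∃ (X₁ : Scheme.{u}) (G : X₁ ⟶ X) (D : Fin n → Scheme.{u}) (k : ∀ i, D i ⟶ X₁) (g : ∀ i, D i ⟶ Y i),
      IsState ι ν G k g ∧ (∀ i, ∀ y : D i, IsRegularLocalRing ((D i).presheaf.stalk y)) ∧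
        ∀ i j, i ≠ j → Disjoint (Set.range (k i).base) (Set.range (k j).base) := by
  classical
  obtain ⟨X₀, G₀, C, k₀, g, hS₀, hreg₀⟩ := exists_regular ι hdim hηY ν hν hN Finset.univ hι
  have hreg := fun i => hreg₀ i (Finset.mem_univ i)
  have hmod := hS₀.2.2.2
  haveI : ∀ i, IsIntegral (C i) := fun i => (hmod i).1
  haveI : ∀ i, IsNoetherian (C i) := fun i => (hmod i).2.1
  choose s hs using fun i => (isCompact_univ (X := C i)).elim_finite_subcover
    (fun U : (C i).affineOpens => (U.1 : Set (C i))) (fun U => U.1.2) (fun y _ => by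
      obtain ⟨U, hU, hy, -⟩ := exists_isAffineOpen_mem_and_subset (show y ∈ (⊤ : (C i).Opens) from trivial)
      exact Set.mem_iUnion.2 ⟨⟨U, hU⟩, hy⟩)
  haveI : ∀ p : Fin n × Fin n, ∀ U : {U // U ∈ s p.1}, IsNoetherianRing Γ(C p.1, U.1.1) :=
    fun p U => IsLocallyNoetherian.component_noetherian U.1
  haveI : WellFoundedGT (∀ (p : Fin n × Fin n) (U : {U // U ∈ s p.1}), Ideal Γ(C p.1, U.1.1)) :=
    ⟨(Pi.wellFoundedLT (α := fun p : Fin n × Fin n => (∀ U : {U // U ∈ s p.1}, Ideal Γ(C p.1, U.1.1))ᵒᵈ)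
      (hw := fun p => ⟨(Pi.wellFoundedLT (α := fun U : {U // U ∈ s p.1} => (Ideal Γ(C p.1, U.1.1))ᵒᵈ)).wf⟩)).wf⟩
  suffices key : ∀ (M : ∀ (p : Fin n × Fin n) (U : {U // U ∈ s p.1}), Ideal Γ(C p.1, U.1.1))
      (X₁ : Scheme.{u}) (G : X₁ ⟶ X) (k : ∀ i, C i ⟶ X₁), IsState ι ν G k g →
      (∀ p U, M p U = ((k p.2).ker.comap (k p.1)).ideal U.1) →
      ∃ (X₂ : Scheme.{u}) (G' : X₂ ⟶ X) (k' : ∀ i, C i ⟶ X₂), IsState ι ν G' k' g ∧
        ∀ i j, i ≠ j → Disjoint (Set.range (k' i).base) (Set.range (k' j).base) by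
    obtain ⟨X₂, G', k', h1, h2⟩ := key _ X₀ G₀ k₀ hS₀ (fun p U => rfl)
    exact ⟨X₂, G', C, k', g, h1, hreg, h2⟩
  intro M
  induction M using WellFoundedGT.induction with
  | ind M ih =>
    intro X₁ G k hS hM
    haveI := hS.2.1
    by_cases hdis : ∀ i j, i ≠ j → Disjoint (Set.range (k i).base) (Set.range (k j).base)
    · exact ⟨X₁, G, k, hS, hdis⟩
    push Not at hdis
    obtain ⟨i, j, hij, hmeet⟩ := hdis
    obtain ⟨x, ⟨w, hw⟩, hxj⟩ := Set.not_disjoint_iff.1 hmeet
    have hwη : w ≠ genericPoint (C i) := by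
      rintro rfl
      obtain ⟨w', hw'⟩ := hxj
      haveI := (hmod i).2.2.1
      obtain ⟨-, -, -, -, -, h, e⟩ := hmod i
      have hgη : g i (genericPoint (C i)) = genericPoint (Y i) := by
        rw [← hom_generic (hν i) (g i) h e, ← hν i, ← e]; rfl
      refine hsep i j hij ⟨g j w', ?_⟩
      calc ι j (g j w') = (g j ≫ ι j) w' := rfl
        _ = (k j ≫ G) w' := by rw [hS.2.2.1 j]
        _ = G x := congrArg G hw'
        _ = (k i ≫ G) (genericPoint (C i)) := (congrArg G hw).symm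
        _ = (g i ≫ ι i) (genericPoint (C i)) := by rw [hS.2.2.1 i]
        _ = ι i (genericPoint (Y i)) := congrArg (ι i) hgη
    have hwc : IsClosed ({w} : Set (C i)) := by
      haveI := (hmod i).2.2.1
      obtain ⟨-, -, -, -, -, h, e⟩ := hmod i
      exact isClosed_of_ne_generic (g i) (hdim i) (hν i) e (hom_generic (hν i) (g i) h e) hwη
    have hx : IsClosed ({x} : Set X₁) := by
      rw [← hw, ← Set.image_singleton]; exact (k i).isClosedEmbedding.isClosedMap _ hwc
    let J := Scheme.IdealSheafData.vanishingIdeal ⟨{x}, hx⟩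
    have hcart : ∀ l, BlowUp.IsEffCartierIdeal (J.comap (k l)) := fun l =>
      cartier_of_regular hdim ν (hmod l) (hreg l) (k l) hx
    have hbl : ∀ l, BlowUp.IsBlowUp (𝟙 (C l)) (J.comap (k l)) := fun l =>
      ⟨by rw [Scheme.IdealSheafData.comap_id]; exact hcart l,
        fun Z f _ => ⟨f, Category.comp_id f, fun f' hf' => (Category.comp_id f').symm.trans hf'⟩⟩
    obtain ⟨X₂, b₂, k', hb₂, hk', hS'⟩ := state_blow ι hηY ν hν hN hS hx (D' := C) (fun l => 𝟙 (C l)) hbl
    simp only [Category.id_comp] at hk' hS'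
    haveI := hS'.2.1
    have hmono : ∀ l m, (k m).ker.comap (k l) ≤ (k' m).ker.comap (k' l) := fun l m => by
      rw [← hk' l, Scheme.IdealSheafData.comap_comp]
      refine Scheme.IdealSheafData.comap_mono (k' l) ?_
      rw [← Scheme.IdealSheafData.le_map_iff_comap_le, Scheme.IdealSheafData.map_ker, hk' m]
    refine ih (fun p U => ((k' p.2).ker.comap (k' p.1)).ideal U.1) ?_ X₂ (b₂ ≫ G) k' hS' (fun p U => rfl)
    refine lt_of_le_of_ne (fun p U => (hM p U).le.trans (hmono p.1 p.2 U.1)) fun heq => ?_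
    obtain ⟨U, hU, hwU⟩ := Set.mem_iUnion₂.1 (hs i (Set.mem_univ w))
    let m := J.comap (k i)
    let I₀ := ((k j).ker.comap (k i)).ideal U
    have hIeq : I₀ = ((k' j).ker.comap (k' i)).ideal U :=
      (hM (i, j) ⟨U, hU⟩).symm.trans (congrFun (congrFun heq (i, j)) ⟨U, hU⟩)
    have hxJ : (k j).ker ≤ J := Scheme.IdealSheafData.le_support_iff_le_vanishingIdeal.1 (by
      intro y hy
      rw [Set.mem_singleton_iff.1 hy]
      exact Scheme.Hom.range_subset_ker_support (k j) hxj)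
    have hmul : I₀ ≤ m.ideal U * I₀ := by
      have h1 := comap_le_mul b₂ hb₂.1 (k j) (k' j) (hk' j) hxJ (generic_notMem_support (hmod j).2.2.2.1 (k j) hx)
      have h2 := Scheme.IdealSheafData.comap_mono (k' i) h1 U
      simp only [] at h2
      rw [H29Blow.comap_mul, ← Scheme.IdealSheafData.comap_comp, ← Scheme.IdealSheafData.comap_comp, hk' i] at h2
      refine h2.trans ?_
      rw [Scheme.IdealSheafData.ideal_mul, Pi.mul_apply, ← hIeq]
    haveI : IsNoetherianRing Γ(C i, U.1) := IsLocallyNoetherian.component_noetherian U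
    haveI : Nonempty U.1 := ⟨⟨w, hwU⟩⟩
    haveI : IsDomain Γ(C i, U.1) := IsIntegral.component_integral U.1
    obtain ⟨r, hr1, hr0⟩ := Submodule.exists_sub_one_mem_and_smul_eq_zero_of_fg_of_le_smul (m.ideal U) I₀
      (IsNoetherian.noetherian _) (by rw [smul_eq_mul]; exact hmul)
    have hm_ne : ∀ a ∈ m.ideal U, w ∉ (C i).basicOpen a := fun a ha hwa => by
      have h1 : w ∈ (m.support : Set (C i)) := by
        rw [support_comap_point]; exact hw
      have h2 : w ∈ (C i).zeroLocus (U := U.1) (m.ideal U : Set Γ(C i, U.1)) := (m.coe_support_inter U ▸ ⟨h1, hwU⟩ : w ∈ (C i).zeroLocus (U := U.1) (m.ideal U : Set Γ(C i, U.1)) ∩ (U.1 : Set (C i))).1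
      exact (Scheme.mem_zeroLocus_iff (C i) _ _).1 h2 a ha hwa
    have hIne : I₀ ≠ ⊥ := by
      intro h0
      have hηU : genericPoint (C i) ∈ U.1 :=
        ((genericPoint_spec (C i)).mem_open_set_iff U.1.2).2 ⟨w, trivial, hwU⟩
      have h3 : genericPoint (C i) ∈ (C i).zeroLocus (U := U.1) (I₀ : Set Γ(C i, U.1)) ∩ (U.1 : Set (C i)) := by
        refine ⟨(Scheme.mem_zeroLocus_iff (C i) _ _).2 fun f hf hmem => ?_, hηU⟩
        rw [h0] at hf
        obtain rfl : f = 0 := hf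
        rw [Scheme.basicOpen_zero] at hmem
        exact hmem
      rw [← ((k j).ker.comap (k i)).coe_support_inter U] at h3
      have h4 : k i (genericPoint (C i)) ∈ Set.range (k j).base := by
        have h5 : genericPoint (C i) ∈ (((k j).ker.comap (k i)).support : Set (C i)) := h3.1
        rw [Scheme.IdealSheafData.support_comap] at h5
        have h6 : k i (genericPoint (C i)) ∈ ((k j).ker.support : Set X₁) := h5
        rw [Scheme.Hom.support_ker] at h6
        exact (k j).isClosedEmbedding.isClosed_range.closure_eq.le h6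
      obtain ⟨w', hw'⟩ := h4
      haveI := (hmod i).2.2.1
      obtain ⟨-, -, -, -, -, h, e⟩ := hmod i
      have hgη : g i (genericPoint (C i)) = genericPoint (Y i) := by
        rw [← hom_generic (hν i) (g i) h e, ← hν i, ← e]; rfl
      refine hsep i j hij ⟨g j w', ?_⟩
      calc ι j (g j w') = (g j ≫ ι j) w' := rfl
        _ = (k j ≫ G) w' := by rw [hS.2.2.1 j]
        _ = (k i ≫ G) (genericPoint (C i)) := congrArg G hw'
        _ = (g i ≫ ι i) (genericPoint (C i)) := by rw [hS.2.2.1 i]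
        _ = ι i (genericPoint (Y i)) := congrArg (ι i) hgη
    obtain ⟨f, hf, hf0⟩ := (Submodule.ne_bot_iff _).1 hIne
    have hr : r = 0 := (mul_eq_zero.1 (hr0 f hf)).resolve_right hf0
    rw [hr, zero_sub] at hr1
    exact hm_ne _ (neg_mem hr1) (by simpa using hwU)

end State

end Groth.Agent.H05EGA4.CurveSeparate
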