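import Mathlib
import Groth.Agent.H26ModPair.Basic

/-!
Morphisms to separated schemes agreeing on a schematically dense open, and descent of extensions.
-/

set_option autoImplicit false
universe u
open AlgebraicGeometry CategoryTheory CategoryTheory.Limits TopologicalSpace

namespace Groth.Agent.H05EGA4.DenseExt

theorem ext_of_schDense {X Y S : Scheme.{u}} {U : X.Opens} (hU : CInt.IsSchematicallyDense U)
    (sY : Y ⟶ S) [IsSeparated sY] {a b : X ⟶ Y} (h : a ≫ sY = b ≫ sY) (hab : U.ι ≫ a = U.ι ≫ b) : a = b := by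
  let X' : Over S := Over.mk (a ≫ sY)
  let Y' : Over S := Over.mk sY
  let a' : X' ⟶ Y' := Over.homMk a
  let b' : X' ⟶ Y' := Over.homMk b
  let U' : Over S := Over.mk (U.ι ≫ a ≫ sY)
  let ι' : U' ⟶ X' := Over.homMk U.ι
  haveI : IsSeparated Y'.hom := ‹_›
  haveI : IsClosedImmersion (equalizer.ι a' b').left := inferInstance
  have hle : (equalizer.ι a' b').left.ker ≤ U.ι.ker := by
    have h1 : (equalizer.lift ι' (show ι' ≫ a' = ι' ≫ b' from Over.OverMorphism.ext hab)).left ≫ (equalizer.ι a' b').left = U.ι := by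
      rw [← Over.comp_left, equalizer.lift_ι]; rfl
    rw [← h1]
    exact Scheme.Hom.le_ker_comp _ _
  haveI := Groth.Agent.H26ModPair.dominant_of_dense hU
  rw [IsSchemeTheoreticallyDominant.ker_eq_bot U.ι, le_bot_iff] at hle
  haveI := IsClosedImmersion.isIso_iff_ker_eq_bot.mpr hle
  rw [← cancel_epi (equalizer.ι a' b').left]
  exact congr($(equalizer.condition a' b').left)

theorem extends_of_faithfullyFlat {X X' Y S : Scheme.{u}} (pX : X ⟶ S) (pY : Y ⟶ S) [IsSeparated pY]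
    (f : X' ⟶ X) [QuasiCompact f] [Flat f] [Surjective f] (U : X.Opens)
    (hU : CInt.IsSchematicallyDense ((pullback.fst f f) ⁻¹ᵁ (f ⁻¹ᵁ U)))
    (g : (U : Scheme.{u}) ⟶ Y) (hg : g ≫ pY = U.ι ≫ pX)
    (g' : X' ⟶ Y) (hg'S : g' ≫ pY = f ≫ pX) (hg' : (f ⁻¹ᵁ U).ι ≫ g' = (f ∣_ U) ≫ g) :
    ∃ h : X ⟶ Y, U.ι ≫ h = g ∧ h ≫ pY = pX := by
  set U₂ := (pullback.fst f f) ⁻¹ᵁ (f ⁻¹ᵁ U)
  have hsub : Set.range (U₂.ι ≫ pullback.snd f f) ⊆ Set.range (f ⁻¹ᵁ U).ι := by
    rintro _ ⟨t, rfl⟩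
    rw [Scheme.Opens.range_ι]
    show f ((U₂.ι ≫ pullback.snd f f) t) ∈ U
    rw [← Scheme.Hom.comp_apply, Category.assoc, ← pullback.condition, ← Category.assoc, Scheme.Hom.comp_apply]
    exact t.2
  have key : pullback.fst f f ≫ g' = pullback.snd f f ≫ g' := by
    refine ext_of_schDense hU pY ?_ ?_
    · simp only [Category.assoc, hg'S, pullback.condition_assoc]
    obtain ⟨b, hb⟩ : ∃ b, b ≫ (f ⁻¹ᵁ U).ι = U₂.ι ≫ pullback.snd f f :=
      ⟨IsOpenImmersion.lift _ _ hsub, IsOpenImmersion.lift_fac _ _ _⟩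
    have ha : (pullback.fst f f ∣_ (f ⁻¹ᵁ U)) ≫ (f ⁻¹ᵁ U).ι = U₂.ι ≫ pullback.fst f f := morphismRestrict_ι _ _
    rw [← Category.assoc, ← ha, Category.assoc, hg', ← Category.assoc (U₂.ι), ← hb, Category.assoc b, hg']
    rw [← Category.assoc, ← Category.assoc]
    congr 1
    rw [← cancel_mono U.ι]
    simp only [Category.assoc, morphismRestrict_ι]
    rw [reassoc_of% ha, reassoc_of% hb, pullback.condition]
  have hdesc : ∀ {Z : Scheme.{u}} (g₁ g₂ : Z ⟶ X'), g₁ ≫ f = g₂ ≫ f → g₁ ≫ g' = g₂ ≫ g' := fun g₁ g₂ hgg => by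
    rw [← pullback.lift_fst g₁ g₂ hgg, Category.assoc, key, ← Category.assoc, pullback.lift_snd]
  refine ⟨EffectiveEpi.desc f g' hdesc, ?_, ?_⟩
  · haveI : Flat (f ∣_ U) := inferInstance
    haveI : Surjective (f ∣_ U) := IsZariskiLocalAtTarget.restrict (P := @Surjective) ‹_› U
    haveI : QuasiCompact (f ∣_ U) := inferInstance
    rw [← cancel_epi (f ∣_ U), ← Category.assoc, morphismRestrict_ι, Category.assoc, EffectiveEpi.fac, hg']
  · rw [← cancel_epi f, ← Category.assoc, EffectiveEpi.fac, hg'S]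

end Groth.Agent.H05EGA4.DenseExt
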