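import Mathlib
import Groth.Agent.H05EGA4.DenseExt

/-!
A rational map is defined at a point iff it is defined on the local scheme.
-/

set_option autoImplicit false
universe u
open AlgebraicGeometry CategoryTheory CategoryTheory.Limits TopologicalSpace

namespace Groth.Agent.H05EGA4.DefinedStalk

theorem ext_of_schDominant {T X Y S : Scheme.{u}} (j : T ⟶ X) [IsSchemeTheoreticallyDominant j]
    (sY : Y ⟶ S) [IsSeparated sY] {a b : X ⟶ Y} (h : a ≫ sY = b ≫ sY) (hab : j ≫ a = j ≫ b) : a = b := by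
  let X' : Over S := Over.mk (a ≫ sY)
  let Y' : Over S := Over.mk sY
  let a' : X' ⟶ Y' := Over.homMk a
  let b' : X' ⟶ Y' := Over.homMk b
  let T' : Over S := Over.mk (j ≫ a ≫ sY)
  let ι' : T' ⟶ X' := Over.homMk j
  haveI : IsSeparated Y'.hom := ‹_›
  haveI : IsClosedImmersion (equalizer.ι a' b').left := inferInstance
  have hle : (equalizer.ι a' b').left.ker ≤ j.ker := by
    have h1 : (equalizer.lift ι' (show ι' ≫ a' = ι' ≫ b' from Over.OverMorphism.ext hab)).left ≫
        (equalizer.ι a' b').left = j := by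
      rw [← Over.comp_left, equalizer.lift_ι]; rfl
    rw [← h1]
    exact Scheme.Hom.le_ker_comp _ _
  rw [IsSchemeTheoreticallyDominant.ker_eq_bot j, le_bot_iff] at hle
  haveI := IsClosedImmersion.isIso_iff_ker_eq_bot.mpr hle
  rw [← cancel_epi (equalizer.ι a' b').left]
  exact congr($(equalizer.condition a' b').left)

/-- Near a point of a reduced scheme with locally finitely many components, sections are determined by the germ. -/
theorem isGermInjectiveAt {X : Scheme.{u}} [IsReduced X] (x : X) (W : X.Opens) (hxW : x ∈ W)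
    (hW : {Z : Set ↥X | Z ∈ irreducibleComponents ↥X ∧ (Z ∩ (W : Set ↥X)).Nonempty}.Finite) :
    X.IsGermInjectiveAt x := by
  classical
  set 𝒵 := {Z : Set ↥X | Z ∈ irreducibleComponents ↥X ∧ (Z ∩ (W : Set ↥X)).Nonempty}
  let O : X.Opens := ⟨(W : Set X) \ ⋃ Z ∈ {Z ∈ 𝒵 | x ∉ Z}, Z, W.2.sdiff
    ((hW.subset fun Z hZ => hZ.1).isClosed_biUnion fun Z hZ => isClosed_of_mem_irreducibleComponents Z hZ.1.1)⟩
  have hxO : x ∈ O := ⟨hxW, by simp only [Set.mem_iUnion, not_exists]; exact fun Z hZ => hZ.2⟩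
  obtain ⟨V, hV, hxV, hVO⟩ := exists_isAffineOpen_mem_and_subset (X := X) (x := x) (U := O) hxO
  refine ⟨⟨V, hxV, hV, ?_⟩⟩
  rw [injective_iff_map_eq_zero]
  intro a ha
  refine eq_zero_of_basicOpen_eq_bot a (Opens.ext (Set.eq_empty_of_forall_notMem fun y hy => ?_))
  have hyV : y ∈ V := X.basicOpen_le a hy
  obtain ⟨ξ, hξ⟩ := QuasiSober.sober (isIrreducible_irreducibleComponent (x := y)) isClosed_irreducibleComponent
  have hξy : ξ ⤳ y := hξ.specializes mem_irreducibleComponent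
  have hxC : x ∈ irreducibleComponent y := by
    by_contra hn
    exact (hVO hyV).2 (Set.mem_biUnion (show irreducibleComponent y ∈ {Z ∈ 𝒵 | x ∉ Z} from
      ⟨⟨irreducibleComponent_mem_irreducibleComponents y, y, mem_irreducibleComponent, (hVO hyV).1⟩, hn⟩)
      mem_irreducibleComponent)
  have hξx : ξ ⤳ x := hξ.specializes hxC
  have hξb : ξ ∈ X.basicOpen a := hξy.mem_open (X.basicOpen a).2 hy
  have h1 := (Scheme.mem_basicOpen X a ξ (hξx.mem_open V.2 hxV)).mp hξb
  rw [← TopCat.Presheaf.germ_stalkSpecializes (F := X.presheaf) hxV hξx, CommRingCat.comp_apply] at h1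
  have ha' : X.presheaf.germ V x hxV a = 0 := ha
  rw [ha', map_zero] at h1
  exact not_isUnit_zero h1

theorem defined_iff {X Y S : Scheme.{u}} (pX : X ⟶ S) (pY : Y ⟶ S)
    [IsSeparated pY] [LocallyOfFinitePresentation pY]
    (hX : IsLocallyNoetherian X ∨ (IsReduced X ∧ ∀ x : ↥X, ∃ W : X.Opens, x ∈ W ∧
      {Z : Set ↥X | Z ∈ irreducibleComponents ↥X ∧ (Z ∩ (W : Set ↥X)).Nonempty}.Finite))
    (U : X.Opens) (h : (U : Scheme.{u}) ⟶ Y) (hh : h ≫ pY = U.ι ≫ pX)
    (x : ↥X) :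
    (∃ (V : X.Opens) (v : (V : Scheme.{u}) ⟶ Y), x ∈ V ∧ v ≫ pY = V.ι ≫ pX ∧
        X.homOfLE (inf_le_right : U ⊓ V ≤ V) ≫ v = X.homOfLE (inf_le_left : U ⊓ V ≤ U) ≫ h) ↔
      ∃ w : Spec (X.presheaf.stalk x) ⟶ Y, w ≫ pY = X.fromSpecStalk x ≫ pX ∧
        pullback.fst (X.fromSpecStalk x) U.ι ≫ w = pullback.snd (X.fromSpecStalk x) U.ι ≫ h := by
  constructor
  · rintro ⟨V, v, hxV, hv, hag⟩
    refine ⟨V.fromSpecStalkOfMem x hxV ≫ v, by rw [Category.assoc, hv, Scheme.Opens.fromSpecStalkOfMem_ι_assoc], ?_⟩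
    let P := pullback (X.fromSpecStalk x) U.ι
    have hr : Set.range (pullback.snd (X.fromSpecStalk x) U.ι ≫ U.ι) ⊆ Set.range (U ⊓ V).ι := by
      rintro _ ⟨t, rfl⟩
      rw [Scheme.Opens.range_ι]
      refine ⟨(pullback.snd (X.fromSpecStalk x) U.ι t).2, ?_⟩
      have h1 : (pullback.snd (X.fromSpecStalk x) U.ι ≫ U.ι) t =
          (pullback.fst (X.fromSpecStalk x) U.ι ≫ V.fromSpecStalkOfMem x hxV ≫ V.ι) t := by
        rw [Scheme.Opens.fromSpecStalkOfMem_ι, pullback.condition]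
      rw [h1, Scheme.Hom.comp_apply, Scheme.Hom.comp_apply]
      exact Subtype.coe_prop _
    obtain ⟨l, hl⟩ : ∃ l, l ≫ (U ⊓ V).ι = pullback.snd (X.fromSpecStalk x) U.ι ≫ U.ι :=
      ⟨IsOpenImmersion.lift _ _ hr, IsOpenImmersion.lift_fac _ _ _⟩
    have e1 : l ≫ X.homOfLE inf_le_left = pullback.snd (X.fromSpecStalk x) U.ι := by
      rw [← cancel_mono U.ι, Category.assoc, Scheme.homOfLE_ι, hl]
    have e2 : l ≫ X.homOfLE inf_le_right = pullback.fst (X.fromSpecStalk x) U.ι ≫ V.fromSpecStalkOfMem x hxV := by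
      rw [← cancel_mono V.ι, Category.assoc, Scheme.homOfLE_ι, hl, Category.assoc,
        Scheme.Opens.fromSpecStalkOfMem_ι, pullback.condition]
    rw [← reassoc_of% e2, hag, reassoc_of% e1]
  rintro ⟨w, hw, hag⟩
  haveI : X.IsGermInjectiveAt x := by
    rcases hX with h' | ⟨h', hfin⟩
    · infer_instance
    · obtain ⟨W, hxW, hW⟩ := hfin x
      exact isGermInjectiveAt x W hxW hW
  obtain ⟨V₁, hxV₁, v₁, hv1, hv2⟩ := spread_out_of_isGermInjective' pX pY w hw
  obtain ⟨V, hxV, hV, hVV₁, hinj⟩ := X.exists_le_and_germ_injective x V₁ hxV₁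
  refine ⟨V, X.homOfLE hVV₁ ≫ v₁, hxV, by rw [Category.assoc, hv2, Scheme.homOfLE_ι_assoc], ?_⟩
  haveI : IsAffine (V : Scheme.{u}) := hV
  haveI : IsSchemeTheoreticallyDominant (Spec.map (X.presheaf.germ V x hxV)) := by
    rw [isSchemeTheoreticallyDominant_iff]
    refine Scheme.IdealSheafData.ext_of_isAffine ?_
    rw [Scheme.IdealSheafData.ideal_bot, Pi.bot_apply, Scheme.Hom.ker_apply]
    refine (RingHom.injective_iff_ker_eq_bot _).mp ?_
    show Function.Injective (Spec.map (X.presheaf.germ V x hxV)).appTop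
    intro a b hab
    have h1 := congr($(Scheme.ΓSpecIso_naturality (X.presheaf.germ V x hxV)) a)
    have h2 := congr($(Scheme.ΓSpecIso_naturality (X.presheaf.germ V x hxV)) b)
    simp only [CommRingCat.hom_comp, RingHom.coe_comp, Function.comp_apply] at h1 h2
    exact (ConcreteCategory.bijective_of_isIso (Scheme.ΓSpecIso Γ(X, V)).hom).1
      (hinj (h1.symm.trans ((congrArg _ hab).trans h2)))
  haveI : IsIso V.toSpecΓ := by rw [← hV.isoSpec_hom]; infer_instance
  haveI : IsSchemeTheoreticallyDominant (V.fromSpecStalkOfMem x hxV) := by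
    have : V.fromSpecStalkOfMem x hxV = Spec.map (X.presheaf.germ V x hxV) ≫ inv V.toSpecΓ := by
      rw [IsIso.eq_comp_inv, Scheme.Opens.fromSpecStalkOfMem_toSpecΓ]
    rw [this]; infer_instance
  haveI : QuasiCompact (V.fromSpecStalkOfMem x hxV) := inferInstance
  let j := pullback.snd (V.fromSpecStalkOfMem x hxV) (X.homOfLE (inf_le_right : U ⊓ V ≤ V))
  haveI : IsSchemeTheoreticallyDominant j := inferInstanceAs (IsSchemeTheoreticallyDominant (pullback.snd _ _))
  refine ext_of_schDominant j pY ?_ ?_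
  · simp only [Category.assoc, hh, hv2, Scheme.homOfLE_ι_assoc]
  have hc : pullback.fst (V.fromSpecStalkOfMem x hxV) (X.homOfLE (inf_le_right : U ⊓ V ≤ V)) ≫ X.fromSpecStalk x =
      (j ≫ X.homOfLE inf_le_left) ≫ U.ι := by
    rw [← Scheme.Opens.fromSpecStalkOfMem_ι V x hxV, pullback.condition_assoc, Scheme.homOfLE_ι, Category.assoc,
      Scheme.homOfLE_ι]
  have hag' := congrArg (pullback.lift _ _ hc ≫ ·) hag
  simp only [pullback.lift_fst_assoc, pullback.lift_snd_assoc] at hag'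
  rw [Category.assoc] at hag'
  refine Eq.trans ?_ hag'
  have e : V.fromSpecStalkOfMem x hxV ≫ X.homOfLE hVV₁ = V₁.fromSpecStalkOfMem x hxV₁ := by
    rw [← cancel_mono V₁.ι, Category.assoc, Scheme.homOfLE_ι, Scheme.Opens.fromSpecStalkOfMem_ι,
      Scheme.Opens.fromSpecStalkOfMem_ι]
  rw [hv1, ← reassoc_of% e, pullback.condition_assoc]

end Groth.Agent.H05EGA4.DefinedStalk
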