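import Mathlib
import Groth.Agent.H12AlgSp.DenseEtale
import Groth.Agent.S3833

/-!
Schematically dense opens of locally Noetherian schemes pull back along flat morphisms.
-/

set_option autoImplicit false
universe u
open CategoryTheory AlgebraicGeometry TopologicalSpace Groth.Agent.H12AlgSp

namespace Groth.Agent.H05EGA4.DenseFlat

variable {X X' : Scheme.{u}}

theorem mono {W₁ W₂ : X.Opens} (h : W₁ ≤ W₂) (h₁ : CInt.IsSchematicallyDense W₁) : CInt.IsSchematicallyDense W₂ := by
  rw [Dense.isSchematicallyDense_iff] at h₁ ⊢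
  exact fun V t ht => h₁ V t fun x hx hW => ht x hx (h hW)

/-- On a Noetherian affine open a dense open contains a regular basic open. -/
theorem exists_regular [IsLocallyNoetherian X] {W : X.Opens} (hW : CInt.IsSchematicallyDense W) {V : X.Opens}
    (hV : IsAffineOpen V) : ∃ s : Γ(X, V), s ∈ nonZeroDivisors Γ(X, V) ∧ X.basicOpen s ≤ W := by
  haveI : IsNoetherianRing Γ(X, V) := IsLocallyNoetherian.component_noetherian ⟨V, hV⟩
  let I : Ideal Γ(X, V) :=
    { carrier := {a | X.basicOpen a ≤ W}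
      zero_mem' := by
        show X.basicOpen (0 : Γ(X, V)) ≤ W
        rw [Scheme.basicOpen_zero]
        exact bot_le
      add_mem' := fun {a b} ha hb y hy => by
        have hyV : y ∈ V := X.basicOpen_le _ hy
        rw [Scheme.mem_basicOpen _ _ _ hyV, map_add] at hy
        rcases IsLocalRing.isUnit_or_isUnit_of_isUnit_add hy with h | h
        · exact ha ((Scheme.mem_basicOpen _ _ _ hyV).mpr h)
        · exact hb ((Scheme.mem_basicOpen _ _ _ hyV).mpr h)
      smul_mem' := fun c {a} ha => by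
        show X.basicOpen (c * a) ≤ W
        rw [Scheme.basicOpen_mul]
        exact inf_le_right.trans ha }
  by_contra hno
  push Not at hno
  have hsub : (I : Set Γ(X, V)) ⊆ ⋃ P ∈ associatedPrimes Γ(X, V) Γ(X, V), (P : Set Γ(X, V)) := by
    rw [biUnion_associatedPrimes_eq_compl_nonZeroDivisors]
    exact fun a ha ha' => hno a ha' ha
  obtain ⟨P, hP, hIP⟩ := (Ideal.subset_union_prime_finite (associatedPrimes.finite Γ(X, V) Γ(X, V))
    (f := fun P => P) (⊥ : Ideal Γ(X, V)) (⊥ : Ideal Γ(X, V)) fun Q hQ _ _ => hQ.isPrime).mp hsub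
  obtain ⟨hPp, c, hc⟩ := isAssociatedPrime_iff.mp hP
  have hc0 : c = 0 := Dense.isSchematicallyDense_iff.mp hW V c fun y hyV hyW => by
    obtain ⟨a, ha, hya⟩ := hV.exists_basicOpen_le (V := W) ⟨y, hyW⟩ hyV
    have h0 := hc.le (hIP (show a ∈ I from ha))
    rw [Submodule.mem_colon_singleton, Submodule.mem_bot, smul_eq_mul] at h0
    have h1 := congrArg (X.presheaf.germ V y hyV) h0
    rw [map_mul, map_zero] at h1
    exact ((Scheme.mem_basicOpen _ _ _ hyV).mp hya).mul_right_eq_zero.mp h1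
  exact hPp.ne_top (by rw [hc, hc0, Ideal.eq_top_iff_one, Submodule.mem_colon_singleton, Submodule.mem_bot, smul_zero])

theorem preimage_of_flat (f : X' ⟶ X) [Flat f] [IsLocallyNoetherian X] (W : X.Opens)
    (hW : CInt.IsSchematicallyDense W) : CInt.IsSchematicallyDense (f ⁻¹ᵁ W) := by
  refine Dense.of_cover fun x' => ?_
  obtain ⟨V, hV, hxV, -⟩ := exists_isAffineOpen_mem_and_subset (X := X) (x := f x') (U := ⊤) trivial
  obtain ⟨s, hs, hsW⟩ := exists_regular hW hV
  let U : X'.Opens := f ⁻¹ᵁ V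
  refine ⟨U, U.ι, inferInstance, ⟨⟨x', hxV⟩, rfl⟩, ?_⟩
  let g : (U : Scheme.{u}) ⟶ X := U.ι ≫ f
  have hle : (⊤ : (U : Scheme.{u}).Opens) ≤ g ⁻¹ᵁ V := fun z _ => z.2
  let t := g.appLE V ⊤ hle s
  have ht : ∀ z : (U : Scheme.{u}), (U : Scheme.{u}).presheaf.germ ⊤ z trivial t ∈
      nonZeroDivisors ((U : Scheme.{u}).presheaf.stalk z) := fun z => by
    rw [Dense.killed_appLE.germ_appLE g hle z trivial]
    set s₀ := X.presheaf.germ V (g z) (hle trivial) s
    have hs₀ : s₀ ∈ nonZeroDivisors (X.presheaf.stalk (g z)) := by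
      letI := TopCat.Presheaf.algebra_section_stalk X.presheaf (⟨g z, hle trivial⟩ : V)
      haveI := hV.isLocalization_stalk ⟨g z, hle trivial⟩
      exact IsLocalization.map_nonZeroDivisors_le (hV.primeIdealOf ⟨g z, hle trivial⟩).asIdeal.primeCompl _ ⟨s, hs, rfl⟩
    haveI : Flat g := inferInstance
    algebraize [(g.stalkMap z).hom]
    haveI : Module.Flat (X.presheaf.stalk (g z)) ((U : Scheme.{u}).presheaf.stalk z) := Flat.stalkMap g z
    have hreg : IsSMulRegular (X.presheaf.stalk (g z)) s₀ := isSMulRegular_iff_right_eq_zero_of_smul.mpr fun c hc =>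
      (mem_nonZeroDivisors_iff_left.mp hs₀) c hc
    have h2 : IsSMulRegular ((U : Scheme.{u}).presheaf.stalk z) s₀ := hreg.of_flat
    exact mem_nonZeroDivisors_iff_left.mpr fun c hc => h2.right_eq_zero_of_smul hc
  refine mono (fun z hz => hsW ?_) (Groth.Agent.S3833.result (U : Scheme.{u}) t ht)
  rw [Scheme.mem_basicOpen_top, Dense.killed_appLE.germ_appLE g hle z trivial] at hz
  exact (Scheme.mem_basicOpen X s (g z) (hle (trivial : z ∈ (⊤ : (U : Scheme.{u}).Opens)))).mpr ((isUnit_map_iff (g.stalkMap z).hom _).mp hz)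

end Groth.Agent.H05EGA4.DenseFlat
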