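import Mathlib
import Groth.Agent.H05EGA4.DenseFlat
import Groth.Agent.H21Diag.SchDense
import Groth.Agent.H8Props.Generic
import Groth.Agent.H17.TwoGlue

/-!
Schematic density of opens of affine and of reduced schemes.
-/

set_option autoImplicit false
universe u
open AlgebraicGeometry CategoryTheory TopologicalSpace Groth.Agent.H12AlgSp

namespace Groth.Agent.H05EGA4.DenseMisc

theorem of_dense {X : Scheme.{u}} [IsReduced X] {W : X.Opens} (hW : Dense (W : Set X)) :
    CInt.IsSchematicallyDense W := by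
  rw [Dense.isSchematicallyDense_iff]
  intro V t ht
  refine eq_zero_of_basicOpen_eq_bot t (Opens.ext (Set.eq_empty_of_forall_notMem fun y hy => ?_))
  obtain ⟨z, hz, hzW⟩ := hW.inter_open_nonempty _ (X.basicOpen t).2 ⟨y, hy⟩
  have hzV : z ∈ V := X.basicOpen_le t hz
  have := (Scheme.mem_basicOpen X t z hzV).mp hz
  rw [ht z hzV hzW] at this
  exact not_isUnit_zero this

theorem of_regular (X : Scheme.{u}) [IsAffine X] (U : X.Opens) (t : Γ(X, ⊤))
    (ht : t ∈ nonZeroDivisors Γ(X, ⊤)) (htU : X.basicOpen t ≤ U) : CInt.IsSchematicallyDense U := by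
  refine DenseFlat.mono htU (Groth.Agent.S3833.result X t fun x => ?_)
  have hV : IsAffineOpen (⊤ : X.Opens) := isAffineOpen_top X
  letI := TopCat.Presheaf.algebra_section_stalk X.presheaf (⟨x, trivial⟩ : (⊤ : X.Opens))
  haveI := hV.isLocalization_stalk ⟨x, trivial⟩
  exact IsLocalization.map_nonZeroDivisors_le (hV.primeIdealOf ⟨x, trivial⟩).asIdeal.primeCompl _ ⟨t, ht, rfl⟩

theorem exists_regular_of_finite (X : Scheme.{u}) [IsAffine X] [IsReduced X] (hfin : (irreducibleComponents X).Finite)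
    (U : X.Opens) (hU : Dense (U : Set X)) : ∃ t : Γ(X, ⊤), t ∈ nonZeroDivisors Γ(X, ⊤) ∧ X.basicOpen t ≤ U := by
  classical
  have hV : IsAffineOpen (⊤ : X.Opens) := isAffineOpen_top X
  have hemb := hV.fromSpec.isOpenEmbedding
  have hsurj : Function.Surjective hV.fromSpec := fun x => by
    have : x ∈ Set.range hV.fromSpec := by rw [hV.range_fromSpec]; trivial
    exact this
  have hfin' : (minimalPrimes Γ(X, ⊤)).Finite := by
    have h1 : (irreducibleComponents (PrimeSpectrum Γ(X, ⊤))).Finite :=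
      Groth.Agent.H17.finite_irreducibleComponents_of_isOpenEmbedding hemb hfin
    refine (h1.image (fun Z => PrimeSpectrum.vanishingIdeal Z)).subset fun P hP => ?_
    rw [PrimeSpectrum.vanishingIdeal_irreducibleComponents]
    exact hP
  let I := PrimeSpectrum.vanishingIdeal ((hV.fromSpec ⁻¹' (U : Set X))ᶜ)
  have hzl : PrimeSpectrum.zeroLocus (I : Set Γ(X, ⊤)) = (hV.fromSpec ⁻¹' (U : Set X))ᶜ := by
    rw [PrimeSpectrum.zeroLocus_vanishingIdeal_eq_closure]
    exact (U.2.preimage hV.fromSpec.continuous).isClosed_compl.closure_eq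
  have hd : Dense (hV.fromSpec ⁻¹' (U : Set X)) := hU.preimage hemb.isOpenMap
  have hnot : ∀ P ∈ minimalPrimes Γ(X, ⊤), ¬ I ≤ P := fun P hP hle => by
    have hPp : P.IsPrime := hP.1.1
    let P' : PrimeSpectrum Γ(X, ⊤) := ⟨P, hPp⟩
    have hPU : P' ∉ hV.fromSpec ⁻¹' (U : Set X) := fun h => (hzl.le (show P' ∈ PrimeSpectrum.zeroLocus (I : Set Γ(X, ⊤)) from hle)) h
    -- a basic open containing only one minimal prime
    let O : Set (PrimeSpectrum Γ(X, ⊤)) := (⋃ Q ∈ minimalPrimes Γ(X, ⊤) \ {P}, PrimeSpectrum.zeroLocus (Q : Set Γ(X, ⊤)))ᶜ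
    have hO : IsOpen O :=
      (Set.Finite.isClosed_biUnion (hfin'.subset Set.diff_subset) fun Q _ => PrimeSpectrum.isClosed_zeroLocus _).isOpen_compl
    have hPO : P' ∈ O := by
      simp only [O, Set.mem_compl_iff, Set.mem_iUnion, not_exists]
      rintro Q ⟨hQ, hne⟩ hle'
      exact hne (le_antisymm hle' (hP.2 hQ.1 hle'))
    obtain ⟨t, htO, htU⟩ := hd.inter_open_nonempty O hO ⟨P', hPO⟩
    haveI : (t : PrimeSpectrum Γ(X, ⊤)).asIdeal.IsPrime := (t : PrimeSpectrum Γ(X, ⊤)).isPrime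
    obtain ⟨Q, hQ, hQt⟩ := Ideal.exists_minimalPrimes_le (I := ⊥) (J := t.asIdeal) bot_le
    have hQP : Q = P := by
      by_contra hne
      exact htO (Set.mem_biUnion (show Q ∈ minimalPrimes Γ(X, ⊤) \ {P} from ⟨hQ, hne⟩) hQt)
    subst hQP
    exact hPU (((PrimeSpectrum.le_iff_specializes P' t).mp hQt).mem_open (U.2.preimage hV.fromSpec.continuous) htU)
  have : ¬ (I : Set Γ(X, ⊤)) ⊆ ⋃ P ∈ (hfin'.toFinset : Set (Ideal Γ(X, ⊤))), (P : Set Γ(X, ⊤)) := fun hsub => by
    obtain ⟨P, hP, hIP⟩ := (Ideal.subset_union_prime (f := fun P => P) (⊥ : Ideal Γ(X, ⊤)) (⊥ : Ideal Γ(X, ⊤))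
      fun Q hQ _ _ => (hfin'.mem_toFinset.mp hQ).1.1).mp hsub
    exact hnot P (hfin'.mem_toFinset.mp hP) hIP
  obtain ⟨t, htI, ht⟩ := Set.not_subset.mp this
  simp only [Set.mem_iUnion, not_exists, Finset.mem_coe, hfin'.mem_toFinset] at ht
  refine ⟨t, mem_nonZeroDivisors_iff_right.mpr fun c hc => ?_, fun x hx => ?_⟩
  · haveI : _root_.IsReduced Γ(X, ⊤) := inferInstance
    refine IsReduced.eq_zero c (nilpotent_iff_mem_prime.mpr fun P hP => ?_)
    obtain ⟨Q, hQ, hQP⟩ := Ideal.exists_minimalPrimes_le (I := ⊥) (J := P) bot_le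
    exact hQP ((hQ.1.1.mem_or_mem (by rw [hc]; exact Q.zero_mem)).resolve_right (ht Q hQ))
  · obtain ⟨s, rfl⟩ := hsurj x
    have hs : s ∈ hV.fromSpec ⁻¹ᵁ X.basicOpen t := hx
    rw [hV.fromSpec_preimage_basicOpen] at hs
    by_contra hn
    exact hs ((hzl.ge (show s ∈ (hV.fromSpec ⁻¹' (U : Set X))ᶜ from hn)) htI)

theorem iff_exists_basicOpen (X : Scheme.{u}) [IsAffine X]
    (hX : IsNoetherian X ∨ (IsReduced X ∧ (irreducibleComponents X).Finite)) (U : X.Opens) :
    CInt.IsSchematicallyDense U ↔ ∃ t : Γ(X, ⊤), t ∈ nonZeroDivisors Γ(X, ⊤) ∧ X.basicOpen t ≤ U := by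
  refine ⟨fun hU => ?_, fun ⟨t, ht, htU⟩ => of_regular X U t ht htU⟩
  rcases hX with h | ⟨hr, hfin⟩
  · exact DenseFlat.exists_regular hU (isAffineOpen_top X)
  · exact exists_regular_of_finite X hfin U (H21Diag.dense_of_isSchematicallyDense hU)

theorem dense_preimage {X X' : Scheme.{u}} (f : X' ⟶ X) [IsReduced X']
    (hfin : ∀ x : ↥X, ∃ W : X.Opens, x ∈ W ∧ {Z ∈ irreducibleComponents ↥X | (Z ∩ (W : Set ↥X)).Nonempty}.Finite)
    (hdom : ∀ Z' ∈ irreducibleComponents ↥X', closure (f '' Z') ∈ irreducibleComponents ↥X)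
    (V : X.Opens) (hV : CInt.IsSchematicallyDense V) : CInt.IsSchematicallyDense (f ⁻¹ᵁ V) := by
  classical
  have hVd := H21Diag.dense_of_isSchematicallyDense hV
  refine of_dense (dense_iff_closure_eq.mpr (Set.eq_univ_of_forall fun x => ?_))
  let Z' := irreducibleComponent x
  obtain ⟨ξ', hξ'⟩ := QuasiSober.sober (isIrreducible_irreducibleComponent (x := x)) isClosed_irreducibleComponent
  suffices h : ξ' ∈ f ⁻¹ᵁ V by
    exact (hξ'.specializes mem_irreducibleComponent).mem_closed isClosed_closure (subset_closure h)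
  have hZ := hdom _ (irreducibleComponent_mem_irreducibleComponents x)
  have hη : IsGenericPoint (f ξ') (closure (f '' irreducibleComponent x)) := by
    refine le_antisymm (closure_mono (Set.singleton_subset_iff.mpr ⟨ξ', hξ'.mem, rfl⟩)) (closure_minimal ?_ isClosed_closure)
    rintro _ ⟨a, ha, rfl⟩
    exact ((hξ'.specializes ha).map f.continuous).mem_closure
  set Z := closure (f '' irreducibleComponent x)
  obtain ⟨W, hxW, hWfin⟩ := hfin (f ξ')
  let O : Set X := (W : Set X) \ ⋃ T ∈ {T ∈ irreducibleComponents X | (T ∩ (W : Set X)).Nonempty} \ {Z}, T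
  have hO : IsOpen O := W.2.sdiff ((hWfin.subset Set.diff_subset).isClosed_biUnion fun T hT =>
    isClosed_of_mem_irreducibleComponents T hT.1.1)
  have hξO : f ξ' ∈ O := by
    refine ⟨hxW, ?_⟩
    simp only [Set.mem_iUnion, not_exists]
    rintro T ⟨⟨hT, -⟩, hne⟩ hmem
    have hle : Z ≤ T := by
      rw [← hη]; exact closure_minimal (Set.singleton_subset_iff.mpr hmem) (isClosed_of_mem_irreducibleComponents T hT)
    exact hne (le_antisymm (hZ.2 hT.1 hle) hle)
  obtain ⟨z, hzO, hzV⟩ := hVd.inter_open_nonempty O hO ⟨_, hξO⟩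
  have hzZ : z ∈ Z := by
    by_contra hn
    exact hzO.2 (Set.mem_biUnion (show irreducibleComponent z ∈ {T ∈ irreducibleComponents X | (T ∩ (W : Set X)).Nonempty} \ {Z} from
      ⟨⟨irreducibleComponent_mem_irreducibleComponents z, z, mem_irreducibleComponent, hzO.1⟩,
        fun he => hn (he ▸ mem_irreducibleComponent)⟩) mem_irreducibleComponent)
  exact (hη.specializes hzZ).mem_open V.2 hzV

end Groth.Agent.H05EGA4.DenseMisc
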