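import Mathlib
import Groth.Agent.H12AlgSp.DenseEtale
import Groth.Agent.S1202

/-!
Schematically dense opens pull back along flat morphisms locally of finite presentation (helper5).
-/

set_option autoImplicit false
set_option linter.style.haveILetI false
set_option maxHeartbeats 800000
set_option backward.isDefEq.respectTransparency false
universe u
open CategoryTheory AlgebraicGeometry TopologicalSpace TensorProduct Opposite
open Groth.Agent.H12AlgSp

namespace Groth.Agent.H05EGA4.DensePure

/-- Sections over preimages in a projective algebra are zero when killed on a dense open. -/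
theorem eq_zero_of_projective {A B : CommRingCat.{u}} [Algebra A B] [Module.Projective A B]
    {W : (Spec A).Opens} (hW : CInt.IsSchematicallyDense W)
    (O : (Spec A).Opens)
    (t : Γ(Spec B, Spec.map (CommRingCat.ofHom (algebraMap A B)) ⁻¹ᵁ O))
    (ht : Dense.Killed (Spec.map (CommRingCat.ofHom (algebraMap A B)) ⁻¹ᵁ W) t) : t = 0 := by
  classical
  let π := Spec.map (CommRingCat.ofHom (algebraMap A B))
  obtain ⟨r, hr⟩ := Module.projective_def'.mp (inferInstance : Module.Projective A B)
  refine Dense.eq_zero_of_germ fun x hx => ?_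
  obtain ⟨_, ⟨a, rfl⟩, hxa, haO⟩ := Opens.isBasis_iff_nbhd.mp PrimeSpectrum.isBasis_basic_opens
    (show π x ∈ O from hx)
  let Da : (Spec B).Opens := PrimeSpectrum.basicOpen (algebraMap A B a)
  have hDa : Da ≤ π ⁻¹ᵁ O := fun y hy => haO hy
  suffices h : (Spec B).presheaf.map (homOfLE hDa).op t = 0 by
    rw [← Dense.germ_map hDa x hxa t, h, map_zero]
  obtain ⟨⟨z, ⟨_, k, rfl⟩⟩, hz⟩ := IsLocalization.surj (M := Submonoid.powers (algebraMap A B a))
    (S := Γ(Spec B, Da)) ((Spec B).presheaf.map (homOfLE hDa).op t)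
  have hunit := IsLocalization.map_units (Γ(Spec B, Da))
    (⟨(algebraMap A B a) ^ k, k, rfl⟩ : Submonoid.powers (algebraMap A B a))
  refine (hunit.mul_left_eq_zero).1 ?_
  rw [hz]
  have hc : ∀ i, algebraMap A Γ(Spec A, PrimeSpectrum.basicOpen a) (r z i) = 0 := by
    intro i
    refine Dense.isSchematicallyDense_iff.1 hW _ _ fun y hy hyW => ?_
    obtain ⟨_, ⟨c, rfl⟩, hyc, hcle⟩ := Opens.isBasis_iff_nbhd.mp PrimeSpectrum.isBasis_basic_opens
      (show y ∈ PrimeSpectrum.basicOpen a ⊓ W from ⟨hy, hyW⟩)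
    let Dc : (Spec B).Opens := PrimeSpectrum.basicOpen (algebraMap A B c)
    have hDc : Dc ≤ Da := fun w hw => (@hcle (π w) hw).1
    have hz0 : algebraMap B Γ(Spec B, Dc) z = 0 := by
      have h1 := congrArg ((Spec B).presheaf.map (homOfLE hDc).op) hz
      rw [map_mul] at h1
      refine Eq.trans ?_ (h1.symm.trans ?_)
      · rfl
      · have h2 : (Spec B).presheaf.map (homOfLE hDc).op
            ((Spec B).presheaf.map (homOfLE hDa).op t) = 0 :=
          Dense.eq_zero_of_germ fun w hw => by
            rw [Dense.germ_map hDc, Dense.germ_map hDa]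
            exact ht w (hDa (hDc hw)) (@hcle (π w) hw).2
        rw [h2, zero_mul]
    obtain ⟨⟨_, m, rfl⟩, hm⟩ := (IsLocalization.map_eq_zero_iff (Submonoid.powers (algebraMap A B c))
      Γ(Spec B, Dc) z).1 hz0
    have hi : c ^ m * r z i = 0 := by
      have := congrArg (fun w => r w i) (show c ^ m • z = 0 by
        rw [Algebra.smul_def, map_pow]; exact hm)
      simpa using this
    have hy' : (Spec A).presheaf.map (homOfLE (fun w hw => (hcle hw).1 :
        PrimeSpectrum.basicOpen c ≤ PrimeSpectrum.basicOpen a)).op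
        (algebraMap A Γ(Spec A, PrimeSpectrum.basicOpen a) (r z i)) = 0 :=
      ((IsLocalization.map_eq_zero_iff (Submonoid.powers c) Γ(Spec A, PrimeSpectrum.basicOpen c) _).2
        ⟨⟨c ^ m, m, rfl⟩, hi⟩)
    have h3 := congrArg ((Spec A).presheaf.germ _ y hyc) hy'
    rwa [map_zero, Dense.germ_map] at h3
  have hm : ∀ i, ∃ m : ℕ, a ^ m * r z i = 0 := fun i => by
    obtain ⟨⟨_, m, rfl⟩, hm⟩ := (IsLocalization.map_eq_zero_iff (Submonoid.powers a) _ _).1 (hc i)
    exact ⟨m, hm⟩
  choose m hm using hm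
  let M := (r z).support.sup m
  have : a ^ M • z = 0 := by
    have h0 : a ^ M • r z = 0 := by
      ext i
      rw [Finsupp.smul_apply, Finsupp.zero_apply, smul_eq_mul]
      by_cases hi : i ∈ (r z).support
      · obtain ⟨d, hd⟩ := Nat.exists_eq_add_of_le (Finset.le_sup hi : m i ≤ M)
        change a ^ M * _ = 0
        rw [show a ^ M = a ^ d * a ^ m i from (congrArg (a ^ ·) hd).trans (by rw [pow_add, mul_comm]), mul_assoc, hm, mul_zero]
      · rw [Finsupp.notMem_support_iff.1 hi, mul_zero]
    have h1 := LinearMap.congr_fun hr (a ^ M • z)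
    rw [LinearMap.comp_apply, map_smul r, h0, map_zero] at h1
    exact h1.symm
  exact (IsLocalization.map_eq_zero_iff (Submonoid.powers (algebraMap A B a)) _ z).2
    ⟨⟨_, M, rfl⟩, by change algebraMap A B a ^ M * z = 0; rw [← map_pow, ← Algebra.smul_def]; exact this⟩

/-- Density pulls back along flat morphisms locally of finite presentation. -/
theorem preimage_flat_lfp {X Y : Scheme.{u}} (f : X ⟶ Y) [Flat f] [LocallyOfFinitePresentation f] {W : Y.Opens}
    (hW : CInt.IsSchematicallyDense W) : CInt.IsSchematicallyDense (f ⁻¹ᵁ W) := by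
  rw [Dense.isSchematicallyDense_iff]
  intro V t ht
  refine Dense.eq_zero_of_germ fun x hx => ?_
  obtain ⟨U, hU, hxU, -⟩ := exists_isAffineOpen_mem_and_subset (Opens.mem_top (f x))
  obtain ⟨W', hW', hxW', hle'⟩ := exists_isAffineOpen_mem_and_subset (X := X) (U := V ⊓ f ⁻¹ᵁ U) ⟨hx, hxU⟩
  have hleU : W' ≤ f ⁻¹ᵁ U := fun y hy => (hle' hy).2
  let R := Γ(Y, U)
  let S := Γ(X, W')
  let e : R ⟶ S := f.appLE U W' hleU
  letI : Algebra R S := e.hom.toAlgebra
  haveI : Algebra.FinitePresentation R S :=
    LocallyOfFinitePresentation.finitePresentation_appLE f hU hW' hleU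
  haveI : Module.Flat R S := Flat.flat_appLE f hU hW' hleU
  have he : Spec.map e ≫ hU.fromSpec = hW'.fromSpec ≫ f := hU.SpecMap_appLE_fromSpec f hW' hleU
  obtain ⟨u, hu⟩ : x ∈ Set.range hW'.fromSpec := by rw [hW'.range_fromSpec]; exact hxW'
  let q := (u : PrimeSpectrum S).asIdeal
  have hfl : FlatCA.FlatAt R q S := by
    haveI : Module.Flat S (LocalizedModule q.primeCompl S) :=
      Module.Flat.of_linearEquiv (IsLocalizedModule.linearEquiv q.primeCompl (Algebra.linearMap S (Localization.AtPrime q))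
        (LocalizedModule.mkLinearMap q.primeCompl S) |>.symm)
    exact Module.Flat.trans R S _
  obtain ⟨R', S', iR', iS', aRR', aSS', aR'S', aRS', t1, t2, p', q', hp', hq', hnR, hnS, hlies, hproj⟩ :=
    Groth.Agent.S1202.result (R := R) (S := S) S (q.under R) q hfl
  haveI := hp'; haveI := hq'
  haveI : Algebra.Etale R R' := hnR.1
  haveI : Algebra.Etale S S' := hnS.1
  haveI : Module.Projective R' S' := by
    let E : RestrictScalars R' S' (S' ⊗[S] S) ≃ₗ[R'] S' :=
      { toFun := fun z => TensorProduct.AlgebraTensorModule.rid S S' S' ((RestrictScalars.addEquiv R' S' (S' ⊗[S] S)) z)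
        invFun := fun z => (RestrictScalars.addEquiv R' S' (S' ⊗[S] S)).symm
          ((TensorProduct.AlgebraTensorModule.rid S S' S').symm z)
        map_add' := fun _ _ => by simp only [map_add]
        map_smul' := fun c z => by
          rw [RestrictScalars.addEquiv_map_smul, map_smul, RingHom.id_apply, algebraMap_smul]
        left_inv := fun z => by simp
        right_inv := fun z => by simp }
    exact Module.Projective.of_equiv E
  let j : Spec (CommRingCat.of S') ⟶ X := Spec.map (CommRingCat.ofHom (algebraMap S S')) ≫ hW'.fromSpec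
  let k : Spec (CommRingCat.of R') ⟶ Y := Spec.map (CommRingCat.ofHom (algebraMap R R')) ≫ hU.fromSpec
  let π : Spec (CommRingCat.of S') ⟶ Spec (CommRingCat.of R') := Spec.map (CommRingCat.ofHom (algebraMap R' S'))
  haveI hk : Etale k := by
    haveI : Etale (Spec.map (CommRingCat.ofHom (algebraMap R R'))) :=
      (HasRingHomProperty.Spec_iff (P := @Etale)).2 (RingHom.etale_algebraMap.mpr inferInstance)
    infer_instance
  haveI hj : Flat j := by
    haveI : Flat (Spec.map (CommRingCat.ofHom (algebraMap S S'))) :=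
      (HasRingHomProperty.Spec_iff (P := @Flat)).2 (RingHom.flat_algebraMap_iff.2 inferInstance)
    infer_instance
  have hcomm : j ≫ f = π ≫ k := by
    simp only [j, k, π, Category.assoc, ← he]
    rw [← Spec.map_comp_assoc, ← Spec.map_comp_assoc]
    congr 2
    refine CommRingCat.hom_ext (RingHom.ext fun c => ?_)
    show algebraMap S S' (algebraMap R S c) = algebraMap R' S' (algebraMap R R' c)
    rw [← IsScalarTower.algebraMap_apply R S S', ← IsScalarTower.algebraMap_apply R R' S']
  have hjx : j ⟨q', hq'⟩ = x := by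
    rw [← hu, Scheme.Hom.comp_apply]
    congr 1
    obtain ⟨h, -⟩ := hnS.2
    exact PrimeSpectrum.ext h.over.symm
  have htop : (⊤ : (Spec (CommRingCat.of S')).Opens) ≤ j ⁻¹ᵁ V := fun w _ => by
    have h1 : j w ∈ W' := by
      show hW'.fromSpec (Spec.map (CommRingCat.ofHom (algebraMap S S')) w) ∈ W'
      exact hW'.range_fromSpec.le ⟨_, rfl⟩
    exact (hle' h1).1
  let t' : Γ(Spec (CommRingCat.of S'), π ⁻¹ᵁ ⊤) := j.appLE V ⊤ htop t
  have ht' : Dense.Killed (π ⁻¹ᵁ (k ⁻¹ᵁ W)) t' := fun w hw hwW => by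
    refine Dense.killed_appLE j htop ht w hw ?_
    show f (j w) ∈ W
    rw [← Scheme.Hom.comp_apply, hcomm]
    exact hwW
  have h0 : t' = 0 := eq_zero_of_projective (A := CommRingCat.of R') (B := CommRingCat.of S')
    (Dense.preimage_etale k hW) ⊤ t' ht'
  subst hjx
  apply Groth.Agent.H22Alg.stalkMap_injective_of_flat j ⟨q', hq'⟩
  rw [map_zero]
  refine (Dense.killed_appLE.germ_appLE j htop ⟨q', hq'⟩ trivial).symm.trans ?_
  show (Spec (CommRingCat.of S')).presheaf.germ (π ⁻¹ᵁ ⊤) _ _ t' = 0
  rw [h0, map_zero]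

end Groth.Agent.H05EGA4.DensePure
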