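import Mathlib

/-!
Finiteness of the integral closure in a radical extension cut out by a derivation.
-/

set_option autoImplicit false
set_option linter.style.haveILetI false
universe u
open Polynomial

namespace Groth.Agent.H05EGA4.DerivationRadical

variable {R K : Type u} [CommRing R] [IsDomain R] [IsIntegrallyClosed R] [Field K] [Algebra R K] [IsFractionRing R K]
  (p : ℕ) [Fact p.Prime] [CharP K p] (D : Derivation ℤ K K)

theorem derivation_pow_mul (c z : K) : D (c ^ p * z) = c ^ p * D z := by
  rw [D.leibniz, D.leibniz_pow, smul_eq_mul, smul_eq_mul, ← Nat.cast_smul_eq_nsmul K, CharP.cast_eq_zero K p,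
    zero_smul, mul_zero, add_zero]

/-- `z` has a denominator `δ ^ (p * M)`. -/
def InS (δ : K) (M : ℕ) (z : K) : Prop := δ ^ (p * M) * z ∈ (algebraMap R K).range

variable {p D}

omit [IsDomain R] [IsIntegrallyClosed R] [IsFractionRing R K] [Fact p.Prime] [CharP K p] in
theorem InS.mono {δ : K} (hδ : δ ∈ (algebraMap R K).range) {M N : ℕ} (h : M ≤ N) {z : K}
    (hz : InS (R := R) p δ M z) : InS (R := R) p δ N z := by
  obtain ⟨j, rfl⟩ := Nat.exists_eq_add_of_le h
  rw [InS, mul_add, pow_add, mul_comm (δ ^ (p * M)), mul_assoc]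
  exact mul_mem (pow_mem hδ _) hz

theorem exists_bound (hD : ∀ r : R, D (algebraMap R K r) ∈ (algebraMap R K).range) (a : K)
    (ha : a ∈ (algebraMap R K).range) (hne : D a ≠ 0) :
    ∀ n ≤ p, ∀ M, ∃ N, ∀ c : ℕ → K, InS (R := R) p (D a) M (∑ i ∈ Finset.range n, c i ^ p * a ^ i) →
      ∀ i < n, (D a) ^ N * c i ∈ (algebraMap R K).range := by
  have hp := (Fact.out : p.Prime)
  have hδ : D a ∈ (algebraMap R K).range := by obtain ⟨r, rfl⟩ := ha; exact hD r
  intro n
  induction n with
  | zero => exact fun _ M => ⟨0, fun c _ i hi => absurd hi (Nat.not_lt_zero i)⟩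
  | succ n ih =>
    intro hn M
    obtain ⟨N, hN⟩ := ih (by omega) (M + 1)
    refine ⟨max M N, fun c hc => ?_⟩
    -- the operator `δ⁻¹ D`
    have hE : InS (R := R) p (D a) (M + 1) ((D a)⁻¹ * D (∑ i ∈ Finset.range (n + 1), c i ^ p * a ^ i)) := by
      obtain ⟨r, hr⟩ := hc
      obtain ⟨s, hs⟩ := hD r
      refine (?_ : _ ∈ (algebraMap R K).range)
      rw [hr, mul_comm p M, pow_mul, derivation_pow_mul, ← pow_mul, mul_comm M p] at hs
      obtain ⟨q, hq⟩ : ∃ q, p = q + 1 := ⟨p - 1, by have := hp.pos; omega⟩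
      have h3 : (D a) ^ (p * (M + 1)) * ((D a)⁻¹ * D (∑ i ∈ Finset.range (n + 1), c i ^ p * a ^ i)) =
          (D a) ^ q * algebraMap R K s := by
        rw [hs, mul_add, mul_one, pow_add]
        conv_lhs => arg 1; arg 2; rw [hq, pow_succ]
        field_simp
      rw [h3]
      exact mul_mem (pow_mem hδ _) ⟨s, rfl⟩
    have hEsum : (D a)⁻¹ * D (∑ i ∈ Finset.range (n + 1), c i ^ p * a ^ i) =
        ∑ i ∈ Finset.range n, (((i + 1 : ℕ) : K) * c (i + 1)) ^ p * a ^ i := by
      rw [map_sum, Finset.sum_range_succ', derivation_pow_mul, pow_zero, D.map_one_eq_zero, mul_zero, add_zero,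
        Finset.mul_sum]
      refine Finset.sum_congr rfl fun i _ => ?_
      have hcast : ((i + 1 : ℕ) : K) ^ p = ((i + 1 : ℕ) : K) := by
        haveI : ExpChar K p := ExpChar.prime hp
        exact map_natCast (frobenius K p) (i + 1)
      rw [derivation_pow_mul, D.leibniz_pow, mul_pow, hcast, smul_eq_mul, nsmul_eq_mul, Nat.add_sub_cancel]
      field_simp
    rw [hEsum] at hE
    have hstep : ∀ i, i < n → (D a) ^ N * c (i + 1) ∈ (algebraMap R K).range := by
      intro i hi
      have h1 := hN _ hE i hi
      have hlt : i + 1 < p := by omega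
      have hne' : ((i + 1 : ℕ) : K) ≠ 0 := fun h =>
        absurd ((CharP.cast_eq_zero_iff K p _).mp h) (fun hd => absurd (Nat.le_of_dvd (by omega) hd) (by omega))
      have hpm : ((i + 1 : ℕ) : K) ^ (p - 1) = 1 := by
        haveI : ExpChar K p := ExpChar.prime hp
        have hcast : ((i + 1 : ℕ) : K) ^ p = ((i + 1 : ℕ) : K) := map_natCast (frobenius K p) (i + 1)
        refine mul_left_cancel₀ hne' ?_
        rw [← pow_succ', mul_one, Nat.sub_add_cancel hp.pos, hcast]
      have h2 : (D a) ^ N * c (i + 1) =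
          ((i + 1 : ℕ) : K) ^ (p - 2) * ((D a) ^ N * (((i + 1 : ℕ) : K) * c (i + 1))) := by
        have h5 : ((i + 1 : ℕ) : K) ^ (p - 2) * ((i + 1 : ℕ) : K) = 1 := by
          rw [← pow_succ, show p - 2 + 1 = p - 1 by have := hp.two_le; omega]; exact hpm
        linear_combination ((D a) ^ N * c (i + 1)) * h5.symm
      rw [h2]
      exact mul_mem (pow_mem (natCast_mem _ _) _) h1
    intro i hi
    rcases Nat.eq_zero_or_pos i with rfl | hpos
    · have hrest : InS (R := R) p (D a) (max M N) (c 0 ^ p) := by
        have h1 : InS (R := R) p (D a) (max M N) (∑ i ∈ Finset.range (n + 1), c i ^ p * a ^ i) :=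
          InS.mono hδ (le_max_left M N) hc
        have h2 : InS (R := R) p (D a) (max M N) (∑ i ∈ Finset.range n, c (i + 1) ^ p * a ^ (i + 1)) := by
          rw [InS, Finset.mul_sum]
          refine sum_mem fun i hi => ?_
          have : InS (R := R) p (D a) N (c (i + 1) ^ p * a ^ (i + 1)) := by
            rw [InS, ← mul_assoc, mul_comm p N, pow_mul, ← mul_pow]
            exact mul_mem (pow_mem (hstep i (Finset.mem_range.mp hi)) p) (pow_mem ha _)
          exact InS.mono hδ (le_max_right M N) this
        rw [InS, Finset.sum_range_succ', pow_zero, mul_one, mul_add] at h1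
        have := sub_mem h1 h2
        rwa [add_sub_cancel_left] at this
      rw [InS, mul_comm p, pow_mul, ← mul_pow] at hrest
      have hint : IsIntegral R ((D a) ^ max M N * c 0) :=
        IsIntegral.of_pow hp.pos (by obtain ⟨r, hr⟩ := hrest; rw [← hr]; exact isIntegral_algebraMap)
      exact IsIntegrallyClosed.algebraMap_eq_of_integral hint
    · obtain ⟨j, rfl⟩ : ∃ j, i = j + 1 := ⟨i - 1, by omega⟩
      obtain ⟨d, hd⟩ := Nat.exists_eq_add_of_le (le_max_right M N)
      rw [hd, pow_add, mul_comm ((D a) ^ N), mul_assoc]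
      exact mul_mem (pow_mem hδ _) (hstep j (by omega))

theorem finite_integralClosure [IsNoetherianRing R] (hD : ∀ r : R, D (algebraMap R K r) ∈ (algebraMap R K).range)
    (a : K) (ha : D a ≠ 0) (L : Type u) [Field L] [Algebra K L] [Algebra R L] [IsScalarTower R K L] (x : L)
    (hx : x ^ p = algebraMap K L a) (hgen : IntermediateField.adjoin K {x} = ⊤) :
    Module.Finite R (integralClosure R L) := by
  classical
  have hp := (Fact.out : p.Prime)
  haveI : ExpChar K p := ExpChar.prime hp
  haveI : CharP L p := charP_of_injective_algebraMap (algebraMap K L).injective p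
  haveI : ExpChar L p := ExpChar.prime hp
  obtain ⟨u, v, hv, huv⟩ := IsFractionRing.div_surjective (A := R) a
  let w := algebraMap R K v
  have hw : w ≠ 0 := IsFractionRing.to_map_ne_zero_of_mem_nonZeroDivisors hv
  let a' := w ^ p * a
  have ha'R : a' ∈ (algebraMap R K).range := by
    refine ⟨v ^ (p - 1) * u, ?_⟩
    rw [map_mul, map_pow, show a' = w ^ p * a from rfl, ← huv]
    obtain ⟨q, hq⟩ : ∃ q, p = q + 1 := ⟨p - 1, by have := hp.pos; omega⟩
    rw [hq, Nat.add_sub_cancel, pow_succ]
    have hv' : algebraMap R K v ≠ 0 := hw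
    simp only [w]
    field_simp
  have ha' : D a' ≠ 0 := by
    rw [derivation_pow_mul]; exact mul_ne_zero (pow_ne_zero _ hw) ha
  obtain ⟨N, hN⟩ := exists_bound hD a' ha'R ha' p le_rfl 0
  let y := algebraMap K L w * x
  have hy : y ^ p = algebraMap K L a' := by rw [mul_pow, hx, map_mul, map_pow]
  let f : K[X] := X ^ p - C a'
  have hf : f.Monic := monic_X_pow_sub_C a' hp.ne_zero
  have hfy : aeval y f = 0 := by simp [f, hy]
  have hspan : ∀ z : L, ∃ c : ℕ → K, z = ∑ i ∈ Finset.range p, algebraMap K L (c i) * y ^ i := by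
    intro z
    have hxy : IntermediateField.adjoin K {x} ≤ IntermediateField.adjoin K {y} := by
      rw [IntermediateField.adjoin_simple_le_iff]
      have : x = algebraMap K L w⁻¹ * y := by
        rw [show y = algebraMap K L w * x from rfl, ← mul_assoc, ← map_mul, inv_mul_cancel₀ hw, map_one, one_mul]
      rw [this]
      exact mul_mem (IntermediateField.algebraMap_mem _ _) (IntermediateField.mem_adjoin_simple_self K y)
    have hz : z ∈ IntermediateField.adjoin K {y} := hxy (hgen ▸ IntermediateField.mem_top)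
    have hint : IsIntegral K y := ⟨f, hf, hfy⟩
    rw [← IntermediateField.mem_toSubalgebra, IntermediateField.adjoin_simple_toSubalgebra_of_isAlgebraic hint.isAlgebraic,
      Algebra.adjoin_singleton_eq_range_aeval] at hz
    obtain ⟨g, rfl⟩ := hz
    refine ⟨fun i => (g %ₘ f).coeff i, ?_⟩
    conv_lhs => rw [← Polynomial.modByMonic_add_div g f]
    show aeval y _ = _
    rw [map_add, map_mul, hfy, zero_mul, add_zero]
    rw [Polynomial.aeval_eq_sum_range' (n := p) ?_]
    · exact Finset.sum_congr rfl fun i _ => Algebra.smul_def _ _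
    · have h1 := Polynomial.natDegree_modByMonic_lt g hf (fun h => by
        have := congrArg natDegree h; rw [natDegree_X_pow_sub_C, natDegree_one] at this; exact hp.ne_zero this)
      rwa [natDegree_X_pow_sub_C] at h1
  let S : Submodule R L := Submodule.span R
    ((Finset.range p).image fun i => algebraMap K L ((D a') ^ N)⁻¹ * y ^ i : Finset L)
  have hle : Subalgebra.toSubmodule (integralClosure R L) ≤ S := by
    intro z hz
    obtain ⟨c, hc⟩ := hspan z
    have hzp : z ^ p = algebraMap K L (∑ i ∈ Finset.range p, c i ^ p * a' ^ i) := by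
      rw [hc, sum_pow_char, map_sum]
      refine Finset.sum_congr rfl fun i _ => ?_
      rw [mul_pow, map_mul, map_pow, map_pow, ← hy, ← pow_mul, ← pow_mul, mul_comm i p]
    have hint : IsIntegral R (algebraMap K L (∑ i ∈ Finset.range p, c i ^ p * a' ^ i)) := by
      rw [← hzp]; exact IsIntegral.pow hz p
    rw [isIntegral_algebraMap_iff (algebraMap K L).injective] at hint
    obtain ⟨r, hr⟩ := IsIntegrallyClosed.algebraMap_eq_of_integral hint
    have h0 : InS (R := R) p (D a') 0 (∑ i ∈ Finset.range p, c i ^ p * a' ^ i) := by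
      rw [InS, mul_zero, pow_zero, one_mul]; exact ⟨r, hr⟩
    rw [hc]
    refine sum_mem fun i hi => ?_
    obtain ⟨s, hs⟩ := hN c h0 i (Finset.mem_range.mp hi)
    have : algebraMap K L (c i) * y ^ i = s • (algebraMap K L ((D a') ^ N)⁻¹ * y ^ i) := by
      rw [Algebra.smul_def, IsScalarTower.algebraMap_apply R K L, hs, ← mul_assoc, ← map_mul]
      congr 2
      field_simp
    rw [this]
    exact S.smul_mem _ (Submodule.subset_span (Finset.mem_coe.mpr (Finset.mem_image_of_mem _ hi)))
  haveI : Module.Finite R S := Module.Finite.span_of_finite R (Finset.finite_toSet _)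
  exact Module.Finite.of_injective (Submodule.inclusion hle) (Submodule.inclusion_injective hle)

end Groth.Agent.H05EGA4.DerivationRadical
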