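import Mathlib
import Groth.Agent.H05EGA4.HullCompletion
import Groth.Agent.H05EGA4.FormalCatenary
import Groth.Agent.H05EGA4.Ratliff
import Groth.Agent.H06EGA14.CatenaryFormula
import Groth.Agent.H1CAlg.Associated
import Groth.Agent.S2069

/-!
Formally strictly catenary rings (EGA IV 7.2.5).
-/

set_option autoImplicit false
universe u
open IsLocalRing
open scoped TensorProduct Pointwise

namespace Groth.Agent.H05EGA4.FormalStrict

theorem ass_map_of_surjective {R S : Type u} [CommRing R] [CommRing S] [IsNoetherianRing R] [IsNoetherianRing S] (f : R →+* S)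
    (hf : Function.Surjective f) {Q : Ideal R} (hQ : Q ∈ associatedPrimes R (R ⧸ RingHom.ker f)) :
    RingHom.ker f ≤ Q ∧ Q.map f ∈ associatedPrimes S S := by
  obtain ⟨hQp, c, hc⟩ := isAssociatedPrime_iff.mp hQ
  obtain ⟨x, rfl⟩ := Ideal.Quotient.mk_surjective c
  have hmem : ∀ r : R, r ∈ Q ↔ f r * f x = 0 := fun r => by
    rw [hc, Submodule.mem_colon_singleton, Submodule.mem_bot, ← map_mul, ← RingHom.mem_ker,
      ← Ideal.Quotient.eq_zero_iff_mem]
    exact Iff.rfl
  have hker : RingHom.ker f ≤ Q := fun r hr => (hmem r).mpr (by rw [RingHom.mem_ker.mp hr, zero_mul])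
  refine ⟨hker, isAssociatedPrime_iff.mpr ⟨Ideal.map_isPrime_of_surjective hf hker, f x, ?_⟩⟩
  ext s
  obtain ⟨r, rfl⟩ := hf s
  rw [Submodule.mem_colon_singleton, Submodule.mem_bot, smul_eq_mul, ← hmem, ← Ideal.mem_comap,
    Ideal.comap_map_of_surjective f hf, ← RingHom.ker_eq_comap_bot, sup_eq_left.2 hker]

theorem catenary_of_univ {A : Type u} [CommRing A] (hA : CAlg.IsUniversallyCatenary A) : CAlg.IsCatenary A :=
  hA.2 A inferInstance

theorem height_le_of_flat {A B : Type u} [CommRing A] [CommRing B] [Algebra A B] [Module.Flat A B]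
    [IsNoetherianRing A] [IsNoetherianRing B] (Q : Ideal B) [Q.IsPrime] :
    (Q.comap (algebraMap A B)).height ≤ Q.height := by
  haveI : Q.LiesOver (Q.comap (algebraMap A B)) := ⟨rfl⟩
  haveI : Algebra.HasGoingDown A B := inferInstance
  rw [Ideal.height_eq_height_add_of_liesOver_of_hasGoingDown (Q.comap (algebraMap A B)) (P := Q)]
  exact le_self_add

/-- A minimal prime over an associated prime and a regular element is associated modulo that element. -/
theorem mem_associatedPrimes_of_minimal {R M : Type u} [CommRing R] [IsNoetherianRing R] [AddCommGroup M]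
    [Module R M] [Module.Finite R M] {r : Ideal R} (hr : r ∈ associatedPrimes R M) {b : R}
    (hb : IsSMulRegular M b) {Q : Ideal R} (hQ : Q ∈ (r ⊔ Ideal.span {b}).minimalPrimes) :
    Q ∈ associatedPrimes R (QuotSMulTop b M) := by
  haveI := hQ.1.1
  obtain ⟨hrp, z, hz⟩ := isAssociatedPrime_iff.mp hr
  have hmemr : ∀ a, a ∈ r ↔ a • z = 0 := fun a => by
    rw [hz, Submodule.mem_colon_singleton, Submodule.mem_bot]
  let T : Submodule R M := Submodule.torsionBySet R M (r : Set R)
  haveI : Module.Finite R T := Module.Finite.iff_fg.2 (IsNoetherian.noetherian T)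
  have hzT : z ∈ T := (Submodule.mem_torsionBySet_iff _ _).mpr fun a => (hmemr a.1).mp a.2
  let g : QuotSMulTop b T →ₗ[R] QuotSMulTop b M := Submodule.mapQ _ _ T.subtype (by
    rintro t ht
    obtain ⟨t', -, rfl⟩ := (Submodule.mem_smul_pointwise_iff_exists _ _ _).mp ht
    exact Submodule.smul_mem_pointwise_smul _ b ⊤ trivial)
  have hg : Function.Injective g := by
    refine (injective_iff_map_eq_zero g).mpr fun t ht => ?_
    obtain ⟨t, rfl⟩ := Submodule.Quotient.mk_surjective _ t
    change (Submodule.Quotient.mk (t : M) : QuotSMulTop b M) = 0 at ht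
    rw [Submodule.Quotient.mk_eq_zero] at ht
    obtain ⟨m, -, hm⟩ := (Submodule.mem_smul_pointwise_iff_exists _ _ _).mp ht
    have hmT : m ∈ T := (Submodule.mem_torsionBySet_iff _ _).mpr fun a => hb.right_eq_zero_of_smul (by
      rw [smul_comm, hm]
      exact (Submodule.mem_torsionBySet_iff _ _).mp t.2 a)
    rw [Submodule.Quotient.mk_eq_zero]
    exact (Submodule.mem_smul_pointwise_iff_exists _ _ _).mpr ⟨⟨m, hmT⟩, trivial, Subtype.ext hm⟩
  refine associatedPrimes.subset_of_injective (f := g) hg ?_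
  have hann : ∀ a ∈ r, a ∈ Module.annihilator R (QuotSMulTop b T) := fun a ha => by
    rw [Module.mem_annihilator]
    intro t
    obtain ⟨t, rfl⟩ := Submodule.Quotient.mk_surjective _ t
    rw [← Submodule.Quotient.mk_smul, show a • t = 0 from Subtype.ext
      ((Submodule.mem_torsionBySet_iff _ _).mp t.2 ⟨a, ha⟩), Submodule.Quotient.mk_zero]
  have hle : r ⊔ Ideal.span {b} ≤ Module.annihilator R (QuotSMulTop b T) := by
    refine sup_le hann ((Ideal.span_singleton_le_iff_mem _).mpr ?_)
    rw [Module.mem_annihilator]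
    intro t
    obtain ⟨t, rfl⟩ := Submodule.Quotient.mk_surjective _ t
    rw [← Submodule.Quotient.mk_smul, Submodule.Quotient.mk_eq_zero]
    exact Submodule.smul_mem_pointwise_smul _ b ⊤ trivial
  have hQs : Module.annihilator R (QuotSMulTop b T) ≤ Q := by
    have hQsupp : (⟨Q, hQ.1.1⟩ : PrimeSpectrum R) ∈ Module.support R T := by
      rw [Module.mem_support_iff_of_finite]
      intro a ha
      refine hQ.1.2 (Submodule.mem_sup_left ((hmemr a).mpr ?_))
      exact congrArg Subtype.val (Module.mem_annihilator.mp ha ⟨z, hzT⟩)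
    have h1 : (⟨Q, hQ.1.1⟩ : PrimeSpectrum R) ∈ Module.support R (QuotSMulTop b T) := by
      rw [Module.support_quotSMulTop]
      exact ⟨hQsupp, by simpa using hQ.1.2 (Submodule.mem_sup_right (Ideal.mem_span_singleton_self b))⟩
    exact Module.mem_support_iff_of_finite.mp h1
  refine Module.associatedPrimes.minimalPrimes_annihilator_subset_associatedPrimes R (QuotSMulTop b T)
    ⟨⟨hQ.1.1, hQs⟩, fun P hP hPQ => ?_⟩
  exact hQ.2 ⟨hP.1, hle.trans hP.2⟩ hPQ

theorem strictly_aux : ∀ (n : ℕ) (A : Type u) [CommRing A] [IsDomain A] [IsNoetherianRing A] [IsLocalRing A],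
    CAlg.IsUniversallyCatenary A → (∀ (p : Ideal A) [p.IsPrime], EGA4.HeightOneHullFinite (A ⧸ p)) →
      ringKrullDim A ≤ (n : WithBot ℕ∞) → EGA4.IsStrictlyEquidim (EGA4.Cpl A) := by
  intro n
  induction n using Nat.strong_induction_on with
  | _ n ih =>
  intro A _ _ _ _ hcat hhull hn r hr
  haveI := HullCompletion.isNoetherianRing_cpl A
  haveI := HullCompletion.faithfullyFlat_cpl A
  haveI := hr.isPrime
  set C := EGA4.Cpl A
  have hdimC : ringKrullDim C = ringKrullDim A := ringKrullDim_adicCompletion A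
  refine le_antisymm (ringKrullDim_quotient_le r) ?_
  rw [hdimC]
  by_contra hlt
  rw [not_le] at hlt
  obtain ⟨d, hd⟩ := exists_nat_dim_quotient_eq r
  haveI : (⊥ : Ideal A).IsPrime := Ideal.isPrime_bot
  obtain ⟨N, hN'⟩ := exists_nat_dim_quotient_eq (⊥ : Ideal A)
  have hN : ringKrullDim A = (N : WithBot ℕ∞) := by
    rw [← hN']; exact (ringKrullDim_eq_of_ringEquiv (RingEquiv.quotientBot A)).symm
  rw [hd, hN] at hlt
  have hdN : d < N := by exact_mod_cast hlt
  have hNn : N ≤ n := by rw [hN] at hn; exact_mod_cast hn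
  have hreg : ∀ a : A, a ≠ 0 → IsSMulRegular C (algebraMap A C a) := fun a ha =>
    (show IsSMulRegular A a from fun x y e => mul_left_cancel₀ ha e).of_flat (S := C)
  have hrnot : ∀ a : A, a ≠ 0 → algebraMap A C a ∉ r := fun a ha hmem =>
    H4Depth.not_isSMulRegular_of_mem_associatedPrimes hr hmem (hreg a ha)
  -- the maximal ideal of `A` is nonzero
  have hm0 : maximalIdeal A ≠ ⊥ := fun h => by
    have h0 : ringKrullDim A = 0 := ringKrullDim_eq_zero_of_isField (IsLocalRing.isField_iff_maximalIdeal_eq.mpr h)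
    rw [hN] at h0
    have : N = 0 := by exact_mod_cast h0
    omega
  obtain ⟨b, hbm, hb0⟩ := Submodule.exists_mem_ne_zero_of_ne_bot hm0
  have hbC : algebraMap A C b ∈ maximalIdeal C := by
    rw [AdicCompletion.maximalIdeal_eq_map]
    exact Ideal.mem_map_of_mem _ hbm
  obtain ⟨Q, hQ, -⟩ := Ideal.exists_minimalPrimes_le
    (sup_le (le_maximalIdeal hr.isPrime.ne_top) ((Ideal.span_singleton_le_iff_mem _).mpr hbC) :
      r ⊔ Ideal.span {algebraMap A C b} ≤ maximalIdeal C)
  haveI hQp : Q.IsPrime := hQ.1.1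
  have hrQ : r ≤ Q := le_sup_left.trans hQ.1.2
  have hbQ : algebraMap A C b ∈ Q := hQ.1.2 (Submodule.mem_sup_right (Ideal.mem_span_singleton_self _))
  -- the height of `Q/r` is one
  have hQr : (Q.map (Ideal.Quotient.mk r)).height ≤ 1 := by
    haveI : (Q.map (Ideal.Quotient.mk r)).IsPrime :=
      Ideal.map_isPrime_of_surjective Ideal.Quotient.mk_surjective (by rw [Ideal.mk_ker]; exact hrQ)
    refine Ideal.height_le_one_of_isPrincipal_of_mem_minimalPrimes
      (Ideal.span {Ideal.Quotient.mk r (algebraMap A C b)}) _ ⟨⟨inferInstance, ?_⟩, fun P hP hPQ => ?_⟩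
    · exact (Ideal.span_singleton_le_iff_mem _).mpr (Ideal.mem_map_of_mem _ hbQ)
    · haveI := hP.1
      have h1 : Q ≤ P.comap (Ideal.Quotient.mk r) := hQ.2 ⟨Ideal.IsPrime.comap _, sup_le
        (fun x hx => by rw [Ideal.mem_comap, Ideal.Quotient.eq_zero_iff_mem.mpr hx]; exact zero_mem _)
        ((Ideal.span_singleton_le_iff_mem _).mpr (hP.2 (Ideal.mem_span_singleton_self _)))⟩ (by
        refine (Ideal.comap_mono hPQ).trans ?_
        rw [Ideal.comap_map_of_surjective _ Ideal.Quotient.mk_surjective, ← RingHom.ker_eq_comap_bot,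
          Ideal.mk_ker, sup_eq_left.2 hrQ])
      exact Ideal.map_le_iff_le_comap.mpr h1
  have hCcat : CAlg.IsCatenary C := isCatenary_of_isAdicComplete C
  haveI : IsLocalRing (C ⧸ r) := IsLocalRing.of_surjective' _ Ideal.Quotient.mk_surjective
  have hform : ((Q.map (Ideal.Quotient.mk r)).height : WithBot ℕ∞) + ringKrullDim (C ⧸ Q) = (d : WithBot ℕ∞) := by
    haveI : (Q.map (Ideal.Quotient.mk r)).IsPrime :=
      Ideal.map_isPrime_of_surjective Ideal.Quotient.mk_surjective (by rw [Ideal.mk_ker]; exact hrQ)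
    rw [← hd, ← height_add_dim_eq_of_isEquidim (isCatenary_of_surjective _ Ideal.Quotient.mk_surjective hCcat)
      (isEquidim_of_isDomain (C ⧸ r)) (Q.map (Ideal.Quotient.mk r)), dimQuotQuot hrQ]
  obtain ⟨dQ, hdQ⟩ := exists_nat_dim_quotient_eq Q
  obtain ⟨hQn, hQhn⟩ : ∃ k : ℕ, (k : ℕ∞) = (Q.map (Ideal.Quotient.mk r)).height :=
    ENat.ne_top_iff_exists.mp (ne_top_of_le_ne_top ENat.one_ne_top hQr)
  have hQn0 : hQn ≠ 0 := by
    intro h0
    rw [h0, Nat.cast_zero] at hQhn
    haveI : (Q.map (Ideal.Quotient.mk r)).IsPrime :=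
      Ideal.map_isPrime_of_surjective Ideal.Quotient.mk_surjective (by rw [Ideal.mk_ker]; exact hrQ)
    have h1 := Ideal.height_eq_zero_iff_eq_bot.mp hQhn.symm
    have h2 := Ideal.mem_map_of_mem (Ideal.Quotient.mk r) hbQ
    rw [h1, Ideal.mem_bot, Ideal.Quotient.eq_zero_iff_mem] at h2
    exact hrnot b hb0 h2
  -- the contraction of `Q`
  set P := Q.comap (algebraMap A C) with hP
  haveI : P.IsPrime := Ideal.IsPrime.comap _
  have hPh : P.height = 1 := by
    refine le_antisymm ?_ (Order.one_le_iff_ne_zero.mpr fun h0 => ?_)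
    · by_contra h2
      rw [not_le, ← ENat.add_one_le_iff ENat.one_ne_top, one_add_one_eq_two] at h2
      have h3 := (HullCompletion.heightOneHullFinite_iff_completion A).mp
        (H17.ZFinite.heightOneHullFinite_of_ringEquiv (RingEquiv.quotientBot A) (hhull ⊥)) r hr Q hrQ h2
      exact absurd (h3.trans hQr) (by norm_num)
    · exact hb0 ((Submodule.mem_bot A).mp (Ideal.height_eq_zero_iff_eq_bot.mp h0 ▸ hbQ))
  have hPdim : ((P.height : ℕ∞) : WithBot ℕ∞) + ringKrullDim (A ⧸ P) = (N : WithBot ℕ∞) := by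
    rw [← hN, height_add_dim_eq_of_isEquidim (catenary_of_univ hcat) (isEquidim_of_isDomain A) P]
  obtain ⟨dP, hdP⟩ := exists_nat_dim_quotient_eq P
  rw [hPh, hdP] at hPdim
  have hP1 : 1 + dP = N := by exact_mod_cast hPdim
  rw [← hQhn, hdQ] at hform
  have hQ1 : hQn + dQ = d := by exact_mod_cast hform
  -- `Q` is associated to `C/PC`
  have hQass : Q ∈ associatedPrimes C (C ⧸ P.map (algebraMap A C)) := by
    have h1 := mem_associatedPrimes_of_minimal (M := C) hr (hreg b hb0) hQ
    have e1 : QuotSMulTop (algebraMap A C b) C ≃ₗ[C] C ⊗[A] (A ⧸ Ideal.span {b}) :=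
      (Submodule.quotEquivOfEq _ _ (by
        rw [Ideal.map_span, Set.image_singleton]
        ext x
        rw [Submodule.mem_smul_pointwise_iff_exists, Ideal.mem_span_singleton']
        exact ⟨fun ⟨y, _, hy⟩ => ⟨y, by rw [← hy, smul_eq_mul, mul_comm]⟩,
          fun ⟨y, hy⟩ => ⟨y, trivial, by rw [smul_eq_mul, mul_comm, hy]⟩⟩)).trans
        (Algebra.TensorProduct.quotIdealMapEquivTensorQuot C (Ideal.span {b})).toLinearEquiv
    rw [LinearEquiv.AssociatedPrimes.eq e1, S2069.result] at h1
    obtain ⟨P', hP', hQP'⟩ := Set.mem_iUnion₂.mp h1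
    haveI := hP'.isPrime
    have hPP' : P' ≤ P := fun x hx => by
      obtain ⟨-, c, hc⟩ := isAssociatedPrime_iff.mp hQP'
      obtain ⟨c, rfl⟩ := Submodule.Quotient.mk_surjective _ c
      show algebraMap A C x ∈ Q
      rw [hc, Submodule.mem_colon_singleton, Submodule.mem_bot, ← Submodule.Quotient.mk_smul,
        Submodule.Quotient.mk_eq_zero]
      exact Submodule.smul_mem_smul (Ideal.mem_map_of_mem _ hx) trivial
    have hP'eq : P' = P := by
      refine le_antisymm hPP' ?_
      by_contra hne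
      have hlt' : P' < P := lt_of_le_not_ge hPP' hne
      have := Ideal.height_add_one_le_of_lt_of_isPrime hlt'
      rw [hPh] at this
      have h0 : P'.height = 0 := by
        rcases eq_or_ne P'.height 0 with h0 | h0
        · exact h0
        · exact absurd ((add_le_add_left (Order.one_le_iff_ne_zero.mpr h0) 1).trans this) (by norm_num)
      rw [Ideal.height_eq_zero_iff_eq_bot] at h0
      obtain ⟨-, c, hc⟩ := isAssociatedPrime_iff.mp hP'
      have hb' : b ∈ P' := by
        obtain ⟨c, rfl⟩ := Ideal.Quotient.mk_surjective c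
        rw [hc, Submodule.mem_colon_singleton, Submodule.mem_bot]
        show Ideal.Quotient.mk _ (b * c) = 0
        rw [Ideal.Quotient.eq_zero_iff_mem]
        exact Ideal.mul_mem_right _ _ (Ideal.mem_span_singleton_self b)
      exact hb0 ((Submodule.mem_bot A).mp (h0 ▸ hb'))
    subst hP'eq
    rw [LinearEquiv.AssociatedPrimes.eq (Submodule.quotEquivOfEq _ _ (by
      rw [smul_eq_mul, Ideal.mul_top]) : (C ⧸ P.map (algebraMap A C) • (⊤ : Submodule C C)) ≃ₗ[C]
        C ⧸ P.map (algebraMap A C))] at hQP'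
    exact hQP'
  -- the induction
  haveI : IsLocalRing (A ⧸ P) := IsLocalRing.of_surjective' _ Ideal.Quotient.mk_surjective
  obtain ⟨e⟩ := exists_completion_quotient_equiv (maximalIdeal A) (A ⧸ P) (Ideal.Quotient.mk P)
    Ideal.Quotient.mk_surjective (maximalIdeal (A ⧸ P))
    (IsLocalRing.map_maximalIdeal_of_surjective _ Ideal.Quotient.mk_surjective)
  let ψ : C →+* EGA4.Cpl (A ⧸ P) := e.toRingHom.comp (Ideal.Quotient.mk _)
  have hψ : Function.Surjective ψ := e.surjective.comp Ideal.Quotient.mk_surjective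
  have hψk : RingHom.ker ψ = P.map (algebraMap A C) := by
    ext x
    simp [ψ, RingHom.mem_ker, Ideal.Quotient.eq_zero_iff_mem, Ideal.mk_ker]
    rfl
  haveI := HullCompletion.isNoetherianRing_cpl (A ⧸ P)
  rw [← hψk] at hQass
  obtain ⟨hker, hmap⟩ := ass_map_of_surjective ψ hψ hQass
  have hhull' : ∀ (p : Ideal (A ⧸ P)) [p.IsPrime], EGA4.HeightOneHullFinite ((A ⧸ P) ⧸ p) := fun p _ => by
    let f := (Ideal.Quotient.mk p).comp (Ideal.Quotient.mk P)
    have hf : Function.Surjective f := Ideal.Quotient.mk_surjective.comp Ideal.Quotient.mk_surjective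
    haveI : (RingHom.ker f).IsPrime := RingHom.ker_isPrime f
    exact H17.ZFinite.heightOneHullFinite_of_ringEquiv (RingHom.quotientKerEquivOfSurjective hf) (hhull _)
  have h2 := ih dP (by omega) (A ⧸ P)
    (H06EGA14.isUniversallyCatenary_of_surjective _ Ideal.Quotient.mk_surjective hcat) hhull' hdP.le _ hmap
  have h3 : ringKrullDim (EGA4.Cpl (A ⧸ P) ⧸ Q.map ψ) = ringKrullDim (C ⧸ Q) := by
    haveI := Ideal.map_isPrime_of_surjective hψ hker
    have hcm : (Q.map ψ).comap ψ = Q := by
      rw [Ideal.comap_map_of_surjective _ hψ, ← RingHom.ker_eq_comap_bot, sup_eq_left.2 hker]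
    have hk : RingHom.ker ((Ideal.Quotient.mk (Q.map ψ)).comp ψ) = Q := by
      rw [← RingHom.comap_ker, Ideal.mk_ker, hcm]
    exact ((ringKrullDim_eq_of_ringEquiv (Ideal.quotEquivOfEq hk.symm)).trans
      (ringKrullDim_eq_of_ringEquiv (RingHom.quotientKerEquivOfSurjective
        (f := (Ideal.Quotient.mk (Q.map ψ)).comp ψ) (Ideal.Quotient.mk_surjective.comp hψ)))).symm
  haveI := HullCompletion.isNoetherianRing_cpl (A ⧸ P)
  rw [h3, hdQ, ringKrullDim_adicCompletion, hdP] at h2
  have : dQ = dP := by exact_mod_cast h2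
  omega

theorem formallyStrictlyCatenary_iff (A : Type u) [CommRing A] [IsNoetherianRing A] [IsLocalRing A] :
    EGA4.IsFormallyStrictlyCatenary A ↔
      (CAlg.IsUniversallyCatenary A ∧ ∀ (p : Ideal A) [p.IsPrime], EGA4.HeightOneHullFinite (A ⧸ p)) := by
  constructor
  · intro h
    refine ⟨isUniversallyCatenary_of_isFormallyCatenary A fun p _ q hq => ?_, fun p hp => ?_⟩
    · haveI : IsLocalRing (A ⧸ p) := IsLocalRing.of_surjective' _ Ideal.Quotient.mk_surjective
      haveI := HullCompletion.isNoetherianRing_cpl (A ⧸ p)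
      refine h p q (Module.associatedPrimes.minimalPrimes_annihilator_subset_associatedPrimes _ _ ?_)
      rw [Module.annihilator_eq_bot.mpr inferInstance]
      exact hq
    · haveI : IsLocalRing (A ⧸ p) := IsLocalRing.of_surjective' _ Ideal.Quotient.mk_surjective
      set B := A ⧸ p
      refine HullCompletion.heightOneHullFinite_of_completion B fun p' hp' Q' hQ' hle hh => ?_
      haveI := HullCompletion.isNoetherianRing_cpl B
      haveI := HullCompletion.faithfullyFlat_cpl B
      haveI := hp'.isPrime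
      haveI := hQ'
      set C := EGA4.Cpl B
      have hCcat : CAlg.IsCatenary C := isCatenary_of_isAdicComplete C
      haveI : IsLocalRing (C ⧸ p') := IsLocalRing.of_surjective' _ Ideal.Quotient.mk_surjective
      haveI : (Q'.map (Ideal.Quotient.mk p')).IsPrime :=
        Ideal.map_isPrime_of_surjective Ideal.Quotient.mk_surjective (by rw [Ideal.mk_ker]; exact hle)
      have h1 := height_add_dim_eq_of_isEquidim (isCatenary_of_surjective _ Ideal.Quotient.mk_surjective hCcat)
        (isEquidim_of_isDomain (C ⧸ p')) (Q'.map (Ideal.Quotient.mk p'))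
      rw [dimQuotQuot hle] at h1
      have h2 := height_add_dim_quotient_le Q'
      have hp'dim : ringKrullDim (C ⧸ p') = ringKrullDim C := h p p' hp'
      rw [← hp'dim, ← h1] at h2
      obtain ⟨k, hk⟩ := exists_nat_dim_quotient_eq Q'
      obtain ⟨a, ha⟩ := exists_nat_height_eq Q'
      obtain ⟨c, hc⟩ := exists_nat_height_eq (Q'.map (Ideal.Quotient.mk p'))
      rw [hk, ha, hc] at h2
      have h3 : a + k ≤ c + k := by exact_mod_cast h2
      refine hh.trans ((height_le_of_flat Q').trans ?_)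
      rw [ha, hc]
      exact_mod_cast (by omega : a ≤ c)
  · rintro ⟨hcat, hhull⟩ p hp
    haveI : IsLocalRing (A ⧸ p) := IsLocalRing.of_surjective' _ Ideal.Quotient.mk_surjective
    have hhull' : ∀ (q : Ideal (A ⧸ p)) [q.IsPrime], EGA4.HeightOneHullFinite ((A ⧸ p) ⧸ q) := fun q _ => by
      let f := (Ideal.Quotient.mk q).comp (Ideal.Quotient.mk p)
      have hf : Function.Surjective f := Ideal.Quotient.mk_surjective.comp Ideal.Quotient.mk_surjective
      haveI : (RingHom.ker f).IsPrime := RingHom.ker_isPrime f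
      exact H17.ZFinite.heightOneHullFinite_of_ringEquiv (RingHom.quotientKerEquivOfSurjective hf) (hhull _)
    haveI : (⊥ : Ideal (A ⧸ p)).IsPrime := Ideal.isPrime_bot
    obtain ⟨N, hN⟩ := exists_nat_dim_quotient_eq p
    exact strictly_aux N (A ⧸ p)
      (H06EGA14.isUniversallyCatenary_of_surjective _ Ideal.Quotient.mk_surjective hcat) hhull' hN.le

end Groth.Agent.H05EGA4.FormalStrict
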