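import Mathlib
import Groth.Agent.H13AlgSp.Catenary
import Groth.Agent.H05EGA4.FormalStrict
import Groth.Agent.H05EGA4.DimFibre
import Groth.Agent.S2639

/-!
Fibres over an irreducible base of dimension one (helper5).
-/

set_option autoImplicit false
set_option linter.style.haveILetI false
universe u
open CategoryTheory AlgebraicGeometry
open Groth.Agent.H7Flat (evKer evKer_eq evKer_le_of_specializes)
open Groth.Agent.H8Props.FieldDim

namespace Groth.Agent.H05EGA4.DimOneBase

/-- In a space of dimension one every strict specialisation is immediate. -/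
theorem eq_or_eq_of_dim_one {T : Type u} [TopologicalSpace T] [T0Space T] (h : topologicalKrullDim T = 1)
    {a z b : T} (h1 : a ⤳ z) (h2 : z ⤳ b) : z = a ∨ z = b := by
  by_contra! hne
  let c : T → TopologicalSpace.IrreducibleCloseds T := fun x =>
    ⟨closure {x}, isIrreducible_singleton.closure, isClosed_closure⟩
  have hlt : ∀ {x y : T}, x ⤳ y → x ≠ y → c y < c x := fun {x y} hxy hne => by
    refine lt_of_le_of_ne (specializes_iff_closure_subset.1 hxy) fun e => hne ?_
    exact (hxy.antisymm (specializes_iff_closure_subset.2 (le_of_eq (congrArg (fun C : TopologicalSpace.IrreducibleCloseds T => (C : Set T)) e.symm)))).eq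
  let s : LTSeries (TopologicalSpace.IrreducibleCloseds T) :=
    ((RelSeries.singleton _ (c a)).cons (c z) (hlt h1 (Ne.symm hne.1))).cons (c b) (by simpa using hlt h2 hne.2)
  have := Order.LTSeries.length_le_krullDim s
  rw [show Order.krullDim (TopologicalSpace.IrreducibleCloseds T) = 1 from h] at this
  simp [s] at this

theorem isUniversallyCatenary_stalk {Y : Scheme.{u}} [IsLocallyNoetherian Y] (h : topologicalKrullDim Y = 1) (y : Y) :
    CAlg.IsUniversallyCatenary (Y.presheaf.stalk y) :=
  ((FormalStrict.formallyStrictlyCatenary_iff _).1 (S2639.result _ ((DimFibre.stalkDim_le_top y).trans h.le))).1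

variable {X Y : Scheme.{u}} (f : X ⟶ Y) [IsLocallyNoetherian Y] [IrreducibleSpace Y] [IrreducibleSpace X]
  [LocallyOfFiniteType f]

omit [IsLocallyNoetherian Y] [LocallyOfFiniteType f] in
theorem apply_genericPoint (hf : DenseRange f.base) : f (genericPoint X) = genericPoint Y := by
  have h : IsGenericPoint (f (genericPoint X)) (⊤ : Set Y) := by
    rw [isGenericPoint_def]
    refine top_le_iff.1 ?_
    rw [show (⊤ : Set Y) = closure (Set.range f.base) from hf.closure_range.symm]
    refine closure_minimal ?_ isClosed_closure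
    rintro _ ⟨x, rfl⟩
    exact ((genericPoint_specializes x).map f.continuous).mem_closure
  exact h.eq (genericPoint_spec Y)

theorem dim_genericFibre (hf : DenseRange f.base) :
    ∃ s : ℕ, topologicalKrullDim ↥(f.fiber (genericPoint Y)) = s ∧ Dual3.resTrdeg f (genericPoint X) = s := by
  obtain ⟨u, hu⟩ : ∃ u : f.fiber (genericPoint Y), f.fiberι _ u = genericPoint X := by
    have : genericPoint X ∈ Set.range (f.fiberι (genericPoint Y)) :=
      (f.range_fiberι (genericPoint Y)).symm.subset (apply_genericPoint f hf)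
    exact this
  obtain ⟨s, h1, h2⟩ := H12AlgSp.exists_nat_resTrdeg f u
  refine ⟨s, ?_, hu ▸ h2⟩
  rw [← h1, dim_eq_iSup_cdim]
  refine le_antisymm (iSup_le fun v => dim_mono (closure_minimal (Set.singleton_subset_iff.2 ?_) isClosed_closure))
    (le_iSup_of_le u le_rfl)
  exact ((f.fiberι _).isEmbedding.isInducing.specializes_iff.1 (hu ▸ genericPoint_specializes _)).mem_closure

theorem main (hY : topologicalKrullDim Y = 1) (hf : DenseRange f.base) (y : Y)
    (Z : Set ↥(f.fiber y)) (hZ : Z ∈ irreducibleComponents ↥(f.fiber y)) :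
    topologicalKrullDim Z = topologicalKrullDim ↥(f.fiber (genericPoint Y)) := by
  obtain ⟨E, hE, hE'⟩ := dim_genericFibre f hf
  obtain ⟨v, hv, -⟩ := mem_irreducibleComponents_iff hZ
  subst hv
  obtain ⟨s, hs, hs'⟩ := H12AlgSp.exists_nat_resTrdeg f v
  show cdim v = _
  rw [hs, hE]
  set ξ := f.fiberι y v with hξdef
  have hfξ : f ξ = y := (f.range_fiberι y).subset (Set.mem_range_self v)
  set x₀ := genericPoint X
  have hx₀ : f x₀ = genericPoint Y := apply_genericPoint f hf
  have hxξ : x₀ ⤳ ξ := genericPoint_specializes ξ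
  have hmax : ∀ w : X, w ⤳ ξ → f w = y → w = ξ := fun w hw hwy => by
    obtain ⟨w', rfl⟩ : w ∈ Set.range (f.fiberι y) := (f.range_fiberι y).symm.subset hwy
    have h := (f.fiberι y).isEmbedding.isInducing.specializes_iff.1 hw
    have h' : closure {w'} ⊆ closure {v} :=
      hZ.2 isIrreducible_singleton.closure (specializes_iff_closure_subset.1 h)
    exact congrArg _ (h.antisymm (specializes_iff_closure_subset.2 h')).eq.symm.symm
  rcases eq_or_ne (f ξ) (genericPoint Y) with hg | hg
  · have : x₀ = ξ := hmax _ hxξ (hx₀.trans (hg.symm.trans hfξ))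
    rw [this, hs'] at hE'
    exact_mod_cast (Nat.cast_injective hE' : s = E)
  haveI : IsLocallyNoetherian X := LocallyOfFiniteType.isLocallyNoetherian f
  obtain ⟨V, (hV : IsAffineOpen V), hyV, -⟩ := TopologicalSpace.Opens.isBasis_iff_nbhd.mp Y.isBasis_affineOpens
    (show f ξ ∈ (⊤ : Y.Opens) from trivial)
  obtain ⟨U, (hU : IsAffineOpen U), hξU, hle⟩ := TopologicalSpace.Opens.isBasis_iff_nbhd.mp X.isBasis_affineOpens
    (show ξ ∈ f ⁻¹ᵁ V from hyV)
  have hxU := hxξ.mem_open U.2 hξU
  have hform := H13AlgSp.height_add_trdeg f (isUniversallyCatenary_stalk hY) hV hU hle hxξ hxU hξU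
  obtain ⟨n, hn, -, hn1, hn2⟩ := H22Alg.DimFunLft.height_evKer_spec hV (hxξ.map f.continuous) (hle hxU) (hle hξU)
  have hne : f x₀ ≠ f ξ := fun e => hg (e.symm.trans hx₀)
  have hbase : n = 1 := hn2 (fun z h1 h2 => eq_or_eq_of_dim_one hY h1 h2) hne
  obtain ⟨m, hm, -, hm1, -⟩ := H22Alg.DimFunLft.height_evKer_spec hU hxξ hxU hξU
  have hxne : x₀ ≠ ξ := fun e => hne (congrArg _ e)
  -- Krull
  have hm' : m ≤ 1 := by
    obtain ⟨t, htp, htP⟩ : ∃ t, t ∈ evKer V (f ξ) (hle hξU) ∧ t ∉ evKer V (f x₀) (hle hxU) := by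
      refine SetLike.not_le_iff_exists.1 fun hle' => ?_
      have h0 : (evKer V (f ξ) (hle hξU)).map (Ideal.Quotient.mk (evKer V (f x₀) (hle hxU))) = ⊥ :=
        le_bot_iff.1 ((Ideal.map_mono hle').trans (by rw [Ideal.map_quotient_self]))
      rw [h0, Ideal.height_bot] at hn
      have : n = 0 := by exact_mod_cast hn.symm
      omega
    letI := (f.appLE V U hle).hom.toAlgebra
    set Q := evKer U x₀ hxU
    set q := evKer U ξ hξU
    haveI : IsNoetherianRing Γ(X, U) := IsLocallyNoetherian.component_noetherian ⟨U, hU⟩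
    haveI : (q.map (Ideal.Quotient.mk Q)).IsPrime :=
      Ideal.isPrime_map_quotientMk_of_isPrime (evKer_le_of_specializes U hxξ hxU hξU)
    let b := f.appLE V U hle t
    have hev : ∀ (w : X) (hw : w ∈ U), b ∈ evKer U w hw ↔ t ∈ evKer V (f w) (hle hw) := fun w hw => by
      show X.evaluation U w hw (f.appLE V U hle t) = 0 ↔ Y.evaluation V (f w) _ t = 0
      rw [← H7Flat.evaluation_appLE f hle w hw t]
      exact map_eq_zero_iff _ (f.residueFieldMap w).hom.injective
    have hqmin : q.map (Ideal.Quotient.mk Q) ∈ (Ideal.span {Ideal.Quotient.mk Q b}).minimalPrimes := by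
      refine ⟨⟨inferInstance, (Ideal.span_singleton_le_iff_mem _).2 (Ideal.mem_map_of_mem _ ((hev ξ hξU).2 htp))⟩,
        fun r hr hrq => ?_⟩
      haveI := hr.1
      let R : PrimeSpectrum Γ(X, U) := ⟨r.comap (Ideal.Quotient.mk Q), inferInstance⟩
      have hwU : hU.fromSpec R ∈ U := by rw [← SetLike.mem_coe, ← hU.range_fromSpec]; exact ⟨R, rfl⟩
      have hR : evKer U (hU.fromSpec R) hwU = R.asIdeal := H7Flat.evKer_fromSpec hU R hwU
      have hQR : Q ≤ R.asIdeal := fun a ha => by
        show Ideal.Quotient.mk Q a ∈ r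
        rw [Ideal.Quotient.eq_zero_iff_mem.2 ha]
        exact r.zero_mem
      have hRq : R.asIdeal ≤ q := by
        refine (Ideal.comap_mono hrq).trans ?_
        rw [Ideal.comap_map_of_surjective' _ Ideal.Quotient.mk_surjective, Ideal.mk_ker]
        exact sup_le le_rfl (evKer_le_of_specializes U hxξ hxU hξU)
      have spec : ∀ {a c : X} (ha : a ∈ U) (hc : c ∈ U), evKer U a ha ≤ evKer U c hc → a ⤳ c := fun {a c} ha hc h => by
        rw [evKer_eq hU a ha, evKer_eq hU c hc] at h
        have h2 := ((PrimeSpectrum.le_iff_specializes _ _).1 h).map hU.fromSpec.continuous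
        rwa [hU.fromSpec_primeIdealOf ⟨a, ha⟩, hU.fromSpec_primeIdealOf ⟨c, hc⟩] at h2
      have h1 : x₀ ⤳ hU.fromSpec R := spec hxU hwU (by rw [hR]; exact hQR)
      have h2 : hU.fromSpec R ⤳ ξ := spec hwU hξU (by rw [hR]; exact hRq)
      have hw : hU.fromSpec R = ξ := by
        refine hmax _ h2 ?_
        rcases eq_or_eq_of_dim_one hY (h1.map f.continuous) (h2.map f.continuous) with e | e
        · exfalso
          refine htP ?_
          have hb : t ∈ evKer V (f (hU.fromSpec R)) (hle hwU) := (hev _ hwU).1 (by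
            rw [hR]; exact hr.2 (Ideal.mem_span_singleton_self _))
          exact evKer_le_of_specializes V (specializes_of_eq e) _ (hle hxU) hb
        · exact e.trans hfξ
      refine (Ideal.map_mono (show q ≤ R.asIdeal from ?_)).trans Ideal.map_comap_le
      rw [← hR]
      exact evKer_le_of_specializes U (specializes_of_eq hw.symm) hξU hwU
    have h1 := Ideal.height_le_one_of_isPrincipal_of_mem_minimalPrimes _ _ hqmin
    rw [hm] at h1
    exact_mod_cast h1
  have hm'' : m = 1 := le_antisymm hm' (hm1 hxne)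
  rw [hm, hn, hm'', hbase] at hform
  rw [hs', hE', Cardinal.ofENat_nat] at hform
  have : 1 + s = 1 + E := by exact_mod_cast hform
  exact_mod_cast (by omega : s = E)

end Groth.Agent.H05EGA4.DimOneBase
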