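import Mathlib
import Groth.Agent.H05EGA4.DimOneBase
import Groth.Agent.S9687
import Groth.Agent.H9Hens.CatenaryColim

/-!
The dimension of the source of a dominant morphism (helper5).
-/

set_option autoImplicit false
set_option linter.style.haveILetI false
universe u
open CategoryTheory AlgebraicGeometry Order
open Groth.Agent.H7Flat (evKer evKer_eq evKer_le_of_specializes)
open Groth.Agent.H8Props.FieldDim

namespace Groth.Agent.H05EGA4.DimDominant

local instance instSpecOrder {X : Scheme.{u}} : PartialOrder X := specializationOrder X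

theorem stalkDim_eq_height {X : Scheme.{u}} [IrreducibleSpace X] {U : X.Opens} (hU : IsAffineOpen U) (x : X)
    (hx : x ∈ U) (h0 : genericPoint X ∈ U) :
    ringKrullDim (X.presheaf.stalk x) =
      (((evKer U x hx).map (Ideal.Quotient.mk (evKer U (genericPoint X) h0))).height : WithBot ℕ∞) := by
  set Q := evKer U (genericPoint X) h0
  set q := evKer U x hx
  have hQ : ∀ K : PrimeSpectrum Γ(X, U), Q ≤ K.asIdeal := fun K => by
    have hK : hU.fromSpec K ∈ U := by rw [← SetLike.mem_coe, ← hU.range_fromSpec]; exact ⟨K, rfl⟩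
    rw [← H7Flat.evKer_fromSpec hU K hK]
    exact evKer_le_of_specializes U (genericPoint_specializes _) h0 hK
  have e1 : ringKrullDim (X.presheaf.stalk x) = q.height := by
    letI := TopCat.Presheaf.algebra_section_stalk X.presheaf (⟨x, hx⟩ : U)
    haveI := hU.isLocalization_stalk ⟨x, hx⟩
    rw [show q = (hU.primeIdealOf ⟨x, hx⟩).asIdeal from evKer_eq hU x hx]
    exact IsLocalization.AtPrime.ringKrullDim_eq_height _ _
  let e : PrimeSpectrum (Γ(X, U) ⧸ Q) ≃o PrimeSpectrum Γ(X, U) :=
    RelIso.ofSurjective (H02CA.quotEmbedding Q) fun K => (H02CA.mem_range_quotEmbedding Q).2 (hQ K)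
  have hle : Q ≤ q := evKer_le_of_specializes U (genericPoint_specializes x) h0 hx
  have h2 : q.height = (q.map (Ideal.Quotient.mk Q)).height := by
    rw [show q.height = Order.height (⟨q, inferInstance⟩ : PrimeSpectrum Γ(X, U)) from
      PrimeSpectrum.height_eq_orderHeight (⟨q, inferInstance⟩ : PrimeSpectrum Γ(X, U))]
    haveI := Ideal.isPrime_map_quotientMk_of_isPrime hle
    rw [show (q.map (Ideal.Quotient.mk Q)).height =
        Order.height (⟨q.map (Ideal.Quotient.mk Q), inferInstance⟩ : PrimeSpectrum (Γ(X, U) ⧸ Q)) from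
      PrimeSpectrum.height_eq_orderHeight (⟨q.map (Ideal.Quotient.mk Q), inferInstance⟩ : PrimeSpectrum (Γ(X, U) ⧸ Q)),
      ← Order.height_orderIso e]
    congr 1
    exact (Groth.Agent.H9Hens.quotEmbedding_map_eq (p := ⟨Q, RingHom.ker_isPrime _⟩) (q := ⟨q, inferInstance⟩) hle).symm
  rw [e1, h2]

variable {X Y : Scheme.{u}} (f : X ⟶ Y) [IsLocallyNoetherian Y] [IrreducibleSpace Y] [IrreducibleSpace X]
  [LocallyOfFiniteType f]

theorem stalk_add_eq (hY : ∀ y : Y, CAlg.IsUniversallyCatenary (Y.presheaf.stalk y)) (hf : DenseRange f.base)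
    {e s : ℕ} (he : Dual3.resTrdeg f (genericPoint X) = e) (x : X) (hs : Dual3.resTrdeg f x = s) :
    ringKrullDim (X.presheaf.stalk x) + s = ringKrullDim (Y.presheaf.stalk (f x)) + e := by
  haveI : IsLocallyNoetherian X := LocallyOfFiniteType.isLocallyNoetherian f
  obtain ⟨V, (hV : IsAffineOpen V), hyV, -⟩ := TopologicalSpace.Opens.isBasis_iff_nbhd.mp Y.isBasis_affineOpens
    (show f x ∈ (⊤ : Y.Opens) from trivial)
  obtain ⟨U, (hU : IsAffineOpen U), hxU, hle⟩ := TopologicalSpace.Opens.isBasis_iff_nbhd.mp X.isBasis_affineOpens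
    (show x ∈ f ⁻¹ᵁ V from hyV)
  have h0 := (genericPoint_specializes x).mem_open U.2 hxU
  have hform := H13AlgSp.height_add_trdeg f hY hV hU hle (genericPoint_specializes x) h0 hxU
  obtain ⟨m, hm, -⟩ := H22Alg.DimFunLft.height_evKer_spec hU (genericPoint_specializes x) h0 hxU
  obtain ⟨n, hn, -⟩ := H22Alg.DimFunLft.height_evKer_spec hV ((genericPoint_specializes x).map f.continuous) (hle h0) (hle hxU)
  rw [hm, hn, hs, he, Cardinal.ofENat_nat, Cardinal.ofENat_nat] at hform
  have hgen := DimOneBase.apply_genericPoint f hf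
  rw [stalkDim_eq_height hU x hxU h0, hm, stalkDim_eq_height hV (f x) (hle hxU) (hgen ▸ hle h0)]
  have hQ : evKer V (genericPoint Y) (hgen ▸ hle h0) = evKer V (f (genericPoint X)) (hle h0) := by
    simp only [hgen]
  rw [hQ, hn]
  exact_mod_cast (show m + s = n + e by exact_mod_cast hform)

omit [IrreducibleSpace X] [IrreducibleSpace Y] [IsLocallyNoetherian Y] in
theorem exists_closed_in_fibre {y : Y} (hy : y ∈ Set.range f.base) :
    ∃ x : X, f x = y ∧ Dual3.resTrdeg f x = 0 := by
  obtain ⟨x₀, hx₀⟩ := hy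
  haveI : Nonempty (f.fiber y) := by
    obtain ⟨u, -⟩ := (f.range_fiberι y).symm.subset (show x₀ ∈ f ⁻¹' {y} from hx₀)
    exact ⟨u⟩
  haveI := locallyOfFiniteType_fiberToSpec f y
  haveI : JacobsonSpace (f.fiber y) := LocallyOfFiniteType.jacobsonSpace (f.fiberToSpecResidueField y)
  obtain ⟨u, -, hu⟩ := nonempty_inter_closedPoints (X := f.fiber y) Set.univ_nonempty isClosed_univ.isLocallyClosed
  obtain ⟨s, hs, hs'⟩ := H12AlgSp.exists_nat_resTrdeg f u
  refine ⟨f.fiberι y u, (f.range_fiberι y).subset (Set.mem_range_self u), ?_⟩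
  have hu' : closure ({u} : Set (f.fiber y)) = {u} := (mem_closedPoints_iff.1 hu).closure_eq
  have : cdim u ≤ 0 := by
    show topologicalKrullDim (closure ({u} : Set (f.fiber y))) ≤ 0
    rw [hu']
    haveI : Subsingleton (TopologicalSpace.IrreducibleCloseds ({u} : Set (f.fiber y))) := ⟨fun a b =>
      TopologicalSpace.IrreducibleCloseds.ext (by
        exact (Subsingleton.eq_univ_of_nonempty a.2.nonempty).trans (Subsingleton.eq_univ_of_nonempty b.2.nonempty).symm)⟩
    exact Order.krullDim_nonpos_of_subsingleton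
  rw [hs] at this
  have h0 : (s : ℕ∞) ≤ ((0 : ℕ) : ℕ∞) := by exact_mod_cast this
  rw [hs', show s = 0 from Nat.le_zero.1 (Nat.cast_le.1 h0)]
  exact Nat.cast_zero

theorem dim_le (hf : DenseRange f.base) :
    topologicalKrullDim X ≤ topologicalKrullDim Y + topologicalKrullDim (f.fiber (genericPoint Y)) := by
  obtain ⟨e, he, he'⟩ := DimOneBase.dim_genericFibre f hf
  rw [he, H17.topologicalKrullDim_eq_krullDim_specialization X, Order.krullDim_eq_iSup_coheight]
  refine iSup_le fun x => ?_
  rw [← ringKrullDim_stalk_eq_coheight x]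
  obtain ⟨s, -, hs⟩ := H12AlgSp.cdim_asFiber f x
  refine le_trans ?_ ((S9687.result f x s e hs fun ξ hξ _ => ?_).trans (add_le_add (DimFibre.stalkDim_le_top _) le_rfl))
  · rw [ringKrullDim_stalk_eq_coheight]
    exact WithBot.coe_le_coe.2 (le_self_add : _ ≤ Order.coheight x + (s : ℕ∞))
  · have h1 : closure {ξ} = Set.univ := by
      rw [irreducibleComponents_eq_singleton] at hξ
      exact hξ
    have h2 : ξ = genericPoint X := (show IsGenericPoint ξ ⊤ from h1).eq (genericPoint_spec X)
    subst h2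
    exact he'.le

theorem dim_eq (hY : ∀ y : Y, CAlg.IsUniversallyCatenary (Y.presheaf.stalk y)) (hf : DenseRange f.base) {e : ℕ}
    (he : Dual3.resTrdeg f (genericPoint X) = e) :
    topologicalKrullDim X = (⨆ y ∈ Set.range f.base, ringKrullDim (Y.presheaf.stalk y)) + e := by
  have hst : ∀ x : X, ∀ s : ℕ, Dual3.resTrdeg f x = s →
      Order.coheight x + (s : ℕ∞) = Order.coheight (f x) + (e : ℕ∞) := fun x s hs => by
    have h := stalk_add_eq f hY hf he x hs
    rw [ringKrullDim_stalk_eq_coheight, ringKrullDim_stalk_eq_coheight] at h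
    exact_mod_cast h
  have key : (⨆ x : X, Order.coheight x) = (⨆ x : X, Order.coheight (f x)) + (e : ℕ∞) := by
    refine le_antisymm (iSup_le fun x => ?_) ?_
    · obtain ⟨s, -, hs⟩ := H12AlgSp.cdim_asFiber f x
      calc Order.coheight x ≤ Order.coheight x + (s : ℕ∞) := le_self_add
        _ = Order.coheight (f x) + (e : ℕ∞) := hst x s hs
        _ ≤ _ := add_le_add (le_iSup (fun x : X => Order.coheight (f x)) x) le_rfl
    · rw [ENat.iSup_add]
      refine iSup_le fun x => ?_
      obtain ⟨x', hx', hx''⟩ := exists_closed_in_fibre f ⟨x, rfl⟩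
      rw [← hx', ← hst x' 0 (by rw [hx'', Nat.cast_zero]), Nat.cast_zero, add_zero]
      exact le_iSup (fun x : X => Order.coheight x) x'
  have hdim : topologicalKrullDim X = ((⨆ x : X, Order.coheight x : ℕ∞) : WithBot ℕ∞) := by
    rw [H17.topologicalKrullDim_eq_krullDim_specialization X, Order.krullDim_eq_iSup_coheight_of_nonempty]
  have hsup : (⨆ y ∈ Set.range f.base, ringKrullDim (Y.presheaf.stalk y)) =
      ((⨆ x : X, Order.coheight (f x) : ℕ∞) : WithBot ℕ∞) := by
    rw [iSup_range, WithBot.coe_iSup (OrderTop.bddAbove _)]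
    exact iSup_congr fun x => ringKrullDim_stalk_eq_coheight (f x)
  rw [hdim, hsup, key]
  rfl

theorem add_cancel {a b : WithBot ℕ∞} {e : ℕ} (h : a + (e : WithBot ℕ∞) = b + (e : WithBot ℕ∞)) : a = b := by
  induction a with
  | bot =>
    induction b with
    | bot => rfl
    | coe b => exact absurd h (by rw [WithBot.bot_add]; exact WithBot.bot_ne_coe (a := b + (e : ℕ∞)))
  | coe a =>
    induction b with
    | bot => exact absurd h (by rw [WithBot.bot_add]; exact WithBot.coe_ne_bot (a := a + (e : ℕ∞)))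
    | coe b =>
      have h' : a + (e : ℕ∞) = b + (e : ℕ∞) := WithBot.coe_injective h
      exact congrArg _ ((ENat.add_left_injective_of_ne_top (ENat.natCast_ne_top e)) h')

theorem dim_eq_iff (hY : ∀ y : Y, CAlg.IsUniversallyCatenary (Y.presheaf.stalk y)) (hf : DenseRange f.base) :
    topologicalKrullDim X = topologicalKrullDim Y + topologicalKrullDim (f.fiber (genericPoint Y)) ↔
      topologicalKrullDim Y = ⨆ y ∈ Set.range f.base, ringKrullDim (Y.presheaf.stalk y) := by
  obtain ⟨e, he, he'⟩ := DimOneBase.dim_genericFibre f hf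
  rw [he, dim_eq f hY hf he']
  exact ⟨fun h => (add_cancel h).symm, fun h => by rw [h]⟩

section Surjective

variable {X Y : Scheme.{u}} (f : X ⟶ Y) [IsLocallyNoetherian Y] [IrreducibleSpace X] [LocallyOfFiniteType f]

theorem main (hY : ∀ y : Y, CAlg.IsUniversallyCatenary (Y.presheaf.stalk y)) (n : ℕ) :
    ((∀ y : Y, (n : WithBot ℕ∞) ≤ topologicalKrullDim (f.fiber y)) →
        topologicalKrullDim Y + n ≤ topologicalKrullDim X) ∧
      ((∀ y : Y, topologicalKrullDim (f.fiber y) = n) →
        topologicalKrullDim X = topologicalKrullDim Y + n) := by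
  suffices h : (∀ y : Y, (n : WithBot ℕ∞) ≤ topologicalKrullDim (f.fiber y)) →
      ∃ (_ : IrreducibleSpace Y) (e : ℕ), topologicalKrullDim (f.fiber (genericPoint Y)) = e ∧
        topologicalKrullDim X = topologicalKrullDim Y + e by
    refine ⟨fun hn => ?_, fun hn => ?_⟩
    · obtain ⟨_, e, he, hX⟩ := h hn
      rw [hX]
      exact add_le_add le_rfl (he ▸ hn _)
    · obtain ⟨_, e, he, hX⟩ := h fun y => (hn y).ge
      rw [hX, ← he, hn]
  intro hn
  have hs : Function.Surjective f.base := fun y => by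
    obtain ⟨u⟩ : Nonempty (f.fiber y) := by
      by_contra he
      rw [not_nonempty_iff] at he
      haveI : IsEmpty (TopologicalSpace.IrreducibleCloseds (f.fiber y)) := ⟨fun Z => IsEmpty.false Z.2.nonempty.some⟩
      have h := hn y
      rw [topologicalKrullDim, Order.krullDim_eq_bot, le_bot_iff] at h
      exact WithBot.coe_ne_bot (a := (n : ℕ∞)) h
    exact ⟨f.fiberι y u, (f.range_fiberι y).subset (Set.mem_range_self u)⟩
  haveI : IrreducibleSpace Y := by
    haveI : Nonempty Y := ⟨f.base (genericPoint X)⟩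
    have h : IsIrreducible (Set.univ : Set Y) := by
      rw [← hs.range_eq, ← Set.image_univ]
      exact IrreducibleSpace.isIrreducible_univ X |>.image _ f.continuous.continuousOn
    exact { toPreirreducibleSpace := ⟨h.2⟩, toNonempty := inferInstance }
  obtain ⟨e, he, he'⟩ := DimOneBase.dim_genericFibre f hs.denseRange
  refine ⟨inferInstance, e, he, ?_⟩
  rw [dim_eq f hY hs.denseRange he', hs.range_eq, H17.topologicalKrullDim_eq_krullDim_specialization Y,
    Order.krullDim_eq_iSup_coheight]
  congr 1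
  simp only [iSup_univ, ringKrullDim_stalk_eq_coheight]

end Surjective

end Groth.Agent.H05EGA4.DimDominant
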