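import Mathlib
import Groth.Agent.H06EGA9.ProductDim
import Groth.Agent.H17.NagataNorm
import Groth.Agent.H8Props.FieldDimHeight

/-!
The dimension of the zero locus of a section (helper5).
-/

set_option autoImplicit false
set_option linter.style.haveILetI false
universe u
open CategoryTheory AlgebraicGeometry Set
open Groth.Agent.H8Props.FieldDim Groth.Agent.H06EGA9

namespace Groth.Agent.H05EGA4.DimZeroLocus

variable {k : Type u} [Field k] {X : Scheme.{u}} (g : X ⟶ Spec (CommRingCat.of k)) [LocallyOfFiniteType g]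
  (a : Γ(X, ⊤))

omit [LocallyOfFiniteType g] in
theorem mem_iff (x : X) : x ∈ X.zeroLocus (U := ⊤) {a} ↔ x ∉ X.basicOpen a := by
  simp [Scheme.mem_zeroLocus_iff]

include g in
theorem notMem_generic (hY : interior (X.zeroLocus (U := ⊤) {a}) = ∅) {η : X}
    (hη : closure {η} ∈ irreducibleComponents X) : η ∈ X.basicOpen a := by
  by_contra hm
  haveI : IsLocallyNoetherian X := LocallyOfFiniteType.isLocallyNoetherian g
  have hcl : IsClosed (⋃ T : {T : irreducibleComponents X // T.1 ≠ closure {η}}, T.1.1) :=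
    ((H17.NagataNorm.locallyFinite_irreducibleComponents X).comp_injective Subtype.val_injective).isClosed_iUnion
      fun T => isClosed_of_mem_irreducibleComponents _ T.1.2
  have hne : η ∈ (⋃ T : {T : irreducibleComponents X // T.1 ≠ closure {η}}, T.1.1)ᶜ := fun h => by
    obtain ⟨⟨⟨T, hT⟩, hTne⟩, hmT⟩ := mem_iUnion.mp h
    exact hTne (hη.eq_of_ge hT.1
      (closure_minimal (singleton_subset_iff.mpr hmT) (isClosed_of_mem_irreducibleComponents _ hT))).symm.symm
  have hsub : (⋃ T : {T : irreducibleComponents X // T.1 ≠ closure {η}}, T.1.1)ᶜ ⊆ closure {η} := fun b hb => by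
    by_contra hc
    obtain ⟨ξ, hξ, hξc⟩ := exists_component_generization b
    refine hb (mem_iUnion.mpr ⟨⟨⟨_, hξc⟩, fun e => hc ?_⟩, hξ.mem_closure⟩)
    exact (show closure {ξ} = closure {η} from e) ▸ hξ.mem_closure
  have h2 : closure {η} ⊆ X.zeroLocus (U := ⊤) {a} :=
    closure_minimal (singleton_subset_iff.2 ((mem_iff a η).2 hm)) (Scheme.zeroLocus_isClosed _ _)
  have := interior_maximal (hsub.trans h2) hcl.isOpen_compl hne
  rwa [hY] at this

include g in
theorem cdim_add_one_le (hY : interior (X.zeroLocus (U := ⊤) {a}) = ∅) {z : X} (hz : z ∈ X.zeroLocus (U := ⊤) {a}) :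
    cdim z + 1 ≤ topologicalKrullDim X := by
  obtain ⟨η, hη, hηc⟩ := exists_component_generization z
  have hne : η ≠ z := fun h => (mem_iff a z).1 hz (h ▸ notMem_generic g a hY hηc)
  obtain ⟨m, hm⟩ := exists_nat_cdim g z
  obtain ⟨n, hn⟩ := exists_nat_cdim g η
  have hlt := cdim_lt g hη hne
  rw [hm, hn] at hlt
  calc cdim z + 1 ≤ cdim η := by rw [hm, hn]; exact_mod_cast (show m < n by exact_mod_cast hlt)
    _ ≤ topologicalKrullDim X := (dim_eq_iSup_cdim (X := X)) ▸ le_iSup (fun x : X => cdim x) η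

include g in
theorem dim_le (hY : interior (X.zeroLocus (U := ⊤) {a}) = ∅) :
    topologicalKrullDim (X.zeroLocus (U := ⊤) {a}) + 1 ≤ topologicalKrullDim X := by
  have hcl := Scheme.zeroLocus_isClosed (U := (⊤ : X.Opens)) X {a}
  rcases Set.eq_empty_or_nonempty (X.zeroLocus (U := ⊤) {a}) with he | ⟨z₀, hz₀⟩
  · haveI : IsEmpty (X.zeroLocus (U := ⊤) {a}) := by rw [he]; infer_instance
    haveI : IsEmpty (TopologicalSpace.IrreducibleCloseds (X.zeroLocus (U := ⊤) {a})) :=
      ⟨fun Z => IsEmpty.false Z.2.nonempty.some⟩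
    rw [topologicalKrullDim, Order.krullDim_eq_bot, WithBot.bot_add]
    exact bot_le
  obtain ⟨η₀, -, -⟩ := exists_component_generization z₀
  by_cases htop : topologicalKrullDim X = ⊤
  · rw [htop]; exact le_top
  obtain ⟨m₀, hm₀⟩ := exists_nat_cdim g z₀
  have h0 := cdim_add_one_le g a hY hz₀
  obtain ⟨N, hN⟩ : ∃ N : ℕ, topologicalKrullDim X = N + 1 := by
    rw [hm₀] at h0
    generalize topologicalKrullDim X = d at h0 htop
    induction d with
    | bot => exact absurd h0 (by simp)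
    | coe d =>
      induction d using ENat.recTopCoe with
      | top => exact absurd rfl htop
      | coe d =>
        have : m₀ + 1 ≤ d := by exact_mod_cast h0
        obtain ⟨e, rfl⟩ : ∃ e, d = e + 1 := ⟨d - 1, by omega⟩
        exact ⟨e, by push_cast; rfl⟩
  rw [hN]
  refine add_le_add ?_ le_rfl
  refine dim_le_of_forall_cdim_le hcl _ fun z hz => ?_
  obtain ⟨m, hm⟩ := exists_nat_cdim g z
  have h := cdim_add_one_le g a hY hz
  rw [hm, hN] at h
  rw [hm]
  exact_mod_cast (show m ≤ N by have : m + 1 ≤ N + 1 := by exact_mod_cast h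
                                omega)

include g in
theorem exists_codim_one {η y : X} (hηy : η ⤳ y) (hy : y ∈ X.zeroLocus (U := ⊤) {a}) (hη : η ∈ X.basicOpen a) :
    ∃ z ∈ X.zeroLocus (U := ⊤) {a}, cdim η ≤ cdim z + 1 := by
  obtain ⟨W, (hW : IsAffineOpen W), hyW, -⟩ := TopologicalSpace.Opens.isBasis_iff_nbhd.mp X.isBasis_affineOpens
    (show y ∈ (⊤ : X.Opens) from trivial)
  have hηW := hηy.mem_open W.2 hyW
  obtain ⟨q, rfl⟩ : y ∈ Set.range hW.fromSpec := by rw [hW.range_fromSpec]; exact hyW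
  obtain ⟨p, rfl⟩ : η ∈ Set.range hW.fromSpec := by rw [hW.range_fromSpec]; exact hηW
  obtain ⟨alg, hj⟩ := exists_algebra_chart g (A := Γ(X, W)) hW.fromSpec
  haveI := finiteType_of_chart g (A := Γ(X, W)) hW.fromSpec hj
  let b := X.presheaf.map (homOfLE (le_top : W ≤ ⊤)).op a
  have key : ∀ r : PrimeSpectrum Γ(X, W), hW.fromSpec r ∈ X.basicOpen a ↔ b ∉ r.asIdeal := fun r => by
    rw [← PrimeSpectrum.mem_basicOpen, ← SetLike.mem_coe (p := PrimeSpectrum.basicOpen b)]
    have h1 : hW.fromSpec ⁻¹ᵁ X.basicOpen b = PrimeSpectrum.basicOpen b := hW.fromSpec_preimage_basicOpen b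
    rw [← h1]
    have hr : hW.fromSpec r ∈ (W : Set X) := by rw [← hW.range_fromSpec]; exact ⟨r, rfl⟩
    show _ ↔ hW.fromSpec r ∈ X.basicOpen b
    rw [Scheme.basicOpen_res]
    exact ⟨fun h => ⟨hr, h⟩, fun h => h.2⟩
  have hbp : b ∉ p.asIdeal := (key p).1 hη
  have hbq : b ∈ q.asIdeal := by
    by_contra h
    exact (mem_iff a _).1 hy ((key q).2 h)
  have hpq : p.asIdeal ≤ q.asIdeal :=
    (PrimeSpectrum.le_iff_specializes p q).mpr (hW.fromSpec.isOpenEmbedding.isInducing.specializes_iff.mp hηy)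
  haveI := p.2
  let B := Γ(X, W) ⧸ p.asIdeal
  haveI : IsNoetherianRing B := Algebra.FiniteType.isNoetherianRing k B
  haveI := Ideal.isPrime_map_quotientMk_of_isPrime (p := q.asIdeal) hpq
  obtain ⟨r, hr, -⟩ := Ideal.exists_minimalPrimes_le (I := Ideal.span {Ideal.Quotient.mk p.asIdeal b})
    (J := q.asIdeal.map (Ideal.Quotient.mk p.asIdeal))
    ((Ideal.span_singleton_le_iff_mem _).2 (Ideal.mem_map_of_mem _ hbq))
  haveI := hr.1.1
  have hr1 : r.height ≤ 1 := Ideal.height_le_one_of_isPrincipal_of_mem_minimalPrimes _ r hr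
  let z : PrimeSpectrum Γ(X, W) := ⟨r.comap (Ideal.Quotient.mk p.asIdeal), inferInstance⟩
  refine ⟨hW.fromSpec z, (mem_iff a _).2 fun h => (key z).1 h (hr.1.2 (Ideal.mem_span_singleton_self _)), ?_⟩
  erw [cdim_eq_chart g (A := Γ(X, W)) hW.fromSpec p, cdim_eq_chart g (A := Γ(X, W)) hW.fromSpec z]
  have he : ringKrullDim (B ⧸ r) = ringKrullDim (Γ(X, W) ⧸ z.asIdeal) := by
    refine ringKrullDim_eq_of_ringEquiv ((Ideal.quotEquivOfEq ?_).trans (DoubleQuot.quotQuotEquivQuotOfLE (I := p.asIdeal)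
      (J := z.asIdeal) fun x hx => ?_))
    · exact (Ideal.map_comap_of_surjective _ Ideal.Quotient.mk_surjective r).symm
    · show Ideal.Quotient.mk p.asIdeal x ∈ r
      rw [Ideal.Quotient.eq_zero_iff_mem.2 hx]
      exact r.zero_mem
  rw [← he, ← height_add_dim_quotient k B r, add_comm]
  refine add_le_add le_rfl ?_
  exact_mod_cast hr1

include g in
theorem dim_eq (hY : interior (X.zeroLocus (U := ⊤) {a}) = ∅)
    (hex : ∃ Z ∈ irreducibleComponents (X : Type u), topologicalKrullDim Z = topologicalKrullDim X)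
    (hmeet : ∀ Z ∈ irreducibleComponents (X : Type u), topologicalKrullDim Z = topologicalKrullDim X →
      (Z ∩ X.zeroLocus (U := ⊤) {a}).Nonempty) :
    topologicalKrullDim (X.zeroLocus (U := ⊤) {a}) + 1 = topologicalKrullDim X := by
  refine le_antisymm (dim_le g a hY) ?_
  obtain ⟨Z, hZ, hd⟩ := hex
  obtain ⟨y, hyZ, hy⟩ := hmeet Z hZ hd
  obtain ⟨η, hη, -⟩ := mem_irreducibleComponents_iff hZ
  subst hη
  obtain ⟨z, hz, hle⟩ := exists_codim_one g a (specializes_iff_mem_closure.2 hyZ) hy (notMem_generic g a hY hZ)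
  rw [← hd]
  refine hle.trans (add_le_add ?_ le_rfl)
  exact dim_mono (closure_minimal (Set.singleton_subset_iff.2 hz) (Scheme.zeroLocus_isClosed _ _))

end Groth.Agent.H05EGA4.DimZeroLocus
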