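import Groth.Agent.H05EGA4.DiscLocus
import Groth.Prelude.Def_QFDual
import Mathlib.RingTheory.TensorProduct.IsBaseChangeFree

/-! Base change of the different of a finite free algebra. -/

set_option autoImplicit false
set_option linter.style.haveILetI false

universe u

open TensorProduct

namespace Groth.Agent.H05EGA4.DiscBC

open DiscPair

section

variable {A B : Type u} [CommRing A] [CommRing B] [Algebra A B] [Module.Free A B] [Module.Finite A B]

theorem mem_different_iff {b : B} :
    b ∈ QFDual.different B (Disc.Omega.trace A B) ↔ b ∈ Disc.differentSet A B := by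
  rw [QFDual.mem_different_iff, mem_differentSet_iff]
  exact forall_congr' fun l => exists_congr fun c => eq_comm

theorem radical_different : (QFDual.different B (Disc.Omega.trace A B)).radical = (Module.annihilator B (Ω[B⁄A])).radical := by
  rw [← DiscLocus.radical_noether]
  refine le_antisymm (Ideal.radical_le_radical_iff.2 fun b hb => ⟨2, ?_⟩) (Ideal.radical_mono fun b hb => ?_)
  · rw [pow_two]; exact sq_mem_noether (mem_different_iff.1 hb)
  · exact mem_different_iff.2 (noether_subset_different hb)

end

theorem radical_map_eq {R S : Type*} [CommRing R] [CommRing S] (f : R →+* S) {I J : Ideal R}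
    (h : I.radical = J.radical) : (I.map f).radical = (J.map f).radical := by
  refine le_antisymm ?_ ?_
  · refine Ideal.radical_le_radical_iff.2 ((Ideal.map_mono Ideal.le_radical).trans ?_)
    rw [h]; exact Ideal.map_radical_le f
  · refine Ideal.radical_le_radical_iff.2 ((Ideal.map_mono Ideal.le_radical).trans ?_)
    rw [← h]; exact Ideal.map_radical_le f

section BaseChange

variable {A B A' B' : Type u} [CommRing A] [CommRing B] [CommRing A'] [CommRing B']
  [Algebra A B] [Algebra A A'] [Algebra B B'] [Algebra A' B'] [Algebra A B']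
  [IsScalarTower A A' B'] [IsScalarTower A B B'] [hB : Algebra.IsPushout A A' B B']
  [Module.Finite A B] [Module.Free A B] [Module.Finite A' B'] [Module.Free A' B']

theorem isBC : IsBaseChange A' (IsScalarTower.toAlgHom A B B').toLinearMap :=
  Algebra.IsPushout.out (R := A) (S := A') (R' := B) (S' := B')

theorem trace_map (y : B) :
    Algebra.trace A' B' (algebraMap B B' y) = algebraMap A A' (Algebra.trace A B y) := by
  classical
  let b := Module.Free.chooseBasis A B
  let b' := (isBC (A := A) (B := B) (A' := A') (B' := B')).basis b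
  rw [Algebra.trace_eq_matrix_trace b', Algebra.trace_eq_matrix_trace b, Matrix.trace, Matrix.trace, map_sum]
  refine Finset.sum_congr rfl fun k _ => ?_
  rw [Matrix.diag_apply, Matrix.diag_apply, Algebra.leftMulMatrix_eq_repr_mul, Algebra.leftMulMatrix_eq_repr_mul,
    IsBaseChange.basis_apply, AlgHom.toLinearMap_apply, IsScalarTower.coe_toAlgHom', ← map_mul]
  exact IsBaseChange.basis_repr_comp_apply b (isBC (A := A) (B := B) (A' := A') (B' := B')) (y * b k) k

include hB in
theorem ext_image {M : Type*} [AddCommGroup M] [Module A' M] (f g : B' →ₗ[A'] M)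
    (h : ∀ y : B, f (algebraMap B B' y) = g (algebraMap B B' y)) : f = g := by
  refine LinearMap.ext fun z => (isBC (A := A) (B := B) (A' := A') (B' := B')).inductionOn z
    (fun z => f z = g z) (by simp) h (fun r z hz => by rw [map_smul, map_smul, hz]) fun z w hz hw => by
      rw [map_add, map_add, hz, hw]

theorem map_different_le :
    Ideal.map (algebraMap B B') (QFDual.different B (Disc.Omega.trace A B)) ≤ QFDual.different B' (Disc.Omega.trace A' B') := by
  classical
  rw [Ideal.map_le_iff_le_comap]
  intro x hx
  rw [Ideal.mem_comap, QFDual.mem_different_iff]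
  intro φ
  let b := Module.Free.chooseBasis A B
  choose c hc using mem_differentSet_iff.1 (mem_different_iff.1 hx)
  let C := ∑ k, algebraMap A' B' (φ.toLinearMap (algebraMap B B' (b k))) * algebraMap B B' (c (co b k))
  refine ⟨C, Disc.Omega.ext (ext_image (A := A) (B := B) _ _ fun y => ?_)⟩
  have hk : ∀ k, b.repr (x * y) k = Algebra.trace A B (c (co b k) * y) := fun k =>
    LinearMap.congr_fun (congrArg Disc.Omega.toLinearMap (hc (co b k))) y
  show Algebra.trace A' B' (C * algebraMap B B' y) = φ.toLinearMap (algebraMap B B' x * algebraMap B B' y)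
  rw [← map_mul]
  conv_rhs => rw [← b.sum_repr (x * y), map_sum, map_sum]
  rw [Finset.sum_mul, map_sum]
  refine Finset.sum_congr rfl fun k _ => ?_
  rw [mul_assoc, ← map_mul, ← Algebra.smul_def, map_smul, trace_map (A := A), Algebra.smul_def (b.repr (x * y) k) (b k),
    map_mul (algebraMap B B'), ← IsScalarTower.algebraMap_apply A B B', IsScalarTower.algebraMap_apply A A' B', ← Algebra.smul_def,
    map_smul, hk, smul_eq_mul, smul_eq_mul, mul_comm]

theorem radical_map_different :
    (Ideal.map (algebraMap B B') (QFDual.different B (Disc.Omega.trace A B))).radical =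
      (QFDual.different B' (Disc.Omega.trace A' B')).radical := by
  rw [radical_different, radical_map_eq (algebraMap B B') (radical_different (A := A) (B := B)),
    ← (KaehlerDifferential.tensorKaehlerEquiv A A' B B').annihilator_eq]
  have h1 : (Fitt.ideal B (Ω[B⁄A]) 0).radical = (Module.annihilator B (Ω[B⁄A])).radical :=
    le_antisymm (Ideal.radical_mono H29Fitt.ideal_zero_le_annihilator)
      (Ideal.radical_le_radical_iff.2 H29Fitt.annihilator_le_radical_ideal_zero)
  have h2 : (Fitt.ideal B' (B' ⊗[B] Ω[B⁄A]) 0).radical = (Module.annihilator B' (B' ⊗[B] Ω[B⁄A])).radical :=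
    le_antisymm (Ideal.radical_mono H29Fitt.ideal_zero_le_annihilator)
      (Ideal.radical_le_radical_iff.2 H29Fitt.annihilator_le_radical_ideal_zero)
  rw [← radical_map_eq _ h1, ← h2, H29Fitt.ideal_baseChange]

omit hB in
/-- The diagonal map. -/
theorem exists_diag : ∃ g : B ⊗[A] B →ₐ[A] B' ⊗[A'] B', ∀ a b : B,
    g (a ⊗ₜ b) = algebraMap B B' a ⊗ₜ[A'] algebraMap B B' b :=
  ⟨Algebra.TensorProduct.lift
    (((Algebra.TensorProduct.includeLeft (R := A') (S := A') (A := B') (B := B')).restrictScalars A).comp
      (IsScalarTower.toAlgHom A B B'))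
    (((Algebra.TensorProduct.includeRight (R := A') (A := B') (B := B')).restrictScalars A).comp
      (IsScalarTower.toAlgHom A B B'))
    (fun _ _ => Commute.all _ _), fun a b => by simp [Algebra.TensorProduct.tmul_mul_tmul]⟩

theorem map_different_eq_of_invertible [Module.Invertible B (Disc.Omega A B)] :
    Ideal.map (algebraMap B B') (QFDual.different B (Disc.Omega.trace A B)) = QFDual.different B' (Disc.Omega.trace A' B') := by
  refine le_antisymm map_different_le fun x hx => ?_
  set N := Ideal.map (algebraMap B B') (QFDual.different B (Disc.Omega.trace A B))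
  by_contra hxN
  have hcol : ∀ (Ψ : Disc.Omega A B →ₗ[B] B) m, algebraMap B B' (Ψ m) * x ∈ N := fun Ψ m => by
    obtain ⟨ξ, hξ, rfl⟩ := exists_eq_Φ (Module.Free.chooseBasis A B) Ψ
    obtain ⟨g, hg⟩ := exists_diag (A := A) (B := B) (A' := A') (B' := B')
    have hξ' : g ξ ∈ DiscPair.J A' B' := mem_J_iff.2 fun z => by
      have key : (LinearMap.mulRight A' (g ξ) ∘ₗ
            (Algebra.TensorProduct.includeLeft (R := A') (S := A') (A := B') (B := B')).toLinearMap) =
          LinearMap.mulRight A' (g ξ) ∘ₗ (Algebra.TensorProduct.includeRight (R := A') (A := B') (B := B')).toLinearMap := by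
        refine ext_image (A := A) (B := B) _ _ fun y => ?_
        have h := congrArg g (mem_J_iff.1 hξ y)
        simpa [map_mul, hg] using h
      simpa using LinearMap.congr_fun key z
    let m' : Disc.Omega A' B' :=
      ⟨(isBC (A := A) (B := B) (A' := A') (B' := B')).lift ((Algebra.linearMap A A') ∘ₗ m.toLinearMap)⟩
    have hm' : ∀ y, m'.toLinearMap (algebraMap B B' y) = algebraMap A A' (m.toLinearMap y) := fun y =>
      (isBC (A := A) (B := B) (A' := A') (B' := B')).lift_eq _ y
    have hp : ∀ z, DiscPair.pair m' (g z) = algebraMap B B' (DiscPair.pair m z) := fun z => by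
      induction z with
      | zero => simp
      | add a b ha hb => simp only [map_add, ha, hb]
      | tmul a b =>
        rw [hg, pair_tmul, pair_tmul, hm', Algebra.smul_def, Algebra.smul_def, map_mul,
          ← IsScalarTower.algebraMap_apply, ← IsScalarTower.algebraMap_apply]
    have hμ : ∀ z, Algebra.TensorProduct.lmul' A' (g z) = algebraMap B B' (Algebra.TensorProduct.lmul' A z) := fun z => by
      induction z with
      | zero => simp
      | add a b ha hb => simp only [map_add, ha, hb]
      | tmul a b => simp [hg]
    obtain ⟨c, hc⟩ := mem_differentSet_iff.1 (mem_different_iff.1 hx) m'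
    have h := congrArg (Φ (g ξ) hξ') hc
    rw [map_smul, map_smul, Φ_trace (Module.Free.chooseBasis A' B'), hμ, Φ_apply, hp, smul_eq_mul, smul_eq_mul] at h
    rw [Φ_apply, mul_comm, h, ← Φ_trace (Module.Free.chooseBasis A B) ξ hξ]
    refine N.mul_mem_left _ (Ideal.mem_map_of_mem _ (mem_different_iff.2 (noether_subset_different ?_)))
    rw [noether_eq_range]
    exact ⟨_, rfl⟩
  obtain ⟨q, hq, hle⟩ := Ideal.exists_le_maximal ((N.colon {x}).comap (algebraMap B B')) fun htop => hxN (by
    have := (htop ▸ Submodule.mem_top : (1 : B) ∈ _)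
    rw [Ideal.mem_comap, map_one, Submodule.mem_colon_singleton] at this
    simpa using this)
  obtain ⟨Ψ, m, hΨ⟩ := nondeg_of_invertible (A := A) (B := B) q hq.ne_top
  exact hΨ (hle (by rw [Ideal.mem_comap, Submodule.mem_colon_singleton, smul_eq_mul]; exact hcol Ψ m))

theorem map_different_eq_of_flat [Module.Flat A A'] :
    Ideal.map (algebraMap B B') (QFDual.different B (Disc.Omega.trace A B)) = QFDual.different B' (Disc.Omega.trace A' B') := by
  classical
  refine le_antisymm map_different_le fun x hx => ?_
  let ι := Module.Free.ChooseBasisIndex A B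
  let b : Module.Basis ι A B := Module.Free.chooseBasis A B
  let hbc := isBC (A := A) (B := B) (A' := A') (B' := B')
  -- the linear system
  let L : B × (ι → B) →ₗ[A] (ι → ι → A) := LinearMap.pi fun k => LinearMap.pi fun i =>
    (b.coord k ∘ₗ LinearMap.mulRight A (b i) ∘ₗ LinearMap.fst A B (ι → B)) -
      (Algebra.trace A B ∘ₗ LinearMap.mulRight A (b i) ∘ₗ LinearMap.proj k ∘ₗ LinearMap.snd A B (ι → B))
  let j₀ : B × (ι → B) →ₗ[A] B' × (ι → B') := LinearMap.prodMap (IsScalarTower.toAlgHom A B B').toLinearMap
    (LinearMap.pi fun k => (IsScalarTower.toAlgHom A B B').toLinearMap ∘ₗ LinearMap.proj k)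
  let j := j₀.liftBaseChange A'
  let φ : ι → Disc.Omega A' B' := fun k => ⟨hbc.lift (Algebra.linearMap A A' ∘ₗ b.coord k)⟩
  choose c hc using mem_differentSet_iff.1 (mem_different_iff.1 hx)
  let v : B' × (ι → B') := (x, fun k => c (φ k))
  have hj : Function.Surjective j := by
    rw [← LinearMap.range_eq_top, eq_top_iff]
    rintro ⟨z, w⟩ -
    have h1 : ∀ z : B', (z, (0 : ι → B')) ∈ LinearMap.range j := fun z =>
      hbc.inductionOn z (fun z => (z, (0 : ι → B')) ∈ LinearMap.range j) (zero_mem _)
        (fun y => ⟨1 ⊗ₜ (y, 0), by simp [j, j₀]⟩)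
        (fun r y hy => by simpa using Submodule.smul_mem _ r hy) fun y y' hy hy' => by simpa using add_mem hy hy'
    have h2 : ∀ k (z : B'), ((0 : B'), Pi.single k z) ∈ LinearMap.range j := fun k z =>
      hbc.inductionOn z (fun z => ((0 : B'), Pi.single k z) ∈ LinearMap.range j) (by rw [Pi.single_zero]; exact zero_mem _)
        (fun y => ⟨1 ⊗ₜ (0, Pi.single k y), by
          simp only [j, j₀, LinearMap.liftBaseChange_tmul, one_smul, LinearMap.prodMap_apply, map_zero]
          refine Prod.ext rfl (funext fun i => ?_)
          show (IsScalarTower.toAlgHom A B B') ((Pi.single k y : ι → B) i) = _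
          by_cases h : i = k
          · subst h; simp
          · simp [h]⟩)
        (fun r y hy => by simpa [Pi.single_smul] using Submodule.smul_mem _ r hy)
        fun y y' hy hy' => by simpa [Pi.single_add] using add_mem hy hy'
    have hsum : (z, w) = (z, 0) + ∑ k, ((0 : B'), Pi.single k (w k)) := by
      refine Prod.ext (by simp [Prod.fst_sum]) ?_
      simp only [Prod.snd_add, Prod.snd_sum, zero_add]
      exact (Finset.univ_sum_single w).symm
    rw [hsum]
    exact add_mem (h1 z) (sum_mem fun k _ => h2 k _)
  obtain ⟨z, hz⟩ := hj v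
  let eqs : B' × (ι → B') → ι → ι → A' := fun p k i =>
    (φ k).toLinearMap (p.1 * algebraMap B B' (b i)) - Algebra.trace A' B' (p.2 k * algebraMap B B' (b i))
  have hv : eqs v = 0 := funext fun k => funext fun i => sub_eq_zero.2 (by
    exact LinearMap.congr_fun (congrArg Disc.Omega.toLinearMap (hc (φ k))) (algebraMap B B' (b i)))
  have hcomp : ∀ z k i, eqs (j z) k i =
      TensorProduct.rid A A' ((LinearMap.proj i ∘ₗ LinearMap.proj k).lTensor A' (L.lTensor A' z)) := fun z k i => by
    induction z with
    | zero => simp [eqs]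
    | add a b ha hb =>
      simp only [map_add, ← ha, ← hb, eqs, Prod.fst_add, Prod.snd_add, Pi.add_apply, add_mul]
      ring
    | tmul r p =>
      simp only [eqs, j, j₀, LinearMap.liftBaseChange_tmul, LinearMap.lTensor_tmul, TensorProduct.rid_tmul]
      show (φ k).toLinearMap (r • algebraMap B B' p.1 * algebraMap B B' (b i)) -
        Algebra.trace A' B' (r • algebraMap B B' (p.2 k) * algebraMap B B' (b i)) =
          (b.repr (p.1 * b i) k - Algebra.trace A B (p.2 k * b i)) • r
      rw [smul_mul_assoc, smul_mul_assoc, ← map_mul, ← map_mul, map_smul, map_smul, trace_map (A := A),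
        show (φ k).toLinearMap (algebraMap B B' (p.1 * b i)) = algebraMap A A' (b.repr (p.1 * b i) k) from
          hbc.lift_eq _ (p.1 * b i), Algebra.smul_def (R := A), map_sub, smul_eq_mul, smul_eq_mul]
      ring
  have hL : L.lTensor A' z = 0 := by
    refine (TensorProduct.piRight A A A' fun _ : ι => ι → A).injective (funext fun k => ?_)
    refine (TensorProduct.piScalarRight A A A' ι).injective (funext fun i => ?_)
    rw [map_zero, Pi.zero_apply, map_zero, Pi.zero_apply]
    have h := hcomp z k i
    rw [hz, hv] at h
    refine Eq.trans ?_ h.symm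
    generalize L.lTensor A' z = w
    induction w with
    | zero => simp
    | add a b ha hb => simp only [map_add, Pi.add_apply, ha, hb]
    | tmul a f => simp
  obtain ⟨w, hw⟩ := (Module.Flat.lTensor_exact A' L.exact_subtype_ker_map z).1 hL
  have hx' : x = (j ((LinearMap.ker L).subtype.lTensor A' w)).1 := by rw [hw, hz]
  rw [hx']
  clear hx' hw
  induction w with
  | zero => simp
  | add a b ha hb => simp only [map_add, Prod.fst_add]; exact add_mem ha hb
  | tmul r p =>
    simp only [j, j₀, LinearMap.lTensor_tmul, LinearMap.liftBaseChange_tmul]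
    show r • algebraMap B B' (p : B × (ι → B)).1 ∈ _
    rw [Algebra.smul_def]
    refine Ideal.mul_mem_left _ _ (Ideal.mem_map_of_mem _ (mem_different_iff.2 (mem_differentSet_iff.2 fun l => ?_)))
    obtain ⟨⟨x₀, c₀⟩, hp⟩ := p
    refine ⟨∑ k, algebraMap A B (l.toLinearMap (b k)) * c₀ k, ?_⟩
    have hk : ∀ k, x₀ • co b k = c₀ k • Disc.Omega.trace A B := fun k =>
      Disc.Omega.ext (b.ext fun i => sub_eq_zero.1 (congrFun (congrFun (LinearMap.mem_ker.1 hp) k) i))
    conv_lhs => rw [eq_sum_co b l, Finset.smul_sum]
    rw [Finset.sum_smul]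
    exact Finset.sum_congr rfl fun k _ => by rw [smul_comm, hk, ← mul_smul]

end BaseChange

end Groth.Agent.H05EGA4.DiscBC
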