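import Groth.Agent.H05EGA4.DiscBC
import Groth.Agent.H06Unram.TraceForm
import Groth.Prelude.Def_EGA4b
import Mathlib.FieldTheory.IsAlgClosed.AlgebraicClosure
import Mathlib.LinearAlgebra.Matrix.Charpoly.Eigs
import Mathlib.RingTheory.Trace.Basic

/-! The Dedekind different and the dualizing module. -/

set_option autoImplicit false
set_option linter.style.haveILetI false

universe u

open TensorProduct Polynomial

namespace Groth.Agent.H05EGA4.DiscDedekind

variable {A K B L : Type u} [CommRing A] [CommRing K] [CommRing B] [CommRing L] [Algebra A K] [Algebra A B]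
  [Algebra B L] [Algebra K L] [Algebra A L] [IsScalarTower A K L] [IsScalarTower A B L]

section Basic

variable (h : QFDual.IsDedekindDefined A K B L)

include h in
theorem algebraMap_injective : Function.Injective (algebraMap A K) := by
  haveI := h.isFractionRing
  exact IsFractionRing.injective A K

include h in
theorem isBC : IsBaseChange K (IsScalarTower.toAlgHom A B L).toLinearMap := by
  haveI := h.isFractionRing
  haveI := h.isLocalization
  exact (isLocalizedModule_iff_isBaseChange (nonZeroDivisors A) K _).mp (isLocalizedModule_iff_isLocalization.mpr inferInstance)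

include h in
theorem bijective_traceForm : Function.Bijective (Algebra.traceForm K L) := by
  haveI := h.free
  haveI := h.finiteKL
  exact Groth.Agent.H06Unram.etale_iff_bijective_traceForm.1 h.etale

include h in
theorem ext_image (f g : L →ₗ[K] K) (hfg : ∀ b : B, f (algebraMap B L b) = g (algebraMap B L b)) : f = g :=
  (isBC h).algHom_ext' f g (LinearMap.ext hfg)

include h in
theorem eq_of_trace_eq (x y : L) (hxy : ∀ b : B, Algebra.trace K L (x * algebraMap B L b) = Algebra.trace K L (y * algebraMap B L b)) :
    x = y := by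
  refine (bijective_traceForm h).1 (ext_image h _ _ fun b => ?_)
  rw [Algebra.traceForm_apply, Algebra.traceForm_apply]
  exact hxy b

include h in
theorem exists_equiv : ∃ e : QFDual.complementary A K B L ≃ₗ[B] Disc.Omega A B,
    ∀ (x : QFDual.complementary A K B L) (b : B),
      algebraMap A K ((e x).toLinearMap b) = Algebra.trace K L ((x : L) * algebraMap B L b) := by
  have hinj := algebraMap_injective h
  choose a ha using fun (x : QFDual.complementary A K B L) (b : B) => RingHom.mem_range.1 (x.2 b)
  let e₀ : QFDual.complementary A K B L → Disc.Omega A B := fun x =>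
    ⟨{ toFun := a x
       map_add' := fun b b' => hinj (by rw [map_add (algebraMap A K), ha, ha, ha, map_add, mul_add, map_add])
       map_smul' := fun r b => hinj (by
         rw [RingHom.id_apply, smul_eq_mul, map_mul (algebraMap A K), ha, ha, Algebra.smul_def, map_mul (algebraMap B L),
           ← IsScalarTower.algebraMap_apply A B L, IsScalarTower.algebraMap_apply A K L, mul_left_comm,
           ← Algebra.smul_def, map_smul, smul_eq_mul]) }⟩
  have he : ∀ x b, algebraMap A K ((e₀ x).toLinearMap b) = Algebra.trace K L ((x : L) * algebraMap B L b) :=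
    fun x b => ha x b
  let e₁ : QFDual.complementary A K B L →ₗ[B] Disc.Omega A B :=
    { toFun := e₀
      map_add' := fun x y => Disc.Omega.ext (LinearMap.ext fun b => hinj (by
        rw [Disc.Omega.add_toLinearMap, LinearMap.add_apply, map_add, he, he, he, Submodule.coe_add, add_mul, map_add]))
      map_smul' := fun c x => Disc.Omega.ext (LinearMap.ext fun b => hinj (by
        rw [RingHom.id_apply, Disc.Omega.smul_toLinearMap_apply, he, he, Submodule.coe_smul, Algebra.smul_def, map_mul (algebraMap B L)]
        congr 1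
        ring)) }
  refine ⟨LinearEquiv.ofBijective e₁ ⟨fun x y hxy => Subtype.ext (eq_of_trace_eq h _ _ fun b => ?_), fun φ => ?_⟩, he⟩
  · rw [← he, ← he]
    exact congrArg (fun l : Disc.Omega A B => algebraMap A K (l.toLinearMap b)) hxy
  · obtain ⟨x, hx⟩ := (bijective_traceForm h).2 ((isBC h).lift (Algebra.linearMap A K ∘ₗ φ.toLinearMap))
    have hxb : ∀ b : B, Algebra.trace K L (x * algebraMap B L b) = algebraMap A K (φ.toLinearMap b) := fun b => by
      rw [← Algebra.traceForm_apply, hx]
      exact (isBC h).lift_eq _ b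
    refine ⟨⟨x, fun b => ⟨_, (hxb b).symm⟩⟩, Disc.Omega.ext (LinearMap.ext fun b => hinj ?_)⟩
    exact (he _ b).trans (hxb b)

end Basic

section Flat

variable (h : QFDual.IsDedekindDefined A K B L)

include h in
theorem one_mem_of_flat [Module.Flat A B] : (1 : L) ∈ QFDual.complementary A K B L := by
  classical
  haveI := h.isNoetherianRing
  haveI := h.finite
  haveI := h.free
  haveI := h.finiteKL
  haveI : Module.FinitePresentation A B := Module.finitePresentation_of_finite A B
  haveI : Module.Projective A B := Module.Flat.projective_of_finitePresentation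
  obtain ⟨n, π, ι, -, -, hι⟩ := Module.Finite.exists_comp_eq_id_of_projective A B
  let ιK : L →ₗ[K] (Fin n → K) := (isBC h).lift (
    (LinearMap.pi fun i => Algebra.linearMap A K ∘ₗ LinearMap.proj i) ∘ₗ ι)
  let πK : (Fin n → K) →ₗ[K] L := (Pi.basisFun K (Fin n)).constr K fun i => algebraMap B L (π (Pi.single i 1))
  have hιK : ∀ b i, ιK (algebraMap B L b) i = algebraMap A K (ι b i) := fun b i =>
    congrFun ((isBC h).lift_eq _ b) i
  have hid : πK ∘ₗ ιK = LinearMap.id := by
    refine (isBC h).algHom_ext' _ _ (LinearMap.ext fun b => ?_)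
    show πK (ιK (algebraMap B L b)) = algebraMap B L b
    conv_rhs => rw [← LinearMap.id_apply (R := A) b, ← hι, LinearMap.comp_apply, pi_eq_sum_univ' (ι b), map_sum, map_sum]
    rw [Module.Basis.constr_apply_fintype]
    refine Finset.sum_congr rfl fun i _ => ?_
    rw [map_smul π, Algebra.smul_def (ι b i), map_mul, ← IsScalarTower.algebraMap_apply A B L,
      IsScalarTower.algebraMap_apply A K L, ← Algebra.smul_def]
    congr 1
    exact hιK b i
  intro c
  refine ⟨∑ i, ι (c * π (Pi.single i 1)) i, ?_⟩
  rw [one_mul, Algebra.trace_apply]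
  have h1 : Algebra.lmul K L (algebraMap B L c) = (Algebra.lmul K L (algebraMap B L c) ∘ₗ πK) ∘ₗ ιK := by
    rw [LinearMap.comp_assoc, hid, LinearMap.comp_id]
  rw [h1, LinearMap.trace_comp_comm', LinearMap.trace_eq_matrix_trace K (Pi.basisFun K (Fin n)), Matrix.trace, map_sum]
  refine Finset.sum_congr rfl fun i _ => ?_
  rw [Matrix.diag_apply, LinearMap.toMatrix_apply]
  simp only [LinearMap.comp_apply, Pi.basisFun_repr, πK, Module.Basis.constr_basis]
  show _ = ιK (algebraMap B L c * algebraMap B L (π (Pi.single i 1))) i
  rw [← map_mul, hιK]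

end Flat

section Free

variable (h : QFDual.IsDedekindDefined A K B L) [Module.Finite A B] [Module.Free A B]

include h in
theorem trace_algebraMap (b : B) : Algebra.trace K L (algebraMap B L b) = algebraMap A K (Algebra.trace A B b) := by
  classical
  haveI := h.free
  haveI := h.finiteKL
  let e := Module.Free.chooseBasis A B
  let e' := (isBC h).basis e
  rw [Algebra.trace_eq_matrix_trace e', Algebra.trace_eq_matrix_trace e, Matrix.trace, Matrix.trace, map_sum]
  refine Finset.sum_congr rfl fun k _ => ?_
  rw [Matrix.diag_apply, Matrix.diag_apply, Algebra.leftMulMatrix_eq_repr_mul, Algebra.leftMulMatrix_eq_repr_mul,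
    IsBaseChange.basis_apply, AlgHom.toLinearMap_apply, IsScalarTower.coe_toAlgHom', ← map_mul]
  exact IsBaseChange.basis_repr_comp_apply e (isBC h) (b * e k) k

include h in
theorem dedekindDifferent_eq :
    QFDual.dedekindDifferent A K B L = Submodule.map (Algebra.linearMap B L) (QFDual.different B (Disc.Omega.trace A B)) := by
  obtain ⟨e, he⟩ := exists_equiv h
  have hinj := algebraMap_injective h
  have h1 : (1 : L) ∈ QFDual.complementary A K B L := fun b => ⟨_, by rw [one_mul]; exact (trace_algebraMap h b).symm⟩
  ext x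
  constructor
  · intro hx
    obtain ⟨b, hb⟩ := hx 1 h1
    rw [mul_one] at hb
    refine ⟨b, (QFDual.mem_different_iff _ _ b).2 fun m => ?_, hb⟩
    obtain ⟨c, hc⟩ := hx _ (e.symm m).2
    refine ⟨c, Disc.Omega.ext (LinearMap.ext fun z => hinj ?_)⟩
    rw [Disc.Omega.smul_toLinearMap_apply, Disc.Omega.smul_toLinearMap_apply, ← e.apply_symm_apply m, he]
    show algebraMap A K (Algebra.trace A B (c * z)) = _
    rw [← trace_algebraMap h, map_mul (algebraMap B L), hc, map_mul (algebraMap B L), hb]
    congr 1
    ring
  · rintro ⟨b, hb, rfl⟩ y hy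
    obtain ⟨c, hc⟩ := (QFDual.mem_different_iff _ _ b).1 hb (e ⟨y, hy⟩)
    refine ⟨c, eq_of_trace_eq h _ _ fun z => ?_⟩
    have h2 := congrArg (fun l : Disc.Omega A B => algebraMap A K (l.toLinearMap z)) hc
    simp only [Disc.Omega.smul_toLinearMap_apply, he] at h2
    rw [show algebraMap A K ((Disc.Omega.trace A B).toLinearMap (c * z)) = _ from (trace_algebraMap h (c * z)).symm] at h2
    simp only [map_mul (algebraMap B L)] at h2
    rw [h2, Algebra.linearMap_apply]
    congr 1
    ring

end Free

section Normal

theorem isIntegral_trace_matrix {R F : Type*} [CommRing R] [Field F] [IsAlgClosed F] [Algebra R F] {ι : Type*} [Fintype ι]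
    [DecidableEq ι] (M : Matrix ι ι F) {q : R[X]} (hq : q.Monic) (hM : aeval M q = 0) : IsIntegral R M.trace := by
  rw [Matrix.trace_eq_sum_roots_charpoly]
  refine IsIntegral.multiset_sum fun y hy => ⟨q, hq, ?_⟩
  have hroot := (Polynomial.mem_roots (M.charpoly_monic.ne_zero)).1 hy
  rw [Polynomial.IsRoot, Matrix.eval_charpoly] at hroot
  obtain ⟨v, hv, hMv⟩ := Matrix.exists_mulVec_eq_zero_iff.2 hroot
  have heig : M.mulVec v = y • v := by
    rw [Matrix.sub_mulVec, sub_eq_zero] at hMv
    rw [← hMv]
    simp [Matrix.scalar_apply, ← Matrix.smul_one_eq_diagonal, Matrix.smul_mulVec]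
  have hpow : ∀ k, (M ^ k).mulVec v = y ^ k • v := fun k => by
    induction k with
    | zero => simp
    | succ k ih => rw [pow_succ, ← Matrix.mulVec_mulVec, heig, Matrix.mulVec_smul, ih, smul_smul, ← pow_succ']
  have hq0 := congrArg (fun N : Matrix ι ι F => N.mulVec v) hM
  rw [Polynomial.aeval_eq_sum_range] at hq0
  simp only [Matrix.sum_mulVec, Matrix.zero_mulVec, Matrix.smul_mulVec, hpow] at hq0
  rw [show (fun x => q.coeff x • y ^ x • v) = fun x => (q.coeff x • y ^ x) • v from funext fun x => (smul_assoc _ _ _).symm,
    ← Finset.sum_smul] at hq0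
  rw [← Polynomial.aeval_def, Polynomial.aeval_eq_sum_range]
  exact (smul_eq_zero.1 hq0).resolve_right hv

variable (h : QFDual.IsDedekindDefined A K B L)

include h in
theorem one_mem_of_isNormalRing (hA : EGA4.IsNormalRing A) : (1 : L) ∈ QFDual.complementary A K B L := by
  classical
  haveI := h.isFractionRing
  haveI := h.finite
  haveI := h.free
  haveI := h.finiteKL
  intro c
  rw [one_mul]
  set t := Algebra.trace K L (algebraMap B L c)
  by_contra ht
  let C : Ideal A :=
    { carrier := {a : A | a • t ∈ Set.range (algebraMap A K)}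
      zero_mem' := by simp
      add_mem' := fun {a b} ha hb => by
        obtain ⟨x, hx⟩ := ha
        obtain ⟨y, hy⟩ := hb
        exact ⟨x + y, by rw [map_add, hx, hy, add_smul]⟩
      smul_mem' := fun r a ha => by
        obtain ⟨x, hx⟩ := ha
        exact ⟨r * x, by rw [map_mul, hx, smul_assoc, Algebra.smul_def r]⟩ }
  obtain ⟨p, hp, hle⟩ := Ideal.exists_le_maximal C fun htop => ht (by
    simpa [C] using (show (1 : A) ∈ C from htop ▸ Submodule.mem_top))
  haveI := (hA p).1
  haveI := (hA p).2
  let Ap := Localization.AtPrime p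
  let F := FractionRing Ap
  let Fb := AlgebraicClosure F
  have hu : ∀ s : nonZeroDivisors A, IsUnit (algebraMap A Fb s) := fun s => by
    refine isUnit_iff_ne_zero.2 fun h0 => ?_
    rw [IsScalarTower.algebraMap_apply A F Fb, map_eq_zero, IsScalarTower.algebraMap_apply A Ap F,
      map_eq_zero_iff _ (IsFractionRing.injective Ap F), IsLocalization.map_eq_zero_iff p.primeCompl] at h0
    obtain ⟨m, hm⟩ := h0
    exact m.2 (by rw [(mul_right_mem_nonZeroDivisors_eq_zero_iff s.2).1 hm]; exact p.zero_mem)
  let θ : K →ₐ[A] Fb := IsLocalization.liftAlgHom (M := nonZeroDivisors A) (f := Algebra.ofId A Fb) hu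
  let b := Module.Free.chooseBasis K L
  let M := Algebra.leftMulMatrix b (algebraMap B L c)
  obtain ⟨q, hq, hqc⟩ := Algebra.IsIntegral.isIntegral (R := A) c
  have hM : aeval (θ.mapMatrix M) q = 0 := by
    rw [show θ.mapMatrix M = (θ.mapMatrix.comp ((Algebra.leftMulMatrix b).restrictScalars A)) (IsScalarTower.toAlgHom A B L c) from rfl,
      Polynomial.aeval_algHom_apply, Polynomial.aeval_algHom_apply, aeval_def, hqc, map_zero, map_zero]
  have hint : IsIntegral A (θ t) := by
    have := isIntegral_trace_matrix (θ.mapMatrix M) hq hM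
    rwa [AlgHom.mapMatrix_apply, show (M.map θ).trace = θ M.trace from (map_sum θ _ _).symm, ← Algebra.trace_eq_matrix_trace b] at this
  -- descend to the fraction field of the normal local ring
  obtain ⟨⟨a, s⟩, has⟩ := IsLocalization.surj (nonZeroDivisors A) t
  let tF : F := algebraMap A F a / algebraMap A F s
  have htF : algebraMap F Fb tF = θ t := by
    rw [map_div₀, ← IsScalarTower.algebraMap_apply, ← IsScalarTower.algebraMap_apply, div_eq_iff (hu s).ne_zero]
    have := congrArg θ has
    rw [map_mul, AlgHom.commutes, AlgHom.commutes] at this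
    exact this.symm
  have hintF : IsIntegral Ap tF := by
    have h1 : IsIntegral A tF := (isIntegral_algebraMap_iff (algebraMap F Fb).injective).1 (htF ▸ hint)
    exact h1.tower_top
  obtain ⟨z, hz⟩ := IsIntegrallyClosed.isIntegral_iff.1 hintF
  obtain ⟨⟨r, m⟩, hrm⟩ := IsLocalization.surj p.primeCompl z
  -- `m s t = r s` up to an element outside `p`
  have h0 : algebraMap A Ap ((m : A) * a - r * s) = 0 := by
    refine IsFractionRing.injective Ap F ?_
    rw [map_zero, ← IsScalarTower.algebraMap_apply, map_sub, map_mul, map_mul, sub_eq_zero]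
    have hs0 : algebraMap A F s ≠ 0 := fun h0 => (hu s).ne_zero (by rw [IsScalarTower.algebraMap_apply A F Fb, h0, map_zero])
    have h2 := congrArg (algebraMap Ap F) hrm
    rw [map_mul, hz, ← IsScalarTower.algebraMap_apply, ← IsScalarTower.algebraMap_apply] at h2
    rw [← h2]
    show _ = algebraMap A F a / algebraMap A F s * algebraMap A F m * algebraMap A F s
    rw [mul_right_comm, div_mul_cancel₀ _ hs0, mul_comm]
  rw [IsLocalization.map_eq_zero_iff p.primeCompl] at h0
  obtain ⟨m', hm'⟩ := h0
  refine (m' * m).2 (hle ⟨(m' : A) * r, ?_⟩)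
  refine (IsLocalization.map_units K s).mul_left_injective ?_
  show algebraMap A K ((m' : A) * r) * algebraMap A K s = ((m' * m : p.primeCompl) : A) • t * algebraMap A K s
  rw [smul_mul_assoc, has, Algebra.smul_def, ← map_mul, ← map_mul]
  congr 1
  have : ((m' * m : p.primeCompl) : A) = m' * m := rfl
  rw [this]
  linear_combination -hm'

end Normal

end Groth.Agent.H05EGA4.DiscDedekind
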