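import Mathlib.LinearAlgebra.ExteriorAlgebra.Basic
import Mathlib.LinearAlgebra.Determinant
import Mathlib.RingTheory.Flat.Basic
import Mathlib.LinearAlgebra.TensorProduct.Pi

/-! A concrete model of the Koszul complex and Wiebe's lemma. -/

set_option autoImplicit false
set_option linter.style.haveILetI false
set_option maxHeartbeats 800000

universe u

namespace Groth.Agent.H05EGA4.KosModel

variable {A : Type u} [CommRing A]

/-- The total module of the Koszul complex of `n` elements. -/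
abbrev T (A : Type u) (n : ℕ) : Type u := (Fin n → Bool) → A

/-- The two halves of a chain. -/
def sp (n : ℕ) : T A (n + 1) ≃ₗ[A] T A n × T A n where
  toFun h := (fun S => h (Fin.cons true S), fun S => h (Fin.cons false S))
  invFun p := fun S => if S 0 then p.1 (Fin.tail S) else p.2 (Fin.tail S)
  map_add' _ _ := rfl
  map_smul' _ _ := rfl
  left_inv h := funext fun S => by
    cases hS : S 0
    · simp only [hS, Bool.false_eq_true, if_false]; exact congrArg h (by rw [← hS, Fin.cons_self_tail])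
    · simp only [hS, if_true]; exact congrArg h (by rw [← hS, Fin.cons_self_tail])
  right_inv p := Prod.ext (funext fun S => by simp) (funext fun S => by simp)

/-- Chains of degree `i`. -/
def G : ∀ n : ℕ, ℕ → Submodule A (T A n)
  | 0, 0 => ⊤
  | 0, _ + 1 => ⊥
  | n + 1, 0 => ((⊥ : Submodule A (T A n)).prod (G n 0)).comap (sp n).toLinearMap
  | n + 1, i + 1 => ((G n i).prod (G n (i + 1))).comap (sp n).toLinearMap

/-- Projection to degree `i`. -/
def pr : ∀ n : ℕ, ℕ → (T A n →ₗ[A] T A n)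
  | 0, 0 => LinearMap.id
  | 0, _ + 1 => 0
  | n + 1, 0 => (sp n).symm.toLinearMap ∘ₗ (LinearMap.prodMap 0 (pr n 0)) ∘ₗ (sp n).toLinearMap
  | n + 1, i + 1 => (sp n).symm.toLinearMap ∘ₗ (LinearMap.prodMap (pr n i) (pr n (i + 1))) ∘ₗ (sp n).toLinearMap

/-- The differential. -/
def D : ∀ n : ℕ, (Fin n → A) → (T A n →ₗ[A] T A n)
  | 0, _ => 0
  | n + 1, g => (sp n).symm.toLinearMap ∘ₗ
      (LinearMap.prod (-(D n (Fin.tail g) ∘ₗ LinearMap.fst A _ _))
        (g 0 • LinearMap.fst A _ _ + D n (Fin.tail g) ∘ₗ LinearMap.snd A _ _)) ∘ₗ (sp n).toLinearMap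

/-- Exterior multiplication. -/
def W : ∀ n : ℕ, (Fin n → A) → (T A n →ₗ[A] T A n)
  | 0, _ => 0
  | n + 1, v => (sp n).symm.toLinearMap ∘ₗ
      (LinearMap.prod (-(W n (Fin.tail v) ∘ₗ LinearMap.fst A _ _) + v 0 • LinearMap.snd A _ _)
        (W n (Fin.tail v) ∘ₗ LinearMap.snd A _ _)) ∘ₗ (sp n).toLinearMap

/-- The unit. -/
def one : ∀ n : ℕ, T A n
  | 0 => fun _ => 1
  | n + 1 => (sp n).symm (0, one n)

/-- The top element. -/
def top : ∀ n : ℕ, T A n
  | 0 => fun _ => 1
  | n + 1 => (sp n).symm (top n, 0)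

/-- The coefficient in degree zero. -/
def c0 (n : ℕ) : T A n →ₗ[A] A := LinearMap.proj fun _ => false

/-- The coefficient in top degree. -/
def ct (n : ℕ) : T A n →ₗ[A] A := LinearMap.proj fun _ => true

theorem cons_const (n : ℕ) (b : Bool) : (Fin.cons b (fun _ => b) : Fin (n + 1) → Bool) = fun _ => b := by
  funext i; induction i using Fin.cases <;> simp

theorem c0_sp (n : ℕ) (h : T A (n + 1)) : c0 (n + 1) h = c0 n (sp n h).2 :=
  congrArg h (cons_const n false).symm

theorem ct_sp (n : ℕ) (h : T A (n + 1)) : ct (n + 1) h = ct n (sp n h).1 :=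
  congrArg h (cons_const n true).symm

theorem sp_D (n : ℕ) (g : Fin (n + 1) → A) (h : T A (n + 1)) : sp n (D (n + 1) g h) =
    (-(D n (Fin.tail g) (sp n h).1), g 0 • (sp n h).1 + D n (Fin.tail g) (sp n h).2) :=
  (sp n).apply_symm_apply _

theorem sp_W (n : ℕ) (v : Fin (n + 1) → A) (h : T A (n + 1)) : sp n (W (n + 1) v h) =
    (-(W n (Fin.tail v) (sp n h).1) + v 0 • (sp n h).2, W n (Fin.tail v) (sp n h).2) :=
  (sp n).apply_symm_apply _

theorem D_D : ∀ (n : ℕ) (g : Fin n → A) (h : T A n), D n g (D n g h) = 0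
  | 0, _, _ => rfl
  | n + 1, g, h => (sp n).injective (by
      rw [sp_D, sp_D, map_zero]
      simp only [map_neg, neg_neg, D_D n, map_add, map_smul, smul_neg, add_zero, neg_add_cancel, Prod.mk_zero_zero])

theorem W_W : ∀ (n : ℕ) (v : Fin n → A) (h : T A n), W n v (W n v h) = 0
  | 0, _, _ => rfl
  | n + 1, v, h => (sp n).injective (by
      rw [sp_W, sp_W, map_zero]
      simp only [map_neg, neg_neg, W_W n, map_add, map_smul, neg_zero, zero_add, neg_add_cancel, Prod.mk_zero_zero])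

theorem D_W : ∀ (n : ℕ) (g v : Fin n → A) (h : T A n),
    D n g (W n v h) + W n v (D n g h) = (∑ j, v j * g j) • h
  | 0, _, _, h => by simp [D, W]
  | n + 1, g, v, h => (sp n).injective (by
      rw [map_add, sp_D, sp_W, sp_W, sp_D, map_smul, Fin.sum_univ_succ]
      have h1 := D_W n (Fin.tail g) (Fin.tail v) (sp n h).1
      have h2 := D_W n (Fin.tail g) (Fin.tail v) (sp n h).2
      simp only [Fin.tail] at h1 h2
      refine Prod.ext ?_ ?_
      · simp only [Prod.fst_add, Prod.smul_fst, map_add, map_neg, map_smul, neg_add_rev, neg_neg, smul_add,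
          smul_smul, add_smul]
        rw [← h1]
        simp only [Fin.tail_def]
        abel
      · simp only [Prod.snd_add, Prod.smul_snd, map_add, map_neg, map_smul, smul_add, smul_neg, smul_smul, add_smul]
        rw [← h2, mul_comm (g 0)]
        simp only [Fin.tail_def]
        abel)

theorem W_add : ∀ (n : ℕ) (v w : Fin n → A) (h : T A n), W n (v + w) h = W n v h + W n w h
  | 0, _, _, _ => by simp [W]
  | n + 1, v, w, h => (sp n).injective (by
      rw [map_add, sp_W, sp_W, sp_W, show Fin.tail (v + w) = Fin.tail v + Fin.tail w from rfl, W_add n, W_add n]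
      refine Prod.ext ?_ ?_ <;> simp [add_smul] <;> abel)

theorem W_smul : ∀ (n : ℕ) (a : A) (v : Fin n → A) (h : T A n), W n (a • v) h = a • W n v h
  | 0, _, _, _ => by simp [W]
  | n + 1, a, v, h => (sp n).injective (by
      rw [map_smul, sp_W, sp_W, show Fin.tail (a • v) = a • Fin.tail v from rfl, W_smul n, W_smul n]
      refine Prod.ext ?_ ?_ <;> simp [smul_smul, mul_comm])

/-- Exterior multiplication, linear in the vector. -/
def Wl (n : ℕ) : (Fin n → A) →ₗ[A] Module.End A (T A n) where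
  toFun v := W n v
  map_add' v w := LinearMap.ext (W_add n v w)
  map_smul' a v := LinearMap.ext (W_smul n a v)

theorem pr_mem : ∀ (n i : ℕ) (h : T A n), pr n i h ∈ G n i
  | 0, 0, _ => trivial
  | 0, _ + 1, _ => rfl
  | n + 1, 0, h => by
      show sp n (pr (n + 1) 0 h) ∈ (⊥ : Submodule A (T A n)).prod (G n 0)
      rw [show sp n (pr (n + 1) 0 h) = (0, pr n 0 (sp n h).2) from (sp n).apply_symm_apply _]
      exact ⟨zero_mem _, pr_mem n 0 _⟩
  | n + 1, i + 1, h => by
      show sp n (pr (n + 1) (i + 1) h) ∈ (G n i).prod (G n (i + 1))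
      rw [show sp n (pr (n + 1) (i + 1) h) = (pr n i (sp n h).1, pr n (i + 1) (sp n h).2) from (sp n).apply_symm_apply _]
      exact ⟨pr_mem n i _, pr_mem n (i + 1) _⟩

theorem pr_of_mem : ∀ (n i : ℕ) (h : T A n), h ∈ G n i → pr n i h = h
  | 0, 0, _, _ => rfl
  | 0, _ + 1, h, hh => (show h = 0 from hh) ▸ rfl
  | n + 1, 0, h, ⟨h1, h2⟩ => (sp n).injective (((sp n).apply_symm_apply _).trans
      (Prod.ext (show (0 : T A n) = _ from h1.symm) (pr_of_mem n 0 _ h2)))
  | n + 1, i + 1, h, ⟨h1, h2⟩ => (sp n).injective (((sp n).apply_symm_apply _).trans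
      (Prod.ext (pr_of_mem n i _ h1) (pr_of_mem n (i + 1) _ h2)))

theorem D_pr : ∀ (n : ℕ) (g : Fin n → A) (i : ℕ) (h : T A n),
    D n g (pr n 0 h) = 0 ∧ D n g (pr n (i + 1) h) = pr n i (D n g h)
  | 0, _, _, _ => ⟨rfl, (map_zero _).symm⟩
  | n + 1, g, i, h => by
      refine ⟨(sp n).injective ?_, ?_⟩
      · rw [sp_D, show sp n (pr (n + 1) 0 h) = (0, pr n 0 (sp n h).2) from (sp n).apply_symm_apply _, map_zero,
          (D_pr n _ 0 _).1]
        simp
      · cases i with
        | zero =>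
          refine (sp n).injective ?_
          rw [sp_D, show sp n (pr (n + 1) 1 h) = (pr n 0 (sp n h).1, pr n 1 (sp n h).2) from (sp n).apply_symm_apply _,
            show sp n (pr (n + 1) 0 (D (n + 1) g h)) = (0, pr n 0 (sp n (D (n + 1) g h)).2) from (sp n).apply_symm_apply _,
            sp_D, (D_pr n _ 0 _).1, (D_pr n _ 0 _).2]
          simp
        | succ i =>
          refine (sp n).injective ?_
          rw [sp_D, show sp n (pr (n + 1) (i + 2) h) = (pr n (i + 1) (sp n h).1, pr n (i + 2) (sp n h).2) from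
              (sp n).apply_symm_apply _,
            show sp n (pr (n + 1) (i + 1) (D (n + 1) g h)) =
              (pr n i (sp n (D (n + 1) g h)).1, pr n (i + 1) (sp n (D (n + 1) g h)).2) from (sp n).apply_symm_apply _,
            sp_D, (D_pr n _ i _).2, (D_pr n _ (i + 1) _).2]
          simp

theorem D_mem (n : ℕ) (g : Fin n → A) (i : ℕ) {h : T A n} (hh : h ∈ G n (i + 1)) : D n g h ∈ G n i := by
  rw [← pr_of_mem n (i + 1) h hh, (D_pr n g i h).2]
  exact pr_mem n i _

theorem G_eq_bot : ∀ (n i : ℕ), n < i → G (A := A) n i = ⊥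
  | 0, _ + 1, _ => rfl
  | n + 1, i + 1, hi => by
      rw [G, G_eq_bot n i (by omega), G_eq_bot n (i + 1) (by omega), Submodule.prod_bot, Submodule.comap_bot,
        LinearEquiv.ker]

theorem one_mem : ∀ n : ℕ, one (A := A) n ∈ G n 0
  | 0 => trivial
  | n + 1 => by
      show sp n (one (n + 1)) ∈ (⊥ : Submodule A (T A n)).prod (G n 0)
      rw [one, LinearEquiv.apply_symm_apply]
      exact ⟨zero_mem _, one_mem n⟩

theorem c0_one : ∀ n : ℕ, c0 n (one (A := A) n) = 1
  | 0 => rfl
  | n + 1 => by rw [c0_sp, one, LinearEquiv.apply_symm_apply]; exact c0_one n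

theorem eq_c0_smul : ∀ (n : ℕ) (h : T A n), h ∈ G n 0 → h = c0 n h • one n
  | 0, h, _ => funext fun S => by
      rw [show S = fun _ => false from Subsingleton.elim _ _]
      simp [c0, one]
  | n + 1, h, ⟨h1, h2⟩ => (sp n).injective (by
      rw [map_smul, one, LinearEquiv.apply_symm_apply, Prod.smul_mk, smul_zero, c0_sp]
      exact Prod.ext h1 (eq_c0_smul n _ h2))

theorem top_mem : ∀ n : ℕ, top (A := A) n ∈ G n n
  | 0 => trivial
  | n + 1 => by
      show sp n (top (n + 1)) ∈ (G n n).prod (G n (n + 1))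
      rw [top, LinearEquiv.apply_symm_apply]
      exact ⟨top_mem n, zero_mem _⟩

theorem ct_top : ∀ n : ℕ, ct n (top (A := A) n) = 1
  | 0 => rfl
  | n + 1 => by rw [ct_sp, top, LinearEquiv.apply_symm_apply]; exact ct_top n

theorem eq_ct_smul : ∀ (n : ℕ) (h : T A n), h ∈ G n n → h = ct n h • top n
  | 0, h, _ => funext fun S => by
      rw [show S = fun _ => true from Subsingleton.elim _ _]
      simp [ct, top]
  | n + 1, h, ⟨h1, h2⟩ => (sp n).injective (by
      rw [map_smul, top, LinearEquiv.apply_symm_apply, Prod.smul_mk, smul_zero, ct_sp]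
      refine Prod.ext (eq_ct_smul n _ h1) ?_
      rwa [G_eq_bot n (n + 1) (Nat.lt_succ_self n)] at h2)

theorem D_one (n : ℕ) (g : Fin n → A) : D n g (one n) = 0 := by
  rw [← pr_of_mem n 0 _ (one_mem n)]
  exact (D_pr n g 0 _).1

theorem W_mem : ∀ (n : ℕ) (v : Fin n → A) (i : ℕ) (h : T A n), h ∈ G n i → W n v h ∈ G n (i + 1)
  | 0, _, _, _, _ => by simp [W]
  | n + 1, v, 0, h, ⟨h1, h2⟩ => by
      show sp n (W (n + 1) v h) ∈ (G n 0).prod (G n 1)
      rw [sp_W, show (sp n h).1 = 0 from h1, map_zero, neg_zero, zero_add]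
      exact ⟨Submodule.smul_mem _ _ h2, W_mem n _ 0 _ h2⟩
  | n + 1, v, i + 1, h, ⟨h1, h2⟩ => by
      show sp n (W (n + 1) v h) ∈ (G n (i + 1)).prod (G n (i + 2))
      rw [sp_W]
      exact ⟨add_mem (neg_mem (W_mem n _ i _ h1)) (Submodule.smul_mem _ _ h2), W_mem n _ (i + 1) _ h2⟩

theorem c0_W : ∀ (n : ℕ) (v : Fin n → A) (h : T A n), c0 n (W n v h) = 0
  | 0, _, _ => by simp [W]
  | n + 1, v, h => by rw [c0_sp, sp_W]; exact c0_W n _ _

/-- The differential has coefficients in the ideal. -/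
theorem D_coeff : ∀ (n : ℕ) (g : Fin n → A) (I : Ideal A), (∀ j, g j ∈ I) → ∀ (h : T A n) (S : Fin n → Bool),
    D n g h S ∈ I
  | 0, _, I, _, _, _ => I.zero_mem
  | n + 1, g, I, hg, h, S => by
      rw [← (sp n).symm_apply_apply (D (n + 1) g h), sp_D]
      show (if S 0 then (-(D n (Fin.tail g) (sp n h).1)) (Fin.tail S) else _) ∈ I
      split_ifs
      · exact neg_mem (D_coeff n (Fin.tail g) I (fun j => hg j.succ) _ _)
      · show g 0 * _ + _ ∈ I
        exact add_mem (Ideal.mul_mem_right _ _ (hg 0)) (D_coeff n (Fin.tail g) I (fun j => hg j.succ) _ _)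

/-- The map of Koszul complexes of a matrix. -/
def Φ (m : ℕ) : ∀ n : ℕ, (Fin n → Fin m → A) → (T A n →ₗ[A] T A m)
  | 0, _ => (c0 0).smulRight (one m)
  | n + 1, c => (LinearMap.coprod (W m (c 0) ∘ₗ Φ m n (Fin.tail c)) (Φ m n (Fin.tail c))) ∘ₗ (sp n).toLinearMap

theorem Φ_apply (m n : ℕ) (c : Fin (n + 1) → Fin m → A) (h : T A (n + 1)) :
    Φ m (n + 1) c h = W m (c 0) (Φ m n (Fin.tail c) (sp n h).1) + Φ m n (Fin.tail c) (sp n h).2 := rfl

theorem Φ_D (m : ℕ) (g : Fin m → A) : ∀ (n : ℕ) (f : Fin n → A) (c : Fin n → Fin m → A),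
    (∀ i, f i = ∑ j, c i j * g j) → ∀ h, D m g (Φ m n c h) = Φ m n c (D n f h)
  | 0, _, _, _, h => by simp [Φ, D, D_one]
  | n + 1, f, c, hc, h => by
      have ih := Φ_D m g n (Fin.tail f) (Fin.tail c) fun i => hc i.succ
      rw [Φ_apply, Φ_apply, sp_D, map_add, ih, map_neg, map_neg, map_add, map_smul, ← ih (sp n h).1]
      have h1 := D_W m g (c 0) (Φ m n (Fin.tail c) (sp n h).1)
      rw [← hc 0] at h1
      rw [← h1]
      abel

theorem Φ_mem (m : ℕ) : ∀ (n : ℕ) (c : Fin n → Fin m → A) (i : ℕ) (h : T A n), h ∈ G n i → Φ m n c h ∈ G m i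
  | 0, _, 0, _, _ => Submodule.smul_mem _ _ (one_mem m)
  | 0, _, i + 1, h, hh => by rw [show h = 0 from hh, map_zero]; exact zero_mem _
  | n + 1, c, 0, h, ⟨h1, h2⟩ => by
      rw [Φ_apply, show (sp n h).1 = 0 from h1, map_zero, map_zero, zero_add]
      exact Φ_mem m n _ 0 _ h2
  | n + 1, c, i + 1, h, ⟨h1, h2⟩ => by
      rw [Φ_apply]
      exact add_mem (W_mem m _ i _ (Φ_mem m n _ i _ h1)) (Φ_mem m n _ (i + 1) _ h2)

theorem c0_Φ (m : ℕ) : ∀ (n : ℕ) (c : Fin n → Fin m → A) (h : T A n), c0 m (Φ m n c h) = c0 n h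
  | 0, _, h => by simp [Φ, c0_one]
  | n + 1, c, h => by rw [Φ_apply, map_add, c0_W, zero_add, c0_Φ m n, c0_sp]

theorem Φ_top (m : ℕ) : ∀ (n : ℕ) (c : Fin n → Fin m → A),
    Φ m n c (top n) = ((List.ofFn fun i => Wl m (c i)).prod : Module.End A (T A m)) (one m)
  | 0, _ => by simp [Φ, top, c0]
  | n + 1, c => by
      rw [Φ_apply, top, LinearEquiv.apply_symm_apply, map_zero, add_zero, Φ_top m n, List.ofFn_succ, List.prod_cons]
      rfl

theorem prod_W_cons : ∀ {n : ℕ} (l : List (Fin n → A)) (b : T A n),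
    ((l.map fun v => Wl (n + 1) (Fin.cons 0 v)).prod : Module.End A _) ((sp n).symm (0, b)) =
      (sp n).symm (0, ((l.map fun v => Wl n v).prod : Module.End A _) b)
  | n, [], b => rfl
  | n, v :: l, b => by
      rw [List.map_cons, List.prod_cons, Module.End.mul_apply, prod_W_cons l b, List.map_cons, List.prod_cons,
        Module.End.mul_apply]
      refine (sp n).injective ?_
      show sp n (W (n + 1) (Fin.cons 0 v) _) = _
      rw [sp_W, LinearEquiv.apply_symm_apply, LinearEquiv.apply_symm_apply, Fin.tail_cons, Fin.cons_zero, map_zero,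
        neg_zero, zero_add, zero_smul]
      rfl

theorem prod_basis : ∀ n : ℕ,
    ((List.ofFn fun i => Wl n (Pi.single i (1 : A))).prod : Module.End A (T A n)) (one n) = top n
  | 0 => rfl
  | n + 1 => by
      rw [List.ofFn_succ, List.prod_cons, Module.End.mul_apply, one]
      have h1 : (List.ofFn fun i : Fin n => Wl (n + 1) (Pi.single i.succ (1 : A))) =
          (List.ofFn fun i : Fin n => (Pi.single i (1 : A) : Fin n → A)).map fun v => Wl (n + 1) (Fin.cons 0 v) := by
        rw [List.map_ofFn]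
        refine congrArg List.ofFn (funext fun i => congrArg (Wl (n + 1)) (funext fun j => ?_))
        induction j using Fin.cases with
        | zero => simp
        | succ j => simp [Pi.single_apply]
      rw [h1, prod_W_cons, List.map_ofFn,
        show ((fun v => Wl n v) ∘ fun i : Fin n => (Pi.single i (1 : A) : Fin n → A)) = fun i => Wl n (Pi.single i 1) from rfl,
        prod_basis n, top]
      refine (sp n).injective ?_
      show sp n (W (n + 1) _ _) = _
      rw [sp_W, LinearEquiv.apply_symm_apply, LinearEquiv.apply_symm_apply]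
      have hz : ∀ v : Fin n → A, (∀ j, v j = 0) → ∀ h : T A n, W n v h = 0 := fun v hv h => by
        rw [show v = 0 from funext hv]
        exact LinearMap.congr_fun (map_zero (Wl (A := A) n)) h
      rw [hz _ (fun j => by simp [Fin.tail]), hz _ (fun j => by simp [Fin.tail]), neg_zero, zero_add]
      simp

/-- The top coefficient is the determinant. -/
theorem Φ_top_eq_det (n : ℕ) (c : Matrix (Fin n) (Fin n) A) :
    Φ n n (fun i => c i) (top n) = c.det • top n := by
  let e : ExteriorAlgebra A (Fin n → A) →ₐ[A] Module.End A (T A n) :=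
    ExteriorAlgebra.lift A ⟨Wl n, fun v => LinearMap.ext (W_W n v)⟩
  let F : (Fin n → A) [⋀^Fin n]→ₗ[A] A :=
    ((ct n).comp ((LinearMap.applyₗ (one n)).comp e.toLinearMap)).compAlternatingMap (ExteriorAlgebra.ιMulti A n)
  have hF : ∀ v, F v = ct n (((List.ofFn fun i => Wl n (v i)).prod : Module.End A (T A n)) (one n)) := fun v => by
    show ct n (e (ExteriorAlgebra.ιMulti A n v) (one n)) = _
    rw [ExteriorAlgebra.ιMulti_apply, map_list_prod, List.map_ofFn]
    congr 4
    funext i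
    exact ExteriorAlgebra.lift_ι_apply A (Wl n) _ (v i)
  rw [eq_ct_smul n _ (Φ_mem n n _ n _ (top_mem n)), Φ_top, ← hF]
  congr 1
  have hb : F (Pi.basisFun A (Fin n)) = 1 := by
    rw [hF]
    simp only [Pi.basisFun_apply]
    rw [prod_basis, ct_top]
  rw [F.eq_smul_basis_det (Pi.basisFun A (Fin n)), hb]
  simp [Pi.basisFun_det, Matrix.detRowAlternating]
  rfl

/-- Exactness in positive degrees. -/
def Exact {n : ℕ} (g : Fin n → A) : Prop :=
  ∀ (i : ℕ) (y : T A n), y ∈ G n (i + 1) → D n g y = 0 → ∃ z ∈ G n (i + 2), D n g z = y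

theorem exists_lift {n m : ℕ} {f : Fin n → A} (hf : Exact f) (i : ℕ) (ρ : T A m →ₗ[A] T A n)
    (h1 : ∀ y, ρ y ∈ G n (i + 1)) (h2 : ∀ y, D n f (ρ y) = 0) :
    ∃ σ : T A m →ₗ[A] T A n, (∀ y, σ y ∈ G n (i + 2)) ∧ ∀ y, D n f (σ y) = ρ y := by
  classical
  choose z hz hDz using fun S : Fin m → Bool => hf i _ (h1 (Pi.single S 1)) (h2 _)
  refine ⟨Fintype.linearCombination A z, fun y => ?_, fun y => ?_⟩
  · rw [Fintype.linearCombination_apply]
    exact sum_mem fun S _ => Submodule.smul_mem _ _ (hz S)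
  · conv_rhs => rw [pi_eq_sum_univ' y]
    simp [Fintype.linearCombination_apply, map_sum, hDz]

/-- Wiebe's lemma. -/
theorem colon_le_det {n : ℕ} (f g : Fin n → A) (hf : Exact f) (c : Matrix (Fin n) (Fin n) A)
    (hc : ∀ i, f i = ∑ j, c i j * g j) (x : A) (hx : ∀ j, x * g j ∈ Ideal.span (Set.range f)) :
    x ∈ Ideal.span (Set.range f) ⊔ Ideal.span {c.det} := by
  classical
  let I := Ideal.span (Set.range f)
  -- the lifted map
  have hbase : ∀ a ∈ I, ∃ z ∈ G n 1, D n f z = a • one n := fun a ha => by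
    obtain ⟨b, rfl⟩ := (Ideal.mem_span_range_iff_exists_fun).1 ha
    refine ⟨W n b (one n), W_mem n b 0 _ (one_mem n), ?_⟩
    have h := D_W n f b (one n)
    rw [D_one, map_zero, add_zero] at h
    exact h
  let ψ₀ : T A n →ₗ[A] T A n := (x • c0 n).smulRight (one n)
  have hψ1 : ∃ σ : T A n →ₗ[A] T A n, (∀ y, σ y ∈ G n 1) ∧ ∀ y, D n f (σ y) = ψ₀ (D n g y) := by
    have hI : ∀ y, (x • c0 n) (D n g y) ∈ I := fun y => by
      have h1 : c0 n (D n g y) ∈ Ideal.span (Set.range g) :=
        D_coeff n g (Ideal.span (Set.range g)) (fun j => Ideal.subset_span ⟨j, rfl⟩) y _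
      show x * c0 n (D n g y) ∈ I
      obtain ⟨b, hb⟩ := (Ideal.mem_span_range_iff_exists_fun).1 h1
      rw [← hb, Finset.mul_sum]
      exact sum_mem fun j _ => by rw [mul_left_comm]; exact Ideal.mul_mem_left _ _ (hx j)
    choose z hz hDz using fun S : Fin n → Bool => hbase _ (hI (Pi.single S 1))
    refine ⟨Fintype.linearCombination A z, fun y => ?_, fun y => ?_⟩
    · rw [Fintype.linearCombination_apply]
      exact sum_mem fun S _ => Submodule.smul_mem _ _ (hz S)
    · conv_rhs => rw [pi_eq_sum_univ' y]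
      simp [Fintype.linearCombination_apply, map_sum, hDz, ψ₀, smul_smul, Finset.mul_sum, Finset.sum_smul, mul_left_comm]
  have hψ : ∀ i : ℕ, ∃ σ σ' : T A n →ₗ[A] T A n, (∀ y, σ y ∈ G n i) ∧ (∀ y, σ' y ∈ G n (i + 1)) ∧
      (∀ y, D n f (σ' y) = σ (D n g y)) ∧ ∃ χ χ' : T A n →ₗ[A] T A n,
        χ = σ ∘ₗ Φ n n (fun r => c r) - x • pr n i ∧ χ' = σ' ∘ₗ Φ n n (fun r => c r) - x • pr n (i + 1) ∧
        ∃ h₀ h₁ : T A n →ₗ[A] T A n, (∀ y, h₁ y ∈ G n (i + 1)) ∧ (∀ y, χ y = h₀ (D n f y) + D n f (h₁ y)) := by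
    intro i
    induction i with
    | zero =>
      obtain ⟨σ, h1, h2⟩ := hψ1
      refine ⟨ψ₀, σ, fun y => Submodule.smul_mem _ _ (one_mem n), h1, h2, _, _, rfl, rfl, 0, 0, fun y => zero_mem _, fun y => ?_⟩
      have h3 := eq_c0_smul n _ (pr_mem n 0 y)
      have h4 : c0 n (pr n 0 y) = c0 n y := by
        clear * -
        induction n with
        | zero => rfl
        | succ n ih =>
          rw [c0_sp, c0_sp, show sp n (pr (n + 1) 0 y) = (0, pr n 0 (sp n y).2) from (sp n).apply_symm_apply _]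
          exact ih _
      rw [h4] at h3
      simp [ψ₀, c0_Φ, h3, smul_smul]
    | succ i ih =>
      obtain ⟨σ, σ', h1, h2, h3, χ, χ', hχ, hχ', h₀, h₁, hh₁, hhom⟩ := ih
      obtain ⟨σ'', h4, h5⟩ := exists_lift hf i (σ' ∘ₗ D n g) (fun y => h2 _) fun y => by
        show D n f (σ' (D n g y)) = 0
        rw [h3, D_D, map_zero]
      have hDχ : ∀ y, D n f (χ' y) = χ (D n f y) := fun y => by
        rw [hχ', hχ]
        simp only [LinearMap.sub_apply, LinearMap.comp_apply, LinearMap.smul_apply, map_sub, map_smul, h3,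
          (D_pr n f i y).2]
        rw [Φ_D n g n f (fun r => c r) hc]
      obtain ⟨h₂, h6, h7⟩ := exists_lift hf i (χ' - h₁ ∘ₗ D n f) (fun y => by
          rw [hχ']
          exact sub_mem (sub_mem (h2 _) (Submodule.smul_mem _ _ (pr_mem n (i + 1) y))) (hh₁ _))
        fun y => by
          rw [LinearMap.sub_apply, map_sub, hDχ, LinearMap.comp_apply, hhom, D_D, map_zero, zero_add, sub_self]
      refine ⟨σ', σ'', h2, h4, h5, χ', _, hχ', rfl, h₁, h₂, h6, fun y => ?_⟩
      rw [h7]
      simp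
  obtain ⟨σ, σ', hσ, -, -, χ, χ', hχ, -, h₀, h₁, hh₁, hhom⟩ := hψ n
  have h := hhom (top n)
  have hz : h₁ (top n) = 0 := by
    have := hh₁ (top n)
    rwa [G_eq_bot n (n + 1) (Nat.lt_succ_self n)] at this
  rw [hz, map_zero, add_zero, hχ, LinearMap.sub_apply, LinearMap.comp_apply, Φ_top_eq_det, map_smul,
    LinearMap.smul_apply, pr_of_mem n n _ (top_mem n)] at h
  have h2 : ct n (h₀ (D n f (top n))) ∈ I := by
    rw [pi_eq_sum_univ' (D n f (top n)), map_sum, map_sum]
    exact sum_mem fun S _ => by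
      rw [map_smul, map_smul, smul_eq_mul]
      exact Ideal.mul_mem_right _ _ (D_coeff n f I (fun j => Ideal.subset_span ⟨j, rfl⟩) _ S)
  rw [← h, map_sub, map_smul, map_smul, ct_top, smul_eq_mul, smul_eq_mul, mul_one] at h2
  have h3 : c.det * ct n (σ (top n)) ∈ I ⊔ Ideal.span {c.det} :=
    Ideal.mem_sup_right (Ideal.mul_mem_right _ _ (Ideal.mem_span_singleton_self _))
  have h4 := sub_mem h3 (Ideal.mem_sup_left h2)
  rwa [sub_sub_cancel] at h4

section Map

variable {B : Type u} [CommRing B]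

theorem D_map (κ : A →+ B) : ∀ (n : ℕ) (g : Fin n → A) (g' : Fin n → B),
    (∀ j a, κ (g j * a) = g' j * κ a) → ∀ (h : T A n) (S : Fin n → Bool),
      D n g' (fun S => κ (h S)) S = κ (D n g h S)
  | 0, _, _, _, _, _ => (map_zero κ).symm
  | n + 1, g, g', hg, h, S => by
      have ih := D_map κ n (Fin.tail g) (Fin.tail g') fun j => hg j.succ
      rw [← (sp n).symm_apply_apply (D (n + 1) g' fun S => κ (h S)), sp_D,
        ← (sp n).symm_apply_apply (D (n + 1) g h), sp_D]
      show (if S 0 then _ else _) = κ (if S 0 then _ else _)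
      split_ifs
      · show -(D n _ (fun S => κ ((sp n h).1 S)) _) = κ (-_)
        rw [map_neg, ih]
      · show g' 0 * κ ((sp n h).1 _) + D n _ (fun S => κ ((sp n h).2 S)) _ = κ (g 0 * _ + _)
        rw [map_add, hg, ih]

theorem pr_map (κ : A →+ B) : ∀ (n i : ℕ) (h : T A n) (S : Fin n → Bool),
    pr n i (fun S => κ (h S)) S = κ (pr n i h S)
  | 0, 0, _, _ => rfl
  | 0, _ + 1, _, _ => (map_zero κ).symm
  | n + 1, 0, h, S => by
      show (if S 0 then (0 : T B n) (Fin.tail S) else pr n 0 (fun S => κ ((sp n h).2 S)) (Fin.tail S)) =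
        κ (if S 0 then (0 : T A n) (Fin.tail S) else pr n 0 (sp n h).2 (Fin.tail S))
      split_ifs
      · exact (map_zero κ).symm
      · exact pr_map κ n 0 _ _
  | n + 1, i + 1, h, S => by
      show (if S 0 then pr n i (fun S => κ ((sp n h).1 S)) _ else pr n (i + 1) (fun S => κ ((sp n h).2 S)) _) =
        κ (if S 0 then _ else _)
      split_ifs
      · exact pr_map κ n i _ _
      · exact pr_map κ n (i + 1) _ _

end Map

end Groth.Agent.H05EGA4.KosModel
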