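import Groth.Agent.H05EGA4.KosModel
import Groth.Agent.H29Slice.KoszulReg

/-! The Koszul complex of the prelude in coordinates, and base change of exactness. -/

set_option autoImplicit false
set_option linter.style.haveILetI false
set_option maxHeartbeats 800000

open CategoryTheory CategoryTheory.Limits TensorProduct
open Groth.Agent.H8Props.PseudoCoh

universe u

namespace Groth.Agent.H05EGA4.KosTransfer

open KosModel

variable {A : Type u} [CommRing A]

/-- Coordinates for the Koszul complex. -/
theorem exists_coords : ∀ l : List A, ∃ e : ∀ i : ℕ, (Koszul.koszul A l).X (-(i : ℤ)) →ₗ[A] T A l.length,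
    (∀ i, Function.Injective (e i)) ∧ (∀ i, LinearMap.range (e i) = G l.length i) ∧
      ∀ (i : ℕ) (x : (Koszul.koszul A l).X (-((i + 1 : ℕ) : ℤ))),
        e i ((Koszul.koszul A l).d (-((i + 1 : ℕ) : ℤ)) (-(i : ℤ)) x) = D l.length l.get (e (i + 1) x)
  | [] => by
    let ε := (HomologicalComplex.singleObjXSelf (ComplexShape.up ℤ) 0 (ModuleCat.of A A)).toLinearEquiv
    have hsub : ∀ i : ℕ, Subsingleton ((Koszul.koszul A ([] : List A)).X (-((i + 1 : ℕ) : ℤ))) := fun i =>
      ModuleCat.subsingleton_of_isZero (koszul_isZero ([] : List A) _ (Or.inl (by simp only [List.length_nil]; push_cast; omega)))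
    refine ⟨fun i => match i with
      | 0 => (LinearMap.pi fun _ => LinearMap.id) ∘ₗ ε.toLinearMap
      | _ + 1 => 0, fun i => ?_, fun i => ?_, fun i x => ?_⟩
    · cases i with
      | zero =>
        intro x y h
        exact ε.injective (congrFun h (fun j => j.elim0))
      | succ i => exact fun x y _ => (hsub i).elim x y
    · cases i with
      | zero =>
        refine top_le_iff.1 fun h _ => ?_
        refine ⟨ε.symm (h fun j => j.elim0), funext fun S => ?_⟩
        show ε (ε.symm _) = h S
        rw [ε.apply_symm_apply]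
        exact congrArg h (funext fun j => j.elim0)
      | succ i => exact LinearMap.range_zero
    · have hx : x = 0 := (hsub i).elim x 0
      subst hx
      simp
  | f :: l => by
    obtain ⟨e, hinj, hran, hd⟩ := exists_coords l
    let φ := f • 𝟙 (Koszul.koszul A l)
    let c0 := coneXEquiv φ (-((0 : ℕ) : ℤ)) 1 (by simp)
    let cs := fun i : ℕ => coneXEquiv φ (-((i + 1 : ℕ) : ℤ)) (-(i : ℤ)) (by push_cast; ring)
    have h1 : Subsingleton ((Koszul.koszul A l).X 1) :=
      ModuleCat.subsingleton_of_isZero (koszul_isZero l 1 (Or.inr one_pos))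
    refine ⟨fun i => match i with
      | 0 => (sp l.length).symm.toLinearMap ∘ₗ LinearMap.prod 0 (e 0 ∘ₗ LinearMap.snd A _ _ ∘ₗ c0.toLinearMap)
      | i + 1 => (sp l.length).symm.toLinearMap ∘ₗ
          LinearMap.prodMap (e i) (e (i + 1)) ∘ₗ (cs i).toLinearMap, fun i => ?_, fun i => ?_, fun i x => ?_⟩
    · cases i with
      | zero =>
        intro x y h
        have h2 := congrArg Prod.snd ((sp l.length).symm.injective h)
        exact c0.injective (Prod.ext (h1.elim _ _) (hinj 0 h2))
      | succ i =>
        intro x y h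
        have h2 := (sp l.length).symm.injective h
        exact (cs i).injective (Prod.ext (hinj i (congrArg Prod.fst h2)) (hinj (i + 1) (congrArg Prod.snd h2)))
    · cases i with
      | zero =>
        refine le_antisymm ?_ ?_
        · rintro _ ⟨x, rfl⟩
          show sp l.length ((sp l.length).symm (0, e 0 (c0 x).2)) ∈ (⊥ : Submodule A _).prod (G l.length 0)
          rw [LinearEquiv.apply_symm_apply]
          exact ⟨zero_mem _, hran 0 ▸ ⟨_, rfl⟩⟩
        · rintro h ⟨ha, hb⟩
          rw [← hran 0] at hb
          obtain ⟨y, hy⟩ := hb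
          refine ⟨c0.symm (0, y), (sp l.length).injective ?_⟩
          show sp l.length ((sp l.length).symm (0, e 0 (c0 (c0.symm (0, y))).2)) = _
          rw [LinearEquiv.apply_symm_apply, c0.apply_symm_apply]
          exact Prod.ext ha.symm hy
      | succ i =>
        refine le_antisymm ?_ ?_
        · rintro _ ⟨x, rfl⟩
          show sp l.length ((sp l.length).symm (e i (cs i x).1, e (i + 1) (cs i x).2)) ∈
            (G l.length i).prod (G l.length (i + 1))
          rw [LinearEquiv.apply_symm_apply]
          exact ⟨hran i ▸ ⟨_, rfl⟩, hran (i + 1) ▸ ⟨_, rfl⟩⟩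
        · rintro h ⟨ha, hb⟩
          rw [← hran i] at ha
          rw [← hran (i + 1)] at hb
          obtain ⟨y, hy⟩ := ha
          obtain ⟨z, hz⟩ := hb
          refine ⟨(cs i).symm (y, z), (sp l.length).injective ?_⟩
          show sp l.length ((sp l.length).symm (e i (cs i ((cs i).symm (y, z))).1, e (i + 1) (cs i ((cs i).symm (y, z))).2)) = _
          rw [LinearEquiv.apply_symm_apply, (cs i).apply_symm_apply]
          exact Prod.ext hy hz
    · refine (sp l.length).injective (Eq.trans ?_ (sp_D l.length (f :: l).get _).symm)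
      cases i with
      | zero =>
        have hc := H29Slice.koszul_cons_d f l (-((0 + 1 : ℕ) : ℤ)) (-((0 : ℕ) : ℤ)) 1 (by simp) (by simp) x
        show sp l.length ((sp l.length).symm (0, e 0 (c0 ((Koszul.koszul A (f :: l)).d _ _ x)).2)) = _
        rw [LinearEquiv.apply_symm_apply,
          show (c0 ((Koszul.koszul A (f :: l)).d (-((0 + 1 : ℕ) : ℤ)) (-((0 : ℕ) : ℤ)) x)).2 = _ from congrArg Prod.snd hc]
        refine Eq.trans ?_ (congrArg (fun p : T A l.length × T A l.length =>
          (-(D l.length l.get p.1), f • p.1 + D l.length l.get p.2))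
          ((sp l.length).apply_symm_apply (e 0 (cs 0 x).1, e 1 (cs 0 x).2))).symm
        refine Prod.ext ?_ ?_
        · show (0 : T A l.length) = -(D l.length l.get (e 0 (cs 0 x).1))
          have h0 : e 0 (cs 0 x).1 ∈ G l.length 0 := hran 0 ▸ ⟨_, rfl⟩
          rw [← pr_of_mem _ 0 _ h0, (D_pr l.length l.get 0 _).1, neg_zero]
        · show e 0 _ = f • e 0 (cs 0 x).1 + D l.length l.get (e 1 (cs 0 x).2)
          rw [map_add, map_smul, ← hd 0]
      | succ i =>
        have hc := H29Slice.koszul_cons_d f l (-((i + 1 + 1 : ℕ) : ℤ)) (-((i + 1 : ℕ) : ℤ)) (-(i : ℤ))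
          (by push_cast; ring) (by push_cast; ring) x
        show sp l.length ((sp l.length).symm (e i (cs i ((Koszul.koszul A (f :: l)).d _ _ x)).1,
          e (i + 1) (cs i ((Koszul.koszul A (f :: l)).d _ _ x)).2)) = _
        rw [LinearEquiv.apply_symm_apply,
          show cs i ((Koszul.koszul A (f :: l)).d (-((i + 1 + 1 : ℕ) : ℤ)) (-((i + 1 : ℕ) : ℤ)) x) = _ from hc]
        refine Eq.trans ?_ (congrArg (fun p : T A l.length × T A l.length =>
          (-(D l.length l.get p.1), f • p.1 + D l.length l.get p.2))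
          ((sp l.length).apply_symm_apply (e (i + 1) (cs (i + 1) x).1, e (i + 2) (cs (i + 1) x).2))).symm
        refine Prod.ext ?_ ?_
        · show e i _ = -(D l.length l.get (e (i + 1) (cs (i + 1) x).1))
          rw [map_neg, ← hd i]
        · show e (i + 1) _ = f • e (i + 1) (cs (i + 1) x).1 + D l.length l.get (e (i + 2) (cs (i + 1) x).2)
          rw [map_add, map_smul, ← hd (i + 1)]

/-- Koszul regular sequences are exact in the model. -/
theorem exact_of_isKoszulRegularSeq (l : List A) (h : LCI.IsKoszulRegularSeq A l) : Exact l.get := by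
  obtain ⟨e, hinj, hran, hd⟩ := exists_coords l
  intro i y hy hDy
  rw [← hran (i + 1)] at hy
  obtain ⟨x, rfl⟩ := hy
  rw [← hd i] at hDy
  have hx0 := hinj i (hDy.trans (map_zero _).symm)
  obtain ⟨w, hw⟩ := H29Slice.exists_preimage_of_isZero_homology (Koszul.koszul A l) (-((i + 1 + 1 : ℕ) : ℤ))
    (-((i + 1 : ℕ) : ℤ)) (-(i : ℤ)) (by push_cast; ring) (by push_cast; ring) (h _ (by omega)) x hx0
  refine ⟨e (i + 2) w, hran (i + 2) ▸ ⟨w, rfl⟩, ?_⟩
  rw [← hd (i + 1), ← hw]

/-- Exactness of a sequence presented as a function. -/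
theorem exact_of_ofFn {n : ℕ} (f : Fin n → A) (h : LCI.IsKoszulRegularSeq A (List.ofFn f)) : Exact f := by
  have key : ∀ (m : ℕ) (hm : m = n), Exact (fun i : Fin m => f (i.cast hm)) → Exact f := by rintro m rfl h'; exact h'
  refine key _ (List.length_ofFn (f := f)) ?_
  have h' := exact_of_isKoszulRegularSeq _ h
  rwa [show (List.ofFn f).get = fun i => f (i.cast (List.length_ofFn (f := f))) from funext fun i => (List.get_ofFn f i).trans rfl] at h'

/-- Exactness is preserved by base change along a flat quotient. -/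
theorem exact_baseChange {P C : Type u} [CommRing P] [Algebra A P] [CommRing C] [Algebra A C] [Module.Flat A C]
    {n : ℕ} (f : Fin n → P) (hf : Exact f) : Exact (fun i => f i ⊗ₜ[A] (1 : C)) := by
  classical
  intro i y hy hDy
  let α : T P n →ₗ[A] T P n := (D n f ∘ₗ pr n (i + 2)).restrictScalars A
  let β : T P n →ₗ[A] T P n × T P n := LinearMap.prod ((D n f ∘ₗ pr n (i + 1)).restrictScalars A)
    (LinearMap.id - (pr n (i + 1)).restrictScalars A)
  have hex : Function.Exact α β := fun h => by
    constructor
    · intro h0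
      have h1 : h = pr n (i + 1) h := sub_eq_zero.1 (congrArg Prod.snd h0)
      obtain ⟨z, hz, hz'⟩ := hf i h (h1 ▸ pr_mem n (i + 1) h) (by rw [h1]; exact congrArg Prod.fst h0)
      refine ⟨z, ?_⟩
      show D n f (pr n (i + 2) z) = h
      rw [pr_of_mem n (i + 2) z hz, hz']
    · rintro ⟨z, rfl⟩
      have hm : α z ∈ G n (i + 1) := D_mem n f (i + 1) (pr_mem n (i + 2) z)
      have h1 : pr n (i + 1) (α z) = α z := pr_of_mem n (i + 1) _ hm
      refine Prod.ext ?_ ?_
      · show D n f (pr n (i + 1) (α z)) = 0
        rw [h1]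
        exact D_D n f _
      · show α z - pr n (i + 1) (α z) = 0
        rw [h1, sub_self]
  have hexC := Module.Flat.lTensor_exact C hex
  let e : C ⊗[A] T P n ≃ₗ[A] T (P ⊗[A] C) n :=
    (TensorProduct.piRight A A C fun _ : Fin n → Bool => P).trans
      (LinearEquiv.piCongrRight fun _ => TensorProduct.comm A C P)
  let g := fun j => f j ⊗ₜ[A] (1 : C)
  let κ : C → (P →+ P ⊗[A] C) := fun c => ((TensorProduct.mk A P C).flip c).toAddMonoidHom
  have hκ : ∀ (c : C) j a, κ c (f j * a) = g j * κ c a := fun c j a => by
    simp [κ, g, Algebra.TensorProduct.tmul_mul_tmul]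
  have he : ∀ (c : C) (h : T P n), e (c ⊗ₜ h) = fun S => κ c (h S) := fun c h => funext fun S => by
    simp [e, κ]
  have hpr : ∀ (k : ℕ) z, pr n k (e z) = e (((pr n k).restrictScalars A).lTensor C z) := fun k z => by
    induction z with
    | zero => simp
    | tmul c h =>
      rw [LinearMap.lTensor_tmul, he, he]
      funext S
      exact pr_map (κ c) n k h S
    | add x y hx hy => simp only [map_add, hx, hy]
  have hD : ∀ (k : ℕ) z, D n g (pr n k (e z)) = e (((D n f ∘ₗ pr n k).restrictScalars A).lTensor C z) := fun k z => by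
    rw [hpr]
    induction z with
    | zero => simp
    | tmul c h =>
      rw [LinearMap.lTensor_tmul, LinearMap.lTensor_tmul, he, he]
      funext S
      exact D_map (κ c) n f g (hκ c) (pr n k h) S
    | add x y hx hy => simp only [map_add, hx, hy]
  obtain ⟨w, rfl⟩ := e.surjective y
  have hP := pr_of_mem n (i + 1) _ hy
  have h1 : β.lTensor C w = 0 := by
    refine (TensorProduct.prodRight A A C (T P n) (T P n)).injective ?_
    rw [map_zero]
    have hsplit : ∀ z, TensorProduct.prodRight A A C (T P n) (T P n) (β.lTensor C z) =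
        (((D n f ∘ₗ pr n (i + 1)).restrictScalars A).lTensor C z, z - ((pr n (i + 1)).restrictScalars A).lTensor C z) := fun z => by
      induction z with
      | zero => simp only [map_zero, sub_zero]; rfl
      | tmul c h => simp [β, TensorProduct.tmul_sub]
      | add x y hx hy =>
        simp only [map_add, hx, hy, Prod.mk_add_mk]
        refine Prod.ext rfl ?_
        abel
    rw [hsplit]
    refine Prod.ext (e.injective ?_) (e.injective ?_)
    · rw [← hD, hP]
      exact hDy.trans (map_zero e).symm
    · show e (w - _) = e 0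
      rw [map_sub, ← hpr, hP, sub_self, map_zero]
  obtain ⟨z, hz⟩ := (hexC w).1 h1
  refine ⟨pr n (i + 2) (e z), pr_mem n (i + 2) _, ?_⟩
  rw [hD, ← hz]

end Groth.Agent.H05EGA4.KosTransfer
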