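import Groth.Agent.H05EGA4.DiscBC
import Groth.Agent.H05EGA4.KosModel
import Groth.Agent.H05EGA4.KosTransfer
import Groth.Agent.H9CI.RelGCIProps
import Groth.Prelude.Def_RegImm
import Mathlib.RingTheory.Ideal.IdempotentFG
import Mathlib.Algebra.MvPolynomial.PDeriv

/-! The dualizing module of a finite free global complete intersection. -/

set_option autoImplicit false
set_option linter.style.haveILetI false

universe u

open TensorProduct MvPolynomial

namespace Groth.Agent.H05EGA4.DiscJac

open DiscPair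

section Coeff

variable {A : Type u} [CommRing A] {n : ℕ}

/-- `X j ⊗ 1 - 1 ⊗ X j`. -/
noncomputable abbrev dg (A : Type u) [CommRing A] {n : ℕ} (j : Fin n) : MvPolynomial (Fin n) A ⊗[A] MvPolynomial (Fin n) A :=
  (X j : MvPolynomial (Fin n) A) ⊗ₜ 1 - 1 ⊗ₜ X j

theorem sub_mem_span_dg (p : MvPolynomial (Fin n) A) :
    p ⊗ₜ[A] (1 : MvPolynomial (Fin n) A) - 1 ⊗ₜ p ∈ Ideal.span (Set.range (dg A (n := n))) := by
  set K := Ideal.span (Set.range (dg A (n := n)))
  have h : (Ideal.Quotient.mkₐ A K).comp Algebra.TensorProduct.includeLeft =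
      (Ideal.Quotient.mkₐ A K).comp Algebra.TensorProduct.includeRight :=
    MvPolynomial.algHom_ext fun j => Ideal.Quotient.eq.2 (Ideal.subset_span ⟨j, rfl⟩)
  exact Ideal.Quotient.eq.1 (AlgHom.congr_fun h p)

theorem exists_matrix (f : Fin n → MvPolynomial (Fin n) A) :
    ∃ c : Matrix (Fin n) (Fin n) (MvPolynomial (Fin n) A ⊗[A] MvPolynomial (Fin n) A),
      (∀ i, f i ⊗ₜ[A] (1 : MvPolynomial (Fin n) A) - 1 ⊗ₜ f i = ∑ j, c i j * dg A j) ∧
      ∀ i j, Algebra.TensorProduct.lmul' A (c i j) = pderiv j (f i) := by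
  choose c hc using fun i => Ideal.mem_span_range_iff_exists_fun.1 (sub_mem_span_dg (f i))
  refine ⟨c, fun i => (hc i).symm, fun i j => ?_⟩
  have h := congrArg (Derivation.tensorProductTo (pderiv j : Derivation A (MvPolynomial (Fin n) A) _)) (hc i)
  rw [map_sum] at h
  have hterm : ∀ k, Derivation.tensorProductTo (pderiv j : Derivation A (MvPolynomial (Fin n) A) _) (c i k * dg A k) =
      - (Algebra.TensorProduct.lmul' A (c i k) * if j = k then 1 else 0) := fun k => by
    rw [Derivation.tensorProductTo_mul]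
    by_cases h : j = k
    · subst h; simp [dg, Derivation.tensorProductTo_tmul]
    · simp [dg, Derivation.tensorProductTo_tmul, h, Ne.symm h]
  rw [Finset.sum_congr rfl fun k _ => hterm k] at h
  simpa [Derivation.tensorProductTo_tmul] using h

theorem sub_mem_span_X (κ : Type u) [CommRing κ] (a : Fin n → κ) (p : MvPolynomial (Fin n) κ) :
    p - C (eval a p) ∈ Ideal.span (Set.range fun j => (X j : MvPolynomial (Fin n) κ) - C (a j)) := by
  set K := Ideal.span (Set.range fun j => (X j : MvPolynomial (Fin n) κ) - C (a j))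
  have h : Ideal.Quotient.mkₐ κ K = ((Ideal.Quotient.mkₐ κ K).comp (Algebra.ofId κ (MvPolynomial (Fin n) κ))).comp (aeval a) :=
    MvPolynomial.algHom_ext fun j => by
      simp only [AlgHom.comp_apply, aeval_X]
      exact Ideal.Quotient.eq.2 (Ideal.subset_span ⟨j, rfl⟩)
  have h2 := AlgHom.congr_fun h p
  rw [← Ideal.Quotient.eq]
  simpa [aeval_eq_eval, Ideal.Quotient.algebraMap_eq, IsScalarTower.algebraMap_apply κ (MvPolynomial (Fin n) κ) (MvPolynomial (Fin n) κ ⧸ K)] using h2

end Coeff

section Field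

/-- The determinant of a transition matrix from the coordinates at a rational point is nonzero modulo the equations. -/
theorem det_notMem {κ : Type u} [Field κ] {n : ℕ} (F : Fin n → MvPolynomial (Fin n) κ)
    [Module.Finite κ (Synt.RelGCIRing κ n n F)] (a : Fin n → κ) (hFa : ∀ i, eval a (F i) = 0)
    (c : Matrix (Fin n) (Fin n) (MvPolynomial (Fin n) κ)) (hc : ∀ i, F i = ∑ j, c i j * (X j - C (a j))) :
    c.det ∉ Ideal.span (Set.range F) := by
  classical
  have hgci : Synt.IsRelGCI κ n n F := fun p hp => by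
    refine ⟨le_rfl, ?_⟩
    have key : ∀ (K T : Type u) [Field K] [CommRing T] [Algebra K T] [Module.Finite K T] [Nontrivial T],
        ringKrullDim T = 0 := fun K T _ _ _ _ _ => by
      haveI := IsArtinianRing.of_finite K T
      exact ringKrullDimZero_iff_ringKrullDim_eq_zero.mp (isArtinianRing_iff_krullDimLE_zero.mp inferInstance)
    rw [Nat.sub_self, Nat.cast_zero]
    haveI := hp
    exact key p.asIdeal.ResidueField (p.asIdeal.Fiber (Synt.RelGCIRing κ n n F))
  have hex := KosTransfer.exact_of_ofFn F (H9CI.isKoszulRegularSeq_relGCI F hgci)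
  intro hdet
  let g := fun j => (X j : MvPolynomial (Fin n) κ) - C (a j)
  have hcol : ∀ x, (∀ j, x * g j ∈ Ideal.span (Set.range F)) → x ∈ Ideal.span (Set.range F) := fun x hx =>
    (sup_le le_rfl ((Ideal.span_singleton_le_iff_mem _).2 hdet)) (KosModel.colon_le_det F g hex c hc x hx)
  -- an element killed by the maximal ideal of the point
  let Q := Synt.RelGCIRing κ n n F
  haveI : IsArtinianRing Q := IsArtinianRing.of_finite κ Q
  let M : Ideal Q := Ideal.span (Set.range fun j => Ideal.Quotient.mk (Ideal.span (Set.range F)) (g j))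
  obtain ⟨N₀, hN₀⟩ := IsArtinian.monotone_stabilizes (R := Q) (M := Q)
    ⟨fun k => OrderDual.toDual (M ^ k), fun _ _ h => Ideal.pow_le_pow_right h⟩
  set N := N₀ + 1
  have hidem : IsIdempotentElem (M ^ N) := by
    have h : M ^ N₀ = M ^ (N + N) := congrArg OrderDual.ofDual (hN₀ (N + N) (by omega))
    have h' : M ^ N₀ = M ^ N := congrArg OrderDual.ofDual (hN₀ N (by omega))
    rw [IsIdempotentElem, ← Submodule.pow_add _ (Nat.succ_ne_zero N₀), ← h, h']
  obtain ⟨e, he, heM⟩ := (Ideal.isIdempotentElem_iff_of_fg _ (IsNoetherian.noetherian (M ^ N))).1 hidem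
  have hzero : ∀ y ∈ M ^ N, (1 - e) * y = 0 := fun y hy => by
    rw [heM] at hy
    obtain ⟨z, rfl⟩ := Ideal.mem_span_singleton'.1 hy
    rw [sub_mul, one_mul, ← mul_assoc, mul_comm e z, mul_assoc, he.eq, sub_self]
  have hall : ∀ k, ∀ y ∈ M ^ (N - k), (1 - e) * y = 0 := fun k => by
    induction k with
    | zero => exact hzero
    | succ k ih =>
      intro y hy
      by_cases hk : N - k = 0
      · exact ih y (by rw [show N - (k + 1) = N - k by omega] at hy; exact hy)
      obtain ⟨x, hx⟩ := Ideal.Quotient.mk_surjective ((1 - e) * y)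
      rw [← hx, Ideal.Quotient.eq_zero_iff_mem]
      refine hcol x fun j => ?_
      rw [← Ideal.Quotient.eq_zero_iff_mem, map_mul, hx, mul_assoc]
      refine ih _ ?_
      rw [show N - k = (N - (k + 1)) + 1 by omega, Submodule.pow_succ]
      exact Ideal.mul_mem_mul hy (Ideal.subset_span ⟨j, rfl⟩)
  have he1 : (1 - e) * 1 = 0 := hall N 1 (by rw [Nat.sub_self, Submodule.pow_zero, Submodule.one_eq_span]; exact Ideal.subset_span rfl)
  rw [mul_one, sub_eq_zero] at he1
  have hM : M = ⊤ := by
    have h1 : M ^ N = ⊤ := by rw [heM, ← he1]; exact Ideal.span_singleton_one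
    exact top_le_iff.1 (h1 ▸ Ideal.pow_le_self (Nat.succ_ne_zero N₀))
  let ev : Q →+* κ := Ideal.Quotient.lift _ (eval a) fun x hx => by
    have : Ideal.span (Set.range F) ≤ RingHom.ker (eval a) := Ideal.span_le.2 (by rintro _ ⟨i, rfl⟩; exact hFa i)
    exact this hx
  have hev : M ≤ RingHom.ker ev := Ideal.span_le.2 (by
    rintro _ ⟨j, rfl⟩
    show ev _ = 0
    exact (Ideal.Quotient.lift_mk _ _ _).trans (by simp [g]))
  exact RingHom.ker_ne_top ev (top_le_iff.1 (hM ▸ hev))

end Field

section Relative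

variable {A B : Type u} [CommRing A] [CommRing B] [Algebra A B] {n : ℕ}

variable (φ : MvPolynomial (Fin n) A →ₐ[A] B) (hφ : Function.Surjective φ) (f : Fin n → MvPolynomial (Fin n) A)
  (hker : RingHom.ker φ.toRingHom = Ideal.span (Set.range f))

include hker in
theorem φ_f (i : Fin n) : φ (f i) = 0 := by
  have : f i ∈ RingHom.ker φ.toRingHom := by rw [hker]; exact Ideal.subset_span ⟨i, rfl⟩
  exact this

include hφ hker in
theorem det_mem_J (c : Matrix (Fin n) (Fin n) (MvPolynomial (Fin n) A ⊗[A] MvPolynomial (Fin n) A))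
    (hc : ∀ i, f i ⊗ₜ[A] (1 : MvPolynomial (Fin n) A) - 1 ⊗ₜ f i = ∑ j, c i j * dg A j) :
    Algebra.TensorProduct.map φ φ c.det ∈ DiscPair.J A B := by
  classical
  let π := Algebra.TensorProduct.map φ φ
  have hg : ∀ j, π (c.det * dg A j) = 0 := fun j => by
    have h : c.det * dg A j = ∑ i, c.adjugate j i * (f i ⊗ₜ[A] (1 : MvPolynomial (Fin n) A) - 1 ⊗ₜ f i) := by
      simp only [hc, Finset.mul_sum, ← mul_assoc]
      rw [Finset.sum_comm]
      simp only [← Finset.sum_mul, ← Matrix.mul_apply, Matrix.adjugate_mul, Matrix.smul_apply, Matrix.one_apply,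
        smul_eq_mul, mul_ite, mul_one, mul_zero, ite_mul, zero_mul, Finset.sum_ite_eq, Finset.mem_univ, if_true]
    rw [h, map_sum]
    exact Finset.sum_eq_zero fun i _ => by simp [π, φ_f φ f hker]
  rw [mem_J_iff]
  intro x
  obtain ⟨p, rfl⟩ := hφ x
  obtain ⟨b, hb⟩ := Ideal.mem_span_range_iff_exists_fun.1 (sub_mem_span_dg p)
  have h : π (c.det * (p ⊗ₜ[A] (1 : MvPolynomial (Fin n) A) - 1 ⊗ₜ p)) = 0 := by
    rw [← hb, Finset.mul_sum, map_sum]
    exact Finset.sum_eq_zero fun j _ => by rw [mul_left_comm, map_mul, hg, mul_zero]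
  rw [map_mul, map_sub] at h
  simp only [π, Algebra.TensorProduct.map_tmul, map_one] at h
  linear_combination h

theorem lmul'_map (z : MvPolynomial (Fin n) A ⊗[A] MvPolynomial (Fin n) A) :
    Algebra.TensorProduct.lmul' A (Algebra.TensorProduct.map φ φ z) = φ (Algebra.TensorProduct.lmul' A z) := by
  induction z with
  | zero => simp
  | add a b ha hb => simp only [map_add, ha, hb]
  | tmul a b => simp

theorem lmul'_det (c : Matrix (Fin n) (Fin n) (MvPolynomial (Fin n) A ⊗[A] MvPolynomial (Fin n) A))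
    (hμ : ∀ i j, Algebra.TensorProduct.lmul' A (c i j) = pderiv j (f i)) :
    Algebra.TensorProduct.lmul' A (Algebra.TensorProduct.map φ φ c.det) =
      φ (Matrix.det (Matrix.of fun i j => pderiv j (f i))) := by
  rw [lmul'_map, AlgHom.map_det]
  congr 2
  ext i j
  exact congrArg _ (hμ i j)

variable [Module.Free A B] [Module.Finite A B]

include hker in
theorem exists_notMem (c : Matrix (Fin n) (Fin n) (MvPolynomial (Fin n) A ⊗[A] MvPolynomial (Fin n) A))
    (hc : ∀ i, f i ⊗ₜ[A] (1 : MvPolynomial (Fin n) A) - 1 ⊗ₜ f i = ∑ j, c i j * dg A j)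
    (hJ : Algebra.TensorProduct.map φ φ c.det ∈ DiscPair.J A B) (hφ : Function.Surjective φ)
    (q : Ideal B) [q.IsMaximal] :
    ∃ l, Φ _ hJ l ∉ q := by
  classical
  by_contra! hall
  letI := Ideal.Quotient.field q
  let κ := B ⧸ q
  let ψ : MvPolynomial (Fin n) A →ₐ[A] MvPolynomial (Fin n) κ :=
    aeval fun j => (X j : MvPolynomial (Fin n) κ)
  let a : Fin n → κ := fun j => Ideal.Quotient.mk q (φ (X j))
  let F : Fin n → MvPolynomial (Fin n) κ := fun i => ψ (f i)
  let IF := Ideal.span (Set.range F)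
  have hev : ((aeval a : MvPolynomial (Fin n) κ →ₐ[κ] κ).restrictScalars A).comp ψ = (Ideal.Quotient.mkₐ A q).comp φ :=
    MvPolynomial.algHom_ext fun j => by simp [ψ, a]
  have hFa : ∀ i, eval a (F i) = 0 := fun i => by
    have h := AlgHom.congr_fun hev (f i)
    simp only [AlgHom.comp_apply, φ_f φ f hker, map_zero] at h
    simpa [F, aeval_eq_eval] using h
  -- `B → κ[x] / (F)`
  let eB : (MvPolynomial (Fin n) A ⧸ RingHom.ker φ) ≃ₐ[A] B := Ideal.quotientKerAlgEquivOfSurjective hφ
  let toQ : B →ₐ[A] (Synt.RelGCIRing κ n n F) :=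
    (Ideal.Quotient.liftₐ (RingHom.ker φ) ((Ideal.Quotient.mkₐ A IF).comp ψ) fun x hx => by
      have hle : RingHom.ker φ.toRingHom ≤ IF.comap ψ := hker ▸ Ideal.span_le.2 (by
        rintro _ ⟨i, rfl⟩
        exact Ideal.subset_span ⟨i, rfl⟩)
      exact Ideal.Quotient.eq_zero_iff_mem.2 (hle hx)).comp eB.symm.toAlgHom
  have htoQ : ∀ p, toQ (φ p) = Ideal.Quotient.mk IF (ψ p) := fun p => by
    have : eB.symm (φ p) = Ideal.Quotient.mk _ p := eB.symm_apply_eq.2 rfl
    simp only [toQ, AlgHom.comp_apply]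
    erw [this]
    rfl
  let e := Module.Free.chooseBasis A B
  haveI : Module.Finite κ (Synt.RelGCIRing κ n n F) := by
    refine ⟨⟨Finset.univ.image fun k => toQ (e k), ?_⟩⟩
    rw [Finset.coe_image, Finset.coe_univ, Set.image_univ, eq_top_iff]
    set V := Submodule.span κ (Set.range fun k => toQ (e k))
    have hB : ∀ y, toQ y ∈ V := fun y => by
      rw [← e.sum_repr y, map_sum]
      refine sum_mem fun k _ => ?_
      rw [map_smul, ← IsScalarTower.algebraMap_smul κ]
      exact V.smul_mem _ (Submodule.subset_span ⟨k, rfl⟩)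
    rintro z -
    obtain ⟨p, rfl⟩ := Ideal.Quotient.mk_surjective z
    induction p using MvPolynomial.induction_on with
    | C r =>
      have h := V.smul_mem r (hB 1)
      rw [map_one, ← Algebra.algebraMap_eq_smul_one] at h
      exact h
    | add x y hx hy => rw [map_add]; exact add_mem hx hy
    | mul_X x j hx =>
      rw [map_mul]
      suffices ∀ w ∈ V, w * Ideal.Quotient.mk IF (X j) ∈ V from this _ hx
      intro w₀ hw₀
      induction hw₀ using Submodule.span_induction with
      | mem w hw =>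
        obtain ⟨k, rfl⟩ := hw
        have h := hB (e k * φ (X j))
        rw [map_mul, htoQ] at h
        simpa [ψ] using h
      | zero => rw [zero_mul]; exact zero_mem _
      | add w w' _ _ h h' => rw [add_mul]; exact add_mem h h'
      | smul r w _ h => rw [smul_mul_assoc]; exact V.smul_mem _ h
  -- the transition matrix
  let C' : MvPolynomial (Fin n) A →ₐ[A] MvPolynomial (Fin n) κ :=
    ((Algebra.ofId κ (MvPolynomial (Fin n) κ)).restrictScalars A).comp ((Ideal.Quotient.mkₐ A q).comp φ)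
  let χ : MvPolynomial (Fin n) A ⊗[A] MvPolynomial (Fin n) A →ₐ[A] MvPolynomial (Fin n) κ :=
    Algebra.TensorProduct.lift ψ C' fun _ _ => Commute.all _ _
  have hcF : ∀ i, F i = ∑ j, (c.map χ) i j * (X j - C (a j)) := fun i => by
    have h := congrArg χ (hc i)
    rw [map_sum] at h
    simpa [χ, C', F, ψ, a, φ_f φ f hker, Algebra.ofId_apply] using h
  refine det_notMem F a hFa (c.map χ) hcF ?_
  rw [← Ideal.Quotient.eq_zero_iff_mem, show (c.map χ).det = χ c.det from (χ.map_det c).symm]
  let Λ : B ⊗[A] B →ₐ[A] Synt.RelGCIRing κ n n F :=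
    Algebra.TensorProduct.lift toQ (((Algebra.ofId κ (Synt.RelGCIRing κ n n F)).restrictScalars A).comp (Ideal.Quotient.mkₐ A q))
      fun _ _ => Commute.all _ _
  have hΛ : ∀ z, Λ (Algebra.TensorProduct.map φ φ z) = Ideal.Quotient.mk IF (χ z) := fun z => by
    induction z with
    | zero => simp
    | add x y hx hy => simp only [map_add, hx, hy]
    | tmul x y => simp [Λ, χ, C', htoQ, Algebra.ofId_apply]; rfl
  rw [← hΛ, eq_sum_tmul e (Algebra.TensorProduct.map φ φ c.det), map_sum]
  refine Finset.sum_eq_zero fun k _ => ?_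
  rw [← Φ_apply _ hJ]
  have h0 : Ideal.Quotient.mkₐ A q (Φ _ hJ (co e k)) = 0 := Ideal.Quotient.eq_zero_iff_mem.2 (hall (co e k))
  show toQ (e k) * algebraMap κ _ (Ideal.Quotient.mkₐ A q (Φ _ hJ (co e k))) = 0
  rw [h0]
  exact (congrArg _ (map_zero _)).trans (mul_zero _)

theorem bijective_of_forall_notMem (ξ : B ⊗[A] B) (hJ : ξ ∈ DiscPair.J A B)
    (h : ∀ q : Ideal B, q.IsMaximal → ∃ l, Φ ξ hJ l ∉ q) : Function.Bijective (Φ ξ hJ) := by
  classical
  have hs : Function.Surjective (Φ ξ hJ) := by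
    rw [← LinearMap.range_eq_top]
    by_contra hne
    obtain ⟨q, hq, hle⟩ := Ideal.exists_le_maximal _ hne
    obtain ⟨l, hl⟩ := h q hq
    exact hl (hle ⟨l, rfl⟩)
  refine ⟨?_, hs⟩
  let e := Module.Free.chooseBasis A B
  let d : B ≃ₗ[A] (B →ₗ[A] A) := e.toDualEquiv
  let T : B →ₗ[A] B :=
    { toFun := fun y => Φ ξ hJ ⟨d y⟩
      map_add' := fun y z => by
        rw [map_add, ← map_add (Φ ξ hJ)]
        rfl
      map_smul' := fun r y => by
        rw [RingHom.id_apply, map_smul, ← IsScalarTower.algebraMap_smul B r (Φ ξ hJ ⟨d y⟩), ← (Φ ξ hJ).map_smul]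
        congr 1
        refine Disc.Omega.ext (LinearMap.ext fun x => ?_)
        show (r • d y) x = d y (algebraMap A B r * x)
        rw [← Algebra.smul_def, map_smul]
        rfl }
  have hT : Function.Surjective T := fun z => by
    obtain ⟨⟨l⟩, rfl⟩ := hs z
    exact ⟨d.symm l, by show Φ ξ hJ ⟨d (d.symm l)⟩ = _; rw [d.apply_symm_apply]⟩
  have hi := OrzechProperty.injective_of_surjective_endomorphism T hT
  rintro ⟨l⟩ ⟨l'⟩ hl
  have : T (d.symm l) = T (d.symm l') := by
    show Φ ξ hJ ⟨d (d.symm l)⟩ = Φ ξ hJ ⟨d (d.symm l')⟩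
    rwa [d.apply_symm_apply, d.apply_symm_apply]
  exact congrArg Disc.Omega.mk (d.symm.injective (hi this))

include hker hφ in
/-- The dualizing module of a finite free global complete intersection. -/
theorem exists_equiv : ∃ e : B ≃ₗ[B] Disc.Omega A B,
    e (φ (Matrix.det (Matrix.of fun i j => pderiv j (f i)))) = Disc.Omega.trace A B := by
  obtain ⟨c, hc, hμ⟩ := exists_matrix f
  have hJ := det_mem_J φ hφ f hker c hc
  have hb := bijective_of_forall_notMem _ hJ fun q hq => exists_notMem φ f hker c hc hJ hφ q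
  refine ⟨(LinearEquiv.ofBijective _ hb).symm, ?_⟩
  rw [LinearEquiv.symm_apply_eq, LinearEquiv.ofBijective_apply, Φ_trace (Module.Free.chooseBasis A B),
    lmul'_det φ f c hμ]

include hker hφ in
theorem different_eq : QFDual.different B (Disc.Omega.trace A B) =
    Ideal.span {φ (Matrix.det (Matrix.of fun i j => pderiv j (f i)))} := by
  obtain ⟨e, he⟩ := exists_equiv φ hφ f hker
  set d := φ (Matrix.det (Matrix.of fun i j => pderiv j (f i)))
  ext b
  rw [QFDual.mem_different_iff, Ideal.mem_span_singleton']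
  constructor
  · intro h
    obtain ⟨c, hc⟩ := h (e 1)
    refine ⟨c, e.injective ?_⟩
    rw [← smul_eq_mul, map_smul, he, hc, ← map_smul, smul_eq_mul, mul_one]
  · rintro ⟨c, rfl⟩ m
    obtain ⟨y, rfl⟩ := e.surjective m
    refine ⟨c * y, ?_⟩
    rw [← he, ← e.map_smul, ← e.map_smul, smul_eq_mul, smul_eq_mul]
    congr 1
    ring

end Relative

end Groth.Agent.H05EGA4.DiscJac
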