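import Groth.Agent.H05EGA4.DiscPair
import Groth.Agent.H29Fitt.Ideal
import Mathlib.RingTheory.Unramified.Locus
import Mathlib.RingTheory.RingHom.Flat
import Mathlib.RingTheory.Kaehler.TensorProduct
import Mathlib.RingTheory.IsTensorProduct

/-! The Noether different: zero locus and behaviour under flat maps. -/

set_option autoImplicit false
set_option linter.style.haveILetI false

universe u v

open TensorProduct Polynomial

namespace Groth.Agent.H05EGA4.DiscLocus

open DiscPair

section Locus

variable {A : Type u} {B : Type v} [CommRing A] [CommRing B] [Algebra A B]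

theorem smul_toCotangent_eq_zero (t : B) (x : KaehlerDifferential.ideal A B) :
    (HSMul.hSMul (α := B) (β := Ω[B⁄A]) t ((KaehlerDifferential.ideal A B).toCotangent x)) = 0 ↔
      algebraMap B (B ⊗[A] B) t * (x : B ⊗[A] B) ∈ (KaehlerDifferential.ideal A B) ^ 2 := by
  show (t • (KaehlerDifferential.ideal A B).toCotangent x : (KaehlerDifferential.ideal A B).Cotangent) = 0 ↔ _
  rw [← algebraMap_smul (B ⊗[A] B) t, ← map_smul, Ideal.toCotangent_eq_zero]
  rfl

theorem noether_le_annihilator : Disc.noetherDifferent A B ≤ Module.annihilator B (Ω[B⁄A]) := by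
  intro b hb
  obtain ⟨ξ, hξ, rfl⟩ := mem_noether_iff.1 hb
  rw [Module.mem_annihilator]
  intro w
  obtain ⟨x, rfl⟩ := (KaehlerDifferential.ideal A B).toCotangent_surjective w
  set t := Algebra.TensorProduct.lmul' A ξ
  have h1 : ξ * (x : B ⊗[A] B) = 0 := Submodule.mem_annihilator.1 hξ _ x.2
  have h2 : (algebraMap B (B ⊗[A] B) t - ξ) * (x : B ⊗[A] B) ∈ (KaehlerDifferential.ideal A B) ^ 2 := by
    rw [pow_two]
    exact Ideal.mul_mem_mul (by simp [KaehlerDifferential.ideal, RingHom.mem_ker, t]) x.2
  rw [sub_mul, h1, sub_zero] at h2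
  exact (smul_toCotangent_eq_zero t x).2 h2

theorem annihilator_le_radical_noether [Algebra.EssFiniteType A B] :
    Module.annihilator B (Ω[B⁄A]) ≤ (Disc.noetherDifferent A B).radical := by
  intro t ht
  let I := KaehlerDifferential.ideal A B
  haveI : Module.Finite (B ⊗[A] B) I := Module.Finite.iff_fg.2 (KaehlerDifferential.ideal_fg A B)
  let T : B ⊗[A] B := algebraMap B (B ⊗[A] B) t
  have hI : LinearMap.range (algebraMap (B ⊗[A] B) (Module.End (B ⊗[A] B) I) T) ≤ I • ⊤ := by
    rintro _ ⟨x, rfl⟩
    rw [Submodule.mem_smul_top_iff]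
    have h := (smul_toCotangent_eq_zero t x).1 (Module.mem_annihilator.1 ht _)
    rw [pow_two] at h
    exact h
  obtain ⟨p, hp, -, hcoeff, hev⟩ :=
    LinearMap.exists_monic_and_natDegree_eq_and_coeff_mem_pow_and_aeval_eq_zero (B ⊗[A] B) _ I hI
  rw [Polynomial.aeval_algebraMap_apply] at hev
  have he : p.eval T ∈ DiscPair.J A B := Submodule.mem_annihilator.2 fun x hx => by
    have h := congrArg (fun f : Module.End (B ⊗[A] B) I => ((f ⟨x, hx⟩ : I) : B ⊗[A] B)) hev
    rw [Polynomial.coe_aeval_eq_eval] at h
    simpa using h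
  refine ⟨p.natDegree, mem_noether_iff.2 ⟨_, he, ?_⟩⟩
  let μ : B ⊗[A] B →+* B := (Algebra.TensorProduct.lmul' (S := B) A).toRingHom
  have hmap : p.map μ = X ^ p.natDegree := by
    ext k
    rw [coeff_map, coeff_X_pow]
    rcases lt_trichotomy k p.natDegree with hk | hk | hk
    · rw [if_neg hk.ne]
      have h := Ideal.pow_le_self (Nat.sub_ne_zero_of_lt hk) (hcoeff k)
      exact RingHom.mem_ker.1 h
    · rw [if_pos hk, hk, hp.coeff_natDegree, map_one]
    · rw [if_neg hk.ne', coeff_eq_zero_of_natDegree_lt hk, map_zero]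
  show μ (p.eval T) = t ^ p.natDegree
  rw [← Polynomial.eval_map_apply, hmap, eval_pow, eval_X]
  simp [μ, T]

theorem radical_noether [Algebra.EssFiniteType A B] :
    (Disc.noetherDifferent A B).radical = (Module.annihilator B (Ω[B⁄A])).radical :=
  le_antisymm (Ideal.radical_mono noether_le_annihilator)
    (Ideal.radical_le_radical_iff.2 annihilator_le_radical_noether)

theorem noether_le_prime_iff [Algebra.EssFiniteType A B] (q : PrimeSpectrum B) :
    Disc.noetherDifferent A B ≤ q.asIdeal ↔ q ∉ Algebra.unramifiedLocus A B := by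
  rw [Algebra.unramifiedLocus_eq_compl_support, Set.mem_compl_iff, not_not, Module.support_eq_zeroLocus,
    PrimeSpectrum.mem_zeroLocus, SetLike.coe_subset_coe, ← q.2.radical_le_iff, radical_noether, q.2.radical_le_iff]

end Locus

section Flat

/-- Annihilators of finitely generated ideals commute with flat maps. -/
theorem annihilator_map {C C' : Type u} [CommRing C] [CommRing C'] (g : C →+* C') (hg : g.Flat) (I : Ideal C)
    (hI : I.FG) : (Submodule.annihilator I).map g = Submodule.annihilator (I.map g) := by
  algebraize [g]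
  obtain ⟨m, x, hx⟩ := Submodule.fg_iff_exists_fin_generating_family.1 hI
  refine le_antisymm (Ideal.map_le_iff_le_comap.2 fun c hc => ?_) ?_
  · rw [Ideal.mem_comap, ← hx, Ideal.map_span, Submodule.mem_annihilator_span]
    rintro ⟨_, _, ⟨i, rfl⟩, rfl⟩
    show g c * g (x i) = 0
    rw [← map_mul, ← smul_eq_mul, Submodule.mem_annihilator.1 hc _ (hx ▸ Submodule.subset_span ⟨i, rfl⟩), map_zero]
  · intro y hy
    let f : C →ₗ[C] Fin m → C := LinearMap.pi fun i => LinearMap.mulRight C (x i)
    let f' : C' →ₗ[C] Fin m → C' := LinearMap.pi fun i => LinearMap.mulRight C (g (x i))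
    have hex := Module.Flat.lTensor_exact C' (f.exact_subtype_ker_map)
    let e := TensorProduct.piScalarRight C C C' (Fin m)
    have h0 : f.lTensor C' (y ⊗ₜ[C] (1 : C)) = 0 := e.injective (funext fun i => by
      rw [map_zero, LinearMap.lTensor_tmul]
      simp only [e, TensorProduct.piScalarRight_apply, TensorProduct.piScalarRightHom_tmul, f, LinearMap.pi_apply,
        LinearMap.mulRight_apply, one_mul, Pi.zero_apply]
      rw [Algebra.smul_def, mul_comm]
      exact Submodule.mem_annihilator.1 hy _ (Ideal.mem_map_of_mem g (hx ▸ Submodule.subset_span ⟨i, rfl⟩)))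
    obtain ⟨z, hz⟩ := (hex _).1 h0
    have hy' : y = TensorProduct.rid C C' ((LinearMap.ker f).subtype.lTensor C' z) := by
      rw [hz, TensorProduct.rid_tmul, one_smul]
    rw [hy']
    clear hy' hz
    induction z with
    | zero => simp
    | add a b ha hb => rw [map_add, map_add]; exact add_mem ha hb
    | tmul a c =>
      rw [LinearMap.lTensor_tmul, TensorProduct.rid_tmul, Algebra.smul_def]
      refine Ideal.mul_mem_right _ _ (Ideal.mem_map_of_mem g ?_)
      have hc : ∀ i, (c : C) * x i = 0 := fun i => congrFun (LinearMap.mem_ker.1 c.2) i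
      rw [← hx, Submodule.mem_annihilator_span]
      rintro ⟨_, i, rfl⟩
      exact hc i

theorem noether_map {A B A' B' : Type u} [CommRing A] [CommRing B] [Algebra A B] [CommRing A'] [CommRing B']
    [Algebra A' B'] (β : B →+* B') (g : B ⊗[A] B →+* B' ⊗[A'] B') (hg : g.Flat)
    (hβ : (Algebra.TensorProduct.lmul' (S := B') A').toRingHom.comp g =
      β.comp (Algebra.TensorProduct.lmul' (S := B) A).toRingHom)
    (hI : ∀ x : B', (1 : B') ⊗ₜ[A'] x - x ⊗ₜ[A'] (1 : B') ∈ (KaehlerDifferential.ideal A B).map g)
    [Algebra.EssFiniteType A B] :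
    Disc.noetherDifferent A' B' = (Disc.noetherDifferent A B).map β := by
  have hI' : RingHom.ker (Algebra.TensorProduct.lmul' (S := B') A') = (KaehlerDifferential.ideal A B).map g := by
    refine le_antisymm ?_ (Ideal.map_le_iff_le_comap.2 fun x hx => ?_)
    · refine le_of_eq_of_le (KaehlerDifferential.span_range_eq_ideal A' B').symm (Ideal.span_le.2 ?_)
      rintro _ ⟨x, rfl⟩
      exact hI x
    · rw [Ideal.mem_comap, RingHom.mem_ker]
      have h := RingHom.congr_fun hβ x
      simp only [RingHom.comp_apply, AlgHom.toRingHom_eq_coe, RingHom.coe_coe] at h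
      rw [h, RingHom.mem_ker.1 hx, map_zero]
  unfold Disc.noetherDifferent
  rw [hI', ← annihilator_map g hg _ (KaehlerDifferential.ideal_fg A B)]
  show Ideal.map (Algebra.TensorProduct.lmul' (S := B') A').toRingHom _ =
    Ideal.map β (Ideal.map (Algebra.TensorProduct.lmul' (S := B) A).toRingHom _)
  rw [Ideal.map_map, Ideal.map_map, hβ]

theorem noether_flat_baseChange {A B A' B' : Type u} [CommRing A] [CommRing B]
    [CommRing A'] [CommRing B'] [Algebra A B] [Algebra A A'] [Algebra A B'] [Algebra B B']
    [Algebra A' B'] [IsScalarTower A B B'] [IsScalarTower A A' B']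
    [Algebra.IsPushout A B A' B'] [Algebra.EssFiniteType A B] [Module.Flat A A'] :
    Disc.noetherDifferent A' B' = (Disc.noetherDifferent A B).map (algebraMap B B') := by
  haveI hpush : Algebra.IsPushout A A' B B' := Algebra.IsPushout.symm inferInstance
  haveI : Module.Flat B B' := Module.Flat.isBaseChange A B A' B' (Algebra.IsPushout.out (R := A) (S := B) (R' := A') (S' := B'))
  let β : B →ₐ[A] B' := IsScalarTower.toAlgHom A B B'
  let e : B' ⊗[A] B →ₐ[A] B' ⊗[A'] B' :=
    Algebra.TensorProduct.lift ((Algebra.TensorProduct.includeLeft (R := A') (S := A) (A := B') (B := B')))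
      (((Algebra.TensorProduct.includeRight (R := A') (A := B') (B := B')).restrictScalars A).comp β)
      (fun _ _ => Commute.all _ _)
  have he : Function.Bijective e := by
    let E : B' ⊗[A] B ≃ₗ[A'] B' ⊗[A'] B' :=
      (TensorProduct.AlgebraTensorModule.cancelBaseChange A A' A' B' B).symm ≪≫ₗ
        TensorProduct.AlgebraTensorModule.congr (LinearEquiv.refl A' B') (Algebra.IsPushout.equiv A A' B B').toLinearEquiv
    have hE : ∀ z, e z = E z := fun z => by
      induction z with
      | zero => simp
      | add a b ha hb => rw [map_add, map_add, ha, hb]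
      | tmul a b => simp [e, E, β, Algebra.TensorProduct.tmul_mul_tmul, Algebra.IsPushout.equiv_tmul]
    rw [show (e : B' ⊗[A] B → B' ⊗[A'] B') = E from funext hE]
    exact E.bijective
  let g₀ : B ⊗[A] B →ₐ[A] B' ⊗[A] B := Algebra.TensorProduct.map β (AlgHom.id A B)
  have hg₀ : g₀.toRingHom.Flat := RingHom.Flat.tensorProductMap
    (show β.toRingHom.Flat from RingHom.flat_algebraMap_iff.2 inferInstance) (RingHom.Flat.id B)
  refine noether_map (algebraMap B B') (e.toRingHom.comp g₀.toRingHom) (RingHom.Flat.comp hg₀ (.of_bijective he)) ?_ ?_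
  · refine RingHom.ext fun z => ?_
    induction z with
    | zero => simp
    | add a b ha hb => rw [map_add, map_add, ha, hb]
    | tmul a b => simp [e, g₀, β, Algebra.TensorProduct.tmul_mul_tmul]
  · intro x
    set K := (KaehlerDifferential.ideal A B).map (e.toRingHom.comp g₀.toRingHom)
    let S : Subalgebra A' B' := AlgHom.equalizer
      ((Ideal.Quotient.mkₐ A' K).comp Algebra.TensorProduct.includeLeft)
      ((Ideal.Quotient.mkₐ A' K).comp Algebra.TensorProduct.includeRight)
    suffices x ∈ S by
      rw [← Ideal.Quotient.eq]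
      exact (show _ = _ from this).symm
    refine (Algebra.IsPushout.out (R := A) (S := A') (R' := B) (S' := B')).inductionOn x (fun x => x ∈ S)
      S.zero_mem (fun b => ?_) (fun r y hy => S.smul_mem hy r) (fun y z hy hz => S.add_mem hy hz)
    show Ideal.Quotient.mk K (algebraMap B B' b ⊗ₜ[A'] 1) = Ideal.Quotient.mk K (1 ⊗ₜ[A'] algebraMap B B' b)
    rw [eq_comm, Ideal.Quotient.eq]
    have h := Ideal.mem_map_of_mem (e.toRingHom.comp g₀.toRingHom)
      (KaehlerDifferential.one_smul_sub_smul_one_mem_ideal A b)
    simpa [K, e, g₀, β, Algebra.TensorProduct.tmul_mul_tmul] using h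

theorem noether_of_epi {A B' B : Type u} [CommRing A] [CommRing B'] [CommRing B] [Algebra A B'] [Algebra A B]
    [Algebra B' B] [IsScalarTower A B' B] [Algebra.EssFiniteType A B'] [Module.Flat B' B]
    (hepi : ∀ (D : Type u) [CommRing D] (f f' : B →+* D),
      f.comp (algebraMap B' B) = f'.comp (algebraMap B' B) → f = f') :
    Disc.noetherDifferent A B = (Disc.noetherDifferent A B').map (algebraMap B' B) := by
  let β : B' →ₐ[A] B := IsScalarTower.toAlgHom A B' B
  have hβ : β.toRingHom.Flat := RingHom.flat_algebraMap_iff.2 inferInstance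
  refine noether_map (algebraMap B' B) (Algebra.TensorProduct.map β β).toRingHom
    (RingHom.Flat.tensorProductMap hβ hβ) ?_ ?_
  · refine RingHom.ext fun z => ?_
    induction z with
    | zero => simp
    | add a b ha hb => rw [map_add, map_add, ha, hb]
    | tmul a b => simp [β]
  · intro x
    set K := (KaehlerDifferential.ideal A B').map (Algebra.TensorProduct.map β β).toRingHom
    have h := hepi _ ((Ideal.Quotient.mk K).comp (Algebra.TensorProduct.includeLeftRingHom (R := A) (A := B) (B := B)))
      ((Ideal.Quotient.mk K).comp (Algebra.TensorProduct.includeRight (R := A) (A := B) (B := B)).toRingHom) (by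
        refine RingHom.ext fun b => ?_
        show Ideal.Quotient.mk K (algebraMap B' B b ⊗ₜ[A] 1) = Ideal.Quotient.mk K (1 ⊗ₜ[A] algebraMap B' B b)
        rw [eq_comm, Ideal.Quotient.eq]
        have h := Ideal.mem_map_of_mem (Algebra.TensorProduct.map β β).toRingHom
          (KaehlerDifferential.one_smul_sub_smul_one_mem_ideal A b)
        simpa [K, β] using h)
    rw [← Ideal.Quotient.eq]
    exact (RingHom.congr_fun h x).symm

end Flat

end Groth.Agent.H05EGA4.DiscLocus
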