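import Groth.Prelude.Def_Disc
import Mathlib.RingTheory.PicardGroup
import Mathlib.RingTheory.Kaehler.Basic
import Mathlib.RingTheory.Discriminant
import Mathlib.RingTheory.Ideal.GoingUp
import Mathlib.RingTheory.QuasiFinite.Basic

/-! Tate's pairing between the annihilator of the diagonal ideal and the dualizing module of a finite algebra. -/

set_option autoImplicit false
set_option linter.style.haveILetI false

universe u v

open TensorProduct

namespace Groth.Agent.H05EGA4.DiscPair

section General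

variable {A : Type u} {B : Type v} [CommRing A] [CommRing B] [Algebra A B]

/-- The annihilator of the diagonal ideal. -/
noncomputable abbrev J (A : Type u) (B : Type v) [CommRing A] [CommRing B] [Algebra A B] : Ideal (B ⊗[A] B) :=
  Submodule.annihilator (RingHom.ker (Algebra.TensorProduct.lmul' (S := B) A))

theorem mem_J_iff {ξ : B ⊗[A] B} : ξ ∈ J A B ↔ ∀ x : B, (x ⊗ₜ[A] 1) * ξ = (1 ⊗ₜ[A] x) * ξ := by
  have hI : (RingHom.ker (Algebra.TensorProduct.lmul' (S := B) A) : Ideal (B ⊗[A] B)) =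
      Ideal.span (Set.range fun s : B => (1 : B) ⊗ₜ[A] s - s ⊗ₜ[A] (1 : B)) :=
    (KaehlerDifferential.span_range_eq_ideal A B).symm
  rw [J, hI]
  constructor
  · intro h x
    have h1 := Submodule.mem_annihilator.1 h _ (Ideal.subset_span ⟨x, rfl⟩)
    rw [smul_eq_mul] at h1
    linear_combination -h1
  · intro h
    rw [Submodule.mem_annihilator_span]
    rintro ⟨_, x, rfl⟩
    show ξ * _ = 0
    linear_combination -(h x)

theorem comm_mem_J {ξ : B ⊗[A] B} (hξ : ξ ∈ J A B) : Algebra.TensorProduct.comm A B B ξ ∈ J A B := by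
  rw [mem_J_iff] at hξ ⊢
  intro x
  have h := congrArg (Algebra.TensorProduct.comm A B B) (hξ x)
  simpa [map_mul] using h.symm

theorem lmul'_comm (ξ : B ⊗[A] B) :
    Algebra.TensorProduct.lmul' (S := B) A (Algebra.TensorProduct.comm A B B ξ) = Algebra.TensorProduct.lmul' A ξ := by
  induction ξ with
  | zero => simp
  | tmul x y => simp [mul_comm]
  | add x y hx hy => simp [hx, hy]

theorem mem_noether_iff {b : B} :
    b ∈ Disc.noetherDifferent A B ↔ ∃ ξ ∈ J A B, Algebra.TensorProduct.lmul' A ξ = b := by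
  have hs : Function.Surjective (Algebra.TensorProduct.lmul' (S := B) A) := fun b => ⟨b ⊗ₜ 1, by simp⟩
  exact Ideal.mem_map_iff_of_surjective _ hs

/-- `(l ⊗ id)`. -/
noncomputable abbrev pair (l : Disc.Omega A B) : B ⊗[A] B →ₗ[A] B :=
  TensorProduct.lift ((LinearMap.lsmul A B).comp l.toLinearMap)

theorem pair_tmul (l : Disc.Omega A B) (x y : B) : pair l (x ⊗ₜ y) = l.toLinearMap x • y := rfl

theorem pair_right_mul (l : Disc.Omega A B) (x : B) (ξ : B ⊗[A] B) :
    pair l ((1 ⊗ₜ[A] x) * ξ) = x * pair l ξ := by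
  induction ξ with
  | zero => simp
  | tmul a b => simp [pair_tmul, Algebra.TensorProduct.tmul_mul_tmul, mul_smul_comm]
  | add a b ha hb => simp [mul_add, ha, hb]

theorem pair_left_mul (l : Disc.Omega A B) (x : B) (ξ : B ⊗[A] B) :
    pair l ((x ⊗ₜ[A] 1) * ξ) = pair (x • l) ξ := by
  induction ξ with
  | zero => simp
  | tmul a b => simp [pair_tmul, Algebra.TensorProduct.tmul_mul_tmul]
  | add a b ha hb => simp [mul_add, ha, hb]

theorem pair_add (l m : Disc.Omega A B) (ξ : B ⊗[A] B) : pair (l + m) ξ = pair l ξ + pair m ξ := by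
  induction ξ with
  | zero => simp
  | tmul a b => simp [pair_tmul, add_smul]
  | add a b ha hb => simp only [map_add, ha, hb]; abel

theorem pair_swap (l m : Disc.Omega A B) (ξ : B ⊗[A] B) :
    l.toLinearMap (pair m ξ) = m.toLinearMap (pair l (Algebra.TensorProduct.comm A B B ξ)) := by
  induction ξ with
  | zero => simp
  | tmul a b => simp [pair_tmul, mul_comm]
  | add a b ha hb => simp [ha, hb]

/-- The map `ω → B` attached to an element of `J`. -/
noncomputable def Φ (ξ : B ⊗[A] B) (hξ : ξ ∈ J A B) : Disc.Omega A B →ₗ[B] B where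
  toFun l := pair l ξ
  map_add' l m := pair_add l m ξ
  map_smul' x l := by
    rw [← pair_left_mul, mem_J_iff.1 hξ x, pair_right_mul]
    rfl

theorem Φ_apply (ξ : B ⊗[A] B) (hξ : ξ ∈ J A B) (l : Disc.Omega A B) : Φ ξ hξ l = pair l ξ := rfl

/-- The duality identity. -/
theorem Φ_smul_eq (ξ : B ⊗[A] B) (hξ : ξ ∈ J A B) (l m : Disc.Omega A B) :
    Φ ξ hξ m • l = Φ _ (comm_mem_J hξ) l • m := by
  refine Disc.Omega.ext (LinearMap.ext fun x => ?_)
  have h1 : x * Φ ξ hξ m = Φ ξ hξ (x • m) := ((Φ ξ hξ).map_smul x m).symm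
  rw [Disc.Omega.smul_toLinearMap_apply, Disc.Omega.smul_toLinearMap_apply, mul_comm, h1, Φ_apply, pair_swap,
    Disc.Omega.smul_toLinearMap_apply, mul_comm x, Φ_apply]

end General

section Free

variable {A : Type u} {B : Type v} [CommRing A] [CommRing B] [Algebra A B]
variable {ι : Type*} [Fintype ι] (e : Module.Basis ι A B)

/-- A coordinate as an element of `ω`. -/
noncomputable def co (k : ι) : Disc.Omega A B := ⟨e.coord k⟩

theorem co_apply (k : ι) (x : B) : (co e k).toLinearMap x = e.repr x k := rfl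

theorem eq_sum_co (l : Disc.Omega A B) : l = ∑ k, algebraMap A B (l.toLinearMap (e k)) • co e k := by
  let f : Disc.Omega A B →+ (B →ₗ[A] A) := AddMonoidHom.mk' Disc.Omega.toLinearMap fun _ _ => rfl
  refine Disc.Omega.ext (LinearMap.ext fun x => ?_)
  show l.toLinearMap x = f (∑ k, algebraMap A B (l.toLinearMap (e k)) • co e k) x
  rw [map_sum, LinearMap.sum_apply]
  conv_lhs => rw [← e.sum_repr x, map_sum]
  refine Finset.sum_congr rfl fun k _ => ?_
  show _ = (co e k).toLinearMap (algebraMap A B _ * x)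
  rw [← Algebra.smul_def, map_smul, map_smul, smul_eq_mul, smul_eq_mul, co_apply, mul_comm]

theorem eq_sum_tmul (ξ : B ⊗[A] B) : ξ = ∑ k, e k ⊗ₜ[A] pair (co e k) ξ := by
  induction ξ with
  | zero => simp
  | tmul a b =>
    conv_lhs => rw [← e.sum_repr a, TensorProduct.sum_tmul]
    exact Finset.sum_congr rfl fun k _ => by rw [pair_tmul, co_apply, TensorProduct.smul_tmul]
  | add a b ha hb =>
    simp only [map_add, TensorProduct.tmul_add, Finset.sum_add_distrib, ← ha, ← hb]

include e in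
theorem ext_pair {ξ ξ' : B ⊗[A] B} (h : ∀ l, pair l ξ = pair l ξ') : ξ = ξ' := by
  rw [eq_sum_tmul e ξ, eq_sum_tmul e ξ']
  simp only [h]

variable [Module.Free A B] [Module.Finite A B]

theorem trace_eq_sum : Disc.Omega.trace A B = ∑ k, e k • co e k := by
  classical
  let f : Disc.Omega A B →+ (B →ₗ[A] A) := AddMonoidHom.mk' Disc.Omega.toLinearMap fun _ _ => rfl
  refine Disc.Omega.ext (LinearMap.ext fun x => ?_)
  show Algebra.trace A B x = f (∑ k, e k • co e k) x
  rw [map_sum, LinearMap.sum_apply, Algebra.trace_eq_matrix_trace e, Matrix.trace]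
  refine Finset.sum_congr rfl fun k _ => ?_
  show _ = (co e k).toLinearMap (e k * x)
  rw [co_apply, Matrix.diag_apply, Algebra.leftMulMatrix_eq_repr_mul, mul_comm]

include e in
theorem Φ_trace (ξ : B ⊗[A] B) (hξ : ξ ∈ J A B) :
    Φ ξ hξ (Disc.Omega.trace A B) = Algebra.TensorProduct.lmul' A ξ := by
  rw [trace_eq_sum e, map_sum]
  conv_rhs => rw [eq_sum_tmul e ξ, map_sum]
  exact Finset.sum_congr rfl fun k _ => by simp [Φ_apply]

include e in
/-- The pairing is perfect. -/
theorem existsUnique_of_hom (Ψ : Disc.Omega A B →ₗ[B] B) :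
    ∃! ξ : B ⊗[A] B, ξ ∈ J A B ∧ ∀ l, Ψ l = pair l ξ := by
  classical
  let ξ := ∑ k, e k ⊗ₜ[A] Ψ (co e k)
  have hξ : ∀ l, Ψ l = pair l ξ := fun l => by
    conv_lhs => rw [eq_sum_co e l, map_sum]
    simp [ξ, pair_tmul, Algebra.smul_def]
  refine ⟨ξ, ⟨mem_J_iff.2 fun x => ext_pair e fun l => ?_, hξ⟩, fun ξ' h => ext_pair e fun l => ?_⟩
  · rw [pair_left_mul, pair_right_mul, ← hξ, ← hξ, map_smul, smul_eq_mul]
  · rw [← h.2 l, hξ]

include e in
theorem exists_eq_Φ (Ψ : Disc.Omega A B →ₗ[B] B) : ∃ (ξ : B ⊗[A] B) (hξ : ξ ∈ J A B), Ψ = Φ ξ hξ := by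
  obtain ⟨ξ, ⟨hξ, h⟩, -⟩ := existsUnique_of_hom e Ψ
  exact ⟨ξ, hξ, LinearMap.ext h⟩

end Free

section Different

variable {A : Type u} {B : Type v} [CommRing A] [CommRing B] [Algebra A B] [Module.Free A B] [Module.Finite A B]

theorem noether_eq_range :
    (Disc.noetherDifferent A B : Set B) =
      Set.range (fun φ : Disc.Omega A B →ₗ[B] B => φ (Disc.Omega.trace A B)) := by
  let e := Module.Free.chooseBasis A B
  ext b
  rw [SetLike.mem_coe, mem_noether_iff, Set.mem_range]
  constructor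
  · rintro ⟨ξ, hξ, rfl⟩
    exact ⟨Φ ξ hξ, Φ_trace e ξ hξ⟩
  · rintro ⟨Ψ, rfl⟩
    obtain ⟨ξ, hξ, rfl⟩ := exists_eq_Φ e Ψ
    exact ⟨ξ, hξ, (Φ_trace e ξ hξ).symm⟩

theorem mem_differentSet_iff {b : B} :
    b ∈ Disc.differentSet A B ↔ ∀ l : Disc.Omega A B, ∃ c : B, b • l = c • Disc.Omega.trace A B := by
  constructor
  · intro h l
    obtain ⟨c, hc⟩ := h l.toLinearMap
    exact ⟨c, Disc.Omega.ext (LinearMap.ext hc)⟩
  · intro h φ
    obtain ⟨c, hc⟩ := h ⟨φ⟩
    exact ⟨c, fun x => LinearMap.congr_fun (congrArg Disc.Omega.toLinearMap hc) x⟩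

theorem noether_subset_different : (Disc.noetherDifferent A B : Set B) ⊆ Disc.differentSet A B := by
  intro b hb
  obtain ⟨ξ, hξ, rfl⟩ := mem_noether_iff.1 hb
  refine mem_differentSet_iff.2 fun l => ⟨Φ ξ hξ l, ?_⟩
  rw [Φ_smul_eq ξ hξ (Disc.Omega.trace A B) l, Φ_trace (Module.Free.chooseBasis A B), lmul'_comm]

theorem sq_mem_noether {b : B} (hb : b ∈ Disc.differentSet A B) : b * b ∈ Disc.noetherDifferent A B := by
  classical
  let e := Module.Free.chooseBasis A B
  let τ := Disc.Omega.trace A B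
  choose c hc using mem_differentSet_iff.1 hb
  have hK : ∀ d : B, d • τ = 0 → b * d = 0 := fun d hd => by
    refine e.repr.map_eq_zero_iff.1 (Finsupp.ext fun k => ?_)
    have h : (b • co e k).toLinearMap d = ((c (co e k) * d) • τ).toLinearMap 1 := by
      rw [hc]
      simp [τ]
    rw [mul_smul, hd, smul_zero] at h
    simpa [co_apply] using h
  have hu : ∀ (d d' : B), d • τ = d' • τ → b * d = b * d' := fun d d' h => by
    have := hK (d - d') (by rw [sub_smul, h, sub_self])
    linear_combination this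
  let Ψ : Disc.Omega A B →ₗ[B] B :=
    { toFun := fun l => b * c l
      map_add' := fun l m => by
        rw [← mul_add]
        exact hu _ _ (by rw [← hc, smul_add, hc, hc, add_smul])
      map_smul' := fun x l => by
        rw [RingHom.id_apply, smul_eq_mul, mul_left_comm]
        exact hu _ _ (by rw [← hc, smul_comm, hc, mul_smul]) }
  have h : Ψ τ = b * b := hu _ _ (hc τ).symm
  rw [← h, ← SetLike.mem_coe, noether_eq_range]
  exact ⟨Ψ, rfl⟩

theorem subset_prime_iff (q : Ideal B) [hq : q.IsPrime] :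
    Disc.differentSet A B ⊆ q ↔ Disc.noetherDifferent A B ≤ q := by
  refine ⟨fun h => Set.Subset.trans noether_subset_different h, fun h b hb => ?_⟩
  exact (hq.mem_or_mem (h (sq_mem_noether hb))).elim id id

theorem different_eq_noether (h : ∀ (q : Ideal B), q.IsMaximal → ∃ (Ψ : Disc.Omega A B →ₗ[B] B) (m : _), Ψ m ∉ q) :
    Disc.differentSet A B = (Disc.noetherDifferent A B : Set B) := by
  refine Set.Subset.antisymm (fun b hb => ?_) noether_subset_different
  by_contra hbN
  obtain ⟨q, hq, hle⟩ := Ideal.exists_le_maximal ((Disc.noetherDifferent A B).colon {b})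
    (fun htop => hbN (by
      have := (htop ▸ Submodule.mem_top : (1 : B) ∈ _)
      rw [Submodule.mem_colon_singleton] at this
      simpa using this))
  obtain ⟨Ψ, m, hΨ⟩ := h q hq
  obtain ⟨c, hc⟩ := mem_differentSet_iff.1 hb m
  refine hΨ (hle (Submodule.mem_colon_singleton.2 ?_))
  rw [smul_eq_mul, mul_comm, ← smul_eq_mul, ← Ψ.map_smul, hc, Ψ.map_smul, smul_eq_mul]
  refine Ideal.mul_mem_left _ _ ?_
  rw [← SetLike.mem_coe, noether_eq_range]
  exact ⟨Ψ, rfl⟩

omit [Module.Free A B] [Module.Finite A B] in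
theorem nondeg_of_invertible [Module.Invertible B (Disc.Omega A B)] (q : Ideal B) (hq : q ≠ ⊤) :
    ∃ (Ψ : Disc.Omega A B →ₗ[B] B) (m : _), Ψ m ∉ q := by
  by_contra! h
  refine hq ((Ideal.eq_top_iff_one q).2 ?_)
  obtain ⟨z, hz⟩ := (Module.Invertible.bijective (R := B) (M := Disc.Omega A B)).2 1
  rw [← hz]
  clear hz
  induction z with
  | zero => simp
  | tmul Ψ m => simpa using h Ψ m
  | add x y hx hy => rw [map_add]; exact add_mem hx hy

theorem invertible_of_nondeg (h : ∀ (q : Ideal B), q.IsMaximal → ∃ (Ψ : Disc.Omega A B →ₗ[B] B) (m : _), Ψ m ∉ q) :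
    Module.Invertible B (Disc.Omega A B) := by
  let e := Module.Free.chooseBasis A B
  let ct := contractLeft B (Disc.Omega A B)
  have hsurj : Function.Surjective ct := by
    rw [← LinearMap.range_eq_top]
    by_contra hne
    obtain ⟨q, hq, hle⟩ := Ideal.exists_le_maximal _ hne
    obtain ⟨Ψ, m, hΨ⟩ := h q hq
    exact hΨ (hle ⟨Ψ ⊗ₜ m, by simp [ct]⟩)
  obtain ⟨z₁, hz₁⟩ := hsurj 1
  have key : ∀ (z w : Module.Dual B (Disc.Omega A B) ⊗[B] Disc.Omega A B), ct w • z = ct z • w := fun z w => by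
    induction z with
    | zero => simp
    | add x y hx hy => simp only [smul_add, hx, hy, map_add, add_smul]
    | tmul F m =>
      induction w with
      | zero => simp
      | add x y hx hy => simp only [smul_add, hx, hy, map_add, add_smul]
      | tmul G g =>
        obtain ⟨ξ, hξ, hG⟩ := exists_eq_Φ e G
        let G' := Φ _ (comm_mem_J hξ)
        have hi : ∀ l k, G l • k = G' k • l := fun l k => by rw [hG]; exact Φ_smul_eq ξ hξ k l
        have h1 : G' m • F = F m • G := LinearMap.ext fun l => by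
          rw [LinearMap.smul_apply, LinearMap.smul_apply, ← map_smul, ← hi, map_smul, smul_eq_mul, smul_eq_mul, mul_comm]
        show G g • (F ⊗ₜ[B] m) = F m • (G ⊗ₜ[B] g)
        rw [← TensorProduct.tmul_smul, hi, TensorProduct.tmul_smul, TensorProduct.smul_tmul', h1, TensorProduct.smul_tmul']
  refine ⟨⟨fun z w hzw => ?_, hsurj⟩⟩
  have h1 := key z z₁
  have h2 := key w z₁
  rw [hz₁, one_smul] at h1 h2
  rw [h1, h2]
  exact congrArg (· • z₁) hzw

end Different

section Discr

variable {A : Type u} {B : Type v} [CommRing A] [CommRing B] [Algebra A B]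
variable {ι : Type*} [Fintype ι] [DecidableEq ι] (b : Module.Basis ι A B)

theorem norm_mem_span_discr {x : B} (hx : x ∈ Disc.differentSet A B) :
    Algebra.norm A x ∈ Ideal.span {Algebra.discr A b} := by
  haveI := Module.Free.of_basis b
  haveI := Module.Finite.of_basis b
  choose c hc using mem_differentSet_iff.1 hx
  have h : Algebra.leftMulMatrix b x =
      (Matrix.of fun i k => b.repr (c (co b i)) k) * Algebra.traceMatrix A b := by
    ext i j
    rw [Algebra.leftMulMatrix_eq_repr_mul, Matrix.mul_apply]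
    have h1 : b.repr (x * b j) i = (c (co b i) • Disc.Omega.trace A B).toLinearMap (b j) := by
      rw [← hc]
      rfl
    rw [h1]
    show Algebra.trace A B (c (co b i) * b j) = _
    conv_lhs => rw [← b.sum_repr (c (co b i)), Finset.sum_mul, map_sum]
    exact Finset.sum_congr rfl fun k _ => by simp [Algebra.traceForm_apply]
  rw [Algebra.norm_eq_matrix_det b, h, Matrix.det_mul, ← Algebra.discr_def]
  exact Ideal.mul_mem_left _ _ (Ideal.mem_span_singleton_self _)

theorem span_norm_eq_span_discr (h : ∀ (q : Ideal B), q ≠ ⊤ → ∃ (Ψ : Disc.Omega A B →ₗ[B] B) (m : _), Ψ m ∉ q) :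
    Ideal.span (Algebra.norm A '' Disc.differentSet A B) = Ideal.span {Algebra.discr A b} := by
  classical
  haveI := Module.Free.of_basis b
  haveI := Module.Finite.of_basis b
  haveI : Algebra.IsIntegral A B := Algebra.IsIntegral.of_finite A B
  refine le_antisymm (Ideal.span_le.2 ?_) (Ideal.span_le.2 ?_)
  · rintro _ ⟨x, hx, rfl⟩
    exact norm_mem_span_discr b hx
  rw [Set.singleton_subset_iff, SetLike.mem_coe]
  set N := Ideal.span (Algebra.norm A '' Disc.differentSet A B)
  by_contra hN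
  obtain ⟨p, hp, hle⟩ := Ideal.exists_le_maximal (N.colon {Algebra.discr A b})
    (fun htop => hN (by
      have := (htop ▸ Submodule.mem_top : (1 : A) ∈ _)
      rw [Submodule.mem_colon_singleton] at this
      simpa using this))
  -- a generator of `ω` near `p`
  obtain ⟨g, hg⟩ : ∃ g, ∀ Q : Ideal B, Q.IsPrime → Q.comap (algebraMap A B) = p → ∃ Ψ : Disc.Omega A B →ₗ[B] B, Ψ g ∉ Q := by
    let S := {Q : Ideal B // Q.IsPrime ∧ Q.comap (algebraMap A B) = p}
    haveI : Finite S := by
      haveI : p.IsPrime := hp.isPrime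
      haveI := (Algebra.QuasiFinite.finite_primesOver (S := B) p).to_subtype
      exact Finite.of_injective (fun Q : S => (⟨Q.1, ⟨Q.2.1, ⟨Q.2.2.symm⟩⟩⟩ : p.primesOver B))
        fun a a' h => Subtype.ext (congrArg Subtype.val h :)
    haveI := Fintype.ofFinite S
    choose Ψ m hΨ using fun Q : S => h Q.1 Q.2.1.ne_top
    have hmax : ∀ Q : S, Q.1.IsMaximal := fun Q =>
      haveI := Q.2.1
      Ideal.isMaximal_of_isIntegral_of_isMaximal_comap (R := A) Q.1 (by rw [Q.2.2]; exact hp)
    have hcop : Pairwise fun i j : S => IsCoprime i.1 j.1 := fun i j hij =>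
      (Ideal.isCoprime_iff_sup_eq.2 ((hmax i).coprime_of_ne (hmax j) fun he => hij (Subtype.ext he)))
    have hu : ∀ Q : S, ∃ u : B, ∀ R : S, u - (if R = Q then 1 else 0) ∈ R.1 := fun Q => by
      obtain ⟨u, hu⟩ := Ideal.exists_forall_sub_mem_ideal (I := fun R : S => R.1) hcop (fun R => if R = Q then 1 else 0)
      exact ⟨u, hu⟩
    choose u hu using hu
    refine ⟨∑ Q, u Q • m Q, fun Q hQ hQp => ⟨Ψ ⟨Q, hQ, hQp⟩, fun hmem => ?_⟩⟩
    let Q₀ : S := ⟨Q, hQ, hQp⟩
    refine hΨ Q₀ ?_
    have h1 : Ψ Q₀ (∑ R, u R • m R) - Ψ Q₀ (m Q₀) ∈ Q := by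
      rw [map_sum, show Ψ Q₀ (m Q₀) = ∑ R, (if Q₀ = R then 1 else 0) * Ψ Q₀ (m R) from
        Eq.symm ((Finset.sum_eq_single Q₀ (fun R _ hR => by rw [if_neg (Ne.symm hR), zero_mul])
          (fun h => absurd (Finset.mem_univ _) h)).trans (by rw [if_pos rfl, one_mul])), ← Finset.sum_sub_distrib]
      refine sum_mem fun R _ => ?_
      rw [map_smul, smul_eq_mul, ← sub_mul]
      exact Ideal.mul_mem_right _ _ (hu R Q₀)
    have h3 := sub_mem hmem h1
    rw [sub_sub_cancel] at h3
    exact h3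
  -- the conductor
  let C : Ideal B := (Submodule.span B {g}).colon Set.univ
  have hC : ¬ C.comap (algebraMap A B) ≤ p := fun hle' => by
    haveI := hp.isPrime
    obtain ⟨Q, hCQ, hQ, hQp⟩ := Ideal.exists_ideal_over_prime_of_isIntegral p C hle'
    obtain ⟨Ψ, hΨ⟩ := hg Q hQ hQp
    obtain ⟨ξ, hξ, rfl⟩ := exists_eq_Φ b Ψ
    refine hΨ (hCQ (Submodule.mem_colon.2 fun m _ => ?_))
    rw [Φ_smul_eq ξ hξ m g]
    exact Submodule.smul_mem _ _ (Submodule.mem_span_singleton_self g)
  obtain ⟨s, hs, hsp⟩ := SetLike.not_le_iff_exists.1 hC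
  set t := algebraMap A B s
  have hgen : ∀ l : Disc.Omega A B, ∃ c : B, c • g = t • l := fun l =>
    Submodule.mem_span_singleton.1 (Submodule.mem_colon.1 hs l trivial)
  choose c hc using hgen
  set c₀ := c (Disc.Omega.trace A B)
  have hmem : t * c₀ ∈ Disc.differentSet A B := mem_differentSet_iff.2 fun l => ⟨t * c l * 1, by
    rw [mul_one, mul_comm t c₀, mul_smul, ← hc, smul_comm, hc (Disc.Omega.trace A B), ← mul_smul, mul_comm]⟩
  let G : Matrix ι ι A := Matrix.of fun i j => g.toLinearMap (b i * b j)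
  have hmat : s • Algebra.traceMatrix A b = (Algebra.leftMulMatrix b c₀).transpose * G := by
    ext i j
    have h1 : s * Algebra.trace A B (b i * b j) = g.toLinearMap (c₀ * b i * b j) := by
      have h' := congrArg (fun l : Disc.Omega A B => l.toLinearMap (b i * b j)) (hc (Disc.Omega.trace A B))
      rw [mul_assoc]
      refine Eq.trans ?_ h'.symm
      show s * Algebra.trace A B (b i * b j) = Algebra.trace A B (algebraMap A B s * (b i * b j))
      rw [← Algebra.smul_def, map_smul, smul_eq_mul]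
    rw [Matrix.smul_apply, Algebra.traceMatrix_apply, Algebra.traceForm_apply, smul_eq_mul, h1]
    conv_lhs => rw [← b.sum_repr (c₀ * b i), Finset.sum_mul, map_sum]
    rw [Matrix.mul_apply]
    exact Finset.sum_congr rfl fun k _ => by simp [G, Algebra.leftMulMatrix_eq_repr_mul]
  have hdet := congrArg Matrix.det hmat
  rw [Matrix.det_smul, Matrix.det_mul, Matrix.det_transpose, ← Algebra.discr_def, ← Algebra.norm_eq_matrix_det] at hdet
  have h2 : s ^ (Fintype.card ι + Fintype.card ι) * Algebra.discr A b ∈ N := by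
    rw [pow_add, mul_assoc, hdet, ← mul_assoc, ← Algebra.norm_algebraMap_of_basis b, ← map_mul]
    exact Ideal.mul_mem_right _ _ (Ideal.subset_span ⟨_, hmem, rfl⟩)
  exact hsp (hp.isPrime.mem_of_pow_mem _ (hle (Submodule.mem_colon_singleton.2 (by rw [smul_eq_mul]; exact h2))))

end Discr

end Groth.Agent.H05EGA4.DiscPair
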