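import Mathlib
import Groth.Agent.H05EGA4.NormalTensor
import Groth.Agent.H06Red.Algebra
import Groth.Agent.H06Desc.Normal
import Groth.Agent.H1CAlg.Normal

/-!
# Tensor products with geometrically normal algebras, no finiteness (helper5)
-/

set_option autoImplicit false
set_option linter.style.haveILetI false
set_option linter.unusedSectionVars false
set_option linter.deprecated false
set_option maxHeartbeats 800000
set_option synthInstance.maxHeartbeats 200000
universe u v
open TensorProduct Groth.Agent

namespace Groth.Agent.H05EGA4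

/-- Normality descends along faithfully flat algebras. -/
theorem isNormalRing_of_faithfullyFlat {R S : Type u} [CommRing R] [CommRing S] [Algebra R S]
    [Module.FaithfullyFlat R S] (h : EGA4.IsNormalRing S) : EGA4.IsNormalRing R := by
  intro p _
  obtain ⟨q, hq⟩ := PrimeSpectrum.comap_surjective_of_faithfullyFlat (A := R) (B := S) ⟨p, inferInstance⟩
  haveI : q.asIdeal.LiesOver p := ⟨(congrArg PrimeSpectrum.asIdeal hq).symm⟩
  letI := Localization.AtPrime.algebraOfLiesOver p q.asIdeal
  haveI : IsLocalHom (algebraMap (Localization.AtPrime p) (Localization.AtPrime q.asIdeal)) := by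
    rw [Localization.AtPrime.IsLiesOverAlgebra.algebraMap_eq]
    infer_instance
  haveI : Module.FaithfullyFlat (Localization.AtPrime p) (Localization.AtPrime q.asIdeal) :=
    Module.FaithfullyFlat.of_flat_of_isLocalHom
  obtain ⟨h1, h2⟩ := h q.asIdeal
  exact H06Desc.isDomain_and_isIntegrallyClosed_of_faithfullyFlat (B := Localization.AtPrime q.asIdeal)

/-- A normal domain is integrally closed. -/
theorem isIntegrallyClosed_of_isNormalRing {R : Type u} [CommRing R] [IsDomain R] (h : EGA4.IsNormalRing R) :
    IsIntegrallyClosed R := by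
  have := H1CAlg.isIntegrallyClosedIn_of_isNormalRing h
  exact this

/-- Minimal primes of a subring are finite in number. -/
theorem minimalPrimes_finite_of_injective {R S : Type u} [CommRing R] [CommRing S] (f : R →+* S)
    (hf : Function.Injective f) (h : (minimalPrimes S).Finite) : (minimalPrimes R).Finite := by
  refine (h.image (Ideal.comap f)).subset fun P hP => ?_
  have hP' : P ∈ ((⊥ : Ideal S).comap f).minimalPrimes := by
    rw [← RingHom.ker_eq_comap_bot, (RingHom.injective_iff_ker_eq_bot f).mp hf]; exact hP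
  obtain ⟨p', hp', -, rfl⟩ := Ideal.exists_comap_eq_of_mem_minimalPrimes f P hP'
  obtain ⟨q, hq, hle⟩ := Ideal.exists_minimalPrimes_le (I := (⊥ : Ideal S)) (J := p') bot_le
  haveI := hq.isPrime
  exact ⟨q, hq, le_antisymm (Ideal.comap_mono hle) (hP.2 ⟨inferInstance, bot_le⟩ (Ideal.comap_mono hle))⟩

section geom

variable {k C : Type u} [Field k] [CommRing C] [Algebra k C]

theorem isNormalRing_of_isGeomNormal (h : EGA4.IsGeomNormal k C) : EGA4.IsNormalRing C :=
  isNormalRing_of_ringEquiv (Algebra.TensorProduct.lid k C).toRingEquiv (h k inferInstance)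

/-- Base change to an algebraic extension. -/
theorem isNormalRing_tensor_of_isAlgebraic (h : EGA4.IsGeomNormal k C) (L : Type u) [Field L] [Algebra k L]
    [Algebra.IsAlgebraic k L] : EGA4.IsNormalRing (C ⊗[k] L) := by
  refine isNormalRing_of_cover fun Fs => ?_
  obtain ⟨B0, hB0, hsub⟩ := exists_fg_subalgebra_finset Fs
  haveI : Algebra.FiniteType k B0 := (Subalgebra.fg_iff_finiteType _).mp hB0
  haveI : Algebra.IsIntegral k B0 :=
    ⟨fun x => (isIntegral_algHom_iff B0.val Subtype.val_injective).1 (Algebra.IsIntegral.isIntegral (x : L))⟩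
  letI : Field B0 := (isField_of_isIntegral_of_isField' (Field.toIsField k) : IsField B0).toField
  exact ⟨_, inferInstance, (Algebra.TensorProduct.map (AlgHom.id k C) B0.val).toRingHom,
    tensorProductMap_injective _ Subtype.val_injective,
    isNormalRing_of_ringEquiv (Algebra.TensorProduct.comm k B0 C).toRingEquiv (h B0 Algebra.IsIntegral.finite),
    hsub⟩

/-- Base change of a geometrically normal domain to a purely inseparable extension. -/
theorem isDomain_tensor_of_isPurelyInseparable [IsDomain C] (h : EGA4.IsGeomNormal k C) (L : Type u) [Field L]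
    [Algebra k L] [IsPurelyInseparable k L] : IsDomain (C ⊗[k] L) := by
  haveI : Algebra.IsAlgebraic k L := IsPurelyInseparable.isAlgebraic k L
  haveI := isReduced_of_isNormalRing (isNormalRing_tensor_of_isAlgebraic h L)
  have hinj : Function.Injective (algebraMap C (C ⊗[k] L)) :=
    Algebra.TensorProduct.includeLeft_injective (S := C) (algebraMap k L).injective
  haveI : Nontrivial (C ⊗[k] L) := hinj.nontrivial
  haveI : NoZeroDivisors (C ⊗[k] L) := ⟨fun {x y} hxy => by
    obtain ⟨m, hm, c, hc⟩ := IsPurelyInseparable.exists_pow_mem_range_tensorProduct (k := k) (K := L) x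
    obtain ⟨n, hn, d, hd⟩ := IsPurelyInseparable.exists_pow_mem_range_tensorProduct (k := k) (K := L) y
    have h0 : algebraMap C (C ⊗[k] L) (c ^ n * d ^ m) = 0 := by
      rw [map_mul, map_pow, map_pow, hc, hd, ← pow_mul, ← pow_mul, mul_comm n m, ← mul_pow, hxy,
        zero_pow (Nat.mul_ne_zero hm.ne' hn.ne')]
    rcases mul_eq_zero.mp (hinj (h0.trans (map_zero _).symm)) with h1 | h1
    · rw [eq_zero_of_pow_eq_zero h1, map_zero] at hc
      exact Or.inl (IsReduced.eq_zero x ⟨m, hc.symm⟩)
    · rw [eq_zero_of_pow_eq_zero h1, map_zero] at hd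
      exact Or.inr (IsReduced.eq_zero y ⟨n, hd.symm⟩)⟩
  exact NoZeroDivisors.to_isDomain _

/-- Base change of a geometrically normal domain to an algebraically closed field. -/
theorem isNormalRing_tensor_isAlgClosed [IsDomain C] (h : EGA4.IsGeomNormal k C) (Ω : Type u) [Field Ω]
    [Algebra k Ω] [IsAlgClosed Ω] : EGA4.IsNormalRing (C ⊗[k] Ω) := by
  let k' := perfectClosure k Ω
  haveI := isDomain_tensor_of_isPurelyInseparable h k'
  let e1 := (Algebra.TensorProduct.comm k C k').toRingEquiv
  haveI : IsDomain (k' ⊗[k] C) := e1.symm.toMulEquiv.isDomain _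
  haveI : Algebra.IsAlgebraic k k' := IsPurelyInseparable.isAlgebraic k k'
  haveI : IsIntegrallyClosed (k' ⊗[k] C) :=
    isIntegrallyClosed_of_isNormalRing (isNormalRing_of_ringEquiv e1 (isNormalRing_tensor_of_isAlgebraic h k'))
  haveI : Algebra.IsGeometricallyReduced k' (FractionRing (k' ⊗[k] C)) :=
    H06Red.isGeometricallyReduced_of_perfectField k' _
  haveI : Algebra.IsGeometricallyReduced k' Ω := H06Red.isGeometricallyReduced_of_perfectField k' _
  have hn := (isNormalRing_tensor_domains (k := k') (A := k' ⊗[k] C) (B := Ω) (K := FractionRing (k' ⊗[k] C))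
    (L := Ω)).1
  exact isNormalRing_of_ringEquiv (Algebra.TensorProduct.comm k Ω C).toRingEquiv
    (isNormalRing_of_ringEquiv (Algebra.TensorProduct.cancelBaseChange k k' k' Ω C).toRingEquiv hn)

theorem faithfullyFlat_tensorProductMap (C' K L : Type u) [CommRing C'] [Field K] [Field L] [Algebra k C']
    [Algebra k K] [Algebra k L] [Algebra K L] [IsScalarTower k K L] :
    letI := (Algebra.TensorProduct.map (AlgHom.id k C') (IsScalarTower.toAlgHom k K L)).toRingHom.toAlgebra
    Module.FaithfullyFlat (C' ⊗[k] K) (C' ⊗[k] L) := by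
  letI := (Algebra.TensorProduct.map (AlgHom.id k C') (IsScalarTower.toAlgHom k K L)).toRingHom.toAlgebra
  let R := C' ⊗[k] K
  letI : Algebra K R := Algebra.TensorProduct.rightAlgebra
  let c : R ≃ₐ[K] K ⊗[k] C' := AlgEquiv.ofRingEquiv (f := (Algebra.TensorProduct.comm k C' K).toRingEquiv)
    (fun x => by
      show Algebra.TensorProduct.comm k C' K ((1 : C') ⊗ₜ[k] x) = x ⊗ₜ[k] (1 : C')
      simp)
  let e : R ⊗[K] L ≃+* C' ⊗[k] L :=
    (Algebra.TensorProduct.comm K R L).toRingEquiv.trans
      (((Algebra.TensorProduct.congr (AlgEquiv.refl : L ≃ₐ[K] L) c).toRingEquiv).trans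
        ((Algebra.TensorProduct.cancelBaseChange k K K L C').toRingEquiv.trans
          (Algebra.TensorProduct.comm k L C').toRingEquiv))
  let e' : R ⊗[K] L ≃ₐ[R] C' ⊗[k] L := { e with
    commutes' := fun r => by
      show e (r ⊗ₜ 1) = Algebra.TensorProduct.map (AlgHom.id k C') (IsScalarTower.toAlgHom k K L) r
      induction r using TensorProduct.induction_on with
      | zero => simp
      | tmul y x =>
        simp only [e, c, AlgEquiv.ofRingEquiv]
        show Algebra.TensorProduct.comm k L C' (Algebra.TensorProduct.cancelBaseChange k K K L C' ((1 : L) ⊗ₜ[K] (x ⊗ₜ[k] y))) = _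
        simp [Algebra.smul_def]
      | add z w hz hw => rw [TensorProduct.add_tmul, map_add, map_add, hz, hw] }
  exact Module.FaithfullyFlat.of_linearEquiv R (R ⊗[K] L) e'.symm.toLinearEquiv

/-- Base change of a geometrically normal domain to any field. -/
theorem isNormalRing_tensor_field_of_isGeomNormal [IsDomain C] (h : EGA4.IsGeomNormal k C) (K : Type u) [Field K]
    [Algebra k K] : EGA4.IsNormalRing (C ⊗[k] K) ∧ HasSplittingIdempotents (C ⊗[k] K) := by
  have hall : ∀ (L : Type u) [Field L] [Algebra k L], EGA4.IsNormalRing (C ⊗[k] L) := by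
    intro L _ _
    letI := (Algebra.TensorProduct.map (AlgHom.id k C) (IsScalarTower.toAlgHom k L (AlgebraicClosure L))).toRingHom.toAlgebra
    haveI := faithfullyFlat_tensorProductMap (k := k) C L (AlgebraicClosure L)
    exact isNormalRing_of_faithfullyFlat (S := C ⊗[k] AlgebraicClosure L)
      (isNormalRing_tensor_isAlgClosed h (AlgebraicClosure L))
  refine ⟨hall K, hasSplittingIdempotents_of_cover fun Fs => ?_⟩
  obtain ⟨F, _, _, hF, φ, hφ, hsub⟩ := exists_eft_field_finset Fs
  refine ⟨_, inferInstance, (Algebra.TensorProduct.map (AlgHom.id k C) φ).toRingHom,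
    tensorProductMap_injective φ hφ, ?_, hsub⟩
  refine hasSplittingIdempotents_of_finite_minimalPrimes ?_ (hall F)
  haveI : IsNoetherianRing (F ⊗[k] FractionRing C) := H02CA.isNoetherianRing_tensor_of_essFiniteType _ _ _
  refine minimalPrimes_finite_of_injective
    ((Algebra.TensorProduct.map (AlgHom.id k F) (IsScalarTower.toAlgHom k C (FractionRing C))).toRingHom.comp
      (Algebra.TensorProduct.comm k C F).toRingHom)
    ((tensorProductMap_injective _ (IsFractionRing.injective C (FractionRing C))).comp
      (Algebra.TensorProduct.comm k C F).injective) (minimalPrimes.finite_of_isNoetherianRing _)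

theorem IsGeomNormal.of_isLocalization (h : EGA4.IsGeomNormal k C) (M : Submonoid C) (D : Type u) [CommRing D]
    [Algebra C D] [IsLocalization M D] [Algebra k D] [IsScalarTower k C D] : EGA4.IsGeomNormal k D := by
  intro L _ _ hL
  letI := (Algebra.TensorProduct.map (AlgHom.id k L) (IsScalarTower.toAlgHom k C D)).toRingHom.toAlgebra
  haveI := isLocalization_tensor_right k C D L M
  exact isNormalRing_of_isLocalization (M.map (Algebra.TensorProduct.includeRight : C →ₐ[k] L ⊗[k] C).toRingHom) (h L hL)

/-- The tensor product of a geometrically normal and a normal algebra. -/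
theorem isNormalRing_tensor_of_isGeomNormal_general (h : EGA4.IsGeomNormal k C) (B : Type u) [CommRing B]
    [Algebra k B] (hB : EGA4.IsNormalRing B) : EGA4.IsNormalRing (C ⊗[k] B) := by
  refine isNormalRing_of_ringEquiv (Algebra.TensorProduct.comm k B C).toRingEquiv fun Q _ => ?_
  let p := Q.comap (Algebra.TensorProduct.includeRight : C →ₐ[k] B ⊗[k] C).toRingHom
  let D := Localization.AtPrime p
  obtain ⟨hd, -⟩ := isNormalRing_of_isGeomNormal h p
  have hD : EGA4.IsGeomNormal k D := IsGeomNormal.of_isLocalization h p.primeCompl D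
  have hK : ∀ (K : Type u) [Field K] [Algebra k K], EGA4.IsNormalRing (D ⊗[k] K) ∧ HasSplittingIdempotents (D ⊗[k] K) :=
    fun K _ _ => isNormalRing_tensor_field_of_isGeomNormal hD K
  have hn : EGA4.IsNormalRing (D ⊗[k] B) :=
    isNormalRing_tensor_of_fields (fun K _ _ => isReduced_of_isNormalRing (hK K).1) hK hB
  letI := (Algebra.TensorProduct.map (AlgHom.id k B) (IsScalarTower.toAlgHom k C D)).toRingHom.toAlgebra
  haveI := isLocalization_tensor_right k C D B p.primeCompl
  refine normal_atPrime_of_isLocalization (p.primeCompl.map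
    (Algebra.TensorProduct.includeRight : C →ₐ[k] B ⊗[k] C).toRingHom)
    (isNormalRing_of_ringEquiv (Algebra.TensorProduct.comm k D B).toRingEquiv hn) Q ?_
  rintro _ ⟨b, hb, rfl⟩ hmem
  exact hb hmem

end geom

/-- `L ⊗[k'] A` is a localisation of `L ⊗[k] A` for a separable algebraic extension `k'/k`. -/
theorem exists_isLocalization_of_isSeparable (k k' L A : Type u) [Field k] [Field k'] [CommRing L] [CommRing A]
    [Algebra k k'] [Algebra.IsSeparable k k'] [Algebra k' L] [Algebra k L] [IsScalarTower k k' L]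
    [Algebra k' A] [Algebra k A] [IsScalarTower k k' A] :
    ∃ (π : L ⊗[k] A →+* L ⊗[k'] A) (M : Submonoid (L ⊗[k] A)),
      letI := π.toAlgebra; IsLocalization M (L ⊗[k'] A) := by
  classical
  let T := L ⊗[k] A
  let π : T →ₐ[L] L ⊗[k'] A :=
    Algebra.TensorProduct.lift (Algebra.ofId L _) ((Algebra.TensorProduct.includeRight : A →ₐ[k'] L ⊗[k'] A).restrictScalars k)
      (fun x y => Commute.all _ _)
  have hπ : ∀ (l : L) (a : A), π (l ⊗ₜ[k] a) = l ⊗ₜ[k'] a := fun l a => by
    show Algebra.ofId L (L ⊗[k'] A) l * ((1 : L) ⊗ₜ[k'] a) = _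
    show algebraMap L (L ⊗[k'] A) l * _ = _
    rw [Algebra.TensorProduct.algebraMap_apply, Algebra.TensorProduct.tmul_mul_tmul, mul_one, one_mul]
    rfl
  let J : Ideal T :=
    { carrier := {z | ∃ s, π s = 1 ∧ s * z = 0}
      add_mem' := by
        rintro z w ⟨s, hs, hsz⟩ ⟨t, ht, htw⟩
        exact ⟨s * t, by rw [map_mul, hs, ht, one_mul], by linear_combination t * hsz + s * htw⟩
      zero_mem' := ⟨1, map_one _, mul_zero _⟩
      smul_mem' := by
        rintro c z ⟨s, hs, hsz⟩
        exact ⟨s, hs, by rw [smul_eq_mul]; linear_combination c * hsz⟩ }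
  have hd : ∀ x : k', algebraMap k' L x ⊗ₜ[k] (1 : A) - (1 : L) ⊗ₜ[k] algebraMap k' A x ∈ J := by
    intro x
    let u1 : k' →ₐ[k] T := (Algebra.TensorProduct.includeLeft : L →ₐ[k] T).comp (IsScalarTower.toAlgHom k k' L)
    let u2 : k' →ₐ[k] T := (Algebra.TensorProduct.includeRight : A →ₐ[k] T).comp (IsScalarTower.toAlgHom k k' A)
    show u1 x - u2 x ∈ J
    let f := minpoly k x
    let g := (Polynomial.map (algebraMap k T) f)
    obtain ⟨c, hc⟩ := Polynomial.binomExpansion g (u2 x) (u1 x - u2 x)
    have he : ∀ u : k' →ₐ[k] T, g.eval (u x) = 0 := fun u => by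
      rw [Polynomial.eval_map, ← Polynomial.aeval_def, Polynomial.aeval_algHom_apply, minpoly.aeval, map_zero]
    rw [add_sub_cancel, he, he, zero_add] at hc
    have hder : g.derivative.eval (u2 x) = u2 (Polynomial.aeval x f.derivative) := by
      rw [← Polynomial.aeval_algHom_apply, Polynomial.derivative_map, Polynomial.eval_map, Polynomial.aeval_def]
    have hπu : ∀ y : k', π (u1 y) = algebraMap k' _ y ∧ π (u2 y) = algebraMap k' _ y := fun y => by
      refine ⟨(hπ _ _).trans (Algebra.TensorProduct.algebraMap_apply y).symm, (hπ _ _).trans ?_⟩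
      show (1 : L) ⊗ₜ[k'] algebraMap k' A y = _
      rw [Algebra.TensorProduct.algebraMap_apply, Algebra.algebraMap_eq_smul_one, Algebra.algebraMap_eq_smul_one,
        TensorProduct.tmul_smul, TensorProduct.smul_tmul']
    have hne : Polynomial.aeval x f.derivative ≠ 0 := (Algebra.IsSeparable.isSeparable k x).aeval_derivative_ne_zero (minpoly.aeval k x)
    refine ⟨(g.derivative.eval (u2 x) + c * (u1 x - u2 x)) * u1 (Polynomial.aeval x f.derivative)⁻¹, ?_, ?_⟩
    · rw [map_mul, map_add, map_mul, map_sub, (hπu x).1, (hπu x).2, sub_self, mul_zero, add_zero, hder, (hπu _).1,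
        (hπu _).2, ← map_mul, mul_inv_cancel₀ hne, map_one]
    · linear_combination (-(u1 (Polynomial.aeval x f.derivative)⁻¹)) * hc
  let q := Ideal.Quotient.mkₐ L J
  let ψA : A →ₐ[k'] T ⧸ J :=
    { ((q.restrictScalars k).comp (Algebra.TensorProduct.includeRight : A →ₐ[k] T)).toRingHom with
      commutes' := fun x => by
        rw [IsScalarTower.algebraMap_apply k' L (T ⧸ J), ← Ideal.Quotient.mk_algebraMap]
        exact (Ideal.Quotient.mk_eq_mk_iff_sub_mem _ _).mpr (neg_sub (algebraMap k' L x ⊗ₜ[k] (1 : A)) _ ▸ neg_mem (hd x)) }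
  let ψ : L ⊗[k'] A →ₐ[L] T ⧸ J := Algebra.TensorProduct.lift (Algebra.ofId L _) ψA (fun x y => Commute.all _ _)
  have hψ : ψ.comp π = q := Algebra.TensorProduct.ext (Subsingleton.elim _ _) (by
    ext a
    simp [π, ψ, ψA, q, Algebra.TensorProduct.algebraMap_apply]
    rfl)
  have hker : ∀ z, π z = 0 → z ∈ J := fun z hz => by
    have : q z = 0 := by rw [← hψ, AlgHom.comp_apply, hz, map_zero]
    exact Ideal.Quotient.eq_zero_iff_mem.mp this
  have hsurj : Function.Surjective π := fun w => by
    induction w using TensorProduct.induction_on with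
    | zero => exact ⟨0, map_zero _⟩
    | tmul l a => exact ⟨l ⊗ₜ a, hπ l a⟩
    | add z w hz hw =>
      obtain ⟨z', rfl⟩ := hz; obtain ⟨w', rfl⟩ := hw
      exact ⟨z' + w', map_add _ _ _⟩
  let M : Submonoid T :=
    { carrier := {s | π s = 1}, one_mem' := map_one _, mul_mem' := fun {a b} ha hb => by
        show π (a * b) = 1
        rw [map_mul, show π a = 1 from ha, show π b = 1 from hb, one_mul] }
  refine ⟨π.toRingHom, M, ?_⟩
  letI := π.toRingHom.toAlgebra
  refine (isLocalization_iff M _).mpr ⟨fun s => ?_, fun z => ?_, fun {a b} hab => ?_⟩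
  · show IsUnit (π (s : T))
    rw [show π (s : T) = 1 from s.2]; exact isUnit_one
  · obtain ⟨w, rfl⟩ := hsurj z
    exact ⟨⟨w, 1⟩, by simp; rfl⟩
  · obtain ⟨s, hs, hsz⟩ := hker (a - b) (by rw [map_sub, show π a = π b from hab, sub_self])
    exact ⟨⟨s, hs⟩, by rw [mul_sub, sub_eq_zero] at hsz; exact hsz⟩

end Groth.Agent.H05EGA4
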