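import Mathlib
import Groth.Agent.H05EGA4.NormalTensorGeom

/-!
# Eakin–Nagata (helper5)
-/

set_option autoImplicit false
set_option linter.style.haveILetI false
set_option linter.unusedVariables false
set_option maxHeartbeats 800000
universe u
open Groth.Agent

namespace Groth.Agent.H05EGA4

/-- The inductive step of the Eakin–Nagata theorem. -/
theorem eakin_step (S R : Type u) [CommRing S] [CommRing R] [Algebra S R] [IsNoetherianRing R] [Module.Finite S R]
    (J : Ideal R) (hind : ∀ J' : Ideal R, J < J' → ∀ I : Ideal S, I.map (algebraMap S R) = J' → IsNoetherian S (R ⧸ J'))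
    (I : Ideal S) (hI : I.map (algebraMap S R) = J) : IsNoetherian S (R ⧸ J) := by
  classical
  let M := R ⧸ J
  obtain ⟨n, g, hg⟩ := Module.Finite.exists_fin (R := S) (M := M)
  let F : Set (Submodule S M) := {N | ∀ s : S, (∀ m : M, s • m ∈ N) → ∀ m : M, s • m = 0}
  have hbot : (⊥ : Submodule S M) ∈ F := fun s hs m => (Submodule.mem_bot S).mp (hs m)
  obtain ⟨N, -, hN⟩ := zorn_le_nonempty₀ F (fun c hc hchain y hy => by
    refine ⟨sSup c, fun s hs m => ?_, fun z hz => le_sSup hz⟩
    have hdir : DirectedOn (· ≤ ·) c := hchain.directedOn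
    obtain ⟨N0, hN0, hall⟩ : ∃ N0 ∈ c, ∀ i ∈ (Finset.univ : Finset (Fin n)), s • g i ∈ N0 := by
      induction (Finset.univ : Finset (Fin n)) using Finset.induction_on with
      | empty => exact ⟨y, hy, by simp⟩
      | insert a T ha ih =>
        obtain ⟨N1, hN1, h1⟩ := ih
        obtain ⟨N2, hN2, h2⟩ := (Submodule.mem_sSup_of_directed ⟨y, hy⟩ hdir).mp (hs (g a))
        obtain ⟨N3, hN3, h13, h23⟩ := hdir N1 hN1 N2 hN2
        refine ⟨N3, hN3, fun i hi => ?_⟩
        rcases Finset.mem_insert.mp hi with rfl | hi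
        · exact h23 h2
        · exact h13 (h1 i hi)
    refine hc hN0 s (fun m' => ?_) m
    have : (⊤ : Submodule S M) ≤ N0.comap (LinearMap.lsmul S M s) := by
      rw [← hg, Submodule.span_le]
      rintro _ ⟨i, rfl⟩
      exact hall i (Finset.mem_univ _)
    exact this trivial) ⊥ hbot
  have hbig : ∀ N' : Submodule S M, N < N' → N'.FG := by
    intro N' hlt
    have hN' : N' ∉ F := fun h => not_le_of_gt hlt (hN.2 h hlt.le)
    simp only [F, Set.mem_ofPred_eq, not_forall] at hN'
    obtain ⟨s, hs, m, hm⟩ := hN'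
    let J' := J ⊔ Ideal.span {algebraMap S R s}
    have hlt' : J < J' := by
      refine lt_of_le_of_ne le_sup_left fun h => hm ?_
      obtain ⟨r, rfl⟩ := Ideal.Quotient.mk_surjective m
      rw [Algebra.smul_def, IsScalarTower.algebraMap_apply S R (R ⧸ J), Ideal.Quotient.algebraMap_eq, ← map_mul]
      refine Ideal.Quotient.eq_zero_iff_mem.mpr (J.mul_mem_right r ?_)
      rw [h]; exact Ideal.mem_sup_right (Ideal.mem_span_singleton_self _)
    haveI : IsNoetherian S (R ⧸ J') := hind J' hlt' (I ⊔ Ideal.span {s}) (by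
      rw [Ideal.map_sup, hI, Ideal.map_span, Set.image_singleton])
    let π : M →ₗ[S] R ⧸ J' := (Ideal.Quotient.factorₐ S (le_sup_left : J ≤ J')).toLinearMap
    refine Submodule.fg_of_fg_map_of_fg_inf_ker π (IsNoetherian.noetherian _) ?_
    haveI : Module.Finite S M := inferInstance
    have hker : N' ⊓ LinearMap.ker π = LinearMap.range (LinearMap.lsmul S M s) := by
      refine le_antisymm (fun z hz => ?_) ?_
      · obtain ⟨r, rfl⟩ := Ideal.Quotient.mk_surjective z
        obtain ⟨j, hj, w, hw, hjw⟩ := Submodule.mem_sup.mp (Ideal.Quotient.eq_zero_iff_mem.mp (show Ideal.Quotient.mk J' r = 0 from hz.2))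
        obtain ⟨c, rfl⟩ := Ideal.mem_span_singleton'.mp hw
        refine ⟨Ideal.Quotient.mk J c, ?_⟩
        rw [LinearMap.lsmul_apply, Algebra.smul_def, IsScalarTower.algebraMap_apply S R (R ⧸ J),
          Ideal.Quotient.algebraMap_eq, ← map_mul, ← hjw, map_add, Ideal.Quotient.eq_zero_iff_mem.mpr hj, zero_add,
          mul_comm]
      · rintro _ ⟨z, rfl⟩
        refine ⟨hs z, ?_⟩
        obtain ⟨r, rfl⟩ := Ideal.Quotient.mk_surjective z
        show π (s • Ideal.Quotient.mk J r) = 0
        rw [map_smul, Algebra.smul_def, IsScalarTower.algebraMap_apply S R (R ⧸ J'), Ideal.Quotient.algebraMap_eq]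
        show Ideal.Quotient.mk J' (algebraMap S R s) * Ideal.Quotient.mk J' r = 0
        rw [Ideal.Quotient.eq_zero_iff_mem.mpr (Ideal.mem_sup_right (Ideal.mem_span_singleton_self _)), zero_mul]
    rw [hker, LinearMap.range_eq_map]
    exact Module.Finite.fg_top.map _
  haveI : IsNoetherian S (M ⧸ N) := by
    refine ⟨fun P => ?_⟩
    rw [← Submodule.map_comap_eq_of_surjective N.mkQ_surjective P]
    rcases (Submodule.le_comap_mkQ N P).lt_or_eq with h | h
    · exact (hbig _ h).map _
    · rw [← h, Submodule.mkQ_map_self]; exact Submodule.fg_bot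
  let φ : S →ₗ[S] (Fin n → M ⧸ N) := LinearMap.toSpanSingleton S _ fun i => N.mkQ (g i)
  haveI : IsNoetherian S (S ⧸ LinearMap.ker φ) := isNoetherian_of_linearEquiv φ.quotKerEquivRange.symm
  let ψ : (Fin n → S) →ₗ[S] M := Fintype.linearCombination S g
  have hψ : Function.Surjective ψ := by
    rw [← LinearMap.range_eq_top, Fintype.range_linearCombination, hg]
  have hkill : ∀ s ∈ LinearMap.ker φ, ∀ m : M, s • m = 0 := fun s hs => hN.1 s fun m => by
    have : (⊤ : Submodule S M) ≤ N.comap (LinearMap.lsmul S M s) := by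
      rw [← hg, Submodule.span_le]
      rintro _ ⟨i, rfl⟩
      have h0 := congrFun (LinearMap.mem_ker.mp hs) i
      simp [φ] at h0
      exact (Submodule.Quotient.mk_eq_zero N).mp (by simpa using h0)
    exact this trivial
  let χ : (Fin n → S ⧸ LinearMap.ker φ) →ₗ[S] M :=
    ∑ i, ((LinearMap.ker φ).liftQ (LinearMap.toSpanSingleton S M (g i)) fun s hs => by
      simp [hkill s hs]).comp (LinearMap.proj i)
  refine isNoetherian_of_surjective χ (LinearMap.range_eq_top.mpr fun m => ?_)
  obtain ⟨v, rfl⟩ := hψ m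
  exact ⟨fun i => Submodule.Quotient.mk (v i), by
    simp only [χ, ψ, Fintype.linearCombination_apply, LinearMap.sum_apply, LinearMap.comp_apply, LinearMap.proj_apply]
    exact Finset.sum_congr rfl fun i _ => Submodule.liftQ_apply _ _ _⟩

/-- Eakin–Nagata: a subring over which a Noetherian ring is finite is Noetherian. -/
theorem eakin_nagata (S R : Type u) [CommRing S] [CommRing R] [Algebra S R]
    [FaithfulSMul S R] [IsNoetherianRing R] [Module.Finite S R] : IsNoetherianRing S := by
  have h : ∀ J : Ideal R, ∀ I : Ideal S, I.map (algebraMap S R) = J → IsNoetherian S (R ⧸ J) := by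
    intro J
    induction J using IsWellFounded.induction (α := Ideal R) (· > ·) with
    | _ J ih => exact fun I hI => eakin_step S R J ih I hI
  haveI := h ⊥ ⊥ Ideal.map_bot
  haveI : IsNoetherian S R := isNoetherian_of_linearEquiv ((AlgEquiv.quotientBot R R).restrictScalars S).toLinearEquiv
  exact isNoetherian_of_injective (Algebra.linearMap S R) (FaithfulSMul.algebraMap_injective S R)

/-- Normal domains are normal rings. -/
theorem normal_of_domain (R : Type u) [CommRing R] [IsDomain R] [IsIntegrallyClosed R] : EGA4.IsNormalRing R := fun p _ =>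
  ⟨IsLocalization.isDomain_localization p.primeCompl_le_nonZeroDivisors,
    isIntegrallyClosed_of_isLocalization (R := R) (S := Localization.AtPrime p) p.primeCompl p.primeCompl_le_nonZeroDivisors⟩

end Groth.Agent.H05EGA4
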