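import Groth.Agent.H23Wild.MonicSystem
import Groth.Agent.H05EGA4.Regular
import Groth.Agent.H05EGA4.IntegralDim
import Mathlib.RingTheory.RegularLocalRing.Defs
import Mathlib.Algebra.Module.SpanRankOperations
import Mathlib.RingTheory.Ideal.KrullsHeightTheorem
import Mathlib.Algebra.TrivSqZeroExt.Basic
import Mathlib

/-! Quotients of polynomial rings by Eisenstein-type polynomials in separate variables. -/

set_option autoImplicit false
set_option linter.style.haveILetI false
set_option maxHeartbeats 400000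

universe u
open IsLocalRing

namespace Groth.Agent.H05EGA4.EisQuot

variable {A : Type u} [CommRing A] {r : ℕ}

/-- The polynomials. -/
noncomputable abbrev poly (d : Fin r → ℕ) (c : Fin r → ℕ → A) (i : Fin r) : MvPolynomial (Fin r) A :=
  MvPolynomial.X i ^ d i + (Finset.range (d i)).sum fun k => MvPolynomial.C (c i k) * MvPolynomial.X i ^ k

/-- The quotient. -/
abbrev Q (d : Fin r → ℕ) (c : Fin r → ℕ → A) : Type u :=
  MvPolynomial (Fin r) A ⧸ Ideal.span (Set.range (poly d c))

/-- The generators. -/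
noncomputable abbrev gen (d : Fin r → ℕ) (c : Fin r → ℕ → A) (i : Fin r) : Q d c :=
  Ideal.Quotient.mk _ (MvPolynomial.X i)

theorem gen_relation (d : Fin r → ℕ) (c : Fin r → ℕ → A) (i : Fin r) :
    gen d c i ^ d i + ∑ k ∈ Finset.range (d i), algebraMap A (Q d c) (c i k) * gen d c i ^ k = 0 := by
  have h : Ideal.Quotient.mk _ (poly d c i) = (0 : Q d c) :=
    Ideal.Quotient.eq_zero_iff_mem.2 (Ideal.subset_span ⟨i, rfl⟩)
  simp only [poly, map_add, map_pow, map_sum, map_mul] at h
  exact h

theorem exists_hom (d : Fin r → ℕ) (c : Fin r → ℕ → A) {S : Type*} [CommRing S] (φ : A →+* S) (v : Fin r → S)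
    (hv : ∀ i, v i ^ d i + ∑ k ∈ Finset.range (d i), φ (c i k) * v i ^ k = 0) :
    ∃ ψ : Q d c →+* S, (∀ a, ψ (algebraMap A (Q d c) a) = φ a) ∧ ∀ i, ψ (gen d c i) = v i := by
  refine ⟨Ideal.Quotient.lift _ (MvPolynomial.eval₂Hom φ v) fun x hx => ?_, fun a => ?_, fun i => ?_⟩
  · have hle : Ideal.span (Set.range (poly d c)) ≤ RingHom.ker (MvPolynomial.eval₂Hom φ v) := Ideal.span_le.2 (by
      rintro _ ⟨i, rfl⟩
      simp only [SetLike.mem_coe, RingHom.mem_ker, poly, map_add, map_pow, map_sum, map_mul,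
        MvPolynomial.coe_eval₂Hom, MvPolynomial.eval₂_C, MvPolynomial.eval₂_X, hv])
    exact hle hx
  · exact MvPolynomial.eval₂_C φ v a
  · exact MvPolynomial.eval₂_X φ v i

theorem free_finite [Nontrivial A] (d : Fin r → ℕ) (hd : ∀ i, 2 ≤ d i) (c : Fin r → ℕ → A) :
    Module.Free A (Q d c) ∧ Module.Finite A (Q d c) ∧ Function.Injective (algebraMap A (Q d c)) := by
  let f : Fin r → Polynomial A := fun i =>
    Polynomial.X ^ d i + ∑ k ∈ Finset.range (d i), Polynomial.C (c i k) * Polynomial.X ^ k
  have hdeg : ∀ i, (∑ k ∈ Finset.range (d i), Polynomial.C (c i k) * Polynomial.X ^ k).degree < (d i : WithBot ℕ) := by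
    intro i
    refine (Polynomial.degree_sum_le _ _).trans_lt ((Finset.sup_lt_iff (WithBot.bot_lt_coe _)).2 fun k hk => ?_)
    exact (Polynomial.degree_C_mul_X_pow_le k _).trans_lt (WithBot.coe_lt_coe.2 (Finset.mem_range.1 hk))
  have hmon : ∀ i, (f i).Monic := fun i => Polynomial.monic_X_pow_add (hdeg i)
  have hnd : ∀ i, (f i).natDegree = d i := fun i => by
    refine Polynomial.natDegree_eq_of_degree_eq_some ?_
    rw [show f i = _ from rfl, Polynomial.degree_add_eq_left_of_degree_lt (by rw [Polynomial.degree_X_pow]; exact hdeg i),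
      Polynomial.degree_X_pow]
  have hI : Ideal.span (Set.range (poly d c)) = H23Wild.sysI f := by
    show _ = Ideal.span _
    congr 2
    funext i
    simp [f, poly]
  obtain ⟨h1, h2, h3⟩ := H23Wild.free_finite_finrank f hmon fun i => by rw [hnd]; exact le_of_lt (hd i)
  let e : Q d c ≃ₐ[A] H23Wild.Sys f := Ideal.quotientEquivAlgOfEq A hI
  haveI hF : Module.Free A (Q d c) := Module.Free.of_equiv e.toLinearEquiv.symm
  haveI : Nontrivial (Q d c) := by
    refine Module.nontrivial_of_finrank_pos (R := A) ?_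
    rw [e.toLinearEquiv.finrank_eq, h3]
    exact Finset.prod_pos fun i _ => by rw [hnd]; have := hd i; omega
  exact ⟨hF, Module.Finite.equiv e.toLinearEquiv.symm, FaithfulSMul.algebraMap_injective A (Q d c)⟩

variable [IsLocalRing A] (d : Fin r → ℕ) (hd : ∀ i, 2 ≤ d i) (c : Fin r → ℕ → A)
  (hc : ∀ i k, c i k ∈ maximalIdeal A)

include hd hc in
theorem local_spec : ∃ _ : IsLocalRing (Q d c),
    maximalIdeal (Q d c) = (maximalIdeal A).map (algebraMap A (Q d c)) ⊔ Ideal.span (Set.range (gen d c)) ∧
      ∀ x : Q d c, ∃ a : A, x - algebraMap A (Q d c) a ∈ Ideal.span (Set.range (gen d c)) := by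
  let B := Q d c
  obtain ⟨-, hfin, -⟩ := free_finite d hd c
  obtain ⟨ε, hεC, hεX⟩ := exists_hom d c (residue A) 0 fun i => by
    simp [show d i ≠ 0 by have := hd i; omega, fun k => (residue_eq_zero_iff _).2 (hc i k)]
  let N : Ideal B := (maximalIdeal A).map (algebraMap A B) ⊔ Ideal.span (Set.range (gen d c))
  have hdec : ∀ x : B, ∃ a : A, x - algebraMap A B a ∈ Ideal.span (Set.range (gen d c)) := by
    intro x
    obtain ⟨P, rfl⟩ := Ideal.Quotient.mk_surjective x
    induction P using MvPolynomial.induction_on with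
    | C a => exact ⟨a, by show algebraMap A B a - algebraMap A B a ∈ _; rw [sub_self]; exact zero_mem _⟩
    | add p q hp hq =>
      obtain ⟨a, ha⟩ := hp
      obtain ⟨b, hb⟩ := hq
      exact ⟨a + b, by rw [map_add, map_add, add_sub_add_comm]; exact add_mem ha hb⟩
    | mul_X p i _ =>
      refine ⟨0, ?_⟩
      rw [map_zero, sub_zero, map_mul]
      exact Ideal.mul_mem_left _ _ (Ideal.subset_span ⟨i, rfl⟩)
  have hεs : Function.Surjective ε := fun y => by
    obtain ⟨a, rfl⟩ := residue_surjective y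
    exact ⟨algebraMap A B a, hεC a⟩
  have hker : RingHom.ker ε = N := by
    have hle : N ≤ RingHom.ker ε := sup_le (Ideal.map_le_iff_le_comap.2 fun a ha => by
      show ε (algebraMap A B a) = 0
      rw [hεC]; exact (residue_eq_zero_iff a).2 ha) (Ideal.span_le.2 (by rintro _ ⟨i, rfl⟩; exact hεX i))
    refine le_antisymm (fun x hx => ?_) hle
    obtain ⟨a, ha⟩ := hdec x
    have h1 : ε (x - algebraMap A B a) = 0 := hle (Ideal.mem_sup_right ha)
    rw [map_sub, RingHom.mem_ker.1 hx, hεC, zero_sub, neg_eq_zero, residue_eq_zero_iff] at h1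
    have := add_mem (Ideal.mem_sup_right ha : x - algebraMap A B a ∈ N) (Ideal.mem_sup_left (Ideal.mem_map_of_mem _ h1))
    simpa using this
  have hNmax : N.IsMaximal := hker ▸ RingHom.ker_isMaximal_of_surjective ε hεs
  have huniq : ∀ M : Ideal B, M.IsMaximal → M = N := by
    intro M hM
    haveI := hfin
    haveI : (M.comap (algebraMap A B)).IsMaximal := Ideal.isMaximal_comap_of_isIntegral_of_isMaximal M
    have hmM : (maximalIdeal A).map (algebraMap A B) ≤ M :=
      Ideal.map_le_iff_le_comap.2 (IsLocalRing.eq_maximalIdeal inferInstance).ge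
    refine (hNmax.eq_of_le hM.ne_top (sup_le hmM (Ideal.span_le.2 ?_))).symm
    rintro _ ⟨i, rfl⟩
    refine hM.isPrime.mem_of_pow_mem (d i) ?_
    rw [eq_neg_of_add_eq_zero_left (gen_relation d c i)]
    exact neg_mem (Ideal.sum_mem _ fun k _ => Ideal.mul_mem_right _ _ (hmM (Ideal.mem_map_of_mem _ (hc i k))))
  haveI hloc : IsLocalRing B := IsLocalRing.of_unique_max_ideal ⟨N, hNmax, huniq⟩
  exact ⟨hloc, (IsLocalRing.eq_maximalIdeal hNmax).symm, hdec⟩

include hd hc in
theorem residue_surjective_comp [IsLocalRing (Q d c)] :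
    Function.Surjective ((Ideal.Quotient.mk (maximalIdeal (Q d c))).comp (algebraMap A (Q d c))) := by
  obtain ⟨_, hm, hdec⟩ := local_spec d hd c hc
  intro y
  obtain ⟨x, rfl⟩ := Ideal.Quotient.mk_surjective y
  obtain ⟨a, ha⟩ := hdec x
  refine ⟨a, (Ideal.Quotient.eq.2 ?_).symm⟩
  rw [hm]
  exact Ideal.mem_sup_right ha

include hd hc in
theorem const_mem_sq [IsLocalRing (Q d c)] (i : Fin r) :
    algebraMap A (Q d c) (c i 0) ∈ maximalIdeal (Q d c) ^ 2 := by
  obtain ⟨_, hm, -⟩ := local_spec d hd c hc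
  have hT : gen d c i ∈ maximalIdeal (Q d c) := hm ▸ Ideal.mem_sup_right (Ideal.subset_span ⟨i, rfl⟩)
  have hcm : ∀ k, algebraMap A (Q d c) (c i k) ∈ maximalIdeal (Q d c) := fun k =>
    hm ▸ Ideal.mem_sup_left (Ideal.mem_map_of_mem _ (hc i k))
  have h := gen_relation d c i
  obtain ⟨e, he⟩ : ∃ e, d i = e + 1 := ⟨d i - 1, by have := hd i; omega⟩
  rw [he, Finset.sum_range_succ', pow_zero, mul_one, ← add_assoc] at h
  rw [eq_neg_of_add_eq_zero_right h]
  refine neg_mem (add_mem (Ideal.pow_le_pow_right (by have := hd i; omega) (Ideal.pow_mem_pow hT _)) ?_)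
  refine Ideal.sum_mem _ fun k _ => ?_
  rw [pow_two]
  exact Ideal.mul_mem_mul (hcm _) (Ideal.pow_mem_of_mem _ hT _ (Nat.succ_pos k))

include hd hc in
theorem kernel_cotangent [IsLocalRing (Q d c)] :
    maximalIdeal A ⊓ Ideal.comap (algebraMap A (Q d c)) (maximalIdeal (Q d c) ^ 2) =
      Ideal.span (Set.range fun i => c i 0) ⊔ maximalIdeal A ^ 2 := by
  obtain ⟨_, hm, -⟩ := local_spec d hd c hc
  let J := Ideal.span (Set.range fun i => c i 0) ⊔ maximalIdeal A ^ 2
  refine le_antisymm (fun a ha => ?_) ?_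
  · obtain ⟨ψ, hψC, hψX⟩ := exists_hom d c (Ideal.Quotient.mk J) 0 fun i => by
      have h0 : Ideal.Quotient.mk J (c i 0) = 0 :=
        Ideal.Quotient.eq_zero_iff_mem.2 (Ideal.mem_sup_left (Ideal.subset_span ⟨i, rfl⟩))
      obtain ⟨e, he⟩ : ∃ e, d i = e + 1 := ⟨d i - 1, by have := hd i; omega⟩
      rw [he, Finset.sum_range_succ']
      simp [h0]
    have h1 : (maximalIdeal (Q d c)).map ψ ≤ (maximalIdeal A).map (Ideal.Quotient.mk J) := by
      rw [hm, Ideal.map_sup, Ideal.map_map]
      refine sup_le (le_of_eq (congrArg (fun g => Ideal.map g (maximalIdeal A)) (RingHom.ext hψC))) ?_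
      rw [Ideal.map_span, Ideal.span_le]
      rintro _ ⟨_, ⟨i, rfl⟩, rfl⟩
      rw [hψX]
      exact zero_mem _
    have h2 := Ideal.mem_map_of_mem ψ (show algebraMap A (Q d c) a ∈ maximalIdeal (Q d c) ^ 2 from ha.2)
    rw [hψC, Ideal.map_pow] at h2
    have h3 := Ideal.pow_right_mono h1 2 h2
    rw [← Ideal.map_pow] at h3
    have h4 : Ideal.Quotient.mk J a ∈ (⊥ : Ideal (A ⧸ J)) :=
      ((Ideal.map_mono (le_sup_right : maximalIdeal A ^ 2 ≤ J)).trans (Ideal.map_quotient_self J).le) h3
    exact Ideal.Quotient.eq_zero_iff_mem.1 h4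
  · refine sup_le (Ideal.span_le.2 ?_) (le_inf (Ideal.pow_le_self two_ne_zero) ?_)
    · rintro _ ⟨i, rfl⟩
      exact ⟨hc i 0, const_mem_sq d hd c hc i⟩
    · refine Ideal.map_le_iff_le_comap.1 ?_
      rw [Ideal.map_pow]
      exact Ideal.pow_right_mono (hm ▸ le_sup_left) 2

include hd hc in
theorem isRegularLocalRing_iff [IsRegularLocalRing A] [IsLocalRing (Q d c)] :
    IsRegularLocalRing (Q d c) ↔
      LinearIndependent (ResidueField A) (fun i => (maximalIdeal A).toCotangent ⟨c i 0, hc i 0⟩) := by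
  classical
  let K := ResidueField A
  let B := Q d c
  obtain ⟨-, hfin, hinj⟩ := free_finite d hd c
  haveI := hfin
  haveI : IsNoetherianRing B := IsNoetherianRing.of_finite A B
  obtain ⟨_, hm, hdec⟩ := local_spec d hd c hc
  have hdim : ringKrullDim B = ringKrullDim A := (dim_int A B).2 hinj
  have hA := (IsRegularLocalRing.iff_finrank_cotangentSpace A).1 (inferInstance : IsRegularLocalRing A)
  let v : Fin r → CotangentSpace A := fun i => (maximalIdeal A).toCotangent ⟨c i 0, hc i 0⟩
  let S : Submodule K (CotangentSpace A) := Submodule.span K (Set.range v)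
  constructor
  · intro hB
    have hBr := (IsRegularLocalRing.iff_finrank_cotangentSpace B).1 hB
    have hD : Module.finrank (ResidueField B) (CotangentSpace B) = Module.finrank K (CotangentSpace A) := by
      rw [hdim, ← hA] at hBr
      exact_mod_cast hBr
    let bas := Module.finBasis (ResidueField B) (CotangentSpace B)
    choose z hz using fun i => (maximalIdeal B).toCotangent_surjective (bas i)
    have hspan : Ideal.span (Set.range fun i => (z i : B)) = maximalIdeal B := by
      have h1 : Submodule.span (ResidueField B) ((maximalIdeal B).toCotangent '' Set.range z) = ⊤ := by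
        rw [← Set.range_comp, show (maximalIdeal B).toCotangent ∘ z = bas from funext hz, bas.span_eq]
      have h3 := congrArg (Submodule.map (maximalIdeal B).subtype) ((CotangentSpace.span_image_eq_top_iff (R := B)).mp h1)
      rw [Submodule.map_top, Submodule.range_subtype, Submodule.map_span, ← Set.range_comp] at h3
      exact h3
    -- first coordinate
    let J := Ideal.span (Set.range fun i => c i 0)
    obtain ⟨ψ1, h1C, h1X⟩ := exists_hom d c (Ideal.Quotient.mk J) 0 fun i => by
      have h0 : Ideal.Quotient.mk J (c i 0) = 0 := Ideal.Quotient.eq_zero_iff_mem.2 (Ideal.subset_span ⟨i, rfl⟩)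
      obtain ⟨e, he⟩ : ∃ e, d i = e + 1 := ⟨d i - 1, by have := hd i; omega⟩
      rw [he, Finset.sum_range_succ']
      simp [h0]
    -- second coordinate
    obtain ⟨ψ2, h2C, h2X⟩ := exists_hom d c ((algebraMap K (TrivSqZeroExt K (Fin r → K))).comp (residue A))
      (fun i => TrivSqZeroExt.inr (Pi.single i 1)) fun i => by
        obtain ⟨e, he⟩ : ∃ e, d i = e + 2 := ⟨d i - 2, by have := hd i; omega⟩
        have hsq : (TrivSqZeroExt.inr (Pi.single i 1) : TrivSqZeroExt K (Fin r → K)) ^ d i = 0 := by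
          rw [he, pow_add, pow_two, TrivSqZeroExt.inr_mul_inr, mul_zero]
        rw [hsq, zero_add]
        exact Finset.sum_eq_zero fun k _ => by
          rw [RingHom.comp_apply, (residue_eq_zero_iff _).2 (hc i k), map_zero, zero_mul]
    have hJm : J ≤ maximalIdeal A := Ideal.span_le.2 (by rintro _ ⟨i, rfl⟩; exact hc i 0)
    have hJS : ∀ a (ha : a ∈ maximalIdeal A), a ∈ J → (maximalIdeal A).toCotangent ⟨a, ha⟩ ∈ S := by
      intro a ha haJ
      obtain ⟨g, hg⟩ := Ideal.mem_span_range_iff_exists_fun.1 haJ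
      rw [show (⟨a, ha⟩ : maximalIdeal A) = ∑ i, g i • ⟨c i 0, hc i 0⟩ from Subtype.ext (by simp [← hg]),
        map_sum]
      refine Submodule.sum_mem _ fun i _ => ?_
      rw [map_smul, ← algebraMap_smul K (g i)]
      exact Submodule.smul_mem _ _ (Submodule.subset_span ⟨i, rfl⟩)
    have hε : ∀ x : B, ∀ a : A, Ideal.Quotient.mk J a = ψ1 x → residue A a = (ψ2 x).fst := by
      intro x a hax
      obtain ⟨b, hb⟩ := hdec x
      have hk1 : Ideal.span (Set.range (gen d c)) ≤ RingHom.ker ψ1 :=
        Ideal.span_le.2 (by rintro _ ⟨i, rfl⟩; exact h1X i)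
      have hk2 : Ideal.span (Set.range (gen d c)) ≤
          RingHom.ker ((TrivSqZeroExt.fstHom K K (Fin r → K)).toRingHom.comp ψ2) :=
        Ideal.span_le.2 (by
          rintro _ ⟨i, rfl⟩
          show (ψ2 (gen d c i)).fst = 0
          rw [h2X]; rfl)
      have e1 : ψ1 (x - algebraMap A B b) = 0 := hk1 hb
      have e2 : (ψ2 (x - algebraMap A B b)).fst = 0 := hk2 hb
      rw [map_sub, h1C, sub_eq_zero] at e1
      rw [map_sub, h2C, TrivSqZeroExt.fst_sub, sub_eq_zero] at e2
      rw [e2]
      show residue A a = residue A b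
      rw [← sub_eq_zero, ← map_sub, residue_eq_zero_iff]
      exact hJm (Ideal.Quotient.eq.1 (hax.trans e1))
    have hlift : ∀ x : maximalIdeal B, ∃ a : maximalIdeal A, Ideal.Quotient.mk J (a : A) = ψ1 x := by
      intro x
      have hle : (maximalIdeal B).map ψ1 ≤ (maximalIdeal A).map (Ideal.Quotient.mk J) := by
        rw [hm, Ideal.map_sup, Ideal.map_map]
        refine sup_le (le_of_eq (congrArg (fun g => Ideal.map g (maximalIdeal A)) (RingHom.ext h1C))) ?_
        rw [Ideal.map_span, Ideal.span_le]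
        rintro _ ⟨_, ⟨i, rfl⟩, rfl⟩
        rw [h1X]
        exact zero_mem _
      obtain ⟨a, ha, hax⟩ := (Ideal.mem_map_iff_of_surjective _ Ideal.Quotient.mk_surjective).1
        (hle (Ideal.mem_map_of_mem ψ1 x.2))
      exact ⟨⟨a, ha⟩, hax⟩
    choose L hL using hlift
    let W := (CotangentSpace A ⧸ S) × (Fin r → K)
    let δ : maximalIdeal B → W := fun x => (S.mkQ ((maximalIdeal A).toCotangent (L x)), (ψ2 (x : B)).snd)
    have hwd : ∀ (x : maximalIdeal B) (a : maximalIdeal A), Ideal.Quotient.mk J (a : A) = ψ1 x →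
        δ x = (S.mkQ ((maximalIdeal A).toCotangent a), (ψ2 (x : B)).snd) := by
      intro x a ha
      refine Prod.ext ?_ rfl
      show S.mkQ _ = S.mkQ _
      rw [Submodule.mkQ_apply, Submodule.mkQ_apply, Submodule.Quotient.eq, ← map_sub]
      exact hJS _ _ (Ideal.Quotient.eq.1 ((hL x).trans ha.symm))
    have hfst : ∀ x : maximalIdeal B, (ψ2 (x : B)).fst = 0 := fun x => by
      rw [← hε x (L x) (hL x)]; exact (residue_eq_zero_iff _).2 (L x).2
    have hadd : ∀ x y : maximalIdeal B, δ (x + y) = δ x + δ y := fun x y => by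
      rw [hwd (x + y) (L x + L y) (by rw [Submodule.coe_add, map_add, hL, hL, ← map_add]; rfl)]
      refine Prod.ext ?_ ?_
      · show S.mkQ _ = S.mkQ _ + S.mkQ _
        rw [map_add, map_add]
      · show (ψ2 ((x : B) + y)).snd = _ + _
        rw [map_add, TrivSqZeroExt.snd_add]
    have hsmul : ∀ (b : B) (x : maximalIdeal B), δ (b • x) = (ψ2 b).fst • δ x := fun b x => by
      obtain ⟨b0, hb0⟩ := Ideal.Quotient.mk_surjective (ψ1 b)
      rw [hwd (b • x) (b0 • L x) (by rw [Submodule.coe_smul, smul_eq_mul, map_mul, hb0, hL, ← map_mul]; rfl)]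
      refine Prod.ext ?_ ?_
      · show S.mkQ _ = (ψ2 b).fst • S.mkQ _
        rw [map_smul, ← algebraMap_smul K b0, map_smul, ← hε b b0 hb0]
        rfl
      · show (ψ2 (b * (x : B))).snd = _
        rw [map_mul, TrivSqZeroExt.snd_mul, hfst x, MulOpposite.op_zero, zero_smul, add_zero]
        rfl
    let U : Submodule K W := Submodule.span K (Set.range fun i => δ (z i))
    have hU : ∀ x : maximalIdeal B, δ x ∈ U := by
      intro x
      obtain ⟨g, hg⟩ := Ideal.mem_span_range_iff_exists_fun.1 (hspan.ge x.2)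
      have hx : x = ∑ i, g i • z i := Subtype.ext (by simp [← hg])
      rw [hx, show δ (∑ i, g i • z i) = ∑ i, δ (g i • z i) from
        map_sum (AddMonoidHom.mk' δ hadd) _ _]
      exact Submodule.sum_mem _ fun i _ => by
        rw [hsmul]; exact Submodule.smul_mem _ _ (Submodule.subset_span ⟨i, rfl⟩)
    have htop : U = ⊤ := by
      refine eq_top_iff.2 ?_
      rintro ⟨q, w⟩ -
      have hq : ∀ q, ((q, 0) : W) ∈ U := fun q => by
        obtain ⟨q, rfl⟩ := Submodule.Quotient.mk_surjective S q
        obtain ⟨a, rfl⟩ := (maximalIdeal A).toCotangent_surjective q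
        have hmem : algebraMap A B a ∈ maximalIdeal B := hm ▸ Ideal.mem_sup_left (Ideal.mem_map_of_mem _ a.2)
        have := hU ⟨_, hmem⟩
        rwa [hwd ⟨_, hmem⟩ a (h1C a).symm, h2C, RingHom.comp_apply, (residue_eq_zero_iff (a : A)).2 a.2, map_zero,
          TrivSqZeroExt.snd_zero] at this
      have hw : ∀ i, ((0, Pi.single i 1) : W) ∈ U := fun i => by
        have hmem : gen d c i ∈ maximalIdeal B := hm ▸ Ideal.mem_sup_right (Ideal.subset_span ⟨i, rfl⟩)
        have := hU ⟨_, hmem⟩
        rwa [hwd ⟨_, hmem⟩ 0 (by rw [ZeroMemClass.coe_zero, map_zero]; exact (h1X i).symm), map_zero, map_zero, h2X,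
          TrivSqZeroExt.snd_inr] at this
      have hsum : ((q, w) : W) = (q, 0) + ∑ i, w i • ((0, Pi.single i 1) : W) := by
        refine Prod.ext ?_ ?_
        · simp [Prod.fst_sum]
        · rw [Prod.snd_add, Prod.snd_sum, zero_add]
          simp only [Prod.smul_snd]
          exact pi_eq_sum_univ' w
      rw [hsum]
      exact add_mem (hq q) (Submodule.sum_mem _ fun i _ => Submodule.smul_mem _ _ (hw i))
    have hrk := finrank_range_le_card (R := K) (fun i => δ (z i))
    change Module.finrank K U ≤ _ at hrk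
    rw [htop, finrank_top, Module.finrank_prod, Module.finrank_pi, Fintype.card_fin, Fintype.card_fin, hD] at hrk
    have hq := S.finrank_quotient_add_finrank
    refine linearIndependent_iff_card_le_finrank_span.2 ?_
    show Fintype.card (Fin r) ≤ Module.finrank K S
    rw [Fintype.card_fin]
    omega
  · intro hli
    obtain ⟨T, hT⟩ := Submodule.exists_isCompl S
    let bT := Module.finBasis K T
    choose y hy using fun i => (maximalIdeal A).toCotangent_surjective ((bT i : T) : CotangentSpace A)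
    have hcount : r + Module.finrank K T = Module.finrank K (CotangentSpace A) := by
      rw [← Submodule.finrank_add_eq_of_isCompl hT, finrank_span_eq_card hli, Fintype.card_fin]
    let G : Set B := Set.range (gen d c) ∪ Set.range fun i => algebraMap A B (y i)
    have hgen : Ideal.span G = maximalIdeal B := by
      refine le_antisymm (Ideal.span_le.2 ?_) ?_
      · rintro _ (⟨i, rfl⟩ | ⟨i, rfl⟩)
        · exact hm ▸ Ideal.mem_sup_right (Ideal.subset_span ⟨i, rfl⟩)
        · exact hm ▸ Ideal.mem_sup_left (Ideal.mem_map_of_mem _ (y i).2)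
      refine Submodule.le_of_le_smul_of_le_jacobson_bot (IsNoetherian.noetherian _) (maximalIdeal_le_jacobson _) ?_
      rw [smul_eq_mul, ← pow_two]
      refine hm.le.trans (sup_le (Ideal.map_le_iff_le_comap.2 fun a ha => ?_)
        (Ideal.span_le.2 fun x hx => Ideal.mem_sup_left (Ideal.subset_span (Or.inl hx))))
      obtain ⟨p, hp, q, hq, hpq⟩ := Submodule.mem_sup.1
        ((hT.sup_eq_top.ge) (Submodule.mem_top (x := (maximalIdeal A).toCotangent ⟨a, ha⟩)))
      obtain ⟨g, hg⟩ := (Submodule.mem_span_range_iff_exists_fun _).1 hp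
      choose g' hg' using fun i => residue_surjective (g i)
      choose h' hh' using fun i => residue_surjective (bT.repr ⟨q, hq⟩ i)
      let w : maximalIdeal A := ∑ i, g' i • ⟨c i 0, hc i 0⟩ + ∑ i, h' i • y i
      have hw : (maximalIdeal A).toCotangent w = (maximalIdeal A).toCotangent ⟨a, ha⟩ := by
        rw [← hpq, ← hg, show q = ((∑ i, bT.repr ⟨q, hq⟩ i • bT i : T) : CotangentSpace A) by rw [bT.sum_repr]]
        simp only [w, map_add, map_sum, map_smul, Submodule.coe_sum, Submodule.coe_smul]
        refine congrArg₂ (· + ·) (Finset.sum_congr rfl fun i _ => ?_) (Finset.sum_congr rfl fun i _ => ?_)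
        · rw [← hg' i]; rfl
        · rw [hy i, ← hh' i]; rfl
      rw [Ideal.toCotangent_eq] at hw
      have hw' : algebraMap A B ((w : A) - a) ∈ maximalIdeal B ^ 2 := by
        refine Ideal.pow_right_mono (hm ▸ le_sup_left : (maximalIdeal A).map (algebraMap A B) ≤ _) 2 ?_
        rw [← Ideal.map_pow]
        exact Ideal.mem_map_of_mem _ hw
      show algebraMap A B a ∈ Ideal.span G ⊔ maximalIdeal B ^ 2
      rw [← sub_sub_cancel (algebraMap A B (w : A)) (algebraMap A B a), ← map_sub]
      refine sub_mem ?_ (Ideal.mem_sup_right hw')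
      simp only [w, Submodule.coe_add, Submodule.coe_sum, Submodule.coe_smul, smul_eq_mul, map_add, map_sum, map_mul]
      refine add_mem (Ideal.sum_mem _ fun i _ => Ideal.mul_mem_left _ _ ?_) (Ideal.sum_mem _ fun i _ => Ideal.mul_mem_left _ _ ?_)
      · exact Ideal.mem_sup_right (const_mem_sq d hd c hc i)
      · exact Ideal.mem_sup_left (Ideal.subset_span (Or.inr ⟨i, rfl⟩))
    refine IsRegularLocalRing.of_spanFinrank_maximalIdeal_le (R := B) ?_
    rw [hdim, ← hA, ← hgen]
    have hcard : G.ncard ≤ r + Module.finrank K T := by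
      refine (Set.ncard_union_le _ _).trans (add_le_add ?_ ?_)
      · exact (by rw [← Set.image_univ]; exact (Set.ncard_image_le Set.finite_univ).trans (by simp [Set.ncard_univ]))
      · exact (by rw [← Set.image_univ]; exact (Set.ncard_image_le Set.finite_univ).trans (by simp [Set.ncard_univ]))
    rw [← hcount]
    exact_mod_cast (Submodule.spanFinrank_span_le_ncard_of_finite ((Set.finite_range _).union (Set.finite_range _))).trans hcard

end Groth.Agent.H05EGA4.EisQuot
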