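import Mathlib
import Groth.Prelude.Def_EGA4b
import Groth.Agent.H05EGA4.Equidim

/-!
Heights of primes in a hyperplane section of an equidimensional catenary local ring.
-/

set_option autoImplicit false
set_option linter.style.haveILetI false
universe u
open IsLocalRing Groth.Agent

namespace Groth.Agent.H05EGA4.EquidimHyperplane

theorem notMem_of_mem_minimalPrimes {A : Type u} [CommRing A] [IsNoetherianRing A] [IsLocalRing A]
    (hA : EGA4.IsEquidim A) {t : A} (ht : ringKrullDim (A ⧸ Ideal.span {t}) + 1 = ringKrullDim A)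
    {q : Ideal A} (hq : q ∈ (⊥ : Ideal A).minimalPrimes) : t ∉ q := by
  intro htq
  have h1 := ringKrullDim_quotient_mono (P := q) ((Ideal.span_singleton_le_iff_mem _).mpr htq)
  rw [hA q hq] at h1
  obtain ⟨d, hd⟩ := exists_dim_eq_nat A
  rw [hd] at h1 ht
  generalize ringKrullDim (A ⧸ Ideal.span {t}) = x at ht h1
  cases x with
  | bot => simp at h1
  | coe x =>
    cases x with
    | top =>
      have h2 : ((⊤ : ℕ∞) + 1) = (d : ℕ∞) := WithBot.coe_inj.mp (by push_cast; exact ht)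
      simp at h2
    | coe m => norm_cast at h1 ht; omega

theorem height_map_mk_succ_le {A : Type u} [CommRing A] {t : A} {P : Ideal A} [P.IsPrime] (htP : t ∈ P)
    (hmin : ∀ q ∈ (⊥ : Ideal A).minimalPrimes, t ∉ q) :
    (P.map (Ideal.Quotient.mk (Ideal.span {t}))).height + 1 ≤ P.height := by
  have hle : Ideal.span {t} ≤ P := (Ideal.span_singleton_le_iff_mem _).mpr htP
  have hQ : (P.map (Ideal.Quotient.mk (Ideal.span {t}))).IsPrime := Ideal.isPrime_map_quotientMk_of_isPrime hle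
  rw [show (P.map (Ideal.Quotient.mk (Ideal.span {t}))).height = Order.height
      (⟨_, hQ⟩ : PrimeSpectrum (A ⧸ Ideal.span {t})) from PrimeSpectrum.height_eq_orderHeight ⟨_, hQ⟩,
    show P.height = Order.height (⟨P, ‹_›⟩ : PrimeSpectrum A) from PrimeSpectrum.height_eq_orderHeight ⟨P, ‹_›⟩]
  have hmono := RingHom.strictMono_comap_of_surjective (Ideal.Quotient.mk_surjective (I := Ideal.span {t}))
  have key : ∀ s : LTSeries (PrimeSpectrum (A ⧸ Ideal.span {t})), s.last = ⟨_, hQ⟩ →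
      (s.length : ℕ∞) + 1 ≤ Order.height (⟨P, ‹_›⟩ : PrimeSpectrum A) := by
    intro s hs
    let s' := s.map _ hmono
    have hmem : t ∈ (PrimeSpectrum.comap (Ideal.Quotient.mk (Ideal.span {t})) s.head).asIdeal := by
      show Ideal.Quotient.mk (Ideal.span {t}) t ∈ s.head.asIdeal
      rw [Ideal.Quotient.eq_zero_iff_mem.mpr (Ideal.mem_span_singleton_self t)]
      exact zero_mem _
    obtain ⟨q, hq, hqle⟩ := Ideal.exists_minimalPrimes_le
      (bot_le : (⊥ : Ideal A) ≤ (PrimeSpectrum.comap (Ideal.Quotient.mk (Ideal.span {t})) s.head).asIdeal)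
    have hlt : (⟨q, hq.isPrime⟩ : PrimeSpectrum A) < s'.head := by
      rw [LTSeries.head_map]
      exact lt_of_le_of_ne hqle fun h => hmin q hq ((congrArg (fun x : PrimeSpectrum A => t ∈ x.asIdeal) h).mpr hmem)
    have hlast : (s'.cons ⟨q, hq.isPrime⟩ hlt).last = ⟨P, ‹_›⟩ := by
      rw [RelSeries.last_cons, LTSeries.last_map, hs]
      refine PrimeSpectrum.ext ?_
      show Ideal.comap _ (Ideal.map _ P) = P
      rw [Ideal.comap_map_of_surjective' _ Ideal.Quotient.mk_surjective, Ideal.mk_ker, sup_eq_left.mpr hle]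
    have := Order.length_le_height (le_of_eq hlast)
    rw [RelSeries.cons_length, show s'.length = s.length from rfl, Nat.cast_add, Nat.cast_one] at this
    exact this
  rcases eq_or_ne (Order.height (⟨P, ‹_›⟩ : PrimeSpectrum A)) ⊤ with h | h
  · rw [h]; exact le_top
  obtain ⟨m, hm⟩ := ENat.ne_top_iff_exists.mp h
  rw [← hm] at key ⊢
  have h0 := key (RelSeries.singleton _ ⟨_, hQ⟩) rfl
  obtain ⟨m, rfl⟩ : ∃ m', m = m' + 1 := ⟨m - 1, by simp only [RelSeries.singleton_length] at h0; norm_cast at h0; omega⟩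
  rw [Nat.cast_add, Nat.cast_one]
  gcongr
  refine Order.height_le fun s hs => ?_
  have := key s hs
  norm_cast at this ⊢
  omega

theorem exists_succ_height {A : Type u} [CommRing A] [IsNoetherianRing A] [IsLocalRing A]
    (hA : EGA4.IsEquidim A) (hA' : CAlg.IsCatenary A) {t : A} (htm : t ∈ maximalIdeal A) (p : PrimeSpectrum A)
    (htp : t ∉ p.asIdeal) :
    ∃ P : PrimeSpectrum A, p ≤ P ∧ t ∈ P.asIdeal ∧ P.asIdeal.height = p.asIdeal.height + 1 := by
  have hle : p.asIdeal ⊔ Ideal.span {t} ≤ maximalIdeal A :=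
    sup_le (le_maximalIdeal p.2.ne_top) ((Ideal.span_singleton_le_iff_mem _).mpr htm)
  obtain ⟨P, hP, -⟩ := Ideal.exists_minimalPrimes_le hle
  have hpP : p.asIdeal ≤ P := le_sup_left.trans hP.1.2
  have htP : t ∈ P := hP.1.2 (le_sup_right (a := p.asIdeal) (Ideal.mem_span_singleton_self t))
  let P' : PrimeSpectrum A := ⟨P, hP.isPrime⟩
  have hlt : p < P' := lt_of_le_of_ne hpP fun h => htp (by rw [h]; exact htP)
  have hcov : p ⋖ P' := by
    refine ⟨hlt, fun r hpr hrP => ?_⟩
    -- `P/p` is minimal over the principal ideal `(t)`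
    let mk := Ideal.Quotient.mk p.asIdeal
    haveI := hP.isPrime
    haveI hQ : (P.map mk).IsPrime := Ideal.isPrime_map_quotientMk_of_isPrime hpP
    have hQmin : P.map mk ∈ (Ideal.span {mk t}).minimalPrimes := by
      refine ⟨⟨hQ, (Ideal.span_singleton_le_iff_mem _).mpr (Ideal.mem_map_of_mem _ htP)⟩, fun J hJ hJle => ?_⟩
      have : P ≤ J.comap mk := hP.2 ⟨hJ.1.comap mk, sup_le (fun x hx => ?_) ?_⟩ ?_
      · exact (Ideal.map_le_iff_le_comap.mpr this)
      · show mk x ∈ J
        rw [Ideal.Quotient.eq_zero_iff_mem.mpr hx]; exact zero_mem _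
      · rw [Ideal.span_singleton_le_iff_mem]
        exact hJ.2 (Ideal.mem_span_singleton_self _)
      · refine (Ideal.comap_mono hJle).trans (le_of_eq ?_)
        rw [Ideal.comap_map_of_surjective' _ Ideal.Quotient.mk_surjective, Ideal.mk_ker, sup_eq_left.mpr hpP]
    have h1 := Ideal.height_le_one_of_isPrincipal_of_mem_minimalPrimes _ _ hQmin
    haveI hR : (r.asIdeal.map mk).IsPrime := Ideal.isPrime_map_quotientMk_of_isPrime hpr.le
    have hlt1 : r.asIdeal.map mk < P.map mk := by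
      refine lt_of_le_of_ne (Ideal.map_mono hrP.le) fun he => hrP.ne (PrimeSpectrum.ext ?_)
      have := congrArg (Ideal.comap mk) he
      rwa [Ideal.comap_map_of_surjective' _ Ideal.Quotient.mk_surjective,
        Ideal.comap_map_of_surjective' _ Ideal.Quotient.mk_surjective, Ideal.mk_ker,
        sup_eq_left.mpr hpr.le, sup_eq_left.mpr hpP] at this
    have hlt0 : (⊥ : Ideal (A ⧸ p.asIdeal)) < r.asIdeal.map mk := by
      rw [bot_lt_iff_ne_bot, Ne, Ideal.map_eq_bot_iff_le_ker, Ideal.mk_ker]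
      exact hpr.not_ge
    haveI : (⊥ : Ideal (A ⧸ p.asIdeal)).IsPrime := Ideal.isPrime_bot
    have h2 := lt_of_le_of_lt bot_le (Ideal.height_strict_mono_of_isPrime hlt0)
    have h3 := lt_of_lt_of_le (Ideal.height_strict_mono_of_isPrime hlt1) h1
    rw [Order.lt_one_iff] at h3
    exact h2.ne' h3
  refine ⟨P', hlt.le, htP, ?_⟩
  haveI : P'.asIdeal.IsPrime := P'.2
  have h1 := height_add_dim_eq_of_isEquidim hA' hA p.asIdeal
  have h2 := height_add_dim_eq_of_isEquidim hA' hA P'.asIdeal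
  rw [((S9128.result A).mp hA' p P' hlt).2 hcov] at h1
  obtain ⟨d, hd⟩ := exists_dim_eq_nat A
  obtain ⟨a, ha⟩ := exists_nat_height_eq p.asIdeal
  obtain ⟨b, hb⟩ := exists_nat_height_eq P'.asIdeal
  obtain ⟨c, hc⟩ := exists_nat_dim_quotient_eq P'.asIdeal
  rw [ha, hc, hd] at h1
  rw [hb, hc, hd] at h2
  rw [ha, hb]
  norm_cast at h1 h2 ⊢
  omega

theorem iInf_height (A : Type u) [CommRing A] [IsNoetherianRing A] [IsLocalRing A]
    (hA : EGA4.IsEquidim A) (hA' : CAlg.IsCatenary A) (t : A)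
    (ht : ringKrullDim (A ⧸ Ideal.span {t}) + 1 = ringKrullDim A) (Z : Set (PrimeSpectrum A))
    (hZ : StableUnderSpecialization Z) :
    (⨅ p ∈ {p ∈ Z | t ∈ p.asIdeal}, (p.asIdeal.map (Ideal.Quotient.mk (Ideal.span {t}))).height) ≤
        ⨅ p ∈ Z, p.asIdeal.height ∧
      (⨅ p ∈ Z, p.asIdeal.height) ≤ ⨅ p ∈ {p ∈ Z | t ∉ p.asIdeal}, p.asIdeal.height := by
  have hmin := fun q hq => notMem_of_mem_minimalPrimes hA ht (q := q) hq
  refine ⟨le_iInf₂ fun p hp => ?_, le_iInf₂ fun p hp => iInf₂_le p hp.1⟩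
  by_cases htp : t ∈ p.asIdeal
  · exact (iInf₂_le (f := fun p (_ : p ∈ {p ∈ Z | t ∈ p.asIdeal}) =>
      (p.asIdeal.map (Ideal.Quotient.mk (Ideal.span {t}))).height) p ⟨hp, htp⟩).trans
      (le_self_add.trans (height_map_mk_succ_le htp hmin))
  · have htm : t ∈ maximalIdeal A := by
      rw [mem_maximalIdeal, mem_nonunits_iff]
      intro hu
      rw [Ideal.span_singleton_eq_top.mpr hu, ringKrullDim_eq_bot_of_subsingleton, WithBot.bot_add] at ht
      exact ringKrullDim_ne_bot ht.symm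
    obtain ⟨P, hle, htP, hh⟩ := exists_succ_height hA hA' htm p htp
    refine (iInf₂_le (f := fun p (_ : p ∈ {p ∈ Z | t ∈ p.asIdeal}) =>
      (p.asIdeal.map (Ideal.Quotient.mk (Ideal.span {t}))).height) P
      ⟨hZ ((PrimeSpectrum.le_iff_specializes p P).mp hle) hp, htP⟩).trans ?_
    have := height_map_mk_succ_le (P := P.asIdeal) htP hmin
    rw [hh] at this
    exact (ENat.add_le_add_iff_right ENat.one_ne_top).mp this

end Groth.Agent.H05EGA4.EquidimHyperplane
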