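import Mathlib
import Groth.Prelude.Def_EssEt
import Groth.Agent.H9Hens.StrictHens
import Groth.Agent.H9Hens.PtBase
import Groth.Agent.H9Hens.LocalStructure

/-!
Essentially etale subalgebras of a strict henselization.
-/

set_option autoImplicit false
set_option backward.isDefEq.respectTransparency false
universe u
open IsLocalRing TensorProduct

namespace Groth.Agent.H05EGA4.EssEtSub

variable {A S : Type u} [CommRing A] [IsLocalRing A] [CommRing S] [IsLocalRing S] [Algebra A S]
  [IsLocalHom (algebraMap A S)] [Hensel.IsStrictHenselization A S]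

theorem flat_of_map (C : Type u) [CommRing C] [Algebra A C] [Algebra.Etale A C] (φ : C →ₐ[A] S) :
    φ.toRingHom.Flat := by
  obtain ⟨k, _, _, _, _, _, π, hπ⟩ := Groth.Agent.H9Hens.exists_isPtColim_of_isStrictHenselization (R := A) S
  algebraize [φ.toRingHom]
  haveI : IsScalarTower A C S := IsScalarTower.of_algebraMap_eq fun a => (φ.commutes a).symm
  exact RingHom.flat_algebraMap_iff.mpr (hπ.flat_of_etale C)

theorem injective_of_local {C : Type u} [CommRing C] [Algebra A C] [Algebra.Etale A C] (q : Ideal C) [q.IsPrime]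
    (χ : Localization.AtPrime q →ₐ[A] S) [IsLocalHom χ.toRingHom] : Function.Injective χ := by
  have hf := flat_of_map (S := S) C (χ.comp (IsScalarTower.toAlgHom A C (Localization.AtPrime q)))
  algebraize [(χ.comp (IsScalarTower.toAlgHom A C (Localization.AtPrime q))).toRingHom, χ.toRingHom]
  haveI : IsScalarTower C (Localization.AtPrime q) S := IsScalarTower.of_algebraMap_eq fun c => rfl
  haveI : Module.Flat (Localization.AtPrime q) S :=
    (Module.flat_iff_of_isLocalization (Localization.AtPrime q) q.primeCompl S).mpr inferInstance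
  haveI : IsLocalHom (algebraMap (Localization.AtPrime q) S) := ‹IsLocalHom χ.toRingHom›
  haveI : Module.FaithfullyFlat (Localization.AtPrime q) S := Module.FaithfullyFlat.of_flat_of_isLocalHom
  exact FaithfulSMul.algebraMap_injective (Localization.AtPrime q) S

theorem range_isEssentiallyEtale {C : Type u} [CommRing C] [Algebra A C] [Algebra.Etale A C] (q : Ideal C) [q.IsPrime]
    (hq : q.comap (algebraMap A C) = maximalIdeal A)
    (χ : Localization.AtPrime q →ₐ[A] S) [IsLocalHom χ.toRingHom] :
    ∃ _ : IsLocalRing χ.range, IsLocalHom (algebraMap χ.range S) ∧ EGA4loc.IsEssentiallyEtale A χ.range := by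
  let e : Localization.AtPrime q ≃ₐ[A] χ.range := AlgEquiv.ofInjective χ (injective_of_local q χ)
  haveI : IsLocalRing χ.range := RingEquiv.isLocalRing e.toRingEquiv
  refine ⟨inferInstance, ⟨fun z hz => ?_⟩, C, inferInstance, inferInstance, q, inferInstance, inferInstance, hq, ⟨e.symm⟩⟩
  obtain ⟨w, rfl⟩ := e.surjective z
  exact (IsUnit.map e ((isUnit_map_iff χ.toRingHom w).mp hz))

theorem exists_etale_map (s : Finset S) :
    ∃ (C : Type u) (_ : CommRing C) (_ : Algebra A C) (_ : Algebra.Etale A C) (φ : C →ₐ[A] S),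
      (s : Set S) ⊆ Set.range φ := by
  classical
  obtain ⟨k, _, _, _, _, _, π, hπ⟩ := Groth.Agent.H9Hens.exists_isPtColim_of_isStrictHenselization (R := A) S
  induction s using Finset.induction with
  | empty => exact ⟨A, inferInstance, inferInstance, inferInstance, Algebra.ofId A S, by simp⟩
  | insert x t _ ih =>
    obtain ⟨C, _, _, _, φ, hφ⟩ := ih
    obtain ⟨T, _, _, _, ψ, y, hy⟩ := hπ.exists_rep x
    haveI : Algebra.Etale A (C ⊗[A] T) := Algebra.Etale.comp A C (C ⊗[A] T)
    refine ⟨C ⊗[A] T, inferInstance, inferInstance, inferInstance,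
      Algebra.TensorProduct.lift φ ψ fun _ _ => Commute.all _ _, ?_⟩
    intro z hz
    rw [Finset.coe_insert, Set.mem_insert_iff] at hz
    rcases hz with rfl | hz
    · exact ⟨1 ⊗ₜ y, by simp [hy]⟩
    · obtain ⟨c, rfl⟩ := hφ hz
      exact ⟨c ⊗ₜ 1, by simp⟩

theorem exists_subalgebra (s : Finset S) :
    ∃ E : Subalgebra A S, (s : Set S) ⊆ (E : Set S) ∧
      ∃ _ : IsLocalRing E, IsLocalHom (algebraMap E S) ∧ EGA4loc.IsEssentiallyEtale A E := by
  obtain ⟨C, _, _, _, φ, hφ⟩ := exists_etale_map (A := A) s
  let q : Ideal C := (maximalIdeal S).comap φ.toRingHom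
  haveI : q.IsPrime := inferInstance
  have hu : ∀ y : q.primeCompl, IsUnit (φ y) := fun y => notMem_maximalIdeal.mp y.2
  let χ : Localization.AtPrime q →ₐ[A] S := IsLocalization.liftAlgHom (M := q.primeCompl) (f := φ) hu
  have hχ : ∀ c, χ (algebraMap C _ c) = φ c := fun c => by simp [χ]
  haveI : IsLocalHom χ.toRingHom := ⟨fun z hz => by
    obtain ⟨c, d, rfl⟩ := IsLocalization.exists_mk'_eq q.primeCompl z
    rw [IsLocalization.AtPrime.isUnit_mk'_iff]
    intro hc
    have h1 : χ (algebraMap C _ c) = χ (IsLocalization.mk' (Localization.AtPrime q) c d) * φ d := by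
      rw [← hχ (d : C), ← map_mul, IsLocalization.mk'_spec]
    rw [hχ] at h1
    exact (mem_maximalIdeal _).mp hc (h1 ▸ (hz.mul (hu d)))⟩
  have hq : q.comap (algebraMap A C) = maximalIdeal A := by
    show ((maximalIdeal S).comap φ.toRingHom).comap (algebraMap A C) = _
    rw [Ideal.comap_comap, AlgHom.toRingHom_eq_coe, φ.comp_algebraMap]
    exact ((local_hom_TFAE (algebraMap A S)).out 0 4 rfl rfl).mp inferInstance
  refine ⟨χ.range, fun z hz => ?_, range_isEssentiallyEtale q hq χ⟩
  obtain ⟨c, rfl⟩ := hφ hz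
  exact ⟨algebraMap C _ c, hχ c⟩

theorem exists_le_of_essFiniteType (D : Subalgebra A S) [IsLocalRing D]
    [IsLocalHom (algebraMap D S)] [Algebra.EssFiniteType A D] :
    ∃ E : Subalgebra A S, D ≤ E ∧ ∃ _ : IsLocalRing E, IsLocalHom (algebraMap E S) ∧ EGA4loc.IsEssentiallyEtale A E := by
  classical
  obtain ⟨E, hsE, hloc, hE, hEt⟩ := exists_subalgebra (A := A) (Finset.image (fun d : D => (d : S)) (Algebra.EssFiniteType.finset A D))
  haveI := hloc
  haveI := hE
  refine ⟨E, fun x hx => ?_, hloc, hE, hEt⟩
  let M := Algebra.EssFiniteType.submonoid A D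
  let B := Algebra.EssFiniteType.subalgebra A D
  haveI : IsLocalization M D := Algebra.EssFiniteType.isLocalization A D
  have hB : ∀ b : B, ((algebraMap B D b : D) : S) ∈ E := fun b => by
    have h1 : B ≤ E.comap D.val := by
      show Algebra.adjoin A _ ≤ _
      rw [Algebra.adjoin_le_iff]
      exact fun d hd => hsE (Finset.mem_image.mpr ⟨d, hd, rfl⟩)
    exact h1 b.2
  obtain ⟨⟨b, m⟩, hbm⟩ := IsLocalization.surj M (⟨x, hx⟩ : D)
  have hmu : IsUnit ((algebraMap B D m : D) : S) := (IsLocalization.map_units D m).map (algebraMap D S)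
  obtain ⟨v, hv⟩ := (IsUnit.of_map (algebraMap E S) ⟨_, hB m⟩ hmu).exists_right_inv
  have h1 : x * ((algebraMap B D m : D) : S) = ((algebraMap B D b : D) : S) := congrArg Subtype.val hbm
  have h2 : ((algebraMap B D m : D) : S) * (v : S) = 1 := congrArg Subtype.val hv
  have h3 : x = ((algebraMap B D b : D) : S) * (v : S) := by rw [← h1, mul_assoc, h2, mul_one]
  rw [h3]
  exact E.mul_mem (hB b) v.2

theorem of_essFiniteType (D : Subalgebra A S) [IsLocalRing D]
    [IsLocalHom (algebraMap D S)] [Algebra.EssFiniteType A D]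
    (hm : Ideal.map (algebraMap A D) (maximalIdeal A) = maximalIdeal D) :
    EGA4loc.IsEssentiallyEtale A D := by
  haveI : IsLocalHom (algebraMap A D) := ⟨fun a ha => by
    have := ha.map (algebraMap D S)
    rw [← IsScalarTower.algebraMap_apply] at this
    exact (isUnit_map_iff (algebraMap A S) a).mp this⟩
  haveI : Algebra.IsSeparable (ResidueField A) (ResidueField S) :=
    (Hensel.IsStrictHenselization.isSepClosure (R := A) (S := S)).separable
  haveI : Algebra.IsSeparable (ResidueField A) (ResidueField D) := by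
    refine Algebra.IsSeparable.of_algHom (ResidueField A) (ResidueField S)
      { ResidueField.map (algebraMap D S) with commutes' := fun c => ?_ }
    obtain ⟨a, rfl⟩ := residue_surjective c
    show ResidueField.map (algebraMap D S) (residue D (algebraMap A D a)) = residue S (algebraMap A S a)
    rw [ResidueField.map_residue, ← IsScalarTower.algebraMap_apply]
  obtain ⟨P, q, _, φ, hφ⟩ := Groth.Agent.H9Hens.exists_standardEtale_surjection A D hm
  haveI : IsLocalHom φ.toRingHom := Function.Surjective.isLocalHom φ.toRingHom hφ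
  haveI : IsLocalHom (D.val.comp φ).toRingHom := RingHom.isLocalHom_comp (algebraMap D S) φ.toRingHom
  have hinj : Function.Injective φ := Function.Injective.of_comp (f := D.val) (injective_of_local (S := S) q (D.val.comp φ))
  refine ⟨P.Ring, inferInstance, inferInstance, q, inferInstance, inferInstance, ?_,
    ⟨(AlgEquiv.ofBijective φ ⟨hinj, hφ⟩).symm⟩⟩
  ext a
  rw [Ideal.mem_comap, ← IsLocalization.AtPrime.to_map_mem_maximal_iff (Localization.AtPrime q) q,
    ← IsScalarTower.algebraMap_apply, mem_maximalIdeal, mem_maximalIdeal, mem_nonunits_iff, mem_nonunits_iff,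
    not_iff_not, ← isUnit_map_iff φ.toRingHom]
  show IsUnit (φ (algebraMap A _ a)) ↔ _
  rw [φ.commutes]
  exact isUnit_map_iff (algebraMap A D) a

end Groth.Agent.H05EGA4.EssEtSub
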