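import Mathlib
import Groth.Agent.H05EGA4.EssEtSub
import Groth.Agent.H05EGA4.EssEtFrac

/-!
Finite generation of the total ring of fractions of a subalgebra of a strict henselization.
-/

set_option autoImplicit false
set_option backward.isDefEq.respectTransparency false
universe u
open IsLocalRing

namespace Groth.Agent.H05EGA4.EssEtFG

theorem exists_finite_clear (A E : Type u) [CommRing A] [IsLocalRing A] [IsReduced A] (hmin : (minimalPrimes A).Finite)
    [CommRing E] [Algebra A E] (hE : EGA4loc.IsEssentiallyEtale A E) (N : Submodule A E) :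
    ∃ N₀ : Submodule A E, N₀.FG ∧ N₀ ≤ N ∧ ∀ x ∈ N, ∃ a ∈ nonZeroDivisors A, a • x ∈ N₀ ∧
      (∀ D : Subalgebra A E, ∀ s ∈ D, (∀ c ∈ D, s * c = 0 → c = 0) →
        ∃ b ∈ nonZeroDivisors A, ∃ d ∈ D, s * d = algebraMap A E b) := by
  classical
  obtain ⟨hloc, t, ht⟩ := EssEtFrac.isLocalization_and_finite A E hmin hE
  haveI := hloc
  haveI := EssEtFrac.isArtinianRing_fractionRing A hmin
  haveI := EssEtFrac.flat_of_isEssentiallyEtale hE
  let M := nonZeroDivisors A
  let KE := FractionRing E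
  have hu : ∀ s : M, IsUnit (algebraMap A KE s) := fun s => by
    rw [IsScalarTower.algebraMap_apply A E KE]
    exact IsLocalization.map_units KE (⟨_, s, s.2, rfl⟩ : M.map (algebraMap A E))
  letI : Algebra (FractionRing A) KE := (IsLocalization.lift hu : FractionRing A →+* KE).toAlgebra
  haveI : IsScalarTower A (FractionRing A) KE :=
    IsScalarTower.of_algebraMap_eq fun a => (IsLocalization.lift_eq hu a).symm
  haveI : IsLocalization (Algebra.algebraMapSubmonoid E M) KE := hloc
  let f : E →ₗ[A] KE := (IsScalarTower.toAlgHom A E KE).toLinearMap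
  haveI : IsLocalizedModule M f := isLocalizedModule_iff_isLocalization.mpr hloc
  haveI : Module.Finite (FractionRing A) KE := by
    refine ⟨⟨t, top_le_iff.mp fun x _ => ?_⟩⟩
    obtain ⟨a, ha, hax⟩ := ht x
    have h1 : algebraMap A KE a * x ∈ Submodule.span (FractionRing A) (t : Set KE) :=
      Submodule.span_le_restrictScalars A (FractionRing A) _ hax
    have h2 := Submodule.smul_mem _ (IsLocalization.mk' (FractionRing A) (1 : A) (⟨a, ha⟩ : M)) h1
    rw [Algebra.smul_def, ← mul_assoc, IsScalarTower.algebraMap_apply A (FractionRing A) KE a,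
      ← map_mul, IsLocalization.mk'_spec, map_one, map_one, one_mul] at h2
    exact h2
  haveI : IsNoetherian (FractionRing A) KE := isNoetherian_of_isNoetherianRing_of_finite _ _
  haveI : IsArtinian (FractionRing A) KE := isArtinian_of_fg_of_artinian'
  let W : Submodule A E → Submodule (FractionRing A) KE := fun P => P.localized' (FractionRing A) M f
  have hWmono : ∀ P Q : Submodule A E, P ≤ Q → W P ≤ W Q := fun P Q h x hx => by
    obtain ⟨m, hm, s, rfl⟩ := hx
    exact ⟨m, h hm, s, rfl⟩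
  have hinj : Function.Injective f := IsLocalization.injective KE (EssEtFrac.map_nonZeroDivisors_le (A := A) (E := E))
  have hWmem : ∀ (P : Submodule A E) (x : E), f x ∈ W P → ∃ a ∈ M, a • x ∈ P := fun P x hx => by
    obtain ⟨m, hm, s, hms⟩ := hx
    refine ⟨s, s.2, ?_⟩
    have h1 : f m = f ((s : A) • x) := by
      rw [map_smul, ← Submonoid.smul_def]
      exact IsLocalizedModule.mk'_eq_iff.mp hms
    exact hinj h1 ▸ hm
  have hWf : ∀ (P : Submodule A E) (x : E), x ∈ P → f x ∈ W P := fun P x hx =>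
    ⟨x, hx, 1, IsLocalizedModule.mk'_one M f x⟩
  have hden : ∀ D : Subalgebra A E, ∀ s ∈ D, (∀ c ∈ D, s * c = 0 → c = 0) →
      ∃ b ∈ nonZeroDivisors A, ∃ d ∈ D, s * d = algebraMap A E b := by
    intro D s hs hreg
    have hsn : ∀ (n : ℕ) (c : E), c ∈ D → s ^ n * c = 0 → c = 0 := by
      intro n
      induction n with
      | zero => intro c _ h; simpa using h
      | succ n ih =>
        intro c hc h
        refine hreg c hc (ih _ (D.mul_mem hs hc) ?_)
        rw [← mul_assoc, ← pow_succ]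
        exact h
    let P : ℕ → Submodule A E := fun n => (Subalgebra.toSubmodule D).map (LinearMap.mulLeft A (s ^ n))
    have hP : ∀ n, P (n + 1) ≤ P n := by
      rintro n _ ⟨z, hz, rfl⟩
      refine ⟨s * z, D.mul_mem hs hz, ?_⟩
      show s ^ n * (s * z) = s ^ (n + 1) * z
      rw [pow_succ, mul_assoc]
    let g : ℕ →o (Submodule (FractionRing A) KE)ᵒᵈ :=
      ⟨fun n => OrderDual.toDual (W (P n)), monotone_nat_of_le_succ fun n => hWmono _ _ (hP n)⟩
    obtain ⟨n, hn⟩ := IsArtinian.monotone_stabilizes g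
    have h1 : W (P n) = W (P (n + 1)) := OrderDual.toDual.injective (hn (n + 1) n.le_succ)
    have h2 : f (s ^ n * 1) ∈ W (P (n + 1)) := h1 ▸ hWf _ _ ⟨1, D.one_mem, rfl⟩
    obtain ⟨b, hb, z, hz, hzeq⟩ := hWmem _ _ h2
    refine ⟨b, hb, z, hz, ?_⟩
    refine (sub_eq_zero.mp (hsn n _ (D.sub_mem (D.mul_mem hs hz) (D.algebraMap_mem b)) ?_))
    have h3 : s ^ (n + 1) * z = b • (s ^ n * 1) := hzeq
    rw [mul_sub, ← mul_assoc, ← pow_succ, h3, Algebra.smul_def]
    ring
  obtain ⟨W₀, ⟨N₀, hN₀, hN₀le, rfl⟩, hmax⟩ := set_has_maximal_iff_noetherian.mpr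
    (inferInstance : IsNoetherian (FractionRing A) KE)
    {V | ∃ P : Submodule A E, P.FG ∧ P ≤ N ∧ W P = V} ⟨W ⊥, ⊥, Submodule.fg_bot, bot_le, rfl⟩
  refine ⟨N₀, hN₀, hN₀le, fun x hx => ?_⟩
  have hle : W N₀ ≤ W (N₀ ⊔ Submodule.span A {x}) := hWmono _ _ le_sup_left
  have heq : W N₀ = W (N₀ ⊔ Submodule.span A {x}) := hle.eq_of_not_lt (hmax _
    ⟨_, hN₀.sup (Submodule.fg_span_singleton x),
      sup_le hN₀le ((Submodule.span_singleton_le_iff_mem x N).mpr hx), rfl⟩)
  obtain ⟨a, ha, hax⟩ := hWmem N₀ x (heq ▸ hWf _ x (Submodule.mem_sup_right (Submodule.mem_span_singleton_self x)))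
  exact ⟨a, ha, hax, hden⟩

theorem exists_mul_eq (A E : Type u) [CommRing A] [IsLocalRing A] [IsReduced A] (hmin : (minimalPrimes A).Finite)
    [CommRing E] [Algebra A E] (hE : EGA4loc.IsEssentiallyEtale A E) (D : Subalgebra A E) (s : E) (hs : s ∈ D)
    (hreg : ∀ c ∈ D, s * c = 0 → c = 0) :
    ∃ b ∈ nonZeroDivisors A, ∃ d ∈ D, s * d = algebraMap A E b := by
  obtain ⟨N₀, -, -, h⟩ := exists_finite_clear A E hmin hE ⊥
  obtain ⟨_, _, _, h'⟩ := h 0 (Submodule.zero_mem _)
  exact h' D s hs hreg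

variable {A S : Type u} [CommRing A] [IsLocalRing A] [CommRing S] [IsLocalRing S] [Algebra A S]
  [IsLocalHom (algebraMap A S)] [Hensel.IsStrictHenselization A S]

theorem faithfullyFlat_of_isEssentiallyEtale (E : Subalgebra A S) [IsLocalRing E] [IsLocalHom (algebraMap E S)]
    (hE : EGA4loc.IsEssentiallyEtale A E) : Module.FaithfullyFlat E S := by
  obtain ⟨C, _, _, q, _, _, -, ⟨e⟩⟩ := hE
  have h1 : (E.val.comp (e.symm.toAlgHom.comp (IsScalarTower.toAlgHom A C (Localization.AtPrime q)))).toRingHom.Flat :=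
    EssEtSub.flat_of_map (S := S) C _
  haveI : Module.Flat E S := by
    rw [← RingHom.flat_algebraMap_iff]
    algebraize [(E.val.comp (e.symm.toAlgHom.comp (IsScalarTower.toAlgHom A C (Localization.AtPrime q)))).toRingHom,
      (E.val.comp e.symm.toAlgHom).toRingHom]
    haveI : IsScalarTower C (Localization.AtPrime q) S := IsScalarTower.of_algebraMap_eq fun c => rfl
    haveI h2 : Module.Flat (Localization.AtPrime q) S :=
      (Module.flat_iff_of_isLocalization (Localization.AtPrime q) q.primeCompl S).mpr inferInstance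
    have h3 : (algebraMap E S) = (algebraMap (Localization.AtPrime q) S).comp e.toRingHom := by
      ext x
      show (x : S) = (e.symm (e x) : S)
      rw [e.symm_apply_apply]
    rw [h3]
    exact RingHom.Flat.comp (RingHom.Flat.of_bijective e.bijective) (RingHom.flat_algebraMap_iff.mpr h2)
  exact Module.FaithfullyFlat.of_flat_of_isLocalHom

theorem mem_nonZeroDivisors (D : Subalgebra A S) {a : A} (ha : a ∈ nonZeroDivisors A) :
    algebraMap A D a ∈ nonZeroDivisors D := by
  refine mem_nonZeroDivisors_iff_left.mpr fun c hc => ?_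
  obtain ⟨E, hcE, _, -, hE⟩ := EssEtSub.exists_subalgebra (A := A) ({(c : S)} : Finset S)
  haveI := EssEtFrac.flat_of_isEssentiallyEtale hE
  have h1 := mem_nonZeroDivisors_iff_left.mp
    (EssEtFrac.map_nonZeroDivisors_le (A := A) (E := E) ⟨a, ha, rfl⟩) ⟨c, hcE (by simp)⟩
    (Subtype.ext (congrArg Subtype.val hc :))
  exact Subtype.ext (congrArg Subtype.val h1 :)

theorem exists_mul_eq_of_subalgebra [IsReduced A] (hmin : (minimalPrimes A).Finite) (D : Subalgebra A S)
    {s : D} (hs : s ∈ nonZeroDivisors D) :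
    ∃ b ∈ nonZeroDivisors A, ∃ d : D, s * d = algebraMap A D b := by
  obtain ⟨E, hsE, _, -, hE⟩ := EssEtSub.exists_subalgebra (A := A) ({(s : S)} : Finset S)
  obtain ⟨b, hb, d, hd, hsd⟩ := exists_mul_eq A E hmin hE (D.comap E.val) ⟨s, hsE (by simp)⟩ s.2 fun c hc h =>
    Subtype.ext (congrArg Subtype.val
      (mem_nonZeroDivisors_iff_left.mp hs ⟨c, hc⟩ (Subtype.ext (congrArg Subtype.val h :))) :)
  exact ⟨b, hb, ⟨d, hd⟩, Subtype.ext (congrArg Subtype.val hsd :)⟩

set_option maxHeartbeats 1600000 in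
theorem exists_local_le_of_fg [IsReduced A] (hmin : (minimalPrimes A).Finite) (D : Subalgebra A S)
    (hfg : ∃ t : Finset (FractionRing D), ∀ x : FractionRing D, ∃ a ∈ nonZeroDivisors A,
        algebraMap A (FractionRing D) a * x ∈ Algebra.adjoin A (t : Set (FractionRing D))) :
    ∃ E : Subalgebra A S, D ≤ E ∧ ∃ _ : IsLocalRing E, IsLocalHom (algebraMap E S) ∧ EGA4loc.IsEssentiallyEtale A E := by
  classical
  let K := FractionRing D
  let j : D →ₐ[A] K := IsScalarTower.toAlgHom A D K
  have hK : ∀ x : K, ∃ a ∈ nonZeroDivisors A, ∃ d : D, algebraMap A K a * x = j d := by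
    intro x
    obtain ⟨d, s, rfl⟩ := IsLocalization.exists_mk'_eq (nonZeroDivisors D) x
    obtain ⟨b, hb, d', hd'⟩ := exists_mul_eq_of_subalgebra hmin D s.2
    refine ⟨b, hb, d' * d, ?_⟩
    rw [← j.commutes b, ← hd', map_mul, map_mul]
    show algebraMap D K s * algebraMap D K d' * IsLocalization.mk' K d s = algebraMap D K d' * algebraMap D K d
    rw [← IsLocalization.mk'_spec' K d s]
    ring
  obtain ⟨t, ht⟩ := hfg
  choose a ha d hd using hK
  obtain ⟨E, hE, hloc, hlocE, hEt⟩ := EssEtSub.exists_subalgebra (A := A) (t.image fun x => ((d x : D) : S))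
  haveI := hloc
  haveI := hlocE
  let DE : Subalgebra A D := E.comap D.val
  let Q : Subalgebra A K :=
    { carrier := {y | ∃ b ∈ nonZeroDivisors A, algebraMap A K b * y ∈ DE.map j}
      mul_mem' := by
        rintro y z ⟨b, hb, h⟩ ⟨c, hc, h'⟩
        refine ⟨b * c, Submonoid.mul_mem _ hb hc, ?_⟩
        rw [map_mul, mul_mul_mul_comm]
        exact (DE.map j).mul_mem h h'
      add_mem' := by
        rintro y z ⟨b, hb, h⟩ ⟨c, hc, h'⟩
        refine ⟨b * c, Submonoid.mul_mem _ hb hc, ?_⟩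
        have : algebraMap A K (b * c) * (y + z) =
            algebraMap A K c * (algebraMap A K b * y) + algebraMap A K b * (algebraMap A K c * z) := by
          rw [map_mul]; ring
        rw [this]
        exact (DE.map j).add_mem ((DE.map j).mul_mem ((DE.map j).algebraMap_mem _) h)
          ((DE.map j).mul_mem ((DE.map j).algebraMap_mem _) h')
      algebraMap_mem' := fun r => ⟨1, Submonoid.one_mem _, by rw [map_one, one_mul]; exact (DE.map j).algebraMap_mem r⟩ }
  have htQ : Algebra.adjoin A (t : Set K) ≤ Q := Algebra.adjoin_le fun x hx =>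
    ⟨a x, ha x, d x, hE (Finset.mem_image.mpr ⟨x, hx, rfl⟩), (hd x).symm⟩
  refine ⟨E, fun x hx => ?_, hloc, hlocE, hEt⟩
  obtain ⟨b, hb, hbx⟩ := ht (j ⟨x, hx⟩)
  obtain ⟨c, hc, e, he, hec⟩ := htQ hbx
  have hinj : Function.Injective j := IsFractionRing.injective D K
  have h0 : e = algebraMap A D (c * b) * ⟨x, hx⟩ := hinj (by
    rw [map_mul, j.commutes, map_mul, mul_assoc]; exact hec)
  have h1 : (e : S) = algebraMap A S (c * b) * x := congrArg Subtype.val h0
  haveI := faithfullyFlat_of_isEssentiallyEtale E hEt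
  haveI := EssEtFrac.flat_of_isEssentiallyEtale hEt
  have h2 : (⟨e, he⟩ : E) ∈ Ideal.span {algebraMap A E (c * b)} := by
    rw [← Ideal.comap_map_eq_self_of_faithfullyFlat (B := S) (Ideal.span {algebraMap A E (c * b)}),
      Ideal.mem_comap, Ideal.map_span, Set.image_singleton, Ideal.mem_span_singleton']
    exact ⟨x, by rw [← IsScalarTower.algebraMap_apply, mul_comm]; exact h1.symm⟩
  obtain ⟨y, hy⟩ := Ideal.mem_span_singleton'.mp h2
  have hmem : algebraMap A E (c * b) ∈ nonZeroDivisors E :=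
    EssEtFrac.map_nonZeroDivisors_le (A := A) (E := E)
      (Submonoid.mem_map_of_mem (algebraMap A E) (Submonoid.mul_mem _ hc hb))
  have hr : IsSMulRegular E (algebraMap A E (c * b)) := isSMulRegular_iff_right_eq_zero_of_smul.mpr fun z hz =>
    mem_nonZeroDivisors_iff_left.mp hmem z (smul_eq_mul (algebraMap A E (c * b)) z ▸ hz)
  have h3 : algebraMap E S (algebraMap A E (c * b)) * (x - (y : S)) = 0 := by
    have h4 : (y : S) * algebraMap A S (c * b) = (e : S) := congrArg Subtype.val hy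
    rw [← IsScalarTower.algebraMap_apply, mul_sub, mul_comm _ (y : S), h4, h1, sub_self]
  rw [sub_eq_zero.mp ((hr.of_flat (S := S)).right_eq_zero_of_smul h3)]
  exact y.2

set_option maxHeartbeats 1600000 in
theorem fg_iff [IsReduced A] (hmin : (minimalPrimes A).Finite) (D : Subalgebra A S) :
    (∃ t : Finset (FractionRing D), ∀ x : FractionRing D, ∃ a ∈ nonZeroDivisors A,
        algebraMap A (FractionRing D) a * x ∈ Algebra.adjoin A (t : Set (FractionRing D))) ↔
      ∃ E : Subalgebra A S, D ≤ E ∧ ∃ _ : IsLocalRing E, EGA4loc.IsEssentiallyEtale A E := by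
  classical
  let K := FractionRing D
  let j : D →ₐ[A] K := IsScalarTower.toAlgHom A D K
  have hK : ∀ x : K, ∃ a ∈ nonZeroDivisors A, ∃ d : D, algebraMap A K a * x = j d := by
    intro x
    obtain ⟨d, s, rfl⟩ := IsLocalization.exists_mk'_eq (nonZeroDivisors D) x
    obtain ⟨b, hb, d', hd'⟩ := exists_mul_eq_of_subalgebra hmin D s.2
    refine ⟨b, hb, d' * d, ?_⟩
    rw [← j.commutes b, ← hd', map_mul, map_mul]
    show algebraMap D K s * algebraMap D K d' * IsLocalization.mk' K d s = algebraMap D K d' * algebraMap D K d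
    rw [← IsLocalization.mk'_spec' K d s]
    ring
  constructor
  · intro h
    obtain ⟨E, h1, h2, -, h3⟩ := exists_local_le_of_fg hmin D h
    exact ⟨E, h1, h2, h3⟩
  · rintro ⟨E, hDE, -, hEt⟩
    obtain ⟨N₀, ⟨u, hu⟩, hN₀, hN⟩ := exists_finite_clear A E hmin hEt
      (Subalgebra.toSubmodule (D.comap E.val))
    subst hu
    have hu' : ∀ x ∈ u, (x : S) ∈ D := fun x hx => hN₀ (Submodule.subset_span hx)
    refine ⟨u.attach.image fun x => j ⟨x.1, hu' x.1 x.2⟩, fun x => ?_⟩
    obtain ⟨a, ha, d, hd⟩ := hK x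
    obtain ⟨b, hb, hbd, -⟩ := hN ⟨d, hDE d.2⟩ d.2
    refine ⟨b * a, Submonoid.mul_mem _ hb ha, ?_⟩
    rw [map_mul, mul_assoc, hd]
    have key : ∀ z ∈ Submodule.span A (u : Set E), ∃ w : D, (w : S) = (z : S) ∧
        j w ∈ Algebra.adjoin A ((u.attach.image fun x => j ⟨x.1, hu' x.1 x.2⟩ : Finset K) : Set K) := by
      intro z hz
      induction hz using Submodule.span_induction with
      | mem y hy => exact ⟨⟨y, hu' y hy⟩, rfl, Algebra.subset_adjoin
          (Finset.mem_coe.mpr (Finset.mem_image.mpr ⟨⟨y, hy⟩, Finset.mem_attach _ _, rfl⟩))⟩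
      | zero => exact ⟨0, rfl, by rw [map_zero]; exact Subalgebra.zero_mem _⟩
      | add y y' _ _ h h' =>
        obtain ⟨w, hw, hw'⟩ := h
        obtain ⟨v, hv, hv'⟩ := h'
        exact ⟨w + v, by rw [Subalgebra.coe_add, hw, hv]; rfl, by rw [map_add]; exact Subalgebra.add_mem _ hw' hv'⟩
      | smul c y _ h =>
        obtain ⟨w, hw, hw'⟩ := h
        exact ⟨c • w, by rw [Subalgebra.coe_smul, hw]; rfl, by rw [map_smul]; exact Subalgebra.smul_mem _ hw' c⟩
    obtain ⟨w, hw, hw'⟩ := key _ hbd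
    have h5 : algebraMap A D b * d = w := Subtype.ext (by rw [hw, Subalgebra.coe_mul]; exact (Algebra.smul_def b (d : S)).symm)
    rw [← j.commutes b, ← map_mul, h5]
    exact hw'

end Groth.Agent.H05EGA4.EssEtFG
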