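import Mathlib
import Groth.Agent.H05EGA4.EssEtFG
import Groth.Agent.H9Hens.EssEtale
import Groth.Agent.H9Hens.Local
import Groth.Agent.H7Flat.FlatTransfer

/-!
Subfields of a strict henselization of a henselian domain.
-/

set_option autoImplicit false
set_option backward.isDefEq.respectTransparency false
set_option linter.style.haveILetI false
universe u
open IsLocalRing Polynomial

namespace Groth.Agent.H05EGA4.EssEtHensel

theorem coe_aeval {A S : Type u} [CommRing A] [CommRing S] [Algebra A S] {E : Subalgebra A S} (e : E) (p : A[X]) :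
    ((aeval e p : E) : S) = aeval (e : S) p :=
  (aeval_algHom_apply E.val e p).symm

variable {A S : Type u} [CommRing A] [CommRing S] [Algebra A S]

theorem map_maximalIdeal_isMaximal [IsLocalRing A] [IsLocalRing S] [IsLocalHom (algebraMap A S)]
    (θ : S) (f : A[X]) (hf : f.Monic) (hfθ : aeval θ f = 0)
    (hirr : f.map (residue A) = minpoly (ResidueField A) (residue S θ)) :
    ∃ _ : IsLocalRing (Algebra.adjoin A ({θ} : Set S)), IsLocalHom (algebraMap (Algebra.adjoin A ({θ} : Set S)) S) ∧
      IsLocalHom (algebraMap A (Algebra.adjoin A ({θ} : Set S))) ∧ Module.Finite A (Algebra.adjoin A ({θ} : Set S)) ∧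
      Ideal.map (algebraMap A (Algebra.adjoin A ({θ} : Set S))) (maximalIdeal A) =
        maximalIdeal (Algebra.adjoin A ({θ} : Set S)) := by
  let E := Algebra.adjoin A ({θ} : Set S)
  have hint : IsIntegral A θ := ⟨f, hf, hfθ⟩
  haveI hfin : Module.Finite A E := Module.Finite.iff_fg.mpr hint.fg_adjoin_singleton
  let P := (maximalIdeal S).comap (algebraMap E S)
  let I := Ideal.map (algebraMap A E) (maximalIdeal A)
  have hIP : I ≤ P := Ideal.map_le_iff_le_comap.mpr fun a ha => by
    show algebraMap A S a ∈ maximalIdeal S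
    exact ((local_hom_TFAE (algebraMap A S)).out 0 4 rfl rfl).mp inferInstance |>.ge ha
  have hPI : P ≤ I := fun e he => by
    obtain ⟨p, hp⟩ : (e : S) ∈ (aeval (R := A) θ).range := (Algebra.adjoin_singleton_eq_range_aeval A θ).le e.2
    have h1 : aeval (residue S θ) (p.map (residue A)) = 0 := by
      have h0 : residue S (e : S) = 0 := (residue_eq_zero_iff _).mpr he
      have hp' : aeval θ p = (e : S) := hp
      rw [← hp'] at h0
      rw [show residue A = algebraMap A (ResidueField A) from rfl, aeval_map_algebraMap,
        show residue S θ = algebraMap S (ResidueField S) θ from rfl, aeval_algebraMap_apply]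
      exact h0
    obtain ⟨q, hq⟩ := minpoly.dvd (ResidueField A) _ h1
    rw [← hirr] at hq
    obtain ⟨q', rfl⟩ := map_surjective (residue A) residue_surjective q
    let θE : E := ⟨θ, Algebra.subset_adjoin rfl⟩
    have hd : ∀ i, (p - f * q').coeff i ∈ maximalIdeal A := fun i => by
      rw [← residue_eq_zero_iff, ← coeff_map, Polynomial.map_sub, Polynomial.map_mul, hq, sub_self, coeff_zero]
    have he2 : e = aeval θE (p - f * q') := Subtype.ext (by
      rw [coe_aeval, map_sub, map_mul, hfθ, zero_mul, sub_zero]
      exact hp.symm)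
    rw [he2, aeval_eq_sum_range]
    exact Ideal.sum_mem _ fun i _ => by
      rw [Algebra.smul_def]
      exact Ideal.mul_mem_right _ _ (Ideal.mem_map_of_mem _ (hd i))
  have hIPeq : I = P := le_antisymm hIP hPI
  haveI : P.IsPrime := inferInstance
  have hmax : ∀ Q : Ideal E, Q.IsMaximal → Q = P := fun Q hQ => by
    haveI := hQ
    refine (hQ.eq_of_le (Ideal.IsPrime.ne_top inferInstance) ?_)
    have h1 : Q.comap (algebraMap A E) = maximalIdeal A :=
      eq_maximalIdeal (Ideal.isMaximal_comap_of_isIntegral_of_isMaximal Q)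
    have h2 : I ≤ Q := Ideal.map_le_iff_le_comap.mpr h1.ge
    have h3 : P.IsMaximal := by
      refine Ideal.isMaximal_of_isIntegral_of_isMaximal_comap (R := A) P ?_
      have : P.comap (algebraMap A E) = maximalIdeal A := ((local_hom_TFAE (algebraMap A S)).out 0 4 rfl rfl).mp inferInstance
      rw [this]; infer_instance
    exact ((h3.eq_of_le hQ.ne_top (hPI.trans h2)).ge : Q ≤ P)
  have hloc : IsLocalRing E := IsLocalRing.of_unique_max_ideal (by
    obtain ⟨Q, hQ⟩ := Ideal.exists_maximal E
    exact ⟨P, hmax Q hQ ▸ hQ, hmax⟩)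
  have hP : P = maximalIdeal E := by
    refine eq_maximalIdeal ?_
    obtain ⟨Q, hQ⟩ := Ideal.exists_maximal E
    exact hmax Q hQ ▸ hQ
  refine ⟨hloc, ((local_hom_TFAE (algebraMap E S)).out 0 4 rfl rfl).mpr hP, ⟨fun a ha => ?_⟩, hfin, hIPeq.trans hP⟩
  have := ha.map (algebraMap E S)
  rw [← IsScalarTower.algebraMap_apply] at this
  exact (isUnit_map_iff (algebraMap A S) a).mp this

variable [HenselianLocalRing A] [IsLocalRing S] [IsLocalHom (algebraMap A S)] [Hensel.IsStrictHenselization A S]

set_option maxHeartbeats 1600000 in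
set_option synthInstance.maxHeartbeats 200000 in
theorem main [IsDomain A] [IsNoetherianRing A] [IsDomain S] (t : Finset (FractionRing S)) :
    ∃ D : Subalgebra A S, (D : Set S) = (algebraMap S (FractionRing S)) ⁻¹'
        (Subfield.closure (Set.range (algebraMap A (FractionRing S)) ∪ (t : Set (FractionRing S))) :
          Set (FractionRing S)) ∧
      ∃ _ : IsLocalRing D, IsLocalHom (algebraMap D S) ∧ EGA4loc.IsEssentiallyEtale A D := by
  classical
  haveI : HenselianLocalRing S := Hensel.IsStrictHenselization.henselian (R := A)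
  let k := ResidueField A
  let ks := ResidueField S
  haveI hsc : IsSepClosure k ks := Hensel.IsStrictHenselization.isSepClosure (R := A) (S := S)
  haveI : IsGalois k ks := inferInstance
  obtain ⟨k', _, _, _, _, _, π, hπ⟩ := Groth.Agent.H9Hens.exists_isPtColim_of_isStrictHenselization (R := A) S
  haveI : Module.FaithfullyFlat A S := hπ.faithfullyFlat (Groth.Agent.H9Hens.ker_algebraMap_of_tower (R := A) (k := k'))
  have hAS : Function.Injective (algebraMap A S) := FaithfulSMul.algebraMap_injective A S
  let K := FractionRing S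
  have hSK : Function.Injective (algebraMap S K) := IsFractionRing.injective S K
  haveI : FaithfulSMul A K := (faithfulSMul_iff_algebraMap_injective A K).mpr (by
    rw [IsScalarTower.algebraMap_eq A S K]; exact hSK.comp hAS)
  let KA := FractionRing A
  letI : Algebra KA K := FractionRing.liftAlgebra A K
  haveI : IsScalarTower A KA K := FractionRing.isScalarTower_liftAlgebra A K
  -- numerators and denominators
  have hfrac : ∀ y : K, ∃ a b : S, b ≠ 0 ∧ y = algebraMap S K a / algebraMap S K b := fun y => by
    obtain ⟨a, b, hb, rfl⟩ := IsFractionRing.div_surjective S y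
    exact ⟨a, b, nonZeroDivisors.ne_zero hb, rfl⟩
  choose na nb hnb hy using hfrac
  obtain ⟨E0, hsE0, hE0loc, hE0dom, hE0⟩ :=
    EssEtSub.exists_subalgebra (A := A) (t.image na ∪ t.image nb)
  haveI := hE0loc
  haveI := hE0dom
  haveI : IsLocalHom (algebraMap A E0) := ⟨fun a ha => by
    have := ha.map (algebraMap E0 S)
    rw [← IsScalarTower.algebraMap_apply] at this
    exact (isUnit_map_iff (algebraMap A S) a).mp this⟩
  have hE0' : Algebra.EssFiniteType A E0 ∧ Algebra.FormallyUnramified A E0 := by
    obtain ⟨C, _, _, q, _, _, -, ⟨e⟩⟩ := hE0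
    haveI : Algebra.FormallyUnramified A (Localization.AtPrime q) := Algebra.FormallyUnramified.comp A C _
    haveI : Algebra.EssFiniteType A (Localization.AtPrime q) := Algebra.EssFiniteType.comp A C _
    exact ⟨(Algebra.EssFiniteType.iff_of_algEquiv e).mpr inferInstance, Algebra.FormallyUnramified.of_equiv e.symm⟩
  haveI := hE0'.1
  haveI := hE0'.2
  haveI : Algebra.IsSeparable k (ResidueField E0) :=
    ((Algebra.FormallyUnramified.iff_map_maximalIdeal_eq (R := A) (S := E0)).mp inferInstance).1
  haveI : Module.Finite k (ResidueField E0) := Algebra.FormallyUnramified.finite_of_free k (ResidueField E0)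
  let r0 : ResidueField E0 →ₐ[k] ks :=
    { ResidueField.map (algebraMap E0 S) with
      commutes' := fun c => by obtain ⟨a, rfl⟩ := residue_surjective c; rfl }
  let K0 : IntermediateField k ks := r0.fieldRange
  haveI : FiniteDimensional k K0 := Module.Finite.of_surjective (r0.rangeRestrict : ResidueField E0 →ₐ[k] _).toLinearMap
    r0.rangeRestrict_surjective
  let N := IntermediateField.normalClosure k K0 ks
  haveI : FiniteDimensional k N := inferInstance
  haveI : Algebra.IsSeparable k N := Algebra.isSeparable_tower_bot_of_isSeparable k N ks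
  haveI : Normal k N := inferInstance
  obtain ⟨α, hα⟩ := Field.exists_primitive_element k N
  let θb : ks := (α : ks)
  have hθi : IsIntegral k θb := Algebra.IsIntegral.isIntegral θb
  have hθeq : minpoly k θb = minpoly k α := (minpoly.algebraMap_eq (algebraMap N ks).injective α)
  obtain ⟨f, hfmap, hfdeg, hf⟩ := lifts_and_degree_eq_and_monic
    (f := residue A) (p := minpoly k θb) (map_surjective (residue A) residue_surjective _) (minpoly.monic hθi)
  have hsep : (minpoly k θb).Separable := Algebra.IsSeparable.isSeparable k θb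
  have haev : ∀ (p : A[X]) (s : S), residue S (aeval s p) = aeval (residue S s) (p.map (residue A)) := fun p s => by
    rw [show residue A = algebraMap A k from rfl, aeval_map_algebraMap,
      show residue S s = algebraMap S ks s from rfl, aeval_algebraMap_apply]
    rfl
  obtain ⟨θ0, hθ0⟩ := residue_surjective θb
  obtain ⟨θ, hθroot, hθcl⟩ := HenselianLocalRing.is_henselian (f.map (algebraMap A S)) (hf.map _) θ0 (by
      rw [eval_map, ← aeval_def, ← residue_eq_zero_iff, haev, hfmap, hθ0]
      exact minpoly.aeval k θb) (by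
      rw [derivative_map, eval_map, ← aeval_def]
      refine notMem_maximalIdeal.mp fun h => ?_
      rw [← residue_eq_zero_iff, haev, ← derivative_map, hfmap, hθ0] at h
      exact hsep.aeval_derivative_ne_zero (minpoly.aeval k θb) h)
  have hθres : residue S θ = θb := by
    rw [← hθ0]; exact Ideal.Quotient.eq.mpr hθcl
  have hfθ : aeval θ f = 0 := by rwa [IsRoot, eval_map, ← aeval_def] at hθroot
  obtain ⟨hEloc, hEdom, hAE, hEfin, hmE⟩ := map_maximalIdeal_isMaximal θ f hf hfθ (by rw [hfmap, hθres])
  let E := Algebra.adjoin A ({θ} : Set S)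
  haveI := hEloc
  haveI := hEdom
  haveI := hAE
  haveI := hEfin
  haveI : HenselianLocalRing E := Groth.Agent.H7Flat.FlatTransfer.henselianLocalRing_of_finite A E
  let θE : E := ⟨θ, Algebra.subset_adjoin rfl⟩
  -- residue field of `E` is `N`
  have hN : ∀ z : N, ∃ e : E, residue S (e : S) = (z : ks) := fun z => by
    have hz : z ∈ IntermediateField.adjoin k ({α} : Set N) := hα ▸ IntermediateField.mem_top
    rw [← IntermediateField.mem_toSubalgebra, IntermediateField.adjoin_simple_toSubalgebra_of_isAlgebraic (Algebra.IsAlgebraic.isAlgebraic α),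
      Algebra.adjoin_singleton_eq_range_aeval] at hz
    obtain ⟨p, rfl⟩ := hz
    obtain ⟨p', rfl⟩ := map_surjective (residue A) residue_surjective p
    refine ⟨aeval θE p', ?_⟩
    rw [coe_aeval, haev, hθres]
    exact (aeval_algHom_apply N.val α (p'.map (residue A)))
  have hroots : ∀ z : ks, aeval z (minpoly k θb) = 0 → ∃ e : E, aeval (e : S) f = 0 ∧ residue S (e : S) = z := by
    intro z hz
    have hzN : z ∈ N := by
      have hsplit : ((minpoly k α).map (algebraMap k N)).Splits := Normal.splits ‹_› α
      have hzr : z ∈ (((minpoly k α).map (algebraMap k N)).map (algebraMap N ks)).roots := by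
        rw [mem_roots (((minpoly.monic (Algebra.IsIntegral.isIntegral α)).map _).map _).ne_zero, IsRoot, eval_map, eval₂_map,
          ← IsScalarTower.algebraMap_eq, ← aeval_def, ← hθeq]
        exact hz
      rw [hsplit.roots_map (algebraMap N ks)] at hzr
      obtain ⟨w, -, rfl⟩ := Multiset.mem_map.mp hzr
      exact w.2
    obtain ⟨e0, he0⟩ := hN ⟨z, hzN⟩
    have hres : ∀ p : A[X], residue S ((aeval e0 p : E) : S) = aeval z (p.map (residue A)) := fun p => by
      rw [coe_aeval, haev, he0]
    have hmem : ∀ e : E, e ∈ maximalIdeal E ↔ residue S (e : S) = 0 := fun e => by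
      rw [residue_eq_zero_iff]
      exact (SetLike.ext_iff.mp (((local_hom_TFAE (algebraMap E S)).out 0 4 rfl rfl).mp hEdom) e).symm
    obtain ⟨e, her, hec⟩ := HenselianLocalRing.is_henselian (f.map (algebraMap A E)) (hf.map _) e0 (by
        rw [eval_map, ← aeval_def, hmem, hres, hfmap]; exact hz) (by
        rw [derivative_map, eval_map, ← aeval_def]
        refine notMem_maximalIdeal.mp fun h => ?_
        rw [hmem, hres, ← derivative_map, hfmap] at h
        exact hsep.aeval_derivative_ne_zero hz h)
    rw [IsRoot, eval_map, ← aeval_def] at her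
    refine ⟨e, by rw [← coe_aeval, her]; rfl, ?_⟩
    rw [show z = residue S (e0 : S) from he0.symm]
    exact Ideal.Quotient.eq.mpr (by
      have h1 := (hmem _).mp hec
      rw [residue_eq_zero_iff] at h1
      exact h1)
  -- `E0 ⊆ E`
  have hE0E : E0 ≤ E := by
    have hσ : ∀ x : E0, ∃ c : ResidueField E, ResidueField.map (algebraMap E S) c = residue S (x : S) := fun x => by
      obtain ⟨e, he⟩ := hN ⟨residue S (x : S), IntermediateField.le_normalClosure K0 ⟨residue E0 x, rfl⟩⟩
      exact ⟨residue E e, he⟩
    choose c hc using hσ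
    have hinj := (ResidueField.map (algebraMap E S)).injective
    let σ : E0 →ₐ[A] ResidueField E :=
      { toFun := c
        map_one' := hinj (by rw [hc, map_one]; exact map_one _)
        map_mul' := fun x y => hinj (by rw [map_mul, hc, hc, hc]; exact map_mul _ _ _)
        map_zero' := hinj (by rw [hc, map_zero]; exact map_zero _)
        map_add' := fun x y => hinj (by rw [map_add, hc, hc, hc]; exact map_add _ _ _)
        commutes' := fun a => hinj (by rw [hc]; rfl) }
    obtain ⟨ψ, hψ, -⟩ := Groth.Agent.H9Hens.essentiallyEtale_existsUnique_lift (B := E) hE0 σ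
    have heq : E.val.comp ψ = E0.val := Groth.Agent.H9Hens.essentiallyEtale_hom_ext hE0 fun x => by
      show residue S ((ψ x : E) : S) = residue S (x : S)
      rw [← hc x]
      show ResidueField.map (algebraMap E S) (residue E (ψ x)) = _
      rw [hψ]; rfl
    intro x hx
    rw [show x = E.val (ψ ⟨x, hx⟩) from (congr($heq (⟨x, hx⟩ : E0))).symm]
    exact (ψ ⟨x, hx⟩).2
  -- the splitting of `f` in `K`
  let j : S →ₐ[A] K := IsScalarTower.toAlgHom A S K
  let θK : K := j θ
  have hnsplit : ((minpoly k θb).map (algebraMap k ks)).Splits := Normal.splits inferInstance θb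
  let Z : Finset ks := ((minpoly k θb).map (algebraMap k ks)).roots.toFinset
  have hZ : ∀ z ∈ Z, aeval z (minpoly k θb) = 0 := fun z hz => by
    rw [Multiset.mem_toFinset, mem_roots ((minpoly.monic hθi).map _).ne_zero, IsRoot, eval_map, ← aeval_def] at hz
    exact hz
  choose! lift hlift1 hlift2 using fun z (hz : z ∈ Z) => hroots z (hZ z hz)
  let fK := f.map (algebraMap A K)
  have hfK : fK.Monic := hf.map _
  let RK : Finset K := Z.image fun z => j (lift z)
  have hRKcard : fK.natDegree ≤ RK.card := by
    rw [Finset.card_image_of_injOn fun z hz z' hz' h => by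
      rw [← hlift2 z hz, ← hlift2 z' hz', show ((lift z : E) : S) = lift z' from hSK h],
      show fK.natDegree = f.natDegree from hf.natDegree_map _,
      show f.natDegree = (minpoly k θb).natDegree from natDegree_eq_natDegree hfdeg]
    rw [Multiset.toFinset_card_of_nodup (nodup_roots hsep.map), ← hnsplit.natDegree_eq_card_roots, natDegree_map]
  have hRKroot : ∀ y ∈ RK, y ∈ fK.roots := fun y hy => by
    obtain ⟨z, hz, rfl⟩ := Finset.mem_image.mp hy
    rw [mem_roots hfK.ne_zero, IsRoot, eval_map, ← aeval_def, aeval_algHom_apply, hlift1 z hz, map_zero]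
  have hsub : RK.val ≤ fK.roots := (Multiset.le_iff_subset RK.nodup).mpr hRKroot
  have hrootsEq : RK.val = fK.roots := Multiset.eq_of_le_of_card_le hsub ((card_roots' fK).trans hRKcard)
  have hfsplit : fK.Splits := splits_iff_card_roots.mpr (le_antisymm (card_roots' fK) (hRKcard.trans (Multiset.card_le_card hsub)))
  let jE : E →+* K := (j.comp E.val).toRingHom
  have hdvd : ∀ g : K[X], g.Monic → g ∣ fK → ∀ i, g.coeff i ∈ Set.range jE := fun g hg hd i => by
    have hgs : g.Splits := hfsplit.of_dvd hfK.ne_zero hd
    have := hgs.mem_lift_of_roots_mem_range hg jE fun y hy => by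
      have hy' : y ∈ RK.val := hrootsEq ▸ Multiset.mem_of_le (roots.le_of_dvd hfK.ne_zero hd) hy
      obtain ⟨z, -, rfl⟩ := Finset.mem_image.mp hy'
      exact ⟨lift z, rfl⟩
    exact (lifts_iff_coeff_lifts _).mp this i
  -- the field `L`
  let L : IntermediateField KA K :=
    Subfield.toIntermediateField (Subfield.closure (Set.range (algebraMap A K) ∪ (t : Set K))) fun x => by
      obtain ⟨a, b, hb, rfl⟩ := IsFractionRing.div_surjective A x
      rw [map_div₀, ← IsScalarTower.algebraMap_apply, ← IsScalarTower.algebraMap_apply]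
      exact Subfield.div_mem _ (Subfield.subset_closure (Or.inl ⟨a, rfl⟩)) (Subfield.subset_closure (Or.inl ⟨b, rfl⟩))
  haveI : IsScalarTower A L K := IsScalarTower.of_algebraMap_eq fun a => rfl
  have hθA : IsIntegral A θK := IsIntegral.map j (show IsIntegral A θ from ⟨f, hf, hfθ⟩)
  have hθKint : IsIntegral L θK := hθA.tower_top
  let g := minpoly L θK
  have hg : g.Monic := minpoly.monic hθKint
  have hgdvd : g.map (algebraMap L K) ∣ fK := by
    have h0 : aeval θK (f.map (algebraMap A L)) = 0 := by
      rw [aeval_map_algebraMap, aeval_algHom_apply, hfθ, map_zero]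
    have := Polynomial.map_dvd (algebraMap L K) (minpoly.dvd L θK h0)
    rwa [Polynomial.map_map, ← IsScalarTower.algebraMap_eq] at this
  choose co hco using fun i => hdvd _ (hg.map _) hgdvd i
  let A' : Subalgebra A S := Algebra.adjoin A (Set.range fun i => ((co i : E) : S))
  have hA'E : A' ≤ E := Algebra.adjoin_le (Set.range_subset_iff.mpr fun i => (co i).2)
  let P : Subalgebra A S := (L.toSubalgebra.restrictScalars A).comap j
  have hA'P : A' ≤ P := Algebra.adjoin_le (Set.range_subset_iff.mpr fun i => by
    show j (co i : S) ∈ L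
    have : jE (co i) = (g.map (algebraMap L K)).coeff i := hco i
    rw [coeff_map] at this
    exact this ▸ (g.coeff i).2)
  letI : Algebra A' E := (Subalgebra.inclusion hA'E).toRingHom.toAlgebra
  haveI : IsScalarTower A A' E := IsScalarTower.of_algebraMap_eq fun a => rfl
  let g' : A'[X] := ∑ i ∈ Finset.range (g.natDegree + 1), monomial i ⟨(co i : S), Algebra.subset_adjoin ⟨i, rfl⟩⟩
  have hjA : Function.Injective (fun x : A' => j (x : S)) := hSK.comp Subtype.val_injective
  let jA : A' →+* L := RingHom.codRestrict ((j.comp A'.val).toRingHom) L fun x => hA'P x.2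
  have hjAinj : Function.Injective jA := fun x y h => hjA (congrArg Subtype.val h)
  have hg' : g'.map jA = g := by
    rw [Polynomial.map_sum]
    conv_rhs => rw [g.as_sum_range]
    refine Finset.sum_congr rfl fun i _ => ?_
    rw [map_monomial]
    congr 1
    refine Subtype.ext ?_
    show jE (co i) = _
    rw [hco i, coeff_map]
    rfl
  have hg'm : g'.Monic := monic_of_injective hjAinj (hg' ▸ hg)
  have hg'deg : g'.natDegree = g.natDegree := by rw [← hg', natDegree_map_eq_of_injective hjAinj]
  have hmapθ : ∀ p : A'[X], j ((aeval θE p : E) : S) = aeval θK (p.map jA) := fun p => by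
    induction p using Polynomial.induction_on' with
    | add p q hp hq => rw [map_add, Subalgebra.coe_add, map_add, hp, hq, Polynomial.map_add, map_add]
    | monomial n a =>
      rw [aeval_monomial, map_monomial, aeval_monomial, Subalgebra.coe_mul, map_mul, Subalgebra.coe_pow, map_pow]
      rfl
  have hg'θ : aeval θE g' = 0 := Subtype.ext (hSK (by
    show j _ = j 0
    rw [hmapθ, hg', minpoly.aeval, map_zero]))
  have hspan : ∀ e : E, ∃ p : A'[X], p.degree < g'.degree ∧ aeval θE p = e := fun e => by
    obtain ⟨p, hp⟩ : (e : S) ∈ (aeval (R := A) θ).range := (Algebra.adjoin_singleton_eq_range_aeval A θ).le e.2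
    refine ⟨(p.map (algebraMap A A')) %ₘ g', degree_modByMonic_lt _ hg'm, ?_⟩
    rw [modByMonic_eq_sub_mul_div, map_sub, map_mul, hg'θ, zero_mul, sub_zero, aeval_map_algebraMap]
    exact Subtype.ext ((coe_aeval θE p).trans hp)
  have hindep : ∀ p : A'[X], p.degree < g'.degree → aeval θE p = 0 → p = 0 := fun p hp h => by
    refine map_injective jA hjAinj ?_
    rw [Polynomial.map_zero]
    by_contra hne
    refine (minpoly.degree_le_of_ne_zero L θK hne ?_).not_gt ?_
    · rw [← hmapθ, h]; exact map_zero j
    · rw [degree_map_eq_of_injective hjAinj, show (minpoly L θK).degree = g'.degree from by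
        rw [show minpoly L θK = g from rfl, ← hg', degree_map_eq_of_injective hjAinj]]
      exact hp
  haveI : Module.Free A' E := by
    let Φ : (AdjoinRoot g') →ₐ[A'] E := AdjoinRoot.liftAlgHom g' (Algebra.ofId A' E) θE hg'θ
    have hΦ : Function.Bijective Φ := by
      refine ⟨(injective_iff_map_eq_zero Φ).mpr fun x hx => ?_, fun e => ?_⟩
      · obtain ⟨p, rfl⟩ := AdjoinRoot.mk_surjective x
        have h1 : AdjoinRoot.mk g' p = AdjoinRoot.mk g' (p %ₘ g') := AdjoinRoot.mk_eq_mk.mpr ⟨p /ₘ g', by
          rw [modByMonic_eq_sub_mul_div]; ring⟩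
        rw [h1] at hx ⊢
        rw [hindep _ (degree_modByMonic_lt _ hg'm) (by simpa [Φ, aeval_def] using hx), map_zero]
      · obtain ⟨p, -, rfl⟩ := hspan e
        exact ⟨AdjoinRoot.mk g' p, by simp [Φ, aeval_def]⟩
    haveI := hg'm.free_adjoinRoot
    exact Module.Free.of_equiv (AlgEquiv.ofBijective Φ hΦ).toLinearEquiv
  haveI : Module.Flat A' E := inferInstance
  haveI : Nontrivial E := inferInstance
  haveI : Module.FaithfullyFlat A' E := inferInstance
  have hA'unit : ∀ x : A', IsUnit (algebraMap A' E x) → IsUnit x := fun x hx => by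
    rw [← Ideal.span_singleton_eq_top, ← Ideal.comap_map_eq_self_of_faithfullyFlat (B := E) (Ideal.span {x}),
      Ideal.map_span, Set.image_singleton, Ideal.span_singleton_eq_top.mpr hx, Ideal.comap_top]
  haveI : IsLocalRing A' := IsLocalRing.of_isUnit_or_isUnit_one_sub_self fun x => by
    rcases IsLocalRing.isUnit_or_isUnit_one_sub_self (algebraMap A' E x) with h | h
    · exact Or.inl (hA'unit x h)
    · exact Or.inr (hA'unit (1 - x) (by rwa [map_sub, map_one]))
  haveI : IsLocalHom (algebraMap A' S) := ⟨fun x hx => hA'unit x ((isUnit_map_iff (algebraMap E S) _).mp hx)⟩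
  haveI : IsLocalHom (algebraMap A' E) := ⟨hA'unit⟩
  haveI : Module.Finite A A' := Module.Finite.of_injective (Subalgebra.inclusion hA'E).toLinearMap (Subalgebra.inclusion_injective hA'E)
  have hmA' : Ideal.map (algebraMap A A') (maximalIdeal A) = maximalIdeal A' := by
    rw [← Ideal.comap_map_eq_self_of_faithfullyFlat (B := E) (Ideal.map (algebraMap A A') (maximalIdeal A)),
      Ideal.map_map, ← IsScalarTower.algebraMap_eq, hmE]
    exact ((local_hom_TFAE (algebraMap A' E)).out 0 4 rfl rfl).mp inferInstance
  have hA'et : EGA4loc.IsEssentiallyEtale A A' := EssEtSub.of_essFiniteType A' hmA'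
  haveI := EssEtFG.faithfullyFlat_of_isEssentiallyEtale A' hA'et
  refine ⟨A', Set.ext fun x => ⟨fun hx => hA'P hx, fun hx => ?_⟩, inferInstance, inferInstance, hA'et⟩
  -- `x ∈ L` is a fraction with denominator in `A`
  have hxL : j x ∈ L := hx
  let F : IntermediateField KA K := IntermediateField.adjoin KA {θK}
  have hEF : ∀ e ∈ E, j e ∈ F := fun e he => by
    induction he using Algebra.adjoin_induction with
    | mem y hy => rw [Set.mem_singleton_iff.mp hy]; exact IntermediateField.mem_adjoin_simple_self _ _
    | algebraMap a => rw [j.commutes, IsScalarTower.algebraMap_apply A KA K]; exact F.algebraMap_mem _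
    | add y z _ _ h h' => rw [map_add]; exact F.add_mem h h'
    | mul y z _ _ h h' => rw [map_mul]; exact F.mul_mem h h'
  have hLF : L ≤ F := by
    show Subfield.closure _ ≤ F.toSubfield
    refine Subfield.closure_le.mpr ?_
    rintro y (⟨a, rfl⟩ | hy')
    · show algebraMap A K a ∈ F
      rw [IsScalarTower.algebraMap_apply A KA K]; exact F.algebraMap_mem _
    · show y ∈ F
      rw [hy y]
      exact F.div_mem (hEF _ (hE0E (hsE0 (Finset.mem_union_left _ (Finset.mem_image_of_mem _ hy')))))
        (hEF _ (hE0E (hsE0 (Finset.mem_union_right _ (Finset.mem_image_of_mem _ hy')))))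
  have hxF : j x ∈ F := hLF hxL
  rw [← IntermediateField.mem_toSubalgebra, IntermediateField.adjoin_simple_toSubalgebra_of_isAlgebraic
      ((hθA.tower_top : IsIntegral KA θK).isAlgebraic),
    Algebra.adjoin_singleton_eq_range_aeval] at hxF
  obtain ⟨p, hp⟩ := hxF
  obtain ⟨c, hc⟩ := IsLocalization.integerNormalization_map_to_map (nonZeroDivisors A) p
  let pn := IsLocalization.integerNormalization (nonZeroDivisors A) p
  obtain ⟨r, hr, hrθ⟩ := hspan (aeval θE pn)
  have hcx : j ((aeval θE pn : E) : S) = algebraMap A K c * j x := by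
    rw [coe_aeval, ← aeval_algHom_apply]
    show aeval θK pn = _
    rw [← aeval_map_algebraMap KA, hc, AlgHom.map_smul_of_tower, show aeval θK p = j x from hp, Algebra.smul_def]
  have hcL : algebraMap A K c * j x ∈ L :=
    L.mul_mem (by rw [IsScalarTower.algebraMap_apply A KA K]; exact L.algebraMap_mem _) hxL
  have hr0 : r.map jA - C (⟨_, hcL⟩ : L) = 0 := by
    by_contra hne
    refine (minpoly.degree_le_of_ne_zero L θK hne ?_).not_gt ?_
    · rw [map_sub, aeval_C, ← hmapθ, hrθ, hcx]
      exact sub_self _
    · rw [show (minpoly L θK).degree = g'.degree from by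
        rw [show minpoly L θK = g from rfl, ← hg', degree_map_eq_of_injective hjAinj]]
      refine lt_of_le_of_lt (degree_sub_le _ _) (max_lt (by rwa [degree_map_eq_of_injective hjAinj]) ?_)
      refine lt_of_le_of_lt degree_C_le ?_
      rw [degree_eq_natDegree hg'm.ne_zero, hg'deg]
      exact_mod_cast minpoly.natDegree_pos hθKint
  have hc0 := congrArg (fun q : L[X] => (q.coeff 0 : K)) hr0
  simp only [coeff_sub, coeff_map, coeff_C_zero, coeff_zero] at hc0
  have h1 : ((r.coeff 0 : A') : S) = algebraMap A S c * x := hSK (by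
    have h2 : j ((r.coeff 0 : A') : S) - algebraMap A K c * j x = 0 := hc0
    rw [sub_eq_zero] at h2
    show j _ = j _
    rw [h2, map_mul, j.commutes])
  have h2 : r.coeff 0 ∈ Ideal.span {algebraMap A A' c} := by
    rw [← Ideal.comap_map_eq_self_of_faithfullyFlat (B := S) (Ideal.span {algebraMap A A' c}),
      Ideal.mem_comap, Ideal.map_span, Set.image_singleton, Ideal.mem_span_singleton']
    exact ⟨x, by rw [← IsScalarTower.algebraMap_apply, mul_comm]; exact h1.symm⟩
  obtain ⟨y, hy'⟩ := Ideal.mem_span_singleton'.mp h2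
  have hc' : algebraMap A S c ≠ 0 := (map_ne_zero_iff _ hAS).mpr (nonZeroDivisors.ne_zero c.2)
  have h4 : (y : S) * algebraMap A S c = algebraMap A S c * x := (congrArg Subtype.val hy').trans h1
  rw [mul_comm] at h4
  rw [← mul_left_cancel₀ hc' h4]
  exact y.2

end Groth.Agent.H05EGA4.EssEtHensel
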