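import Mathlib
import Groth.Agent.H05EGA4.EssEtFG
import Groth.Agent.H3CAlg.FlatAdic
import Groth.Agent.S0400

/-!
Noetherian subalgebras of a strict henselization with finitely generated ring of fractions.
-/

set_option autoImplicit false
set_option backward.isDefEq.respectTransparency false
set_option linter.style.haveILetI false
universe u
open IsLocalRing TensorProduct

namespace Groth.Agent.H05EGA4.EssEtNoeth

theorem flat_of_isField {K M : Type u} [CommRing K] (h : IsField K) [AddCommGroup M] [Module K M] :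
    Module.Flat K M := by
  letI := h.toField
  infer_instance

theorem flat_of_isNilpotent {R D E : Type u} [CommRing R] [CommRing D] [CommRing E] [IsLocalRing R]
    [IsLocalRing D] [IsLocalRing E] [Algebra R D] [Algebra D E] [Algebra R E] [IsScalarTower R D E]
    [IsLocalHom (algebraMap R D)] [IsLocalHom (algebraMap D E)] (hR : IsNilpotent (maximalIdeal R))
    [Algebra.EssFiniteType R D] [Algebra.IsSeparable (ResidueField R) (ResidueField D)]
    (hm : (maximalIdeal R).map (algebraMap R D) = maximalIdeal D) [Module.Flat R E] : Module.Flat D E := by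
  obtain ⟨P, q, _, φ, hφ⟩ := Groth.Agent.H9Hens.exists_standardEtale_surjection R D hm
  let B := Localization.AtPrime q
  haveI : IsLocalHom φ.toRingHom := Function.Surjective.isLocalHom φ.toRingHom hφ
  haveI : IsLocalHom (algebraMap R B) := ⟨fun a ha => by
    have := ha.map φ
    rw [φ.commutes] at this
    exact (isUnit_map_iff (algebraMap R D) a).mp this⟩
  have hmB : (maximalIdeal R).map (algebraMap R B) = maximalIdeal B :=
    (Algebra.FormallyUnramified.iff_map_maximalIdeal_eq (R := R) (S := B)).mp inferInstance |>.2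
  letI : Algebra B E := ((algebraMap D E).comp φ.toRingHom).toAlgebra
  haveI : IsScalarTower R B E := IsScalarTower.of_algebraMap_eq fun r => by
    show _ = algebraMap D E (φ (algebraMap R B r))
    rw [φ.commutes, ← IsScalarTower.algebraMap_apply]
  haveI : IsLocalHom (algebraMap B E) := RingHom.isLocalHom_comp (algebraMap D E) φ.toRingHom
  haveI : ((maximalIdeal R).map (algebraMap R B)).IsMaximal := hmB ▸ maximalIdeal.isMaximal B
  haveI : Module.Flat B E := Groth.Agent.S0400.result (R := R) (S := B) (M := E) (maximalIdeal R) hR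
    (flat_of_isField ((Ideal.Quotient.maximal_ideal_iff_isField_quotient _).mp inferInstance))
  haveI : Module.FaithfullyFlat B E := Module.FaithfullyFlat.of_flat_of_isLocalHom
  have hinj : Function.Injective φ :=
    Function.Injective.of_comp (f := algebraMap D E) (FaithfulSMul.algebraMap_injective B E)
  let e := RingEquiv.ofBijective φ.toRingHom ⟨hinj, hφ⟩
  rw [← RingHom.flat_algebraMap_iff]
  have h3 : algebraMap D E = (algebraMap B E).comp e.symm.toRingHom := by
    ext x
    show _ = algebraMap D E (e (e.symm x))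
    rw [e.apply_symm_apply]
  rw [h3]
  exact RingHom.Flat.comp (RingHom.Flat.of_bijective e.symm.bijective) (RingHom.flat_algebraMap_iff.mpr inferInstance)

theorem finite_of_residueField {A Q : Type u} [CommRing A] [CommRing Q] [IsLocalRing A] [IsLocalRing Q]
    [Algebra A Q] [IsLocalHom (algebraMap A Q)] [Module.Finite (ResidueField A) (ResidueField Q)]
    (hm : (maximalIdeal A).map (algebraMap A Q) = maximalIdeal Q) (n : ℕ) (hn : maximalIdeal Q ^ n = ⊥) :
    Module.Finite A Q := by
  classical
  obtain ⟨s, hs⟩ := (Module.Finite.fg_top : (⊤ : Submodule (ResidueField A) (ResidueField Q)).FG)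
  choose g hg using fun y : ResidueField Q => residue_surjective y
  let N : Submodule A Q := Submodule.span A (s.image g : Set Q)
  have h1 : ∀ x : Q, x ∈ N ⊔ maximalIdeal A • (⊤ : Submodule A Q) := by
    intro x
    have key : ∀ y ∈ Submodule.span (ResidueField A) (s : Set (ResidueField Q)), ∃ z ∈ N, residue Q z = y := by
      intro y hy
      induction hy using Submodule.span_induction with
      | mem y hy => exact ⟨g y, Submodule.subset_span (Finset.mem_coe.mpr (Finset.mem_image.mpr ⟨y, hy, rfl⟩)), hg y⟩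
      | zero => exact ⟨0, Submodule.zero_mem _, map_zero _⟩
      | add y y' _ _ h h' =>
        obtain ⟨z, hz, rfl⟩ := h
        obtain ⟨z', hz', rfl⟩ := h'
        exact ⟨z + z', Submodule.add_mem _ hz hz', map_add _ _ _⟩
      | smul c y _ h =>
        obtain ⟨z, hz, rfl⟩ := h
        obtain ⟨a, rfl⟩ := residue_surjective c
        refine ⟨a • z, Submodule.smul_mem _ _ hz, ?_⟩
        rw [Algebra.smul_def, map_mul, Algebra.smul_def]
        rfl
    obtain ⟨z, hz, hzx⟩ := key (residue Q x) (by rw [hs]; trivial)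
    have h2 : x - z ∈ maximalIdeal A • (⊤ : Submodule A Q) := by
      rw [Ideal.smul_top_eq_map, hm]
      exact (residue_eq_zero_iff _).mp (by rw [map_sub, hzx, sub_self])
    rw [← add_sub_cancel z x]
    exact Submodule.add_mem _ (Submodule.mem_sup_left hz) (Submodule.mem_sup_right h2)
  have h2 : ∀ i, (⊤ : Submodule A Q) ≤ N ⊔ maximalIdeal A ^ i • ⊤ := by
    intro i
    induction i with
    | zero => rw [pow_zero, Ideal.one_eq_top, Submodule.top_smul]; exact le_sup_right
    | succ i ih =>
      refine ih.trans (sup_le le_sup_left ?_)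
      calc maximalIdeal A ^ i • (⊤ : Submodule A Q)
          ≤ maximalIdeal A ^ i • (N ⊔ maximalIdeal A • ⊤) := Submodule.smul_mono le_rfl fun x _ => h1 x
        _ ≤ N ⊔ maximalIdeal A ^ (i + 1) • ⊤ := by
          rw [Submodule.smul_sup, pow_succ, mul_smul]
          exact sup_le_sup_right Submodule.smul_le_right _
  refine ⟨⟨s.image g, top_le_iff.mp ((h2 n).trans ?_)⟩⟩
  rw [Ideal.smul_top_eq_map, Ideal.map_pow, hm, hn]
  exact le_of_eq (by simp [N])

theorem flat_quotient {A D E : Type u} [CommRing A] [CommRing D] [CommRing E] [IsLocalRing A]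
    [IsLocalRing D] [IsLocalRing E] [Algebra A D] [Algebra D E] [Algebra A E] [IsScalarTower A D E]
    [IsLocalHom (algebraMap A D)] [IsLocalHom (algebraMap D E)]
    [Module.Finite (ResidueField A) (ResidueField D)] [Algebra.IsSeparable (ResidueField A) (ResidueField D)]
    (hm : (maximalIdeal A).map (algebraMap A D) = maximalIdeal D) [Module.Flat A E] (n : ℕ) (hn : 0 < n) :
    Module.Flat (D ⧸ maximalIdeal D ^ n) (E ⧸ (maximalIdeal D ^ n).map (algebraMap D E)) := by
  let I := maximalIdeal A ^ n
  let J := maximalIdeal D ^ n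
  let K := J.map (algebraMap D E)
  have hJ : I.map (algebraMap A D) = J := by rw [Ideal.map_pow, hm]
  have hK : I.map (algebraMap A E) = K := by
    rw [IsScalarTower.algebraMap_eq A D E, ← Ideal.map_map, hJ]
  have hIne : I ≠ ⊤ := fun h => (maximalIdeal.isMaximal A).ne_top (top_le_iff.mp (h ▸ Ideal.pow_le_self hn.ne'))
  have hJne : J ≠ ⊤ := fun h => (maximalIdeal.isMaximal D).ne_top (top_le_iff.mp (h ▸ Ideal.pow_le_self hn.ne'))
  have hKne : K ≠ ⊤ := fun h => (maximalIdeal.isMaximal E).ne_top (top_le_iff.mp (h ▸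
    (Ideal.map_mono (Ideal.pow_le_self hn.ne')).trans (((local_hom_TFAE (algebraMap D E)).out 0 2 rfl rfl).mp inferInstance)))
  haveI : Nontrivial (A ⧸ I) := Ideal.Quotient.nontrivial_iff.mpr hIne
  haveI : Nontrivial (D ⧸ J) := Ideal.Quotient.nontrivial_iff.mpr hJne
  haveI : Nontrivial (E ⧸ K) := Ideal.Quotient.nontrivial_iff.mpr hKne
  haveI : IsLocalRing (A ⧸ I) := .of_surjective' (Ideal.Quotient.mk I) Ideal.Quotient.mk_surjective
  haveI : IsLocalRing (D ⧸ J) := .of_surjective' (Ideal.Quotient.mk J) Ideal.Quotient.mk_surjective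
  haveI : IsLocalRing (E ⧸ K) := .of_surjective' (Ideal.Quotient.mk K) Ideal.Quotient.mk_surjective
  haveI : IsLocalHom (Ideal.Quotient.mk I) := Function.Surjective.isLocalHom _ Ideal.Quotient.mk_surjective
  haveI : IsLocalHom (Ideal.Quotient.mk J) := Function.Surjective.isLocalHom _ Ideal.Quotient.mk_surjective
  haveI : IsLocalHom (Ideal.Quotient.mk K) := Function.Surjective.isLocalHom _ Ideal.Quotient.mk_surjective
  let f₁ : A ⧸ I →+* D ⧸ J := Ideal.quotientMap J (algebraMap A D) (Ideal.map_le_iff_le_comap.mp hJ.le)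
  let f₂ : D ⧸ J →+* E ⧸ K := Ideal.quotientMap K (algebraMap D E) (Ideal.map_le_iff_le_comap.mp le_rfl)
  algebraize [f₁, f₂, f₂.comp f₁]
  haveI : IsScalarTower A (A ⧸ I) (E ⧸ K) := IsScalarTower.of_algebraMap_eq fun a =>
    congrArg (Ideal.Quotient.mk K) (IsScalarTower.algebraMap_apply A D E a)
  haveI : IsScalarTower A (A ⧸ I) (D ⧸ J) := IsScalarTower.of_algebraMap_eq fun a => rfl
  have hmI : maximalIdeal (A ⧸ I) = (maximalIdeal A).map (Ideal.Quotient.mk I) := by
    refine le_antisymm (fun x hx => ?_) (((local_hom_TFAE (Ideal.Quotient.mk I)).out 0 2 rfl rfl).mp inferInstance)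
    obtain ⟨a, rfl⟩ := Ideal.Quotient.mk_surjective x
    exact Ideal.mem_map_of_mem _ ((mem_maximalIdeal _).mpr fun h => (mem_maximalIdeal _).mp hx (h.map _))
  have hmJ : maximalIdeal (D ⧸ J) = (maximalIdeal D).map (Ideal.Quotient.mk J) := by
    refine le_antisymm (fun x hx => ?_) (((local_hom_TFAE (Ideal.Quotient.mk J)).out 0 2 rfl rfl).mp inferInstance)
    obtain ⟨a, rfl⟩ := Ideal.Quotient.mk_surjective x
    exact Ideal.mem_map_of_mem _ ((mem_maximalIdeal _).mpr fun h => (mem_maximalIdeal _).mp hx (h.map _))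
  have hm' : (maximalIdeal (A ⧸ I)).map (algebraMap (A ⧸ I) (D ⧸ J)) = maximalIdeal (D ⧸ J) := by
    rw [hmI, hmJ, ← hm, Ideal.map_map, Ideal.map_map]
    rfl
  haveI : IsLocalHom (algebraMap (A ⧸ I) (D ⧸ J)) :=
    ((local_hom_TFAE (algebraMap (A ⧸ I) (D ⧸ J))).out 0 2 rfl rfl).mpr hm'.le
  haveI : IsLocalHom (algebraMap (D ⧸ J) (E ⧸ K)) := by
    refine ((local_hom_TFAE (algebraMap (D ⧸ J) (E ⧸ K))).out 0 2 rfl rfl).mpr ?_
    rw [hmJ, Ideal.map_map]
    show (maximalIdeal D).map ((Ideal.Quotient.mk K).comp (algebraMap D E)) ≤ _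
    exact ((local_hom_TFAE ((Ideal.Quotient.mk K).comp (algebraMap D E))).out 0 2 rfl rfl).mp inferInstance
  haveI : IsLocalHom (algebraMap A (D ⧸ J)) := RingHom.isLocalHom_comp (Ideal.Quotient.mk J) (algebraMap A D)
  let fk : ResidueField D →ₐ[ResidueField A] ResidueField (D ⧸ J) :=
    { ResidueField.map (Ideal.Quotient.mk J) with
      commutes' := fun c => by obtain ⟨a, rfl⟩ := residue_surjective c; rfl }
  have hfk : Function.Surjective fk := fun y => by
    obtain ⟨x, rfl⟩ := residue_surjective y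
    obtain ⟨d, rfl⟩ := Ideal.Quotient.mk_surjective x
    exact ⟨residue D d, rfl⟩
  haveI : Module.Finite (ResidueField A) (ResidueField (D ⧸ J)) := Module.Finite.of_surjective fk.toLinearMap hfk
  haveI : Module.Finite A (D ⧸ J) := by
    refine finite_of_residueField ?_ n ?_
    · rw [IsScalarTower.algebraMap_eq A D (D ⧸ J), ← Ideal.map_map, hm, hmJ]; rfl
    · rw [hmJ, ← Ideal.map_pow, Ideal.map_quotient_self]
  haveI : Module.Finite (A ⧸ I) (D ⧸ J) := Module.Finite.of_restrictScalars_finite A _ _
  let eA : ResidueField A ≃+* ResidueField (A ⧸ I) := RingEquiv.ofBijective (ResidueField.map (Ideal.Quotient.mk I))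
    ⟨RingHom.injective _, fun y => by
      obtain ⟨x, rfl⟩ := residue_surjective y
      obtain ⟨a, rfl⟩ := Ideal.Quotient.mk_surjective x
      exact ⟨residue A a, rfl⟩⟩
  haveI : Algebra.IsSeparable (ResidueField (A ⧸ I)) (ResidueField (D ⧸ J)) := by
    refine Algebra.IsSeparable.of_equiv_equiv eA
      (RingEquiv.ofBijective fk.toRingHom ⟨RingHom.injective _, hfk⟩) ?_
    ext a
    obtain ⟨a, rfl⟩ := residue_surjective a
    rfl
  haveI : Module.Flat (A ⧸ I) (E ⧸ K) := by
    let e₁ : (A ⧸ I) ⊗[A] E ≃ₗ[A] E ⧸ (I • ⊤ : Submodule A E) := TensorProduct.quotTensorEquivQuotSMul E I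
    let e₂ : (E ⧸ (I • ⊤ : Submodule A E)) ≃ₗ[A] E ⧸ K :=
      (Submodule.quotEquivOfEq _ (K.restrictScalars A) (by rw [Ideal.smul_top_eq_map, hK])).trans
        (Submodule.Quotient.restrictScalarsEquiv A K)
    exact Module.Flat.of_linearEquiv ((e₁.trans e₂).extendScalarsOfSurjective Ideal.Quotient.mk_surjective).symm
  exact flat_of_isNilpotent (R := A ⧸ I) ⟨n, by rw [hmI, ← Ideal.map_pow, Ideal.map_quotient_self, Ideal.zero_eq_bot]⟩ hm'

theorem flat_of_map_maximalIdeal {A D E : Type u} [CommRing A] [CommRing D] [CommRing E] [IsLocalRing A]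
    [IsLocalRing D] [IsLocalRing E] [Algebra A D] [Algebra D E] [Algebra A E] [IsScalarTower A D E]
    [IsLocalHom (algebraMap A D)] [IsLocalHom (algebraMap D E)] [IsNoetherianRing D] [IsNoetherianRing E]
    [Module.Finite (ResidueField A) (ResidueField D)] [Algebra.IsSeparable (ResidueField A) (ResidueField D)]
    (hm : (maximalIdeal A).map (algebraMap A D) = maximalIdeal D) [Module.Flat A E] : Module.Flat D E := by
  refine Groth.Agent.H3CAlg.flat_of_flat_quotient_pow (S := E) (maximalIdeal D) ?_ fun n hn => ?_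
  · rw [jacobson_eq_maximalIdeal _ bot_ne_top]
    exact ((local_hom_TFAE (algebraMap D E)).out 0 2 rfl rfl).mp inferInstance
  · haveI := flat_quotient (E := E) hm n hn
    exact Groth.Agent.H3CAlg.flat_tensor_of_flat_quotient _

/-- The evaluation map of the base change. -/
noncomputable def mu (A D E C : Type u) [CommRing A] [CommRing D] [CommRing E] [CommRing C]
    [Algebra A D] [Algebra D E] [Algebra A E] [IsScalarTower A D E]
    [Algebra A C] [Algebra C E] [IsScalarTower A C E] : D ⊗[A] C →ₐ[D] E :=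
  Algebra.TensorProduct.lift (Algebra.ofId D E) (IsScalarTower.toAlgHom A C E) fun _ _ => Commute.all _ _

theorem exists_ann {A D E C : Type u} [CommRing A] [CommRing D] [CommRing E] [CommRing C]
    [IsLocalRing D] [IsLocalRing E] [IsNoetherianRing D]
    [Algebra A D] [Algebra D E] [Algebra A E] [IsScalarTower A D E] [IsLocalHom (algebraMap D E)]
    [Algebra A C] [Algebra.Etale A C] [Algebra C E] [IsScalarTower A C E]
    (q : Ideal C) [q.IsPrime] [IsLocalization.AtPrime E q] [Module.Flat D E] :
    ∃ t : D ⊗[A] C, IsUnit (mu A D E C t) ∧ ∀ x, mu A D E C x = 0 → t * x = 0 := by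
  classical
  let C' := D ⊗[A] C
  let μ := mu A D E C
  let Q := (maximalIdeal E).comap μ.toRingHom
  haveI : Q.IsPrime := inferInstance
  let P := Localization.AtPrime Q
  have hu : ∀ y : Q.primeCompl, IsUnit (μ y) := fun y => notMem_maximalIdeal.mp y.2
  let ψ : P →ₐ[D] E := IsLocalization.liftAlgHom (M := Q.primeCompl) (f := μ) hu
  have hψ : ∀ x, ψ (algebraMap C' P x) = μ x := fun x => IsLocalization.lift_eq _ x
  have hμC : ∀ c : C, μ (1 ⊗ₜ c) = algebraMap C E c := fun c => by simp [μ, mu]
  have hsurj : Function.Surjective ψ := fun e => by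
    obtain ⟨c, s, rfl⟩ := IsLocalization.exists_mk'_eq q.primeCompl e
    have hs : (1 : D) ⊗ₜ[A] (s : C) ∈ Q.primeCompl := fun h =>
      (mem_maximalIdeal _).mp (show μ (1 ⊗ₜ (s : C)) ∈ maximalIdeal E from h)
        (by rw [hμC]; exact IsLocalization.map_units E s)
    refine ⟨IsLocalization.mk' P ((1 : D) ⊗ₜ[A] c) (⟨_, hs⟩ : Q.primeCompl), ?_⟩
    refine IsLocalization.eq_mk'_iff_mul_eq.mpr ?_
    rw [← hμC, ← hμC, ← hψ, ← hψ, ← map_mul, IsLocalization.mk'_spec]
  haveI : IsLocalHom (algebraMap D P) := ⟨fun a ha => by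
    have := ha.map ψ
    rw [ψ.commutes] at this
    exact (isUnit_map_iff (algebraMap D E) a).mp this⟩
  haveI : Algebra.EssFiniteType D P := Algebra.EssFiniteType.comp D C' P
  haveI : Algebra.FormallyUnramified D P := Algebra.FormallyUnramified.comp D C' P
  have hmP : (maximalIdeal D).map (algebraMap D P) = maximalIdeal P :=
    (Algebra.FormallyUnramified.iff_map_maximalIdeal_eq (R := D) (S := P)).mp inferInstance |>.2
  haveI : IsNoetherianRing C' := Algebra.FiniteType.isNoetherianRing D C'
  haveI : IsNoetherianRing P := IsLocalization.isNoetherianRing Q.primeCompl P inferInstance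
  set J := RingHom.ker ψ.toRingHom
  have hJ : J = ⊥ := by
    refine Submodule.eq_bot_of_le_smul_of_le_jacobson_bot (maximalIdeal P) J
      (IsNoetherian.noetherian J) ?_ (maximalIdeal_le_jacobson ⊥)
    intro x hx
    have hxm : x ∈ maximalIdeal P := IsLocalRing.le_maximalIdeal (RingHom.ker_ne_top ψ.toRingHom) hx
    rw [← hmP] at hxm
    have h1 : x ∈ LinearMap.ker ψ.toLinearMap ⊓ (maximalIdeal D • (⊤ : Submodule D P)) :=
      ⟨hx, by rw [Ideal.smul_top_eq_map]; exact hxm⟩
    rw [LinearMap.ker_inf_smul_top_eq_smul_of_flat _ _ hsurj] at h1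
    refine Submodule.smul_induction_on h1 (fun a ha y hy => ?_) fun _ _ => add_mem
    have ha' : algebraMap D P a ∈ maximalIdeal P := hmP.le (Ideal.mem_map_of_mem _ ha)
    rw [← algebraMap_smul P a y]
    exact Submodule.smul_mem_smul ha' (show y ∈ J from hy)
  obtain ⟨G, hG⟩ := (IsNoetherian.noetherian (RingHom.ker μ.toRingHom) : (RingHom.ker μ.toRingHom).FG)
  have hx0 : ∀ x : (G : Set C'), ∃ t : Q.primeCompl, (t : C') * x = 0 := fun x => by
    refine (IsLocalization.map_eq_zero_iff Q.primeCompl P (x : C')).mp ?_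
    refine (RingHom.injective_iff_ker_eq_bot ψ.toRingHom).mpr hJ ?_
    rw [map_zero]
    show ψ (algebraMap C' P x) = 0
    rw [hψ]
    exact hG.le (Ideal.subset_span x.2)
  choose t ht using hx0
  refine ⟨∏ x, (t x : C'), notMem_maximalIdeal.mp (show (∏ x, (t x : C')) ∈ Q.primeCompl from
    Submonoid.prod_mem _ fun x _ => (t x).2), fun x hx => ?_⟩
  have hx' : x ∈ Ideal.span (G : Set C') := hG.ge hx
  induction hx' using Submodule.span_induction with
  | mem y hy =>
    obtain ⟨c, hc⟩ := Finset.dvd_prod_of_mem (fun x => (t x : C')) (Finset.mem_univ (⟨y, hy⟩ : (G : Set C')))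
    rw [hc, mul_comm (t _ : C'), mul_assoc, ht, mul_zero]
  | zero => exact mul_zero _
  | add y z hy hz h h' => rw [mul_add, h (hG.le hy), h' (hG.le hz), add_zero]
  | smul a y hy h => rw [smul_eq_mul, mul_left_comm, h (hG.le hy), mul_zero]

theorem flat_of_ann {A L E C : Type u} [CommRing A] [CommRing L] [CommRing E] [CommRing C]
    [IsLocalRing E] [Algebra A L] [Algebra L E] [Algebra A E] [IsScalarTower A L E]
    [Algebra A C] [Module.Flat A C] [Algebra C E] [IsScalarTower A C E]
    (q : Ideal C) [q.IsPrime] [IsLocalization.AtPrime E q]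
    (t : L ⊗[A] C) (ht : IsUnit (mu A L E C t)) (hann : ∀ x, mu A L E C x = 0 → t * x = 0) :
    Module.Flat L E := by
  let C' := L ⊗[A] C
  let μ := mu A L E C
  let Q := (maximalIdeal E).comap μ.toRingHom
  haveI : Q.IsPrime := inferInstance
  letI : Algebra C' E := μ.toRingHom.toAlgebra
  haveI : IsScalarTower L C' E := IsScalarTower.of_algebraMap_eq fun a => (μ.commutes a).symm
  have hμC : ∀ c : C, μ (1 ⊗ₜ c) = algebraMap C E c := fun c => by simp [μ, mu]
  have hloc : IsLocalization.AtPrime E Q := by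
    refine ⟨fun y => ?_, fun e => ?_, fun {x y} h => ?_⟩
    · exact notMem_maximalIdeal.mp y.2
    · obtain ⟨⟨c, s⟩, hcs⟩ := IsLocalization.surj q.primeCompl e
      refine ⟨⟨1 ⊗ₜ c, ⟨1 ⊗ₜ (s : C), fun h => ?_⟩⟩, ?_⟩
      · exact (mem_maximalIdeal _).mp (show μ (1 ⊗ₜ (s : C)) ∈ maximalIdeal E from h)
          (by rw [hμC]; exact IsLocalization.map_units E s)
      · show e * μ (1 ⊗ₜ (s : C)) = μ (1 ⊗ₜ c)
        rw [hμC, hμC]
        exact hcs
    · refine ⟨⟨t, fun hm => (mem_maximalIdeal _).mp (show μ t ∈ maximalIdeal E from hm) ht⟩, ?_⟩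
      have := hann (x - y) (by rw [map_sub]; exact sub_eq_zero.mpr h)
      rwa [mul_sub, sub_eq_zero] at this
  haveI := hloc
  haveI : Module.Flat C' E := IsLocalization.flat E Q.primeCompl
  exact Module.Flat.trans L C' E

theorem exists_finset_mem_range {A D C : Type u} [CommRing A] [CommRing D] [CommRing C]
    [Algebra A D] [Algebra A C] (x : D ⊗[A] C) :
    ∃ F : Finset D, ∀ (L : Type u) [CommRing L] [Algebra A L] (g : L →ₐ[A] D), (F : Set D) ⊆ Set.range g →
      x ∈ Set.range (Algebra.TensorProduct.map g (AlgHom.id A C)) := by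
  classical
  induction x with
  | zero => exact ⟨∅, fun L _ _ g _ => ⟨0, map_zero _⟩⟩
  | tmul d c =>
    refine ⟨{d}, fun L _ _ g hg => ?_⟩
    obtain ⟨l, rfl⟩ := hg (Finset.mem_coe.mpr (Finset.mem_singleton_self d))
    exact ⟨l ⊗ₜ c, rfl⟩
  | add x y hx hy =>
    obtain ⟨F, hF⟩ := hx
    obtain ⟨G, hG⟩ := hy
    refine ⟨F ∪ G, fun L _ _ g hg => ?_⟩
    rw [Finset.coe_union, Set.union_subset_iff] at hg
    obtain ⟨a, ha⟩ := hF L g hg.1
    obtain ⟨b, hb⟩ := hG L g hg.2
    exact ⟨a + b, by rw [map_add, ha, hb]⟩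

theorem flat_of_coeffs {A L D E C : Type u} [CommRing A] [CommRing L] [CommRing D] [CommRing E] [CommRing C]
    [IsLocalRing E] [Algebra A L] [Algebra L E] [Algebra A E] [IsScalarTower A L E]
    [Algebra A D] [Algebra D E] [IsScalarTower A D E]
    [Algebra A C] [Module.Flat A C] [Algebra C E] [IsScalarTower A C E]
    (q : Ideal C) [q.IsPrime] [IsLocalization.AtPrime E q]
    (g : L →ₐ[A] D) (hg : Function.Injective g) (hgE : ∀ l, algebraMap D E (g l) = algebraMap L E l)
    (t : D ⊗[A] C) (ht : IsUnit (mu A D E C t)) (hann : ∀ x, mu A D E C x = 0 → t * x = 0)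
    (htmem : t ∈ Set.range (Algebra.TensorProduct.map g (AlgHom.id A C))) :
    Module.Flat L E := by
  obtain ⟨t', rfl⟩ := htmem
  let G := Algebra.TensorProduct.map g (AlgHom.id A C)
  have hG : ∀ x, mu A D E C (G x) = mu A L E C x := by
    intro x
    induction x with
    | zero => simp
    | tmul l c => simp [G, mu, hgE]
    | add x y hx hy => rw [map_add, map_add, map_add, hx, hy]
  have hinj : Function.Injective G :=
    Module.Flat.rTensor_preserves_injective_linearMap (M := C) g.toLinearMap hg
  refine flat_of_ann q t' (by rw [← hG]; exact ht) fun x hx => hinj ?_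
  rw [map_mul, map_zero]
  exact hann _ (by rw [hG]; exact hx)

variable {A S : Type u} [CommRing A] [IsLocalRing A] [CommRing S] [IsLocalRing S] [Algebra A S]
  [IsLocalHom (algebraMap A S)]

omit [IsLocalHom (algebraMap A S)] in
theorem exists_local_subalgebra [IsNoetherianRing A] (D : Subalgebra A S) [IsLocalRing D]
    [IsLocalHom (algebraMap D S)] (F : Finset D) :
    ∃ L : Subalgebra A S, ∃ hLD : L ≤ D, (∀ d ∈ F, (d : S) ∈ L) ∧ IsLocalRing L ∧
      IsLocalHom (Subalgebra.inclusion hLD).toRingHom ∧ Algebra.EssFiniteType A L := by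
  let B := Algebra.adjoin A (F : Set D)
  let p : Ideal B := (maximalIdeal D).comap B.val.toRingHom
  haveI : p.IsPrime := inferInstance
  haveI : Algebra.FiniteType A B := (Subalgebra.fg_iff_finiteType _).mp ⟨F, rfl⟩
  haveI : Algebra.EssFiniteType A (Localization.AtPrime p) := Algebra.EssFiniteType.comp A B _
  have hu : ∀ y : p.primeCompl, IsUnit (B.val y) := fun y => notMem_maximalIdeal.mp y.2
  let χ : Localization.AtPrime p →ₐ[A] D := IsLocalization.liftAlgHom (M := p.primeCompl) (f := B.val) hu
  have hχ : ∀ b : B, χ (algebraMap B _ b) = B.val b := fun b => IsLocalization.lift_eq _ b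
  haveI : IsLocalHom χ.toRingHom := ⟨fun z hz => by
    obtain ⟨c, d, rfl⟩ := IsLocalization.exists_mk'_eq p.primeCompl z
    rw [IsLocalization.AtPrime.isUnit_mk'_iff]
    intro hc
    have h1 : χ (algebraMap B _ c) = χ (IsLocalization.mk' (Localization.AtPrime p) c d) * (B.val d) := by
      rw [← hχ (d : B), ← map_mul, IsLocalization.mk'_spec]
    rw [hχ] at h1
    exact (mem_maximalIdeal _).mp (show B.val c ∈ maximalIdeal D from hc) (h1 ▸ (hz.mul (hu d)))⟩
  let χS : Localization.AtPrime p →ₐ[A] S := D.val.comp χ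
  have hrange : χS.range ≤ D := by
    rintro _ ⟨z, rfl⟩
    exact (χ z).2
  haveI : Algebra.EssFiniteType A χS.range := Algebra.EssFiniteType.of_surjective (R := A) (S := Localization.AtPrime p) (T := χS.range) χS.rangeRestrict χS.rangeRestrict_surjective
  let rr : Localization.AtPrime p →+* χS.range := χS.rangeRestrict.toRingHom
  have hRloc : IsLocalRing χS.range :=
    haveI : Nontrivial χS.range := ⟨0, 1, fun h => zero_ne_one (congrArg Subtype.val h : (0 : S) = 1)⟩
    IsLocalRing.of_surjective' (R := Localization.AtPrime p) (S := χS.range) rr (χS.rangeRestrict_surjective :)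
  refine ⟨χS.range, hrange, fun d hd => ⟨algebraMap B _ ⟨d, Algebra.subset_adjoin hd⟩, congrArg Subtype.val (hχ _)⟩,
    hRloc, ⟨fun z hz => ?_⟩, inferInstance⟩
  obtain ⟨w, rfl⟩ := χS.rangeRestrict_surjective z
  exact IsUnit.map χS.rangeRestrict ((isUnit_map_iff χ.toRingHom w).mp hz)

set_option maxHeartbeats 1600000 in
theorem isEssentiallyEtale [IsReduced A] [IsNoetherianRing A] [Hensel.IsStrictHenselization A S]
    (D : Subalgebra A S) [IsLocalRing D] [IsLocalHom (algebraMap D S)] [IsNoetherianRing D]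
    (hfg : ∃ t : Finset (FractionRing D), ∀ x : FractionRing D, ∃ a ∈ nonZeroDivisors A,
      algebraMap A (FractionRing D) a * x ∈ Algebra.adjoin A (t : Set (FractionRing D)))
    (hm : Ideal.map (algebraMap A D) (maximalIdeal A) = maximalIdeal D) :
    EGA4loc.IsEssentiallyEtale A D := by
  classical
  have hmin : (minimalPrimes A).Finite := minimalPrimes.finite_of_isNoetherianRing A
  obtain ⟨E, hDE, hEloc, hEdom, hE⟩ := EssEtFG.exists_local_le_of_fg hmin D hfg
  haveI := hEloc
  haveI := hEdom
  haveI := EssEtFrac.flat_of_isEssentiallyEtale hE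
  letI : Algebra D E := (Subalgebra.inclusion hDE).toRingHom.toAlgebra
  haveI : IsScalarTower A D E := IsScalarTower.of_algebraMap_eq fun a => rfl
  haveI : IsLocalHom (algebraMap A D) := ⟨fun a ha => by
    have := ha.map (algebraMap D S)
    rw [← IsScalarTower.algebraMap_apply] at this
    exact (isUnit_map_iff (algebraMap A S) a).mp this⟩
  haveI : IsLocalHom (algebraMap A E) := ⟨fun a ha => by
    have := ha.map (algebraMap E S)
    rw [← IsScalarTower.algebraMap_apply] at this
    exact (isUnit_map_iff (algebraMap A S) a).mp this⟩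
  haveI : IsLocalHom (algebraMap D E) := ⟨fun d hd => by
    exact (isUnit_map_iff (algebraMap D S) d).mp (hd.map (algebraMap E S))⟩
  have hE' := hE
  obtain ⟨C, _, _, q, _, _, -, ⟨e⟩⟩ := hE
  letI : Algebra C E := (e.symm.toAlgHom.comp (IsScalarTower.toAlgHom A C (Localization.AtPrime q))).toRingHom.toAlgebra
  haveI : IsScalarTower A C E := IsScalarTower.of_algebraMap_eq fun a =>
    ((e.symm.toAlgHom.comp (IsScalarTower.toAlgHom A C (Localization.AtPrime q))).commutes a).symm
  let eC : Localization.AtPrime q ≃ₐ[C] E := AlgEquiv.ofRingEquiv (f := e.symm.toRingEquiv) fun c => rfl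
  haveI : IsLocalization.AtPrime E q := IsLocalization.isLocalization_of_algEquiv q.primeCompl eC
  haveI : Algebra.EssFiniteType A E :=
    haveI : Algebra.EssFiniteType C E := Algebra.EssFiniteType.of_isLocalization E q.primeCompl
    Algebra.EssFiniteType.comp A C E
  haveI : Algebra.FormallyUnramified A E :=
    haveI : Algebra.FormallyUnramified C E := Algebra.FormallyUnramified.of_isLocalization q.primeCompl
    Algebra.FormallyUnramified.comp A C E
  haveI : IsNoetherianRing E := Algebra.EssFiniteType.isNoetherianRing A E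
  obtain ⟨hsep, -⟩ := (Algebra.FormallyUnramified.iff_map_maximalIdeal_eq (R := A) (S := E)).mp inferInstance
  haveI := hsep
  haveI : Module.Finite (ResidueField A) (ResidueField E) :=
    Algebra.FormallyUnramified.finite_of_free (ResidueField A) (ResidueField E)
  let fk : ResidueField D →ₐ[ResidueField A] ResidueField E :=
    { ResidueField.map (algebraMap D E) with
      commutes' := fun c => by obtain ⟨a, rfl⟩ := residue_surjective c; rfl }
  haveI : Algebra.IsSeparable (ResidueField A) (ResidueField D) :=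
    Algebra.IsSeparable.of_algHom (ResidueField A) (ResidueField E) fk
  haveI : Module.Finite (ResidueField A) (ResidueField D) :=
    Module.Finite.of_injective fk.toLinearMap (RingHom.injective fk.toRingHom)
  haveI : Module.Flat D E := flat_of_map_maximalIdeal hm
  obtain ⟨t, ht, hann⟩ := exists_ann (A := A) (D := D) (E := E) q
  obtain ⟨F, hF⟩ := exists_finset_mem_range t
  obtain ⟨N₀, ⟨u, hu⟩, hN₀, hN⟩ := EssEtFG.exists_finite_clear A E hmin hE'
    (Subalgebra.toSubmodule (D.comap E.val))
  subst hu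
  have hu' : ∀ x ∈ u, (x : S) ∈ D := fun x hx => hN₀ (Submodule.subset_span hx)
  obtain ⟨L, hLD, hFL, hLloc, hLdom, hLft⟩ :=
    exists_local_subalgebra D (F ∪ u.attach.image fun x : {x // x ∈ u} => (⟨((x.1 : E) : S), hu' x.1 x.2⟩ : D))
  haveI := hLloc
  haveI := hLdom
  haveI := hLft
  letI : Algebra L E := (Subalgebra.inclusion (hLD.trans hDE)).toRingHom.toAlgebra
  haveI : IsScalarTower A L E := IsScalarTower.of_algebraMap_eq fun a => rfl
  haveI : Module.Flat A C := inferInstance
  haveI : Module.Flat L E := flat_of_coeffs (D := D) q (Subalgebra.inclusion hLD)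
    (Subalgebra.inclusion_injective hLD) (fun l => rfl) t ht hann (hF L _ fun d hd =>
      ⟨⟨d, hFL d (Finset.mem_union_left _ hd)⟩, rfl⟩)
  haveI : IsLocalHom (algebraMap L E) := ⟨fun l hl => by
    have h1 : IsUnit ((Subalgebra.inclusion hLD) l) :=
      (isUnit_map_iff (algebraMap D E) _).mp hl
    exact (isUnit_map_iff (Subalgebra.inclusion hLD).toRingHom l).mp h1⟩
  haveI : Module.FaithfullyFlat L E := Module.FaithfullyFlat.of_flat_of_isLocalHom
  have hEL : L = D := by
    refine le_antisymm hLD fun x hx => ?_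
    obtain ⟨a, ha, hax, -⟩ := hN ⟨x, hDE hx⟩ hx
    have hle : Submodule.span A (u : Set E) ≤ Subalgebra.toSubmodule (L.comap E.val) := Submodule.span_le.mpr fun y hy =>
      hFL ⟨(y : S), hu' y hy⟩ (Finset.mem_union_right _ (Finset.mem_image.mpr ⟨⟨y, hy⟩, Finset.mem_attach _ _, rfl⟩))
    let l : L := ⟨_, hle hax⟩
    have h2 : l ∈ Ideal.span {algebraMap A L a} := by
      rw [← Ideal.comap_map_eq_self_of_faithfullyFlat (B := E) (Ideal.span {algebraMap A L a}),
        Ideal.mem_comap, Ideal.map_span, Set.image_singleton, Ideal.mem_span_singleton']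
      refine ⟨⟨x, hDE hx⟩, Subtype.ext ?_⟩
      show x * algebraMap A S a = _
      rw [mul_comm, ← Algebra.smul_def]
      rfl
    obtain ⟨y, hy⟩ := Ideal.mem_span_singleton'.mp h2
    have h4 : (y : S) * algebraMap A S a = a • x := congrArg Subtype.val hy
    have h3 : (⟨x, hDE hx⟩ : E) - ⟨(y : S), hDE (hLD y.2)⟩ = 0 :=
      mem_nonZeroDivisors_iff_left.mp (EssEtFrac.map_nonZeroDivisors_le (A := A) (E := E)
        (Submonoid.mem_map_of_mem (algebraMap A E) ha)) _ (Subtype.ext (by
          show algebraMap A S a * (x - (y : S)) = 0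
          rw [mul_sub, mul_comm _ (y : S), h4, ← Algebra.smul_def, sub_self]))
    have h5 : x = (y : S) := congrArg Subtype.val (sub_eq_zero.mp h3)
    rw [h5]
    exact y.2
  subst hEL
  exact EssEtSub.of_essFiniteType L hm

end Groth.Agent.H05EGA4.EssEtNoeth
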