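import Mathlib
import Groth.Agent.H05EGA4.EssEtNoeth
import Groth.Agent.H9Hens.EssEtale
import Groth.Agent.H9Hens.BranchCount
import Groth.Agent.H02CA.NormShLocal
import Groth.Agent.H8Props.WeakEtaleReduced
import Groth.Agent.H17.NagataNorm
import Groth.Agent.H22Alg.BranchBound
import Groth.Agent.S0506
import Groth.Agent.S0511
import Groth.Agent.S2654

/-!
Semilocal intermediate normal rings of an essentially etale local algebra.
-/

set_option autoImplicit false
set_option backward.isDefEq.respectTransparency false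
set_option linter.style.haveILetI false
universe u
open IsLocalRing Polynomial

namespace Groth.Agent.H05EGA4.EssEtSemilocal

theorem exists_idem {L : Type u} [CommRing L] [IsArtinianRing L] [IsReduced L] (n : Ideal L) [n.IsMaximal] :
    ∃ e : L, e ∉ n ∧ 1 - e ∈ n ∧ ∀ y ∈ n, e * y = 0 := by
  classical
  let s := (IsArtinianRing.setOf_isMaximal_finite L).toFinset.erase n
  have hcop : IsCoprime n (⨅ m ∈ s, m) := Ideal.isCoprime_iff_sup_eq.mpr <| Ideal.sup_iInf_eq_top fun m hm => by
    obtain ⟨hne, hm⟩ := Finset.mem_erase.mp hm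
    exact (‹n.IsMaximal›).coprime_of_ne ((Set.Finite.mem_toFinset _).mp hm) (Ne.symm hne)
  obtain ⟨a, ha, e, he, hae⟩ := Submodule.mem_sup.mp ((Ideal.isCoprime_iff_sup_eq.mp hcop).ge (Submodule.mem_top : (1 : L) ∈ ⊤))
  have h1 : 1 - e ∈ n := by rw [← hae, add_sub_cancel_right]; exact ha
  refine ⟨e, fun hen => ?_, h1, fun y hy => ?_⟩
  · exact (Ideal.ne_top_iff_one n).mp (Ideal.IsMaximal.ne_top ‹_›) (by simpa using n.add_mem h1 hen)
  · have hnil : e * y ∈ nilradical L := by
      rw [nilradical_eq_sInf, Submodule.mem_sInf]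
      intro (m : Ideal L) hm
      haveI : m.IsPrime := hm
      haveI : m.IsMaximal := inferInstance
      by_cases hmn : m = n
      · exact hmn ▸ n.mul_mem_left e hy
      · refine m.mul_mem_right y ?_
        exact ((iInf₂_le (f := fun m (_ : m ∈ s) => m) m) (Finset.mem_erase.mpr ⟨hmn, (Set.Finite.mem_toFinset _).mpr ‹m.IsMaximal›⟩)) he
    rwa [nilradical_eq_zero, Ideal.zero_eq_bot, Ideal.mem_bot] at hnil

theorem exists_notMem_isIntegral_mul {A L K : Type u} [CommRing A] [CommRing L] [CommRing K] [Algebra A L]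
    [Algebra L K] [Algebra A K] [IsScalarTower A L K] [IsArtinianRing L] [IsReduced L] [IsArtinianRing K]
    [Algebra.IsIntegral L K] (hinj : Function.Injective (algebraMap L K))
    (M : Ideal (integralClosure A K)) [M.IsPrime] (x : L) (u : integralClosure A K) (hu : u ∉ M)
    (hxu : IsIntegral A (algebraMap L K x * (u : K))) :
    ∃ c : L, ∃ hc : IsIntegral A c, (⟨algebraMap L K c, hc.algebraMap⟩ : integralClosure A K) ∉ M ∧
      IsIntegral A (c * x) := by
  classical
  let T := integralClosure A K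
  obtain ⟨P, hP, hPM⟩ := Ideal.exists_minimalPrimes_le (bot_le : (⊥ : Ideal T) ≤ M)
  obtain ⟨𝔑, h𝔑, h𝔑P⟩ := Ideal.exists_comap_eq_of_mem_minimalPrimes_of_injective
    (f := algebraMap T K) Subtype.val_injective P hP
  haveI := h𝔑
  haveI : 𝔑.IsMaximal := inferInstance
  let 𝔫 := 𝔑.comap (algebraMap L K)
  haveI : 𝔫.IsMaximal := inferInstance
  obtain ⟨e, -, he1, he2⟩ := exists_idem 𝔫
  letI : Field (L ⧸ 𝔫) := Ideal.Quotient.field 𝔫
  let F := K ⧸ 𝔑
  letI : Field F := Ideal.Quotient.field 𝔑
  letI : Algebra (L ⧸ 𝔫) F := (Ideal.quotientMap 𝔑 (algebraMap L K) le_rfl).toAlgebra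
  haveI : IsScalarTower L (L ⧸ 𝔫) F := IsScalarTower.of_algebraMap_eq fun r => rfl
  haveI : IsScalarTower A (L ⧸ 𝔫) F := IsScalarTower.of_algebraMap_eq fun a => by
    show Ideal.Quotient.mk 𝔑 (algebraMap A K a) = Ideal.Quotient.mk 𝔑 (algebraMap L K (algebraMap A L a))
    rw [← IsScalarTower.algebraMap_apply]
  haveI : Algebra.IsIntegral L F := Algebra.IsIntegral.of_surjective (A := K) (IsScalarTower.toAlgHom L K F) Ideal.Quotient.mk_surjective
  haveI : Algebra.IsIntegral (L ⧸ 𝔫) F := Algebra.IsIntegral.tower_top L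
  let qk := Ideal.Quotient.mkₐ A 𝔑
  let ql := Ideal.Quotient.mkₐ A 𝔫
  have hlift : ∀ y : L, IsIntegral A (ql y) → IsIntegral A (e * y) := by
    rintro y ⟨g, hg, hgy⟩
    rw [← aeval_def] at hgy
    have h1 : aeval (e * y) g ∈ 𝔫 := by
      rw [← Ideal.Quotient.eq_zero_iff_mem]
      show ql (aeval (e * y) g) = 0
      rw [← aeval_algHom_apply, map_mul, show ql e = 1 from (Ideal.Quotient.eq.mpr he1).symm, one_mul, hgy]
    refine ⟨X * g, monic_X.mul hg, ?_⟩
    rw [← aeval_def, map_mul, aeval_X, mul_right_comm, he2 _ h1, zero_mul]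
  by_cases hx : x ∈ 𝔫
  · have he : IsIntegral A e := by
      have : IsIntegral A (e * 1) := hlift 1 (by rw [map_one]; exact isIntegral_one)
      rwa [mul_one] at this
    refine ⟨e, he, fun hmem => ?_, by rw [he2 x hx]; exact isIntegral_zero⟩
    have h1 : (1 : T) - ⟨algebraMap L K e, he.algebraMap⟩ ∈ M := hPM (h𝔑P.le (by
      show algebraMap T K _ ∈ 𝔑
      rw [map_sub, map_one]
      show 1 - algebraMap L K e ∈ 𝔑
      rw [← map_one (algebraMap L K), ← map_sub]
      exact he1))
    exact (Ideal.ne_top_iff_one M).mp (Ideal.IsPrime.ne_top ‹_›) (by simpa using M.add_mem h1 hmem)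
  let xb : L ⧸ 𝔫 := ql x
  have hxb : xb ≠ 0 := fun h => hx (Ideal.Quotient.eq_zero_iff_mem.mp h)
  let ub : F := qk (u : K)
  let p := minpoly (L ⧸ 𝔫) ub
  have hub : IsIntegral (L ⧸ 𝔫) ub := Algebra.IsIntegral.isIntegral ub
  have hpc : ∀ i, IsIntegral A (p.coeff i) := by
    obtain ⟨g, hg, hgu⟩ := u.2.map qk
    have h := integralClosure.mem_lifts_of_monic_of_dvd_map (L ⧸ 𝔫) hg (minpoly.monic hub)
      (minpoly.dvd _ ub (by rw [aeval_map_algebraMap]; exact hgu))
    intro i
    obtain ⟨c, hc⟩ := (lifts_iff_coeff_lifts _).mp h i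
    exact hc ▸ c.2
  let q := p.scaleRoots xb
  have hq : q = minpoly (L ⧸ 𝔫) (algebraMap _ F xb * ub) := by
    refine minpoly.unique _ _ ((monic_scaleRoots_iff xb).mpr (minpoly.monic hub))
      (scaleRoots_aeval_eq_zero (minpoly.aeval _ ub)) fun r hr hr0 => ?_
    rw [degree_scaleRoots]
    have h2 : aeval ub (r.scaleRoots xb⁻¹) = 0 := by
      have := scaleRoots_aeval_eq_zero (r := xb⁻¹) hr0
      rwa [← mul_assoc, ← map_mul, inv_mul_cancel₀ hxb, map_one, one_mul] at this
    exact (minpoly.degree_le_of_ne_zero _ _ ((monic_scaleRoots_iff xb⁻¹).mpr hr).ne_zero h2).trans_eq (degree_scaleRoots r)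
  have hqc : ∀ i, IsIntegral A (q.coeff i) := by
    have hint : IsIntegral A (algebraMap (L ⧸ 𝔫) F xb * ub) := by
      show IsIntegral A (qk (algebraMap L K x) * qk (u : K))
      rw [← map_mul]
      exact hxu.map qk
    obtain ⟨g, hg, hgu⟩ := hint
    have hq1 : q.Monic := (monic_scaleRoots_iff xb).mpr (minpoly.monic hub)
    have h := integralClosure.mem_lifts_of_monic_of_dvd_map (L ⧸ 𝔫) hg hq1
      (hq ▸ minpoly.dvd _ _ (by rw [aeval_map_algebraMap]; exact hgu))
    intro i
    obtain ⟨c, hc⟩ := (lifts_iff_coeff_lifts _).mp h i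
    exact hc ▸ c.2
  choose g hg using fun i => Ideal.Quotient.mk_surjective (p.coeff i)
  have hC : ∀ i, IsIntegral A (e * g i) := fun i => hlift (g i) (by
    show IsIntegral A (Ideal.Quotient.mk 𝔫 (g i))
    rw [hg]; exact hpc i)
  have hCq : ∀ i, ql (e * g i) = p.coeff i := fun i => by
    rw [map_mul, show ql e = 1 from (Ideal.Quotient.eq.mpr he1).symm, one_mul]
    exact hg i
  let C : ℕ → T := fun i => ⟨algebraMap L K (e * g i), (hC i).algebraMap⟩
  obtain ⟨i, hi, hiM⟩ : ∃ i, i < p.natDegree ∧ C i ∉ M := by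
    by_contra hcon
    push Not at hcon
    refine hu (Ideal.IsPrime.mem_of_pow_mem ‹_› p.natDegree ?_)
    have hmem : u ^ p.natDegree + ∑ i ∈ Finset.range p.natDegree, C i * u ^ i ∈ M := by
      refine hPM (h𝔑P.le ?_)
      show algebraMap T K _ ∈ 𝔑
      rw [← Ideal.Quotient.eq_zero_iff_mem]
      show qk (algebraMap T K _) = 0
      have h0 : aeval ub p = 0 := minpoly.aeval _ ub
      have hpm : p.Monic := minpoly.monic hub
      rw [hpm.as_sum, map_add, map_pow, aeval_X, map_sum] at h0
      rw [map_add, map_add, map_pow, map_pow, map_sum, map_sum]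
      refine Eq.trans ?_ h0
      congr 1
      refine Finset.sum_congr rfl fun i _ => ?_
      rw [map_mul, map_mul, map_pow, map_pow, map_mul, aeval_C, map_pow, aeval_X, ← hCq]
      rfl
    have hsum : ∑ i ∈ Finset.range p.natDegree, C i * u ^ i ∈ M :=
      M.sum_mem fun i hi => M.mul_mem_right _ (hcon i (Finset.mem_range.mp hi))
    exact (Ideal.add_mem_iff_left M hsum).mp hmem
  refine ⟨e * g i, hC i, hiM, ?_⟩
  have hk : IsIntegral A (p.coeff i * xb) := by
    refine IsIntegral.of_pow (n := p.natDegree - i) (Nat.sub_pos_of_lt hi) ?_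
    obtain ⟨k, hk⟩ : ∃ k, p.natDegree - i = k + 1 := ⟨p.natDegree - i - 1, by omega⟩
    rw [hk, mul_pow, pow_succ, mul_assoc, ← hk]
    refine ((hpc i).pow k).mul ?_
    rw [← coeff_scaleRoots]
    exact hqc i
  rw [mul_assoc]
  refine hlift _ ?_
  rw [map_mul, show ql (g i) = p.coeff i from hg i]
  exact hk

section

variable {A K : Type u} [CommRing A] [CommRing K] [Algebra A K] [IsArtinianRing K] [IsReduced K]
  (L : Subalgebra A K) [IsArtinianRing L] [Algebra.IsIntegral L K]
  (E' : Subalgebra A K) (hTE : integralClosure A K ≤ E')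
  (hfin : {M : Ideal E' | M.IsMaximal}.Finite)
  (hu : ∀ y ∈ E', ∃ u, ∃ h : IsIntegral A u, IsUnit (⟨u, hTE h⟩ : E') ∧ IsIntegral A (y * u))

include hfin hu in
theorem exists_unit_mul (x : K) (hxL : x ∈ L) (hxE : x ∈ E') :
    ∃ s, ∃ hs : IsIntegral A s, s ∈ L ∧ IsUnit (⟨s, hTE hs⟩ : E') ∧ IsIntegral A (s * x) := by
  classical
  haveI : IsReduced L := isReduced_of_injective L.val Subtype.val_injective
  let T := integralClosure A K
  obtain ⟨u, hui, huu, hxu⟩ := hu x hxE
  let R : Subalgebra A K := L ⊓ T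
  let I : Ideal R :=
    { carrier := {s | IsIntegral A ((s : K) * x)}
      add_mem' := fun {a b} ha hb => by
        show IsIntegral A (((a : K) + b) * x)
        rw [add_mul]; exact IsIntegral.add ha hb
      zero_mem' := by
        show IsIntegral A (((0 : R) : K) * x)
        rw [Subalgebra.coe_zero, zero_mul]; exact isIntegral_zero
      smul_mem' := fun c a ha => by
        show IsIntegral A (((c : K) * a) * x)
        rw [mul_assoc]; exact IsIntegral.mul c.2.2 ha }
  let ι : R →+* E' := (Subalgebra.inclusion ((inf_le_right : R ≤ T).trans hTE)).toRingHom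
  have hnot : ∀ M : Ideal E', M.IsMaximal → ¬ I ≤ M.comap ι := fun M hM hle => by
    haveI := hM
    let jT : T →+* E' := (Subalgebra.inclusion hTE).toRingHom
    obtain ⟨c, hc, hcM, hcx⟩ := exists_notMem_isIntegral_mul (A := A) (L := L) (K := K) Subtype.val_injective
      (M.comap jT) ⟨x, hxL⟩ ⟨u, hui⟩ (fun h => (Ideal.IsPrime.ne_top inferInstance : M ≠ ⊤)
        (Ideal.eq_top_of_isUnit_mem M h huu)) hxu
    have h2 : (⟨c, c.2, hc.algebraMap⟩ : R) ∈ I := hcx.algebraMap
    exact hcM (hle h2)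
  have hex : ∃ s ∈ I, ∀ M : Ideal E', M.IsMaximal → s ∉ M.comap ι := by
    by_contra hcon
    push Not at hcon
    have hsub : (I : Set R) ⊆ ⋃ M ∈ (hfin.toFinset : Set (Ideal E')), M.comap ι := fun s hs => by
      obtain ⟨M, hM, hMs⟩ := hcon s hs
      exact Set.mem_iUnion₂.mpr ⟨M, hfin.mem_toFinset.mpr hM, hMs⟩
    obtain ⟨M, hM, hle⟩ := (Ideal.subset_union_prime ⊥ ⊥ fun M hM _ _ => by
      haveI : M.IsMaximal := hfin.mem_toFinset.mp hM
      infer_instance).mp hsub
    exact hnot M (hfin.mem_toFinset.mp hM) hle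
  obtain ⟨s, hsI, hs⟩ := hex
  refine ⟨s, s.2.2, s.2.1, ?_, hsI⟩
  by_contra hnu
  obtain ⟨M, hM, hsM⟩ := Ideal.exists_le_maximal _ (mt Ideal.span_singleton_eq_top.mp hnu)
  exact hs M hM (hsM (Ideal.mem_span_singleton_self _))

omit [IsArtinianRing K] [IsReduced K] [Algebra.IsIntegral L K] in
theorem isUnit_of_isUnit {c : K} (hcL : c ∈ L) (hcE : c ∈ E') (hc : IsUnit (⟨c, hcE⟩ : E')) :
    ∃ v ∈ L, v ∈ E' ∧ c * v = 1 := by
  obtain ⟨v, hv⟩ := hc.exists_right_inv
  have hv' : c * (v : K) = 1 := congrArg Subtype.val hv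
  have hnzd : (⟨c, hcL⟩ : L) ∈ nonZeroDivisors L := mem_nonZeroDivisors_iff_left.mpr fun d hd =>
    Subtype.ext ((IsUnit.of_mul_eq_one _ hv').mul_right_eq_zero.mp (congrArg Subtype.val hd))
  obtain ⟨w, hw⟩ := (IsArtinianRing.isUnit_of_mem_nonZeroDivisors hnzd).exists_right_inv
  have : (w : K) = v := (IsUnit.of_mul_eq_one _ hv').mul_left_cancel ((congrArg Subtype.val hw).trans hv'.symm)
  exact ⟨v, this ▸ w.2, v.2, hv'⟩

end

theorem finite_maximal_integralClosure (E : Type u) [CommRing E] [IsLocalRing E] [IsNoetherianRing E] [IsReduced E] :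
    {M : Ideal (integralClosure E (FractionRing E)) | M.IsMaximal}.Finite := by
  obtain ⟨S, _, _, _, _, hS⟩ := Groth.Agent.S0506.result E
  haveI := hS
  haveI : IsNoetherianRing S := (Groth.Agent.S0511.result E S).mp inferInstance
  have h := Groth.Agent.H9Hens.card_minimalPrimes_henselization E S
  unfold Brnch.numBranches at h
  rw [if_pos (minimalPrimes.finite_of_isNoetherianRing E)] at h
  haveI : Finite (minimalPrimes S) := (minimalPrimes.finite_of_isNoetherianRing S).to_subtype
  haveI : Finite (MaximalSpectrum (CAlg2.normRed E)) := by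
    rw [← ENat.card_lt_top, ← h]
    exact ENat.card_lt_top.mpr inferInstance
  have hb : Function.Bijective (Ideal.Quotient.mk (nilradical E)) :=
    ⟨(RingHom.injective_iff_ker_eq_bot _).mpr (by rw [Ideal.mk_ker]; exact nilradical_eq_zero E),
      Ideal.Quotient.mk_surjective⟩
  let e : E ≃ₐ[E] CAlg2.red E := AlgEquiv.ofBijective (Ideal.Quotient.mkₐ E _) hb
  have hM : (nonZeroDivisors E).map e.toRingEquiv.toMonoidHom = nonZeroDivisors (CAlg2.red E) :=
    MulEquivClass.map_nonZeroDivisors e.toRingEquiv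
  let f : FractionRing E ≃+* FractionRing (CAlg2.red E) :=
    IsLocalization.ringEquivOfRingEquiv (FractionRing E) (FractionRing (CAlg2.red E)) e.toRingEquiv hM
  let f' : FractionRing E ≃ₐ[E] FractionRing (CAlg2.red E) := AlgEquiv.ofRingEquiv (f := f) fun x => by
    rw [IsScalarTower.algebraMap_apply E (CAlg2.red E) (FractionRing (CAlg2.red E))]
    exact IsLocalization.ringEquivOfRingEquiv_eq hM x
  obtain ⟨e₃⟩ := Groth.Agent.H9Hens.nonempty_integralClosure_algEquiv_normRed E
  obtain ⟨e₄⟩ := Groth.Agent.H9Hens.nonempty_maximalSpectrum_congr (f'.mapIntegralClosure.trans e₃).toRingEquiv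
  haveI : Finite (MaximalSpectrum (integralClosure E (FractionRing E))) := Finite.of_equiv _ e₄.symm
  exact (Set.finite_range (fun M : MaximalSpectrum (integralClosure E (FractionRing E)) => M.asIdeal)).subset
    fun M hM => ⟨⟨M, hM⟩, rfl⟩

theorem isReduced_of_isEssentiallyEtale {A E : Type u} [CommRing A] [IsLocalRing A] [IsReduced A] [CommRing E]
    [Algebra A E] (hE : EGA4loc.IsEssentiallyEtale A E) : IsReduced E := by
  obtain ⟨C, _, _, q, _, _, -, ⟨e⟩⟩ := hE
  haveI : IsReduced C := Groth.Agent.H8Props.WeakEtaleReduced.isReduced_of_weaklyEtale A C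
  haveI : IsReduced (Localization.AtPrime q) := isReduced_localizationPreserves q.primeCompl _ inferInstance
  exact isReduced_of_injective e e.injective

theorem isNoetherianRing_of_isEssentiallyEtale {A E : Type u} [CommRing A] [IsLocalRing A] [IsNoetherianRing A]
    [CommRing E] [Algebra A E] (hE : EGA4loc.IsEssentiallyEtale A E) : Algebra.EssFiniteType A E ∧ IsNoetherianRing E := by
  obtain ⟨C, _, _, q, _, _, -, ⟨e⟩⟩ := hE
  haveI : Algebra.EssFiniteType A (Localization.AtPrime q) := Algebra.EssFiniteType.comp A C _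
  haveI : Algebra.EssFiniteType A E := (Algebra.EssFiniteType.iff_of_algEquiv e).mpr inferInstance
  exact ⟨inferInstance, Algebra.EssFiniteType.isNoetherianRing A E⟩

theorem exists_integral_fraction {A E : Type u} [CommRing A] [IsLocalRing A] [IsNoetherianRing A] [CommRing E]
    [IsLocalRing E] [Algebra A E] [IsLocalHom (algebraMap A E)] (hE : EGA4loc.IsEssentiallyEtale A E) (x : E) :
    ∃ b s : E, IsIntegral A b ∧ IsIntegral A s ∧ IsUnit s ∧ x * s = b := by
  haveI := EssEtFrac.flat_of_isEssentiallyEtale hE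
  obtain ⟨hft, -⟩ := isNoetherianRing_of_isEssentiallyEtale hE
  haveI := hft
  haveI : Algebra.FormallyUnramified A E := by
    obtain ⟨C, _, _, q, _, _, -, ⟨e⟩⟩ := hE
    haveI : Algebra.FormallyUnramified A (Localization.AtPrime q) := Algebra.FormallyUnramified.comp A C _
    exact Algebra.FormallyUnramified.of_equiv e.symm
  obtain ⟨hsep, hm⟩ := (Algebra.FormallyUnramified.iff_map_maximalIdeal_eq (R := A) (S := E)).mp inferInstance
  haveI := hsep
  obtain ⟨P, q, _, ⟨e⟩⟩ := Groth.Agent.H9Hens.exists_standardEtale_equiv A E hm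
  let B := AdjoinRoot P.f
  haveI : Module.Finite A B := P.monic_f.finite_adjoinRoot
  let j : B →ₐ[A] P.Ring := P.equivAwayAdjoinRoot.symm.toAlgHom.comp
    (IsScalarTower.toAlgHom A B (Localization.Away (AdjoinRoot.mk P.f P.g)))
  let k : P.Ring →ₐ[A] E := e.symm.toAlgHom.comp (IsScalarTower.toAlgHom A P.Ring (Localization.AtPrime q))
  have hint : ∀ b : B, IsIntegral A (k (j b)) := fun b => (IsIntegral.of_finite A b).map (k.comp j)
  have hfrac : ∀ p : P.Ring, ∃ b s : B, IsUnit (j s) ∧ p * j s = j b := fun p => by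
    obtain ⟨⟨b, s⟩, hbs⟩ := IsLocalization.surj (Submonoid.powers (AdjoinRoot.mk P.f P.g)) (P.equivAwayAdjoinRoot p)
    refine ⟨b, s, (IsLocalization.map_units (Localization.Away (AdjoinRoot.mk P.f P.g)) s).map P.equivAwayAdjoinRoot.symm, ?_⟩
    show p * P.equivAwayAdjoinRoot.symm (algebraMap B _ (s : B)) = P.equivAwayAdjoinRoot.symm (algebraMap B _ b)
    apply P.equivAwayAdjoinRoot.injective
    rw [map_mul, AlgEquiv.apply_symm_apply, AlgEquiv.apply_symm_apply]
    exact hbs
  obtain ⟨⟨c, d⟩, hcd⟩ := IsLocalization.surj q.primeCompl (e x)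
  obtain ⟨b, s, hsu, hbs⟩ := hfrac c
  obtain ⟨b', s', hsu', hbs'⟩ := hfrac d
  have hd : IsUnit (k d) := (IsLocalization.map_units (Localization.AtPrime q) d).map e.symm
  have hcd' : x * k d = k c := by
    apply e.injective
    show e (x * e.symm _) = e (e.symm _)
    rw [map_mul, AlgEquiv.apply_symm_apply, AlgEquiv.apply_symm_apply]
    exact hcd
  refine ⟨k (j b) * k (j s'), k (j b') * k (j s), (hint b).mul (hint s'), (hint b').mul (hint s), ?_, ?_⟩
  · rw [← hbs', map_mul]
    exact (hd.mul (hsu'.map k)).mul (hsu.map k)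
  · rw [← hbs', ← hbs, map_mul, map_mul, ← hcd']
    ring

section

variable {A E : Type u} [CommRing A] [IsLocalRing A] [IsReduced A] [IsNoetherianRing A]
  [CommRing E] [IsLocalRing E] [Algebra A E] [IsLocalHom (algebraMap A E)]

theorem basics (hE : EGA4loc.IsEssentiallyEtale A E) :
    IsReduced (FractionRing E) ∧ IsArtinianRing (FractionRing E) ∧
    {M : Ideal ((integralClosure E (FractionRing E)).restrictScalars A) | M.IsMaximal}.Finite ∧
    (∀ M : Ideal ((integralClosure E (FractionRing E)).restrictScalars A), M.IsMaximal →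
      M.comap (algebraMap A ((integralClosure E (FractionRing E)).restrictScalars A)) = maximalIdeal A) ∧
    ∃ hTE : integralClosure A (FractionRing E) ≤ (integralClosure E (FractionRing E)).restrictScalars A,
      ∀ y ∈ (integralClosure E (FractionRing E)).restrictScalars A, ∃ u, ∃ h : IsIntegral A u,
        IsUnit (⟨u, hTE h⟩ : (integralClosure E (FractionRing E)).restrictScalars A) ∧ IsIntegral A (y * u) := by
  classical
  obtain ⟨hft, hN⟩ := isNoetherianRing_of_isEssentiallyEtale hE
  haveI := hft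
  haveI := hN
  haveI := isReduced_of_isEssentiallyEtale hE
  let K := FractionRing E
  have hKart : IsArtinianRing K := EssEtFrac.isArtinianRing_fractionRing E (minimalPrimes.finite_of_isNoetherianRing E)
  refine ⟨isReduced_localizationPreserves (nonZeroDivisors E) K inferInstance, hKart, finite_maximal_integralClosure E,
    fun M hM => ?_, fun x hx => IsIntegral.tower_top (A := E) hx, fun y hy => ?_⟩
  · haveI := hM
    let E' := integralClosure E K
    have h1 : (M.comap (algebraMap E E') : Ideal E).IsMaximal :=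
      Ideal.isMaximal_comap_of_isIntegral_of_isMaximal (R := E) (S := E') M
    have h2 : algebraMap A ((integralClosure E K).restrictScalars A) = (algebraMap E E').comp (algebraMap A E) := by
      ext a
      exact IsScalarTower.algebraMap_apply A E K a
    rw [h2, ← Ideal.comap_comap, IsLocalRing.eq_maximalIdeal h1]
    exact (((local_hom_TFAE (algebraMap A E)).out 0 4 rfl rfl).mp inferInstance)
  · let T0 := integralClosure A E
    let U : Submonoid T0 := (IsUnit.submonoid E).comap (algebraMap T0 E)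
    haveI : IsLocalization U E := by
      refine ⟨fun w => w.2, fun x => ?_, fun {a b} h => ⟨1, by rw [(Subtype.ext h : a = b)]⟩⟩
      obtain ⟨b, s, hb, hs, hsu, hxs⟩ := exists_integral_fraction hE x
      exact ⟨⟨⟨b, hb⟩, ⟨⟨s, hs⟩, hsu⟩⟩, hxs⟩
    haveI : IsScalarTower T0 E K := IsScalarTower.of_algebraMap_eq fun x => rfl
    obtain ⟨m, hm⟩ := IsIntegral.exists_multiple_integral_of_isLocalization (R := T0) (Rₘ := E) U (y : K) hy
    haveI : IsScalarTower A T0 K := IsScalarTower.of_algebraMap_eq fun a => by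
      rw [IsScalarTower.algebraMap_apply A E K, IsScalarTower.algebraMap_apply T0 E K]
      rfl
    refine ⟨algebraMap E K ((m : T0) : E), (m : T0).2.algebraMap, ?_, ?_⟩
    · exact (m.2 : IsUnit ((m : T0) : E)).map (algebraMap E (integralClosure E K))
    · have h3 := isIntegral_trans (R := A) _ hm
      rw [mul_comm]
      rw [Submonoid.smul_def, Algebra.smul_def] at h3
      exact h3

theorem intermediate (hE : EGA4loc.IsEssentiallyEtale A E) (L : Subalgebra A (FractionRing E))
    (hL : ∀ s ∈ nonZeroDivisors A, ∃ y ∈ L, algebraMap A (FractionRing E) s * y = 1) :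
    IsArtinianRing L ∧ Algebra.IsIntegral L (FractionRing E) ∧
      ∀ l ∈ L, ∃ a ∈ nonZeroDivisors A, ∃ c ∈ L, IsIntegral E c ∧ ∃ y ∈ L,
        algebraMap A (FractionRing E) a * y = 1 ∧ l = c * y := by
  classical
  have hmin : (minimalPrimes A).Finite := minimalPrimes.finite_of_isNoetherianRing A
  obtain ⟨hloc, t, ht⟩ := EssEtFrac.isLocalization_and_finite A E hmin hE
  haveI := hloc
  haveI := EssEtFrac.isArtinianRing_fractionRing A hmin
  let KE := FractionRing E
  have hu : ∀ s : nonZeroDivisors A, IsUnit (algebraMap A KE s) := fun s => by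
    rw [IsScalarTower.algebraMap_apply A E KE]
    exact IsLocalization.map_units KE (⟨_, s, s.2, rfl⟩ : (nonZeroDivisors A).map (algebraMap A E))
  letI : Algebra (FractionRing A) KE := (IsLocalization.lift hu : FractionRing A →+* KE).toAlgebra
  haveI : IsScalarTower A (FractionRing A) KE :=
    IsScalarTower.of_algebraMap_eq fun a => (IsLocalization.lift_eq hu a).symm
  have hKL : ∀ k : FractionRing A, algebraMap (FractionRing A) KE k ∈ L := fun k => by
    obtain ⟨b, d, rfl⟩ := IsLocalization.exists_mk'_eq (nonZeroDivisors A) k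
    obtain ⟨y, hy, hy'⟩ := hL d d.2
    have : algebraMap (FractionRing A) KE (IsLocalization.mk' _ b d) = algebraMap A KE b * y := by
      refine (hu d).mul_left_cancel ?_
      rw [IsScalarTower.algebraMap_apply A (FractionRing A) KE d, ← map_mul, IsLocalization.mk'_spec',
        ← IsScalarTower.algebraMap_apply, ← IsScalarTower.algebraMap_apply, mul_left_comm, hy', mul_one]
    rw [this]
    exact L.mul_mem (L.algebraMap_mem b) hy
  let LK : Subalgebra (FractionRing A) KE := { L.toSubsemiring with algebraMap_mem' := hKL }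
  haveI : Module.Finite (FractionRing A) KE := by
    refine ⟨⟨t, top_le_iff.mp fun x _ => ?_⟩⟩
    obtain ⟨a, ha, hax⟩ := ht x
    have h1 : algebraMap A KE a * x ∈ Submodule.span (FractionRing A) (t : Set KE) :=
      Submodule.span_le_restrictScalars A (FractionRing A) _ hax
    have h2 := Submodule.smul_mem _ (IsLocalization.mk' (FractionRing A) (1 : A) (⟨a, ha⟩ : nonZeroDivisors A)) h1
    rw [Algebra.smul_def, ← mul_assoc, IsScalarTower.algebraMap_apply A (FractionRing A) KE a,
      ← map_mul, IsLocalization.mk'_spec, map_one, map_one, one_mul] at h2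
    exact h2
  haveI : IsNoetherian (FractionRing A) KE := isNoetherian_of_isNoetherianRing_of_finite _ _
  haveI : Module.Finite (FractionRing A) LK := Module.Finite.iff_fg.mpr (IsNoetherian.noetherian LK.toSubmodule)
  have hart : IsArtinianRing LK := IsArtinianRing.of_finite (FractionRing A) LK
  refine ⟨hart, ⟨fun x => ?_⟩, fun l hl => ?_⟩
  · have h1 : IsIntegral LK x := (IsIntegral.of_finite (FractionRing A) x).tower_top
    exact h1
  · obtain ⟨d, ⟨_, s, hs, rfl⟩, rfl⟩ := IsLocalization.exists_mk'_eq ((nonZeroDivisors A).map (algebraMap A E)) l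
    obtain ⟨y, hy, hy'⟩ := hL s hs
    have hspec : IsLocalization.mk' KE d (⟨_, s, hs, rfl⟩ : (nonZeroDivisors A).map (algebraMap A E)) *
        algebraMap A KE s = algebraMap E KE d := by
      rw [IsScalarTower.algebraMap_apply A E KE]
      exact IsLocalization.mk'_spec _ _ _
    refine ⟨s, hs, algebraMap E KE d, ?_, isIntegral_algebraMap, y, hy, hy', ?_⟩
    · rw [← hspec]; exact L.mul_mem hl (L.algebraMap_mem s)
    · rw [← hspec, mul_assoc, hy', mul_one]

theorem inter_semilocal (hE : EGA4loc.IsEssentiallyEtale A E) (L : Subalgebra A (FractionRing E))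
    (hL : ∀ s ∈ nonZeroDivisors A, ∃ y ∈ L, algebraMap A (FractionRing E) s * y = 1)
    (C : Subalgebra A (FractionRing E))
    (hC : C = L ⊓ (integralClosure E (FractionRing E)).restrictScalars A) :
    (∀ x ∈ L, IsIntegral C x → x ∈ C) ∧
      {N : Ideal C | N.IsMaximal}.Finite ∧
      (∀ N : Ideal C, N.IsMaximal ↔ ∃ M : Ideal ((integralClosure E (FractionRing E)).restrictScalars A),
          M.IsMaximal ∧ N = M.comap (Subalgebra.inclusion (hC.trans_le inf_le_right))) ∧
      ∀ l ∈ L, ∃ c ∈ C, ∃ s ∈ nonZeroDivisors A, ∃ y ∈ L,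
        algebraMap A (FractionRing E) s * y = 1 ∧ l = c * y := by
  classical
  subst hC
  obtain ⟨_, _, hfin, hover, hTE, hu⟩ := basics hE
  obtain ⟨hart, hint, hfrac⟩ := intermediate hE L hL
  haveI := hart
  haveI := hint
  let K := FractionRing E
  let E' := (integralClosure E K).restrictScalars A
  let C := L ⊓ E'
  let ι : C →ₐ[A] E' := Subalgebra.inclusion inf_le_right
  have hprime : ∀ M : Ideal E', M.IsMaximal → (M.comap ι).IsPrime := fun M hM => by
    haveI := hM
    infer_instance
  have hcov : ∀ N : Ideal C, N.IsMaximal → ∃ M : Ideal E', M.IsMaximal ∧ N ≤ M.comap ι := fun N hN => by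
    have hsub : (N : Set C) ⊆ ⋃ M ∈ (hfin.toFinset : Set (Ideal E')), M.comap ι := fun c hc => by
      by_cases hcu : IsUnit (ι c)
      · obtain ⟨v, hvL, hvE, hv⟩ := isUnit_of_isUnit L E' c.2.1 c.2.2 hcu
        exact absurd (Ideal.eq_top_of_isUnit_mem N hc (IsUnit.of_mul_eq_one (⟨v, hvL, hvE⟩ : C) (Subtype.ext hv))) hN.ne_top
      · obtain ⟨M, hM, hcM⟩ := Ideal.exists_le_maximal _ (mt Ideal.span_singleton_eq_top.mp hcu)
        exact Set.mem_iUnion₂.mpr ⟨M, hfin.mem_toFinset.mpr hM, hcM (Ideal.mem_span_singleton_self _)⟩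
    obtain ⟨M, hM, hle⟩ := (Ideal.subset_union_prime ⊥ ⊥ fun M hM _ _ => hprime M (hfin.mem_toFinset.mp hM)).mp hsub
    exact ⟨M, hfin.mem_toFinset.mp hM, hle⟩
  have hmax : ∀ M : Ideal E', M.IsMaximal → (M.comap ι).IsMaximal := fun M hM => by
    obtain ⟨N, hN, hle⟩ := Ideal.exists_le_maximal _ (hprime M hM).ne_top
    obtain ⟨M', hM', hle'⟩ := hcov N hN
    let R : Subalgebra A K := L ⊓ integralClosure A K
    let r : R →ₐ[A] C := Subalgebra.inclusion (inf_le_inf_left L hTE)
    haveI : Algebra.IsIntegral A R := ⟨fun z => (isIntegral_algHom_iff R.val Subtype.val_injective).mp z.2.2⟩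
    haveI := hprime M hM
    have hqmax : ((M.comap ι).comap r).IsMaximal := by
      refine Ideal.isMaximal_of_isIntegral_of_isMaximal_comap (R := A) _ ?_
      have : ((M.comap ι).comap r).comap (algebraMap A R) = maximalIdeal A := hover M hM
      rw [this]; infer_instance
    have hq : (M.comap ι).comap r = (M'.comap ι).comap r :=
      hqmax.eq_of_le (Ideal.IsPrime.ne_top (haveI := hprime M' hM'; inferInstance))
        (Ideal.comap_mono (hle.trans hle'))
    have hsub : M'.comap ι ≤ M.comap ι := fun c hc => by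
      obtain ⟨s, hs, hsL, hsu, hsc⟩ := exists_unit_mul L E' hTE hfin hu (c : K) c.2.1 c.2.2
      let s' : C := r ⟨s, hsL, hs⟩
      have h1 : (⟨s * c, L.mul_mem hsL c.2.1, hsc⟩ : R) ∈ (M'.comap ι).comap r :=
        show s' * c ∈ M'.comap ι from Ideal.mul_mem_left _ _ hc
      rw [← hq] at h1
      refine ((hprime M hM).mem_or_mem (show s' * c ∈ M.comap ι from h1)).resolve_left fun h => ?_
      exact hM.ne_top (Ideal.eq_top_of_isUnit_mem M h hsu)
    have : M.comap ι = N := le_antisymm hle (hle'.trans hsub)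
    rw [this]; exact hN
  refine ⟨fun x hx hxi => ⟨hx, ?_⟩, ?_, fun N => ⟨fun hN => ?_, ?_⟩, fun l hl => ?_⟩
  · letI : Algebra C E' := (Subalgebra.inclusion (inf_le_right : C ≤ E')).toRingHom.toAlgebra
    haveI : IsScalarTower C E' K := IsScalarTower.of_algebraMap_eq fun c => rfl
    have h1 : IsIntegral (integralClosure E K) x := hxi.tower_top (A := E')
    exact isIntegral_trans (R := E) x h1
  · exact (hfin.image fun M => M.comap ι).subset fun N hN => by
      obtain ⟨M, hM, hle⟩ := hcov N hN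
      exact ⟨M, hM, (hN.eq_of_le (hprime M hM).ne_top hle).symm⟩
  · obtain ⟨M, hM, hle⟩ := hcov N hN
    exact ⟨M, hM, hN.eq_of_le (hprime M hM).ne_top hle⟩
  · rintro ⟨M, hM, rfl⟩
    exact hmax M hM
  · obtain ⟨a, ha, c, hcL, hc, y, hy, hay, hl'⟩ := hfrac l hl
    exact ⟨c, ⟨hcL, hc⟩, a, ha, y, hy, hay, hl'⟩

theorem finite_integralClosure_total (hA : EGA4.IsExcellent A) (hE : EGA4loc.IsEssentiallyEtale A E) :
    Module.Finite A (integralClosure A (FractionRing E)) := by
  classical
  obtain ⟨hred, hart, -⟩ := basics hE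
  haveI := hred
  haveI := hart
  obtain ⟨hft, -⟩ := isNoetherianRing_of_isEssentiallyEtale hE
  haveI := hft
  let K := FractionRing E
  haveI : Algebra.EssFiniteType E K := Algebra.EssFiniteType.of_isLocalization _ (nonZeroDivisors E)
  haveI : Algebra.EssFiniteType A K := Algebra.EssFiniteType.comp A E K
  haveI : ∀ m : MaximalSpectrum K, m.asIdeal.IsMaximal := fun m => m.isMaximal
  letI : ∀ m : MaximalSpectrum K, Field (K ⧸ m.asIdeal) := fun m => Ideal.Quotient.field _
  refine Groth.Agent.H17.NagataNorm.finite_integralClosure_of_jointly_injective A K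
    (Groth.Agent.S2654.result A ⟨hA.1, hA.2.2.1, hA.2.2.2⟩) (fun m : MaximalSpectrum K => K ⧸ m.asIdeal)
    (fun m => Ideal.Quotient.mk m.asIdeal) (fun m => ?_) fun a ha => ?_
  · exact RingHom.EssFiniteType.comp (RingHom.essFiniteType_algebraMap.mpr ‹_›)
      (RingHom.FiniteType.of_surjective _ Ideal.Quotient.mk_surjective).essFiniteType
  · exact (IsArtinianRing.equivPi K).injective (funext fun m => by rw [map_zero]; exact ha m)

set_option maxHeartbeats 1600000 in
theorem essFiniteType_of_semilocal (hA : EGA4.IsExcellent A) (hE : EGA4loc.IsEssentiallyEtale A E)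
    (D : Subalgebra A E) [IsLocalRing D] [IsLocalHom (algebraMap D E)]
    (D' : Subalgebra A (FractionRing E))
    (hD' : ∀ x : (FractionRing E), x ∈ D' ↔ (IsIntegral D x ∧
      ∃ a ∈ nonZeroDivisors A, ∃ d ∈ D, algebraMap A (FractionRing E) a * x = algebraMap E (FractionRing E) d))
    (hle : D' ≤ ((integralClosure E (FractionRing E)).restrictScalars A))
    (hsurj : ∀ N : Ideal D', N.IsMaximal →
      ∃ M : Ideal ((integralClosure E (FractionRing E)).restrictScalars A), M.IsMaximal ∧ M.comap (Subalgebra.inclusion hle) = N) :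
    Algebra.EssFiniteType A D := by
  classical
  obtain ⟨_, _, hfin, hover, hTE, hu⟩ := basics hE
  obtain ⟨hloc, -⟩ := EssEtFrac.isLocalization_and_finite A E (minimalPrimes.finite_of_isNoetherianRing A) hE
  haveI := hloc
  let K := FractionRing E
  let E' := (integralClosure E K).restrictScalars A
  let φ : E →ₐ[A] K := IsScalarTower.toAlgHom A E K
  let L : Subalgebra A K :=
    { carrier := {y | ∃ a ∈ nonZeroDivisors A, ∃ d ∈ D, algebraMap A K a * y = φ d}
      mul_mem' := by
        rintro y z ⟨a, ha, d, hd, h⟩ ⟨b, hb, d', hd', h'⟩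
        refine ⟨a * b, Submonoid.mul_mem _ ha hb, d * d', D.mul_mem hd hd', ?_⟩
        rw [map_mul, map_mul, mul_mul_mul_comm, h, h']
      add_mem' := by
        rintro y z ⟨a, ha, d, hd, h⟩ ⟨b, hb, d', hd', h'⟩
        refine ⟨a * b, Submonoid.mul_mem _ ha hb, b • d + a • d', D.add_mem (D.smul_mem hd b) (D.smul_mem hd' a), ?_⟩
        rw [map_add, map_smul, map_smul, ← h, ← h', Algebra.smul_def, Algebra.smul_def, map_mul]
        ring
      algebraMap_mem' := fun r => ⟨1, Submonoid.one_mem _, algebraMap A E r, D.algebraMap_mem r, by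
        rw [map_one, one_mul, φ.commutes]⟩ }
  have hL : ∀ s ∈ nonZeroDivisors A, ∃ y ∈ L, algebraMap A K s * y = 1 := fun s hs => by
    obtain ⟨y, hy⟩ := (IsLocalization.map_units K (⟨_, s, hs, rfl⟩ : (nonZeroDivisors A).map (algebraMap A E))).exists_right_inv
    have hy' : algebraMap A K s * y = 1 := by rw [IsScalarTower.algebraMap_apply A E K]; exact hy
    exact ⟨y, ⟨s, hs, 1, D.one_mem, by rw [map_one]; exact hy'⟩, hy'⟩
  obtain ⟨hart, hint, -⟩ := intermediate hE L hL
  haveI := hart
  haveI := hint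
  haveI := finite_integralClosure_total hA hE
  let T := integralClosure A K
  let R : Subalgebra A K := L ⊓ T
  haveI : Module.Finite A R := Module.Finite.of_injective (Subalgebra.inclusion (inf_le_right : R ≤ T)).toLinearMap
    (Subalgebra.inclusion_injective (inf_le_right : R ≤ T))
  have hRD' : R ≤ D' := fun x hx => (hD' x).mpr ⟨IsIntegral.tower_top (A := D) hx.2, hx.1⟩
  have hD'L : ∀ x ∈ D', x ∈ L := fun x hx => ((hD' x).mp hx).2
  let jE : R →ₐ[A] E' := Subalgebra.inclusion ((inf_le_right : R ≤ T).trans hTE)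
  let jD : R →ₐ[A] D' := Subalgebra.inclusion hRD'
  have hRmax : ∀ Q : Ideal R, Q.IsMaximal → Q.comap (algebraMap A R) = maximalIdeal A := fun Q hQ =>
    haveI := hQ
    IsLocalRing.eq_maximalIdeal (Ideal.isMaximal_comap_of_isIntegral_of_isMaximal (R := A) Q)
  have hq : ∀ M : Ideal E', M.IsMaximal → (M.comap jE).IsMaximal := fun M hM => by
    haveI := hM
    refine Ideal.isMaximal_of_isIntegral_of_isMaximal_comap (R := A) _ ?_
    have : (M.comap jE).comap (algebraMap A R) = maximalIdeal A := hover M hM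
    rw [this]; infer_instance
  haveI : Finite (MaximalSpectrum R) := Groth.Agent.H22Alg.finite_maximalSpectrum_of_finite A R
  let bad : Set (MaximalSpectrum R) := {Q | ¬ ∃ M : Ideal E', M.IsMaximal ∧ Q.asIdeal = M.comap jE}
  have hs : ∃ s : R, (∀ Q ∈ bad, s ∈ Q.asIdeal) ∧ ∀ M : Ideal E', M.IsMaximal → s ∉ M.comap jE := by
    by_contra hcon
    push Not at hcon
    let J : Ideal R := ⨅ Q ∈ (Set.toFinite bad).toFinset, Q.asIdeal
    have hsub : (J : Set R) ⊆ ⋃ M ∈ (hfin.toFinset : Set (Ideal E')), M.comap jE := fun s hs => by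
      obtain ⟨M, hM, hMs⟩ := hcon s fun Q hQ => (iInf₂_le (f := fun (Q : MaximalSpectrum R) (_ : Q ∈ (Set.toFinite bad).toFinset) => Q.asIdeal) Q ((Set.toFinite bad).mem_toFinset.mpr hQ)) hs
      exact Set.mem_iUnion₂.mpr ⟨M, hfin.mem_toFinset.mpr hM, hMs⟩
    obtain ⟨M, hM, hle'⟩ := (Ideal.subset_union_prime ⊥ ⊥ fun M hM _ _ =>
      (hq M (hfin.mem_toFinset.mp hM)).isPrime).mp hsub
    have hMmax := hq M (hfin.mem_toFinset.mp hM)
    have hle'' : ((Set.toFinite bad).toFinset.inf fun Q : MaximalSpectrum R => Q.asIdeal) ≤ M.comap jE := by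
      rw [Finset.inf_eq_iInf]; exact hle'
    obtain ⟨Q, hQ, hQle⟩ := (hMmax.isPrime.inf_le').mp hle''
    exact (Set.toFinite bad).mem_toFinset.mp hQ ⟨M, hfin.mem_toFinset.mp hM, Q.isMaximal.eq_of_le hMmax.ne_top hQle⟩
  obtain ⟨s, hsbad, hsgood⟩ := hs
  have hunit : ∀ u : R, IsUnit (jE u) → IsUnit (jD u) := fun u hu => by
    by_contra h
    obtain ⟨N, hN, huN⟩ := Ideal.exists_le_maximal _ (mt Ideal.span_singleton_eq_top.mp h)
    obtain ⟨M, hM, rfl⟩ := hsurj N hN
    exact hM.ne_top (Ideal.eq_top_of_isUnit_mem M (huN (Ideal.mem_span_singleton_self _)) hu)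
  have hsu : IsUnit (jE s) := by
    by_contra h
    obtain ⟨M, hM, hsM⟩ := Ideal.exists_le_maximal _ (mt Ideal.span_singleton_eq_top.mp h)
    exact hsgood M hM (hsM (Ideal.mem_span_singleton_self _))
  obtain ⟨v, hv⟩ := (hunit s hsu).exists_right_inv
  have hv' : (s : K) * (v : K) = 1 := congrArg Subtype.val hv
  obtain ⟨p, hp, hpv⟩ := ((hD' v).mp v.2).1
  let F : Finset D := (Finset.range p.natDegree).image fun i => p.coeff i
  obtain ⟨D₁, hD₁, hF, hD₁loc, hD₁dom, hD₁ft⟩ := EssEtNoeth.exists_local_subalgebra D F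
  haveI := hD₁loc
  haveI := hD₁dom
  haveI := hD₁ft
  haveI : IsNoetherianRing D₁ := Algebra.EssFiniteType.isNoetherianRing A D₁
  haveI : IsScalarTower A D₁ K := IsScalarTower.of_algebraMap_eq fun a => IsScalarTower.algebraMap_apply A E K a
  let C₁ : Subalgebra D₁ K := Algebra.adjoin D₁ (R : Set K)
  have hRC : ∀ r : R, (r : K) ∈ C₁ := fun r => Algebra.subset_adjoin r.2
  obtain ⟨w, hw⟩ : (Subalgebra.toSubmodule R).FG := Module.Finite.iff_fg.mp (inferInstance : Module.Finite A R)
  have hC₁fg : (Subalgebra.toSubmodule C₁).FG := by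
    have h1 : C₁ = Algebra.adjoin D₁ (w : Set K) := by
      refine le_antisymm (Algebra.adjoin_le fun r hr => ?_) (Algebra.adjoin_mono ?_)
      · have h2 : r ∈ Submodule.span A (w : Set K) := hw.ge hr
        exact (Submodule.span_le (p := (Subalgebra.toSubmodule (Algebra.adjoin D₁ (w : Set K))).restrictScalars A)).mpr
          Algebra.subset_adjoin h2
      · rw [← show (Submodule.span A (w : Set K) : Set K) = (R : Set K) from congrArg SetLike.coe hw]
        exact Submodule.subset_span
    rw [h1]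
    exact fg_adjoin_of_finite w.finite_toSet fun r hr =>
      IsIntegral.tower_top (A := D₁) (hw.le (Submodule.subset_span hr)).2
  haveI : Module.Finite D₁ C₁ := Module.Finite.iff_fg.mpr hC₁fg
  have hvC : (v : K) ∈ C₁ := by
    rw [← aeval_def, hp.as_sum, map_add, map_pow, aeval_X, map_sum] at hpv
    rcases Nat.eq_zero_or_pos p.natDegree with h0 | h0
    · rw [h0, pow_zero, Finset.range_zero, Finset.sum_empty, add_zero] at hpv
      rw [← one_mul (v : K), hpv, zero_mul]; exact C₁.zero_mem
    have hpow : ∀ i, i ≤ p.natDegree - 1 → (s : K) ^ (p.natDegree - 1) * (v : K) ^ i = (s : K) ^ (p.natDegree - 1 - i) := fun i hi => by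
      conv_lhs => rw [← Nat.sub_add_cancel hi]
      rw [pow_add, mul_assoc, ← mul_pow, hv', one_pow, mul_one]
    have h1 := congrArg (fun z => (s : K) ^ (p.natDegree - 1) * z) hpv
    beta_reduce at h1
    rw [mul_add, mul_zero, Finset.mul_sum] at h1
    rw [show (v : K) ^ p.natDegree = (v : K) ^ (p.natDegree - 1) * v from by rw [← pow_succ, Nat.sub_add_cancel h0],
      ← mul_assoc, ← mul_pow, hv', one_pow, one_mul] at h1
    rw [eq_neg_of_add_eq_zero_left h1]
    refine C₁.neg_mem (C₁.sum_mem fun i hi => ?_)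
    rw [map_mul, aeval_C, map_pow, aeval_X, mul_left_comm, hpow i (Nat.le_sub_one_of_lt (Finset.mem_range.mp hi))]
    exact C₁.mul_mem (C₁.algebraMap_mem ⟨((p.coeff i : D) : E), hF _ (Finset.mem_image.mpr ⟨i, hi, rfl⟩)⟩)
      (C₁.pow_mem (hRC s) _)
  have hCu : ∀ u : R, IsUnit (jE u) → IsUnit (⟨(u : K), hRC u⟩ : C₁) := fun u hu => by
    by_contra h
    obtain ⟨Q, hQ, huQ⟩ := Ideal.exists_le_maximal _ (mt Ideal.span_singleton_eq_top.mp h)
    let jC : R →+* C₁ :=
      { toFun := fun r => ⟨r, hRC r⟩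
        map_one' := rfl
        map_mul' := fun _ _ => rfl
        map_zero' := rfl
        map_add' := fun _ _ => rfl }
    haveI := hQ
    haveI : Algebra.IsIntegral D₁ C₁ := Algebra.IsIntegral.of_finite D₁ C₁
    have h1 : (Q.comap (algebraMap D₁ C₁)).IsMaximal := Ideal.isMaximal_comap_of_isIntegral_of_isMaximal Q
    have h2 : (Q.comap jC).comap (algebraMap A R) = maximalIdeal A := by
      have h3 : jC.comp (algebraMap A R) = (algebraMap D₁ C₁).comp (algebraMap A D₁) := by
        ext a
        exact IsScalarTower.algebraMap_apply A D₁ K a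
      rw [Ideal.comap_comap, h3, ← Ideal.comap_comap, IsLocalRing.eq_maximalIdeal h1]
      haveI : IsLocalHom (algebraMap A D₁) := ⟨fun a ha => by
        have := ha.map (D₁.val)
        rw [AlgHom.commutes] at this
        exact (isUnit_map_iff (algebraMap A E) a).mp this⟩
      exact (((local_hom_TFAE (algebraMap A D₁)).out 0 4 rfl rfl).mp inferInstance)
    haveI : (Q.comap jC).IsPrime := inferInstance
    have hQmax : (Q.comap jC).IsMaximal := Ideal.isMaximal_of_isIntegral_of_isMaximal_comap (R := A) _ (by rw [h2]; infer_instance)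
    have hgood : ∃ M : Ideal E', M.IsMaximal ∧ Q.comap jC = M.comap jE := by
      by_contra hb
      have hsQ : jC s ∈ Q := hsbad ⟨_, hQmax⟩ hb
      exact hQ.ne_top (Ideal.eq_top_of_isUnit_mem Q hsQ (IsUnit.of_mul_eq_one ⟨v, hvC⟩ (Subtype.ext hv')))
    obtain ⟨M, hM, hQM⟩ := hgood
    have huM : u ∈ M.comap jE := hQM.le (huQ (Ideal.mem_span_singleton_self _))
    exact hM.ne_top (Ideal.eq_top_of_isUnit_mem M huM hu)
  have hD'C : ∀ x ∈ D', x ∈ C₁ := fun x hx => by
    obtain ⟨t, ht, htL, htu, htx⟩ := exists_unit_mul L E' hTE hfin hu x (hD'L x hx) (hle hx)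
    obtain ⟨z, hz⟩ := (hCu ⟨t, htL, ht⟩ htu).exists_right_inv
    have hz' : t * (z : K) = 1 := congrArg Subtype.val hz
    have : x = (t * x) * (z : K) := by rw [mul_right_comm, hz', one_mul]
    rw [this]
    exact C₁.mul_mem (hRC ⟨t * x, L.mul_mem htL (hD'L x hx), htx⟩) z.2
  letI : Algebra D₁ D := (Subalgebra.inclusion hD₁).toRingHom.toAlgebra
  haveI : IsScalarTower A D₁ D := IsScalarTower.of_algebraMap_eq fun a => rfl
  have hDD' : ∀ d : D, algebraMap E K (d : E) ∈ D' := fun d =>
    (hD' _).mpr ⟨isIntegral_algebraMap (R := D) (A := K) (x := d), 1, Submonoid.one_mem _, d, d.2, by rw [map_one, one_mul]⟩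
  let f : D →ₗ[D₁] C₁ :=
    { toFun := fun d => ⟨algebraMap E K d, hD'C _ (hDD' d)⟩
      map_add' := fun a b => Subtype.ext (map_add (algebraMap E K) (a : E) (b : E))
      map_smul' := fun c d => Subtype.ext (by
        show algebraMap E K ((c : E) * (d : E)) = (c : E) • algebraMap E K (d : E)
        rw [map_mul, Algebra.smul_def]) }
  haveI : IsNoetherian D₁ C₁ := isNoetherian_of_isNoetherianRing_of_finite D₁ C₁
  haveI : Module.Finite D₁ D := Module.Finite.of_injective f fun a b h =>
    Subtype.ext (IsFractionRing.injective E K (congrArg Subtype.val h))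
  exact Algebra.EssFiniteType.comp A D₁ D

end

end Groth.Agent.H05EGA4.EssEtSemilocal
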