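import Mathlib
import Groth.Agent.H05EGA4.EssEtSemilocal
import Groth.Agent.H8Props.WeakEtaleNormal
import Groth.Agent.H1WE.Contractible
import Groth.Agent.H1Branch.Etale
import Groth.Agent.S9812

/-!
Normal subalgebras of a strict henselization of an excellent normal domain.
-/

set_option autoImplicit false
set_option backward.isDefEq.respectTransparency false
set_option linter.style.haveILetI false
universe u
open IsLocalRing

namespace Groth.Agent.H05EGA4.EssEtNormal

theorem normal_of_isEssentiallyEtale {A E : Type u} [CommRing A] [IsLocalRing A] [IsDomain A] [IsIntegrallyClosed A]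
    [CommRing E] [IsLocalRing E] [Algebra A E] (hE : EGA4loc.IsEssentiallyEtale A E) :
    IsDomain E ∧ IsIntegrallyClosed E := by
  obtain ⟨C, _, _, q, _, _, -, ⟨e⟩⟩ := hE
  haveI := Groth.Agent.H1WE.weaklyEtale_of_isLocalization q.primeCompl (Localization.AtPrime q)
  haveI : Algebra.WeaklyEtale A (Localization.AtPrime q) := Algebra.WeaklyEtale.trans A C _
  obtain ⟨h1, h2⟩ := Groth.Agent.H8Props.WeakEtaleNormal.isDomain_and_isIntegrallyClosed_of_weaklyEtale A (Localization.AtPrime q)
  haveI := h1
  haveI := h2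
  haveI : IsDomain E := e.toRingEquiv.toMulEquiv.isDomain_iff.mpr inferInstance
  exact ⟨inferInstance, IsIntegrallyClosed.of_equiv e.symm.toRingEquiv⟩

theorem flat_of_formallyUnramified {D E : Type u} [CommRing D] [CommRing E] [IsDomain D] [IsIntegrallyClosed D]
    [IsLocalRing D] [IsLocalRing E] [Algebra D E] [IsLocalHom (algebraMap D E)] [Algebra.EssFiniteType D E]
    [Algebra.FormallyUnramified D E] (hinj : Function.Injective (algebraMap D E)) : Module.Flat D E := by
  obtain ⟨S, _, _, _, _, _, Q, hQ, hloc⟩ := Groth.Agent.H9Hens.exists_finiteType_atPrime D E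
  haveI : Algebra.IsUnramifiedAt D Q := Algebra.FormallyUnramified.of_equiv
    ((IsLocalization.algEquiv Q.primeCompl (Localization.AtPrime Q) E).restrictScalars D).symm
  let p := Q.comap (algebraMap D S)
  haveI : Q.LiesOver p := ⟨rfl⟩
  haveI : IsLocalRing (Localization.AtPrime p) := inferInstance
  haveI : IsIntegrallyClosed (Localization.AtPrime p) :=
    isIntegrallyClosed_of_isLocalization _ p.primeCompl p.primeCompl_le_nonZeroDivisors
  have hA := Groth.Agent.S9812.result (Localization.AtPrime p)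
  let eE := IsLocalization.algEquiv Q.primeCompl (Localization.AtPrime Q) E
  obtain ⟨g, hg, hget⟩ := Groth.Agent.H1Branch.exists_etale_away Q p hA fun a ha => hinj (by
    rw [map_zero, IsScalarTower.algebraMap_apply D S E, ← eE.commutes (algebraMap D S a),
      ← IsScalarTower.algebraMap_apply D S (Localization.AtPrime Q), ha, map_zero])
  let Sg := Localization.Away g
  have hu : ∀ y : Submonoid.powers g, IsUnit (algebraMap S E y) := by
    rintro ⟨_, k, rfl⟩
    rw [map_pow]
    exact (IsLocalization.map_units E (⟨g, hg⟩ : Q.primeCompl)).pow k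
  letI : Algebra Sg E := (IsLocalization.lift hu).toAlgebra
  haveI : IsScalarTower S Sg E := IsScalarTower.of_algebraMap_eq fun x => (IsLocalization.lift_eq hu x).symm
  haveI : IsScalarTower D Sg E := IsScalarTower.of_algebraMap_eq fun x => by
    rw [IsScalarTower.algebraMap_apply D S Sg, ← IsScalarTower.algebraMap_apply S Sg E, ← IsScalarTower.algebraMap_apply]
  haveI := hget
  haveI : IsLocalization (Q.primeCompl.map (algebraMap S Sg)) E :=
    IsLocalization.isLocalization_of_submonoid_le Sg E (Submonoid.powers g) Q.primeCompl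
      (Submonoid.powers_le.mpr hg)
  haveI : Module.Flat Sg E := IsLocalization.flat E (Q.primeCompl.map (algebraMap S Sg))
  haveI : Module.Flat D Sg := inferInstance
  exact Module.Flat.trans D Sg E

variable {A S : Type u} [CommRing A] [IsLocalRing A] [CommRing S] [IsLocalRing S] [Algebra A S]
  [IsLocalHom (algebraMap A S)] [Hensel.IsStrictHenselization A S]

set_option maxHeartbeats 1600000 in
theorem isEssentiallyEtale_of_fg [IsDomain A] [IsIntegrallyClosed A] (hA : EGA4.IsExcellent A)
    (D : Subalgebra A S) [IsLocalRing D] [IsLocalHom (algebraMap D S)] [IsDomain D] [IsIntegrallyClosed D]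
    (hfg : ∃ s : Finset D, Subfield.closure (Set.range (algebraMap A (FractionRing D)) ∪
        (algebraMap D (FractionRing D)) '' (s : Set D)) = ⊤) :
    EGA4loc.IsEssentiallyEtale A D := by
  classical
  haveI : IsNoetherianRing A := hA.1
  obtain ⟨s, hs⟩ := hfg
  obtain ⟨E, hsE, hEloc, hEdom, hE⟩ := EssEtSub.exists_subalgebra (A := A) (s.image fun d : D => (d : S))
  haveI := hEloc
  haveI := hEdom
  haveI := EssEtFG.faithfullyFlat_of_isEssentiallyEtale E hE
  obtain ⟨hdom, hIC⟩ := normal_of_isEssentiallyEtale hE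
  haveI := hdom
  haveI := hIC
  let DE : Subalgebra A D := E.comap D.val
  have hDE : D ≤ E := by
    intro x hx
    let K := FractionRing D
    have hx' : algebraMap D K ⟨x, hx⟩ ∈ Subfield.closure (Set.range (algebraMap A K) ∪ (algebraMap D K) '' (s : Set D)) :=
      hs ▸ Subfield.mem_top _
    obtain ⟨c, hc, b, hb, hcb⟩ := Subfield.mem_closure_iff.mp hx'
    have hle : Subring.closure (Set.range (algebraMap A K) ∪ (algebraMap D K) '' (s : Set D)) ≤
        (DE.map (IsScalarTower.toAlgHom A D K)).toSubring := Subring.closure_le.mpr <| by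
      rintro z (⟨a, rfl⟩ | ⟨d, hd, rfl⟩)
      · exact (DE.map (IsScalarTower.toAlgHom A D K)).algebraMap_mem a
      · exact ⟨d, hsE (Finset.mem_image.mpr ⟨d, hd, rfl⟩), rfl⟩
    obtain ⟨c', hc', hcc⟩ := hle hc
    obtain ⟨b', hb', hbb⟩ := hle hb
    have hcc' : algebraMap D K c' = c := hcc
    have hbb' : algebraMap D K b' = b := hbb
    rcases eq_or_ne b' 0 with h0 | h0
    · have : algebraMap D K ⟨x, hx⟩ = 0 := by rw [← hcb, ← hbb', h0, map_zero, div_zero]
      have hx0 : x = 0 := congrArg Subtype.val ((IsFractionRing.injective D K) (this.trans (map_zero _).symm))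
      rw [hx0]
      exact E.zero_mem
    have hb0 : b ≠ 0 := by
      rw [← hbb']; exact (map_ne_zero_iff _ (IsFractionRing.injective D K)).mpr h0
    have h1 : (⟨x, hx⟩ : D) * b' = c' := IsFractionRing.injective D K (by
      rw [map_mul, hcc', hbb', ← hcb, div_mul_cancel₀ _ hb0])
    have h2 : (⟨c', hc'⟩ : E) ∈ Ideal.span {(⟨b', hb'⟩ : E)} := by
      rw [← Ideal.comap_map_eq_self_of_faithfullyFlat (B := S) (Ideal.span {(⟨b', hb'⟩ : E)}),
        Ideal.mem_comap, Ideal.map_span, Set.image_singleton, Ideal.mem_span_singleton']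
      exact ⟨x, (congrArg Subtype.val h1 :)⟩
    obtain ⟨y, hy⟩ := Ideal.mem_span_singleton'.mp h2
    have hbne : (⟨b', hb'⟩ : E) ≠ 0 := fun h => h0 (Subtype.ext (congrArg Subtype.val h :))
    have hr : IsSMulRegular E (⟨b', hb'⟩ : E) := isSMulRegular_iff_right_eq_zero_of_smul.mpr fun z hz =>
      (mul_eq_zero.mp hz).resolve_left hbne
    have h3 : algebraMap E S ⟨b', hb'⟩ * (x - (y : S)) = 0 := by
      have h4 : (y : S) * ((b' : D) : S) = ((c' : D) : S) := congrArg Subtype.val hy
      have h5 : x * ((b' : D) : S) = ((c' : D) : S) := congrArg Subtype.val h1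
      show ((b' : D) : S) * (x - (y : S)) = 0
      rw [mul_sub, mul_comm, h5, mul_comm, h4, sub_self]
    rw [sub_eq_zero.mp ((hr.of_flat (S := S)).right_eq_zero_of_smul h3)]
    exact y.2
  haveI : IsLocalHom (algebraMap A E) := ⟨fun a ha => by
    have := ha.map (algebraMap E S)
    rw [← IsScalarTower.algebraMap_apply] at this
    exact (isUnit_map_iff (algebraMap A S) a).mp this⟩
  let D1 : Subalgebra A E := D.comap E.val
  let eD : D1 ≃ₐ[A] D :=
    { toFun := fun d => ⟨((d : E) : S), d.2⟩
      invFun := fun d => ⟨⟨d, hDE d.2⟩, d.2⟩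
      left_inv := fun d => rfl
      right_inv := fun d => rfl
      map_mul' := fun _ _ => rfl
      map_add' := fun _ _ => rfl
      commutes' := fun _ => rfl }
  haveI : IsLocalRing D1 := eD.symm.toRingEquiv.isLocalRing
  haveI : IsDomain D1 := eD.toRingEquiv.toMulEquiv.isDomain_iff.mpr inferInstance
  haveI : IsIntegrallyClosed D1 := IsIntegrallyClosed.of_equiv eD.symm.toRingEquiv
  haveI : IsLocalHom (algebraMap D1 E) := ⟨fun d hd => by
    have h1 : IsUnit (eD d) := (isUnit_map_iff (algebraMap D S) (eD d)).mp (hd.map (algebraMap E S))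
    have := h1.map eD.symm
    rwa [eD.symm_apply_apply] at this⟩
  let KE := FractionRing E
  have hinjE : Function.Injective (algebraMap E KE) := IsFractionRing.injective E KE
  let D' : Subalgebra A KE := D1.map (IsScalarTower.toAlgHom A E KE)
  have hmin : (minimalPrimes A).Finite := minimalPrimes.finite_of_isNoetherianRing A
  haveI := EssEtFrac.flat_of_isEssentiallyEtale hE
  have hA0 : ∀ a ∈ nonZeroDivisors A, algebraMap A E a ≠ 0 := fun a ha =>
    nonZeroDivisors.ne_zero (EssEtFrac.map_nonZeroDivisors_le (A := A) (E := E) (Submonoid.mem_map_of_mem _ ha))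
  have hD' : ∀ x : KE, x ∈ D' ↔ (IsIntegral D1 x ∧
      ∃ a ∈ nonZeroDivisors A, ∃ d ∈ D1, algebraMap A KE a * x = algebraMap E KE d) := by
    intro x
    constructor
    · rintro ⟨d, hd, rfl⟩
      exact ⟨isIntegral_algebraMap (R := D1) (x := ⟨d, hd⟩), 1, Submonoid.one_mem _, d, hd, by rw [map_one, one_mul]; rfl⟩
    · rintro ⟨hx, a, ha, d, hd, hax⟩
      let F := FractionRing D1
      have hinj1 : Function.Injective (algebraMap D1 KE) := hinjE.comp Subtype.val_injective
      let j : F →ₐ[D1] KE := IsFractionRing.liftAlgHom (K := F) (g := Algebra.ofId D1 KE) hinj1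
      have ha0 : algebraMap A D1 a ≠ 0 := fun h => hA0 a ha (congrArg Subtype.val h)
      let y : F := algebraMap D1 F ⟨d, hd⟩ / algebraMap D1 F (algebraMap A D1 a)
      have hjy : j y = x := by
        have haK : algebraMap A KE a ≠ 0 := by
          rw [IsScalarTower.algebraMap_apply A E KE]; exact (map_ne_zero_iff _ hinjE).mpr (hA0 a ha)
        rw [map_div₀, j.commutes, j.commutes]
        show algebraMap E KE d / algebraMap E KE (algebraMap A E a) = x
        rw [← IsScalarTower.algebraMap_apply, div_eq_iff haK, ← hax, mul_comm]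
      obtain ⟨z, hz⟩ := IsIntegrallyClosed.isIntegral_iff.mp
        ((isIntegral_algHom_iff j j.toRingHom.injective (x := y)).mp (hjy ▸ hx))
      refine ⟨(z : E), z.2, ?_⟩
      rw [← hjy, ← hz, j.commutes]
      rfl
  have hle : D' ≤ (integralClosure E KE).restrictScalars A := by
    rintro _ ⟨d, -, rfl⟩
    exact isIntegral_algebraMap
  let jD : D1 →ₐ[A] D' := ((IsScalarTower.toAlgHom A E KE).comp D1.val).codRestrict D' fun d => ⟨d, d.2, rfl⟩
  have hjD : Function.Surjective jD := by
    rintro ⟨_, d, hd, rfl⟩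
    exact ⟨⟨d, hd⟩, rfl⟩
  have hsurj : ∀ N : Ideal D', N.IsMaximal →
      ∃ M : Ideal ((integralClosure E KE).restrictScalars A), M.IsMaximal ∧ M.comap (Subalgebra.inclusion hle) = N := by
    intro N hN
    haveI : Nontrivial ((integralClosure E KE).restrictScalars A) :=
      inferInstanceAs (Nontrivial (integralClosure E KE))
    obtain ⟨M, hM⟩ := Ideal.exists_maximal ((integralClosure E KE).restrictScalars A)
    haveI := hM
    refine ⟨M, hM, ?_⟩
    haveI : (M.comap (Subalgebra.inclusion hle)).IsPrime := inferInstance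
    haveI := hN
    have h1 : (N.comap jD) = maximalIdeal D1 := IsLocalRing.eq_maximalIdeal (Ideal.comap_isMaximal_of_surjective _ hjD)
    have h2 : (M.comap (Subalgebra.inclusion hle)).comap jD = maximalIdeal D1 := by
      have hM' : ((M : Ideal (integralClosure E KE)).comap (algebraMap E (integralClosure E KE))).IsMaximal :=
        Ideal.isMaximal_comap_of_isIntegral_of_isMaximal (R := E) (S := integralClosure E KE) M
      have h3 : (M.comap (Subalgebra.inclusion hle)).comap jD =
          ((M : Ideal (integralClosure E KE)).comap (algebraMap E (integralClosure E KE))).comap (algebraMap D1 E) := rfl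
      rw [h3, IsLocalRing.eq_maximalIdeal hM']
      exact (((local_hom_TFAE (algebraMap D1 E)).out 0 4 rfl rfl).mp inferInstance)
    exact Ideal.comap_injective_of_surjective _ hjD (h2.trans h1.symm)
  haveI := EssEtSemilocal.essFiniteType_of_semilocal hA hE D1 D' hD' hle hsurj
  haveI : Algebra.EssFiniteType A D := (Algebra.EssFiniteType.iff_of_algEquiv eD).mp inferInstance
  obtain ⟨hft, -⟩ := EssEtSemilocal.isNoetherianRing_of_isEssentiallyEtale hE
  haveI := hft
  haveI : Algebra.FormallyUnramified A E := by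
    obtain ⟨C, _, _, q, _, _, -, ⟨e⟩⟩ := hE
    haveI : Algebra.FormallyUnramified A (Localization.AtPrime q) := Algebra.FormallyUnramified.comp A C _
    exact Algebra.FormallyUnramified.of_equiv e.symm
  haveI : Algebra.EssFiniteType D1 E := Algebra.EssFiniteType.of_comp A D1 E
  haveI : Algebra.FormallyUnramified D1 E := Algebra.FormallyUnramified.of_restrictScalars A D1 E
  haveI := flat_of_formallyUnramified (D := D1) (E := E) Subtype.val_injective
  haveI : Module.FaithfullyFlat D1 E := Module.FaithfullyFlat.of_flat_of_isLocalHom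
  have hm1 : Ideal.map (algebraMap A D1) (maximalIdeal A) = maximalIdeal D1 := by
    have h1 := ((Algebra.FormallyUnramified.iff_map_maximalIdeal_eq (R := A) (S := E)).mp inferInstance).2
    rw [IsScalarTower.algebraMap_eq A D1 E, ← Ideal.map_map] at h1
    rw [← Ideal.comap_map_eq_self_of_faithfullyFlat (B := E) (Ideal.map (algebraMap A D1) (maximalIdeal A)), h1]
    exact ((local_hom_TFAE (algebraMap D1 E)).out 0 4 rfl rfl).mp inferInstance
  refine EssEtSub.of_essFiniteType D ?_
  have h2 := congrArg (Ideal.map eD.toAlgHom.toRingHom) hm1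
  rw [Ideal.map_map, AlgHom.toRingHom_eq_coe, AlgHom.comp_algebraMap] at h2
  rw [h2]
  exact eq_maximalIdeal (Ideal.map_isMaximal_of_equiv eD.toRingEquiv)

set_option maxHeartbeats 1600000 in
theorem exists_le [IsDomain A] [IsIntegrallyClosed A] (hA : EGA4.IsExcellent A)
    (D : Subalgebra A S) [IsLocalRing D] [IsLocalHom (algebraMap D S)] [IsDomain D] [IsIntegrallyClosed D]
    (s : Finset S) (hs : (s : Set S) ⊆ (D : Set S)) :
    ∃ D' : Subalgebra A S, D' ≤ D ∧ (s : Set S) ⊆ (D' : Set S) ∧
      ∃ _ : IsLocalRing D', IsLocalHom (algebraMap D' S) ∧ EGA4loc.IsEssentiallyEtale A D' := by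
  classical
  let B := Algebra.adjoin A (s : Set S)
  have hBD : B ≤ D := Algebra.adjoin_le hs
  have hzero : ∀ p q : S, p ∈ D → q ∈ D → p * q = 0 → p = 0 ∨ q = 0 := fun p q hp hq h =>
    (mul_eq_zero.mp (show (⟨p, hp⟩ : D) * ⟨q, hq⟩ = 0 from Subtype.ext h)).imp
      (congrArg Subtype.val ·) (congrArg Subtype.val ·)
  have h10 : (1 : S) ≠ 0 := one_ne_zero
  let D' : Subalgebra A S :=
    { carrier := {x | x ∈ D ∧ ∃ b c, b ∈ B ∧ c ∈ B ∧ b ≠ 0 ∧ b * x = c}
      mul_mem' := by
        rintro x y ⟨hx, b, c, hb, hc, hb0, h⟩ ⟨hy, b', c', hb', hc', hb0', h'⟩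
        refine ⟨D.mul_mem hx hy, b * b', c * c', B.mul_mem hb hb', B.mul_mem hc hc', fun h0 => ?_, ?_⟩
        · exact (hzero b b' (hBD hb) (hBD hb') h0).elim hb0 hb0'
        · rw [mul_mul_mul_comm, h, h']
      add_mem' := by
        rintro x y ⟨hx, b, c, hb, hc, hb0, h⟩ ⟨hy, b', c', hb', hc', hb0', h'⟩
        refine ⟨D.add_mem hx hy, b * b', b' * c + b * c', B.mul_mem hb hb',
          B.add_mem (B.mul_mem hb' hc) (B.mul_mem hb hc'), fun h0 => ?_, ?_⟩
        · exact (hzero b b' (hBD hb) (hBD hb') h0).elim hb0 hb0'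
        · rw [← h, ← h']; ring
      algebraMap_mem' := fun r => ⟨D.algebraMap_mem r, 1, algebraMap A S r, B.one_mem, B.algebraMap_mem r, h10, one_mul _⟩ }
  have hD'D : D' ≤ D := fun x hx => hx.1
  have hBD' : B ≤ D' := fun x hx => ⟨hBD hx, 1, x, B.one_mem, hx, h10, one_mul _⟩
  have hunit : ∀ x : D', IsUnit (x : S) → IsUnit x := fun x hx => by
    obtain ⟨hxD, b, c, hb, hc, hb0, h⟩ := x.2
    obtain ⟨v, hv⟩ := ((isUnit_map_iff (algebraMap D S) (⟨(x : S), hxD⟩ : D)).mp hx).exists_right_inv
    have hv' : (x : S) * (v : S) = 1 := congrArg Subtype.val hv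
    have hc0 : c ≠ 0 := fun h0 => by
      refine hb0 ?_
      rw [← mul_one b, ← hv', ← mul_assoc, h, h0, zero_mul]
    have : (v : S) ∈ D' := ⟨v.2, c, b, hc, hb, hc0, by rw [← h, mul_assoc, hv', mul_one]⟩
    exact IsUnit.of_mul_eq_one (⟨v, this⟩ : D') (Subtype.ext hv')
  haveI : IsLocalRing D' := IsLocalRing.of_isUnit_or_isUnit_one_sub_self fun x => by
    rcases IsLocalRing.isUnit_or_isUnit_one_sub_self (x : S) with h | h
    · exact Or.inl (hunit x h)
    · exact Or.inr (hunit (1 - x) h)
  haveI : IsLocalHom (algebraMap D' S) := ⟨fun x hx => hunit x hx⟩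
  let i : D' →ₐ[A] D := Subalgebra.inclusion hD'D
  have hi : Function.Injective i := Subalgebra.inclusion_injective hD'D
  haveI : IsDomain D' := Function.Injective.isDomain i.toRingHom hi
  let F := FractionRing D'
  let G := FractionRing D
  haveI : IsIntegrallyClosed D' := by
    refine (isIntegrallyClosed_iff F).mpr fun {y} hy => ?_
    have hi' : Function.Injective ((algebraMap D G).comp i.toRingHom) := (IsFractionRing.injective D G).comp hi
    let J : F →+* G := IsFractionRing.lift hi'
    have hJ : ∀ d, J (algebraMap D' F d) = algebraMap D G (i d) := fun d => IsFractionRing.lift_algebraMap hi' d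
    have hJy : IsIntegral D (J y) := by
      obtain ⟨p, hp, hpy⟩ := hy
      refine ⟨p.map i.toRingHom, hp.map _, ?_⟩
      rw [Polynomial.eval₂_map]
      have := Polynomial.hom_eval₂ p (algebraMap D' F) J y
      rw [hpy, map_zero] at this
      have h2 : (algebraMap D G).comp i.toRingHom = J.comp (algebraMap D' F) := RingHom.ext fun d => (hJ d).symm
      rw [h2]
      exact this.symm
    obtain ⟨x, hx⟩ := IsIntegrallyClosed.isIntegral_iff.mp hJy
    obtain ⟨u, v, hv, hy'⟩ := IsFractionRing.div_surjective D' y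
    have hvne : v ≠ 0 := nonZeroDivisors.ne_zero hv
    have h1 : x * i v = i u := IsFractionRing.injective D G (by
      rw [map_mul, hx, ← hJ, ← hJ, ← map_mul, ← hy', div_mul_cancel₀]
      exact (map_ne_zero_iff _ (IsFractionRing.injective D' F)).mpr hvne)
    obtain ⟨-, b₁, c₁, hb₁, hc₁, hb₁0, e₁⟩ := u.2
    obtain ⟨-, b₂, c₂, hb₂, hc₂, hb₂0, e₂⟩ := v.2
    have h1' : (x : S) * (v : S) = (u : S) := congrArg Subtype.val h1
    have hc₂0 : c₂ ≠ 0 := fun h0 => by
      rw [h0] at e₂
      exact (hzero b₂ (v : S) (hBD hb₂) v.2.1 e₂).elim hb₂0 fun h => hvne (Subtype.ext h)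
    have hxD' : (x : S) ∈ D' := ⟨x.2, b₁ * c₂, b₂ * c₁, B.mul_mem hb₁ hc₂, B.mul_mem hb₂ hc₁,
      fun h0 => (hzero b₁ c₂ (hBD hb₁) (hBD hc₂) h0).elim hb₁0 hc₂0, by
        rw [← e₂, ← e₁, ← h1']; ring⟩
    exact ⟨⟨x, hxD'⟩, J.injective (by rw [hJ, ← hx]; rfl)⟩
  refine ⟨D', hD'D, fun x hx => hBD' (Algebra.subset_adjoin hx), inferInstance, inferInstance,
    isEssentiallyEtale_of_fg hA D' ⟨s.attach.image fun x => (⟨x.1, hBD' (Algebra.subset_adjoin x.2)⟩ : D'), ?_⟩⟩
  let G := Subfield.closure (Set.range (algebraMap A F) ∪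
        (algebraMap D' F) '' ((s.attach.image fun x => (⟨x.1, hBD' (Algebra.subset_adjoin x.2)⟩ : D') : Finset D') : Set D'))
  have hB : ∀ b (hb : b ∈ B), algebraMap D' F ⟨b, hBD' hb⟩ ∈ G := by
    intro b hb
    induction hb using Algebra.adjoin_induction with
    | mem y hy => exact Subfield.subset_closure (Or.inr ⟨_, Finset.mem_coe.mpr (Finset.mem_image.mpr ⟨⟨y, hy⟩, Finset.mem_attach _ _, rfl⟩), rfl⟩)
    | algebraMap r => exact Subfield.subset_closure (Or.inl ⟨r, IsScalarTower.algebraMap_apply A D' F r⟩)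
    | add y z hy hz h h' =>
      have h'' := G.add_mem h h'
      rw [← map_add] at h''
      exact h''
    | mul y z hy hz h h' =>
      have h'' := G.mul_mem h h'
      rw [← map_mul] at h''
      exact h''
  refine eq_top_iff.mpr fun z _ => ?_
  have hd : ∀ d : D', algebraMap D' F d ∈ G := fun d => by
    obtain ⟨-, b, c, hb, hc, hb0, h⟩ := d.2
    have hb' : algebraMap D' F ⟨b, hBD' hb⟩ ≠ 0 :=
      (map_ne_zero_iff _ (IsFractionRing.injective D' F)).mpr fun h0 => hb0 (congrArg Subtype.val h0)
    have h2 : algebraMap D' F d = algebraMap D' F ⟨c, hBD' hc⟩ / algebraMap D' F ⟨b, hBD' hb⟩ := by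
      rw [eq_div_iff hb', ← map_mul]
      congr 1
      exact Subtype.ext ((mul_comm _ _).trans h)
    rw [h2]
    exact G.div_mem (hB c hc) (hB b hb)
  obtain ⟨u, v, -, rfl⟩ := IsFractionRing.div_surjective D' z
  exact G.div_mem (hd u) (hd v)

end Groth.Agent.H05EGA4.EssEtNormal
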