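import Mathlib
import Groth.Agent.H05EGA4.EssEtSemilocal
import Groth.Agent.H1CAlg.NagataFiniteType
import Groth.Agent.H8Props.NagataAffine
import Groth.Agent.H8Props.WeakEtaleReduced
import Groth.Agent.H1WE.Contractible
import Groth.Agent.H22Alg.ReducedNorm

/-!
Normalization of essentially etale algebras as a tensor product with the normalization of the base.
-/

set_option autoImplicit false
set_option backward.isDefEq.respectTransparency false
set_option linter.style.haveILetI false
universe u
open IsLocalRing TensorProduct Polynomial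

namespace Groth.Agent.H05EGA4.NormTensor

/-! ### The normalization predicate -/

section Norm

variable {A D K : Type u} [CommRing A] [CommRing D] [CommRing K] [Algebra A D] [Algebra D K] [Algebra A K]
  [IsScalarTower A D K]

theorem exists_lift (hinj : Function.Injective (algebraMap D K))
    (hu : ∀ a ∈ nonZeroDivisors A, IsUnit (algebraMap A K a))
    (hden : ∀ s ∈ nonZeroDivisors D, ∃ a ∈ nonZeroDivisors A, ∃ d : D, s * d = algebraMap A D a) :
    ∃ J : FractionRing D →ₐ[D] K, Function.Injective J ∧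
      ∀ x : K, (∃ y : integralClosure D (FractionRing D), J y = x) ↔
        (IsIntegral D x ∧ ∃ a ∈ nonZeroDivisors A, ∃ d : D, algebraMap A K a * x = algebraMap D K d) := by
  have hus : ∀ s : nonZeroDivisors D, IsUnit (algebraMap D K s) := fun s => by
    obtain ⟨a, ha, d, hd⟩ := hden s s.2
    have h := hu a ha
    rw [IsScalarTower.algebraMap_apply A D K, ← hd, map_mul] at h
    exact isUnit_of_mul_isUnit_left h
  let J : FractionRing D →ₐ[D] K := IsLocalization.liftAlgHom (M := nonZeroDivisors D) (f := Algebra.ofId D K) hus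
  have hJ : Function.Injective J := by
    refine (injective_iff_map_eq_zero J).mpr fun z hz => ?_
    obtain ⟨d, s, rfl⟩ := IsLocalization.exists_mk'_eq (nonZeroDivisors D) z
    have h1 := congrArg J (IsLocalization.mk'_spec (FractionRing D) d s)
    rw [map_mul, hz, zero_mul, J.commutes] at h1
    rw [(hinj (h1.symm.trans (map_zero _).symm) : d = 0), IsLocalization.mk'_zero]
  refine ⟨J, hJ, fun x => ⟨?_, ?_⟩⟩
  · rintro ⟨y, rfl⟩
    refine ⟨y.2.map J, ?_⟩
    obtain ⟨d, s, hds⟩ := IsLocalization.exists_mk'_eq (nonZeroDivisors D) (y : FractionRing D)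
    obtain ⟨a, ha, e, he⟩ := hden s s.2
    refine ⟨a, ha, e * d, ?_⟩
    rw [IsScalarTower.algebraMap_apply A D K, ← he, ← hds, ← J.commutes ((s : D) * e), ← map_mul, ← J.commutes (e * d)]
    congr 1
    rw [map_mul, map_mul, mul_right_comm, IsLocalization.mk'_spec', mul_comm]
  · rintro ⟨hx, a, ha, d, hd⟩
    have ha' : algebraMap A D a ∈ nonZeroDivisors D := mem_nonZeroDivisors_iff_left.mpr fun c hc => hinj (by
      rw [map_zero]
      refine (hu a ha).mul_right_eq_zero.mp ?_
      rw [IsScalarTower.algebraMap_apply A D K, ← map_mul, hc, map_zero])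
    let y := IsLocalization.mk' (FractionRing D) d (⟨_, ha'⟩ : nonZeroDivisors D)
    have hy : J y = x := by
      refine (hu a ha).mul_left_cancel ?_
      rw [hd, IsScalarTower.algebraMap_apply A D K, ← J.commutes (algebraMap A D a), ← map_mul, ← J.commutes d]
      congr 1
      exact IsLocalization.mk'_spec' (FractionRing D) d (⟨_, ha'⟩ : nonZeroDivisors D)
    exact ⟨⟨y, (isIntegral_algHom_iff J hJ).mp (hy ▸ hx)⟩, hy⟩

end Norm

theorem finite_integralClosure_fraction (R : Type u) [CommRing R] [IsReduced R] (hR : CAlg.IsNagata R) :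
    Module.Finite R (integralClosure R (FractionRing R)) := by
  classical
  haveI : IsNoetherianRing R := hR.1
  haveI := EssEtFrac.isArtinianRing_fractionRing R (minimalPrimes.finite_of_isNoetherianRing R)
  haveI : IsReduced (FractionRing R) := isReduced_localizationPreserves (nonZeroDivisors R) _ inferInstance
  let K := FractionRing R
  haveI : Algebra.EssFiniteType R K := Algebra.EssFiniteType.of_isLocalization _ (nonZeroDivisors R)
  haveI : ∀ m : MaximalSpectrum K, m.asIdeal.IsMaximal := fun m => m.isMaximal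
  letI : ∀ m : MaximalSpectrum K, Field (K ⧸ m.asIdeal) := fun m => Ideal.Quotient.field _
  refine Groth.Agent.H17.NagataNorm.finite_integralClosure_of_jointly_injective R K hR
    (fun m : MaximalSpectrum K => K ⧸ m.asIdeal) (fun m => Ideal.Quotient.mk m.asIdeal) (fun m => ?_) fun a ha => ?_
  · exact RingHom.EssFiniteType.comp (RingHom.essFiniteType_algebraMap.mpr ‹_›)
      (RingHom.FiniteType.of_surjective _ Ideal.Quotient.mk_surjective).essFiniteType
  · exact (IsArtinianRing.equivPi K).injective (funext fun m => by rw [map_zero]; exact ha m)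

theorem isNagata_of_essFiniteType {A D : Type u} [CommRing A] [CommRing D] [IsLocalRing D] [Algebra A D]
    [Algebra.EssFiniteType A D] (hA : CAlg.IsNagata A) : CAlg.IsNagata D := by
  obtain ⟨S, _, _, _, _, _, Q, hQ, hloc⟩ := Groth.Agent.H9Hens.exists_finiteType_atPrime A D
  exact Groth.Agent.H8Props.NagataAffine.isNagata_of_isLocalization Q.primeCompl D
    (Groth.Agent.H1CAlg.isNagata_of_finiteType (R := A) hA)

/-! ### Tensor with a birational integral subalgebra -/

section Tensor

variable {A E K : Type u} [CommRing A] [CommRing E] [CommRing K] [Algebra A E] [Algebra E K] [Algebra A K]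
  [IsScalarTower A E K] (A' : Subalgebra A K)

/-- The multiplication map. -/
noncomputable def mul : A' ⊗[A] E →ₐ[A] K :=
  Algebra.TensorProduct.productMap A'.val (IsScalarTower.toAlgHom A E K)

theorem mul_tmul (a : A') (e : E) : mul A' (a ⊗ₜ[A] e) = (a : K) * algebraMap E K e :=
  Algebra.TensorProduct.productMap_apply_tmul _ _ _ _

theorem exists_clear (hA'K : ∀ a ∈ A', ∃ s ∈ nonZeroDivisors A, ∃ b : A, algebraMap A K s * a = algebraMap A K b)
    (hu : ∀ a ∈ nonZeroDivisors A, IsUnit (algebraMap A K a)) (z : A' ⊗[A] E) :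
    ∃ s ∈ nonZeroDivisors A, ∃ e : E, s • z = 1 ⊗ₜ[A] e := by
  induction z with
  | zero => exact ⟨1, Submonoid.one_mem _, 0, by simp⟩
  | tmul a e =>
    obtain ⟨s, hs, b, hb⟩ := hA'K a a.2
    refine ⟨s, hs, b • e, ?_⟩
    rw [TensorProduct.smul_tmul', TensorProduct.tmul_smul, TensorProduct.smul_tmul']
    congr 1
    refine Subtype.ext ?_
    show s • (a : K) = b • (1 : K)
    rw [Algebra.smul_def, hb, Algebra.smul_def, mul_one]
  | add x y hx hy =>
    obtain ⟨s, hs, e, he⟩ := hx
    obtain ⟨t, ht, e', he'⟩ := hy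
    refine ⟨s * t, Submonoid.mul_mem _ hs ht, t • e + s • e', ?_⟩
    rw [smul_add, mul_smul, smul_comm s t x, he, mul_smul, he', TensorProduct.tmul_add, TensorProduct.tmul_smul, TensorProduct.tmul_smul]

theorem mul_injective [Module.Flat A E]
    (hA'K : ∀ a ∈ A', ∃ s ∈ nonZeroDivisors A, ∃ b : A, algebraMap A K s * a = algebraMap A K b)
    (hu : ∀ a ∈ nonZeroDivisors A, IsUnit (algebraMap A K a)) (hE : Function.Injective (algebraMap E K)) :
    Function.Injective (mul (E := E) A') := by
  refine (injective_iff_map_eq_zero _).mpr fun z hz => ?_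
  obtain ⟨s, hs, e, he⟩ := exists_clear A' hA'K hu z
  have h1 : mul A' (s • z) = mul A' ((1 : A') ⊗ₜ[A] e) := by rw [he]
  rw [map_smul, hz, smul_zero, mul_tmul, OneMemClass.coe_one, one_mul] at h1
  rw [(hE (h1.symm.trans (map_zero _).symm) : e = 0), TensorProduct.tmul_zero] at he
  let f : A' →ₗ[A] A' := LinearMap.lsmul A A' s
  have hf : Function.Injective f := fun x y h => Subtype.ext <| (hu s hs).mul_left_cancel <| by
    have h' := congrArg Subtype.val h
    simp only [f, LinearMap.lsmul_apply, SetLike.val_smul] at h'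
    rwa [Algebra.smul_def, Algebra.smul_def] at h'
  have hinj := Module.Flat.rTensor_preserves_injective_linearMap (M := E) f hf
  refine hinj ?_
  rw [map_zero, ← he]
  have : ∀ w : A' ⊗[A] E, f.rTensor E w = s • w := fun w => by
    induction w with
    | zero => simp
    | tmul a e => rw [LinearMap.rTensor_tmul, TensorProduct.smul_tmul']; rfl
    | add x y hx hy => rw [map_add, hx, hy, smul_add]
  exact this z

end Tensor

/-! ### Normalization of an essentially etale algebra -/

theorem mem_range_mul {A D K : Type u} [CommRing A] [IsLocalRing A] [CommRing D] [IsLocalRing D] [CommRing K]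
    [Algebra A D] [Algebra D K] [Algebra A K] [IsScalarTower A D K] (A' : Subalgebra A K)
    (hinj : Function.Injective (algebraMap D K)) (hu : ∀ a ∈ nonZeroDivisors A, IsUnit (algebraMap A K a))
    (hA' : ∀ x : K, IsIntegral A x →
      (∃ a ∈ nonZeroDivisors A, ∃ b : A, algebraMap A K a * x = algebraMap A K b) → x ∈ A')
    (hD : EGA4loc.IsEssentiallyEtale A D) (x : K) (hx : IsIntegral D x)
    (hxd : ∃ a ∈ nonZeroDivisors A, ∃ d : D, algebraMap A K a * x = algebraMap D K d) :
    x ∈ (mul (E := D) A').range := by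
  obtain ⟨Cc, _, _, q, _, _, -, ⟨e⟩⟩ := hD
  letI : Algebra Cc D := (e.symm.toAlgHom.comp (IsScalarTower.toAlgHom A Cc (Localization.AtPrime q))).toRingHom.toAlgebra
  haveI : IsScalarTower A Cc D := IsScalarTower.of_algebraMap_eq fun a =>
    ((e.symm.toAlgHom.comp (IsScalarTower.toAlgHom A Cc (Localization.AtPrime q))).commutes a).symm
  let eC : Localization.AtPrime q ≃ₐ[Cc] D := AlgEquiv.ofRingEquiv (f := e.symm.toRingEquiv) fun c => rfl
  haveI : IsLocalization.AtPrime D q := IsLocalization.isLocalization_of_algEquiv q.primeCompl eC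
  letI : Algebra Cc K := ((algebraMap D K).comp (algebraMap Cc D)).toAlgebra
  haveI : IsScalarTower Cc D K := IsScalarTower.of_algebraMap_eq fun c => rfl
  haveI : IsScalarTower A Cc K := IsScalarTower.of_algebraMap_eq fun a => by
    rw [IsScalarTower.algebraMap_apply Cc D K, ← IsScalarTower.algebraMap_apply A Cc D, ← IsScalarTower.algebraMap_apply]
  let KA := FractionRing A
  let θ : KA →ₐ[A] K := IsLocalization.liftAlgHom (M := nonZeroDivisors A) (f := Algebra.ofId A K) fun a => hu a a.2
  let T0 := Cc ⊗[A] KA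
  let χ : T0 →ₐ[Cc] K := Algebra.TensorProduct.lift (Algebra.ofId Cc K) θ fun _ _ => Commute.all _ _
  have hχ : ∀ (c : Cc) (k : KA), χ (c ⊗ₜ k) = algebraMap Cc K c * θ k := fun c k =>
    Algebra.TensorProduct.lift_tmul _ _ _ c k
  obtain ⟨a, ha, d, hd⟩ := hxd
  obtain ⟨⟨c, s⟩, hcs⟩ := IsLocalization.surj q.primeCompl d
  have hx1 : IsIntegral D (algebraMap D K (algebraMap Cc D s) * x) := isIntegral_algebraMap.mul hx
  obtain ⟨m, hm⟩ := IsIntegral.exists_multiple_integral_of_isLocalization (R := Cc) (Rₘ := D) q.primeCompl _ hx1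
  obtain ⟨p, hp, hpx⟩ := hm
  let z : T0 := ((m : Cc) * c) ⊗ₜ IsLocalization.mk' KA (1 : A) (⟨a, ha⟩ : nonZeroDivisors A)
  have hθ : ∀ (b : A) (s : nonZeroDivisors A), algebraMap A K s * θ (IsLocalization.mk' KA b s) = algebraMap A K b := fun b s => by
    rw [← θ.commutes (s : A), ← map_mul, IsLocalization.mk'_spec', θ.commutes]
  have hz : χ z = m • (algebraMap D K (algebraMap Cc D s) * x) := by
    refine (hu a ha).mul_left_cancel ?_
    rw [hχ, mul_left_comm, hθ 1 ⟨a, ha⟩, map_one, mul_one, Submonoid.smul_def, Algebra.smul_def,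
      mul_left_comm, mul_left_comm (algebraMap A K a), hd, ← map_mul, mul_comm (algebraMap Cc D s), hcs,
      ← IsScalarTower.algebraMap_apply, ← map_mul]
  let w : T0 := aeval z (p * X)
  have hw : χ w = 0 := by
    show χ (aeval z (p * X)) = 0
    rw [← aeval_algHom_apply, hz, map_mul, aeval_def, hpx, zero_mul]
  have hclear : ∀ v : T0, ∃ (c' : Cc) (a' : nonZeroDivisors A), v = c' ⊗ₜ IsLocalization.mk' KA (1 : A) a' := fun v => by
    induction v using TensorProduct.induction_on with
    | zero => exact ⟨0, 1, by rw [TensorProduct.zero_tmul]⟩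
    | tmul c k =>
      obtain ⟨b, s, rfl⟩ := IsLocalization.exists_mk'_eq (nonZeroDivisors A) k
      refine ⟨b • c, s, ?_⟩
      rw [TensorProduct.smul_tmul, IsLocalization.smul_mk', mul_one]
    | add u v hu' hv =>
      obtain ⟨c₁, s₁, rfl⟩ := hu'
      obtain ⟨c₂, s₂, rfl⟩ := hv
      refine ⟨(s₂ : A) • c₁ + (s₁ : A) • c₂, s₁ * s₂, ?_⟩
      rw [TensorProduct.add_tmul, TensorProduct.smul_tmul, TensorProduct.smul_tmul, IsLocalization.smul_mk', IsLocalization.smul_mk', mul_one, mul_one]
      congr 1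
      · congr 1
        rw [IsLocalization.mk'_eq_iff_eq]
        simp only [Submonoid.coe_mul, map_mul, mul_one]
        try ring
      · congr 1
        rw [IsLocalization.mk'_eq_iff_eq]
        simp only [Submonoid.coe_mul, map_mul, mul_one]
        try ring
  obtain ⟨c', a', hw'⟩ := hclear w
  have hc' : algebraMap Cc D c' = 0 := by
    refine hinj ?_
    rw [map_zero, ← IsScalarTower.algebraMap_apply]
    have h0 := hw
    rw [hw', hχ] at h0
    have hunit : IsUnit (θ (IsLocalization.mk' KA (1 : A) a')) := by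
      refine IsUnit.of_mul_eq_one (algebraMap A K a') ?_
      rw [mul_comm, hθ, map_one]
    exact hunit.mul_left_eq_zero.mp h0
  obtain ⟨t, ht⟩ := (IsLocalization.map_eq_zero_iff q.primeCompl D c').mp hc'
  have htw : algebraMap Cc T0 (t : Cc) * w = 0 := by
    rw [hw', Algebra.TensorProduct.algebraMap_apply, Algebra.TensorProduct.tmul_mul_tmul, one_mul, Algebra.algebraMap_self,
      RingHom.id_apply, ht, TensorProduct.zero_tmul]
  have hint : IsIntegral Cc (algebraMap Cc T0 (t : Cc) * z) := by
    haveI : Nontrivial Cc := (algebraMap Cc D).domain_nontrivial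
    refine ⟨(p * X).scaleRoots (t : Cc), (monic_scaleRoots_iff _).mpr (hp.mul monic_X), ?_⟩
    rw [scaleRoots_eval₂_mul, hp.natDegree_mul monic_X, natDegree_X, pow_succ, mul_assoc, ← aeval_def]
    show _ * (_ * w) = 0
    rw [htw, mul_zero]
  obtain ⟨v, hv⟩ := (TensorProduct.toIntegralClosure_bijective_of_smooth (R := A) (S := Cc) (B := KA)).2 ⟨_, hint⟩
  have hvK : χ (algebraMap Cc T0 (t : Cc) * z) ∈ (mul (E := D) A').range := by
    have h : ∀ w : Cc ⊗[A] integralClosure A KA,
        χ ((TensorProduct.toIntegralClosure A Cc KA w : integralClosure Cc T0) : T0) ∈ (mul (E := D) A').range := by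
      intro w
      induction w with
      | zero => rw [map_zero, ZeroMemClass.coe_zero, map_zero]; exact Subalgebra.zero_mem _
      | tmul c α =>
        obtain ⟨b, s, hbs⟩ := IsLocalization.exists_mk'_eq (nonZeroDivisors A) (α : KA)
        have hα : θ α ∈ A' := hA' _ (α.2.map θ) ⟨s, s.2, b, by rw [← hbs, hθ]⟩
        refine ⟨⟨_, hα⟩ ⊗ₜ algebraMap Cc D c, ?_⟩
        show mul A' _ = χ (c ⊗ₜ[A] (α : KA))
        rw [mul_tmul, hχ, ← IsScalarTower.algebraMap_apply, mul_comm]
      | add u v hu' hv' => rw [map_add, AddMemClass.coe_add, map_add]; exact Subalgebra.add_mem _ hu' hv'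
    have := h v
    rwa [hv] at this
  rw [map_mul, χ.commutes, hz, Submonoid.smul_def, Algebra.smul_def] at hvK
  have hru : ∀ r : q.primeCompl, ∃ g ∈ (mul (E := D) A').range, g * algebraMap Cc K (r : Cc) = 1 := fun r => by
    obtain ⟨g, hg⟩ := (IsLocalization.map_units D r).exists_left_inv
    refine ⟨algebraMap D K g, ⟨1 ⊗ₜ g, ?_⟩, by rw [IsScalarTower.algebraMap_apply Cc D K, ← map_mul, hg, map_one]⟩
    show mul A' _ = _
    rw [mul_tmul, OneMemClass.coe_one, one_mul]
  obtain ⟨g₁, hg₁, hg₁'⟩ := hru t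
  obtain ⟨g₂, hg₂, hg₂'⟩ := hru m
  obtain ⟨g₃, hg₃, hg₃'⟩ := hru s
  have : x = g₁ * g₂ * g₃ * (algebraMap Cc K t * (algebraMap Cc K m * (algebraMap D K (algebraMap Cc D s) * x))) := by
    rw [← IsScalarTower.algebraMap_apply]
    linear_combination (-(x * g₂ * algebraMap Cc K (m : Cc) * g₃ * algebraMap Cc K (s : Cc))) * hg₁' - (x * g₃ * algebraMap Cc K (s : Cc)) * hg₂' - x * hg₃'
  rw [this]
  exact Subalgebra.mul_mem _ (Subalgebra.mul_mem _ (Subalgebra.mul_mem _ hg₁ hg₂) hg₃) hvK

/-! ### The radical -/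

theorem prime_isMaximal {A R D : Type u} [CommRing A] [IsLocalRing A] [CommRing R] [Algebra A R] [Algebra.IsIntegral A R]
    [CommRing D] [IsLocalRing D] [Algebra A D]
    (hm : (maximalIdeal A).map (algebraMap A D) = maximalIdeal D) (P : Ideal (R ⊗[A] D)) [P.IsPrime]
    (hP : (maximalIdeal A).map (algebraMap A (R ⊗[A] D)) ≤ P) : P.IsMaximal := by
  letI : Algebra D (R ⊗[A] D) := Algebra.TensorProduct.rightAlgebra
  haveI : Algebra.IsIntegral D (R ⊗[A] D) := ⟨fun z => by
    induction z with
    | zero => exact isIntegral_zero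
    | tmul r d =>
      have h : r ⊗ₜ[A] d = (r ⊗ₜ[A] (1 : D)) * algebraMap D (R ⊗[A] D) d := by
        rw [show algebraMap D (R ⊗[A] D) d = (1 : R) ⊗ₜ[A] d from rfl, Algebra.TensorProduct.tmul_mul_tmul, mul_one, one_mul]
      rw [h]
      exact ((Algebra.IsIntegral.isIntegral (R := A) r).map (Algebra.TensorProduct.includeLeft : R →ₐ[A] R ⊗[A] D)).tower_top.mul isIntegral_algebraMap
    | add u v hu' hv => exact hu'.add hv⟩
  refine Ideal.isMaximal_of_isIntegral_of_isMaximal_comap (R := D) P ?_
  have h1 : maximalIdeal D ≤ P.comap (algebraMap D (R ⊗[A] D)) := by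
    rw [← hm, ← Ideal.map_le_iff_le_comap, Ideal.map_map]
    have : (algebraMap D (R ⊗[A] D)).comp (algebraMap A D) = algebraMap A (R ⊗[A] D) :=
      (Algebra.TensorProduct.includeRight : D →ₐ[A] R ⊗[A] D).comp_algebraMap
    rw [this]; exact hP
  rw [← (maximalIdeal.isMaximal D).eq_of_le (Ideal.IsPrime.ne_top inferInstance) h1]
  infer_instance

theorem mem_radical {A R D : Type u} [CommRing A] [IsLocalRing A] [CommRing R] [Algebra A R] [Algebra.IsIntegral A R]
    [CommRing D] [IsLocalRing D] [Algebra A D] [Algebra.WeaklyEtale A D]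
    (hm : (maximalIdeal A).map (algebraMap A D) = maximalIdeal D) (z : R ⊗[A] D)
    (hz : ∀ P : Ideal (R ⊗[A] D), P.IsMaximal → z ∈ P) :
    z ∈ (Ideal.jacobson (⊥ : Ideal R)).map (Algebra.TensorProduct.includeLeft : R →ₐ[A] R ⊗[A] D) := by
  let I := Ideal.jacobson (⊥ : Ideal R)
  have hI : (maximalIdeal A).map (algebraMap A R) ≤ I := Ideal.map_le_iff_le_comap.mpr fun a ha => by
    show algebraMap A R a ∈ I
    refine Submodule.mem_sInf.mpr fun M hM => ?_
    haveI := hM.2
    exact (IsLocalRing.eq_maximalIdeal (Ideal.isMaximal_comap_of_isIntegral_of_isMaximal (R := A) M)).ge ha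
  haveI : IsReduced (R ⧸ I) := by
    rw [← Ideal.isRadical_iff_quotient_reduced]
    exact Ideal.radical_le_jacobson.trans (by rw [Ideal.jacobson_idem])
  haveI : Algebra.WeaklyEtale (R ⧸ I) ((R ⧸ I) ⊗[A] D) := inferInstance
  haveI : IsReduced ((R ⧸ I) ⊗[A] D) :=
    Groth.Agent.H8Props.WeakEtaleReduced.isReduced_of_weaklyEtale (R ⧸ I) ((R ⧸ I) ⊗[A] D)
  let Φ := Algebra.TensorProduct.map (Ideal.Quotient.mkₐ A I) (AlgHom.id A D)
  have hker : RingHom.ker Φ = I.map (Algebra.TensorProduct.includeLeft : R →ₐ[A] R ⊗[A] D) := by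
    rw [Algebra.TensorProduct.map_ker (Ideal.Quotient.mkₐ A I) (AlgHom.id A D) Ideal.Quotient.mk_surjective Function.surjective_id]
    rw [show RingHom.ker (AlgHom.id A D) = ⊥ from (RingHom.injective_iff_ker_eq_bot _).mp Function.injective_id,
      Ideal.map_bot, sup_bot_eq]
    congr 1
    exact Ideal.mk_ker
  rw [← hker, RingHom.mem_ker]
  have : Φ z ∈ nilradical ((R ⧸ I) ⊗[A] D) := by
    rw [nilradical_eq_sInf, Submodule.mem_sInf]
    intro (P : Ideal ((R ⧸ I) ⊗[A] D)) hP
    haveI : P.IsPrime := hP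
    show z ∈ (P : Ideal _).comap Φ
    refine hz _ (prime_isMaximal hm _ (Ideal.map_le_iff_le_comap.mpr fun a ha => ?_))
    show Φ (algebraMap A _ a) ∈ (P : Ideal _)
    rw [AlgHom.commutes, Algebra.TensorProduct.algebraMap_apply, IsScalarTower.algebraMap_apply A R (R ⧸ I)]
    rw [show algebraMap R (R ⧸ I) (algebraMap A R a) = 0 from Ideal.Quotient.eq_zero_iff_mem.mpr (hI (Ideal.mem_map_of_mem _ ha)),
      TensorProduct.zero_tmul]
    exact Ideal.zero_mem _
  rwa [nilradical_eq_zero, Ideal.zero_eq_bot, Ideal.mem_bot] at this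

end Groth.Agent.H05EGA4.NormTensor
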