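import Mathlib
import Groth.Agent.H05EGA4.NormTensor
import Groth.Agent.H05EGA4.EssEtNormal
import Groth.Agent.H22Alg.BranchBound
import Groth.Agent.S6883

/-!
The residual criterion for essentially etale subalgebras of a strict henselization.
-/

set_option autoImplicit false
set_option backward.isDefEq.respectTransparency false
set_option linter.style.haveILetI false
universe u
open IsLocalRing TensorProduct

namespace Groth.Agent.H05EGA4.EssEtResidue

open NormTensor

section Aux

variable {A : Type u} [CommRing A]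

theorem flat_over_normalization {A' D D' T K : Type u} [CommRing A'] [CommRing D] [IsNoetherianRing D]
    [IsReduced D] [CommRing D'] [CommRing T] [CommRing K]
    [Algebra A A'] [Algebra A D'] [Algebra A T] [Algebra A' D'] [Algebra A' T] [Algebra D' T]
    [IsScalarTower A A' T] [IsScalarTower A' D' T] [IsScalarTower A D' T] [Algebra D K]
    [Algebra.EssFiniteType A T] [Algebra.FormallyUnramified A' T]
    (ν : T →+* K) (hν : Function.Injective ν)
    (JD : FractionRing D →ₐ[D] K) (ge : integralClosure D (FractionRing D) ≃+* D')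
    (hνge : ∀ y, ν (algebraMap D' T (ge y)) = JD y)
    (hmax : ∀ M : Ideal T, M.IsMaximal → (M.comap (algebraMap D' T)).IsMaximal) : Module.Flat D' T := by
  classical
  haveI : IsArtinianRing (FractionRing D) := EssEtFrac.isArtinianRing_fractionRing D (minimalPrimes.finite_of_isNoetherianRing D)
  haveI : IsReduced (FractionRing D) := isReduced_localizationPreserves (nonZeroDivisors D) _ inferInstance
  let B0 := integralClosure D (FractionRing D)
  let j : D' →+* T := algebraMap D' T
  refine Module.flat_of_isLocalized_maximal (R := D') T T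
    (fun M _ => Localization.AtPrime M) (fun M _ => Algebra.linearMap T (Localization.AtPrime M)) fun M hM => ?_
  haveI := hM
  haveI : M.IsPrime := hM.isPrime
  let N := M.comap j
  haveI hN : N.IsMaximal := hmax M hM
  let LN := Localization.AtPrime N
  let LM := Localization.AtPrime M
  let lh : LN →+* LM := Localization.localRingHom N M j rfl
  letI : Algebra LN LM := lh.toAlgebra
  haveI : IsScalarTower D' LN LM := IsScalarTower.of_algebraMap_eq fun x =>
    ((Localization.localRingHom_to_map N M j rfl x).trans (IsScalarTower.algebraMap_apply D' T LM x).symm).symm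
  haveI : IsLocalHom (algebraMap LN LM) := Localization.isLocalHom_localRingHom N M j rfl
  haveI : IsScalarTower A LN LM := IsScalarTower.of_algebraMap_eq fun a => by
    rw [IsScalarTower.algebraMap_apply A D' LN, ← IsScalarTower.algebraMap_apply D' LN LM, ← IsScalarTower.algebraMap_apply]
  haveI : IsScalarTower A' LN LM := IsScalarTower.of_algebraMap_eq fun a => by
    rw [IsScalarTower.algebraMap_apply A' D' LN, ← IsScalarTower.algebraMap_apply D' LN LM, ← IsScalarTower.algebraMap_apply]
  haveI : Algebra.EssFiniteType A LM := Algebra.EssFiniteType.comp A T LM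
  haveI : Algebra.EssFiniteType LN LM := Algebra.EssFiniteType.of_comp A LN LM
  haveI : Algebra.FormallyUnramified A' LM := Algebra.FormallyUnramified.comp A' T LM
  haveI : Algebra.FormallyUnramified LN LM := Algebra.FormallyUnramified.of_restrictScalars A' LN LM
  let P := N.comap ge
  haveI : P.IsPrime := inferInstance
  have hPN : P.primeCompl.map ge.toMonoidHom = N.primeCompl := by
    ext x
    constructor
    · rintro ⟨y, hy, rfl⟩; exact hy
    · intro hx
      obtain ⟨y, rfl⟩ := ge.surjective x
      exact ⟨y, hx, rfl⟩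
  let eL : Localization.AtPrime P ≃+* LN := IsLocalization.ringEquivOfRingEquiv _ _ ge hPN
  obtain ⟨hdomP, hICP⟩ := Groth.Agent.H22Alg.isDomain_and_isIntegrallyClosed_localization (A := D) P
  haveI := hdomP
  haveI := hICP
  haveI : IsDomain LN := eL.toMulEquiv.isDomain_iff.mp inferInstance
  haveI : IsIntegrallyClosed LN := IsIntegrallyClosed.of_equiv (R := Localization.AtPrime P) (S := LN) eL
  have hinjL : Function.Injective (algebraMap LN LM) := by
    refine (injective_iff_map_eq_zero _).mpr fun z hz => ?_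
    obtain ⟨x, s, rfl⟩ := IsLocalization.exists_mk'_eq N.primeCompl z
    have h0 : algebraMap T LM (j x) = 0 := by
      have h1 := congrArg (algebraMap LN LM) (IsLocalization.mk'_spec LN x s)
      rw [map_mul, hz, zero_mul, ← IsScalarTower.algebraMap_apply D' LN LM, IsScalarTower.algebraMap_apply D' T LM] at h1
      exact h1.symm
    obtain ⟨u, hux⟩ := (IsLocalization.map_eq_zero_iff M.primeCompl LM (j x)).mp h0
    rw [IsLocalization.mk'_eq_zero_iff]
    by_contra hcon
    push Not at hcon
    obtain ⟨p0, hp0, hp0P⟩ := Ideal.exists_minimalPrimes_le (bot_le : (⊥ : Ideal B0) ≤ P)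
    obtain ⟨𝔑, h𝔑, h𝔑p⟩ := Ideal.exists_comap_eq_of_mem_minimalPrimes_of_injective
      (f := algebraMap B0 (FractionRing D)) Subtype.val_injective p0 hp0
    haveI := h𝔑
    haveI : 𝔑.IsMaximal := inferInstance
    obtain ⟨e, -, he1, he2⟩ := EssEtSemilocal.exists_idem 𝔑
    have hee : e * e = e := by
      have := he2 _ he1
      rw [mul_sub, mul_one, sub_eq_zero] at this
      exact this.symm
    have heint : IsIntegral D e := ⟨Polynomial.X ^ 2 - Polynomial.X,
      Polynomial.monic_X_pow_sub (lt_of_le_of_lt Polynomial.degree_X_le (by norm_num)), by simp [pow_two, hee]⟩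
    let e0 : B0 := ⟨e, heint⟩
    have he0P : e0 ∉ P := fun h => by
      have h1 : 1 - e0 ∈ P := hp0P (h𝔑p.le he1)
      exact (Ideal.ne_top_iff_one P).mp (Ideal.IsPrime.ne_top inferInstance) (by simpa using P.add_mem h1 h)
    obtain ⟨y, hy⟩ := ge.surjective x
    have hyn : (y : FractionRing D) ∉ 𝔑 := fun h => by
      refine hcon ⟨ge e0, he0P⟩ ?_
      rw [← hy, ← map_mul, (Subtype.ext (he2 _ h) : e0 * y = 0), map_zero]
    obtain ⟨v, w, hw, hvw⟩ := (‹𝔑.IsMaximal›).exists_inv hyn
    have hkey : v * y * e = e := by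
      have h3 : v * y - 1 ∈ 𝔑 := by
        have : v * (y : FractionRing D) - 1 = -w := by rw [← hvw]; ring
        rw [this]; exact 𝔑.neg_mem hw
      have h4 := he2 _ h3
      linear_combination h4
    have hje : (u : T) * j (ge e0) = 0 := hν (by
      rw [map_mul, map_zero, show ν (j (ge e0)) = JD e from hνge e0]
      show ν u * JD e = 0
      have h5 : ν u * JD (y : FractionRing D) = 0 := by
        have := congrArg ν hux
        rw [← hy, map_mul, map_zero, show ν (j (ge y)) = JD y from hνge y] at this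
        exact this
      rw [← hkey, map_mul, map_mul]
      linear_combination (JD v * JD e) * h5)
    rcases hM.isPrime.mem_or_mem (show (u : T) * j (ge e0) ∈ M by rw [hje]; exact M.zero_mem) with h | h
    · exact u.2 h
    · exact he0P h
  haveI : Module.Flat LN LM := EssEtNormal.flat_of_formallyUnramified hinjL
  haveI : Module.Flat D' LN := IsLocalization.flat LN N.primeCompl
  exact Module.Flat.trans D' LN LM

theorem surjective_of_radical {A' D D' : Type u} [IsLocalRing A] [CommRing A'] [CommRing D] [IsLocalRing D] [CommRing D']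
    [Algebra A A'] [IsNoetherianRing A'] [Algebra.IsIntegral A A'] [Algebra A D] [IsLocalHom (algebraMap A D)]
    [Algebra A D'] [Algebra D D'] [IsScalarTower A D D'] [Module.Finite D D']
    (incl : A' →ₐ[A] D') (ι : D →ₐ[A] D') (hι : ∀ d, algebraMap D D' d = ι d)
    (hrep : ∀ x : D', ∃ z, x - Algebra.TensorProduct.productMap incl ι z ∈ Ideal.jacobson (⊥ : Ideal D'))
    (hRad : Ideal.jacobson (⊥ : Ideal D') ≤ (Ideal.jacobson (⊥ : Ideal A')).map incl) :
    Function.Surjective (Algebra.TensorProduct.productMap incl ι) := by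
  let μ := Algebra.TensorProduct.productMap incl ι
  let R := Ideal.jacobson (⊥ : Ideal A')
  let R' : Ideal D' := R.map incl
  have hclaim : ∀ (i : ℕ) (x : D'), ∃ z, x - μ z ∈ R' ^ i := by
    intro i
    induction i with
    | zero => exact fun x => ⟨0, by rw [pow_zero, Ideal.one_eq_top]; trivial⟩
    | succ i ih =>
      intro x
      obtain ⟨z, hz⟩ := ih x
      have hstep : ∀ w ∈ R' ^ i, ∃ z', w - μ z' ∈ R' ^ (i + 1) := by
        intro w hw
        have hw' : w ∈ Ideal.span (incl '' ((R ^ i : Ideal A') : Set A')) := by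
          show w ∈ (R ^ i).map incl
          rw [Ideal.map_pow]; exact hw
        clear hw
        induction hw' using Submodule.span_induction with
        | mem y hy =>
          obtain ⟨r, -, rfl⟩ := hy
          refine ⟨r ⊗ₜ 1, ?_⟩
          rw [Algebra.TensorProduct.productMap_apply_tmul, map_one, mul_one, sub_self]
          exact Ideal.zero_mem _
        | zero => exact ⟨0, by rw [map_zero, sub_zero]; exact Ideal.zero_mem _⟩
        | add u v hu hv h h' =>
          have hmem : ∀ w ∈ Submodule.span D' (incl '' ((R ^ i : Ideal A') : Set A')), w ∈ R' ^ i := fun w hw => by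
            rw [← Ideal.map_pow]; exact hw
          obtain ⟨a, ha⟩ := h
          obtain ⟨b, hb⟩ := h'
          exact ⟨a + b, by rw [map_add, add_sub_add_comm]; exact Ideal.add_mem _ ha hb⟩
        | smul c w hw h =>
          have hwi : w ∈ R' ^ i := by rw [← Ideal.map_pow]; exact hw
          obtain ⟨zw, hzw⟩ := h
          obtain ⟨zc, hzc⟩ := hrep c
          refine ⟨zc * zw, ?_⟩
          have : c • w - μ (zc * zw) = (c - μ zc) * w + μ zc * (w - μ zw) := by
            rw [map_mul, smul_eq_mul]; ring
          rw [this]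
          refine Ideal.add_mem _ ?_ (Ideal.mul_mem_left _ _ hzw)
          rw [pow_succ']
          exact Ideal.mul_mem_mul (hRad hzc) hwi
      obtain ⟨z', hz'⟩ := hstep _ hz
      exact ⟨z + z', by rw [map_add, ← sub_sub]; exact hz'⟩
  obtain ⟨k, hk⟩ : ∃ k, R ^ k ≤ (maximalIdeal A).map (algebraMap A A') := by
    refine Ideal.exists_pow_le_of_le_radical_of_fg_radical ?_ (IsNoetherian.noetherian _)
    rw [Ideal.radical_eq_sInf]
    refine le_sInf fun P hP => ?_
    haveI := hP.2
    have h1 : P.comap (algebraMap A A') = maximalIdeal A := ((maximalIdeal.isMaximal A).eq_of_le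
      (Ideal.IsPrime.ne_top inferInstance) (Ideal.map_le_iff_le_comap.mp hP.1)).symm
    have h2 : P.IsMaximal := Ideal.isMaximal_of_isIntegral_of_isMaximal_comap (R := A) P (by rw [h1]; infer_instance)
    exact sInf_le ⟨bot_le, h2⟩
  show Function.Surjective μ
  let Nm : Submodule D D' :=
    { carrier := Set.range μ
      zero_mem' := ⟨0, map_zero μ⟩
      add_mem' := by rintro _ _ ⟨a, rfl⟩ ⟨b, rfl⟩; exact ⟨a + b, map_add μ a b⟩
      smul_mem' := by
        rintro d _ ⟨a, rfl⟩
        refine ⟨(1 ⊗ₜ d) * a, ?_⟩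
        rw [map_mul, Algebra.TensorProduct.productMap_apply_tmul, map_one, one_mul, ← hι, Algebra.smul_def] }
  have htop : (⊤ : Submodule D D') ≤ Nm ⊔ maximalIdeal D • ⊤ := fun x _ => by
    obtain ⟨z, hz⟩ := hclaim k x
    rw [← add_sub_cancel (μ z) x]
    refine Submodule.add_mem _ (Submodule.mem_sup_left ⟨z, rfl⟩) (Submodule.mem_sup_right ?_)
    rw [Ideal.smul_top_eq_map]
    show x - μ z ∈ (maximalIdeal D).map (algebraMap D D')
    have h1 : R' ^ k ≤ (maximalIdeal D).map (algebraMap D D') := by
      rw [← Ideal.map_pow]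
      refine (Ideal.map_mono hk).trans ?_
      rw [← Ideal.map_coe, Ideal.map_map, show (incl : A' →+* D').comp (algebraMap A A') = (algebraMap D D').comp (algebraMap A D) from
          RingHom.ext fun a => (incl.commutes a).trans (IsScalarTower.algebraMap_apply A D D' a), ← Ideal.map_map]
      exact Ideal.map_mono (((local_hom_TFAE (algebraMap A D)).out 0 2 rfl rfl).mp inferInstance)
    exact h1 hz
  have hall := Submodule.le_of_le_smul_of_le_jacobson_bot (Module.Finite.fg_top) (maximalIdeal_le_jacobson _) htop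
  exact fun x => hall (Submodule.mem_top : x ∈ ⊤)

theorem flat_of_tensor {A' D D' E : Type u} [CommRing A'] [CommRing D] [CommRing D'] [CommRing E]
    [Algebra A A'] [Algebra A D] [Algebra A D'] [Algebra A E] [Algebra D E] [IsScalarTower A D E] [Algebra D D'] [IsScalarTower A D D']
    [IsNoetherianRing D] [IsNoetherianRing D'] [Module.Finite D D'] (hinjι : Function.Injective (algebraMap D D'))
    (incl : A' →ₐ[A] D') (ι : D →ₐ[A] D') (hι : ∀ d, algebraMap D D' d = ι d)
    (hμsurj : Function.Surjective (Algebra.TensorProduct.productMap incl ι))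
    [Algebra D' (A' ⊗[A] E)] [Module.Flat D' (A' ⊗[A] E)]
    (hjincl : ∀ a : A', algebraMap D' (A' ⊗[A] E) (incl a) = a ⊗ₜ[A] (1 : E))
    (hjι : ∀ d : D, algebraMap D' (A' ⊗[A] E) (ι d) = (1 : A') ⊗ₜ[A] algebraMap D E d) : Module.Flat D E := by
  let μ := Algebra.TensorProduct.productMap incl ι
  let j : D' →+* (A' ⊗[A] E) := algebraMap D' (A' ⊗[A] E)
  -- descent
  letI : Algebra D (A' ⊗[A] E) := (j.comp (algebraMap D D')).toAlgebra
  let incR : E →ₐ[D] (A' ⊗[A] E) :=
    { (Algebra.TensorProduct.includeRight : E →ₐ[A] (A' ⊗[A] E)).toRingHom with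
      commutes' := fun d => by
        show _ = j (algebraMap D D' d)
        rw [hι d]
        exact (hjι d).symm }
  letI hT : IsScalarTower D D' (A' ⊗[A] E) := IsScalarTower.of_algebraMap_eq fun d => rfl
  let Ψ : D' ⊗[D] E →ₐ[D'] (A' ⊗[A] E) := Algebra.TensorProduct.lift (Algebra.ofId D' (A' ⊗[A] E)) incR fun _ _ => Commute.all _ _
  let Φ : (A' ⊗[A] E) →+ D' ⊗[D] E :=
    (Algebra.TensorProduct.productMap
      ((Algebra.TensorProduct.includeLeft : D' →ₐ[A] D' ⊗[D] E).comp incl)
      ((Algebra.TensorProduct.includeRight : E →ₐ[D] D' ⊗[D] E).restrictScalars A)).toRingHom.toAddMonoidHom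
  have hΦt : ∀ (a : A') (e : E), Φ (a ⊗ₜ e) = incl a ⊗ₜ[D] e := fun a e => by
    show Algebra.TensorProduct.productMap _ _ (a ⊗ₜ e) = _
    rw [Algebra.TensorProduct.productMap_apply_tmul]
    show (incl a ⊗ₜ[D] (1 : E)) * ((1 : D') ⊗ₜ[D] e) = _
    rw [Algebra.TensorProduct.tmul_mul_tmul, mul_one, one_mul]
  have hΨΦ : ∀ z, Ψ (Φ z) = z := fun z => by
    induction z with
    | zero => rw [map_zero, map_zero]
    | tmul a e =>
      rw [hΦt, Algebra.TensorProduct.lift_tmul]
      show j (incl a) * ((1 : A') ⊗ₜ[A] e) = _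
      rw [hjincl, Algebra.TensorProduct.tmul_mul_tmul, mul_one, one_mul]
    | add u v hu hv => rw [map_add, map_add, hu, hv]
  have hΦsurj : Function.Surjective Φ := fun w => by
    induction w with
    | zero => exact ⟨0, map_zero _⟩
    | tmul x e =>
      obtain ⟨z, rfl⟩ := hμsurj x
      induction z with
      | zero => exact ⟨0, by rw [map_zero, map_zero, TensorProduct.zero_tmul]⟩
      | tmul a d =>
        refine ⟨a ⊗ₜ (d • e), ?_⟩
        rw [hΦt, Algebra.TensorProduct.productMap_apply_tmul, ← TensorProduct.smul_tmul, Algebra.smul_def]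
        rw [mul_comm, hι d]
      | add u v hu hv =>
        obtain ⟨a, ha⟩ := hu
        obtain ⟨b, hb⟩ := hv
        exact ⟨a + b, by rw [map_add, map_add, ha, hb, TensorProduct.add_tmul]⟩
    | add u v hu hv =>
      obtain ⟨a, ha⟩ := hu
      obtain ⟨b, hb⟩ := hv
      exact ⟨a + b, by rw [map_add, ha, hb]⟩
  have hΨ : Function.Bijective Ψ := by
    refine ⟨fun x y h => ?_, fun z => ⟨Φ z, hΨΦ z⟩⟩
    obtain ⟨a, rfl⟩ := hΦsurj x
    obtain ⟨b, rfl⟩ := hΦsurj y
    rw [hΨΦ, hΨΦ] at h
    rw [h]
  haveI : Module.Flat D' (D' ⊗[D] E) := Module.Flat.of_linearEquiv (AlgEquiv.ofBijective Ψ hΨ).toLinearEquiv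
  exact Groth.Agent.S6883.result D D' hinjι E

set_option maxHeartbeats 800000 in
set_option synthInstance.maxHeartbeats 100000 in
theorem exists_maximal_over {A' D D' E : Type u} [IsLocalRing A] [CommRing A'] [Algebra A A']
    [CommRing D] [IsLocalRing D] [Algebra A D] [IsLocalHom (algebraMap A D)] [CommRing D'] [Algebra A D']
    [CommRing E] [IsLocalRing E] [Algebra A E] [IsLocalHom (algebraMap A E)] [Algebra D E] [IsScalarTower A D E]
    [IsLocalHom (algebraMap D E)] [Algebra.EssFiniteType A E] [Algebra.FormallyUnramified A E]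
    (inc : A' →ₐ[A] D') (ι : D →ₐ[A] D') (incl : D →ₐ[A] E) (hincl' : ∀ d, algebraMap D E d = incl d)
    (j : D' →ₐ[A] A' ⊗[A] E)
    (hjμ : ∀ z, j (Algebra.TensorProduct.productMap inc ι z) = Algebra.TensorProduct.map (AlgHom.id A A') incl z)
    (hdown : ∀ N : Ideal D', N.IsMaximal → maximalIdeal D ≤ N.comap ι)
    (hTmax : ∀ P : Ideal (A' ⊗[A] E), P.IsPrime → maximalIdeal E ≤ P.comap (Algebra.TensorProduct.includeRight : E →ₐ[A] A' ⊗[A] E) → P.IsMaximal)
    (hjD : ∀ P : Ideal (A' ⊗[A] E), P.IsMaximal → (P.comap j).IsMaximal)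
    (hrep : ∀ x : D', ∃ z, x - Algebra.TensorProduct.productMap inc ι z ∈ Ideal.jacobson (⊥ : Ideal D'))
    (N : Ideal D') (hN : N.IsMaximal) : ∃ M : Ideal (A' ⊗[A] E), M.IsMaximal ∧ M.comap j = N := by
  classical
  let μ := Algebra.TensorProduct.productMap inc ι
  let G := Algebra.TensorProduct.map (AlgHom.id A A') incl
  haveI := hN
  letI : Field (D' ⧸ N) := Ideal.Quotient.field N
  let qN := Ideal.Quotient.mkₐ A N
  let iD : ResidueField D →+* D' ⧸ N := Ideal.Quotient.lift (maximalIdeal D) (qN.comp ι).toRingHom fun d hd =>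
    Ideal.Quotient.eq_zero_iff_mem.mpr (hdown N hN hd)
  let Ω := AlgebraicClosure (D' ⧸ N)
  let iΩ : ResidueField D →+* Ω := (algebraMap (D' ⧸ N) Ω).comp iD
  letI : Algebra (ResidueField D) Ω := iΩ.toAlgebra
  haveI : IsScalarTower A (ResidueField D) (ResidueField E) := IsScalarTower.of_algebraMap_eq fun a =>
    congrArg (residue E) (IsScalarTower.algebraMap_apply A D E a)
  haveI : Algebra.IsSeparable (ResidueField A) (ResidueField E) :=
    ((Algebra.FormallyUnramified.iff_map_maximalIdeal_eq (R := A) (S := E)).mp inferInstance).1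
  haveI : IsScalarTower (ResidueField A) (ResidueField D) (ResidueField E) := IsScalarTower.of_algebraMap_eq fun c => by
    obtain ⟨a, rfl⟩ := residue_surjective c
    exact congrArg (residue E) (IsScalarTower.algebraMap_apply A D E a)
  haveI : Algebra.IsAlgebraic (ResidueField D) (ResidueField E) := Algebra.IsAlgebraic.tower_top (K := ResidueField A) (ResidueField D)
  let σ : ResidueField E →ₐ[ResidueField D] Ω := IsAlgClosed.lift
  let gA : A' →ₐ[A] Ω := (IsScalarTower.toAlgHom A (D' ⧸ N) Ω).comp (qN.comp inc)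
  let gE : E →ₐ[A] Ω :=
    { σ.toRingHom.comp (residue E) with
      commutes' := fun a => by
        show σ (residue E (algebraMap A E a)) = _
        rw [show residue E (algebraMap A E a) = algebraMap (ResidueField D) (ResidueField E) (residue D (algebraMap A D a)) from by rw [IsScalarTower.algebraMap_apply A D E]; rfl,
          σ.commutes]
        show algebraMap (D' ⧸ N) Ω (qN (ι (algebraMap A D a))) = _
        rw [AlgHom.commutes, AlgHom.commutes, ← IsScalarTower.algebraMap_apply] }
  let ψ : (A' ⊗[A] E) →ₐ[A] Ω := Algebra.TensorProduct.lift gA gE fun _ _ => Commute.all _ _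
  haveI : (RingHom.ker ψ.toRingHom).IsPrime := RingHom.ker_isPrime _
  have hM : (RingHom.ker ψ.toRingHom).IsMaximal := hTmax _ inferInstance fun e he => by
    show ψ ((1 : A') ⊗ₜ e) = 0
    rw [Algebra.TensorProduct.lift_tmul, map_one, one_mul]
    show σ (residue E e) = 0
    rw [(residue_eq_zero_iff e).mpr he, map_zero]
  refine ⟨_, hM, ?_⟩
  have hN' := hjD _ hM
  refine (hN.eq_of_le hN'.ne_top fun x hx => ?_).symm
  obtain ⟨z, hz⟩ := hrep x
  have hzN : μ z ∈ N := by
    have hzj : x - μ z ∈ N := Ideal.mem_sInf.mp hz ⟨bot_le, hN⟩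
    have := N.sub_mem hx hzj
    rwa [sub_sub_cancel] at this
  have hψG : ∀ w, ψ (G w) = algebraMap (D' ⧸ N) Ω (qN (μ w)) := fun w => by
    induction w with
    | zero => simp
    | tmul a d =>
      show gA a * gE (incl d) = _
      rw [Algebra.TensorProduct.productMap_apply_tmul, map_mul, map_mul]
      congr 1
      show σ (residue E (incl d)) = _
      rw [show residue E (incl d) = algebraMap (ResidueField D) (ResidueField E) (residue D d) from by rw [← hincl']; rfl, σ.commutes]
      rfl
    | add u v hu hv => rw [map_add, map_add, hu, hv, map_add, map_add, map_add]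
  have h1 : μ z ∈ (RingHom.ker ψ.toRingHom).comap j := by
    show ψ (j (μ z)) = 0
    rw [hjμ, hψG, show qN (μ z) = 0 from Ideal.Quotient.eq_zero_iff_mem.mpr hzN, map_zero]
  have h2 : x - μ z ∈ (RingHom.ker ψ.toRingHom).comap j := Ideal.mem_sInf.mp hz ⟨bot_le, hN'⟩
  have := Ideal.add_mem _ h2 h1
  rwa [sub_add_cancel] at this

theorem comap_includeRight_isMaximal {R D : Type u} [CommRing R] [Algebra A R] [Algebra.IsIntegral A R]
    [CommRing D] [Algebra A D] (P : Ideal (R ⊗[A] D)) [P.IsMaximal] :
    (P.comap (Algebra.TensorProduct.includeRight : D →ₐ[A] R ⊗[A] D)).IsMaximal := by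
  letI : Algebra D (R ⊗[A] D) := Algebra.TensorProduct.rightAlgebra
  haveI : Algebra.IsIntegral D (R ⊗[A] D) := ⟨fun z => by
    induction z with
    | zero => exact isIntegral_zero
    | tmul r d =>
      have h : r ⊗ₜ[A] d = (r ⊗ₜ[A] (1 : D)) * algebraMap D (R ⊗[A] D) d := by
        rw [show algebraMap D (R ⊗[A] D) d = (1 : R) ⊗ₜ[A] d from rfl, Algebra.TensorProduct.tmul_mul_tmul, mul_one, one_mul]
      rw [h]
      exact ((Algebra.IsIntegral.isIntegral (R := A) r).map (Algebra.TensorProduct.includeLeft : R →ₐ[A] R ⊗[A] D)).tower_top.mul isIntegral_algebraMap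
    | add u v hu' hv => exact hu'.add hv⟩
  exact (Ideal.isMaximal_comap_of_isIntegral_of_isMaximal (R := D) (S := R ⊗[A] D) P : (P.comap (algebraMap D (R ⊗[A] D))).IsMaximal)

end Aux

section

variable {A S : Type u} [CommRing A] [IsLocalRing A] [CommRing S] [IsLocalRing S] [Algebra A S]
  [IsLocalHom (algebraMap A S)] [Hensel.IsStrictHenselization A S]

theorem isUnit_map (a : A) (ha : a ∈ nonZeroDivisors A) : IsUnit (algebraMap A (FractionRing S) a) := by
  have h := EssEtFG.mem_nonZeroDivisors (⊤ : Subalgebra A S) ha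
  have hmem : algebraMap A S a ∈ nonZeroDivisors S := mem_nonZeroDivisors_iff_left.mpr fun c hc =>
    congrArg Subtype.val (mem_nonZeroDivisors_iff_left.mp h ⟨c, trivial⟩ (Subtype.ext hc))
  rw [IsScalarTower.algebraMap_apply A S (FractionRing S)]
  exact IsLocalization.map_units (FractionRing S) (⟨_, hmem⟩ : nonZeroDivisors S)

theorem injective_algebraMap (D : Subalgebra A S) : Function.Injective (algebraMap D (FractionRing S)) :=
  fun _ _ h => Subtype.ext (IsFractionRing.injective S (FractionRing S) h)

theorem injective_algebraMap_base : Function.Injective (algebraMap A (FractionRing S)) := by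
  obtain ⟨k', _, _, _, _, _, π, hπ⟩ := Groth.Agent.H9Hens.exists_isPtColim_of_isStrictHenselization (R := A) S
  haveI : Module.FaithfullyFlat A S := hπ.faithfullyFlat (Groth.Agent.H9Hens.ker_algebraMap_of_tower (R := A) (k := k'))
  rw [IsScalarTower.algebraMap_eq A S (FractionRing S)]
  exact (IsFractionRing.injective S (FractionRing S)).comp (FaithfulSMul.algebraMap_injective A S)

variable (A' : Subalgebra A (FractionRing S))

theorem finite_normalization [IsReduced A] (hA : EGA4.IsExcellent A)
    (hA' : ∀ x : (FractionRing S), x ∈ A' ↔ (IsIntegral A x ∧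
      ∃ a ∈ nonZeroDivisors A, ∃ b : A, algebraMap A (FractionRing S) a * x = algebraMap A (FractionRing S) b)) :
    Module.Finite A A' := by
  haveI : Module.Finite A (integralClosure A (FractionRing A)) :=
    finite_integralClosure_fraction A (Groth.Agent.S2654.result A ⟨hA.1, hA.2.2.1, hA.2.2.2⟩)
  obtain ⟨J, hJ, hiff⟩ := exists_lift (A := A) (D := A) (K := FractionRing S) (injective_algebraMap_base) isUnit_map
    (fun s hs => ⟨s, hs, 1, by simp⟩)
  let φ : integralClosure A (FractionRing A) →ₐ[A] A' := (J.comp (integralClosure A (FractionRing A)).val).codRestrict A'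
    fun y => (hA' _).mpr ((hiff _).mp ⟨y, rfl⟩)
  refine Module.Finite.of_surjective φ.toLinearMap fun x => ?_
  obtain ⟨y, hy⟩ := (hiff x).mpr ((hA' x).mp x.2)
  exact ⟨y, Subtype.ext hy⟩

variable (D : Subalgebra A S) [IsLocalRing D] [IsLocalHom (algebraMap D S)]
  (D' : Subalgebra A (FractionRing S)) (hle : A' ≤ D') (ι : D →ₐ[A] D')
  (hι : ∀ d : D, (ι d : (FractionRing S)) = algebraMap S (FractionRing S) d)

omit [IsLocalRing A] [IsLocalRing S] [IsLocalHom (algebraMap A S)] [Hensel.IsStrictHenselization A S] [IsLocalRing D] [IsLocalHom (algebraMap D S)] in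
include hι in
theorem coe_productMap (z : A' ⊗[A] D) :
    ((Algebra.TensorProduct.productMap (Subalgebra.inclusion hle) ι z : D') : FractionRing S) = mul A' z := by
  induction z with
  | zero => simp
  | tmul a d =>
    rw [Algebra.TensorProduct.productMap_apply_tmul, mul_tmul, Subalgebra.coe_mul, hι]
    rfl
  | add x y hx hy => rw [map_add, AddMemClass.coe_add, hx, hy, map_add]

end

variable {A S : Type u} [CommRing A] [IsLocalRing A] [CommRing S] [IsLocalRing S] [Algebra A S]
  [IsLocalHom (algebraMap A S)] [Hensel.IsStrictHenselization A S] [IsReduced A]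
  (D : Subalgebra A S) [IsLocalRing D] [IsLocalHom (algebraMap D S)]
  (A' D' : Subalgebra A (FractionRing S))
  (hA' : ∀ x : (FractionRing S), x ∈ A' ↔ (IsIntegral A x ∧
    ∃ a ∈ nonZeroDivisors A, ∃ b : A, algebraMap A (FractionRing S) a * x = algebraMap A (FractionRing S) b))
  (hD' : ∀ x : (FractionRing S), x ∈ D' ↔ (IsIntegral D x ∧
    ∃ a ∈ nonZeroDivisors A, ∃ d ∈ D, algebraMap A (FractionRing S) a * x = algebraMap S (FractionRing S) d))
  (hle : A' ≤ D') (ι : D →ₐ[A] D') (hι : ∀ d : D, (ι d : (FractionRing S)) = algebraMap S (FractionRing S) d)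

omit [IsReduced A] in
include hA' hι hD' in
theorem isIntegral_normalization :
    Algebra.IsIntegral A A' ∧ (∀ P : Ideal D', P.IsPrime → P.comap ι = maximalIdeal D → P.IsMaximal) ∧
      (∀ P : Ideal D', P.IsMaximal → P.comap ι = maximalIdeal D ∧ (P.comap (Subalgebra.inclusion hle)).IsMaximal) := by
  haveI hAi : Algebra.IsIntegral A A' := ⟨fun x => (isIntegral_algHom_iff A'.val Subtype.val_injective).mp ((hA' x).mp x.2).1⟩
  letI : Algebra D D' := ι.toRingHom.toAlgebra
  haveI : IsScalarTower D D' (FractionRing S) := IsScalarTower.of_algebraMap_eq fun d => (hι d).symm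
  haveI hDi : Algebra.IsIntegral D D' := ⟨fun x =>
    (isIntegral_algHom_iff (IsScalarTower.toAlgHom D D' (FractionRing S)) Subtype.val_injective).mp ((hD' x).mp x.2).1⟩
  haveI : IsLocalHom (algebraMap A D) := ⟨fun a ha => by
    have := ha.map (algebraMap D S)
    rw [← IsScalarTower.algebraMap_apply] at this
    exact (isUnit_map_iff (algebraMap A S) a).mp this⟩
  refine ⟨hAi, fun P hP hPd => ?_, fun P hP => ?_⟩
  · haveI := hP
    refine Ideal.isMaximal_of_isIntegral_of_isMaximal_comap (R := D) P ?_
    show (P.comap ι).IsMaximal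
    rw [hPd]; infer_instance
  · haveI := hP
    have h1 : P.comap ι = maximalIdeal D := IsLocalRing.eq_maximalIdeal (Ideal.isMaximal_comap_of_isIntegral_of_isMaximal (R := D) (S := D') P)
    refine ⟨h1, Ideal.isMaximal_of_isIntegral_of_isMaximal_comap (R := A) _ ?_⟩
    have h2 : (P.comap (Subalgebra.inclusion hle)).comap (algebraMap A A') = maximalIdeal A := by
      have h3 : (P.comap (Subalgebra.inclusion hle)).comap (algebraMap A A') = (P.comap ι).comap (algebraMap A D) := by
        ext a
        show (Subalgebra.inclusion hle) (algebraMap A A' a) ∈ P ↔ ι (algebraMap A D a) ∈ P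
        rw [AlgHom.commutes, AlgHom.commutes]
      rw [h3, h1]
      exact ((local_hom_TFAE (algebraMap A D)).out 0 4 rfl rfl).mp inferInstance
    rw [h2]; infer_instance

include hA' hD' hι in
theorem forward (hA : EGA4.IsExcellent A) (hD : EGA4loc.IsEssentiallyEtale A D) :
    {N : Ideal D' | N.IsMaximal}.Finite ∧
      Function.Surjective ((Ideal.Quotient.mkₐ A (Ideal.jacobson (⊥ : Ideal D'))).comp
        (Algebra.TensorProduct.productMap (Subalgebra.inclusion hle) ι)) ∧
      RingHom.ker ((Ideal.Quotient.mkₐ A (Ideal.jacobson (⊥ : Ideal D'))).comp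
        (Algebra.TensorProduct.productMap (Subalgebra.inclusion hle) ι)) =
        (Ideal.jacobson (⊥ : Ideal A')).map
            (Algebra.TensorProduct.includeLeft : A' →ₐ[A] A' ⊗[A] D) ⊔
          (maximalIdeal D).map
            (Algebra.TensorProduct.includeRight : D →ₐ[A] A' ⊗[A] D) := by
  classical
  obtain ⟨hAi, hup, hdown⟩ := isIntegral_normalization D A' D' hA' hD' hle ι hι
  haveI := hAi
  haveI := finite_normalization A' hA hA'
  haveI := EssEtFrac.flat_of_isEssentiallyEtale hD
  haveI : IsLocalHom (algebraMap A D) := ⟨fun a ha => by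
    have := ha.map (algebraMap D S)
    rw [← IsScalarTower.algebraMap_apply] at this
    exact (isUnit_map_iff (algebraMap A S) a).mp this⟩
  let μ := Algebra.TensorProduct.productMap (Subalgebra.inclusion hle) ι
  have hμ : ∀ z, ((μ z : D') : FractionRing S) = mul A' z := coe_productMap A' D D' hle ι hι
  have hμinj : Function.Injective μ := fun x y h => mul_injective A'
    (fun a ha => ((hA' a).mp ha).2) isUnit_map (injective_algebraMap D)
    ((hμ x).symm.trans ((congrArg Subtype.val h).trans (hμ y)))
  have hμsurj : Function.Surjective μ := fun x => by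
    obtain ⟨hx, a, ha, d, hd, hax⟩ := (hD' x).mp x.2
    obtain ⟨z, hz⟩ := mem_range_mul A' (injective_algebraMap D) isUnit_map
      (fun y hy hy' => (hA' y).mpr ⟨hy, hy'⟩) hD (x : FractionRing S) hx ⟨a, ha, ⟨d, hd⟩, hax⟩
    exact ⟨z, Subtype.ext ((hμ z).trans hz)⟩
  have hwe : Algebra.WeaklyEtale A D := by
    obtain ⟨C, _, _, q, _, _, -, ⟨e⟩⟩ := hD
    letI : Algebra C D := (e.symm.toAlgHom.comp (IsScalarTower.toAlgHom A C (Localization.AtPrime q))).toRingHom.toAlgebra
    haveI : IsScalarTower A C D := IsScalarTower.of_algebraMap_eq fun a =>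
      ((e.symm.toAlgHom.comp (IsScalarTower.toAlgHom A C (Localization.AtPrime q))).commutes a).symm
    let eC : Localization.AtPrime q ≃ₐ[C] D := AlgEquiv.ofRingEquiv (f := e.symm.toRingEquiv) fun c => rfl
    haveI : IsLocalization.AtPrime D q := IsLocalization.isLocalization_of_algEquiv q.primeCompl eC
    haveI := Groth.Agent.H1WE.weaklyEtale_of_isLocalization q.primeCompl D
    exact Algebra.WeaklyEtale.trans A C D
  haveI := hwe
  have hm := Groth.Agent.H9Hens.essentiallyEtale_map_maximalIdeal hD
  let e : (A' ⊗[A] D) ≃ₐ[A] D' := AlgEquiv.ofBijective μ ⟨hμinj, hμsurj⟩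
  have hfin : {N : Ideal D' | N.IsMaximal}.Finite := by
    haveI := Groth.Agent.H22Alg.finite_maximalSpectrum_of_finite D (D ⊗[A] A')
    let ν : D ⊗[A] A' →ₐ[A] D' := μ.comp (Algebra.TensorProduct.comm A D A').toAlgHom
    have hν : Function.Surjective ν := hμsurj.comp (Algebra.TensorProduct.comm A D A').surjective
    haveI : Finite (MaximalSpectrum D') := Finite.of_injective
      (fun N : MaximalSpectrum D' => (⟨N.asIdeal.comap ν, haveI := N.isMaximal; Ideal.comap_isMaximal_of_surjective _ hν⟩ : MaximalSpectrum (D ⊗[A] A')))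
      fun N N' h => MaximalSpectrum.ext (Ideal.comap_injective_of_surjective _ hν (congrArg MaximalSpectrum.asIdeal h))
    exact (Set.finite_range (fun M : MaximalSpectrum D' => M.asIdeal)).subset fun M hM => ⟨⟨M, hM⟩, rfl⟩
  refine ⟨hfin, Ideal.Quotient.mk_surjective.comp hμsurj, le_antisymm (fun z hz => ?_) (sup_le ?_ ?_)⟩
  · have hz' : μ z ∈ Ideal.jacobson (⊥ : Ideal D') := Ideal.Quotient.eq_zero_iff_mem.mp hz
    refine Ideal.mem_sup_left (mem_radical hm z fun P hP => ?_)
    haveI := hP
    have h1 : (P.comap e.symm).IsMaximal := Ideal.comap_isMaximal_of_surjective e.symm e.symm.surjective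
    have h2 : μ z ∈ P.comap e.symm := Ideal.mem_sInf.mp hz' ⟨bot_le, h1⟩
    have h3 : e.symm (e z) ∈ P := h2
    rwa [e.symm_apply_apply] at h3
  · refine Ideal.map_le_iff_le_comap.mpr fun a ha => ?_
    show Ideal.Quotient.mk _ (μ (a ⊗ₜ 1)) = 0
    rw [Ideal.Quotient.eq_zero_iff_mem, Ideal.jacobson, Ideal.mem_sInf]
    rintro N ⟨-, hN⟩
    have h1 : a ∈ N.comap (Subalgebra.inclusion hle) := Ideal.mem_sInf.mp ha ⟨bot_le, (hdown N hN).2⟩
    rw [Algebra.TensorProduct.productMap_apply_tmul, map_one, mul_one]
    exact h1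
  · refine Ideal.map_le_iff_le_comap.mpr fun d hd => ?_
    show Ideal.Quotient.mk _ (μ (1 ⊗ₜ d)) = 0
    rw [Ideal.Quotient.eq_zero_iff_mem, Ideal.jacobson, Ideal.mem_sInf]
    rintro N ⟨-, hN⟩
    rw [Algebra.TensorProduct.productMap_apply_tmul, map_one, one_mul]
    exact (hdown N hN).1.ge hd

set_option maxHeartbeats 800000 in
set_option synthInstance.maxHeartbeats 100000 in
include hA' hD' in
theorem essFiniteType_of_lift (hA : EGA4.IsExcellent A) (E : Subalgebra A S) [IsLocalRing E] [IsLocalHom (algebraMap E S)]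
    [IsLocalHom (algebraMap A E)] (hE : EGA4loc.IsEssentiallyEtale A E) (hDE : D ≤ E) (j : D' →ₐ[A] A' ⊗[A] E)
    (hνj : ∀ x, mul A' (j x) = (x : FractionRing S))
    (hlift : ∀ N : Ideal D', N.IsMaximal → ∃ M : Ideal (A' ⊗[A] E), M.IsMaximal ∧ M.comap j = N) :
    Algebra.EssFiniteType A D := by
  classical
  haveI : IsNoetherianRing A := hA.1
  have hmin : (minimalPrimes A).Finite := minimalPrimes.finite_of_isNoetherianRing A
  let K := FractionRing S
  letI : Algebra D E := (Subalgebra.inclusion hDE).toRingHom.toAlgebra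
  haveI : IsScalarTower D E K := IsScalarTower.of_algebraMap_eq fun d => rfl
  haveI := EssEtFrac.flat_of_isEssentiallyEtale hE
  let ν : (A' ⊗[A] E) →ₐ[A] K := mul A'
  have hν : Function.Injective ν := mul_injective A' (fun a ha => ((hA' a).mp ha).2) isUnit_map (injective_algebraMap E)
  have hrange : ∀ y : K, IsIntegral E y → (∃ a ∈ nonZeroDivisors A, ∃ e : E, algebraMap A K a * y = algebraMap E K e) → y ∈ ν.range :=
    fun y hy hy' => mem_range_mul A' (injective_algebraMap E) isUnit_map (fun w hw hw' => (hA' w).mpr ⟨hw, hw'⟩) hE y hy hy'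
  let KE := FractionRing E
  haveI := EssEtFG.faithfullyFlat_of_isEssentiallyEtale E hE
  have hus : ∀ s : nonZeroDivisors E, IsUnit (algebraMap E K s) := fun s => by
    have hmem : algebraMap E S s ∈ nonZeroDivisors S := mem_nonZeroDivisors_iff_left.mpr fun c hc =>
      ((isSMulRegular_iff_right_eq_zero_of_smul.mpr fun z hz => mem_nonZeroDivisors_iff_left.mp s.2 z hz :
        IsSMulRegular E (s : E)).of_flat (S := S)).right_eq_zero_of_smul hc
    rw [IsScalarTower.algebraMap_apply E S K]
    exact IsLocalization.map_units K (⟨_, hmem⟩ : nonZeroDivisors S)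
  let J : KE →ₐ[E] K := IsLocalization.liftAlgHom (M := nonZeroDivisors E) (f := Algebra.ofId E K) hus
  have hJ : Function.Injective J := by
    refine (injective_iff_map_eq_zero J).mpr fun z hz => ?_
    obtain ⟨d, s, rfl⟩ := IsLocalization.exists_mk'_eq (nonZeroDivisors E) z
    have h1 := congrArg J (IsLocalization.mk'_spec KE d s)
    rw [map_mul, hz, zero_mul, J.commutes] at h1
    rw [(injective_algebraMap E (h1.symm.trans (map_zero _).symm) : d = 0), IsLocalization.mk'_zero]
  let JA : KE →ₐ[A] K := J.restrictScalars A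
  let D1 : Subalgebra A E := D.comap E.val
  let eD : D1 ≃ₐ[A] D :=
    { toFun := fun d => ⟨((d : E) : S), d.2⟩
      invFun := fun d => ⟨⟨d, hDE d.2⟩, d.2⟩
      left_inv := fun d => rfl
      right_inv := fun d => rfl
      map_mul' := fun _ _ => rfl
      map_add' := fun _ _ => rfl
      commutes' := fun _ => rfl }
  haveI : IsLocalRing D1 := eD.symm.toRingEquiv.isLocalRing
  haveI : IsLocalHom (algebraMap D1 E) := ⟨fun d hd => by
    have h1 : IsUnit (eD d) := (isUnit_map_iff (algebraMap D S) (eD d)).mp (hd.map (algebraMap E S))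
    have := h1.map eD.symm
    rwa [eD.symm_apply_apply] at this⟩
  let D'E : Subalgebra A KE := D'.comap JA
  have hcompat : J.toRingHom.comp (algebraMap D1 KE) = (algebraMap D K).comp eD.toRingEquiv.toRingHom :=
    RingHom.ext fun d => J.commutes (d : E)
  have hint : ∀ x : KE, IsIntegral D1 x ↔ IsIntegral D (JA x) := fun x => by
    constructor
    · rintro ⟨p, hp, hpx⟩
      refine ⟨p.map eD.toRingEquiv.toRingHom, hp.map _, ?_⟩
      rw [Polynomial.eval₂_map, ← hcompat]
      have := Polynomial.hom_eval₂ p (algebraMap D1 KE) J.toRingHom x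
      rw [hpx, map_zero] at this
      exact this.symm
    · rintro ⟨p, hp, hpx⟩
      refine ⟨p.map eD.symm.toRingEquiv.toRingHom, hp.map _, hJ ?_⟩
      rw [map_zero, Polynomial.eval₂_map]
      refine ((Polynomial.hom_eval₂ p _ J.toRingHom x).trans ?_ : _)
      rw [← RingHom.comp_assoc, hcompat, RingHom.comp_assoc, show eD.toRingEquiv.toRingHom.comp eD.symm.toRingEquiv.toRingHom = RingHom.id D from
        RingHom.ext fun d => eD.apply_symm_apply d, RingHom.comp_id]
      exact hpx
  have hD'E : ∀ x : KE, x ∈ D'E ↔ (IsIntegral D1 x ∧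
      ∃ a ∈ nonZeroDivisors A, ∃ d ∈ D1, algebraMap A KE a * x = algebraMap E KE d) := fun x => by
    show JA x ∈ D' ↔ _
    rw [hD', hint]
    refine and_congr_right fun _ => ⟨?_, ?_⟩
    · rintro ⟨a, ha, d, hd, hax⟩
      refine ⟨a, ha, ⟨d, hDE hd⟩, hd, hJ ?_⟩
      show JA _ = J _
      rw [map_mul, JA.commutes, hax, J.commutes]
      rfl
    · rintro ⟨a, ha, d, hd, hax⟩
      refine ⟨a, ha, (d : S), hd, ?_⟩
      have := congrArg JA hax
      rw [map_mul, JA.commutes] at this
      rw [this]
      exact J.commutes d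
  have hleE : D'E ≤ (integralClosure E KE).restrictScalars A := fun x hx => by
    have h1 : IsIntegral E (J x) := ((hD' _).mp hx).1.tower_top
    exact (isIntegral_algHom_iff J hJ).mp h1
  have hκmem : ∀ y : (integralClosure E KE).restrictScalars A, ∃ z, ν z = JA (y : KE) := fun y => by
    obtain ⟨hloc, -⟩ := EssEtFrac.isLocalization_and_finite A E hmin hE
    haveI := hloc
    obtain ⟨d, ⟨_, a, ha, rfl⟩, hd⟩ := IsLocalization.exists_mk'_eq ((nonZeroDivisors A).map (algebraMap A E)) (y : KE)
    refine hrange _ ((y.2 : IsIntegral E (y : KE)).map J) ⟨a, ha, d, ?_⟩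
    rw [← J.commutes d, ← JA.commutes a, ← map_mul]
    show J _ = J _
    congr 1
    rw [← hd, IsScalarTower.algebraMap_apply A E KE]
    exact IsLocalization.mk'_spec' KE d (⟨_, a, ha, rfl⟩ : (nonZeroDivisors A).map (algebraMap A E))
  choose κf hκf using hκmem
  let κ : (integralClosure E KE).restrictScalars A →+* (A' ⊗[A] E) :=
    { toFun := κf
      map_one' := hν (by rw [hκf, map_one]; exact map_one JA)
      map_mul' := fun x y => hν (by rw [map_mul, hκf, hκf, hκf]; exact map_mul JA _ _)
      map_zero' := hν (by rw [hκf, map_zero]; exact map_zero JA)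
      map_add' := fun x y => hν (by rw [map_add, hκf, hκf, hκf]; exact map_add JA _ _) }
  have hκsurj : Function.Surjective κ := fun z => by
    induction z using TensorProduct.induction_on with
    | zero => exact ⟨0, map_zero κ⟩
    | add u v hu hv =>
      obtain ⟨x, rfl⟩ := hu
      obtain ⟨y, rfl⟩ := hv
      exact ⟨x + y, map_add κ x y⟩
    | tmul a e =>
      obtain ⟨hai, s, hs, b, hb⟩ := (hA' a).mp a.2
      have hu' : IsUnit (algebraMap A KE s) := by
        rw [IsScalarTower.algebraMap_apply A E KE]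
        exact IsLocalization.map_units KE (⟨_, EssEtFrac.map_nonZeroDivisors_le (A := A) (E := E) (Submonoid.mem_map_of_mem _ hs)⟩ : nonZeroDivisors E)
      obtain ⟨v, hv⟩ := hu'.exists_right_inv
      have hJy : JA (algebraMap A KE b * v) = (a : K) := by
        refine (isUnit_map s hs).mul_left_cancel ?_
        rw [hb, map_mul, JA.commutes, mul_left_comm, ← JA.commutes s, ← map_mul, hv, map_one, mul_one]
      have hint' : IsIntegral E (algebraMap A KE b * v * algebraMap E KE e) := by
        refine IsIntegral.mul ?_ isIntegral_algebraMap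
        refine (isIntegral_algHom_iff J hJ).mp ?_
        show IsIntegral E (JA _)
        rw [hJy]
        exact hai.tower_top
      refine ⟨⟨_, hint'⟩, hν ?_⟩
      show ν (κf _) = _
      rw [hκf]
      show JA _ = mul A' (a ⊗ₜ[A] e)
      rw [mul_tmul, map_mul, hJy]
      congr 1
      exact J.commutes e
  have hsurjE : ∀ N : Ideal D'E, N.IsMaximal →
      ∃ M : Ideal ((integralClosure E KE).restrictScalars A), M.IsMaximal ∧ M.comap (Subalgebra.inclusion hleE) = N := by
    intro N hN
    let g : D'E →+* D' := RingHom.codRestrict (JA.toRingHom.comp D'E.val.toRingHom) D' fun x => x.2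
    have hgsurj : Function.Surjective g := fun x => by
      obtain ⟨-, a, ha, d, hd, hax⟩ := (hD' x).mp x.2
      obtain ⟨v, hv⟩ := (IsLocalization.map_units KE (⟨_, EssEtFrac.map_nonZeroDivisors_le (A := A) (E := E) (Submonoid.mem_map_of_mem _ ha)⟩ : nonZeroDivisors E)).exists_right_inv
      have hv' : algebraMap A KE a * v = 1 := by rw [IsScalarTower.algebraMap_apply A E KE]; exact hv
      have hy : JA (algebraMap E KE ⟨d, hDE hd⟩ * v) = (x : K) := by
        refine (isUnit_map a ha).mul_left_cancel ?_
        rw [hax, map_mul, mul_left_comm, ← JA.commutes a, ← map_mul JA (algebraMap A KE a) v, hv', map_one, mul_one]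
        exact J.commutes (⟨d, hDE hd⟩ : E)
      exact ⟨⟨algebraMap E KE ⟨d, hDE hd⟩ * v, show JA _ ∈ D' by rw [hy]; exact x.2⟩, Subtype.ext hy⟩
    have hginj : Function.Injective g := fun x y h => Subtype.ext (hJ (congrArg Subtype.val h))
    let ge := RingEquiv.ofBijective g ⟨hginj, hgsurj⟩
    haveI := hN
    have hN' : (N.comap ge.symm).IsMaximal := Ideal.comap_isMaximal_of_surjective ge.symm ge.symm.surjective
    obtain ⟨M, hM, hMN⟩ := hlift _ hN'
    haveI := hM
    refine ⟨M.comap κ, Ideal.comap_isMaximal_of_surjective κ hκsurj, ?_⟩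
    ext x
    show κ (Subalgebra.inclusion hleE x) ∈ M ↔ x ∈ N
    have : κ (Subalgebra.inclusion hleE x) = j (g x) := hν (by
      rw [hνj]
      show ν (κf _) = _
      rw [hκf]; rfl)
    rw [this, ← Ideal.mem_comap, hMN]
    show ge.symm (ge x) ∈ N ↔ _
    rw [ge.symm_apply_apply]
  haveI := EssEtSemilocal.essFiniteType_of_semilocal hA hE D1 D'E hD'E hleE hsurjE
  exact (Algebra.EssFiniteType.iff_of_algEquiv eD).mp inferInstance

set_option maxHeartbeats 1600000 in
set_option synthInstance.maxHeartbeats 100000 in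
include hA' hD' hι in
theorem backward (hA : EGA4.IsExcellent A)
    (hfg : ∃ t : Finset (FractionRing D), ∀ x : FractionRing D, ∃ a ∈ nonZeroDivisors A,
      algebraMap A (FractionRing D) a * x ∈ Algebra.adjoin A (t : Set (FractionRing D)))
    (hrep' : Function.Surjective ((Ideal.Quotient.mkₐ A (Ideal.jacobson (⊥ : Ideal D'))).comp
        (Algebra.TensorProduct.productMap (Subalgebra.inclusion hle) ι))) :
    EGA4loc.IsEssentiallyEtale A D := by
  classical
  haveI : IsNoetherianRing A := hA.1
  have hNag := Groth.Agent.S2654.result A ⟨hA.1, hA.2.2.1, hA.2.2.2⟩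
  have hmin : (minimalPrimes A).Finite := minimalPrimes.finite_of_isNoetherianRing A
  let K := FractionRing S
  obtain ⟨hAi, hup, hdown⟩ := isIntegral_normalization D A' D' hA' hD' hle ι hι
  haveI := hAi
  haveI := finite_normalization A' hA hA'
  haveI : IsNoetherianRing A' := IsNoetherianRing.of_finite A A'
  let μ := Algebra.TensorProduct.productMap (Subalgebra.inclusion hle) ι
  have hμ : ∀ z, ((μ z : D') : K) = mul A' z := coe_productMap A' D D' hle ι hι
  have hrep : ∀ x : D', ∃ z, x - μ z ∈ Ideal.jacobson (⊥ : Ideal D') := fun x => by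
    obtain ⟨z, hz⟩ := hrep' (Ideal.Quotient.mk _ x)
    exact ⟨z, Ideal.Quotient.eq.mp hz.symm⟩
  haveI hlocAD : IsLocalHom (algebraMap A D) := ⟨fun a ha => by
    have := ha.map (algebraMap D S)
    rw [← IsScalarTower.algebraMap_apply] at this
    exact (isUnit_map_iff (algebraMap A S) a).mp this⟩
  -- the etale algebra
  obtain ⟨E, hDE, hEloc, hEdom, hE⟩ := EssEtFG.exists_local_le_of_fg hmin D hfg
  haveI := hEloc
  haveI := hEdom
  haveI := EssEtFrac.flat_of_isEssentiallyEtale hE
  haveI := EssEtSemilocal.isReduced_of_isEssentiallyEtale hE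
  haveI hEN : Algebra.EssFiniteType A E ∧ IsNoetherianRing E := EssEtSemilocal.isNoetherianRing_of_isEssentiallyEtale hE
  haveI := hEN.1
  haveI := hEN.2
  haveI hlocAE : IsLocalHom (algebraMap A E) := ⟨fun a ha => by
    have := ha.map (algebraMap E S)
    rw [← IsScalarTower.algebraMap_apply] at this
    exact (isUnit_map_iff (algebraMap A S) a).mp this⟩
  haveI : Algebra.FormallyUnramified A E := by
    obtain ⟨C, _, _, q, _, _, -, ⟨e⟩⟩ := hE
    haveI : Algebra.FormallyUnramified A (Localization.AtPrime q) := Algebra.FormallyUnramified.comp A C _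
    exact Algebra.FormallyUnramified.of_equiv e.symm
  have hmE := Groth.Agent.H9Hens.essentiallyEtale_map_maximalIdeal hE
  have hE'0 := hE
  let incl : D →ₐ[A] E := Subalgebra.inclusion hDE
  letI : Algebra D E := incl.toRingHom.toAlgebra
  haveI : IsScalarTower A D E := IsScalarTower.of_algebraMap_eq fun a => rfl
  haveI : IsScalarTower D E K := IsScalarTower.of_algebraMap_eq fun d => rfl
  haveI : IsLocalHom (algebraMap D E) := ⟨fun d hd => (isUnit_map_iff (algebraMap D S) d).mp (hd.map (algebraMap E S))⟩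
  have hincl : maximalIdeal D = (maximalIdeal E).comap incl := (((local_hom_TFAE (algebraMap D E)).out 0 4 rfl rfl).mp inferInstance).symm
  -- `(A' ⊗[A] E) = A' ⊗ E`
  let ν : (A' ⊗[A] E) →ₐ[A] K := mul A'
  have hν : Function.Injective ν := mul_injective A' (fun a ha => ((hA' a).mp ha).2) isUnit_map (injective_algebraMap E)
  have hrange : ∀ y : K, IsIntegral E y → (∃ a ∈ nonZeroDivisors A, ∃ e : E, algebraMap A K a * y = algebraMap E K e) → y ∈ ν.range :=
    fun y hy hy' => mem_range_mul A' (injective_algebraMap E) isUnit_map (fun w hw hw' => (hA' w).mpr ⟨hw, hw'⟩) hE y hy hy'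
  have hjmem : ∀ x : D', ∃ z, ν z = (x : K) := fun x => by
    obtain ⟨hx, a, ha, d, hd, hax⟩ := (hD' x).mp x.2
    exact hrange x hx.tower_top ⟨a, ha, ⟨d, hDE hd⟩, hax⟩
  choose jf hjf using hjmem
  let j : D' →ₐ[A] (A' ⊗[A] E) :=
    { toFun := jf
      map_one' := hν (by rw [hjf, map_one]; rfl)
      map_mul' := fun x y => hν (by rw [map_mul, hjf, hjf, hjf]; rfl)
      map_zero' := hν (by rw [hjf, map_zero]; rfl)
      map_add' := fun x y => hν (by rw [map_add, hjf, hjf, hjf]; rfl)
      commutes' := fun a => hν (by rw [hjf, ν.commutes]; rfl) }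
  have hνj : ∀ x, ν (j x) = (x : K) := hjf
  let G : A' ⊗[A] D →ₐ[A] (A' ⊗[A] E) := Algebra.TensorProduct.map (AlgHom.id A A') incl
  have hGν : ∀ z, ν (G z) = mul A' z := fun z => by
    induction z with
    | zero => simp
    | tmul a d =>
      show mul A' (a ⊗ₜ[A] incl d) = _
      rw [mul_tmul, mul_tmul]
      rfl
    | add x y hx hy => rw [map_add, map_add, hx, hy, map_add]
  have hjμ : ∀ z, j (μ z) = G z := fun z => hν (by rw [hνj, hμ, hGν])
  have hjι : ∀ d : D, j (ι d) = (1 : A') ⊗ₜ[A] incl d := fun d => by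
    have : ι d = μ (1 ⊗ₜ d) := by rw [Algebra.TensorProduct.productMap_apply_tmul, map_one, one_mul]
    rw [this, hjμ]; rfl
  have hjincl : ∀ a : A', j (Subalgebra.inclusion hle a) = a ⊗ₜ[A] (1 : E) := fun a => by
    have : Subalgebra.inclusion hle a = μ (a ⊗ₜ 1) := by rw [Algebra.TensorProduct.productMap_apply_tmul, map_one, mul_one]
    rw [this, hjμ]
    show a ⊗ₜ[A] incl 1 = _
    rw [map_one]
  have hTmax : ∀ P : Ideal (A' ⊗[A] E), P.IsPrime → maximalIdeal E ≤ P.comap (Algebra.TensorProduct.includeRight : E →ₐ[A] (A' ⊗[A] E)) → P.IsMaximal :=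
    fun P hP h => by
      haveI := hP
      refine prime_isMaximal hmE P (Ideal.map_le_iff_le_comap.mpr fun a ha => ?_)
      have h1 := h (hmE.le (Ideal.mem_map_of_mem _ ha))
      rw [Ideal.mem_comap, AlgHom.commutes] at h1
      exact h1
  have hTcomap : ∀ P : Ideal (A' ⊗[A] E), P.IsMaximal → P.comap (Algebra.TensorProduct.includeRight : E →ₐ[A] (A' ⊗[A] E)) = maximalIdeal E :=
    fun P hP => by
      haveI := hP
      exact IsLocalRing.eq_maximalIdeal (comap_includeRight_isMaximal P)
  have hjD : ∀ P : Ideal (A' ⊗[A] E), P.IsMaximal → (P.comap j).IsMaximal := fun P hP => by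
    haveI := hP
    refine hup _ inferInstance ?_
    rw [hincl, ← hTcomap P hP]
    ext d
    show j (ι d) ∈ P ↔ (1 : A') ⊗ₜ[A] incl d ∈ P
    rw [hjι]
  -- every maximal ideal of `D'` lifts
  have hlift : ∀ N : Ideal D', N.IsMaximal → ∃ M : Ideal (A' ⊗[A] E), M.IsMaximal ∧ M.comap j = N :=
    exists_maximal_over (Subalgebra.inclusion hle) ι incl (fun d => rfl) j hjμ (fun N hN => (hdown N hN).1.ge) hTmax hjD hrep
  haveI hDft : Algebra.EssFiniteType A D := essFiniteType_of_lift D A' D' hA' hD' hA E hE hDE j hνj hlift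
  haveI : IsNoetherianRing D := Algebra.EssFiniteType.isNoetherianRing A D
  haveI : IsReduced D := isReduced_of_injective incl (Subalgebra.inclusion_injective hDE)
  -- `D'` is the normalization of `D`
  obtain ⟨JD, hJD, hJDiff⟩ := exists_lift (A := A) (D := D) (K := K) (injective_algebraMap D) isUnit_map
    fun s hs => EssEtFG.exists_mul_eq_of_subalgebra hmin D hs
  haveI : IsArtinianRing (FractionRing D) := EssEtFrac.isArtinianRing_fractionRing D (minimalPrimes.finite_of_isNoetherianRing D)
  haveI : IsReduced (FractionRing D) := isReduced_localizationPreserves (nonZeroDivisors D) _ inferInstance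
  let B0 := integralClosure D (FractionRing D)
  letI : Algebra D D' := ι.toRingHom.toAlgebra
  haveI : IsScalarTower A D D' := IsScalarTower.of_algebraMap_eq fun a => (ι.commutes a).symm
  let gb : B0 →ₗ[D] D' :=
    { toFun := fun y => ⟨JD y, (hD' _).mpr (by
        obtain ⟨h1, a, ha, d, hd⟩ := (hJDiff _).mp ⟨y, rfl⟩
        exact ⟨h1, a, ha, d, d.2, hd⟩)⟩
      map_add' := fun x y => Subtype.ext (map_add JD (x : FractionRing D) y)
      map_smul' := fun c x => Subtype.ext (by
        show JD (c • (x : FractionRing D)) = ((ι c : D') : K) * JD (x : FractionRing D)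
        rw [map_smul, hι, Algebra.smul_def]
        rfl) }
  let gbr : B0 →+* D' :=
    { gb with
      map_one' := Subtype.ext (map_one JD)
      map_mul' := fun x y => Subtype.ext (map_mul JD (x : FractionRing D) y)
      map_zero' := Subtype.ext (map_zero JD)
      map_add' := fun x y => Subtype.ext (map_add JD (x : FractionRing D) y) }
  have hgbr : Function.Bijective gbr := by
    refine ⟨fun x y h => Subtype.ext (hJD (congrArg Subtype.val h)), fun x => ?_⟩
    obtain ⟨h1, a, ha, d, hd, hax⟩ := (hD' x).mp x.2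
    obtain ⟨y, hy⟩ := (hJDiff x).mpr ⟨h1, a, ha, ⟨d, hd⟩, hax⟩
    exact ⟨y, Subtype.ext hy⟩
  let ge := RingEquiv.ofBijective gbr hgbr
  haveI hD'fin : Module.Finite D D' := by
    haveI := finite_integralClosure_fraction D (isNagata_of_essFiniteType hNag)
    exact Module.Finite.of_surjective gb hgbr.2
  haveI : IsNoetherianRing D' := IsNoetherianRing.of_finite D D'
  haveI : Algebra.EssFiniteType A D' := Algebra.EssFiniteType.comp A D D'
  -- flatness of `(A' ⊗[A] E)` over `D'`
  letI : Algebra D' (A' ⊗[A] E) := j.toRingHom.toAlgebra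
  haveI : IsScalarTower A D' (A' ⊗[A] E) := IsScalarTower.of_algebraMap_eq fun a => (j.commutes a).symm
  letI : Algebra A' D' := (Subalgebra.inclusion hle).toRingHom.toAlgebra
  haveI : IsScalarTower A' D' (A' ⊗[A] E) := IsScalarTower.of_algebraMap_eq fun a => (hjincl a).symm
  haveI : IsScalarTower A A' D' := IsScalarTower.of_algebraMap_eq fun a => rfl
  haveI : Algebra.EssFiniteType A (A' ⊗[A] E) := Algebra.EssFiniteType.comp A A' (A' ⊗[A] E)
  haveI hflat : Module.Flat D' (A' ⊗[A] E) := flat_over_normalization (A := A) (A' := A') (T := A' ⊗[A] E) ν.toRingHom hν JD ge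
    (fun y => hνj (gbr y)) hjD
  haveI : Module.FaithfullyFlat D' (A' ⊗[A] E) := ⟨fun N hN htop => by
    obtain ⟨M, hM, hMN⟩ := hlift N hN
    rw [Ideal.smul_top_eq_map] at htop
    have h1 : N.map (algebraMap D' (A' ⊗[A] E)) = ⊤ := by
      rwa [Submodule.restrictScalars_eq_top_iff] at htop
    exact hM.ne_top (top_le_iff.mp (h1 ▸ Ideal.map_le_iff_le_comap.mpr hMN.ge))⟩
  -- `D' = A' D`
  haveI : Algebra.WeaklyEtale A E := by
    obtain ⟨C, _, _, q, _, _, -, ⟨e⟩⟩ := hE'0
    letI : Algebra C E := (e.symm.toAlgHom.comp (IsScalarTower.toAlgHom A C (Localization.AtPrime q))).toRingHom.toAlgebra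
    haveI : IsScalarTower A C E := IsScalarTower.of_algebraMap_eq fun a =>
      ((e.symm.toAlgHom.comp (IsScalarTower.toAlgHom A C (Localization.AtPrime q))).commutes a).symm
    let eC : Localization.AtPrime q ≃ₐ[C] E := AlgEquiv.ofRingEquiv (f := e.symm.toRingEquiv) fun c => rfl
    haveI : IsLocalization.AtPrime E q := IsLocalization.isLocalization_of_algEquiv q.primeCompl eC
    haveI := Groth.Agent.H1WE.weaklyEtale_of_isLocalization q.primeCompl E
    exact Algebra.WeaklyEtale.trans A C E
  let R := Ideal.jacobson (⊥ : Ideal A')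
  let R' : Ideal D' := R.map (Subalgebra.inclusion hle)
  have hRad : Ideal.jacobson (⊥ : Ideal D') ≤ R' := fun x hx => by
    rw [← Ideal.comap_map_eq_self_of_faithfullyFlat (B := (A' ⊗[A] E)) R', Ideal.mem_comap]
    have h1 := mem_radical (R := A') hmE (j x) fun P hP => Ideal.mem_sInf.mp hx ⟨bot_le, hjD P hP⟩
    have heq : R'.map (algebraMap D' (A' ⊗[A] E)) =
        R.map (Algebra.TensorProduct.includeLeft : A' →ₐ[A] A' ⊗[A] E) := by
      rw [show R' = R.map (Subalgebra.inclusion hle).toRingHom from rfl, Ideal.map_map,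
        show (algebraMap D' (A' ⊗[A] E)).comp (Subalgebra.inclusion hle).toRingHom =
          (Algebra.TensorProduct.includeLeft : A' →ₐ[A] A' ⊗[A] E).toRingHom from RingHom.ext hjincl]
      rfl
    rw [heq]
    exact h1
  have hμsurj : Function.Surjective μ :=
    surjective_of_radical (A := A) (Subalgebra.inclusion hle) ι (fun d => rfl) hrep hRad
  have hinjι : Function.Injective (algebraMap D D') := fun x y h => injective_algebraMap D (by
    have h1 := congrArg Subtype.val h
    show algebraMap S K x = algebraMap S K y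
    rw [← hι, ← hι]
    exact h1)
  haveI : Module.Flat D E := flat_of_tensor (A := A) hinjι (Subalgebra.inclusion hle) ι (fun d => rfl) hμsurj hjincl hjι
  haveI : Module.FaithfullyFlat D E := Module.FaithfullyFlat.of_flat_of_isLocalHom
  refine EssEtSub.of_essFiniteType D ?_
  rw [← Ideal.comap_map_eq_self_of_faithfullyFlat (B := E) (Ideal.map (algebraMap A D) (maximalIdeal A)),
    Ideal.map_map, ← IsScalarTower.algebraMap_eq, hmE]
  exact hincl.symm

end Groth.Agent.H05EGA4.EssEtResidue
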