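import Mathlib
import Groth.Agent.H7Flat.EtaleNbhdHensel
import Groth.Prelude.Def_EssEt

/-!
Composites of essentially etale local algebras.
-/

set_option autoImplicit false
set_option backward.isDefEq.respectTransparency false
universe u
open TensorProduct

namespace Groth.Agent.H05EGA4.EssEtTrans

open Groth.Agent.H7Flat.EtaleNbhdHensel in
/-- Local rings of etale algebras over `A_p` are local rings of etale `A`-algebras. -/
theorem exists_etale_atPrime {A : Type u} [CommRing A] (p : Ideal A) [p.IsPrime]
    (S : Type u) [CommRing S] [Algebra (Localization.AtPrime p) S]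
    [Algebra A S] [IsScalarTower A (Localization.AtPrime p) S]
    [Algebra.Etale (Localization.AtPrime p) S] (r : Ideal S) [r.IsPrime] :
    ∃ (S₀ : Type u) (_ : CommRing S₀) (_ : Algebra A S₀) (r₀ : Ideal S₀) (_ : r₀.IsPrime),
      Algebra.Etale A S₀ ∧ r₀.comap (algebraMap A S₀) = r.comap (algebraMap A S) ∧
        Nonempty (Localization.AtPrime r ≃ₐ[A] Localization.AtPrime r₀) := by
  let G : Idx p → Type u := fun u => Localization.Away u.1
  have hu : ∀ u : Idx p, IsUnit (algebraMap A (Localization.AtPrime p) u.1) := fun u =>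
    IsLocalization.map_units (Localization.AtPrime p) (⟨u.1, u.2⟩ : p.primeCompl)
  have huv : ∀ u v : Idx p, u ≤ v → IsUnit (algebraMap A (Localization.Away v.1) u.1) :=
    fun u v h => isUnit_of_dvd_unit (map_dvd _ h)
      (IsLocalization.Away.algebraMap_isUnit (S := Localization.Away v.1) v.1)
  let tf : ∀ u v : Idx p, u ≤ v → (G u →+* G v) := fun u v h =>
    IsLocalization.Away.lift (S := Localization.Away u.1) u.1 (huv u v h)
  let gg : ∀ u : Idx p, G u →+* Localization.AtPrime p := fun u =>
    IsLocalization.Away.lift (S := Localization.Away u.1) u.1 (hu u)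
  have hg : ∀ u v (h : u ≤ v), (gg v).comp (tf u v h) = gg u := fun u v h =>
    IsLocalization.ringHom_ext (Submonoid.powers u.1) (RingHom.ext fun a => by
      simp [gg, tf, G, IsLocalization.Away.lift_eq])
  have hsurj : ∀ x, ∃ u, ∃ y : G u, gg u y = x := by
    intro x
    obtain ⟨a, ⟨c, hc⟩, rfl⟩ := IsLocalization.exists_mk'_eq p.primeCompl x
    refine ⟨⟨c, hc⟩, IsLocalization.mk' (Localization.Away c) a
      (⟨c, Submonoid.mem_powers c⟩ : Submonoid.powers c), ?_⟩
    rw [IsLocalization.eq_mk'_iff_mul_eq, ← IsLocalization.Away.lift_eq (S := Localization.Away c) c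
      (hu ⟨c, hc⟩) c, ← map_mul]
    erw [IsLocalization.mk'_spec]
    exact IsLocalization.Away.lift_eq (S := Localization.Away c) c (hu ⟨c, hc⟩) a
  have hker : ∀ u (y : G u), gg u y = 0 → ∃ v, ∃ h : u ≤ v, tf u v h y = 0 := by
    intro u y hy
    obtain ⟨a, ⟨c, hc⟩, rfl⟩ := IsLocalization.exists_mk'_eq (Submonoid.powers u.1) y
    have ha : algebraMap A (Localization.AtPrime p) a = 0 := by
      rw [← IsLocalization.Away.lift_eq (S := Localization.Away u.1) u.1 (hu u) a,
        ← IsLocalization.mk'_spec (Localization.Away u.1) a (⟨c, hc⟩ : Submonoid.powers u.1),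
        map_mul]
      exact (congrArg (· * _) hy).trans (zero_mul _)
    obtain ⟨⟨w, hw⟩, hwa⟩ := (IsLocalization.map_eq_zero_iff p.primeCompl _ a).mp ha
    refine ⟨⟨u.1 * w, fun h => (Ideal.IsPrime.mem_or_mem inferInstance h).elim u.2 hw⟩,
      dvd_mul_right _ _, ?_⟩
    have h1 : IsUnit (algebraMap A (Localization.Away (u.1 * w)) w) :=
      isUnit_of_dvd_unit (map_dvd _ (dvd_mul_left w u.1))
        (IsLocalization.Away.algebraMap_isUnit (S := Localization.Away (u.1 * w)) (u.1 * w))
    have h2 : algebraMap A (Localization.Away (u.1 * w)) a = 0 := by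
      rw [← h1.mul_right_eq_zero, ← map_mul]
      simpa using congrArg (algebraMap A (Localization.Away (u.1 * w))) hwa
    have h3 : IsUnit (algebraMap A (Localization.Away u.1) c) :=
      IsLocalization.map_units (Localization.Away u.1) (⟨c, hc⟩ : Submonoid.powers u.1)
    apply (h3.map (tf u _ (dvd_mul_right _ _))).mul_left_eq_zero.mp
    rw [← map_mul]
    erw [IsLocalization.mk'_spec, IsLocalization.Away.lift_eq]
    exact h2
  obtain ⟨u, Bi, _, _, hBi, ⟨e⟩⟩ := Groth.Agent.H3CAlg.exists_etale_stage tf gg hg hsurj hker S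
  letI : Algebra (G u) (Localization.AtPrime p) := (gg u).toAlgebra
  letI : Algebra A (G u) := inferInstanceAs (Algebra A (Localization.Away u.1))
  haveI : IsScalarTower A (G u) (Localization.AtPrime p) := IsScalarTower.of_algebraMap_eq fun a =>
    (IsLocalization.Away.lift_eq (S := Localization.Away u.1) u.1 (hu u) a).symm
  haveI : IsLocalization (Submonoid.powers u.1) (G u) := inferInstanceAs (IsLocalization _ (Localization.Away u.1))
  have hle : Submonoid.powers u.1 ≤ p.primeCompl := Submonoid.powers_le.mpr u.2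
  haveI : IsLocalization (p.primeCompl.map (algebraMap A (G u))) (Localization.AtPrime p) :=
    IsLocalization.isLocalization_of_submonoid_le (G u) (Localization.AtPrime p) (Submonoid.powers u.1) p.primeCompl hle
  letI : Algebra A Bi := ((algebraMap (G u) Bi).comp (algebraMap A (G u))).toAlgebra
  haveI : IsScalarTower A (G u) Bi := IsScalarTower.of_algebraMap_eq fun _ => rfl
  haveI : Algebra.Etale A (G u) :=
    Algebra.Etale.of_isLocalizationAway (A := Localization.Away u.1) u.1
  haveI : Algebra.Etale A Bi := Algebra.Etale.comp A (G u) Bi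
  let T := Localization.AtPrime p ⊗[G u] Bi
  letI : Algebra Bi T := Algebra.TensorProduct.rightAlgebra
  let N := Algebra.algebraMapSubmonoid Bi (p.primeCompl.map (algebraMap A (G u)))
  haveI : IsLocalization N T := inferInstance
  let r₁ : Ideal T := r.comap e.symm.toAlgHom.toRingHom
  haveI : r₁.IsPrime := inferInstance
  let r₀ : Ideal Bi := r₁.comap (algebraMap Bi T)
  haveI : r₀.IsPrime := inferInstance
  haveI : IsScalarTower A Bi T := IsScalarTower.of_algebraMap_eq fun a => by
    show algebraMap A T a = (1 : Localization.AtPrime p) ⊗ₜ[G u] (algebraMap (G u) Bi (algebraMap A (G u) a))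
    rw [IsScalarTower.algebraMap_apply A (G u) T]
    exact ((Algebra.TensorProduct.includeRight : Bi →ₐ[G u] T).commutes _).symm
  haveI hloc : IsLocalization.AtPrime (Localization.AtPrime r₁) r₀ :=
    IsLocalization.isLocalization_isLocalization_atPrime_isLocalization N (Localization.AtPrime r₁) r₁
  haveI : IsScalarTower A Bi (Localization.AtPrime r₁) := IsScalarTower.of_algebraMap_eq fun a => by
    rw [IsScalarTower.algebraMap_apply A T (Localization.AtPrime r₁), IsScalarTower.algebraMap_apply A Bi T,
      ← IsScalarTower.algebraMap_apply Bi T (Localization.AtPrime r₁)]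
  let eA : S ≃ₐ[A] T := e.restrictScalars A
  have hr : r.primeCompl.map (eA : S →* T) = r₁.primeCompl := by
    ext t
    constructor
    · rintro ⟨s, hs, rfl⟩ ht
      have h' : e.symm (e s) ∈ r := ht
      rw [e.symm_apply_apply] at h'
      exact hs h'
    · intro ht
      exact ⟨e.symm t, ht, e.apply_symm_apply t⟩
  letI : Algebra (Localization.AtPrime p) (Localization.AtPrime r₁) := inferInstance
  refine ⟨Bi, inferInstance, inferInstance, r₀, inferInstance, inferInstance, ?_, ⟨?_⟩⟩
  · show (r₁.comap (algebraMap Bi T)).comap (algebraMap A Bi) = _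
    rw [Ideal.comap_comap, ← IsScalarTower.algebraMap_eq A Bi T]
    show (r.comap e.symm.toAlgHom.toRingHom).comap (algebraMap A T) = _
    rw [Ideal.comap_comap]
    congr 1
    exact RingHom.ext fun a => eA.symm.commutes a
  · refine AlgEquiv.trans (AlgEquiv.ofRingEquiv (f := IsLocalization.ringEquivOfRingEquiv
      (Localization.AtPrime r) (Localization.AtPrime r₁) eA.toRingEquiv hr) fun a => ?_)
      ((IsLocalization.algEquiv r₀.primeCompl (Localization.AtPrime r₁) (Localization.AtPrime r₀)).restrictScalars A)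
    rw [IsScalarTower.algebraMap_apply A S (Localization.AtPrime r), IsLocalization.ringEquivOfRingEquiv_eq,
      IsScalarTower.algebraMap_apply A T (Localization.AtPrime r₁)]
    exact congrArg _ (eA.commutes a)

theorem trans (A : Type u) [CommRing A] [IsLocalRing A]
    (B : Type u) [CommRing B] [IsLocalRing B] [Algebra A B]
    (C : Type u) [CommRing C] [Algebra B C] [Algebra A C] [IsScalarTower A B C]
    (hB : EGA4loc.IsEssentiallyEtale A B) (hC : EGA4loc.IsEssentiallyEtale B C) :
    EGA4loc.IsEssentiallyEtale A C := by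
  obtain ⟨C₀, _, _, q, _, _, hq, ⟨ψ⟩⟩ := hB
  obtain ⟨E, _, _, r, _, _, hr, ⟨φ⟩⟩ := hC
  let Lq := Localization.AtPrime q
  letI : Algebra Lq E := ((algebraMap B E).comp ψ.symm.toRingEquiv.toRingHom).toAlgebra
  letI : Algebra C₀ E := ((algebraMap Lq E).comp (algebraMap C₀ Lq)).toAlgebra
  haveI : IsScalarTower C₀ Lq E := IsScalarTower.of_algebraMap_eq fun _ => rfl
  haveI : Algebra.Etale Lq E := by
    rw [← RingHom.etale_algebraMap]
    exact RingHom.Etale.stableUnderComposition _ _ (RingHom.Etale.of_bijective ψ.symm.bijective) (RingHom.etale_algebraMap.mpr ‹Algebra.Etale B E›)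
  obtain ⟨S₀, _, _, r₀, _, hS₀, hr₀, ⟨e⟩⟩ := exists_etale_atPrime q E r
  letI : Algebra A S₀ := ((algebraMap C₀ S₀).comp (algebraMap A C₀)).toAlgebra
  haveI : IsScalarTower A C₀ S₀ := IsScalarTower.of_algebraMap_eq fun _ => rfl
  haveI := hS₀
  have hcomm : ∀ a, algebraMap C₀ E (algebraMap A C₀ a) = algebraMap B E (algebraMap A B a) := fun a => by
    show algebraMap B E (ψ.symm (algebraMap C₀ Lq (algebraMap A C₀ a))) = _
    rw [← IsScalarTower.algebraMap_apply A C₀ Lq, AlgEquiv.commutes]
  refine ⟨S₀, inferInstance, inferInstance, r₀, inferInstance, Algebra.Etale.comp A C₀ S₀, ?_, ⟨?_⟩⟩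
  · rw [IsScalarTower.algebraMap_eq A C₀ S₀, ← Ideal.comap_comap, hr₀, Ideal.comap_comap]
    have h1 : (algebraMap C₀ E).comp (algebraMap A C₀) = (algebraMap B E).comp (algebraMap A B) :=
      RingHom.ext hcomm
    rw [h1, ← Ideal.comap_comap, hr]
    ext a
    rw [Ideal.mem_comap, IsLocalRing.mem_maximalIdeal, IsLocalRing.mem_maximalIdeal, mem_nonunits_iff,
      mem_nonunits_iff, not_iff_not]
    refine ⟨fun ha => ?_, fun ha => ha.map _⟩
    by_contra hna
    have h2 : IsUnit (algebraMap C₀ Lq (algebraMap A C₀ a)) := by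
      rw [← IsScalarTower.algebraMap_apply A C₀ Lq, ← ψ.commutes]; exact ha.map ψ
    exact (IsLocalization.AtPrime.isUnit_to_map_iff Lq q _).mp h2
      (show algebraMap A C₀ a ∈ q from hq.ge hna)
  · refine AlgEquiv.ofRingEquiv (f := φ.toRingEquiv.trans e.toRingEquiv) fun a => ?_
    show e (φ (algebraMap A C a)) = algebraMap A (Localization.AtPrime r₀) a
    rw [IsScalarTower.algebraMap_apply A B C, φ.commutes, IsScalarTower.algebraMap_apply B E (Localization.AtPrime r),
      ← hcomm, ← IsScalarTower.algebraMap_apply C₀ E (Localization.AtPrime r), e.commutes,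
      IsScalarTower.algebraMap_apply A S₀ (Localization.AtPrime r₀), IsScalarTower.algebraMap_apply C₀ S₀ (Localization.AtPrime r₀)]
    rfl

end Groth.Agent.H05EGA4.EssEtTrans
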