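import Groth.Agent.H05EGA4.EtTate
import Groth.Agent.H18Et.EtaleRestrict
import Groth.Agent.H18Et.Subterminal
import Groth.Agent.H18Et.StalkSets
import Mathlib.CategoryTheory.Sites.PreservesLocallyBijective

/-!
# Tate twists commute with restriction along étale morphisms
-/

set_option autoImplicit false
set_option backward.isDefEq.respectTransparency false
set_option backward.isDefEq.respectTransparency.types false

universe u

open CategoryTheory CategoryTheory.Limits AlgebraicGeometry Opposite

namespace Groth.Agent.H05EGA4.EtTateRes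

open Groth.Agent.H18Et
open Groth.Agent.H18Et.EtaleRestrict (emap res pullIso)
open scoped Groth.Agent.H18Et

variable {X' X : Scheme.{u}} (g : X' ⟶ X) [Etale g]

instance emap_isCocontinuous : (emap g).IsCocontinuous X'.smallEtaleTopology X.smallEtaleTopology := by
  refine ⟨fun {U} S hS => mem_topology_of_forall_point _ fun u => ?_⟩
  obtain ⟨W, h, w, hh, hw⟩ := Subterminal.exists_mem_of_cover hS u
  haveI : Etale W.hom := W.prop
  have hwh : h.left ≫ U.hom ≫ g = W.hom := Over.w h.hom
  haveI : Etale (h.left ≫ U.hom) := by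
    haveI : Etale ((h.left ≫ U.hom) ≫ g) := by rw [Category.assoc, hwh]; exact W.prop
    exact MorphismProperty.of_postcomp (W := @Etale) (W' := @Etale) _ g ‹_› ‹_›
  let W' : X'.Etale := Scheme.Etale.mk (h.left ≫ U.hom)
  let h' : W' ⟶ U := MorphismProperty.Over.homMk h.left rfl trivial
  refine ⟨W', h', w, ?_, hw⟩
  let e : (emap g).obj W' ⟶ W := MorphismProperty.Over.homMk (𝟙 W.left) (by
    show 𝟙 _ ≫ W.hom = (h.left ≫ U.hom) ≫ g
    rw [Category.id_comp, Category.assoc, hwh]) trivial
  have he : (emap g).map h' = e ≫ h :=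
    MorphismProperty.Over.Hom.ext (show h.left = 𝟙 _ ≫ h.left from (Category.id_comp _).symm)
  show S.arrows ((emap g).map h')
  rw [he]
  exact S.downward_closed hh e

/-- Restriction commutes with tensor products. -/
theorem nonempty_res_tensor (F G : EtCoh.Ab X) :
    Nonempty ((res g).obj (EtDual.tensorAb F G) ≅ EtDual.tensorAb ((res g).obj F) ((res g).obj G)) := by
  let η := toSheafify X.smallEtaleTopology (EtDual.tensorPre F G)
  haveI : Presheaf.IsLocallyInjective X.smallEtaleTopology η := inferInstance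
  haveI : Presheaf.IsLocallySurjective X.smallEtaleTopology η := inferInstance
  let P := EtDual.tensorPre ((res g).obj F) ((res g).obj G)
  let ψ : P ⟶ ((res g).obj (EtDual.tensorAb F G)).obj :=
    (NatIso.ofComponents (fun U => Iso.refl _) (fun f => by
      refine EtTens.hom_ext_tmul fun m n => ?_
      rfl) : P ≅ (emap g).op ⋙ EtDual.tensorPre F G).hom ≫ Functor.whiskerLeft (emap g).op η
  haveI : Presheaf.IsLocallyInjective X'.smallEtaleTopology (Functor.whiskerLeft (emap g).op η) :=
    Presheaf.isLocallyInjective_whisker _ X.smallEtaleTopology _ _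
  haveI : Presheaf.IsLocallySurjective X'.smallEtaleTopology (Functor.whiskerLeft (emap g).op η) :=
    Presheaf.isLocallySurjective_whisker _ X.smallEtaleTopology _ _
  have hW : X'.smallEtaleTopology.W ψ := by
    rw [GrothendieckTopology.W_iff_isLocallyBijective]
    exact ⟨inferInstance, inferInstance⟩
  haveI : IsIso ((presheafToSheaf X'.smallEtaleTopology AddCommGrpCat.{u + 1}).map ψ) :=
    (X'.smallEtaleTopology.W_iff ψ).1 hW
  exact ⟨((asIso ((sheafificationAdjunction X'.smallEtaleTopology AddCommGrpCat.{u + 1}).counit.app _)).symm) ≪≫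
    (asIso ((presheafToSheaf X'.smallEtaleTopology AddCommGrpCat.{u + 1}).map ψ)).symm⟩

theorem nonempty_res_Gm : Nonempty ((res g).obj (EtCoh.Gm X) ≅ EtCoh.Gm X') :=
  ⟨(sheafToPresheaf _ _).preimageIso (NatIso.ofComponents (fun U => Iso.refl _) fun f => rfl)⟩

theorem nonempty_res_mu (n : ℕ) : Nonempty ((res g).obj (EtCoh.mu X n) ≅ EtCoh.mu X' n) := by
  haveI : PreservesFiniteLimits (res g) := by
    haveI := H18Et.pull_preservesFiniteLimits g
    exact preservesFiniteLimits_of_natIso (pullIso g)
  haveI : (res g).Additive := Functor.additive_of_preserves_binary_products _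
  let e := (nonempty_res_Gm g).some
  refine ⟨PreservesKernel.iso (res g) (EtCoh.powMap X n) ≪≫ kernel.mapIso _ _ e e ?_⟩
  simp only [EtCoh.powMap, Functor.map_nsmul, CategoryTheory.Functor.map_id, Preadditive.nsmul_comp,
    Preadditive.comp_nsmul, Category.comp_id, Category.id_comp]

theorem nonempty_res_const (n : ℕ) [NeZero n] :
    Nonempty ((res g).obj (EtCoh.const X (ZMod n)) ≅ EtCoh.const X' (ZMod n)) :=
  ⟨((pullIso g).app _).symm ≪≫
    (EtTate.nonempty_pull_iso_const (Scheme.Etale.mk g) (EtTate.isBasis_const (n := n) (Scheme.Etale.mk g))).some⟩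

theorem tensor_iso {A A' B B' : EtCoh.Ab X} (a : A ≅ A') (b : B ≅ B') :
    Nonempty (EtDual.tensorAb A B ≅ EtDual.tensorAb A' B') :=
  ⟨((EtTens.tensorBi.mapIso a).app B ≪≫ (EtTens.tensorBi.obj A').mapIso b :
    (EtTens.tensorBi.obj A).obj B ≅ (EtTens.tensorBi.obj A').obj B')⟩

theorem nonempty_pull_tate (n : ℕ) [NeZero n] :
    ∀ d, Nonempty ((EtCoh.pull g).obj (EtDual.tate X n d) ≅ EtDual.tate X' n d)
  | 0 => ⟨(pullIso g).app _ ≪≫ (nonempty_res_const g n).some⟩
  | d + 1 => ⟨(pullIso g).app _ ≪≫ (nonempty_res_tensor g _ _).some ≪≫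
      (tensor_iso (((pullIso g).app _).symm ≪≫ (nonempty_pull_tate n d).some) (nonempty_res_mu g n).some).some⟩

end Groth.Agent.H05EGA4.EtTateRes
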