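import Groth.Prelude.Def_EtDual
import Groth.Agent.H15Site.Shriek.TensorStalk
import Groth.Agent.H18Et.MuConst
import Groth.Agent.H18Et.RootCover

/-!
# Tate twists are etale locally isomorphic to the constant sheaf

`IsBasis n F V s`: the germs of the section `s` of `F` over `V` are `ℤ/n`-bases of all stalks over `V`.
-/

set_option autoImplicit false
set_option backward.isDefEq.respectTransparency false
set_option backward.isDefEq.respectTransparency.types false

universe u

open CategoryTheory CategoryTheory.Limits AlgebraicGeometry Opposite Polynomial TensorProduct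

namespace Groth.Agent.H05EGA4.EtTate

open Groth.Agent.H18Et
open scoped Groth.Agent.H18Et

variable {X : Scheme.{u}}

/-- The germs of `s` are `ℤ/n`-bases of the stalks over `V`. -/
def IsBasis (n : ℕ) (F : EtCoh.Ab X) (V : X.Etale) (s : EtCoh.sect F V) : Prop :=
  ∀ (Ω : Type u) [Field Ω] [IsSepClosed Ω] (ξ : Spec (CommRingCat.of Ω) ⟶ X)
    (y : (Scheme.pointSmallEtale ξ).fiber.obj V),
    Function.Bijective fun m : ZMod n => m.val • germ ξ F V y s

theorem nsmul_eq_zero {A : Type*} [AddCommGroup A] {n : ℕ} [NeZero n] {a : A}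
    (h : Function.Bijective fun m : ZMod n => m.val • a) : n • a = 0 := by
  have hc : Nat.card A = n := by rw [← Nat.card_eq_of_bijective _ h, Nat.card_zmod]
  rw [← hc]
  exact card_nsmul_eq_zero'

theorem bijective_tmul {A B : Type*} [AddCommGroup A] [AddCommGroup B] {n : ℕ} [NeZero n] {a : A} {b : B}
    (ha : Function.Bijective fun m : ZMod n => m.val • a)
    (hb : Function.Bijective fun m : ZMod n => m.val • b) :
    Function.Bijective fun m : ZMod n => m.val • (a ⊗ₜ[ℤ] b) := by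
  let f : ZMod n →+ A := ZMod.lift n ⟨zmultiplesHom A a, by simpa using nsmul_eq_zero ha⟩
  let g : ZMod n →+ B := ZMod.lift n ⟨zmultiplesHom B b, by simpa using nsmul_eq_zero hb⟩
  have hf : ∀ m : ZMod n, f m = m.val • a := fun m => by
    conv_lhs => rw [← ZMod.natCast_zmod_val m, ← Int.cast_natCast]
    exact (ZMod.lift_coe n _ _).trans (natCast_zsmul _ _)
  have hg : ∀ m : ZMod n, g m = m.val • b := fun m => by
    conv_lhs => rw [← ZMod.natCast_zmod_val m, ← Int.cast_natCast]
    exact (ZMod.lift_coe n _ _).trans (natCast_zsmul _ _)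
  let f' := AddEquiv.ofBijective f (by simpa [funext hf] using ha)
  let g' := AddEquiv.ofBijective g (by simpa [funext hg] using hb)
  let back : A ⊗[ℤ] B →ₗ[ℤ] ZMod n := TensorProduct.lift
    (LinearMap.mk₂ ℤ (fun x y => f'.symm x * g'.symm y) (fun x x' y => by rw [map_add, add_mul])
      (fun c x y => by rw [map_zsmul, smul_mul_assoc]) (fun x y y' => by rw [map_add, mul_add])
      (fun c x y => by rw [map_zsmul, mul_smul_comm]))
  have h1 : ∀ m : ZMod n, back (m.val • (a ⊗ₜ[ℤ] b)) = m := fun m => by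
    have ea : f'.symm a = 1 := f'.injective (by
      rw [AddEquiv.apply_symm_apply]
      show a = f 1
      rw [show (1 : ZMod n) = ((1 : ℤ) : ZMod n) by simp]
      exact ((ZMod.lift_coe n _ _).trans (one_zsmul _)).symm)
    have eb : g'.symm b = 1 := g'.injective (by
      rw [AddEquiv.apply_symm_apply]
      show b = g 1
      rw [show (1 : ZMod n) = ((1 : ℤ) : ZMod n) by simp]
      exact ((ZMod.lift_coe n _ _).trans (one_zsmul _)).symm)
    rw [map_nsmul, show back (a ⊗ₜ[ℤ] b) = f'.symm a * g'.symm b from rfl, ea, eb, mul_one, nsmul_one,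
      ZMod.natCast_zmod_val]
  refine ⟨fun m m' h => (h1 m).symm.trans ((congrArg back h).trans (h1 m')), fun z => ?_⟩
  refine ⟨back z, ?_⟩
  have hn : n • (a ⊗ₜ[ℤ] b) = 0 := by
    rw [← natCast_zsmul, smul_tmul', natCast_zsmul, nsmul_eq_zero ha, zero_tmul]
  induction z using TensorProduct.induction_on with
  | zero => simp
  | tmul p q =>
    obtain ⟨i, rfl⟩ := ha.2 p
    obtain ⟨k, rfl⟩ := hb.2 q
    have : (i.val • a) ⊗ₜ[ℤ] (k.val • b) = (i.val * k.val) • (a ⊗ₜ[ℤ] b) := by
      simp only [← natCast_zsmul, Nat.cast_mul, TensorProduct.tmul_smul, smul_tmul', smul_smul]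
      rw [mul_comm]
    simp only [this]
    rw [map_nsmul, show back (a ⊗ₜ[ℤ] b) = ((1 : ZMod n).val • (a ⊗ₜ[ℤ] b) |> back) from ?_, h1,
      nsmul_one, ZMod.val_natCast]
    · conv_rhs => rw [← Nat.mod_add_div (i.val * k.val) n, add_nsmul, mul_comm n, mul_nsmul', hn, nsmul_zero, add_zero]
    · by_cases h : n = 1
      · subst h; exact Subsingleton.elim _ _
      · haveI : Fact (1 < n) := ⟨by have := NeZero.ne n; omega⟩
        rw [ZMod.val_one, one_nsmul]
  | add p q hp hq =>
    simp only at hp hq ⊢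
    rw [map_add, ZMod.val_add]
    conv_rhs => rw [← hp, ← hq, ← add_nsmul, ← Nat.mod_add_div ((back p).val + (back q).val) n, add_nsmul,
      mul_comm n, mul_nsmul', hn, nsmul_zero, add_zero]

variable {n : ℕ}

theorem IsBasis.map {F : EtCoh.Ab X} {V : X.Etale} {s : EtCoh.sect F V} (h : IsBasis n F V s)
    {W : X.Etale} (g : W ⟶ V) : IsBasis n F W (F.obj.map g.op s) := fun Ω _ _ ξ y => by
  rw [show germ ξ F W y (F.obj.map g.op s) = germ ξ F V ((Scheme.pointSmallEtale ξ).fiber.map g y) s from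
    ConstSheaf.germ_map ξ F g y s]
  exact h Ω ξ _

theorem IsBasis.tensor [NeZero n] {F G : EtCoh.Ab X} {V : X.Etale} {s : EtCoh.sect F V} {t : EtCoh.sect G V}
    (hs : IsBasis n F V s) (ht : IsBasis n G V t) :
    IsBasis n (EtDual.tensorAb F G) V (H15Site.Shriek.TensorStalk.tsec F G s t) := fun Ω _ _ ξ y => by
  have h := (H15Site.Shriek.TensorStalk.bijective_psi ξ F G).comp
    (bijective_tmul (hs Ω ξ y) (ht Ω ξ y))
  refine (congrArg Function.Bijective (funext fun m => ?_)).mp h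
  refine (map_nsmul (H15Site.Shriek.TensorStalk.psi ξ F G) m.val _).trans ?_
  exact congrArg (m.val • ·) (H15Site.Shriek.TensorStalk.psi_tmul ξ F G y s t)

theorem isBasis_const [NeZero n] (V : X.Etale) :
    IsBasis n (EtCoh.const X (ZMod n)) V (ConstSheaf.rest _ V
      (ConstSheaf.unitTop (AddCommGrpCat.of (ULift.{u + 1} (ZMod n))) (ULift.up 1))) := fun Ω _ _ ξ y => by
  have h := ((ConstSheaf.isConstant_unitTop (AddCommGrpCat.of (ULift.{u + 1} (ZMod n)))) Ω ξ V y).comp
    Equiv.ulift.symm.bijective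
  refine (congrArg Function.Bijective (funext fun m => ?_)).mp h
  have hm : (ULift.up m : ULift.{u + 1} (ZMod n)) = m.val • ULift.up 1 :=
    (congrArg ULift.up (show m = m.val • (1 : ZMod n) by rw [nsmul_one, ZMod.natCast_zmod_val])).trans rfl
  simp only [Function.comp_apply, ConstSheaf.rest_unitTop]
  refine (congrArg (fun z => (germ ξ (EtCoh.const X (ZMod n)) V y).hom ((toSheafify X.smallEtaleTopology
    ((Functor.const X.Etaleᵒᵖ).obj (AddCommGrpCat.of (ULift.{u + 1} (ZMod n))))).app (op V) z)) hm).trans ?_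
  rw [map_nsmul, map_nsmul]

open MuConst (sec sec_injective sec_surjective map_sec nsmul_sec muι_injective nsmul_muι restrict_eq)

/-- A primitive root gives a basis of `μ_n`. -/
theorem exists_isBasis_mu [NeZero n] (hu : IsUnit (n : Γ(X, ⊤))) (V : X.Etale) (ζ : Γ(V.left, ⊤))
    (hζ : aeval ζ (cyclotomic n ℤ) = 0) : ∃ s, IsBasis n (EtCoh.mu X n) V s := by
  have hn : 1 ≤ n := NeZero.one_le
  let z : Γ(V.left, ⊤)ˣ := (IsUnit.of_pow_eq_one (MuConst.pow_eq_one hζ) (by omega)).unit
  have hz : z ^ n = 1 := Units.ext (by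
    rw [Units.val_pow_eq_pow_val, IsUnit.unit_spec, MuConst.pow_eq_one hζ, Units.val_one])
  let Ψ := sheafToPresheaf X.smallEtaleTopology AddCommGrpCat.{u + 1} ⋙ (evaluation _ _).obj (op V)
  haveI : ((sheafSections X.smallEtaleTopology AddCommGrpCat.{u + 1}).obj (op V)).Additive := ⟨rfl⟩
  have hΨ : (EtCoh.powMap X n).hom.app (op V) (sec z) = 0 := by
    have h : ((sheafSections X.smallEtaleTopology AddCommGrpCat.{u + 1}).obj (op V)).map (EtCoh.powMap X n) =
        n • 𝟙 _ := by
      rw [EtCoh.powMap, Functor.map_nsmul, CategoryTheory.Functor.map_id]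
    refine (ConcreteCategory.congr_hom h (sec z)).trans ?_
    change n • sec z = 0
    rw [nsmul_sec, hz]
    rfl
  let S : ShortComplex (EtCoh.Ab X) :=
    ShortComplex.mk (kernel.ι (EtCoh.powMap X n)) (EtCoh.powMap X n) (kernel.condition _)
  obtain ⟨s, hs⟩ := (ShortComplex.ab_exact_iff _).1
    ((ShortComplex.exact_of_f_is_kernel S (kernelIsKernel _)).map_of_mono_of_preservesKernel Ψ
      (inferInstanceAs (Mono (kernel.ι _))) inferInstance) (sec z) hΨ
  change (EtCoh.muι X n).hom.app (op V) s = sec z at hs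
  have hmap : ∀ {W : X.Etale} (g : W ⟶ V) (i : ℕ), (EtCoh.muι X n).hom.app (op W)
      ((EtCoh.mu X n).obj.map g.op (i • s)) = sec (Units.map g.left.appTop.hom.toMonoidHom z ^ i) := by
    intro W g i
    rw [map_nsmul, map_nsmul, NatTrans.naturality_apply, hs, map_sec, nsmul_sec]
  refine ⟨s, fun Ω _ _ ξ y => ⟨fun m m' e => ?_, fun p => ?_⟩⟩
  · simp only [← map_nsmul] at e
    obtain ⟨W, g, w, -, e'⟩ := (germ_eq_iff ξ _ V y _ _).1 e
    have e'' := congrArg ((EtCoh.muι X n).hom.app (op W)) e'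
    rw [hmap, hmap] at e''
    let f := (W.left.evaluation ⊤ (ptOf w) trivial).hom.comp g.left.appTop.hom
    have e3 : (f ζ) ^ m.val = (f ζ) ^ m'.val := by
      have := congrArg (fun v => (W.left.evaluation ⊤ (ptOf w) trivial).hom v.val) (sec_injective e'')
      simpa [Units.val_pow_eq_pow_val, map_pow, f, z] using this
    have hu' : IsUnit (n : Γ(V.left, ⊤)) := map_natCast V.hom.appTop.hom n ▸ hu.map V.hom.appTop.hom
    exact ZMod.val_injective n
      ((MuConst.isPrimitiveRoot_map f hu' hζ).pow_inj (ZMod.val_lt _) (ZMod.val_lt _) e3)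
  · obtain ⟨W₀, y₀, t₀, rfl⟩ := germ_surjective ξ _ p
    obtain ⟨W, w, a, b, ha, hb⟩ := H15Site.Shriek.TensorStalk.exists_cone ξ y₀ y
    let t := (EtCoh.mu X n).obj.map a.op t₀
    obtain ⟨v, hv⟩ := sec_surjective ((EtCoh.muι X n).hom.app (op W) t)
    have hvn : v ^ n = 1 := sec_injective (U := W) (by
      rw [← nsmul_sec, hv, nsmul_muι]
      rfl)
    let r := b.left.appTop.hom
    let γ := (W.left.presheaf.germ ⊤ (ptOf w) trivial).hom
    have hu' : IsUnit (n : Γ(W.left, ⊤)) := map_natCast W.hom.appTop.hom n ▸ hu.map W.hom.appTop.hom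
    obtain ⟨i, hi, e⟩ := MuConst.exists_eq_pow_of_isLocalRing (ζ := γ (r ζ)) hn
      (by simpa using hu'.map γ)
      (by simpa using (MuConst.map_aeval (γ.comp r) hζ))
      (show γ v.val ^ n = 1 by rw [← map_pow, ← Units.val_pow_eq_pow_val, hvn, Units.val_one, map_one])
    rw [← map_pow, ← map_pow] at e
    obtain ⟨O, hO, i₁, i₂, hO'⟩ := W.left.presheaf.germ_eq (U := ⊤) (V := ⊤) (ptOf w) trivial trivial _ _ e
    haveI : Etale W.hom := W.prop
    let W₁ : X.Etale := MorphismProperty.Over.mk ⊤ (Scheme.Opens.ι O ≫ W.hom) (inferInstanceAs (Etale _))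
    let g₁ : W₁ ⟶ W := MorphismProperty.Over.homMk (Scheme.Opens.ι O) rfl trivial
    obtain ⟨w₁, hw₁⟩ := exists_fiber_lift g₁ w (⟨ptOf w, hO⟩ : (Scheme.Opens.toScheme O)) rfl
    refine ⟨(i : ZMod n), ?_⟩
    have hval : (i : ZMod n).val = i := ZMod.val_natCast_of_lt hi
    have hs₁ : (EtCoh.mu X n).obj.map g₁.op t = (EtCoh.mu X n).obj.map (g₁ ≫ b).op (i • s) := by
      refine muι_injective n W₁ ?_
      rw [hmap, NatTrans.naturality_apply, ← hv, map_sec]
      refine congrArg sec (Units.ext ?_)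
      rw [Units.val_pow_eq_pow_val]
      change g₁.left.appTop v.val = ((g₁.left ≫ b.left).appTop ζ) ^ i
      rw [Scheme.Hom.comp_appTop, CommRingCat.comp_apply, ← map_pow]
      refine (restrict_eq O i₁ i₂ ?_).symm
      rw [map_pow r] at hO'
      exact hO'
    have hgoal := congrArg (germ ξ (EtCoh.mu X n) W₁ w₁) hs₁
    rw [ConstSheaf.germ_map, hw₁, ConstSheaf.germ_map, ha, ConstSheaf.germ_map, Functor.map_comp,
      ConcreteCategory.comp_apply, hw₁, hb] at hgoal
    dsimp only
    rw [hval, ← map_nsmul]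
    exact hgoal.symm

theorem exists_cover_mu [NeZero n] (hu : IsUnit (n : Γ(X, ⊤))) (x : X) :
    ∃ (V : X.Etale) (v : V.left) (s : EtCoh.sect (EtCoh.mu X n) V),
      V.hom.base v = x ∧ IsBasis n (EtCoh.mu X n) V s := by
  let P : Polynomial Γ((EtCoh.top X).left, ⊤) := cyclotomic n _
  have hsep : P.Separable := (Polynomial.separable_X_pow_sub_C_unit 1 hu).of_dvd (by
    rw [Units.val_one, map_one]
    exact cyclotomic.dvd_X_pow_sub_one n _)
  have hd : 0 < P.natDegree := by
    haveI : Nontrivial Γ((EtCoh.top X).left, ⊤) := by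
      haveI : Nonempty (⊤ : X.Opens) := ⟨⟨x, trivial⟩⟩
      exact inferInstanceAs (Nontrivial Γ(X, ⊤))
    rw [natDegree_cyclotomic]
    exact Nat.totient_pos.2 (NeZero.pos n)
  obtain ⟨V, g, v, t, hv, ht⟩ := RootCover.exists_root_nbhd (EtCoh.top X) x P (cyclotomic.monic n _) hsep hd
  have ht' : aeval t (cyclotomic n ℤ) = 0 := by
    rw [map_cyclotomic] at ht
    rwa [← map_cyclotomic_int n Γ(V.left, ⊤), Polynomial.eval_map] at ht
  obtain ⟨s, hs⟩ := exists_isBasis_mu hu V t ht'
  refine ⟨V, v, s, ?_, hs⟩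
  have hw : g.left ≫ 𝟙 X = V.hom := Over.w g.hom
  exact (congrArg (fun t : V.left ⟶ X => t.base v) (hw.symm.trans (Category.comp_id _))).trans hv

theorem exists_isBasis_tate [NeZero n] {V : X.Etale} {s : EtCoh.sect (EtCoh.mu X n) V}
    (hs : IsBasis n (EtCoh.mu X n) V s) : ∀ d : ℕ, ∃ t, IsBasis n (EtDual.tate X n d) V t
  | 0 => ⟨_, isBasis_const V⟩
  | d + 1 => ⟨_, (exists_isBasis_tate hs d).choose_spec.tensor hs⟩

theorem isConstant_pullSecAt {Y : Scheme.{u}} (f : X ⟶ Y) (W : Y.Etale) (δ : EtCoh.top X ⟶ (EtCoh.bc f).obj W)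
    {G : EtCoh.Ab Y} [NeZero n] {s : EtCoh.sect G W} (h : IsBasis n G W s) :
    ConstSheaf.IsConstant ((EtCoh.pull f).obj G) fun m : ULift.{u + 1} (ZMod n) => m.down.val •
      ((EtCoh.pull f).obj G).obj.map δ.op (((EtCoh.pullPushAdj f).unit.app G).hom.app (op W) s) := by
  intro Ω _ _ ξ U x
  let x₀ := (Scheme.pointSmallEtale ξ).fiber.map ((EtCore.topIsTerminal X).from U) x
  let z := (fiberCompIso f ξ).hom.app W ((Scheme.pointSmallEtale ξ).fiber.map δ x₀)
  have h2 := ((ConcreteCategory.bijective_of_isIso ((stalkPullIso f ξ).inv.app G)).comp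
    (h Ω (ξ ≫ f) z)).comp Equiv.ulift.bijective
  refine (congrArg Function.Bijective (funext fun m => ?_)).mp h2
  simp only [Function.comp_apply]
  rw [ConstSheaf.germ_rest, map_nsmul, map_nsmul, stalkPullIso_inv_germ f ξ G W z s]
  refine congrArg (m.down.val • ·) ?_
  refine Eq.trans ?_ (ConstSheaf.germ_map ξ ((EtCoh.pull f).obj G) δ x₀ _).symm
  exact congrArg (fun w => germ ξ ((EtCoh.pull f).obj G) _ w
    (((EtCoh.pullPushAdj f).unit.app G).hom.app (op W) s))
    (ConcreteCategory.congr_hom ((fiberCompIso f ξ).hom_inv_id_app W) _)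

/-- A basis trivialises the inverse image. -/
theorem nonempty_pull_iso_const [NeZero n] {F : EtCoh.Ab X} (V : X.Etale) {s : EtCoh.sect F V}
    (h : IsBasis n F V s) : Nonempty ((EtCoh.pull V.hom).obj F ≅ EtCoh.const V.left (ZMod n)) := by
  let δ : EtCoh.top V.left ⟶ (EtCoh.bc V.hom).obj V :=
    MorphismProperty.Over.homMk (pullback.lift (𝟙 _) (𝟙 _) rfl) (pullback.lift_snd _ _ _) trivial
  let s₀ := ((EtCoh.pull V.hom).obj F).obj.map δ.op (((EtCoh.pullPushAdj V.hom).unit.app F).hom.app (op V) s)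
  have hns : n • s = 0 := sect_ext _ _ fun Ω _ _ ξ y => by
    rw [map_nsmul, map_zero]
    exact nsmul_eq_zero (h Ω ξ y)
  have hn : n • s₀ = 0 := by
    exact (map_nsmul _ n _).symm.trans ((congrArg _ ((map_nsmul _ n _).symm.trans
      ((congrArg _ hns).trans (map_zero _)))).trans (map_zero _))
  let L : {g : ℤ →+ ((EtCoh.pull V.hom).obj F).obj.obj (op (EtCoh.top V.left)) // g n = 0} :=
    ⟨zmultiplesHom _ s₀, by simpa using hn⟩
  let φ : AddCommGrpCat.of (ULift.{u + 1} (ZMod n)) ⟶ ((EtCoh.pull V.hom).obj F).obj.obj (op (EtCoh.top V.left)) :=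
    AddCommGrpCat.ofHom ((ZMod.lift n L).comp
      AddEquiv.ulift.toAddMonoidHom)
  have hφ : ∀ m : ULift.{u + 1} (ZMod n), φ m = m.down.val • s₀ := fun m => by
    obtain ⟨k⟩ := m
    change ZMod.lift n L k = k.val • s₀
    refine (congrArg (ZMod.lift n L) ((ZMod.natCast_zmod_val k).symm.trans (Int.cast_natCast k.val).symm)).trans ?_
    exact (ZMod.lift_coe n _ _).trans (natCast_zsmul _ _)
  haveI := ConstSheaf.isIso_homConst _ φ (by
    exact (congrArg (ConstSheaf.IsConstant _) (funext hφ)).mpr (isConstant_pullSecAt V.hom V δ h))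
  exact ⟨(asIso (ConstSheaf.homConst _ φ)).symm⟩

/-- The twist `ℤ/n(d)` and `ℤ/n` are isomorphic after restriction to a covering. -/
theorem exists_cover_tate [NeZero n] (hu : IsUnit (n : Γ(X, ⊤))) (d : ℕ) :
    ∃ (ι : Type u) (V : ι → X.Etale), EtCoh.Covers V ∧ ∀ i, Nonempty
      ((EtCoh.pull (V i).hom).obj (EtDual.tate X n d) ≅ (EtCoh.pull (V i).hom).obj (EtCoh.const X (ZMod n))) := by
  choose V v s hv hs using exists_cover_mu (n := n) hu
  refine ⟨X, V, fun x => ⟨x, v x, hv x⟩, fun x => ?_⟩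
  obtain ⟨t, ht⟩ := exists_isBasis_tate (hs x) d
  exact ⟨(nonempty_pull_iso_const (V x) ht).some ≪≫
    (nonempty_pull_iso_const (V x) (isBasis_const (n := n) (V x))).some.symm⟩

end Groth.Agent.H05EGA4.EtTate
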