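import Mathlib
import Groth.Prelude.Def_FDesc
import Groth.Prelude.Def_CAlg2
import Groth.Agent.S8871
import Groth.Agent.H29Blow.WeakAss
import Groth.Agent.S9782

/-!
Scheme-theoretic images of flat quasi-compact morphisms into schemes with geometrically unibranch local rings and no
embedded points are open and closed (helper5).
-/

set_option autoImplicit false
set_option linter.style.haveILetI false
set_option maxHeartbeats 800000
universe u v w
open Groth.Agent CategoryTheory CategoryTheory.Limits AlgebraicGeometry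

namespace Groth.Agent.H05EGA4.SchImageClopen

section algebra

variable {B : Type u} [CommRing B] [IsNoetherianRing B]

/-- If the zero divisors at `q` all lie in the minimal prime `p`, an element killed outside `p` is killed outside `q`. -/
theorem exists_notMem_mul_eq_zero (hass : ∀ q' ∈ associatedPrimes B B, q' ∈ minimalPrimes B)
    {q : Ideal B} [q.IsPrime] {p : Ideal B} (huniq : ∀ p' ∈ minimalPrimes B, p' ≤ q → p' = p)
    {x s : B} (hs : s ∉ p) (hsx : s * x = 0) : ∃ t ∉ q, t * x = 0 := by
  by_contra! h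
  have hx0 : algebraMap B (Localization.AtPrime q) x ≠ 0 := fun h0 => by
    obtain ⟨t, ht⟩ := (IsLocalization.map_eq_zero_iff q.primeCompl _ x).mp h0
    exact h t.1 t.2 ht
  haveI : IsNoetherianRing (Localization.AtPrime q) := IsLocalization.isNoetherianRing q.primeCompl _ inferInstance
  obtain ⟨P, hP, hle⟩ := exists_le_isAssociatedPrime_of_isNoetherianRing (Localization.AtPrime q) _ hx0
  haveI := hP.isPrime
  have hc := Module.associatedPrimes.comap_mem_associatedPrimes_of_mem_associatedPrimes_of_isLocalizedModule_of_fg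
    (R' := Localization.AtPrime q) q.primeCompl (Algebra.linearMap B (Localization.AtPrime q)) P hP
    (IsNoetherian.noetherian _)
  have hcq : P.comap (algebraMap B (Localization.AtPrime q)) ≤ q :=
    (Ideal.comap_mono (IsLocalRing.le_maximalIdeal hP.isPrime.ne_top)).trans
      (IsLocalization.AtPrime.under_maximalIdeal (Localization.AtPrime q) q).le
  have hmem : algebraMap B (Localization.AtPrime q) s ∈ P := hle (by
    rw [Submodule.mem_colon_singleton, Submodule.mem_bot, smul_eq_mul, ← map_mul, hsx, map_zero])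
  exact hs (huniq _ (hass _ hc) hcq ▸ hmem)

variable {ι : Type w} (C : ι → Type v) [∀ i, CommRing (C i)] [∀ i, Algebra B (C i)] [∀ i, Module.Flat B (C i)]

/-- If `x` kills a flat algebra then so does the unit of `(0 : x) • C`. -/
theorem one_mem_ann_smul (x : B) (i : ι) (hx : algebraMap B (C i) x = 0) :
    (1 : C i) ∈ ((⊥ : Submodule B B).colon {x}).map (algebraMap B (C i)) := by
  obtain ⟨k, a, y, h1, h2⟩ := Module.Flat.isTrivialRelation_of_sum_smul_eq_zero (R := B)
    (f := fun _ : Fin 1 => x) (x := fun _ => (1 : C i)) (by simp [Algebra.smul_def, hx])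
  rw [show (1 : C i) = _ from h1 0]
  refine Ideal.sum_mem _ fun j _ => ?_
  rw [Algebra.smul_def]
  refine Ideal.mul_mem_right _ _ (Ideal.mem_map_of_mem _ ?_)
  rw [Submodule.mem_colon_singleton, Submodule.mem_bot, smul_eq_mul, mul_comm]
  simpa using h2 j

/-- The joint kernel of flat algebras over a ring with no embedded primes and locally irreducible spectrum is
generated by an idempotent. -/
theorem exists_idem (hass : ∀ q' ∈ associatedPrimes B B, q' ∈ minimalPrimes B)
    (huniq : ∀ (q : Ideal B) [q.IsPrime], ∀ p ∈ minimalPrimes B, ∀ p' ∈ minimalPrimes B, p ≤ q → p' ≤ q → p = p')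
    (K : Ideal B) (hK : ∀ x, x ∈ K ↔ ∀ i, algebraMap B (C i) x = 0) :
    ∃ e, IsIdempotentElem e ∧ K = Ideal.span {e} := by
  suffices hKK : K ≤ K * K by
    exact (Ideal.isIdempotentElem_iff_of_fg K (IsNoetherian.noetherian K)).mp
      (le_antisymm Ideal.mul_le_right hKK)
  intro x hx
  have htop : Submodule.colon (K * K) {x} = (⊤ : Ideal B) := by
    by_contra hne
    obtain ⟨q, hq, hle⟩ := Ideal.exists_le_maximal _ hne
    haveI := hq.isPrime
    suffices ∃ t ∉ q, t * x ∈ K * K by
      obtain ⟨t, ht, htx⟩ := this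
      exact ht (hle (Submodule.mem_colon_singleton.mpr htx))
    obtain ⟨p, hp, hpq⟩ := Ideal.exists_minimalPrimes_le (bot_le : (⊥ : Ideal B) ≤ q)
    haveI := hp.1.1
    have hu : ∀ p' ∈ minimalPrimes B, p' ≤ q → p' = p := fun p' hp' hle' => huniq q p' hp' p hp hle' hpq
    by_cases hKp : K ≤ p
    · by_cases hxa : (⊥ : Submodule B B).colon {x} ≤ p
      · -- then `p` generates the unit ideal in every `C i`
        exfalso
        obtain ⟨n, hn⟩ : ∃ n, ((p.map (algebraMap B (Localization.AtPrime p))) ^ n) = ⊥ := by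
          haveI : IsNoetherianRing (Localization.AtPrime p) := IsLocalization.isNoetherianRing p.primeCompl _ inferInstance
          rw [IsLocalization.AtPrime.map_eq_maximalIdeal p (Localization.AtPrime p)]
          haveI : Ring.KrullDimLE 0 (Localization.AtPrime p) := Ideal.height_eq_zero_iff.mpr hp |> fun h => by
            rw [Ring.krullDimLE_iff, IsLocalization.AtPrime.ringKrullDim_eq_height p, h]
            simp
          haveI : IsArtinianRing (Localization.AtPrime p) := isArtinianRing_iff_krullDimLE_zero.mpr inferInstance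
          rw [← IsLocalRing.jacobson_eq_maximalIdeal (⊥ : Ideal (Localization.AtPrime p)) bot_ne_top]
          exact IsArtinianRing.isNilpotent_jacobson_bot
        rw [← Ideal.map_pow] at hn
        obtain ⟨gens, hgens⟩ := (IsNoetherian.noetherian (p ^ n) : (p ^ n).FG)
        have key : ∀ b ∈ (gens : Set B), ∃ t : p.primeCompl, (t : B) * b = 0 := fun b hb => by
          have hb' : algebraMap B (Localization.AtPrime p) b = 0 := by
            rw [← Ideal.mem_bot, ← hn]
            exact Ideal.mem_map_of_mem _ (hgens ▸ Ideal.subset_span hb)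
          exact (IsLocalization.map_eq_zero_iff p.primeCompl _ b).mp hb'
        classical
        choose t ht using fun b : (gens : Set B) => key b b.2
        let T : p.primeCompl := ∏ b, t b
        have hT : ∀ b ∈ p ^ n, (T : B) * b = 0 := fun b hb => by
          rw [← hgens] at hb
          induction hb using Submodule.span_induction with
          | mem z hz =>
            obtain ⟨w, hw⟩ : (t ⟨z, hz⟩ : B) ∣ (T : B) := by
              simp only [T, Submonoid.coe_finsetProd]
              exact Finset.dvd_prod_of_mem _ (Finset.mem_univ _)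
            rw [hw, mul_right_comm, ht ⟨z, hz⟩, zero_mul]
          | zero => simp
          | add a b _ _ ha hb => rw [mul_add, ha, hb, add_zero]
          | smul c a _ ha => rw [smul_eq_mul, mul_left_comm, ha, mul_zero]
        refine T.2 (hKp ((hK T.1).mpr fun i => ?_))
        have h1 : (1 : C i) ∈ p.map (algebraMap B (C i)) :=
          Ideal.map_mono hxa (one_mem_ann_smul C x i ((hK x).mp hx i))
        have h2 : (p ^ n).map (algebraMap B (C i)) = ⊤ := by
          rw [Ideal.map_pow, (Ideal.eq_top_iff_one _).mpr h1, Ideal.top_pow]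
        have h3 : Ideal.map (algebraMap B (C i)) (Ideal.span {(T : B)} * p ^ n) = Ideal.span {algebraMap B (C i) T} := by
          rw [Ideal.map_mul, h2, Ideal.mul_top, Ideal.map_span, Set.image_singleton]
        have h4 : Ideal.span {(T : B)} * p ^ n = ⊥ := by
          rw [eq_bot_iff, Ideal.mul_le]
          intro r hr b hb
          obtain ⟨c, rfl⟩ := Ideal.mem_span_singleton'.mp hr
          rw [Ideal.mem_bot, mul_assoc, hT b hb, mul_zero]
        rw [h4, Ideal.map_bot, eq_comm, Ideal.span_singleton_eq_bot] at h3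
        exact h3
      · obtain ⟨s, hsx, hsp⟩ := SetLike.not_le_iff_exists.mp hxa
        rw [Submodule.mem_colon_singleton, Submodule.mem_bot, smul_eq_mul] at hsx
        obtain ⟨t, ht, htx⟩ := exists_notMem_mul_eq_zero hass hu hsp hsx
        exact ⟨t, ht, htx ▸ zero_mem _⟩
    · obtain ⟨s, hsK, hsp⟩ := SetLike.not_le_iff_exists.mp hKp
      classical
      obtain ⟨gens, hgens⟩ := (IsNoetherian.noetherian ((⊥ : Submodule B B).colon {s}) : Submodule.FG _)
      have key : ∀ b ∈ (gens : Set B), ∃ t : q.primeCompl, (t : B) * b = 0 := fun b hb => by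
        have hb' : b * s = 0 := by
          have : b ∈ (⊥ : Submodule B B).colon {s} := hgens ▸ Submodule.subset_span hb
          simpa [Submodule.mem_colon_singleton] using this
        obtain ⟨t, ht, htb⟩ := exists_notMem_mul_eq_zero hass hu hsp (x := b) (by rw [mul_comm]; exact hb')
        exact ⟨⟨t, ht⟩, htb⟩
      choose t ht using fun b : (gens : Set B) => key b b.2
      let T : q.primeCompl := ∏ b, t b
      have hT : ∀ b ∈ (⊥ : Submodule B B).colon {s}, (T : B) * b = 0 := fun b hb => by
        rw [← hgens] at hb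
        induction hb using Submodule.span_induction with
        | mem z hz =>
          obtain ⟨w, hw⟩ : (t ⟨z, hz⟩ : B) ∣ (T : B) := by
            simp only [T, Submonoid.coe_finsetProd]
            exact Finset.dvd_prod_of_mem _ (Finset.mem_univ _)
          rw [hw, mul_right_comm, ht ⟨z, hz⟩, zero_mul]
        | zero => simp
        | add a b _ _ ha hb => rw [mul_add, ha, hb, add_zero]
        | smul c a _ ha => rw [smul_eq_mul, mul_left_comm, ha, mul_zero]
      refine ⟨T, T.2, Ideal.mul_mem_mul ((hK T.1).mpr fun i => ?_) hx⟩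
      have h3 : Ideal.map (algebraMap B (C i)) (Ideal.span {(T : B)} * (⊥ : Submodule B B).colon {s}) =
          Ideal.span {algebraMap B (C i) T} := by
        rw [Ideal.map_mul, (Ideal.eq_top_iff_one _).mpr (one_mem_ann_smul C s i ((hK s).mp hsK i)), Ideal.mul_top,
          Ideal.map_span, Set.image_singleton]
      have h4 : Ideal.span {(T : B)} * (⊥ : Submodule B B).colon {s} = ⊥ := by
        rw [eq_bot_iff, Ideal.mul_le]
        intro r hr b hb
        obtain ⟨c, rfl⟩ := Ideal.mem_span_singleton'.mp hr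
        rw [Ideal.mem_bot, mul_assoc, hT b hb, mul_zero]
      rw [h4, Ideal.map_bot, eq_comm, Ideal.span_singleton_eq_bot] at h3
      exact h3
  have h1 := (Ideal.eq_top_iff_one _).mp htop
  rwa [Submodule.mem_colon_singleton, one_smul] at h1

end algebra

section scheme

/-- Associated primes on affine opens of a scheme without embedded points are minimal. -/
theorem mem_minimalPrimes_of_noEmbedded {X : Scheme.{u}} [IsLocallyNoetherian X]
    (h : AssSch.NoEmbedded (Coh.structureModule X)) {V : X.Opens} (hV : IsAffineOpen V)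
    (q : Ideal Γ(X, V)) (hq : q ∈ associatedPrimes Γ(X, V) Γ(X, V)) : q ∈ minimalPrimes Γ(X, V) := by
  haveI : IsNoetherianRing Γ(X, V) := IsLocallyNoetherian.component_noetherian ⟨V, hV⟩
  haveI := hq.isPrime
  obtain ⟨r, hr, hrq⟩ := Ideal.exists_minimalPrimes_le (bot_le : (⊥ : Ideal Γ(X, V)) ≤ q)
  haveI := hr.1.1
  have hra : r ∈ associatedPrimes Γ(X, V) Γ(X, V) := by
    refine Module.associatedPrimes.minimalPrimes_annihilator_subset_associatedPrimes _ _ ?_
    rw [Module.annihilator_eq_bot.mpr inferInstance]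
    exact hr
  have hQ : Coh.IsQCoh (Coh.structureModule X) := H29Blow.isQCoh_structureModule _
  obtain ⟨z, hz⟩ := H29Blow.exists_primeIdealOf_eq hV ⟨q, inferInstance⟩
  obtain ⟨w, hw⟩ := H29Blow.exists_primeIdealOf_eq hV ⟨r, inferInstance⟩
  have hzA : z.1 ∈ AssSch.Ass (Coh.structureModule X) :=
    (S8871.isAssPoint_iff _ hQ hV z).mpr (by rw [hz]; exact hq)
  have hwA : w.1 ∈ AssSch.Ass (Coh.structureModule X) :=
    (S8871.isAssPoint_iff _ hQ hV w).mpr (by rw [hw]; exact hra)
  have hwz : w.1 ⤳ z.1 := (H29Blow.primeIdealOf_le_iff hV w z).mp (by rw [hz, hw]; exact hrq)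
  obtain rfl : z = w := Subtype.ext (h _ hzA _ hwA hwz)
  obtain rfl : q = r := by simpa using congrArg PrimeSpectrum.asIdeal (hz.symm.trans hw)
  exact hr

/-- An étale scheme over a scheme without embedded points has no embedded points. -/
theorem noEmbedded_of_etale {P S : Scheme.{u}} [IsLocallyNoetherian S] [IsLocallyNoetherian P] (h : P ⟶ S) [Etale h]
    (hS : AssSch.NoEmbedded (Coh.structureModule S)) : AssSch.NoEmbedded (Coh.structureModule P) := by
  intro x hx y hy hyx
  have hQ : Coh.IsQCoh (Coh.structureModule P) := H29Blow.isQCoh_structureModule _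
  obtain ⟨U, hU, hxU, -⟩ := exists_isAffineOpen_mem_and_subset (X := S) (x := h.base x) (U := ⊤) trivial
  obtain ⟨V, hV, hxV, hVU⟩ := exists_isAffineOpen_mem_and_subset (X := P) (x := x) (U := h ⁻¹ᵁ U) hxU
  have hyV : y ∈ V := hyx.mem_open V.2 hxV
  haveI : IsNoetherianRing Γ(S, U) := IsLocallyNoetherian.component_noetherian ⟨U, hU⟩
  haveI : IsNoetherianRing Γ(P, V) := IsLocallyNoetherian.component_noetherian ⟨V, hV⟩
  have het := HasRingHomProperty.appLE @Etale h ‹_› ⟨U, hU⟩ ⟨V, hV⟩ hVU
  algebraize [(h.appLE U V hVU).hom]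
  have hxa := (S8871.isAssPoint_iff _ hQ hV ⟨x, hxV⟩).mp hx
  have hle := (H29Blow.primeIdealOf_le_iff hV ⟨y, hyV⟩ ⟨x, hxV⟩).mpr hyx
  -- the contraction of an associated prime is minimal
  have hmin : (hV.primeIdealOf ⟨x, hxV⟩).asIdeal.under Γ(S, U) ∈ minimalPrimes Γ(S, U) := by
    have hsub : ((hV.primeIdealOf ⟨x, hxV⟩).asIdeal.under Γ(S, U) : Set Γ(S, U)) ⊆
        ⋃ p ∈ associatedPrimes Γ(S, U) Γ(S, U), (p : Set Γ(S, U)) := by
      rw [biUnion_associatedPrimes_eq_compl_nonZeroDivisors]
      intro a ha ha0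
      have hnzd : IsSMulRegular Γ(P, V) a := Module.Flat.isSMulRegular_of_isRegular
        (isRegular_iff_mem_nonZeroDivisors.mpr ha0)
      obtain ⟨-, m, hm⟩ := isAssociatedPrime_iff.mp hxa
      have h1 : algebraMap Γ(S, U) Γ(P, V) a • m = 0 := by
        have h0 := hm ▸ ha
        simpa [Ideal.mem_comap, Submodule.mem_colon_singleton] using h0
      have hm0 : m = 0 := hnzd.right_eq_zero_of_smul (by rwa [Algebra.smul_def, ← smul_eq_mul])
      apply (hV.primeIdealOf ⟨x, hxV⟩).2.ne_top
      rw [hm, hm0]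
      simp
    obtain ⟨p, hp, hple⟩ := (Ideal.subset_union_prime_finite (associatedPrimes.finite Γ(S, U) Γ(S, U)) ⊤ ⊤
      (f := fun p : Ideal Γ(S, U) => p) (fun p hp _ _ => hp.isPrime)).mp hsub
    have hpm := mem_minimalPrimes_of_noEmbedded hS hU p hp
    have heq : (hV.primeIdealOf ⟨x, hxV⟩).asIdeal.under Γ(S, U) = p :=
      le_antisymm hple (hpm.2 ⟨inferInstance, bot_le⟩ hple)
    exact heq ▸ hpm
  have heq : (hV.primeIdealOf ⟨y, hyV⟩).asIdeal = (hV.primeIdealOf ⟨x, hxV⟩).asIdeal :=
    Algebra.QuasiFinite.eq_of_le_of_under_eq (R := Γ(S, U)) _ _ hle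
      (le_antisymm (Ideal.comap_mono hle) (hmin.2 ⟨inferInstance, bot_le⟩ (Ideal.comap_mono hle)))
  exact (hV.fromSpec_primeIdealOf ⟨x, hxV⟩).symm.trans
    ((congrArg _ (PrimeSpectrum.ext heq.symm)).trans (hV.fromSpec_primeIdealOf ⟨y, hyV⟩))

/-- On an affine scheme étale over a geometrically unibranch scheme each prime contains one minimal prime. -/
theorem minimalPrimes_unique {B : Type u} [CommRing B] {S : Scheme.{u}} (g : Spec (CommRingCat.of B) ⟶ S) [Etale g]
    (hS : ∀ s : S, CAlg2.IsGeomUnibranch (S.presheaf.stalk s))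
    (q : Ideal B) [q.IsPrime] (p : Ideal B) (hp : p ∈ minimalPrimes B) (p' : Ideal B) (hp' : p' ∈ minimalPrimes B)
    (h : p ≤ q) (h' : p' ≤ q) : p = p' := by
  have h1 := (Groth.Agent.S9782.result S _).mp (hS (g.base ⟨q, inferInstance⟩)) _ g ⟨q, inferInstance⟩ inferInstance rfl
  obtain ⟨Z, hZ⟩ := Set.encard_eq_one.mp h1
  haveI := hp.1.1
  haveI := hp'.1.1
  have key : ∀ r : Ideal B, r.IsPrime → r ∈ minimalPrimes B → r ≤ q → PrimeSpectrum.zeroLocus (r : Set B) = Z :=
    fun r hr hrm hrq => hZ.subset ⟨PrimeSpectrum.zeroLocus_ideal_mem_irreducibleComponents.mpr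
      (by rwa [hr.radical]), hrq⟩
  have h2 := congrArg PrimeSpectrum.vanishingIdeal
    ((key p inferInstance hp h).trans (key p' inferInstance hp' h').symm)
  rwa [PrimeSpectrum.vanishingIdeal_zeroLocus_eq_radical, PrimeSpectrum.vanishingIdeal_zeroLocus_eq_radical,
    Ideal.IsPrime.radical inferInstance, Ideal.IsPrime.radical inferInstance] at h2

/-- A morphism over the base from a flat scheme to an étale scheme is flat. -/
theorem flat_of_comp {X E S : Scheme.{u}} (u : X ⟶ E) (g : E ⟶ S) [Etale g] [Flat (u ≫ g)] : Flat u := by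
  let Γu : X ⟶ pullback (u ≫ g) g := pullback.lift (𝟙 X) u (by simp)
  haveI : Etale (Γu ≫ pullback.fst (u ≫ g) g) := by rw [pullback.lift_fst]; infer_instance
  haveI : LocallyOfFiniteType Γu := locallyOfFiniteType_of_comp Γu (pullback.fst (u ≫ g) g)
  haveI : Etale Γu := Etale.of_comp Γu (pullback.fst (u ≫ g) g)
  rw [← pullback.lift_snd (f := u ≫ g) (g := g) (𝟙 X) u (by simp)]
  infer_instance

/-- The scheme-theoretic image of a flat quasi-compact morphism into a scheme étale over a geometrically
unibranch base without embedded points is open. -/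
theorem isOpenImmersion_imageι {X P S : Scheme.{u}} [IsLocallyNoetherian S] [IsLocallyNoetherian P]
    (h : P ⟶ S) [Etale h] (hS : ∀ s : S, CAlg2.IsGeomUnibranch (S.presheaf.stalk s))
    (hemb : AssSch.NoEmbedded (Coh.structureModule S)) (u : X ⟶ P) [QuasiCompact u] [Flat u] :
    IsOpenImmersion u.imageι := by
  have hP := noEmbedded_of_etale h hemb
  have key : ∀ V : P.affineOpens, ∃ e, IsIdempotentElem e ∧ u.ker.ideal V = Ideal.span {e} := by
    intro V
    haveI : IsNoetherianRing Γ(P, V) := IsLocallyNoetherian.component_noetherian V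
    let ι := {W : X.affineOpens // W.1 ≤ u ⁻¹ᵁ V.1}
    letI : ∀ i : ι, Algebra Γ(P, V) Γ(X, i.1.1) := fun i => (u.appLE V.1 i.1.1 i.2).hom.toAlgebra
    haveI : ∀ i : ι, Module.Flat Γ(P, V) Γ(X, i.1.1) := fun i =>
      RingHom.flat_algebraMap_iff.mp (HasRingHomProperty.appLE @Flat u ‹_› V i.1 i.2)
    refine exists_idem (fun i : ι => Γ(X, i.1.1)) (mem_minimalPrimes_of_noEmbedded hP V.2)
      (fun q _ p hp p' hp' => minimalPrimes_unique (V.2.fromSpec ≫ h) hS q p hp p' hp') _ fun x => ?_
    rw [Scheme.Hom.ker_apply, RingHom.mem_ker]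
    have halg : ∀ i : ι, algebraMap Γ(P, V) Γ(X, i.1.1) x =
        X.presheaf.map (homOfLE i.2).op (u.app V.1 x) := fun i => rfl
    constructor
    · intro hx i
      rw [halg i, hx, map_zero]
    · intro hx
      refine X.sheaf.eq_of_locally_eq' (fun i : ι => i.1.1) (u ⁻¹ᵁ V.1) (fun i => homOfLE i.2) ?_ _ _ fun i => ?_
      · intro z hz
        obtain ⟨W, hW, hzW, hWle⟩ := exists_isAffineOpen_mem_and_subset (X := X) (x := z) hz
        exact TopologicalSpace.Opens.mem_iSup.mpr ⟨⟨⟨W, hW⟩, hWle⟩, hzW⟩
      · exact ((halg i).symm.trans (hx i)).trans (map_zero _).symm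
  refine IsOpenImmersion.of_openCover_source _ u.ker.subschemeCover.openCover
    u.imageι.isEmbedding.injective fun V => ?_
  show IsOpenImmersion (u.ker.subschemeCover.f V ≫ u.ker.subschemeι)
  rw [Scheme.IdealSheafData.subschemeCover_map_subschemeι]
  obtain ⟨e, he, hev⟩ := key V
  haveI : IsOpenImmersion (Spec.map (CommRingCat.ofHom (Ideal.Quotient.mk (u.ker.ideal V)))) :=
    (isOpenImmersion_SpecMap_iff_of_surjective _ Ideal.Quotient.mk_surjective).mpr ⟨e, he, by
      simpa using hev⟩
  haveI : IsOpenImmersion (u.ker.glueDataObjι V) := by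
    delta Scheme.IdealSheafData.glueDataObjι
    exact MorphismProperty.comp_mem @IsOpenImmersion _ _ ‹_› inferInstance
  exact MorphismProperty.comp_mem @IsOpenImmersion _ _ ‹_› inferInstance

theorem isSchemeTheoreticallyDominant_toImage {X Y : Scheme.{u}} (f : X ⟶ Y) [QuasiCompact f] :
    IsSchemeTheoreticallyDominant f.toImage := by
  refine ⟨Scheme.IdealSheafData.ext_of_iSup_eq_top
    (fun U : Y.affineOpens => ⟨f.imageι ⁻¹ᵁ U.1, U.2.preimage f.imageι⟩) ?_ fun U => ?_⟩
  · rw [← Scheme.Hom.preimage_iSup, iSup_affineOpens_eq_top, Scheme.Hom.preimage_top]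
  · rw [Scheme.Hom.ker_apply, Scheme.IdealSheafData.ideal_bot, Pi.bot_apply, ← RingHom.injective_iff_ker_eq_bot]
    exact f.toImage_app_injective U

end scheme

end Groth.Agent.H05EGA4.SchImageClopen
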