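import Mathlib
import Groth.Prelude.Def_FDesc
import Groth.Prelude.Def_CAlg2
import Groth.Agent.H05EGA4.SchImageClopen
import Groth.Agent.H18Et.TopInvariance
import Groth.Agent.H13AlgSp.LocP
import Groth.Agent.H7Lim.DescendUnramified
import Groth.Agent.S5161

/-!
Greatest admissible factorizations through étale affine schemes: the étale affine hull (helper5).
-/

set_option autoImplicit false
set_option linter.style.haveILetI false
set_option maxHeartbeats 800000
universe u
open Groth.Agent CategoryTheory CategoryTheory.Limits AlgebraicGeometry TopologicalSpace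

namespace Groth.Agent.H05EGA4.EtaleFac

attribute [local simp] pullback.lift_fst pullback.lift_snd pullback.lift_fst_assoc pullback.lift_snd_assoc

section topology

variable {α : Type*} [TopologicalSpace α] [NoetherianSpace α] [QuasiSober α] [T0Space α]

/-- Points without proper generizations are generic points of components. -/
theorem finite_maximal : {x : α | ∀ y, y ⤳ x → y = x}.Finite := by
  refine (genericPoints.finite NoetherianSpace.finite_irreducibleComponents).subset fun x hx => ?_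
  obtain ⟨γ, hγ⟩ := QuasiSober.sober (isIrreducible_irreducibleComponent (x := x))
    isClosed_irreducibleComponent
  have hγx : γ ⤳ x := hγ.specializes mem_irreducibleComponent
  show closure {x} ∈ irreducibleComponents α
  rw [← hx γ hγx, hγ.def]
  exact irreducibleComponent_mem_irreducibleComponents x

omit [NoetherianSpace α] in
/-- Every point generizes to a point without proper generizations. -/
theorem exists_maximal (x : α) : ∃ γ, γ ⤳ x ∧ ∀ y, y ⤳ γ → y = γ := by
  obtain ⟨γ, hγ⟩ := QuasiSober.sober (isIrreducible_irreducibleComponent (x := x))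
    isClosed_irreducibleComponent
  refine ⟨γ, hγ.specializes mem_irreducibleComponent, fun y hy => ?_⟩
  have h1 : irreducibleComponent x ⊆ closure {y} := hγ.def ▸ hy.closure_subset
  have h2 := (irreducibleComponent_mem_irreducibleComponents x).2 isIrreducible_singleton.closure h1
  exact (Specializes.antisymm hy (hγ.specializes (h2 (subset_closure rfl)))).eq

/-- An open dense subset contains the maximal points. -/
theorem mem_of_maximal {W : Set α} (hW : IsOpen W) (hd : Dense W) {y : α} (hy : ∀ z, z ⤳ y → z = y) : y ∈ W := by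
  by_contra h
  obtain ⟨γ, hγ⟩ := QuasiSober.sober (isIrreducible_irreducibleComponent (x := y))
    isClosed_irreducibleComponent
  obtain rfl := hy γ (hγ.specializes mem_irreducibleComponent)
  let F := irreducibleComponents α \ {irreducibleComponent γ}
  have hF : IsClosed (⋃ T ∈ F, T) :=
    (NoetherianSpace.finite_irreducibleComponents.subset Set.diff_subset).isClosed_biUnion
      fun T hT => isClosed_of_mem_irreducibleComponents T hT.1
  have hsub : W ⊆ ⋃ T ∈ F, T := fun z hz => by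
    refine Set.mem_biUnion ⟨irreducibleComponent_mem_irreducibleComponents z, fun e => ?_⟩ mem_irreducibleComponent
    have hγz : γ ⤳ z := hγ.specializes ((e : irreducibleComponent z = irreducibleComponent γ) ▸ mem_irreducibleComponent)
    exact h (hγz.mem_open hW hz)
  obtain ⟨T, hT, hγT⟩ := Set.mem_iUnion₂.mp (closure_minimal hsub hF (hd γ))
  refine hT.2 (le_antisymm ?_ ?_)
  · refine (irreducibleComponent_mem_irreducibleComponents γ).2 hT.1.1 ?_
    rw [← hγ.def]
    exact closure_minimal (Set.singleton_subset_iff.mpr hγT) (isClosed_of_mem_irreducibleComponents T hT.1)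
  · rw [← hγ.def]
    exact closure_minimal (Set.singleton_subset_iff.mpr hγT) (isClosed_of_mem_irreducibleComponents T hT.1)

end topology

/-- A faithfully flat morphism is scheme-theoretically dominant. -/
theorem dominant_of_flat_surjective {X Y : Scheme.{u}} (f : X ⟶ Y) [Flat f] [Surjective f] [QuasiCompact f] :
    IsSchemeTheoreticallyDominant f := by
  refine ⟨?_⟩
  ext U : 2
  rw [Scheme.Hom.ker_apply, Scheme.IdealSheafData.ideal_bot, Pi.bot_apply, eq_bot_iff]
  intro s hs
  rw [Ideal.mem_bot]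
  refine Y.IsSheaf.section_ext fun y hy => ?_
  obtain ⟨x, rfl⟩ := f.surjective y
  have hflat : (f.stalkMap x).hom.Flat := Flat.stalkMap f x
  letI := (f.stalkMap x).hom.toAlgebra
  haveI : Module.Flat (Y.presheaf.stalk (f x)) (X.presheaf.stalk x) := hflat
  haveI : Module.FaithfullyFlat (Y.presheaf.stalk (f x)) (X.presheaf.stalk x) :=
    haveI : IsLocalHom (algebraMap (Y.presheaf.stalk (f x)) (X.presheaf.stalk x)) :=
      inferInstanceAs (IsLocalHom (f.stalkMap x).hom)
    Module.FaithfullyFlat.of_flat_of_isLocalHom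
  have h0 : Y.presheaf.germ U (f x) hy s = 0 := by
    refine FaithfulSMul.algebraMap_injective (Y.presheaf.stalk (f x)) (X.presheaf.stalk x) ?_
    rw [map_zero]
    show f.stalkMap x _ = 0
    rw [Scheme.Hom.germ_stalkMap_apply, RingHom.mem_ker.mp hs, map_zero]
  obtain ⟨V, hxV, i, i', h⟩ := Y.presheaf.germ_eq (f x) hy hy s 0 (by rw [h0, map_zero])
  exact ⟨V, i.le, hxV, by rw [show homOfLE i.le = i from Subsingleton.elim _ _, h, map_zero, map_zero]⟩

/-- Morphisms to separated schemes agreeing on a scheme-theoretically dominant subobject are equal. -/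
theorem ext_of_dominant {X E T S : Scheme.{u}} (u : X ⟶ E) [IsSchemeTheoreticallyDominant u] (t : T ⟶ S) [IsSeparated t]
    {a b : E ⟶ T} (hab : a ≫ t = b ≫ t) (h : u ≫ a = u ≫ b) : a = b := by
  let i : pullback (pullback.diagonal t) (pullback.lift a b hab) ⟶ E := pullback.snd _ _
  haveI : IsClosedImmersion i := inferInstance
  let v : X ⟶ pullback (pullback.diagonal t) (pullback.lift a b hab) := pullback.lift (u ≫ a) u (by
    apply pullback.hom_ext
    · simp
    · simp [h])
  have hv : v ≫ i = u := pullback.lift_snd _ _ _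
  have hle : i.ker ≤ (𝟙 E : E ⟶ E).ker := by
    refine le_trans ?_ bot_le
    rw [← IsSchemeTheoreticallyDominant.ker_eq_bot u, ← hv]
    exact v.le_ker_comp i
  have hs : IsClosedImmersion.lift i (𝟙 E) hle ≫ i = 𝟙 E := IsClosedImmersion.lift_fac _ _ _
  have hc : pullback.fst (pullback.diagonal t) (pullback.lift a b hab) ≫ pullback.diagonal t =
    i ≫ pullback.lift a b hab := pullback.condition
  have ha : pullback.fst (pullback.diagonal t) (pullback.lift a b hab) = i ≫ a := by
    simpa using congrArg (· ≫ pullback.fst t t) hc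
  have hb : pullback.fst (pullback.diagonal t) (pullback.lift a b hab) = i ≫ b := by
    simpa using congrArg (· ≫ pullback.snd t t) hc
  have := congrArg (IsClosedImmersion.lift i (𝟙 E) hle ≫ ·) (ha.symm.trans hb)
  simpa [reassoc_of% hs] using this

variable {X S : Scheme.{u}}

/-- An admissible factorization of `f` through an étale affine scheme. -/
structure Fac (f : X ⟶ S) : Type (u + 1) where
  E : Scheme.{u}
  g : E ⟶ S
  u : X ⟶ E
  et : Etale g
  aff : IsAffineHom g
  dom : IsSchemeTheoreticallyDominant u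
  w : u ≫ g = f

variable {f : X ⟶ S}

/-- `L ≥ M`. -/
def Fac.Over (L M : Fac f) : Prop := ∃ v : L.E ⟶ M.E, L.u ≫ v = M.u ∧ v ≫ M.g = L.g

theorem Fac.Over.trans {L M N : Fac f} (h : L.Over M) (h' : M.Over N) : L.Over N := by
  obtain ⟨v, hv₁, hv₂⟩ := h
  obtain ⟨w, hw₁, hw₂⟩ := h'
  exact ⟨v ≫ w, by rw [reassoc_of% hv₁, hw₁], by rw [Category.assoc, hw₂, hv₂]⟩

/-- Sections over a geometric point. -/
def pts {L : Scheme.{u}} (g : L ⟶ S) {Ω : Type u} [Field Ω] (σ : Spec (CommRingCat.of Ω) ⟶ S) : Type u :=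
  {t : Spec (CommRingCat.of Ω) ⟶ L // t ≫ g = σ}

section props

variable [IsNoetherian S] [Flat f] [LocallyOfFinitePresentation f] [QuasiCompact f]

theorem Fac.noetherian (L : Fac f) : IsNoetherian L.E := by
  haveI := L.et
  haveI := L.aff
  haveI : IsLocallyNoetherian L.E := LocallyOfFiniteType.isLocallyNoetherian L.g
  haveI : CompactSpace L.E := QuasiCompact.compactSpace_of_compactSpace L.g
  exact {}

theorem Fac.props (L : Fac f) : Flat L.u ∧ LocallyOfFinitePresentation L.u ∧ QuasiCompact L.u := by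
  haveI := L.et
  haveI := L.aff
  haveI : Flat (L.u ≫ L.g) := by rw [L.w]; infer_instance
  haveI : LocallyOfFinitePresentation (L.u ≫ L.g) := by rw [L.w]; infer_instance
  haveI : QuasiCompact (L.u ≫ L.g) := by rw [L.w]; infer_instance
  exact ⟨SchImageClopen.flat_of_comp L.u L.g, H7Lim.locallyOfFinitePresentation_of_comp L.u L.g,
    QuasiCompact.of_comp L.u L.g⟩

/-- The open dense image. -/
theorem Fac.range_props (L : Fac f) : IsOpen (Set.range L.u) ∧ Dense (Set.range L.u) := by
  haveI := L.dom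
  obtain ⟨_, _, _⟩ := L.props
  exact ⟨L.u.isOpenMap.isOpen_range, L.u.denseRange⟩

/-- Geometric points over a maximal point lift to `X`. -/
theorem Fac.exists_lift (L : Fac f) {Ω : Type u} [Field Ω] [IsAlgClosed Ω] (σ : Spec (CommRingCat.of Ω) ⟶ S)
    (hσ : ∀ z, z ⤳ σ.base (IsLocalRing.closedPoint Ω) → z = σ.base (IsLocalRing.closedPoint Ω))
    (t : pts L.g σ) : ∃ r : Spec (CommRingCat.of Ω) ⟶ X, r ≫ L.u = t.1 := by
  haveI := L.et
  haveI := L.noetherian
  obtain ⟨_, _, _⟩ := L.props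
  have hgy : L.g.base (t.1.base (IsLocalRing.closedPoint Ω)) = σ.base (IsLocalRing.closedPoint Ω) := by
    rw [← Scheme.Hom.comp_apply, t.2]
  have hy : ∀ z, z ⤳ t.1.base (IsLocalRing.closedPoint Ω) → z = t.1.base (IsLocalRing.closedPoint Ω) := by
    intro z hz
    haveI := H13AlgSp.locallyQuasiFinite_of_etale L.g
    have hgz := hσ _ (hgy ▸ hz.map L.g.continuous)
    exact (L.g.isDiscrete_preimage_singleton _).eq_of_specializes hz hgz hgy
  obtain ⟨x, hx⟩ := mem_of_maximal L.range_props.1 L.range_props.2 hy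
  haveI : Nonempty ↥(pullback L.u t.1) := by
    obtain ⟨z, -⟩ := Scheme.Pullback.exists_preimage_pullback (f := L.u) (g := t.1) x
      (IsLocalRing.closedPoint Ω) hx
    exact ⟨z⟩
  haveI : LocallyOfFiniteType (pullback.snd L.u t.1) := inferInstance
  haveI : JacobsonSpace ↥(pullback L.u t.1) := LocallyOfFiniteType.jacobsonSpace (pullback.snd L.u t.1)
  obtain ⟨z, -, hz⟩ := nonempty_inter_closedPoints (X := ↥(pullback L.u t.1)) (Z := Set.univ)
    Set.univ_nonempty isClosed_univ.isLocallyClosed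
  refine ⟨pointOfClosedPoint (pullback.snd L.u t.1) z hz ≫ pullback.fst L.u t.1, ?_⟩
  rw [Category.assoc, pullback.condition, pointOfClosedPoint_comp_assoc]

/-- The number of geometric points over a maximal point is bounded independently of the factorization. -/
theorem Fac.card_pts (L : Fac f) {Ω : Type u} [Field Ω] [IsAlgClosed Ω] (σ : Spec (CommRingCat.of Ω) ⟶ S)
    (hσ : ∀ z, z ⤳ σ.base (IsLocalRing.closedPoint Ω) → z = σ.base (IsLocalRing.closedPoint Ω)) :
    Finite (pts L.g σ) ∧ Nat.card (pts L.g σ) ≤ Nat.card (irreducibleComponents ↥(pullback f σ)) := by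
  haveI := L.et
  haveI : IsLocallyNoetherian (pullback f σ) := LocallyOfFiniteType.isLocallyNoetherian (pullback.snd f σ)
  haveI : CompactSpace ↥(pullback f σ) := QuasiCompact.compactSpace_of_compactSpace (pullback.snd f σ)
  haveI : IsNoetherian (pullback f σ) := {}
  haveI : Finite (irreducibleComponents ↥(pullback f σ)) := NoetherianSpace.finite_irreducibleComponents.to_subtype
  haveI : JacobsonSpace ↥(pullback f σ) := LocallyOfFiniteType.jacobsonSpace (pullback.snd f σ)
  have hne : ∀ Z : irreducibleComponents ↥(pullback f σ), ∃ z, z ∈ Z.1 ∧ IsClosed ({z} : Set ↥(pullback f σ)) :=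
    fun Z => nonempty_inter_closedPoints Z.2.1.nonempty (isClosed_of_mem_irreducibleComponents _ Z.2).isLocallyClosed
  choose z hzZ hz using hne
  let Φ : irreducibleComponents ↥(pullback f σ) → pts L.g σ := fun Z =>
    ⟨pointOfClosedPoint (pullback.snd f σ) (z Z) (hz Z) ≫ pullback.fst f σ ≫ L.u, by
      rw [Category.assoc, Category.assoc, L.w, pullback.condition, pointOfClosedPoint_comp_assoc]⟩
  suffices hΦ : Function.Surjective Φ from ⟨Finite.of_surjective Φ hΦ, Nat.card_le_card_of_surjective Φ hΦ⟩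
  intro t
  obtain ⟨r, hr⟩ := L.exists_lift σ hσ t
  let r' : Spec (CommRingCat.of Ω) ⟶ pullback f σ :=
    pullback.lift r (𝟙 _) (by rw [Category.id_comp, ← L.w, reassoc_of% hr, t.2])
  let Z : irreducibleComponents ↥(pullback f σ) :=
    ⟨irreducibleComponent (r'.base (IsLocalRing.closedPoint Ω)), irreducibleComponent_mem_irreducibleComponents _⟩
  let q : pullback f σ ⟶ pullback L.g σ :=
    pullback.map f σ L.g σ L.u (𝟙 _) (𝟙 _) (by rw [Category.comp_id, L.w]) (by simp)
  haveI := H13AlgSp.locallyQuasiFinite_of_etale (pullback.snd L.g σ)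
  have hpt : q.base (z Z) = q.base (r'.base (IsLocalRing.closedPoint Ω)) := by
    have hd : _root_.IsDiscrete (Set.univ : Set ↥(pullback L.g σ)) := by
      have := (pullback.snd L.g σ).isDiscrete_preimage (s := Set.univ) (isDiscrete_univ_iff.mpr inferInstance)
      simpa using this
    haveI : DiscreteTopology ↥(pullback L.g σ) := isDiscrete_univ_iff.mp hd
    exact (IsIrreducible.image Z.2.1 q q.continuous.continuousOn).2.isPreconnected.subsingleton ⟨_, hzZ Z, rfl⟩
      ⟨_, mem_irreducibleComponent, rfl⟩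
  refine ⟨Z, Subtype.ext ?_⟩
  have h1 : pointOfClosedPoint (pullback.snd f σ) (z Z) (hz Z) ≫ q = r' ≫ q := by
    refine ext_of_apply_closedPoint_eq (pullback.snd L.g σ) ?_ ?_ ?_
    · simp [q, pullback.map]
    · simp [q, r', pullback.map]
    · simpa [Scheme.Hom.comp_apply] using hpt
  have h2 := congrArg (· ≫ pullback.fst L.g σ) h1
  simpa [q, r', Φ, hr, pullback.map] using h2

/-- Morphisms of factorizations are surjective on geometric points. -/
theorem surjective_pts {L M : Fac f} (p : L.E ⟶ M.E) (hp₁ : L.u ≫ p = M.u) (hp₂ : p ≫ M.g = L.g)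
    {Ω : Type u} [Field Ω] [IsAlgClosed Ω] (σ : Spec (CommRingCat.of Ω) ⟶ S)
    (hσ : ∀ z, z ⤳ σ.base (IsLocalRing.closedPoint Ω) → z = σ.base (IsLocalRing.closedPoint Ω)) :
    Function.Surjective (fun t : pts L.g σ => (⟨t.1 ≫ p, by rw [Category.assoc, hp₂, t.2]⟩ : pts M.g σ)) := by
  intro t
  obtain ⟨r, hr⟩ := M.exists_lift σ hσ t
  refine ⟨⟨r ≫ L.u, ?_⟩, Subtype.ext ?_⟩
  · rw [Category.assoc, L.w, ← M.w, reassoc_of% hr, t.2]
  · show (r ≫ L.u) ≫ p = t.1
    rw [Category.assoc, hp₁, hr]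

end props

/-- The geometric point at a point of `S`. -/
noncomputable def geomPt (η : S) : Spec (CommRingCat.of (AlgebraicClosure (S.residueField η))) ⟶ S :=
  Spec.map (CommRingCat.ofHom (algebraMap (S.residueField η) (AlgebraicClosure (S.residueField η)))) ≫
    S.fromSpecResidueField η

theorem geomPt_apply (η : S) (x) : (geomPt η).base x = η :=
  Scheme.fromSpecResidueField_apply (X := S) η _

/-- An étale map injective on geometric generic points is an open immersion. -/
theorem isOpenImmersion_of_injective [IsNoetherian S] {M L : Scheme.{u}} (p : M ⟶ L) (gM : M ⟶ S) (gL : L ⟶ S)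
    [Etale gM] [Etale gL] [IsSeparated gM] (hp : p ≫ gL = gM)
    (hinj : ∀ η : S, (∀ y, y ⤳ η → y = η) → Function.Injective
      (fun t : pts gM (geomPt η) => t.1 ≫ p)) : IsOpenImmersion p := by
  haveI : Etale (p ≫ gL) := by rw [hp]; infer_instance
  haveI : IsSeparated (p ≫ gL) := by rw [hp]; infer_instance
  haveI : LocallyOfFiniteType p := locallyOfFiniteType_of_comp p gL
  haveI : Etale p := Etale.of_comp p gL
  haveI : IsSeparated p := IsSeparated.of_comp p gL
  haveI : Surjective (pullback.diagonal p) := by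
    constructor
    by_contra hns
    let O : (pullback p p).Opens :=
      ⟨(Set.range (pullback.diagonal p))ᶜ, (pullback.diagonal p).isClosedEmbedding.isClosed_range.isOpen_compl⟩
    let h : pullback p p ⟶ S := pullback.fst p p ≫ gM
    haveI : Etale h := inferInstance
    obtain ⟨z₀, hz₀⟩ : ∃ z, z ∈ O := by
      simp only [Function.Surjective, not_forall, not_exists] at hns
      obtain ⟨z, hz⟩ := hns
      exact ⟨z, fun ⟨w, hw⟩ => hz w hw⟩
    obtain ⟨η, hη, hηmax⟩ := exists_maximal (h.base z₀)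
    obtain ⟨z, hzO, hzη⟩ : ∃ z ∈ O, h.base z = η :=
      hη.mem_open (h.isOpenMap _ O.2) ⟨z₀, hz₀, rfl⟩
    obtain ⟨z', hz'₁, -⟩ := Scheme.Pullback.exists_preimage_pullback (f := h) (g := geomPt η) z
      (IsLocalRing.closedPoint _) (hzη.trans (geomPt_apply η _).symm)
    haveI := H13AlgSp.locallyQuasiFinite_of_etale (pullback.snd h (geomPt η))
    have hcl : IsClosed ({z'} : Set ↥(pullback h (geomPt η))) := by
      haveI : DiscreteTopology ↥(pullback h (geomPt η)) := isDiscrete_univ_iff.mp (by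
        simpa using (pullback.snd h (geomPt η)).isDiscrete_preimage (s := Set.univ) (isDiscrete_univ_iff.mpr inferInstance))
      exact isClosed_discrete _
    let r := pointOfClosedPoint (pullback.snd h (geomPt η)) z' hcl ≫ pullback.fst h (geomPt η)
    have hr : r ≫ h = geomPt η := by rw [Category.assoc, pullback.condition, pointOfClosedPoint_comp_assoc]
    have h12 : r ≫ pullback.fst p p = r ≫ pullback.snd p p := by
      have hsnd : (r ≫ pullback.snd p p) ≫ gM = geomPt η := by
        rw [Category.assoc, ← hp, ← pullback.condition_assoc, hp]; exact hr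
      exact congrArg Subtype.val (hinj η hηmax (a₁ := ⟨r ≫ pullback.fst p p, (Category.assoc _ _ _).trans hr⟩)
        (a₂ := ⟨r ≫ pullback.snd p p, hsnd⟩) (by simp only [Category.assoc, pullback.condition]))
    have hdiag : r = (r ≫ pullback.fst p p) ≫ pullback.diagonal p := by
      apply pullback.hom_ext <;> simp [h12]
    refine hzO ⟨(r ≫ pullback.fst p p).base (IsLocalRing.closedPoint _), ?_⟩
    rw [← Scheme.Hom.comp_apply, ← hdiag, ← hz'₁]
    simp [r]
  haveI : UniversallyInjective p := (UniversallyInjective.iff_diagonal (f := p)).mpr inferInstance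
  exact H18Et.TopInv.isOpenImmersion_of_etale_of_universallyInjective p

/-- Finitely many affine opens contain a given dense open. -/
theorem finite_affineOpens {L : Scheme.{u}} [IsNoetherian L] (g : L ⟶ S) [IsSeparated g] (W : Set L) (hW : IsOpen W)
    (hd : Dense W) : {O : L.Opens | W ⊆ O ∧ IsAffineHom (O.ι ≫ g)}.Finite := by
  let Z : Set L := Wᶜ
  haveI : QuasiSober ↥Z := hW.isClosed_compl.isClosedEmbedding_subtypeVal.quasiSober
  haveI : NoetherianSpace ↥Z := inferInstance
  let Mz : Set L := Subtype.val '' {x : ↥Z | ∀ y, y ⤳ x → y = x}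
  have hM : Mz.Finite := finite_maximal.image _
  let Φ : L.Opens → Set L := fun O => (O : Set L)ᶜ ∩ Mz
  refine Set.Finite.of_finite_image (f := Φ) (hM.finite_subsets.subset ?_) ?_
  · rintro _ ⟨O, -, rfl⟩
    exact Set.inter_subset_right
  have key : ∀ O ∈ {O : L.Opens | W ⊆ O ∧ IsAffineHom (O.ι ≫ g)}, ∀ x, x ∉ O → ∃ z ∈ Φ O, z ⤳ x := by
    rintro O ⟨hWO, hO⟩ x hx
    haveI := hO
    haveI : IsAffineHom O.ι := IsAffineHom.of_comp O.ι g
    haveI : QuasiSober ↥((O : Set L)ᶜ) := O.2.isClosed_compl.isClosedEmbedding_subtypeVal.quasiSober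
    obtain ⟨⟨z, hzO⟩, hzx, hzmax⟩ := exists_maximal (⟨x, hx⟩ : ↥((O : Set L)ᶜ))
    have hzx' : z ⤳ x := Topology.IsInducing.subtypeVal.specializes_iff.mpr hzx
    refine ⟨z, ⟨hzO, ⟨z, fun h => hzO (hWO h)⟩, fun w hw => ?_, rfl⟩, hzx'⟩
    obtain ⟨w, hwW⟩ := w
    have hwz : w ⤳ z := Topology.IsInducing.subtypeVal.specializes_iff.mpr hw
    refine Subtype.ext ?_
    by_contra hne
    have hwO : w ∈ O := by
      by_contra hwO
      exact hne ((congrArg Subtype.val (hzmax ⟨w, hwO⟩ (Topology.IsInducing.subtypeVal.specializes_iff.mp hwz)) : w = z))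
    obtain ⟨γ, hγw, hγmax⟩ := exists_maximal w
    have hγne : γ ≠ w := fun e => hwW (e ▸ mem_of_maximal hW hd hγmax)
    obtain ⟨V, hV, hzV, -⟩ := exists_isAffineOpen_mem_and_subset (X := L) (x := z) (U := ⊤) trivial
    haveI : IsNoetherianRing Γ(L, V) := IsLocallyNoetherian.component_noetherian ⟨V, hV⟩
    have hwV : w ∈ V := hwz.mem_open V.2 hzV
    have hγV : γ ∈ V := hγw.mem_open V.2 hwV
    have haff : IsAffineOpen (hV.fromSpec ⁻¹ᵁ O) := by
      rw [← Scheme.Hom.isAffineOpen_iff_of_isOpenImmersion hV.fromSpec,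
        Scheme.Hom.image_preimage_eq_opensRange_inf, hV.opensRange_fromSpec]
      have h := (hV.preimage O.ι).image_of_isOpenImmersion O.ι
      rwa [Scheme.Hom.image_preimage_eq_opensRange_inf, Scheme.Opens.opensRange_ι, inf_comm] at h
    have hz2 : (hV.primeIdealOf ⟨z, hzV⟩).asIdeal.height ≤ 1 := by
      refine Groth.Agent.S5161.result Γ(L, V) (hV.fromSpec ⁻¹ᵁ O) haff _ (fun h => hzO ?_) fun q hq hqO => ?_
      · have h' : hV.fromSpec (hV.primeIdealOf ⟨z, hzV⟩) ∈ O := h
        rwa [hV.fromSpec_primeIdealOf] at h'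
      · have e : hV.fromSpec (hV.primeIdealOf ⟨z, hzV⟩) = z := hV.fromSpec_primeIdealOf ⟨z, hzV⟩
        have h1 : hV.fromSpec q ⤳ z := by
          have h0 := ((PrimeSpectrum.le_iff_specializes _ _).mp hq).map hV.fromSpec.continuous
          rwa [e] at h0
        have h2 := congrArg Subtype.val (hzmax ⟨hV.fromSpec q, hqO⟩ (Topology.IsInducing.subtypeVal.specializes_iff.mp h1))
        exact hV.fromSpec.isOpenEmbedding.injective (h2.trans (hV.fromSpec_primeIdealOf ⟨z, hzV⟩).symm)
    have hlt : ∀ (a b : L) (ha : a ∈ V) (hb : b ∈ V), a ⤳ b → a ≠ b →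
        (hV.primeIdealOf ⟨a, ha⟩).asIdeal < (hV.primeIdealOf ⟨b, hb⟩).asIdeal := fun a b ha hb hab hne => by
      refine lt_of_le_of_ne ?_ fun e => hne ((hV.fromSpec_primeIdealOf ⟨a, ha⟩).symm.trans
        ((congrArg _ (PrimeSpectrum.ext e)).trans (hV.fromSpec_primeIdealOf ⟨b, hb⟩)))
      refine (PrimeSpectrum.le_iff_specializes _ _).mpr
        (hV.fromSpec.isEmbedding.isInducing.specializes_iff.mp ?_)
      rwa [hV.fromSpec_primeIdealOf, hV.fromSpec_primeIdealOf]
    have h1 := Ideal.height_strict_mono_of_isPrime (hlt γ w hγV hwV hγw hγne)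
    have h2 := Ideal.height_strict_mono_of_isPrime (hlt w z hwV hzV hwz (fun e => hne e))
    have := (ENat.one_le_iff_ne_zero.mpr (fun e => absurd (e ▸ h1) not_lt_zero')).trans_lt (h2.trans_le hz2)
    exact lt_irrefl _ this
  intro O hO O' hO' heq
  ext x
  constructor
  · intro hx
    by_contra hx'
    obtain ⟨z, hz, hzx⟩ := key O' hO' x hx'
    exact (heq.symm ▸ hz : z ∈ Φ O).1 (hzx.mem_open O.2 hx)
  · intro hx
    by_contra hx'
    obtain ⟨z, hz, hzx⟩ := key O hO x hx'
    exact (heq ▸ hz : z ∈ Φ O').1 (hzx.mem_open O'.2 hx)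

section main

variable [IsNoetherian S] [Flat f] [LocallyOfFinitePresentation f] [QuasiCompact f]

/-- Factor a morphism to an étale affine scheme through a clopen admissible factorization. -/
theorem exists_image (hS : ∀ s : S, CAlg2.IsGeomUnibranch (S.presheaf.stalk s))
    (hemb : AssSch.NoEmbedded (Coh.structureModule S))
    {P : Scheme.{u}} (h : P ⟶ S) [Etale h] [IsAffineHom h] (t : X ⟶ P) (ht : t ≫ h = f) :
    ∃ (M : Fac f) (ι : M.E ⟶ P), M.u ≫ ι = t ∧ ι ≫ h = M.g ∧
      ∀ (L : Scheme.{u}) (s : X ⟶ L) [IsSchemeTheoreticallyDominant s] (v : L ⟶ P), s ≫ v = t →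
        ∃ v' : L ⟶ M.E, v' ≫ ι = v ∧ s ≫ v' = M.u := by
  haveI : IsLocallyNoetherian P := LocallyOfFiniteType.isLocallyNoetherian h
  haveI : Flat (t ≫ h) := by rw [ht]; infer_instance
  haveI : QuasiCompact (t ≫ h) := by rw [ht]; infer_instance
  haveI : QuasiCompact t := QuasiCompact.of_comp t h
  haveI : Flat t := SchImageClopen.flat_of_comp t h
  haveI : IsOpenImmersion t.imageι := SchImageClopen.isOpenImmersion_imageι h hS hemb t
  refine ⟨⟨t.image, t.imageι ≫ h, t.toImage, inferInstance, inferInstance,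
    SchImageClopen.isSchemeTheoreticallyDominant_toImage t, by rw [Scheme.Hom.toImage_imageι_assoc, ht]⟩,
    t.imageι, Scheme.Hom.toImage_imageι t, rfl, fun L s _ v hv => ?_⟩
  have hle : t.imageι.ker ≤ v.ker := by
    rw [Scheme.IdealSheafData.ker_subschemeι, ← hv, Scheme.Hom.ker_comp, IsSchemeTheoreticallyDominant.ker_eq_bot s,
      Scheme.IdealSheafData.map_bot]
  refine ⟨IsClosedImmersion.lift t.imageι v hle, IsClosedImmersion.lift_fac _ _ _, ?_⟩
  rw [← cancel_mono t.imageι, Category.assoc, IsClosedImmersion.lift_fac, hv]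
  exact (Scheme.Hom.toImage_imageι t).symm

/-- Any two admissible factorizations have a supremum. -/
theorem exists_sup (hS : ∀ s : S, CAlg2.IsGeomUnibranch (S.presheaf.stalk s))
    (hemb : AssSch.NoEmbedded (Coh.structureModule S)) (L₁ L₂ : Fac f) :
    ∃ M : Fac f, M.Over L₁ ∧ M.Over L₂ ∧ ∀ N : Fac f, N.Over L₁ → N.Over L₂ → N.Over M := by
  haveI := L₁.et
  haveI := L₁.aff
  haveI := L₂.et
  haveI := L₂.aff
  haveI : IsAffineHom (pullback.fst L₁.g L₂.g) := MorphismProperty.pullback_fst L₁.g L₂.g L₂.aff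
  haveI : IsAffineHom (pullback.fst L₁.g L₂.g ≫ L₁.g) := MorphismProperty.comp_mem @IsAffineHom _ _ ‹_› L₁.aff
  obtain ⟨M, ι, hι₁, hι₂, huniv⟩ := exists_image hS hemb (pullback.fst L₁.g L₂.g ≫ L₁.g)
    (pullback.lift L₁.u L₂.u (L₁.w.trans L₂.w.symm))
    ((Category.assoc _ _ _).symm.trans ((congrArg (· ≫ L₁.g) (pullback.lift_fst _ _ _)).trans L₁.w))
  refine ⟨M, ⟨ι ≫ pullback.fst _ _, ?_, ?_⟩, ⟨ι ≫ pullback.snd _ _, ?_, ?_⟩, fun N h₁ h₂ => ?_⟩
  · rw [reassoc_of% hι₁, pullback.lift_fst]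
  · rw [Category.assoc, hι₂]
  · rw [reassoc_of% hι₁, pullback.lift_snd]
  · rw [Category.assoc, ← pullback.condition, hι₂]
  obtain ⟨a, ha, ha'⟩ := h₁
  obtain ⟨b, hb, hb'⟩ := h₂
  haveI := N.dom
  obtain ⟨v, hv, hv'⟩ := huniv N.E N.u (pullback.lift a b (ha'.trans hb'.symm)) (by
    apply pullback.hom_ext <;> simp [ha, hb])
  exact ⟨v, hv', by rw [← hι₂, reassoc_of% hv, pullback.lift_fst_assoc, ha']⟩

/-- A nonempty family of admissible factorizations closed under suprema has a greatest element. -/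
theorem exists_greatest (hS : ∀ s : S, CAlg2.IsGeomUnibranch (S.presheaf.stalk s))
    (hemb : AssSch.NoEmbedded (Coh.structureModule S)) (Q : Fac f → Prop) (L₀ : Fac f) (h₀ : Q L₀)
    (hsup : ∀ L₁ L₂ M : Fac f, Q L₁ → Q L₂ → (∀ N : Fac f, N.Over L₁ → N.Over L₂ → N.Over M) → Q M) :
    ∃ M : Fac f, Q M ∧ ∀ L, Q L → M.Over L := by
  classical
  let Mx : Finset S := (finite_maximal (α := S)).toFinset
  have hMx : ∀ η ∈ Mx, ∀ y, y ⤳ η → y = η := fun η hη => by simpa [Mx] using hη
  have hσ : ∀ η ∈ Mx, ∀ z, z ⤳ (geomPt η).base (IsLocalRing.closedPoint _) →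
      z = (geomPt η).base (IsLocalRing.closedPoint (AlgebraicClosure (S.residueField η))) := fun η hη => by
    rw [geomPt_apply]; exact hMx η hη
  let N : Fac f → ℕ := fun L => ∑ η ∈ Mx, Nat.card (pts L.g (geomPt η))
  have hbd : BddAbove {n | ∃ L, Q L ∧ N L = n} :=
    ⟨∑ η ∈ Mx, Nat.card (irreducibleComponents ↥(pullback f (geomPt η))), by
      rintro n ⟨L, -, rfl⟩
      exact Finset.sum_le_sum fun η hη => (L.card_pts _ (hσ η hη)).2⟩
  obtain ⟨L₁, hL₁, hN⟩ := Nat.sSup_mem (s := {n | ∃ L, Q L ∧ N L = n}) ⟨_, L₀, h₀, rfl⟩ hbd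
  haveI := L₁.et
  haveI := L₁.aff
  haveI := L₁.noetherian
  let 𝒪 : Set L₁.E.Opens := {O | ∃ L : Fac f, Q L ∧ ∃ p : L.E ⟶ L₁.E, L.u ≫ p = L₁.u ∧ p ≫ L₁.g = L.g ∧
    ∃ _ : IsOpenImmersion p, p.opensRange = O}
  have hfin : 𝒪.Finite := (finite_affineOpens L₁.g _ L₁.range_props.1 L₁.range_props.2).subset (by
    rintro _ ⟨L, -, p, hp₁, hp₂, hp, rfl⟩
    haveI := hp
    refine ⟨fun y ⟨x, hx⟩ => ⟨L.u x, by rw [← Scheme.Hom.comp_apply, hp₁, hx]⟩, ?_⟩
    haveI : IsAffineHom (p ≫ L₁.g) := by rw [hp₂]; exact L.aff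
    rw [← p.isoOpensRange_inv_comp, Category.assoc]
    infer_instance)
  obtain ⟨O, ⟨L₂, hL₂, p₂, hp₂₁, hp₂₂, hp₂, hO⟩, hmin⟩ := hfin.exists_minimal
    ⟨⊤, L₁, hL₁, 𝟙 _, Category.comp_id _, Category.id_comp _, inferInstance, Scheme.Hom.opensRange_of_isIso _⟩
  refine ⟨L₂, hL₂, fun L hL => ?_⟩
  obtain ⟨M, ⟨q, hq₁, hq₂⟩, hML, huniv⟩ := exists_sup hS hemb L₂ L
  have hQM : Q M := hsup _ _ _ hL₂ hL huniv
  haveI := M.et
  haveI := M.aff
  have hp₁ : M.u ≫ q ≫ p₂ = L₁.u := by rw [reassoc_of% hq₁, hp₂₁]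
  have hpg : (q ≫ p₂) ≫ L₁.g = M.g := by rw [Category.assoc, hp₂₂, hq₂]
  have hle : ∀ η ∈ Mx, Nat.card (pts L₁.g (geomPt η)) ≤ Nat.card (pts M.g (geomPt η)) := fun η hη =>
    haveI := (M.card_pts _ (hσ η hη)).1
    Nat.card_le_card_of_surjective _ (surjective_pts (q ≫ p₂) hp₁ hpg _ (hσ η hη))
  have heq : ∀ η ∈ Mx, Nat.card (pts L₁.g (geomPt η)) = Nat.card (pts M.g (geomPt η)) :=
    (Finset.sum_eq_sum_iff_of_le hle).mp (le_antisymm (Finset.sum_le_sum hle)
      (show N M ≤ N L₁ from hN ▸ le_csSup hbd ⟨M, hQM, rfl⟩))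
  haveI : IsOpenImmersion (q ≫ p₂) := isOpenImmersion_of_injective (q ≫ p₂) M.g L₁.g hpg fun η hη => by
    have hmem : η ∈ Mx := by simpa [Mx] using hη
    haveI := (L₁.card_pts _ (hσ η hmem)).1
    haveI := (M.card_pts _ (hσ η hmem)).1
    have hb := (surjective_pts (q ≫ p₂) hp₁ hpg _ (hσ η hmem)).bijective_of_nat_card_le (heq η hmem).ge
    exact fun a b hab => hb.1 (Subtype.ext hab)
  haveI := hp₂
  have hrange : (q ≫ p₂).opensRange = O := by
    refine le_antisymm ?_ (hmin ⟨M, hQM, q ≫ p₂, hp₁, hpg, inferInstance, rfl⟩ ?_)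
    all_goals
      rw [← hO]
      rintro y ⟨x, rfl⟩
      exact ⟨q x, rfl⟩
  haveI : IsOpenImmersion q := IsOpenImmersion.of_comp q p₂
  haveI : Surjective q := ⟨fun y => by
    obtain ⟨x, hx⟩ : p₂ y ∈ (q ≫ p₂).opensRange := by rw [hrange, ← hO]; exact ⟨y, rfl⟩
    exact ⟨x, p₂.isOpenEmbedding.injective hx⟩⟩
  haveI : IsIso q := (isIso_iff_isOpenImmersion_and_surjective q).mpr ⟨‹_›, ‹_›⟩
  refine Fac.Over.trans ⟨inv q, ?_, ?_⟩ hML
  · rw [IsIso.comp_inv_eq, hq₁]
  · rw [IsIso.inv_comp_eq, hq₂]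

/-- The trivial factorization. -/
theorem exists_trivial [Surjective f] : ∃ L : Fac f, ∀ N : Fac f, N.Over L := by
  refine ⟨⟨S, 𝟙 S, f, inferInstance, inferInstance, dominant_of_flat_surjective f, Category.comp_id f⟩,
    fun N => ⟨N.g, N.w, Category.comp_id _⟩⟩

end main

end Groth.Agent.H05EGA4.EtaleFac
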