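import Mathlib
import Groth.Agent.H05EGA4.DensePure
import Groth.Agent.H05EGA4.DenseExt

/-!
Pseudo-morphisms defined after a flat base change locally of finite presentation are defined (helper5).
-/

set_option autoImplicit false
set_option linter.style.haveILetI false
set_option maxHeartbeats 800000
universe u
open CategoryTheory CategoryTheory.Limits AlgebraicGeometry TopologicalSpace
open Groth.Agent.H12AlgSp

namespace Groth.Agent.H05EGA4.ExtFlat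

theorem extends_nhd {X X' Y S : Scheme.{u}} (pX : X ⟶ S) (pY : Y ⟶ S)
    [IsSeparated pY] (U : X.Opens) (hU : CInt.IsSchematicallyDense U) (h : (U : Scheme.{u}) ⟶ Y)
    (hh : h ≫ pY = U.ι ≫ pX) (f : X' ⟶ X) [Flat f] [LocallyOfFinitePresentation f] (x' : ↥X')
    (V' : X'.Opens) (hx' : x' ∈ V') (v' : (V' : Scheme.{u}) ⟶ Y) (hv'S : v' ≫ pY = V'.ι ≫ f ≫ pX)
    (hv' : X'.homOfLE (inf_le_right : f ⁻¹ᵁ U ⊓ V' ≤ V') ≫ v' =
      X'.homOfLE (inf_le_left : f ⁻¹ᵁ U ⊓ V' ≤ f ⁻¹ᵁ U) ≫ (f ∣_ U) ≫ h) :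
    ∃ (V : X.Opens) (v : (V : Scheme.{u}) ⟶ Y), f x' ∈ V ∧ v ≫ pY = V.ι ≫ pX ∧
      X.homOfLE (inf_le_right : U ⊓ V ≤ V) ≫ v = X.homOfLE (inf_le_left : U ⊓ V ≤ U) ≫ h := by
  obtain ⟨A, hA, hxA, -⟩ := exists_isAffineOpen_mem_and_subset (Opens.mem_top (f x'))
  obtain ⟨P, hP, hxP, hPle⟩ := exists_isAffineOpen_mem_and_subset (X := X') (U := V' ⊓ f ⁻¹ᵁ A) ⟨hx', hxA⟩
  let O : X.Opens := ⟨f '' (P : Set X'), f.isOpenMap _ P.2⟩
  have hOA : O ≤ A := fun z hz => by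
    obtain ⟨w, hw, rfl⟩ := hz
    exact (hPle hw).2
  have hPO : Set.range (P.ι ≫ f) ⊆ Set.range O.ι := by
    rintro _ ⟨w, rfl⟩
    rw [Scheme.Opens.range_ι]
    exact ⟨P.ι w, w.2, rfl⟩
  let g : P.toScheme ⟶ O.toScheme := IsOpenImmersion.lift O.ι (P.ι ≫ f) hPO
  have hg : g ≫ O.ι = P.ι ≫ f := IsOpenImmersion.lift_fac _ _ _
  haveI : Surjective g := ⟨fun z => by
    obtain ⟨w, hw, hwz⟩ := z.2
    refine ⟨⟨w, hw⟩, Subtype.ext ?_⟩
    have := congrArg (fun φ : P.toScheme ⟶ X => φ ⟨w, hw⟩) hg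
    exact this.trans hwz⟩
  haveI : Flat g := by
    haveI : Flat (g ≫ O.ι) := by rw [hg]; infer_instance
    exact MorphismProperty.of_postcomp (W' := @IsOpenImmersion) @Flat g O.ι inferInstance ‹_›
  haveI : LocallyOfFinitePresentation g := by
    haveI : LocallyOfFinitePresentation (g ≫ O.ι) := by rw [hg]; infer_instance
    exact MorphismProperty.of_postcomp (W' := @IsOpenImmersion) @LocallyOfFinitePresentation g O.ι inferInstance ‹_›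
  haveI : QuasiSeparatedSpace O.toScheme := by
    haveI : IsAffine A.toScheme := hA
    exact (X.homOfLE hOA).isOpenEmbedding.quasiSeparatedSpace
  haveI : CompactSpace P.toScheme := isCompact_iff_compactSpace.mp hP.isCompact
  haveI : QuasiCompact g := inferInstance
  let UO : O.toScheme.Opens := O.ι ⁻¹ᵁ U
  have hUO : CInt.IsSchematicallyDense UO := Dense.preimage_openImmersion O.ι hU
  let gO : UO.toScheme ⟶ Y := (O.ι ∣_ U) ≫ h
  let g' : P.toScheme ⟶ Y := X'.homOfLE (fun z hz => (hPle hz).1) ≫ v'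
  have hagree : (g ⁻¹ᵁ UO).ι ≫ g' = (g ∣_ UO) ≫ gO := by
    have hr : Set.range ((g ⁻¹ᵁ UO).ι ≫ P.ι) ⊆ Set.range (f ⁻¹ᵁ U ⊓ V').ι := by
      rintro _ ⟨w, rfl⟩
      rw [Scheme.Opens.range_ι]
      refine ⟨?_, (hPle w.1.2).1⟩
      show f (((g ⁻¹ᵁ UO).ι ≫ P.ι) w) ∈ U
      rw [← Scheme.Hom.comp_apply, Category.assoc, ← hg]
      exact w.2
    let c := IsOpenImmersion.lift (f ⁻¹ᵁ U ⊓ V').ι ((g ⁻¹ᵁ UO).ι ≫ P.ι) hr
    have hc : c ≫ (f ⁻¹ᵁ U ⊓ V').ι = (g ⁻¹ᵁ UO).ι ≫ P.ι := IsOpenImmersion.lift_fac _ _ _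
    have h1 : (g ⁻¹ᵁ UO).ι ≫ X'.homOfLE (fun z hz => (hPle hz).1 : P ≤ V') =
        c ≫ X'.homOfLE (inf_le_right : f ⁻¹ᵁ U ⊓ V' ≤ V') := by
      rw [← cancel_mono V'.ι]
      simp [hc]
    have h2 : (g ∣_ UO) ≫ (O.ι ∣_ U) = c ≫ X'.homOfLE (inf_le_left : f ⁻¹ᵁ U ⊓ V' ≤ f ⁻¹ᵁ U) ≫ (f ∣_ U) := by
      rw [← cancel_mono U.ι]
      simp only [Category.assoc, morphismRestrict_ι, Scheme.homOfLE_ι_assoc]
      rw [reassoc_of% hc, ← Category.assoc (g ∣_ UO), morphismRestrict_ι, Category.assoc, hg]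
    calc (g ⁻¹ᵁ UO).ι ≫ g' = c ≫ X'.homOfLE (inf_le_right : f ⁻¹ᵁ U ⊓ V' ≤ V') ≫ v' := by
          rw [← Category.assoc c, ← h1, Category.assoc]
      _ = c ≫ X'.homOfLE (inf_le_left : f ⁻¹ᵁ U ⊓ V' ≤ f ⁻¹ᵁ U) ≫ (f ∣_ U) ≫ h := by rw [hv']
      _ = (g ∣_ UO) ≫ gO := by simp only [gO, ← Category.assoc, ← h2]
  obtain ⟨v, hv1, hv2⟩ := DenseExt.extends_of_faithfullyFlat (O.ι ≫ pX) pY g UO
    (by
      rw [← Scheme.Hom.comp_preimage]
      exact DensePure.preimage_flat_lfp (pullback.fst g g ≫ g) hUO)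
    gO (by simp only [gO, Category.assoc, hh, morphismRestrict_ι_assoc]; rfl)
    g' (by
      simp only [g', Category.assoc, hv'S, Scheme.homOfLE_ι_assoc]
      rw [← reassoc_of% hg])
    hagree
  refine ⟨O, v, ⟨x', hxP, rfl⟩, hv2, ?_⟩
  have hr : Set.range (X.homOfLE (inf_le_right : U ⊓ O ≤ O)) ⊆ Set.range UO.ι := by
    rintro _ ⟨w, rfl⟩
    rw [Scheme.Opens.range_ι]
    show O.ι (X.homOfLE _ w) ∈ U
    rw [← Scheme.Hom.comp_apply, Scheme.homOfLE_ι]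
    exact w.2.1
  let d := IsOpenImmersion.lift UO.ι (X.homOfLE (inf_le_right : U ⊓ O ≤ O)) hr
  have hd : d ≫ UO.ι = X.homOfLE (inf_le_right : U ⊓ O ≤ O) := IsOpenImmersion.lift_fac _ _ _
  have hd2 : d ≫ (O.ι ∣_ U) = X.homOfLE (inf_le_left : U ⊓ O ≤ U) := by
    rw [← cancel_mono U.ι, Category.assoc, morphismRestrict_ι, reassoc_of% hd]
    simp
  rw [← hd, Category.assoc, hv1, ← hd2, Category.assoc]

end Groth.Agent.H05EGA4.ExtFlat
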