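import Mathlib

/-!
`Ext^n(k, M) = Hom(k, M/xM)` for a weakly regular sequence of length `n` (helper5).
-/

set_option autoImplicit false
set_option linter.style.haveILetI false
universe u
open CategoryTheory Abelian Limits RingTheory.Sequence ModuleCat

namespace Groth.Agent.H05EGA4.ExtShift

variable {A : Type u} [CommRing A]

theorem main (N : ModuleCat.{u} A) (xs : List A) (M : Type u) [AddCommGroup M] [Module A M]
    (hann : ∀ x ∈ xs, x ∈ Module.annihilator A N) (hreg : IsWeaklyRegular M xs) :
    (∀ i < xs.length, Subsingleton (Ext N (ModuleCat.of A M) i)) ∧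
      Nonempty ((N →ₗ[A] (M ⧸ (Ideal.ofList xs • (⊤ : Submodule A M)))) ≃+ Ext N (ModuleCat.of A M) xs.length) := by
  induction xs generalizing M with
  | nil =>
    refine ⟨fun i hi => absurd hi (by simp), ⟨?_⟩⟩
    let q : (M ⧸ (Ideal.ofList ([] : List A) • (⊤ : Submodule A M))) ≃ₗ[A] M :=
      Submodule.quotEquivOfEqBot _ (by rw [Ideal.ofList_nil, Submodule.bot_smul])
    exact ((LinearEquiv.congrRight q).toAddEquiv.trans
      (ModuleCat.homAddEquiv (M := N) (N := ModuleCat.of A M)).symm).trans Ext.addEquiv₀.symm
  | cons x xs ih =>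
    simp only [isWeaklyRegular_cons_iff] at hreg
    simp only [List.mem_cons, forall_eq_or_imp] at hann
    obtain ⟨hlow, ⟨e⟩⟩ := ih (QuotSMulTop x M) hann.2 hreg.2
    have hS := hreg.1.smulShortComplex_shortExact (M := ModuleCat.of A M)
    have hzero : ∀ i, AddCommGrpCat.ofHom ((Ext.mk₀ ((ModuleCat.of A M).smulShortComplex x).f).postcomp N (add_zero i)) = 0 :=
      fun i => Ext.postcomp_smul_id_eq_zero_of_mem_annihilator hann.1 i
    have h0 : Subsingleton (Ext N (ModuleCat.of A M) 0) := by
      haveI : Subsingleton (N →ₗ[A] M) := ⟨fun f g => LinearMap.ext fun y => hreg.1 (by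
        show x • f y = x • g y
        rw [← map_smul, ← map_smul, Module.mem_annihilator.1 hann.1, map_zero, map_zero])⟩
      exact (Ext.addEquiv₀.trans (ModuleCat.homAddEquiv (M := N) (N := ModuleCat.of A M))).subsingleton
    have hvan : ∀ i < (x :: xs).length, Subsingleton (Ext N (ModuleCat.of A M) i) := by
      intro i hi
      match i with
      | 0 => exact h0
      | j + 1 =>
        have hepi := (Ext.covariant_sequence_exact₁' N hS j (j + 1) rfl).epi_f (hzero (j + 1))
        haveI : Subsingleton (Ext N ((ModuleCat.of A M).smulShortComplex x).X₃ j) :=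
          hlow j (by simpa using hi)
        exact AddCommGrpCat.subsingleton_of_isZero
          (@IsZero.of_epi _ _ _ _ _ _ hepi (AddCommGrpCat.isZero_of_subsingleton _))
    refine ⟨hvan, ⟨?_⟩⟩
    have hepi := (Ext.covariant_sequence_exact₁' N hS xs.length (xs.length + 1) rfl).epi_f (hzero (xs.length + 1))
    have hmono := (Ext.covariant_sequence_exact₃' N hS xs.length (xs.length + 1) rfl).mono_g
      ((AddCommGrpCat.isZero_of_iff_subsingleton.mpr (hvan xs.length (by simp))).eq_zero_of_src _)
    let δ := hS.extClass.postcomp N (show xs.length + 1 = xs.length + 1 from rfl)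
    have hb : Function.Bijective δ :=
      ⟨(AddCommGrpCat.mono_iff_injective _).1 hmono, (AddCommGrpCat.epi_iff_surjective _).1 hepi⟩
    exact (((LinearEquiv.congrRight (Submodule.quotOfListConsSMulTopEquivQuotSMulTopInner M x xs)).toAddEquiv.trans
      e).trans (AddEquiv.ofBijective δ hb))

end Groth.Agent.H05EGA4.ExtShift
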