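import Mathlib
import Groth.Agent.H17.TwoGlue
import Groth.Agent.H17.SchDense
import Groth.Agent.H7Lim.NormalPoint

/-!
Extension of a section over a normal point at which the closure of the graph is quasi-finite.
-/

set_option autoImplicit false
universe u
open AlgebraicGeometry CategoryTheory CategoryTheory.Limits TopologicalSpace

namespace Groth.Agent.H05EGA4.ExtendNormal

theorem exists_section_nhd {X Y : Scheme.{u}} (q : Y ⟶ X) [LocallyOfFiniteType q] [IsSeparated q]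
    (U : X.Opens) (hU : Dense (U : Set X)) (h : (U : Scheme.{u}) ⟶ Y) (hh : h ≫ q = U.ι)
    (W : X.Opens) [IsIntegral (W : Scheme.{u})] (y : Y) (hxW : q y ∈ W)
    (hx : IsIntegrallyClosed (X.presheaf.stalk (q y))) (hy : y ∈ closure (Set.range h))
    (hiso : ∃ O : Y.Opens, (O : Set Y) ∩ closure (Set.range h) ∩ q ⁻¹' {q y} = {y}) :
    ∃ (V : X.Opens) (v : (V : Scheme.{u}) ⟶ Y), q y ∈ V ∧ v ≫ q = V.ι ∧
      X.homOfLE (inf_le_right : U ⊓ V ≤ V) ≫ v = X.homOfLE (inf_le_left : U ⊓ V ≤ U) ≫ h := by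
  classical
  set η : (W : Scheme.{u}) := genericPoint (W : Scheme.{u})
  have hWspec : ∀ w : (W : Scheme.{u}), η ⤳ w := fun w => genericPoint_specializes w
  have hηU : W.ι η ∈ U := by
    obtain ⟨z, hzW, hzU⟩ := hU.inter_open_nonempty _ W.2 ⟨q y, hxW⟩
    exact ((hWspec ⟨z, hzW⟩).map W.ι.continuous).mem_open U.2 hzU
  let τ : Spec ((W : Scheme.{u}).presheaf.stalk η) ⟶ X := (W : Scheme.{u}).fromSpecStalk η ≫ W.ι
  have hτη : ∀ t, τ t = W.ι η := fun t => by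
    have h1 : (W : Scheme.{u}).fromSpecStalk η t ⤳ η := by
      have := Set.mem_range_self (f := (W : Scheme.{u}).fromSpecStalk η) t
      rwa [Scheme.range_fromSpecStalk] at this
    exact congrArg W.ι (h1.antisymm (hWspec _)).eq
  let τU : Spec ((W : Scheme.{u}).presheaf.stalk η) ⟶ U :=
    IsOpenImmersion.lift U.ι τ (by rintro _ ⟨t, rfl⟩; rw [Scheme.Opens.range_ι, hτη]; exact hηU)
  have hτU : τU ≫ U.ι = τ := IsOpenImmersion.lift_fac _ _ _
  have hτq : τU ≫ h ≫ q = τ := by rw [hh, hτU]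
  let e : Y := h ⟨W.ι η, hηU⟩
  have hτh : ∀ t, h (τU t) = e := fun t => congrArg h (Subtype.ext (by
    show (U.ι (τU t) : X) = W.ι η
    rw [← Scheme.Hom.comp_apply, hτU, hτη]))
  have heW : e ∈ q ⁻¹ᵁ W := by
    have h0 : q e = W.ι η := congr($(hh) (⟨W.ι η, hηU⟩ : U))
    show q e ∈ W
    rw [h0]; exact η.2
  let j₀ : Spec ((W : Scheme.{u}).presheaf.stalk η) ⟶ (q ⁻¹ᵁ W : Y.Opens) :=
    IsOpenImmersion.lift (q ⁻¹ᵁ W).ι (τU ≫ h) (by
      rintro _ ⟨t, rfl⟩; rw [Scheme.Opens.range_ι, Scheme.Hom.comp_apply, hτh]; exact heW)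
  have hj₀ : j₀ ≫ (q ⁻¹ᵁ W).ι = τU ≫ h := IsOpenImmersion.lift_fac _ _ _
  have hj₀q : j₀ ≫ (q ∣_ W) = (W : Scheme.{u}).fromSpecStalk η := by
    rw [← cancel_mono W.ι, Category.assoc, morphismRestrict_ι, ← Category.assoc, hj₀, Category.assoc,
      hτq]
  have hfld : IsField ((W : Scheme.{u}).presheaf.stalk η) := Field.toIsField (W : Scheme.{u}).functionField
  haveI : IsNoetherianRing ((W : Scheme.{u}).presheaf.stalk η) :=
    inferInstanceAs (IsNoetherianRing (W : Scheme.{u}).functionField)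
  haveI : QuasiCompact j₀ := inferInstance
  haveI : IsSchemeTheoreticallyDominant j₀.toImage := ⟨H17.ker_toImage j₀⟩
  haveI : IsReduced j₀.image := IsSchemeTheoreticallyDominant.isReduced j₀.toImage
  haveI : IrreducibleSpace j₀.image := by
    refine (irreducibleSpace_def _).2 ?_
    rw [Set.top_eq_univ, ← (Scheme.Hom.denseRange j₀.toImage).closure_eq, ← Set.image_univ]
    exact ((IrreducibleSpace.isIrreducible_univ _).image _ j₀.toImage.continuous.continuousOn).closure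
  haveI : IsIntegral j₀.image := isIntegral_of_irreducibleSpace_of_isReduced _
  let t₀ : ↥(Spec ((W : Scheme.{u}).presheaf.stalk η)) := IsLocalRing.closedPoint ((W : Scheme.{u}).presheaf.stalk η)
  let f : j₀.image ⟶ (W : Scheme.{u}) := j₀.imageι ≫ (q ∣_ W)
  have hτf : j₀.toImage ≫ f = (W : Scheme.{u}).fromSpecStalk η := by
    simp only [f, Scheme.Hom.toImage_imageι_assoc, hj₀q]
  -- the generic point of the image
  have hgp : genericPoint j₀.image = j₀.toImage t₀ := by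
    haveI : Subsingleton ↥(Spec ((W : Scheme.{u}).presheaf.stalk η)) :=
      letI := hfld.toField; inferInstanceAs (Subsingleton (PrimeSpectrum _))
    refine ((genericPoint_spec _).eq ?_)
    show closure {j₀.toImage t₀} = ⊤
    rw [Set.top_eq_univ, ← (Scheme.Hom.denseRange j₀.toImage).closure_eq]
    congr 1
    ext z
    exact ⟨fun hz => ⟨t₀, hz.symm⟩, by rintro ⟨t, rfl⟩; exact congrArg j₀.toImage (Subsingleton.elim _ _)⟩
  have hgen : f (genericPoint j₀.image) = η := by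
    rw [hgp]
    exact (congr($(hτf) t₀)).trans Scheme.fromSpecStalk_closedPoint
  have hbij : Function.Bijective (f.stalkMap (genericPoint j₀.image)) := by
    rw [hgp]
    have hF : IsField (j₀.image.presheaf.stalk (j₀.toImage t₀)) := by
      rw [← hgp]; exact Field.toIsField j₀.image.functionField
    have hF' : IsField ((W : Scheme.{u}).presheaf.stalk (f (j₀.toImage t₀))) := by
      rw [← hgp, hgen]; exact hfld
    letI := hF.toField
    letI := hF'.toField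
    refine ⟨(f.stalkMap (j₀.toImage t₀)).hom.injective, fun z => ?_⟩
    have hsurj : Function.Surjective ((j₀.toImage ≫ f).stalkMap t₀) := by
      have : ∀ g, g = (W : Scheme.{u}).fromSpecStalk η → Function.Surjective (Scheme.Hom.stalkMap g t₀) := by
        rintro g rfl; exact Scheme.Hom.stalkMap_surjective _ _
      exact this _ hτf
    obtain ⟨a, ha⟩ := hsurj (j₀.toImage.stalkMap t₀ z)
    haveI : IsLocalRing ((Spec ((W : Scheme.{u}).presheaf.stalk η)).presheaf.stalk t₀) := inferInstance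
    refine ⟨a, RingHom.injective (R := j₀.image.presheaf.stalk (j₀.toImage t₀)) (j₀.toImage.stalkMap t₀).hom ?_⟩
    rw [← ha]
    exact congr($(Scheme.Hom.stalkMap_comp j₀.toImage f t₀) a).symm
  haveI : IsIso (f.stalkMap (genericPoint j₀.image)) := (ConcreteCategory.isIso_iff_bijective _).mpr hbij
  -- the point over `q y`
  have hcl : ∀ z ∈ q ⁻¹ᵁ W, z ∈ closure (Set.range h) → z ∈ closure {e} := fun z hz hzh => by
    have h1 := mem_closure_iff.mp hzh
    refine mem_closure_iff.mpr fun O hO hzO => ?_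
    obtain ⟨_, ⟨hb, hbW⟩, u, rfl⟩ := h1 _ (hO.inter (q ⁻¹ᵁ W).2) ⟨hzO, hz⟩
    have hu : U.ι u ∈ W := by
      have h0 : q (h u) = U.ι u := congr($(hh) u)
      exact h0 ▸ hbW
    have h2 : e ⤳ h u := ((subtype_specializes_iff _ _).mpr
      ((hWspec ⟨U.ι u, hu⟩).map W.ι.continuous) : (⟨W.ι η, hηU⟩ : U) ⤳ u).map h.continuous
    exact ⟨e, h2.mem_open hO hb, rfl⟩
  have hj₀range : Set.range (j₀ ≫ (q ⁻¹ᵁ W).ι) = {e} := by
    ext z; rw [hj₀]
    exact ⟨by rintro ⟨t, rfl⟩; exact hτh t, fun hz => ⟨t₀, (hτh t₀).trans hz.symm⟩⟩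
  have hrange : Set.range j₀.imageι = (q ⁻¹ᵁ W).ι ⁻¹' closure {e} := by
    rw [(q ⁻¹ᵁ W).ι.isOpenEmbedding.isOpenMap.preimage_closure_eq_closure_preimage
      (q ⁻¹ᵁ W).ι.continuous, ← hj₀range, Scheme.Hom.comp_base, TopCat.coe_comp, Set.range_comp,
      Set.preimage_image_eq _ (q ⁻¹ᵁ W).ι.isOpenEmbedding.injective, Scheme.Hom.imageι,
      Scheme.IdealSheafData.range_subschemeι, Scheme.Hom.support_ker]
  have hyr : (⟨y, hxW⟩ : (q ⁻¹ᵁ W : Y.Opens)) ∈ Set.range j₀.imageι := by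
    rw [hrange]; exact hcl y hxW hy
  obtain ⟨y₀, hy₀⟩ := hyr
  have hfy : f y₀ = ⟨q y, hxW⟩ := by
    refine Subtype.ext ?_
    show W.ι ((j₀.imageι ≫ (q ∣_ W)) y₀) = q y
    refine ((congr($(morphismRestrict_ι q W) (j₀.imageι y₀)))).trans ?_
    show q ((q ⁻¹ᵁ W).ι (j₀.imageι y₀)) = q y
    rw [hy₀]; rfl
  have hqf : f.QuasiFiniteAt y₀ := by
    rw [Scheme.Hom.quasiFiniteAt_iff_isOpen_singleton_asFiber]
    obtain ⟨O, hO⟩ := hiso
    have heq : ({f.asFiber y₀} : Set (f.fiber (f y₀))) =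
        (f.fiberι (f y₀) ≫ j₀.imageι ≫ (q ⁻¹ᵁ W).ι) ⁻¹' (O : Set Y) := by
      ext z
      have hyO : y ∈ (O : Set Y) := by
        have : y ∈ (O : Set Y) ∩ closure (Set.range h) ∩ q ⁻¹' {q y} := by rw [hO]; rfl
        exact this.1.1
      constructor
      · rintro rfl
        rw [Set.mem_preimage, Scheme.Hom.comp_apply, Scheme.Hom.fiberι_asFiber, Scheme.Hom.comp_apply, hy₀]
        exact hyO
      · intro hz
        set z₁ := f.fiberι (f y₀) z
        have h3 : f z₁ = f y₀ := by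
          have : z₁ ∈ f ⁻¹' {f y₀} := by rw [← Scheme.Hom.range_fiberι]; exact ⟨z, rfl⟩
          exact this
        have h4 : (j₀.imageι ≫ (q ⁻¹ᵁ W).ι) z₁ ∈ (O : Set Y) ∩ closure (Set.range h) ∩ q ⁻¹' {q y} := by
          refine ⟨⟨hz, ?_⟩, ?_⟩
          · have h5 : j₀.imageι z₁ ∈ (q ⁻¹ᵁ W).ι ⁻¹' closure {e} := hrange ▸ ⟨z₁, rfl⟩
            exact closure_mono (Set.singleton_subset_iff.mpr (Set.mem_range_self _ : e ∈ Set.range h)) h5
          · show q ((j₀.imageι ≫ (q ⁻¹ᵁ W).ι) z₁) = q y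
            have := congrArg (fun w => W.ι w) (h3.trans hfy)
            rw [← Scheme.Hom.comp_apply, Category.assoc, ← morphismRestrict_ι, ← Category.assoc,
              Scheme.Hom.comp_apply]
            exact this
        rw [hO] at h4
        refine (f.fiberι (f y₀)).isEmbedding.injective ?_
        rw [Scheme.Hom.fiberι_asFiber]
        refine j₀.imageι.isEmbedding.injective (((q ⁻¹ᵁ W).ι).isEmbedding.injective ?_)
        rw [← Scheme.Hom.comp_apply, hy₀]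
        exact h4
    rw [heq]
    exact O.2.preimage (f.fiberι (f y₀) ≫ j₀.imageι ≫ (q ⁻¹ᵁ W).ι).continuous
  have hN : IsIntegrallyClosed ((W : Scheme.{u}).presheaf.stalk (f y₀)) := by
    rw [hfy]
    exact IsIntegrallyClosed.of_equiv (R := X.presheaf.stalk (q y)) (W.stalkIso (⟨q y, hxW⟩ : (W : Scheme.{u}))).symm.commRingCatIsoToRingEquiv (h := hx)
  obtain ⟨V₀, hV₀, hiV⟩ := H7Lim.exists_isIso_restrict f hgen y₀ hN hqf
  let V := W.ι ''ᵁ V₀
  have hVW : V ≤ W := W.ι_image_le V₀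
  have hpre : W.ι ⁻¹ᵁ V = V₀ := W.ι.preimage_image_eq V₀
  let ρ : (V : Scheme.{u}) ⟶ (V₀ : Scheme.{u}) := IsOpenImmersion.lift V₀.ι (X.homOfLE hVW) (by
    rintro _ ⟨t, rfl⟩; rw [Scheme.Opens.range_ι]
    show X.homOfLE hVW t ∈ V₀
    rw [← hpre]
    show W.ι (X.homOfLE hVW t) ∈ V
    rw [← Scheme.Hom.comp_apply, Scheme.homOfLE_ι]
    exact t.2)
  have hρ : ρ ≫ V₀.ι = X.homOfLE hVW := IsOpenImmersion.lift_fac _ _ _
  let v : (V : Scheme.{u}) ⟶ Y := ρ ≫ inv (f ∣_ V₀) ≫ (f ⁻¹ᵁ V₀).ι ≫ j₀.imageι ≫ (q ⁻¹ᵁ W).ι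
  have hv : v ≫ q = V.ι := by
    simp only [v, Category.assoc]
    rw [← morphismRestrict_ι, ← Category.assoc j₀.imageι]
    show ρ ≫ inv (f ∣_ V₀) ≫ (f ⁻¹ᵁ V₀).ι ≫ f ≫ W.ι = V.ι
    rw [← morphismRestrict_ι_assoc, IsIso.inv_hom_id_assoc, ← Category.assoc, hρ, Scheme.homOfLE_ι]
  refine ⟨V, v, ⟨(⟨q y, hxW⟩ : (W : Scheme.{u})), hfy ▸ hV₀, rfl⟩, hv, ?_⟩
  -- agreement
  have hηV : W.ι η ∈ V := ⟨η, ((genericPoint_spec _).mem_open_set_iff V₀.2).mpr ⟨_, trivial, hV₀⟩, rfl⟩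
  let T : Spec ((W : Scheme.{u}).presheaf.stalk η) ⟶ ((U ⊓ V : X.Opens) : Scheme.{u}) :=
    IsOpenImmersion.lift (U ⊓ V).ι τ (by rintro _ ⟨t, rfl⟩; rw [Scheme.Opens.range_ι, hτη]; exact ⟨hηU, hηV⟩)
  have hT : T ≫ (U ⊓ V).ι = τ := IsOpenImmersion.lift_fac _ _ _
  haveI : IsReduced ((U ⊓ V : X.Opens) : Scheme.{u}) :=
    isReduced_of_isOpenImmersion (X.homOfLE (inf_le_right.trans hVW : U ⊓ V ≤ W))
  haveI : IsDominant T := by
    refine ⟨fun z => mem_closure_iff.mpr fun O hO hzO => ?_⟩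
    refine ⟨T t₀, ?_, t₀, rfl⟩
    have : T t₀ ⤳ z := (subtype_specializes_iff _ _).mpr (by
      show ((U ⊓ V).ι (T t₀) : X) ⤳ z.1
      rw [← Scheme.Hom.comp_apply, hT, hτη]
      exact (hWspec ⟨z.1, hVW z.2.2⟩).map W.ι.continuous)
    exact this.mem_open hO hzO
  refine ext_of_isDominant_of_isSeparated q ?_ T ?_
  · simp only [Category.assoc, hh, hv, Scheme.homOfLE_ι]
  have hl : j₀.toImage ≫ f = (T ≫ X.homOfLE inf_le_right ≫ ρ) ≫ V₀.ι := by
    rw [hτf, Category.assoc, Category.assoc, hρ, Scheme.homOfLE_homOfLE, ← cancel_mono W.ι]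
    simp only [Category.assoc, Scheme.homOfLE_ι, hT, τ]
  let k : Spec ((W : Scheme.{u}).presheaf.stalk η) ⟶ (f ⁻¹ᵁ V₀ : j₀.image.Opens) :=
    IsOpenImmersion.lift (f ⁻¹ᵁ V₀).ι j₀.toImage (by
      rintro _ ⟨t, rfl⟩; rw [Scheme.Opens.range_ι]
      show f (j₀.toImage t) ∈ V₀
      rw [← Scheme.Hom.comp_apply, hl, Scheme.Hom.comp_apply]
      exact Subtype.coe_prop _)
  have hk : k ≫ (f ⁻¹ᵁ V₀).ι = j₀.toImage := IsOpenImmersion.lift_fac _ _ _
  have hk' : T ≫ X.homOfLE inf_le_right ≫ ρ = k ≫ (f ∣_ V₀) := by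
    rw [← cancel_mono V₀.ι, Category.assoc k, morphismRestrict_ι, ← Category.assoc k, hk]
    exact hl.symm.trans rfl
  have hU' : T ≫ X.homOfLE inf_le_left = τU := by
    rw [← cancel_mono U.ι, hτU, Category.assoc, Scheme.homOfLE_ι, hT]
  simp only [v]
  rw [reassoc_of% hk', IsIso.hom_inv_id_assoc, reassoc_of% hk, Scheme.Hom.toImage_imageι_assoc, hj₀,
    reassoc_of% hU']

theorem hom_ext_two {X Y : Scheme.{u}} (U V : X.Opens) {a b : ((U ⊔ V : X.Opens) : Scheme.{u}) ⟶ Y}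
    (h1 : X.homOfLE le_sup_left ≫ a = X.homOfLE le_sup_left ≫ b)
    (h2 : X.homOfLE le_sup_right ≫ a = X.homOfLE le_sup_right ≫ b) : a = b := by
  let W : ULift.{u} Bool → X.Opens := fun i => if i.down then U else V
  have hle : (⨆ i, W i) ≤ U ⊔ V := iSup_le fun ⟨i⟩ => by cases i <;> simp [W]
  have hge : U ⊔ V ≤ ⨆ i, W i := sup_le (le_iSup W ⟨true⟩) (le_iSup W ⟨false⟩)
  have key : X.homOfLE hle ≫ a = X.homOfLE hle ≫ b :=
    Scheme.Cover.hom_ext (Scheme.Opens.iSupOpenCover W) _ _ fun i => by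
      obtain ⟨_ | _⟩ := i
      · exact (Scheme.homOfLE_homOfLE_assoc X (le_iSup W ⟨false⟩) hle a).trans (h2.trans (Scheme.homOfLE_homOfLE_assoc X (le_iSup W ⟨false⟩) hle b).symm)
      · exact (Scheme.homOfLE_homOfLE_assoc X (le_iSup W ⟨true⟩) hle a).trans (h1.trans (Scheme.homOfLE_homOfLE_assoc X (le_iSup W ⟨true⟩) hle b).symm)
  have := congrArg (X.homOfLE hge ≫ ·) key
  simpa using this

theorem exists_extension {X Y : Scheme.{u}} (q : Y ⟶ X) (U : X.Opens) (h : (U : Scheme.{u}) ⟶ Y) (hh : h ≫ q = U.ι)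
    (V : X.Opens) (v : (V : Scheme.{u}) ⟶ Y) (hv : v ≫ q = V.ι)
    (hag : X.homOfLE (inf_le_right : U ⊓ V ≤ V) ≫ v = X.homOfLE (inf_le_left : U ⊓ V ≤ U) ≫ h) :
    ∃ h' : ((U ⊔ V : X.Opens) : Scheme.{u}) ⟶ Y, h' ≫ q = (U ⊔ V).ι ∧ X.homOfLE le_sup_left ≫ h' = h ∧
      X.homOfLE le_sup_right ≫ h' = v := by
  obtain ⟨c, h1, h2⟩ := H17.exists_glue_two U V h v hag.symm
  refine ⟨c, ?_, h1, h2⟩
  apply hom_ext_two U V
  · rw [← Category.assoc, h1, hh, Scheme.homOfLE_ι]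
  · rw [← Category.assoc, h2, hv, Scheme.homOfLE_ι]

end Groth.Agent.H05EGA4.ExtendNormal
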