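import Groth.Agent.H05EGA4.KaehlerRank
import Groth.Agent.H05EGA4.FlatPresentation
import Groth.Agent.S2462
import Groth.Agent.S2471

/-! Existence of formally smooth complete local algebras with a given residue field. -/

set_option autoImplicit false
set_option linter.style.haveILetI false

open TensorProduct KaehlerDifferential IsLocalRing

universe u

namespace Groth.Agent.H05EGA4.FSExistence

/-- The imperfection module of the residue field of a formally smooth Noetherian local algebra is finite. -/
theorem finite_imperfection {k K A : Type u} [Field k] [Field K] [Algebra k K] [CommRing A] [IsLocalRing A]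
    [IsNoetherianRing A] [Algebra k A] (h : CAlgX.IsAdicFormallySmooth k A (maximalIdeal A))
    (e : ResidueField A ≃ₐ[k] K) : Module.Finite K (EGA41.imperfection ℤ k K) := by
  haveI := PrimeTransfer.perfectField_bot k
  haveI := PrimeTransfer.subsingleton_kaehler_bot k
  let F := (⊥ : Subfield k)
  letI : Algebra A K := (e.toRingEquiv.toRingHom.comp (residue A)).toAlgebra
  have hs : Function.Surjective (algebraMap A K) := e.surjective.comp residue_surjective
  haveI : IsScalarTower k A K := IsScalarTower.of_algebraMap_eq fun c => (e.commutes c).symm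
  haveI : IsScalarTower F A K := IsScalarTower.of_algebraMap_eq fun c =>
    IsScalarTower.algebraMap_apply k A K (c : k)
  obtain ⟨hkF, -, -, -⟩ := CotIdx.index_residue F A K hs
  let g : K ⊗[A] Ω[A⁄ℤ] →ₗ[K] Ω[K⁄ℤ] := mapBaseChange ℤ A K
  let eA : K ⊗[A] Ω[A⁄ℤ] ≃ₗ[K] K ⊗[A] Ω[A⁄F] :=
    (LinearEquiv.ofBijective _ (CotIdx.map_bijective F A)).baseChange A K
  have heq : LinearMap.ker g = (LinearMap.ker (mapBaseChange F A K)).comap eA.toLinearMap := by
    ext z
    have hz : mapBaseChange F A K (eA z) = KaehlerDifferential.map ℤ F K K (mapBaseChange ℤ A K z) :=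
      CotIdx.mapBaseChange_map z
    rw [LinearMap.mem_ker, Submodule.mem_comap, LinearMap.mem_ker, LinearEquiv.coe_coe, hz]
    exact (map_eq_zero_iff _ (CotIdx.map_bijective F K).1).symm
  haveI : FiniteDimensional K (LinearMap.ker g) :=
    Module.Finite.equiv ((LinearEquiv.ofEq _ _ heq).trans (eA.ofSubmodule' _)).symm
  let c := AlgebraTensorModule.cancelBaseChange k A K K (Ω[k⁄ℤ])
  let φ : K ⊗[k] (Ω[k⁄ℤ]) →ₗ[K] K ⊗[A] (Ω[A⁄ℤ]) :=
    ((mapBaseChange ℤ k A).baseChange K).comp c.symm.toLinearMap
  have hL := (injective_lTensor_iff_forall_derivation k A).mpr fun D => exists_derivation_of_isAdicFormallySmooth h D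
  let ρ : ResidueField A ≃ₗ[A] K :=
    { e.toRingEquiv.toAddEquiv with
      map_smul' := fun a x => by
        show e (a • x) = e (residue A a) * e x
        rw [← map_mul, Algebra.smul_def]
        rfl }
  have hLK : Function.Injective ((mapBaseChange ℤ k A).lTensor K) := by
    intro x y hxy
    refine (ρ.symm.rTensor _).injective (hL ?_)
    have hcomm : ∀ z, (mapBaseChange ℤ k A).lTensor (ResidueField A) (ρ.symm.rTensor _ z) =
        ρ.symm.rTensor _ ((mapBaseChange ℤ k A).lTensor K z) := fun z => by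
      induction z using TensorProduct.induction_on with
      | zero => simp
      | tmul a b => rfl
      | add u v hu hv => simp only [map_add, hu, hv]
    rw [hcomm, hcomm, hxy]
  have hφi : Function.Injective φ := fun x y hxy => c.symm.injective (hLK hxy)
  have hcomp : g ∘ₗ φ = mapBaseChange ℤ k K := KaehlerRank.mapBaseChange_comp ℤ k A K
  let ψ : LinearMap.ker (mapBaseChange ℤ k K) →ₗ[K] LinearMap.ker g :=
    φ.restrict fun x hx => by
      rw [← hcomp] at hx
      exact hx
  haveI : IsNoetherian K (LinearMap.ker g) := isNoetherian_of_isNoetherianRing_of_finite K ↥(LinearMap.ker g)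
  exact Module.Finite.of_injective ψ fun x y hxy => Subtype.ext (hφi (congrArg Subtype.val hxy))

/-- An additive map satisfying the Leibniz rule is a derivation over the integers. -/
theorem exists_derivation_of_addMonoidHom {A M : Type u} [CommRing A] [AddCommGroup M] [Module A M] (f : A →+ M)
    (hf : ∀ a b, f (a * b) = a • f b + b • f a) : ∃ E : Derivation ℤ A M, ∀ a, E a = f a :=
  ⟨Derivation.mk' f.toIntLinearMap hf, fun _ => rfl⟩

/-- Coefficients of degree one satisfy the Leibniz rule. -/
theorem coeff_single_mul {σ R : Type*} [CommRing R] (i : σ) (f g : MvPowerSeries σ R) :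
    MvPowerSeries.coeff (Finsupp.single i 1) (f * g) =
      MvPowerSeries.constantCoeff f * MvPowerSeries.coeff (Finsupp.single i 1) g +
        MvPowerSeries.constantCoeff g * MvPowerSeries.coeff (Finsupp.single i 1) f := by
  classical
  rw [MvPowerSeries.coeff_mul, Finsupp.antidiagonal_single, Finset.sum_map, Finset.Nat.sum_antidiagonal_succ,
    Finset.Nat.antidiagonal_zero, Finset.sum_singleton]
  simp [mul_comm]

/-- A coefficient of degree one kills the square of the kernel of the constant coefficient. -/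
theorem coeff_single_eq_zero {σ R : Type*} [CommRing R] (i : σ) {x : MvPowerSeries σ R}
    (hx : x ∈ (RingHom.ker (MvPowerSeries.constantCoeff (σ := σ) (R := R))) ^ 2) :
    MvPowerSeries.coeff (Finsupp.single i 1) x = 0 := by
  rw [pow_two] at hx
  refine Submodule.mul_induction_on hx (fun a ha b hb => ?_) fun a b ha hb => by rw [map_add, ha, hb, add_zero]
  rw [coeff_single_mul, RingHom.mem_ker.1 ha, RingHom.mem_ker.1 hb, zero_mul, zero_mul, add_zero]

/-- For `n ≥ dim Υ` there is a formally smooth complete algebra of dimension `n`. -/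
theorem exists_of_le {k K : Type u} [Field k] [Field K] [Algebra k K]
    [Module.Finite K (EGA41.imperfection ℤ k K)] (n : ℕ)
    (hn : Module.finrank K (EGA41.imperfection ℤ k K) ≤ n) :
    ∃ (A : Type u) (_ : CommRing A) (_ : IsLocalRing A) (_ : IsNoetherianRing A) (_ : Algebra k A),
      IsAdicComplete (maximalIdeal A) A ∧ CAlgX.IsAdicFormallySmooth k A (maximalIdeal A) ∧
      Nonempty (ResidueField A ≃ₐ[k] K) ∧ ringKrullDim A = n := by
  haveI : Module.Free K (EGA41.imperfection ℤ k K) := Module.Free.of_basis (Module.Basis.ofVectorSpace K ↥(EGA41.imperfection ℤ k K))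
  obtain ⟨θ₀, hθ₀⟩ := (finrank_le_iff_exists_linearMap (R := K) (M := EGA41.imperfection ℤ k K)
    (M' := Fin n → K)).1 (by rwa [Module.finrank_fin_fun])
  obtain ⟨θ, hθ⟩ := LinearMap.exists_extend θ₀
  let Ψ : K ⊗[k] Ω[k⁄ℤ] →ₗ[K] Ω[K⁄ℤ] × (Fin n → K) := (mapBaseChange ℤ k K).prod θ
  have hΨ : Function.Injective Ψ := by
    rw [injective_iff_map_eq_zero]
    intro z hz
    have h1 : z ∈ EGA41.imperfection ℤ k K := congrArg Prod.fst hz
    have h2 : θ₀ ⟨z, h1⟩ = 0 := (LinearMap.congr_fun hθ ⟨z, h1⟩).symm.trans (congrArg Prod.snd hz)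
    exact congrArg Subtype.val (hθ₀ (h2.trans (map_zero θ₀).symm))
  obtain ⟨lam, hlam⟩ := Ψ.exists_leftInverse_of_injective (LinearMap.ker_eq_bot.mpr hΨ)
  let dl : Fin n → Derivation ℤ k K := fun i =>
    ((((LinearMap.proj i).comp θ).restrictScalars k).comp (TensorProduct.mk k K _ 1)).compDer (D ℤ k)
  haveI := PrimeTransfer.perfectField_bot k
  haveI := PrimeTransfer.subsingleton_kaehler_bot k
  let F := (⊥ : Subfield k)
  have hmax : maximalIdeal (MvPowerSeries (Fin n) K) = RingHom.ker (MvPowerSeries.constantCoeff : (MvPowerSeries (Fin n) K) →+* K) :=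
    (IsLocalRing.ker_eq_maximalIdeal _ fun c => ⟨MvPowerSeries.C c, by simp⟩).symm
  haveI : IsAdicComplete (maximalIdeal (MvPowerSeries (Fin n) K)) (MvPowerSeries (Fin n) K) := by
    rw [maximalIdeal_mvPowerSeries, IsLocalRing.maximalIdeal_eq_bot, Ideal.map_bot, bot_sup_eq]
    infer_instance
  -- the map to `(MvPowerSeries (Fin n) K)/𝔪²`
  let q : (MvPowerSeries (Fin n) K) →+* (MvPowerSeries (Fin n) K) ⧸ maximalIdeal (MvPowerSeries (Fin n) K) ^ 2 := Ideal.Quotient.mk _
  have hXX : ∀ (i j : Fin n), q (MvPowerSeries.X i) * q (MvPowerSeries.X j) = 0 := fun i j => by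
    rw [← map_mul, Ideal.Quotient.eq_zero_iff_mem, pow_two, hmax]
    exact Ideal.mul_mem_mul (MvPowerSeries.constantCoeff_X i) (MvPowerSeries.constantCoeff_X j)
  let w₁ : k → (MvPowerSeries (Fin n) K) := fun c => ∑ i, MvPowerSeries.C (dl i c) * MvPowerSeries.X i
  let u₀ : k →+* (MvPowerSeries (Fin n) K) ⧸ maximalIdeal (MvPowerSeries (Fin n) K) ^ 2 :=
    { toFun := fun c => q (MvPowerSeries.C (algebraMap k K c) + w₁ c)
      map_one' := by simp [w₁]
      map_mul' := fun a b => by
        have h0 : q (w₁ a) * q (w₁ b) = 0 := by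
          simp only [w₁, map_sum, map_mul, Finset.sum_mul_sum]
          refine Finset.sum_eq_zero fun i _ => Finset.sum_eq_zero fun j _ => ?_
          rw [mul_mul_mul_comm, hXX, mul_zero]
        have hw : w₁ (a * b) = MvPowerSeries.C (algebraMap k K a) * w₁ b +
            MvPowerSeries.C (algebraMap k K b) * w₁ a := by
          simp only [w₁, Finset.mul_sum, ← Finset.sum_add_distrib]
          refine Finset.sum_congr rfl fun i _ => ?_
          rw [Derivation.leibniz, Algebra.smul_def, Algebra.smul_def, map_add, map_mul, map_mul]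
          ring
        simp only [map_add, hw, map_mul]
        linear_combination -h0
      map_zero' := by simp [w₁]
      map_add' := fun a b => by
        simp only [w₁, map_add, add_mul, Finset.sum_add_distrib]
        ring }
  letI : Algebra F (MvPowerSeries (Fin n) K) := (((MvPowerSeries.C : K →+* (MvPowerSeries (Fin n) K)).comp (algebraMap k K)).comp (algebraMap F k)).toAlgebra
  have hdl : ∀ (i : Fin n) (c : F), dl i (algebraMap F k c) = 0 := fun i c => by
    show θ (1 ⊗ₜ D ℤ k (algebraMap F k c)) i = 0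
    rw [← KaehlerDifferential.map_D ℤ ℤ F k, Subsingleton.elim (D ℤ F c) 0, map_zero, tmul_zero, map_zero]
    rfl
  let u : k →ₐ[F] (MvPowerSeries (Fin n) K) ⧸ maximalIdeal (MvPowerSeries (Fin n) K) ^ 2 :=
    { u₀ with
      commutes' := fun c => by
        show q (MvPowerSeries.C (algebraMap k K (algebraMap F k c)) + w₁ (algebraMap F k c)) = _
        simp only [w₁, hdl, map_zero, zero_mul, Finset.sum_const_zero, add_zero]
        rfl }
  haveI : Algebra.FormallySmooth F k := formallySmooth_of_perfectField F k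
  have hk : EGA41.IsFormallySmoothAdic F ⊥ k ⊥ :=
    (isFormallySmoothAdic_iff_isAdicFormallySmooth ⊥ ⊥ ⟨1, by simp⟩).2
      (fun C _ _ J hJ ψ _ => ⟨Algebra.FormallySmooth.lift J ⟨2, hJ⟩ ψ, Algebra.FormallySmooth.comp_lift J ⟨2, hJ⟩ ψ⟩)
  obtain ⟨v, -, hv⟩ := S2462.result ⊥ ⊥ hk (C := (MvPowerSeries (Fin n) K)) (by simp) (maximalIdeal (MvPowerSeries (Fin n) K) ^ 2)
    (fun htop => (maximalIdeal.isMaximal (MvPowerSeries (Fin n) K)).ne_top (top_le_iff.1 (htop.ge.trans (Ideal.pow_le_self two_ne_zero))))
    u (by simp)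
  have hv' : ∀ c, v c - (MvPowerSeries.C (algebraMap k K c) + w₁ c) ∈ maximalIdeal (MvPowerSeries (Fin n) K) ^ 2 := fun c =>
    Ideal.Quotient.eq.1 (AlgHom.congr_fun hv c)
  have hcc : ∀ c, MvPowerSeries.constantCoeff (v c) = algebraMap k K c := fun c => by
    have h1 := Ideal.pow_le_self two_ne_zero (hv' c)
    rw [hmax, RingHom.mem_ker, map_sub, sub_eq_zero] at h1
    rw [h1]
    simp [w₁]
  have hco : ∀ c i, MvPowerSeries.coeff (Finsupp.single i 1) (v c) = dl i c := fun c i => by
    classical
    have h1 := hv' c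
    rw [hmax] at h1
    have h2 := coeff_single_eq_zero i h1
    rw [map_sub, sub_eq_zero] at h2
    rw [h2]
    simp [w₁, MvPowerSeries.coeff_C, MvPowerSeries.coeff_X, Finsupp.single_left_inj]
  letI : Algebra k (MvPowerSeries (Fin n) K) := v.toRingHom.toAlgebra
  have hjs : Function.Bijective ((residue (MvPowerSeries (Fin n) K)).comp (MvPowerSeries.C : K →+* (MvPowerSeries (Fin n) K))) :=
    ⟨RingHom.injective _, fun z => by
      obtain ⟨f, rfl⟩ := residue_surjective z
      refine ⟨MvPowerSeries.constantCoeff f, Ideal.Quotient.eq.2 ?_⟩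
      rw [hmax, RingHom.mem_ker]
      simp⟩
  let j : K ≃+* ResidueField (MvPowerSeries (Fin n) K) := RingEquiv.ofBijective _ hjs
  have hj : ∀ a : (MvPowerSeries (Fin n) K), residue (MvPowerSeries (Fin n) K) a = j (MvPowerSeries.constantCoeff a) := fun a => Ideal.Quotient.eq.2 (by
    rw [hmax, RingHom.mem_ker]
    simp)
  have hjk : ∀ c, algebraMap k (ResidueField (MvPowerSeries (Fin n) K)) c = j (algebraMap k K c) := fun c => by
    rw [← hcc c, ← hj]
    rfl
  have hreg : IsRegularLocalRing (MvPowerSeries (Fin n) K) := by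
    refine IsRegularLocalRing.of_spanFinrank_maximalIdeal_le _ ?_
    rw [ringKrullDim_mvPowerSeries_regular K n 0 (by simp), zero_add, Nat.cast_le, maximalIdeal_mvPowerSeries,
      IsLocalRing.maximalIdeal_eq_bot, Ideal.map_bot, bot_sup_eq]
    refine (Submodule.spanFinrank_span_le_ncard_of_finite (Set.finite_range _)).trans ?_
    rw [← Set.image_univ]
    exact (Set.ncard_image_le Set.finite_univ).trans (by simp)
  refine ⟨(MvPowerSeries (Fin n) K), inferInstance, inferInstance, inferInstance, inferInstance, inferInstance, ?_,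
    ⟨(AlgEquiv.ofRingEquiv (f := j) fun c => (hjk c).symm).symm⟩, ?_⟩
  · refine S2471.result.2 ⟨hreg, (injective_lTensor_iff_forall_derivation k (MvPowerSeries (Fin n) K)).2 fun d => ?_⟩
    let d' : Derivation ℤ k K := Derivation.mk' (j.symm.toAddMonoidHom.toIntLinearMap ∘ₗ d.toLinearMap) fun a b => by
      show j.symm (d (a * b)) = a • j.symm (d b) + b • j.symm (d a)
      rw [d.leibniz, Algebra.smul_def, Algebra.smul_def, hjk, hjk, map_add, map_mul, map_mul, j.symm_apply_apply,
        j.symm_apply_apply, Algebra.smul_def, Algebra.smul_def]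
    let μ : Ω[K⁄ℤ] × (Fin n → K) →ₗ[K] K :=
      (LinearMap.liftBaseChange K d'.liftKaehlerDifferential) ∘ₗ lam
    let E₀ : Derivation ℤ K K := (μ ∘ₗ LinearMap.inl K _ _).compDer (D ℤ K)
    have hμ : ∀ c, d' c = E₀ (algebraMap k K c) + ∑ i, μ (0, Pi.single i 1) * dl i c := fun c => by
      have h1 : μ (Ψ (1 ⊗ₜ D ℤ k c)) = d' c := by
        show LinearMap.liftBaseChange K d'.liftKaehlerDifferential (lam (Ψ (1 ⊗ₜ D ℤ k c))) = _
        rw [show lam (Ψ _) = _ from LinearMap.congr_fun hlam _, LinearMap.id_apply, LinearMap.liftBaseChange_tmul,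
          one_smul, Derivation.liftKaehlerDifferential_comp_D]
      rw [← h1]
      have h2 : Ψ (1 ⊗ₜ D ℤ k c) = (D ℤ K (algebraMap k K c), fun i => dl i c) := by
        refine Prod.ext ?_ rfl
        show mapBaseChange ℤ k K (1 ⊗ₜ D ℤ k c) = _
        rw [mapBaseChange_tmul, one_smul, map_D]
      rw [h2, show ((D ℤ K (algebraMap k K c), fun i => dl i c) : Ω[K⁄ℤ] × (Fin n → K)) =
        (D ℤ K (algebraMap k K c), 0) + ∑ i, dl i c • ((0 : Ω[K⁄ℤ]), Pi.single i (1 : K)) from by
          refine Prod.ext (by simp [Prod.fst_sum]) (funext fun i => ?_)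
          simp [Prod.snd_sum, Pi.single_apply], map_add, map_sum]
      congr 1
      refine Finset.sum_congr rfl fun i _ => ?_
      rw [map_smul, smul_eq_mul, mul_comm]
    let Em : (MvPowerSeries (Fin n) K) →+ ResidueField (MvPowerSeries (Fin n) K) := j.toAddMonoidHom.comp
      (AddMonoidHom.mk' (fun a => E₀ (MvPowerSeries.constantCoeff a) +
        ∑ i, μ (0, Pi.single i 1) * MvPowerSeries.coeff (Finsupp.single i 1) a) fun a b => by
          simp only [map_add, mul_add, Finset.sum_add_distrib]
          ring)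
    obtain ⟨E, hE⟩ := exists_derivation_of_addMonoidHom Em fun a b => by
      show j (E₀ _ + _) = a • j (E₀ _ + _) + b • j (E₀ _ + _)
      rw [Algebra.smul_def, Algebra.smul_def, IsLocalRing.ResidueField.algebraMap_eq, hj, hj, ← map_mul, ← map_mul,
        ← map_add]
      congr 1
      rw [map_mul, Derivation.leibniz, smul_eq_mul, smul_eq_mul]
      simp only [coeff_single_mul, mul_add, Finset.sum_add_distrib, Finset.mul_sum]
      simp only [mul_left_comm]
      ring
    refine ⟨E, fun c => ?_⟩
    rw [hE]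
    show j (E₀ (MvPowerSeries.constantCoeff (v c)) +
        ∑ i, μ (0, Pi.single i 1) * MvPowerSeries.coeff (Finsupp.single i 1) (v c)) = d c
    rw [hcc, Finset.sum_congr rfl (fun i _ => by rw [hco c i]), ← hμ]
    exact j.apply_symm_apply _
  · rw [ringKrullDim_mvPowerSeries_regular K n 0 (by simp), zero_add]

end Groth.Agent.H05EGA4.FSExistence
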