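import Mathlib
import Groth.Prelude.Def_EGA41

/-!
Formal smoothness for adic topologies: reduction to small extensions, reduction modulo the ideal of
definition, and descent along split extensions of the base.
-/

set_option autoImplicit false
set_option linter.style.haveILetI false
set_option maxHeartbeats 1000000
universe u
open TensorProduct

namespace Groth.Agent.H05EGA4.FSObstruction

variable {A B : Type u} [CommRing A] [CommRing B] [Algebra A B] {𝔞 : Ideal A} {𝔟 : Ideal B}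

/-- It is enough to lift along kernels killed by themselves and by the ideal of definition. -/
theorem of_step
    (step : ∀ (C : Type u) [CommRing C] [Algebra A C] (J : Ideal C), (J ⊔ 𝔞.map (algebraMap A C)) * J = ⊥ →
      (∃ k : ℕ, (𝔞 ^ k).map (algebraMap A C) = ⊥) →
      ∀ u : B →ₐ[A] C ⧸ J, (∃ k : ℕ, ∀ x ∈ 𝔟 ^ k, u x = 0) →
        ∃ v : B →ₐ[A] C, (Ideal.Quotient.mkₐ A J).comp v = u) :
    EGA41.IsFormallySmoothAdic A 𝔞 B 𝔟 := by
  have key : ∀ (n : ℕ) (C : Type u) [CommRing C] [Algebra A C] (J : Ideal C), IsNilpotent J →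
      (J ⊔ 𝔞.map (algebraMap A C)) ^ n * J = ⊥ → (∃ k : ℕ, (𝔞 ^ k).map (algebraMap A C) = ⊥) →
      ∀ u : B →ₐ[A] C ⧸ J, (∃ k : ℕ, ∀ x ∈ 𝔟 ^ k, u x = 0) →
        ∃ v : B →ₐ[A] C, (Ideal.Quotient.mkₐ A J).comp v = u := by
    intro n
    induction n with
    | zero =>
      intro C _ _ J _ hn _ u _
      rw [pow_zero, one_mul] at hn
      subst hn
      let e := AlgEquiv.quotientBot A C
      refine ⟨(e : (C ⧸ (⊥ : Ideal C)) →ₐ[A] C).comp u, AlgHom.ext fun x => ?_⟩
      show Ideal.Quotient.mk ⊥ (e (u x)) = u x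
      obtain ⟨c, hc⟩ := Ideal.Quotient.mk_surjective (u x)
      rw [← hc]; rfl
    | succ n ih =>
      intro C _ _ J hJ hn hk u hu
      let N := J ⊔ 𝔞.map (algebraMap A C)
      let J' := N ^ n * J
      have hJ'J : J' ≤ J := Ideal.mul_le_right
      let π : C →ₐ[A] C ⧸ J' := Ideal.Quotient.mkₐ A J'
      let J₁ : Ideal (C ⧸ J') := J.map π
      have hker : J₁ = RingHom.ker (Ideal.Quotient.factorₐ A hJ'J) := (Ideal.Quotient.factor_ker hJ'J).symm
      let ε : ((C ⧸ J') ⧸ J₁) ≃ₐ[A] C ⧸ J := (Ideal.quotientEquivAlgOfEq A hker).trans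
        (Ideal.quotientKerAlgEquivOfSurjective (Ideal.Quotient.factor_surjective hJ'J))
      have hπN : N.map π = J₁ ⊔ 𝔞.map (algebraMap A (C ⧸ J')) := by
        rw [Ideal.map_sup]
        congr 1
        show (𝔞.map (algebraMap A C)).map π.toRingHom = _
        rw [Ideal.map_map]
        exact congrArg (fun t : A →+* C ⧸ J' => 𝔞.map t) π.comp_algebraMap
      obtain ⟨v₁, hv₁⟩ := ih (C ⧸ J') J₁
        (by
          obtain ⟨m, hm⟩ := hJ
          exact ⟨m, by rw [← Ideal.map_pow, hm, Ideal.zero_eq_bot, Ideal.map_bot]; rfl⟩)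
        (by rw [← hπN, ← Ideal.map_pow, ← Ideal.map_mul]; exact Ideal.map_quotient_self _)
        (by
          obtain ⟨k, hk⟩ := hk
          refine ⟨k, ?_⟩
          rw [show algebraMap A (C ⧸ J') = π.toRingHom.comp (algebraMap A C) from π.comp_algebraMap.symm,
            ← Ideal.map_map, hk, Ideal.map_bot])
        ((ε.symm : (C ⧸ J) →ₐ[A] _).comp u)
        (by obtain ⟨k, hk⟩ := hu; exact ⟨k, fun x hx => by rw [AlgHom.comp_apply, hk x hx, map_zero]⟩)
      have hv₁' : ∀ x, Ideal.Quotient.factorₐ A hJ'J (v₁ x) = u x := by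
        intro x
        have h1 := congrArg ε (DFunLike.congr_fun hv₁ x)
        simp only [AlgHom.comp_apply, AlgEquiv.coe_toAlgHom, AlgEquiv.apply_symm_apply] at h1
        exact h1
      have hcont : ∃ k, ∀ x ∈ 𝔟 ^ k, v₁ x = 0 := by
        obtain ⟨k, hk⟩ := hu
        obtain ⟨m, hm⟩ := hJ
        refine ⟨k * m, fun x hx => ?_⟩
        have hle : (𝔟 ^ k).map v₁ ≤ J₁ := Ideal.map_le_iff_le_comap.mpr fun y hy => by
          rw [Ideal.mem_comap, hker, RingHom.mem_ker, hv₁', hk y hy]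
        have h2 := Ideal.mem_map_of_mem v₁ hx
        rw [pow_mul, Ideal.map_pow] at h2
        have h3 := Ideal.pow_right_mono hle m h2
        rwa [← Ideal.map_pow, hm, Ideal.zero_eq_bot, Ideal.map_bot, Ideal.mem_bot] at h3
      have hstep : (J' ⊔ 𝔞.map (algebraMap A C)) * J' = ⊥ := by
        refine le_bot_iff.mp ((Ideal.mul_mono_left (sup_le_sup_right hJ'J _)).trans ?_)
        show N * (N ^ n * J) ≤ ⊥
        rw [← mul_assoc, ← pow_succ', hn]
      obtain ⟨v, hv⟩ := step C J' hstep hk v₁ hcont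
      refine ⟨v, AlgHom.ext fun x => ?_⟩
      rw [← hv₁' x, ← hv]
      rfl
  intro C _ _ J hJ hk u hu
  obtain ⟨m, hm⟩ := hJ
  obtain ⟨k, hk'⟩ := hk
  refine key (m + k) C J ⟨m, hm⟩ ?_ ⟨k, hk'⟩ u hu
  refine le_bot_iff.mp (Ideal.mul_le_left.trans ((Ideal.sup_pow_add_le_pow_sup_pow).trans ?_))
  rw [hm, ← Ideal.map_pow, hk', Ideal.zero_eq_bot, bot_sup_eq]

theorem mod_of_smooth (h : EGA41.IsFormallySmoothAdic A 𝔞 B 𝔟) :
    EGA41.IsFormallySmoothAdic (A ⧸ 𝔞) ⊥ (B ⧸ 𝔞.map (algebraMap A B))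
      (𝔟.map (Ideal.Quotient.mk (𝔞.map (algebraMap A B)))) := by
  intro C _ _ J hJ _ u hu
  letI : Algebra A C := ((algebraMap (A ⧸ 𝔞) C).comp (Ideal.Quotient.mk 𝔞)).toAlgebra
  haveI : IsScalarTower A (A ⧸ 𝔞) C := .of_algebraMap_eq fun _ => rfl
  let q : B →ₐ[A] B ⧸ 𝔞.map (algebraMap A B) := Ideal.Quotient.mkₐ A _
  obtain ⟨v, hv⟩ := h C J hJ ⟨1, by
      rw [pow_one, IsScalarTower.algebraMap_eq A (A ⧸ 𝔞) C, ← Ideal.map_map]
      show Ideal.map _ (Ideal.map (Ideal.Quotient.mk 𝔞) 𝔞) = ⊥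
      rw [Ideal.map_quotient_self, Ideal.map_bot]⟩
    ((u.restrictScalars A).comp q) (by
      obtain ⟨k, hk⟩ := hu
      refine ⟨k, fun x hx => hk _ ?_⟩
      rw [← Ideal.map_pow]
      exact Ideal.mem_map_of_mem _ hx)
  have hzero : ∀ x ∈ 𝔞.map (algebraMap A B), v x = 0 := fun x hx => by
    have h1 := Ideal.mem_map_of_mem v.toRingHom hx
    rw [Ideal.map_map, show v.toRingHom.comp (algebraMap A B) = algebraMap A C from v.comp_algebraMap,
      IsScalarTower.algebraMap_eq A (A ⧸ 𝔞) C, ← Ideal.map_map] at h1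
    change v x ∈ Ideal.map _ (Ideal.map (Ideal.Quotient.mk 𝔞) 𝔞) at h1
    rwa [Ideal.map_quotient_self, Ideal.map_bot, Ideal.mem_bot] at h1
  let w : (B ⧸ 𝔞.map (algebraMap A B)) →ₐ[A] C := Ideal.Quotient.liftₐ _ v hzero
  refine ⟨w.extendScalarsOfSurjective Ideal.Quotient.mk_surjective, AlgHom.ext fun z => ?_⟩
  obtain ⟨b, rfl⟩ := Ideal.Quotient.mk_surjective z
  exact DFunLike.congr_fun hv b

/-- The extension of `B` by `J` splits when the reduction is formally smooth. -/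
theorem core {C : Type u} [CommRing C] [Algebra A C] (J : Ideal C)
    (hann : ∀ j ∈ J, ∀ i ∈ J ⊔ 𝔞.map (algebraMap A C), i * j = 0)
    (h₀ : EGA41.IsFormallySmoothAdic (A ⧸ 𝔞) ⊥ (B ⧸ 𝔞.map (algebraMap A B))
      (𝔟.map (Ideal.Quotient.mk (𝔞.map (algebraMap A B)))))
    (u : B →ₐ[A] C ⧸ J) (w : B →ₗ[A] C) (hw' : ∀ b, Ideal.Quotient.mk J (w b) = u b)
    (m₁ : ℕ) (K : Ideal B) (hK : K = 𝔞.map (algebraMap A B) ⊔ 𝔟 ^ m₁)
    (hwK : ∀ b ∈ K, ∀ j ∈ J, j * w b = 0) (hwmul : ∀ b ∈ K, ∀ c, w (c * b) = w c * w b)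
    (E : Type u) [CommRing E] [Algebra A E] (p : E →ₐ[A] B) (q : E →ₐ[A] C)
    (hq : ∀ e, Ideal.Quotient.mk J (q e) = u (p e)) (hext : ∀ e, p e = 0 → q e = 0 → e = 0)
    (σ : B → E) (hσp : ∀ b, p (σ b) = b) (hσq : ∀ b, q (σ b) = w b) :
    ∃ v : B →ₐ[A] C, (Ideal.Quotient.mkₐ A J).comp v = u := by
  let I : Ideal E :=
    { carrier := {e | p e ∈ K ∧ q e = w (p e)}
      add_mem' := fun {e f} he hf => ⟨by rw [map_add]; exact K.add_mem he.1 hf.1, by rw [map_add, map_add, map_add, he.2, hf.2]⟩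
      zero_mem' := ⟨by rw [map_zero]; exact K.zero_mem, by rw [map_zero, map_zero, map_zero]⟩
      smul_mem' := fun r e he => ⟨by rw [smul_eq_mul, map_mul]; exact K.mul_mem_left _ he.1, by
        rw [smul_eq_mul, map_mul, map_mul, he.2, hwmul _ he.1]
        have hd : q r - w (p r) ∈ J := by
          rw [← Ideal.Quotient.eq_zero_iff_mem, map_sub, hw', hq, sub_self]
        have h2 := hwK _ he.1 _ hd
        linear_combination h2⟩ }
  have hIa : ∀ a ∈ 𝔞, algebraMap A E a ∈ I := fun a ha => by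
    refine ⟨?_, ?_⟩
    · rw [AlgHom.commutes, hK]; exact Ideal.mem_sup_left (Ideal.mem_map_of_mem _ ha)
    · rw [AlgHom.commutes, AlgHom.commutes, Algebra.algebraMap_eq_smul_one (A := B), map_smul, Algebra.smul_def]
      have h1 : w 1 - 1 ∈ J := by
        rw [← Ideal.Quotient.eq_zero_iff_mem, map_sub, hw', map_one, map_one, sub_self]
      have h2 := hann _ h1 _ (Ideal.mem_sup_right (Ideal.mem_map_of_mem (algebraMap A C) ha))
      linear_combination -h2
  letI := (Ideal.quotientMap I (algebraMap A E) fun a ha => Ideal.mem_comap.mpr (hIa a ha)).toAlgebra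
  haveI : IsScalarTower A (A ⧸ 𝔞) (E ⧸ I) := .of_algebraMap_eq fun _ => rfl
  let K' : Ideal E := K.comap p
  let J₀ : Ideal (E ⧸ I) := K'.map (Ideal.Quotient.mk I)
  have hJ₀ : J₀ ^ 2 = ⊥ := by
    have hkey : ∀ e ∈ K', ∃ e' : E, p e' = 0 ∧ e - e' ∈ I := by
      intro e he
      refine ⟨e - σ (p e), by rw [map_sub, hσp, sub_self], ?_⟩
      rw [sub_sub_cancel]
      exact ⟨by rw [hσp]; exact he, by rw [hσp, hσq]⟩
    show (K'.map (Ideal.Quotient.mk I)) ^ 2 = ⊥
    rw [← Ideal.map_pow, Ideal.map_eq_bot_iff_le_ker, Ideal.mk_ker, sq, Ideal.mul_le]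
    intro e he f hf
    obtain ⟨e', he0, he'⟩ := hkey e he
    obtain ⟨f', hf0, hf'⟩ := hkey f hf
    have hJ' : ∀ x, p x = 0 → q x ∈ J := fun x hx => by
      rw [← Ideal.Quotient.eq_zero_iff_mem, hq, hx, map_zero]
    have h1 : e' * f' ∈ I := by
      refine ⟨?_, ?_⟩
      · rw [map_mul, he0, zero_mul]; exact K.zero_mem
      · rw [map_mul, map_mul, he0, zero_mul, map_zero, hann _ (hJ' _ hf0) _ (Ideal.mem_sup_left (hJ' _ he0))]
    have h2 : e * f = e * (f - f') + (e - e') * f' + e' * f' := by ring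
    rw [h2]
    exact I.add_mem (I.add_mem (I.mul_mem_left _ hf') (I.mul_mem_right _ he')) h1
  -- the map to be lifted
  have hmk : ∀ e e' : E, p e = p e' → Ideal.Quotient.mk J₀ (Ideal.Quotient.mk I e) = Ideal.Quotient.mk J₀ (Ideal.Quotient.mk I e') := by
    intro e e' h
    rw [Ideal.Quotient.eq, ← map_sub]
    refine Ideal.mem_map_of_mem _ ?_
    show p (e - e') ∈ K
    rw [map_sub, h, sub_self]; exact K.zero_mem
  let s : B →ₐ[A] (E ⧸ I) ⧸ J₀ :=
    { toFun := fun b => Ideal.Quotient.mk J₀ (Ideal.Quotient.mk I (σ b))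
      map_one' := by rw [hmk (σ 1) 1 (by rw [hσp, map_one]), map_one, map_one]
      map_mul' := fun x y => by rw [hmk (σ (x * y)) (σ x * σ y) (by rw [hσp, map_mul, hσp, hσp]), map_mul, map_mul]
      map_zero' := by rw [hmk (σ 0) 0 (by rw [hσp, map_zero]), map_zero, map_zero]
      map_add' := fun x y => by rw [hmk (σ (x + y)) (σ x + σ y) (by rw [hσp, map_add, hσp, hσp]), map_add, map_add]
      commutes' := fun a => hmk _ _ (by rw [hσp, AlgHom.commutes]) }
  have hs0 : ∀ b ∈ K, s b = 0 := fun b hb => by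
    show Ideal.Quotient.mk J₀ _ = 0
    rw [Ideal.Quotient.eq_zero_iff_mem]
    exact Ideal.mem_map_of_mem _ (by show p (σ b) ∈ K; rw [hσp]; exact hb)
  let s₀ : (B ⧸ 𝔞.map (algebraMap A B)) →ₐ[A] (E ⧸ I) ⧸ J₀ :=
    Ideal.Quotient.liftₐ _ s fun b hb => hs0 b (hK ▸ Ideal.mem_sup_left hb)
  obtain ⟨h, hh⟩ := h₀ (E ⧸ I) J₀ ⟨2, hJ₀⟩ ⟨1, by rw [pow_one, Ideal.map_bot]⟩
    (s₀.extendScalarsOfSurjective Ideal.Quotient.mk_surjective) ⟨m₁, fun x hx => by
      rw [← Ideal.map_pow] at hx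
      obtain ⟨b, hb, rfl⟩ := (Ideal.mem_map_iff_of_surjective _ Ideal.Quotient.mk_surjective).mp hx
      exact hs0 b (hK ▸ Ideal.mem_sup_right hb)⟩
  -- the normalised representative
  let G : Subalgebra A E := AlgHom.equalizer (Ideal.Quotient.mkₐ A I)
    ((h.restrictScalars A).comp ((Ideal.Quotient.mkₐ A (𝔞.map (algebraMap A B))).comp p))
  have hbij : Function.Bijective (p.comp G.val) := by
    refine ⟨(injective_iff_map_eq_zero _).mpr fun g hg => ?_, fun b => ?_⟩
    · change p g.1 = 0 at hg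
      have hg' := g.2
      change Ideal.Quotient.mk I g.1 = h (Ideal.Quotient.mk _ (p g.1)) at hg'
      rw [hg, map_zero, map_zero, Ideal.Quotient.eq_zero_iff_mem] at hg'
      exact Subtype.ext (hext _ hg (by rw [hg'.2, hg, map_zero]))
    · obtain ⟨e, he⟩ := Ideal.Quotient.mk_surjective (h (Ideal.Quotient.mk _ b))
      have h1 : Ideal.Quotient.mk J₀ (Ideal.Quotient.mk I e) = s b :=
        (congrArg _ he).trans (DFunLike.congr_fun hh (Ideal.Quotient.mk _ b))
      change _ = Ideal.Quotient.mk J₀ (Ideal.Quotient.mk I (σ b)) at h1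
      rw [Ideal.Quotient.eq, ← map_sub] at h1
      obtain ⟨d, hd, hd'⟩ := (Ideal.mem_map_iff_of_surjective _ Ideal.Quotient.mk_surjective).mp h1
      rw [Ideal.Quotient.eq] at hd'
      have hKe : p e - b ∈ K := by
        have h2 : p d ∈ K := hd
        have h3 := hd'.1
        rw [map_sub, map_sub, hσp] at h3
        have := K.sub_mem h2 h3
        rwa [sub_sub_cancel] at this
      let e' : E := e - σ (p e - b)
      have hb' : p e' = b := by rw [map_sub, hσp, sub_sub_cancel]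
      refine ⟨⟨e', ?_⟩, hb'⟩
      show Ideal.Quotient.mk I e' = h (Ideal.Quotient.mk _ (p e'))
      rw [hb', ← he, Ideal.Quotient.eq]
      refine neg_mem_iff.mp ?_
      rw [neg_sub, sub_sub_cancel]
      exact ⟨by rw [hσp]; exact hKe, by rw [hσp, hσq]⟩
  refine ⟨(q.comp G.val).comp (AlgEquiv.ofBijective _ hbij).symm.toAlgHom, AlgHom.ext fun b => ?_⟩
  show Ideal.Quotient.mk J (q ((AlgEquiv.ofBijective _ hbij).symm b).1) = u b
  rw [hq]
  congr 1
  exact (AlgEquiv.ofBijective _ hbij).apply_symm_apply b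

theorem smooth_of_mod
    (hproj : ∀ (n : ℕ) (P Q : Type u) [AddCommGroup P] [Module A P] [AddCommGroup Q] [Module A Q],
      (∀ a ∈ 𝔞 ^ n, ∀ y : P, a • y = 0) → (∀ a ∈ 𝔞 ^ n, ∀ y : Q, a • y = 0) →
      ∀ f : P →ₗ[A] Q, Function.Surjective f → ∀ v : B →ₗ[A] Q, (∃ m : ℕ, ∀ x ∈ 𝔟 ^ m, v x = 0) →
        ∃ w : B →ₗ[A] P, (∃ m : ℕ, ∀ x ∈ 𝔟 ^ m, w x = 0) ∧ f ∘ₗ w = v)
    (h₀ : EGA41.IsFormallySmoothAdic (A ⧸ 𝔞) ⊥ (B ⧸ 𝔞.map (algebraMap A B))
      (𝔟.map (Ideal.Quotient.mk (𝔞.map (algebraMap A B))))) :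
    EGA41.IsFormallySmoothAdic A 𝔞 B 𝔟 := by
  refine of_step fun C _ _ J hJ hk u hu => ?_
  obtain ⟨k, hk⟩ := hk
  have hkC : ∀ a ∈ 𝔞 ^ k, algebraMap A C a = 0 := fun a ha => by
    have := Ideal.mem_map_of_mem (algebraMap A C) ha
    rwa [hk, Ideal.mem_bot] at this
  have hann : ∀ j ∈ J, ∀ i ∈ J ⊔ 𝔞.map (algebraMap A C), i * j = 0 := fun j hj i hi => by
    have := Ideal.mul_mem_mul hi hj
    rwa [hJ, Ideal.mem_bot] at this
  obtain ⟨w, ⟨m₁, hm₁⟩, hw⟩ := hproj k C (C ⧸ J)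
    (fun a ha y => by rw [Algebra.smul_def, hkC a ha, zero_mul])
    (fun a ha y => by rw [Algebra.smul_def, IsScalarTower.algebraMap_apply A C (C ⧸ J), hkC a ha, map_zero, zero_mul])
    (Ideal.Quotient.mkₐ A J).toLinearMap Ideal.Quotient.mk_surjective u.toLinearMap
    (by obtain ⟨m, hm⟩ := hu; exact ⟨m, hm⟩)
  have hw' : ∀ b, Ideal.Quotient.mk J (w b) = u b := fun b => LinearMap.congr_fun hw b
  let K : Ideal B := 𝔞.map (algebraMap A B) ⊔ 𝔟 ^ m₁
  have hwK : ∀ b ∈ K, ∀ j ∈ J, j * w b = 0 := by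
    intro b hb j hj
    obtain ⟨y, hy, z, hz, rfl⟩ := Submodule.mem_sup.mp hb
    rw [map_add, hm₁ z hz, add_zero]
    rw [Ideal.map] at hy
    clear hz hb
    induction hy using Submodule.span_induction generalizing j with
    | mem x hx =>
      obtain ⟨a, ha, rfl⟩ := hx
      rw [Algebra.algebraMap_eq_smul_one, map_smul, Algebra.smul_def, ← mul_assoc]
      rw [mul_comm j (algebraMap A C a), hann j hj _ (Ideal.mem_sup_right (Ideal.mem_map_of_mem _ ha)), zero_mul]
    | zero => rw [map_zero, mul_zero]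
    | add x y _ _ hx hy => rw [map_add, mul_add, hx j hj, hy j hj, add_zero]
    | smul c x _ hx =>
      have hd : w (c * x) - w c * w x ∈ J := by
        rw [← Ideal.Quotient.eq_zero_iff_mem, map_sub, hw', map_mul, map_mul, hw', hw', sub_self]
      rw [smul_eq_mul, show w (c * x) = (w (c * x) - w c * w x) + w c * w x by ring, mul_add,
        hann _ hd j (Ideal.mem_sup_left hj), zero_add, ← mul_assoc, mul_comm j (w c), mul_assoc, hx j hj, mul_zero]
  have hwmul : ∀ b ∈ K, ∀ c, w (c * b) = w c * w b := by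
    intro b hb c
    obtain ⟨y, hy, z, hz, rfl⟩ := Submodule.mem_sup.mp hb
    rw [mul_add, map_add, map_add, hm₁ z hz, hm₁ _ (Ideal.mul_mem_left _ c hz), add_zero, add_zero]
    rw [Ideal.map] at hy
    clear hz hb
    induction hy using Submodule.span_induction generalizing c with
    | mem x hx =>
      obtain ⟨a, ha, rfl⟩ := hx
      rw [← Algebra.commutes, ← Algebra.smul_def, map_smul, Algebra.algebraMap_eq_smul_one, map_smul, Algebra.smul_def,
        Algebra.smul_def]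
      have h1 : w 1 - 1 ∈ J := by
        rw [← Ideal.Quotient.eq_zero_iff_mem, map_sub, hw', map_one, map_one, sub_self]
      have h2 := hann _ h1 _ (Ideal.mem_sup_right (Ideal.mem_map_of_mem (algebraMap A C) ha))
      linear_combination (-(w c)) * h2
    | zero => rw [mul_zero, map_zero, mul_zero]
    | add x y _ _ hx hy => rw [mul_add, map_add, map_add, mul_add, hx c, hy c]
    | smul d x hx0 hx =>
      rw [smul_eq_mul, ← mul_assoc, hx (c * d), hx d]
      have hd : w (c * d) - w c * w d ∈ J := by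
        rw [← Ideal.Quotient.eq_zero_iff_mem, map_sub, hw', map_mul, map_mul, hw', hw', sub_self]
      have h2 := hwK x (Ideal.mem_sup_left hx0) _ hd
      linear_combination h2
  let E : Subalgebra A (C × B) :=
    AlgHom.equalizer ((Ideal.Quotient.mkₐ A J).comp (AlgHom.fst A C B)) (u.comp (AlgHom.snd A C B))
  exact core J hann h₀ u w hw' m₁ K rfl hwK hwmul E ((AlgHom.snd A C B).comp E.val) ((AlgHom.fst A C B).comp E.val)
    (fun e => e.2) (fun e h1 h2 => Subtype.ext (Prod.ext h2 h1)) (fun b => ⟨(w b, b), hw' b⟩) (fun _ => rfl)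
    (fun _ => rfl)

theorem exists_retraction (A A' : Type u) [CommRing A] [CommRing A'] [Algebra A A'] [Module.FaithfullyFlat A A']
    [Module.Finite A A'] [Module.Projective A A'] : ∃ ρ : A' →ₗ[A] A, ρ 1 = 1 := by
  haveI := Module.finitePresentation_of_projective A A'
  let ι : A →ₗ[A] A' := (Algebra.ofId A A').toLinearMap
  let I : Ideal A := LinearMap.range (LinearMap.applyₗ (1 : A') : (A' →ₗ[A] A) →ₗ[A] A)
  have hI : I = ⊤ := by
    obtain ⟨n, f, g, hf, hg, hfg⟩ := Module.Finite.exists_comp_eq_id_of_projective A A'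
    have h1 : (1 : A') ∈ I • (⊤ : Submodule A A') := by
      have : (1 : A') = ∑ i, g 1 i • f (Pi.single i 1) := by
        conv_lhs => rw [← LinearMap.id_apply (R := A) (1 : A'), ← hfg, LinearMap.comp_apply, pi_eq_sum_univ' (g 1)]
        simp [map_sum, map_smul]
      rw [this]
      exact sum_mem fun i _ => Submodule.smul_mem_smul ⟨(LinearMap.proj i).comp g, rfl⟩ trivial
    by_contra hne
    obtain ⟨m, hm, hle⟩ := I.exists_le_maximal hne
    refine Module.FaithfullyFlat.submodule_ne_top (R := A) (M := A') hm (eq_top_iff.mpr fun z _ => ?_)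
    have h2 : (1 : A') ∈ m.map (algebraMap A A') := by
      have := Submodule.smul_mono_left hle h1
      rwa [Ideal.smul_top_eq_map, Submodule.restrictScalars_mem] at this
    rw [Ideal.smul_top_eq_map, Submodule.restrictScalars_mem]
    have := Ideal.mul_mem_left _ z h2
    rwa [mul_one] at this
  have : (1 : A) ∈ I := hI ▸ Submodule.mem_top
  obtain ⟨ρ, hρ⟩ := this
  exact ⟨ρ, hρ⟩

theorem baseChange_iff {A' : Type u} [CommRing A'] [Algebra A A'] [Module.FaithfullyFlat A A'] [Module.Finite A A']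
    [Module.Projective A A'] :
    EGA41.IsFormallySmoothAdic A' (𝔞.map (algebraMap A A')) (A' ⊗[A] B)
        ((𝔞.map (algebraMap A A')).map (algebraMap A' (A' ⊗[A] B)) ⊔
          𝔟.map (Algebra.TensorProduct.includeRight : B →ₐ[A] A' ⊗[A] B).toRingHom) ↔
      EGA41.IsFormallySmoothAdic A 𝔞 B 𝔟 := by
  refine ⟨fun h => of_step fun C _ _ J hJ hk u hu => ?_, fun h C _ _ J hJ hk u hu => ?_⟩
  · obtain ⟨ρ, hρ⟩ := exists_retraction A A'
    obtain ⟨k, hk⟩ := hk
    obtain ⟨m, hm⟩ := hu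
    let i : C →ₐ[A] A' ⊗[A] C := Algebra.TensorProduct.includeRight
    let J' : Ideal (A' ⊗[A] C) := J.map i
    let φ : (C ⧸ J) →ₐ[A] (A' ⊗[A] C) ⧸ J' := Ideal.quotientMapₐ J' i Ideal.le_comap_map
    let u' : A' ⊗[A] B →ₐ[A'] (A' ⊗[A] C) ⧸ J' :=
      Algebra.TensorProduct.lift (Algebra.ofId A' _) (φ.comp u) fun _ _ => Commute.all _ _
    have hJJ : J * J = ⊥ := le_bot_iff.mp ((Ideal.mul_mono_left le_sup_left).trans hJ.le)
    have hJ' : J' * J' = ⊥ := by rw [← Ideal.map_mul, hJJ, Ideal.map_bot]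
    have hk' : ((𝔞.map (algebraMap A A')) ^ k).map (algebraMap A' (A' ⊗[A] C)) = ⊥ := by
      rw [← Ideal.map_pow, Ideal.map_map, ← IsScalarTower.algebraMap_eq,
        show algebraMap A (A' ⊗[A] C) = i.toRingHom.comp (algebraMap A C) from i.comp_algebraMap.symm,
        ← Ideal.map_map, hk, Ideal.map_bot]
    have hcont : ∃ N : ℕ, ∀ x ∈ ((𝔞.map (algebraMap A A')).map (algebraMap A' (A' ⊗[A] B)) ⊔
        𝔟.map (Algebra.TensorProduct.includeRight : B →ₐ[A] A' ⊗[A] B).toRingHom) ^ N, u' x = 0 := by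
      refine ⟨k + m, fun x hx => ?_⟩
      refine (?_ : _ ≤ RingHom.ker u') (Ideal.sup_pow_add_le_pow_sup_pow hx)
      refine sup_le ?_ ?_
      · rw [← Ideal.map_pow, Ideal.map_le_iff_le_comap]
        intro a ha
        rw [Ideal.mem_comap, RingHom.mem_ker, AlgHom.commutes, IsScalarTower.algebraMap_apply A' (A' ⊗[A] C)]
        have := Ideal.mem_map_of_mem (algebraMap A' (A' ⊗[A] C)) ha
        rw [hk', Ideal.mem_bot] at this
        rw [this, map_zero]
      · rw [← Ideal.map_pow, Ideal.map_le_iff_le_comap]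
        intro b hb
        show u' ((1 : A') ⊗ₜ[A] b) = 0
        rw [Algebra.TensorProduct.lift_tmul, map_one, one_mul, AlgHom.comp_apply, hm b hb, map_zero]
    obtain ⟨v', hv'⟩ := h (A' ⊗[A] C) J' ⟨2, by rw [sq, hJ']; rfl⟩ ⟨k, hk'⟩ u' hcont
    let R : A' ⊗[A] C →ₗ[A] C := (TensorProduct.lid A C).toLinearMap ∘ₗ ρ.rTensor C
    have hR1 : ∀ c, R (i c) = c := fun c => by
      show TensorProduct.lid A C (ρ.rTensor C ((1 : A') ⊗ₜ c)) = c
      rw [LinearMap.rTensor_tmul, hρ, TensorProduct.lid_tmul, one_smul]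
    have hRlin : ∀ z c, R (z * i c) = R z * c := fun z c => by
      induction z using TensorProduct.induction_on with
      | zero => rw [zero_mul, map_zero, zero_mul]
      | tmul a d =>
        show TensorProduct.lid A C (ρ.rTensor C ((a ⊗ₜ d) * ((1 : A') ⊗ₜ c))) =
          TensorProduct.lid A C (ρ.rTensor C (a ⊗ₜ d)) * c
        rw [Algebra.TensorProduct.tmul_mul_tmul, mul_one, LinearMap.rTensor_tmul, LinearMap.rTensor_tmul,
          TensorProduct.lid_tmul, TensorProduct.lid_tmul, smul_mul_assoc]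
      | add z w hz hw => rw [add_mul, map_add, hz, hw, map_add, add_mul]
    have hRJ : ∀ z ∈ J', R z ∈ J := by
      intro z hz
      rw [show J' = J.map i from rfl, Ideal.map] at hz
      induction hz using Submodule.span_induction with
      | mem x hx => obtain ⟨j, hj, rfl⟩ := hx; rw [hR1]; exact hj
      | zero => rw [map_zero]; exact J.zero_mem
      | add x y _ _ hx hy => rw [map_add]; exact J.add_mem hx hy
      | smul c x hx0 hxR =>
        clear hxR
        induction hx0 using Submodule.span_induction generalizing c with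
        | mem x hx =>
          obtain ⟨j, hj, rfl⟩ := hx
          rw [smul_eq_mul, hRlin]; exact J.mul_mem_left _ hj
        | zero => rw [smul_zero, map_zero]; exact J.zero_mem
        | add x y _ _ hx hy => rw [smul_add, map_add]; exact J.add_mem (hx c) (hy c)
        | smul d x _ hx => rw [smul_smul]; exact hx (c * d)
    let g : B →ₗ[A] C := R ∘ₗ ((v'.restrictScalars A).comp Algebra.TensorProduct.includeRight).toLinearMap
    have hg : ∀ b, ∃ c j, j ∈ J' ∧ v' ((1 : A') ⊗ₜ b) = i c + j ∧ Ideal.Quotient.mk J c = u b := by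
      intro b
      obtain ⟨c, hc⟩ := Ideal.Quotient.mk_surjective (u b)
      refine ⟨c, v' ((1 : A') ⊗ₜ b) - i c, ?_, (add_sub_cancel _ _).symm, hc⟩
      have h1 := DFunLike.congr_fun hv' ((1 : A') ⊗ₜ b)
      rw [AlgHom.comp_apply, Ideal.Quotient.mkₐ_eq_mk, Algebra.TensorProduct.lift_tmul, map_one, one_mul,
        AlgHom.comp_apply, ← hc] at h1
      exact Ideal.Quotient.eq.mp h1
    refine ⟨AlgHom.ofLinearMap g ?_ ?_, AlgHom.ext fun b => ?_⟩
    · show R (v' ((1 : A') ⊗ₜ (1 : B))) = 1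
      rw [← Algebra.TensorProduct.one_def, map_one, ← map_one i, hR1]
    · intro x y
      obtain ⟨c, j, hj, hx, -⟩ := hg x
      obtain ⟨d, l, hl, hy, -⟩ := hg y
      show R (v' ((1 : A') ⊗ₜ (x * y))) = R (v' ((1 : A') ⊗ₜ x)) * R (v' ((1 : A') ⊗ₜ y))
      rw [show ((1 : A') ⊗ₜ[A] (x * y)) = ((1 : A') ⊗ₜ x) * ((1 : A') ⊗ₜ y) by
        rw [Algebra.TensorProduct.tmul_mul_tmul, one_mul], map_mul, hx, hy]
      have hjl : j * l = 0 := by
        have := Ideal.mul_mem_mul hj hl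
        rwa [hJ', Ideal.mem_bot] at this
      have hRjl : R j * R l = 0 := by
        have := Ideal.mul_mem_mul (hRJ j hj) (hRJ l hl)
        rwa [hJJ, Ideal.mem_bot] at this
      rw [show (i c + j) * (i d + l) = i (c * d) + j * i d + l * i c + j * l by rw [map_mul]; ring, hjl, add_zero]
      simp only [map_add, hR1, hRlin]
      linear_combination -hRjl
    · obtain ⟨c, j, hj, hx, hc⟩ := hg b
      show Ideal.Quotient.mk J (R (v' ((1 : A') ⊗ₜ b))) = u b
      rw [hx, map_add, hR1, map_add, hc, Ideal.Quotient.eq_zero_iff_mem.mpr (hRJ j hj), add_zero]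
  · letI : Algebra A C := ((algebraMap A' C).comp (algebraMap A A')).toAlgebra
    haveI : IsScalarTower A A' C := .of_algebraMap_eq fun _ => rfl
    obtain ⟨v, hv⟩ := h C J hJ (by
        obtain ⟨k, hk⟩ := hk
        exact ⟨k, by rw [IsScalarTower.algebraMap_eq A A' C, ← Ideal.map_map, Ideal.map_pow, hk]⟩)
      ((u.restrictScalars A).comp Algebra.TensorProduct.includeRight) (by
        obtain ⟨k, hk⟩ := hu
        refine ⟨k, fun x hx => hk _ (Ideal.pow_right_mono le_sup_right k ?_)⟩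
        rw [← Ideal.map_pow]
        exact Ideal.mem_map_of_mem _ hx)
    refine ⟨Algebra.TensorProduct.lift (Algebra.ofId A' C) v (fun x y => mul_comm _ _),
      Algebra.TensorProduct.ext (Subsingleton.elim _ _) (AlgHom.ext fun b => ?_)⟩
    show Ideal.Quotient.mk J (Algebra.TensorProduct.lift (Algebra.ofId A' C) v (fun x y => mul_comm _ _) ((1 : A') ⊗ₜ[A] b)) = u ((1 : A') ⊗ₜ[A] b)
    rw [Algebra.TensorProduct.lift_tmul, map_one, one_mul]
    exact DFunLike.congr_fun hv b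

end Groth.Agent.H05EGA4.FSObstruction
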