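import Mathlib
import Groth.Agent.H21Desc.FlatMonoFactor2
import Groth.Agent.H13Desc.Flat
import Groth.Agent.H8Props.FormallyEtale

/-!
Factorisation of flat morphisms into formally unramified schemes (EGA-style etale hull, helper5).
-/

set_option autoImplicit false
set_option linter.style.haveILetI false
universe u
open Groth.Agent CategoryTheory CategoryTheory.Limits AlgebraicGeometry TopologicalSpace TensorProduct

namespace Groth.Agent.H05EGA4.FUFac

/-- A surjective ring map with idempotent kernel becomes an open immersion over any locally Noetherian scheme. -/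
theorem isOpenImmersion_snd_of_surjective {D C : CommRingCat.{u}} (φ : D ⟶ C) (hφ : Function.Surjective φ)
    (hI : RingHom.ker φ.hom * RingHom.ker φ.hom = RingHom.ker φ.hom) {P : Scheme.{u}} [IsLocallyNoetherian P]
    (q : P ⟶ Spec D) : IsOpenImmersion (pullback.snd (Spec.map φ) q) := by
  wlog hP : ∃ R, P = Spec R generalizing P with H
  · rw [IsZariskiLocalAtTarget.iff_of_openCover (P := @IsOpenImmersion) P.affineCover]
    intro i
    haveI : IsLocallyNoetherian (P.affineCover.X i) := isLocallyNoetherian_of_isOpenImmersion (P.affineCover.f i)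
    haveI := H (P.affineCover.f i ≫ q) ⟨_, rfl⟩
    show IsOpenImmersion (pullback.snd (pullback.snd (Spec.map φ) q) (P.affineCover.f i))
    rw [← pullbackLeftPullbackSndIso_hom_snd]
    infer_instance
  obtain ⟨R, rfl⟩ := hP
  obtain ⟨ψ, rfl⟩ := Spec.map_surjective q
  haveI : IsNoetherianRing R := isLocallyNoetherian_Spec.mp ‹_›
  algebraize [φ.hom, ψ.hom]
  have e : pullback.snd (Spec.map φ) (Spec.map ψ) = (pullbackSpecIso D C R).hom ≫
      Spec.map (CommRingCat.ofHom (Algebra.TensorProduct.includeRight (R := D) (A := C) (B := R)).toRingHom) := by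
    rw [← Iso.inv_comp_eq]
    exact pullbackSpecIso_inv_snd D C R
  rw [e]
  have hs : Function.Surjective (Algebra.TensorProduct.includeRight (R := D) (A := C) (B := R)) :=
    Algebra.TensorProduct.includeRight_surjective _ hφ
  haveI : IsOpenImmersion (Spec.map (CommRingCat.ofHom
      (Algebra.TensorProduct.includeRight (R := D) (A := C) (B := R)).toRingHom)) := by
    rw [isOpenImmersion_SpecMap_iff_of_surjective _ hs]
    refine (Ideal.isIdempotentElem_iff_of_fg _ (IsNoetherian.noetherian _)).mp ?_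
    have hk : RingHom.ker (Algebra.TensorProduct.includeRight (R := D) (A := C) (B := R)).toRingHom =
        (RingHom.ker φ.hom).map (algebraMap D R) := by
      have h1 := Algebra.TensorProduct.rTensor_ker (R := D) (C := R) (IsScalarTower.toAlgHom D D C) hφ
      apply le_antisymm
      · intro x hx
        have : (1 : D) ⊗ₜ[D] x ∈ RingHom.ker
            (Algebra.TensorProduct.map (IsScalarTower.toAlgHom D D C) (AlgHom.id D R)) := by
          rw [RingHom.mem_ker, Algebra.TensorProduct.map_tmul, map_one]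
          exact hx
        rw [h1] at this
        have h2 := Ideal.mem_map_of_mem (Algebra.TensorProduct.lid D R).toAlgHom this
        rw [Ideal.map_mapₐ] at h2
        have hx1 : (Algebra.TensorProduct.lid D R).toAlgHom ((1 : D) ⊗ₜ[D] x) = x := by simp
        erw [hx1] at h2
        have he : ((Algebra.TensorProduct.lid D R).toAlgHom.comp Algebra.TensorProduct.includeLeft : D →ₐ[D] R) =
            Algebra.ofId D R := Subsingleton.elim _ _
        rw [AlgEquiv.toAlgHom_eq_coe] at he
        rw [he] at h2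
        exact h2
      · rw [Ideal.map_le_iff_le_comap]
        intro d hd
        rw [Ideal.mem_comap, RingHom.mem_ker]
        show (1 : C) ⊗ₜ[D] algebraMap D R d = 0
        rw [Algebra.algebraMap_eq_smul_one, ← TensorProduct.smul_tmul, ← Algebra.algebraMap_eq_smul_one]
        rw [show algebraMap D C d = 0 from hd, TensorProduct.zero_tmul]
    show IsIdempotentElem (RingHom.ker (Algebra.TensorProduct.includeRight (R := D) (A := C) (B := R)).toRingHom)
    rw [hk, IsIdempotentElem, ← Ideal.map_mul, hI]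
  infer_instance

/-- The affine case of `isOpenImmersion_snd_diagonal`. -/
theorem isOpenImmersion_of_affine {X Y : Scheme.{u}} [IsAffine X] [IsAffine Y] (g : X ⟶ Y) [FormallyUnramified g]
    {P T : Scheme.{u}} [IsLocallyNoetherian P] {k : T ⟶ X} {t : T ⟶ P} {q : P ⟶ pullback g g}
    (h : IsPullback k t (pullback.diagonal g) q) : IsOpenImmersion t := by
  have hH := HasRingHomProperty.iff_of_isAffine (P := @FormallyUnramified) (f := g).mp ‹_›
  let e : Arrow.mk g ≅ Arrow.mk (Spec.map g.appTop) := arrowIsoSpecΓOfIsAffine g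
  let R := Γ(Y, ⊤)
  let A := Γ(X, ⊤)
  letI : Algebra R A := g.appTop.hom.toAlgebra
  haveI : Algebra.FormallyUnramified R A := hH
  let eP : pullback g g ≅ pullback (Spec.map g.appTop) (Spec.map g.appTop) :=
    asIso (pullback.map g g (Spec.map g.appTop) (Spec.map g.appTop) e.hom.left e.hom.left e.hom.right e.hom.w.symm
      e.hom.w.symm)
  have hd : pullback.diagonal g ≫ eP.hom = e.hom.left ≫ pullback.diagonal (Spec.map g.appTop) := by
    apply pullback.hom_ext <;> simp [eP, pullback.map, pullback.lift_fst, pullback.lift_snd]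
  have h2 : IsPullback (k ≫ e.hom.left) t (pullback.diagonal (Spec.map g.appTop)) (q ≫ eP.hom) :=
    h.of_iso (Iso.refl _) (Arrow.leftFunc.mapIso e) (Iso.refl _) eP
      (by simp) (by simp) (by simpa using hd) (by simp)
  let F : CommRingCat.of (A ⊗[R] A) ⟶ A := CommRingCat.ofHom (Algebra.TensorProduct.lmul' R (S := A)).toRingHom
  have hS : pullback.diagonal (Spec.map g.appTop) = Spec.map F ≫ (pullbackSpecIso R A A).inv :=
    diagonal_SpecMap R A
  have h3 : IsPullback (k ≫ e.hom.left) t (Spec.map F) ((q ≫ eP.hom) ≫ (pullbackSpecIso R A A).hom) :=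
    h2.of_iso (Iso.refl _) (Iso.refl _) (Iso.refl _) (pullbackSpecIso R A A) (by simp) (by simp)
      (by rw [hS]; erw [Category.assoc, Iso.inv_hom_id, Category.comp_id]) (by simp)
  rw [← h3.isoPullback_hom_snd]
  haveI := isOpenImmersion_snd_of_surjective F (fun x => ⟨x ⊗ₜ 1, by simp [F]⟩)
    ((Ideal.cotangent_subsingleton_iff _).mp (inferInstanceAs (Subsingleton Ω[A⁄R])))
    ((q ≫ eP.hom) ≫ (pullbackSpecIso R A A).hom)
  infer_instance

/-- The diagonal of a formally unramified morphism becomes an open immersion over any locally Noetherian scheme. -/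
theorem isOpenImmersion_snd_diagonal {X Y : Scheme.{u}} (f : X ⟶ Y) [FormallyUnramified f] {P : Scheme.{u}}
    [IsLocallyNoetherian P] (q : P ⟶ pullback f f) : IsOpenImmersion (pullback.snd (pullback.diagonal f) q) := by
  let 𝒰Y := Y.affineCover
  let 𝒰X (j : (Y.affineCover.pullback₁ f).I₀) :
      ((Y.affineCover.pullback₁ f).X j).OpenCover := Scheme.affineCover _
  let cov := Scheme.Pullback.diagonalCover f 𝒰Y 𝒰X
  let O := fun j => q ⁻¹ᵁ (cov.f j).opensRange
  let d := pullback.diagonal f
  let s := pullback.snd d q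
  apply IsZariskiLocalAtTarget.of_range_subset_iSup (P := @IsOpenImmersion)
    (fun i : Σ i, (𝒰X i).I₀ => q ⁻¹ᵁ (cov.f ⟨i.1, i.2, i.2⟩).opensRange)
  · rintro _ ⟨x, rfl⟩
    have h1 : (pullback.fst d q ≫ d).base x = (pullback.snd d q ≫ q).base x :=
      congr($(pullback.condition (f := d) (g := q)).base x)
    have h2 := Scheme.Pullback.range_diagonal_subset_diagonalCoverDiagonalRange f 𝒰Y 𝒰X
      ⟨(pullback.fst d q).base x, rfl⟩
    simp only [Scheme.Pullback.diagonalCoverDiagonalRange, SetLike.mem_coe, Opens.mem_iSup] at h2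
    obtain ⟨i, hi⟩ := h2
    refine Opens.mem_iSup.mpr ⟨i, ?_⟩
    show q.base (s.base x) ∈ (cov.f ⟨i.1, i.2, i.2⟩).opensRange
    rw [← Scheme.Hom.comp_apply, show s ≫ q = pullback.fst d q ≫ d from pullback.condition.symm]
    exact hi
  rintro ⟨i, j⟩
  let W := (cov.f ⟨i, j, j⟩).opensRange
  have hA := (isPullback_morphismRestrict s (q ⁻¹ᵁ W)).paste_vert (IsPullback.of_hasPullback d q).flip
  have hw : (q ⁻¹ᵁ W).ι ≫ q = (q ∣_ W) ≫ W.ι := (morphismRestrict_ι q W).symm
  rw [hw] at hA
  have hB := isPullback_morphismRestrict d W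
  obtain ⟨k, hk1, hk2⟩ : ∃ k, k ≫ d ∣_ W = s ∣_ (q ⁻¹ᵁ W) ≫ q ∣_ W ∧ k ≫ (d ⁻¹ᵁ W).ι =
      (s ⁻¹ᵁ (q ⁻¹ᵁ W)).ι ≫ pullback.fst d q :=
    ⟨hB.lift _ _ (by rw [Category.assoc, ← hA.w]), hB.lift_fst _ _ _, hB.lift_snd _ _ _⟩
  have hC : IsPullback k (s ∣_ (q ⁻¹ᵁ W)) (d ∣_ W) (q ∣_ W) :=
    IsPullback.of_right (by rw [hk2]; exact hA.flip) hk1 hB.flip
  let eA := Scheme.Pullback.diagonalRestrictIsoDiagonal f 𝒰Y 𝒰X i j
  let g := (𝒰X i).f j ≫ pullback.snd f (𝒰Y.f i)
  haveI : IsLocallyNoetherian (q ⁻¹ᵁ W).toScheme := isLocallyNoetherian_of_isOpenImmersion (q ⁻¹ᵁ W).ι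
  have hD : IsPullback (k ≫ eA.hom.left) (s ∣_ (q ⁻¹ᵁ W)) (pullback.diagonal g) (q ∣_ W ≫ eA.hom.right) :=
    hC.of_iso (Iso.refl _) (Arrow.leftFunc.mapIso eA) (Iso.refl _) (Arrow.rightFunc.mapIso eA)
      (by simp) (by simp) (Arrow.w eA.hom).symm (by simp)
  haveI : FormallyUnramified g := MorphismProperty.comp_mem _ _ _ inferInstance
    (MorphismProperty.pullback_snd _ _ inferInstance)
  exact isOpenImmersion_of_affine g hD

variable {X Y S : Scheme.{u}}

/-- Over a Noetherian base the kernel pair of a map to a formally unramified scheme is open in the fibre square. -/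
theorem flat_lfp_fst [IsNoetherian S] (a : X ⟶ S) [Flat a] [LocallyOfFinitePresentation a] (b : Y ⟶ S)
    [FormallyUnramified b] (h : X ⟶ Y) (w : h ≫ b = a) :
    Flat (pullback.fst h h) ∧ LocallyOfFinitePresentation (pullback.fst h h) := by
  subst w
  have sq := pullback_map_diagonal_isPullback h h b
  haveI : IsLocallyNoetherian (pullback (h ≫ b) (h ≫ b)) := by
    haveI : IsLocallyNoetherian X := LocallyOfFiniteType.isLocallyNoetherian (h ≫ b)
    exact LocallyOfFiniteType.isLocallyNoetherian (pullback.fst (h ≫ b) (h ≫ b))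
  haveI : IsOpenImmersion (pullback.map h h (h ≫ b) (h ≫ b) (𝟙 X) (𝟙 X) b (by simp) (by simp)) := by
    rw [← sq.isoPullback_hom_snd]
    haveI := isOpenImmersion_snd_diagonal b
      (pullback.map (h ≫ b) (h ≫ b) b b h h (𝟙 S) (by simp) (by simp))
    infer_instance
  have e : pullback.fst h h = pullback.map h h (h ≫ b) (h ≫ b) (𝟙 X) (𝟙 X) b (by simp) (by simp) ≫
      pullback.fst (h ≫ b) (h ≫ b) := by simp [pullback.map, pullback.lift_fst]
  rw [e]
  exact ⟨inferInstance, inferInstance⟩

/-- Square zero ideals give square zero ideal sheaves. -/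
theorem ker_mul_ker {A : Type u} [CommRing A] (I : Ideal A) (hI : I ^ 2 = ⊥) :
    (Spec.map (CommRingCat.ofHom (Ideal.Quotient.mk I))).ker *
      (Spec.map (CommRingCat.ofHom (Ideal.Quotient.mk I))).ker = ⊥ := by
  set t := Spec.map (CommRingCat.ofHom (Ideal.Quotient.mk I)) with htdef
  have : IsClosedImmersion t :=
    IsClosedImmersion.spec_of_surjective _ Ideal.Quotient.mk_surjective
  refine Scheme.IdealSheafData.ext_of_isAffine ?_
  simp only [Scheme.IdealSheafData.ideal_mul, Pi.mul_apply, Scheme.IdealSheafData.ideal_bot,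
    Pi.bot_apply, Scheme.Hom.ker_apply, eq_bot_iff]
  refine Ideal.mul_le.mpr fun x hx y hy ↦ ?_
  rw [Ideal.mem_bot]
  have key : ∀ z : Γ(Spec (CommRingCat.of A), ⊤), t.appTop.hom z = 0 →
      (Scheme.ΓSpecIso _).hom.hom z ∈ I := fun z hz ↦ by
    rw [← Ideal.Quotient.eq_zero_iff_mem]
    have := congr_arg (fun g ↦ g.hom z) (Scheme.ΓSpecIso_naturality
      (CommRingCat.ofHom (Ideal.Quotient.mk I)))
    simp only [CommRingCat.hom_comp, RingHom.comp_apply, CommRingCat.hom_ofHom] at this
    rw [← this]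
    show (Scheme.ΓSpecIso _).hom.hom (t.appTop.hom z) = 0
    rw [hz, map_zero]
  apply (ConcreteCategory.bijective_of_isIso (Scheme.ΓSpecIso (CommRingCat.of A)).hom).1
  rw [map_mul, map_zero]
  have := Ideal.mul_mem_mul (key x hx) (key y hy)
  rw [← pow_two, hI, Ideal.mem_bot] at this
  exact this

/-- Monomorphisms from etale schemes to formally unramified schemes are formally etale on affine opens. -/
theorem formallyEtale_appLE {E : Scheme.{u}} (b : Y ⟶ S) [FormallyUnramified b] (m : E ⟶ Y) [Etale (m ≫ b)]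
    {V : Y.Opens} (hV : IsAffineOpen V) {U : E.Opens} (hU : IsAffineOpen U) (e : U ≤ m ⁻¹ᵁ V) :
    (m.appLE V U e).hom.FormallyEtale := by
  have hmb : MoreMor.IsFormallyEtaleHom (m ≫ b) := H8Props.FormallyEtale.isFormallyEtaleHom_of_charts _ fun x => by
    obtain ⟨W, hW, hxW, -⟩ := exists_isAffineOpen_mem_and_subset (X := S) (x := (m ≫ b).base x) (U := ⊤) trivial
    obtain ⟨U', hU', hxU', hU'W⟩ := exists_isAffineOpen_mem_and_subset (X := E) (x := x) (U := (m ≫ b) ⁻¹ᵁ W) hxW
    have het := HasRingHomProperty.appLE @Etale (m ≫ b) ‹_› ⟨W, hW⟩ ⟨U', hU'⟩ hU'W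
    refine ⟨U', W, hU', hW, hU'W, hxU', ?_⟩
    letI := ((m ≫ b).appLE W U' hU'W).hom.toAlgebra
    haveI : Algebra.Etale Γ(S, W) Γ(E, U') := het
    infer_instance
  refine H8Props.FormallyEtale.formallyEtale_appLE m (fun B _ I hI p q hpq => ?_) hU hV e
  obtain ⟨l, ⟨hl1, hl2⟩, hu⟩ := hmb B I hI p (q ≫ b) (by rw [← Category.assoc, hpq, Category.assoc])
  refine ⟨l, ⟨hl1, ?_⟩, fun l' ⟨h1, h2⟩ => hu l' ⟨h1, by rw [← Category.assoc, h2]⟩⟩
  haveI : IsClosedImmersion (Spec.map (CommRingCat.ofHom (Ideal.Quotient.mk I))) :=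
    IsClosedImmersion.spec_of_surjective _ Ideal.Quotient.mk_surjective
  refine FormallyUnramified.hom_ext (Spec.map (CommRingCat.ofHom (Ideal.Quotient.mk I))) ⟨2, ?_⟩ b
    (by rw [reassoc_of% hl1, hpq]) (by rw [Category.assoc, hl2])
  exact (pow_two _).trans (ker_mul_ker I hI)

/-- Existence of the factorisation through an etale scheme. -/
theorem exists_fac [IsNoetherian S] (a : X ⟶ S) [Flat a] [Surjective a] [LocallyOfFinitePresentation a]
    [QuasiCompact a] [QuasiSeparated a] (b : Y ⟶ S) [FormallyUnramified b] (h : X ⟶ Y) (w : h ≫ b = a) :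
    ∃ (E : Scheme.{u}) (u : X ⟶ E) (m : E ⟶ Y), Etale (m ≫ b) ∧
      Flat u ∧ Surjective u ∧ LocallyOfFinitePresentation u ∧ QuasiCompact u ∧ QuasiSeparated u ∧
      Mono m ∧ LocallyOfFiniteType m ∧ QuasiCompact m ∧ QuasiCompact (m ≫ b) ∧ QuasiSeparated (m ≫ b) ∧
      u ≫ m = h := by
  haveI : LocallyOfFiniteType (h ≫ b) := by rw [w]; infer_instance
  haveI : LocallyOfFiniteType h := locallyOfFiniteType_of_comp h b
  obtain ⟨hfl, hfp⟩ := flat_lfp_fst a b h w
  obtain ⟨E, u, m, hus, huf, hup, hm, hum⟩ := H21Desc.exists_factor_lft h hfl hfp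
  have e : u ≫ m ≫ b = a := by rw [reassoc_of% hum, w]
  haveI : LocallyOfFinitePresentation (u ≫ m ≫ b) := e ▸ ‹_›
  haveI : LocallyOfFinitePresentation (m ≫ b) := H13Flat.lfp_of_flat_surjective u (m ≫ b)
  haveI : Flat (u ≫ m ≫ b) := e ▸ ‹_›
  haveI : Flat (m ≫ b) := by
    haveI : Flat (𝟙 X ≫ u) := by rw [Category.id_comp]; infer_instance
    haveI : Surjective (𝟙 X ≫ u) := by rw [Category.id_comp]; infer_instance
    exact H13Desc.flat_of_refinement u (m ≫ b) (𝟙 X)
  haveI := hm
  haveI : FormallyUnramified m := inferInstance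
  haveI : FormallyUnramified (m ≫ b) := MorphismProperty.comp_mem _ _ _ ‹FormallyUnramified m› ‹FormallyUnramified b›
  haveI : Etale (m ≫ b) := Etale.of_formallyUnramified_of_flat (m ≫ b)
  haveI : LocallyOfFiniteType m := locallyOfFiniteType_of_comp m b
  haveI : CompactSpace X := QuasiCompact.compactSpace_of_compactSpace a
  haveI : CompactSpace E := Function.Surjective.compactSpace u.continuous u.surjective
  haveI : IsLocallyNoetherian E := LocallyOfFiniteType.isLocallyNoetherian (m ≫ b)
  haveI : IsNoetherian E := {}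
  haveI : IsLocallyNoetherian X := LocallyOfFiniteType.isLocallyNoetherian a
  haveI : IsNoetherian X := {}
  exact ⟨E, u, m, inferInstance, huf, hus, hup, inferInstance, inferInstance, hm, inferInstance, inferInstance,
    inferInstance, inferInstance, hum⟩

end Groth.Agent.H05EGA4.FUFac
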