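import Groth.Agent.H05EGA4.Derivations
import Mathlib.RingTheory.Kaehler.Basic

/-! Separation of differentials by a decreasing family of subfields. -/

set_option autoImplicit false
set_option linter.style.haveILetI false

open TensorProduct KaehlerDifferential Polynomial

universe u

namespace Groth.Agent.H05EGA4.FieldFamily

variable {k : Type u} [Field k] (p : ℕ) [hp : Fact p.Prime] [CharP k p]

/-- A subfield containing the `p`-th powers is cut out by derivations. -/
theorem exists_derivation_of_notMem (F₀ : Subfield k) (hF₀p : ∀ y : k, y ^ p ∈ F₀) {a : k} (ha : a ∉ F₀) :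
    ∃ D : Derivation ℤ k k, (∀ x ∈ F₀, D x = 0) ∧ D a = 1 := by
  let S : Set (Subfield k) := {F | (∀ y : k, y ^ p ∈ F) ∧ a ∉ F}
  have hchain : ∀ c ⊆ S, IsChain (· ≤ ·) c → ∀ y ∈ c, ∃ ub ∈ S, ∀ z ∈ c, z ≤ ub := by
    intro c hcS hc y hy
    refine ⟨sSup c, ⟨fun z => (le_sSup hy : y ≤ sSup c) ((hcS hy).1 z), fun hmem => ?_⟩, fun z hz => le_sSup hz⟩
    obtain ⟨F, hF, haF⟩ := (Subfield.mem_sSup_of_directedOn ⟨y, hy⟩ hc.directedOn).mp hmem
    exact (hcS hF).2 haF
  have hF0 : F₀ ∈ S := ⟨hF₀p, ha⟩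
  obtain ⟨F, hle₀, hmax⟩ := zorn_le_nonempty₀ S hchain _ hF0
  obtain ⟨hFp, haF⟩ := hmax.prop
  let K' := IntermediateField.adjoin F {a}
  have : CharP F p := (CharP.charP_iff_prime_eq_zero hp.out).mpr (Subtype.ext (CharP.cast_eq_zero k p))
  let b : F := ⟨a ^ p, hFp a⟩
  have hb : ∀ e : F, e ^ p ≠ b := fun e he => haF (by
    have h1 : (e : k) ^ p = a ^ p := congrArg Subtype.val he
    exact frobenius_inj k p h1 ▸ e.2)
  have hgen : IntermediateField.adjoin F {a} = ⊤ := by
    refine eq_top_iff.mpr fun y _ => ?_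
    by_cases hy : y ∈ F
    · exact IntermediateField.algebraMap_mem _ (⟨y, hy⟩ : F)
    let G : IntermediateField F k := IntermediateField.adjoin F {y}
    have haG : a ∈ G := by
      by_contra hG
      have hGS : G.toSubfield ∈ S := ⟨fun z => G.algebraMap_mem (⟨z ^ p, hFp z⟩ : F), hG⟩
      exact hy (hmax.2 hGS (fun z hz => G.algebraMap_mem (⟨z, hz⟩ : F))
        (IntermediateField.subset_adjoin F _ rfl : y ∈ G))
    have hdeg : ∀ z : k, z ∉ F → Module.finrank F (IntermediateField.adjoin F {z}) = p := by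
      intro z hz
      have hz' : ∀ e : F, e ^ p ≠ (⟨z ^ p, hFp z⟩ : F) := fun e he => hz (by
        have h1 : (e : k) ^ p = z ^ p := congrArg Subtype.val he
        exact frobenius_inj k p h1 ▸ e.2)
      have hint : IsIntegral F z := ⟨X ^ p - C (⟨z ^ p, hFp z⟩ : F), monic_X_pow_sub_C _ hp.out.ne_zero, by
        rw [← aeval_def]
        simp only [map_sub, map_pow, aeval_X, aeval_C]
        exact sub_eq_zero.mpr rfl⟩
      rw [IntermediateField.adjoin.finrank hint,
        ← minpoly.eq_of_irreducible_of_monic (X_pow_sub_C_irreducible_of_prime hp.out hz')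
          (by simp only [map_sub, map_pow, aeval_X, aeval_C]; exact sub_eq_zero.mpr rfl)
          (monic_X_pow_sub_C _ hp.out.ne_zero)]
      exact natDegree_X_pow_sub_C
    have hle : K' ≤ G := IntermediateField.adjoin_le_iff.mpr (Set.singleton_subset_iff.mpr haG)
    have : FiniteDimensional F G := FiniteDimensional.of_finrank_pos (by rw [hdeg y hy]; exact hp.out.pos)
    have := IntermediateField.eq_of_le_of_finrank_eq hle ((hdeg a haF).trans (hdeg y hy).symm)
    show y ∈ K'
    rw [this]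
    exact IntermediateField.subset_adjoin F _ rfl
  obtain ⟨-, d, hd0, hda, -⟩ := exists_radical_derivations p hb (x := a) rfl hgen
  exact ⟨d, fun x hx => hd0 ⟨x, hle₀ hx⟩, hda⟩

omit [CharP k p] hp in
/-- Combinations of `v` with coefficients in `F`. -/
def InSpan (F : Subfield k) {n : ℕ} (v : Fin n → k) (y : k) : Prop :=
  ∃ c : Fin n → k, (∀ i, c i ∈ F) ∧ y = ∑ i, c i * v i

omit [CharP k p] hp in
theorem InSpan.cons_iff {F : Subfield k} {n : ℕ} {v : Fin (n + 1) → k} {y : k} :
    InSpan F v y ↔ ∃ c ∈ F, InSpan F (Fin.tail v) (y - c * v 0) := by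
  constructor
  · rintro ⟨c, hc, rfl⟩
    refine ⟨c 0, hc 0, Fin.tail c, fun i => hc _, ?_⟩
    rw [Fin.sum_univ_succ]
    simp [Fin.tail]
  · rintro ⟨c, hc, d, hd, h⟩
    refine ⟨Fin.cons c d, Fin.cases hc hd, ?_⟩
    rw [Fin.sum_univ_succ, Fin.cons_zero]
    simp only [Fin.cons_succ]
    rw [sub_eq_iff_eq_add'] at h
    exact h

omit [CharP k p] hp in
theorem InSpan.mono {F G : Subfield k} (h : F ≤ G) {n : ℕ} {v : Fin n → k} {y : k} (hy : InSpan F v y) :
    InSpan G v y :=
  let ⟨c, hc, h'⟩ := hy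
  ⟨c, fun i => h (hc i), h'⟩

omit [CharP k p] hp in
theorem InSpan.add {F : Subfield k} {n : ℕ} {v : Fin n → k} {x y : k} (hx : InSpan F v x) (hy : InSpan F v y) :
    InSpan F v (x + y) := by
  obtain ⟨c, hc, rfl⟩ := hx
  obtain ⟨d, hd, rfl⟩ := hy
  exact ⟨c + d, fun i => add_mem (hc i) (hd i), by simp [add_mul, Finset.sum_add_distrib]⟩

omit [CharP k p] hp in
theorem InSpan.mul_left {F : Subfield k} {n : ℕ} {v : Fin n → k} {x a : k} (ha : a ∈ F) (hx : InSpan F v x) :
    InSpan F v (a * x) := by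
  obtain ⟨c, hc, rfl⟩ := hx
  exact ⟨fun i => a * c i, fun i => mul_mem ha (hc i), by rw [Finset.mul_sum]; simp only [mul_assoc]⟩

omit [CharP k p] hp in
theorem inSpan_sum {F : Subfield k} {n : ℕ} {v : Fin n → k} {σ : Type} (s : Finset σ) (f : σ → k)
    (h : ∀ i ∈ s, InSpan F v (f i)) : InSpan F v (∑ i ∈ s, f i) := by
  classical
  induction s using Finset.induction_on with
  | empty => exact ⟨0, fun _ => F.zero_mem, by simp⟩
  | insert a s has ih =>
    rw [Finset.sum_insert has]
    exact (h a (Finset.mem_insert_self a s)).add (ih fun i hi => h i (Finset.mem_insert_of_mem hi))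

omit [CharP k p] hp in
theorem exists_not_inSpan {ι : Type u} [Preorder ι] [IsDirected ι (fun a b => a ≤ b)] [Nonempty ι]
    {F : ι → Subfield k} (hF : Antitone F) :
    ∀ {n : ℕ} (v : Fin n → k) (x : k), ¬ InSpan (⨅ α, F α) v x → ∃ α, ¬ InSpan (F α) v x := by
  intro n
  induction n with
  | zero =>
    intro v x h
    obtain ⟨α⟩ := ‹Nonempty ι›
    refine ⟨α, fun ⟨c, _, hc⟩ => h ⟨fun i => i.elim0, fun i => i.elim0, ?_⟩⟩
    simpa using hc
  | succ n ih =>
    intro v x h
    by_contra hall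
    push Not at hall
    have hle : ∀ α, (⨅ β, F β) ≤ F α := fun α => iInf_le _ α
    by_cases h0 : InSpan (⨅ α, F α) (Fin.tail v) (v 0)
    · obtain ⟨α, hα⟩ := ih (Fin.tail v) x fun hx => h (InSpan.cons_iff.2 ⟨0, Subfield.zero_mem _, by simpa using hx⟩)
      obtain ⟨c, hc, hc'⟩ := InSpan.cons_iff.1 (hall α)
      have h2 := hc'.add ((h0.mono (hle α)).mul_left hc)
      rw [sub_add_cancel] at h2
      exact hα h2
    · obtain ⟨α₁, hα₁⟩ := ih (Fin.tail v) (v 0) h0
      obtain ⟨c, hc, hc'⟩ := InSpan.cons_iff.1 (hall α₁)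
      have huniq : ∀ α, c ∈ F α ∧ InSpan (F α) (Fin.tail v) (x - c * v 0) := by
        intro α
        obtain ⟨γ, h1, h2⟩ := directed_of (fun a b => a ≤ b) α₁ α
        obtain ⟨d, hd, hd'⟩ := InSpan.cons_iff.1 (hall γ)
        have hcd : c = d := by
          by_contra hne
          refine hα₁ ?_
          have h3 := ((hd'.mono (hF h1)).add (hc'.mul_left (neg_mem (one_mem (F α₁))))).mul_left
            (inv_mem (sub_mem hc (hF h1 hd)))
          convert h3 using 1
          field_simp [sub_ne_zero.2 hne]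
          ring
        subst hcd
        exact ⟨hF h2 hd, hd'.mono (hF h2)⟩
      obtain ⟨α, hα⟩ := ih (Fin.tail v) (x - c * v 0) fun hx =>
        h (InSpan.cons_iff.2 ⟨c, Subfield.mem_iInf.2 fun α => (huniq α).1, hx⟩)
      exact hα (huniq α).2

/-- The kernel of a derivation of a field. -/
def kerSubfield (D : Derivation ℤ k k) : Subfield k where
  carrier := {x | D x = 0}
  mul_mem' {x y} hx hy := show D (x * y) = 0 by rw [D.leibniz, hx, hy, smul_zero, smul_zero, add_zero]
  one_mem' := D.map_one_eq_zero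
  add_mem' {x y} hx hy := show D (x + y) = 0 by rw [map_add, hx, hy, add_zero]
  zero_mem' := map_zero D
  neg_mem' {x} hx := show D (-x) = 0 by rw [map_neg, hx, neg_zero]
  inv_mem' x hx := show D x⁻¹ = 0 by rw [D.leibniz_inv, hx, smul_zero]

theorem exists_derivation_family {ι : Type u} [Preorder ι] [IsDirected ι (fun a b => a ≤ b)] [Nonempty ι]
    (kα : ι → Subfield k) (hanti : Antitone kα)
    (hint : ⨅ α, (kα α ⊔ (frobenius k p).fieldRange) = (frobenius k p).fieldRange)
    (s : Set k) (hs : s.Finite) (b : k) (D₀ : Derivation ℤ k k) (h₀s : ∀ x ∈ s, D₀ x = 0) (h₀b : D₀ b ≠ 0) :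
    ∃ α, ∃ D : Derivation ℤ k k, (∀ x ∈ kα α, D x = 0) ∧ (∀ x ∈ s, D x = 0) ∧ D b = 1 := by
  let P := (frobenius k p).fieldRange
  have hPker : P ≤ kerSubfield D₀ := by
    rintro _ ⟨y, rfl⟩
    exact derivation_pow_char p D₀ y
  haveI := hs.to_subtype
  let L := IntermediateField.adjoin P s
  have hint' : ∀ y : k, IsIntegral P y := fun y =>
    IsIntegral.of_pow hp.out.pos
      (isIntegral_algebraMap (x := (⟨y ^ p, ⟨y, rfl⟩⟩ : P)))
  haveI : FiniteDimensional P L := IntermediateField.finiteDimensional_adjoin fun y _ => hint' y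
  let e := Module.finBasis P L
  let v : Fin (Module.finrank P L) → k := fun i => (e i : k)
  have hspan : ∀ y ∈ L, InSpan P v y := fun y hy => by
    refine ⟨fun i => (e.repr ⟨y, hy⟩ i : k), fun i => (e.repr ⟨y, hy⟩ i).2, ?_⟩
    conv_lhs => rw [show y = ((⟨y, hy⟩ : L) : k) from rfl, ← e.sum_repr ⟨y, hy⟩]
    rw [IntermediateField.coe_sum]
    rfl
  have hLker : ∀ y ∈ L, D₀ y = 0 := fun y hy => by
    have h1 : y ∈ L.toSubfield := hy
    rw [IntermediateField.adjoin_toSubfield] at h1
    refine (Subfield.closure_le (t := kerSubfield D₀)).2 ?_ h1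
    rintro z (⟨w, rfl⟩ | hz)
    · exact hPker w.2
    · exact h₀s z hz
  have hb : ¬ InSpan (⨅ α, (kα α ⊔ P)) v b := by
    rw [hint]
    rintro ⟨c, hc, rfl⟩
    exact h₀b (hLker _ (sum_mem fun i _ => mul_mem (L.algebraMap_mem ⟨c i, hc i⟩) (e i).2))
  obtain ⟨α, hα⟩ := exists_not_inSpan (fun x y hxy => sup_le_sup_right (hanti hxy) P) v b hb
  let F := kα α ⊔ P
  have hP : P ≤ F := le_sup_right
  have h1 : InSpan F v 1 := (hspan 1 L.one_mem).mono hP
  have hmul : ∀ {x y}, InSpan F v x → InSpan F v y → InSpan F v (x * y) := by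
    rintro x y ⟨c, hc, rfl⟩ ⟨d, hd, rfl⟩
    rw [Finset.sum_mul]
    refine inSpan_sum _ _ fun i _ => ?_
    rw [Finset.mul_sum]
    refine inSpan_sum _ _ fun j _ => ?_
    rw [mul_mul_mul_comm]
    exact ((hspan _ (mul_mem (e i).2 (e j).2)).mono hP).mul_left (mul_mem (hc i) (hd j))
  let G : Subfield k :=
    { carrier := {y | InSpan F v y}
      mul_mem' := hmul
      one_mem' := h1
      add_mem' := InSpan.add
      zero_mem' := (hspan 0 L.zero_mem).mono hP
      neg_mem' := fun {x} hx => by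
        show InSpan F v (-x)
        rw [← neg_one_mul]
        exact hx.mul_left (neg_mem F.one_mem)
      inv_mem' := fun x hx => by
        show InSpan F v x⁻¹
        rcases eq_or_ne x 0 with rfl | hx0
        · rw [inv_zero]; exact (hspan 0 L.zero_mem).mono hP
        have hpow : ∀ m : ℕ, InSpan F v (x ^ m) := by
          intro m
          induction m with
          | zero => rw [pow_zero]; exact h1
          | succ m ih => rw [pow_succ]; exact hmul ih hx
        rw [show x⁻¹ = (x ^ p)⁻¹ * x ^ (p - 1) by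
          rw [← inv_inj, inv_inv, mul_inv, inv_inv, ← div_eq_mul_inv, eq_div_iff (pow_ne_zero _ hx0),
            ← pow_succ', Nat.sub_add_cancel hp.out.pos]]
        exact (hpow _).mul_left (inv_mem (hP ⟨x, rfl⟩)) }
  have hGF : F ≤ G := fun x hx => by
    show InSpan F v x
    rw [← mul_one x]
    exact h1.mul_left hx
  obtain ⟨D, hD, hDb⟩ := exists_derivation_of_notMem p G (fun y => hGF (hP ⟨y, rfl⟩)) (a := b) hα
  exact ⟨α, D, fun x hx => hD x (hGF ((le_sup_left : kα α ≤ F) hx)),
    fun x hx => hD x ((hspan x (IntermediateField.subset_adjoin P s hx)).mono hP), hDb⟩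

/-- The differentials over the prime field are separated by those over a cofinal part of the family. -/
theorem eq_zero_of_forall {ι : Type u} [Preorder ι] [IsDirected ι (fun a b => a ≤ b)] [Nonempty ι]
    (kα : ι → Subfield k) (hanti : Antitone kα)
    (hint : ⨅ α, (kα α ⊔ (frobenius k p).fieldRange) = (frobenius k p).fieldRange)
    {K : Type u} [Field K] [Algebra k K] (α₀ : ι) (w : K ⊗[k] Ω[k⁄ℤ])
    (hw : ∀ α, α₀ ≤ α → (KaehlerDifferential.map ℤ (kα α) k k).lTensor K w = 0) : w = 0 := by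
  classical
  by_contra hne
  obtain ⟨B₀, hB₀, hspan, hli⟩ := exists_linearIndependent k (Set.range (D ℤ k))
  let bs : Module.Basis B₀ k Ω[k⁄ℤ] := Module.Basis.mk hli (by
    rw [Subtype.range_coe, hspan, span_range_derivation])
  choose g hg using fun i : B₀ => hB₀ i.2
  have hbs : ∀ i, bs i = D ℤ k (g i) := fun i => by rw [Module.Basis.mk_apply, hg]
  let bK : Module.Basis B₀ K (K ⊗[k] Ω[k⁄ℤ]) := Algebra.TensorProduct.basis K bs
  obtain ⟨j, hj⟩ : ∃ j, bK.repr w j ≠ 0 := by
    by_contra h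
    push Not at h
    exact hne (bK.repr.injective (Finsupp.ext fun i => by rw [h i, map_zero]; rfl))
  let D₀ : Derivation ℤ k k := (bs.coord j).compDer (D ℤ k)
  have hD₀ : ∀ i, D₀ (g i) = if i = j then 1 else 0 := fun i => by
    show bs.coord j (D ℤ k (g i)) = _
    rw [← hbs, Module.Basis.coord_apply, Module.Basis.repr_self, Finsupp.single_apply]
  obtain ⟨α, d, hdα, hds, hdj⟩ := exists_derivation_family p kα hanti hint
    (g '' ↑((bK.repr w).support.erase j)) ((Finset.finite_toSet _).image g) (g j) D₀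
    (by rintro _ ⟨i, hi, rfl⟩; rw [hD₀, if_neg (Finset.mem_erase.1 (Finset.mem_coe.1 hi)).1])
    (by rw [hD₀, if_pos rfl]; exact one_ne_zero)
  obtain ⟨β, hβ₀, hβ⟩ := directed_of (fun a b => a ≤ b) α₀ α
  let d' : Derivation (kα β) k k := Derivation.mk'
    { toFun := d
      map_add' := map_add d
      map_smul' := fun c x => by
        show d ((c : k) * x) = (c : k) * d x
        rw [d.leibniz, hdα _ (hanti hβ c.2), smul_zero, add_zero]
        rfl }
    fun a b => d.leibniz a b
  let Φ : K ⊗[k] Ω[k⁄kα β] →ₗ[K] K :=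
    (Algebra.linearMap k K ∘ₗ d'.liftKaehlerDifferential).liftBaseChange K
  have hΦ : ∀ i, Φ ((KaehlerDifferential.map ℤ (kα β) k k).lTensor K (bK i)) =
      algebraMap k K (d (g i)) := fun i => by
    rw [show bK i = (1 : K) ⊗ₜ bs i from Algebra.TensorProduct.basis_apply bs i, hbs, LinearMap.lTensor_tmul,
      map_D, LinearMap.liftBaseChange_tmul, one_smul, LinearMap.comp_apply,
      Derivation.liftKaehlerDifferential_comp_D]
    rfl
  have h0 := congrArg Φ (hw β hβ₀)
  rw [map_zero] at h0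
  have hlin : ∀ (c : K) (i : B₀), (KaehlerDifferential.map ℤ (kα β) k k).lTensor K (c • bK i) =
      c • (KaehlerDifferential.map ℤ (kα β) k k).lTensor K (bK i) := fun c i => by
    rw [show bK i = (1 : K) ⊗ₜ bs i from Algebra.TensorProduct.basis_apply bs i, smul_tmul',
      LinearMap.lTensor_tmul, LinearMap.lTensor_tmul, smul_tmul']
  rw [← bK.linearCombination_repr w, Finsupp.linearCombination_apply, Finsupp.sum, map_sum, map_sum,
    Finset.sum_eq_single j] at h0
  · rw [hlin, map_smul, hΦ, hdj, map_one, smul_eq_mul, mul_one] at h0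
    exact hj h0
  · intro i hi hij
    rw [hlin, map_smul, hΦ, hds _ ⟨i, Finset.mem_coe.2 (Finset.mem_erase.2 ⟨hij, hi⟩), rfl⟩, map_zero,
      smul_zero]
  · intro hj'
    rw [Finsupp.notMem_support_iff.1 hj', zero_smul, map_zero, map_zero]

end Groth.Agent.H05EGA4.FieldFamily
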