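import Groth.Agent.H05EGA4.FieldFamily
import Groth.Prelude.Def_EGA41

/-! Separation of differentials over an arbitrary base by a decreasing family of subfields. -/

set_option autoImplicit false
set_option linter.style.haveILetI false

open TensorProduct KaehlerDifferential

universe u v

namespace Groth.Agent.H05EGA4.FieldFamily

variable {k : Type u} [Field k] (p : ℕ) [hp : Fact p.Prime] [CharP k p]
  (R : Type v) [CommRing R] [Algebra R k]

omit [CharP k p] hp in
/-- The subfield `R(k^p)`. -/
def pClosure : Subfield k :=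
  Subfield.closure (Set.range (algebraMap R k) ∪ Set.range fun y : k => y ^ p)

omit [CharP k p] hp in
theorem pow_mem_pClosure (y : k) : y ^ p ∈ pClosure p R (k := k) :=
  Subfield.subset_closure (Or.inr ⟨y, rfl⟩)

omit [CharP k p] hp in
theorem algebraMap_mem_pClosure (r : R) : algebraMap R k r ∈ pClosure p R (k := k) :=
  Subfield.subset_closure (Or.inl ⟨r, rfl⟩)

theorem exists_derivation_family' {ι : Type u} [Preorder ι] [IsDirected ι (fun a b => a ≤ b)] [Nonempty ι]
    (F : ι → Subfield k) (hanti : Antitone F)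
    (hint : ∀ x, (∀ α, x ∈ F α ⊔ pClosure p R) → x ∈ pClosure p R)
    (s : Set k) (hs : s.Finite) (b : k) (D₀ : Derivation R k k) (h₀s : ∀ x ∈ s, D₀ x = 0) (h₀b : D₀ b ≠ 0) :
    ∃ α, ∃ D : Derivation R k k, (∀ x ∈ F α, D x = 0) ∧ (∀ x ∈ s, D x = 0) ∧ D b = 1 := by
  let P := pClosure p R (k := k)
  let D₁ : Derivation ℤ k k := D₀.restrictScalars ℤ
  have hPker : P ≤ kerSubfield D₁ := Subfield.closure_le.2 (by
    rintro _ (⟨r, rfl⟩ | ⟨y, rfl⟩)
    · exact D₀.map_algebraMap r
    · exact derivation_pow_char p D₁ y)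
  haveI := hs.to_subtype
  let L := IntermediateField.adjoin P s
  have hint' : ∀ y : k, IsIntegral P y := fun y =>
    IsIntegral.of_pow hp.out.pos (isIntegral_algebraMap (x := (⟨y ^ p, pow_mem_pClosure p R y⟩ : P)))
  haveI : FiniteDimensional P L := IntermediateField.finiteDimensional_adjoin fun y _ => hint' y
  let e := Module.finBasis P L
  let v : Fin (Module.finrank P L) → k := fun i => (e i : k)
  have hspan : ∀ y ∈ L, InSpan P v y := fun y hy => by
    refine ⟨fun i => (e.repr ⟨y, hy⟩ i : k), fun i => (e.repr ⟨y, hy⟩ i).2, ?_⟩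
    conv_lhs => rw [show y = ((⟨y, hy⟩ : L) : k) from rfl, ← e.sum_repr ⟨y, hy⟩]
    rw [IntermediateField.coe_sum]
    rfl
  have hLker : ∀ y ∈ L, D₁ y = 0 := fun y hy => by
    have h1 : y ∈ L.toSubfield := hy
    rw [IntermediateField.adjoin_toSubfield] at h1
    refine (Subfield.closure_le (t := kerSubfield D₁)).2 ?_ h1
    rintro z (⟨w, rfl⟩ | hz)
    · exact hPker w.2
    · exact h₀s z hz
  have hb : ¬ InSpan (⨅ α, (F α ⊔ P)) v b := by
    rintro ⟨c, hc, rfl⟩
    exact h₀b (hLker _ (sum_mem fun i _ =>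
      mul_mem (L.algebraMap_mem ⟨c i, hint _ (Subfield.mem_iInf.1 (hc i))⟩) (e i).2))
  obtain ⟨α, hα⟩ := exists_not_inSpan (fun x y hxy => sup_le_sup_right (hanti hxy) P) v b hb
  let G₀ := F α ⊔ P
  have hP : P ≤ G₀ := le_sup_right
  have h1 : InSpan G₀ v 1 := (hspan 1 L.one_mem).mono hP
  have hmul : ∀ {x y}, InSpan G₀ v x → InSpan G₀ v y → InSpan G₀ v (x * y) := by
    rintro x y ⟨c, hc, rfl⟩ ⟨d, hd, rfl⟩
    rw [Finset.sum_mul]
    refine inSpan_sum _ _ fun i _ => ?_
    rw [Finset.mul_sum]
    refine inSpan_sum _ _ fun j _ => ?_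
    rw [mul_mul_mul_comm]
    exact ((hspan _ (mul_mem (e i).2 (e j).2)).mono hP).mul_left (mul_mem (hc i) (hd j))
  let G : Subfield k :=
    { carrier := {y | InSpan G₀ v y}
      mul_mem' := hmul
      one_mem' := h1
      add_mem' := InSpan.add
      zero_mem' := (hspan 0 L.zero_mem).mono hP
      neg_mem' := fun {x} hx => by
        show InSpan G₀ v (-x)
        rw [← neg_one_mul]
        exact hx.mul_left (neg_mem G₀.one_mem)
      inv_mem' := fun x hx => by
        show InSpan G₀ v x⁻¹
        rcases eq_or_ne x 0 with rfl | hx0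
        · rw [inv_zero]; exact (hspan 0 L.zero_mem).mono hP
        have hpow : ∀ m : ℕ, InSpan G₀ v (x ^ m) := by
          intro m
          induction m with
          | zero => rw [pow_zero]; exact h1
          | succ m ih => rw [pow_succ]; exact hmul ih hx
        rw [show x⁻¹ = (x ^ p)⁻¹ * x ^ (p - 1) by
          rw [← inv_inj, inv_inv, mul_inv, inv_inv, ← div_eq_mul_inv, eq_div_iff (pow_ne_zero _ hx0),
            ← pow_succ', Nat.sub_add_cancel hp.out.pos]]
        exact (hpow _).mul_left (inv_mem (hP (pow_mem_pClosure p R x))) }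
  have hGG : G₀ ≤ G := fun x hx => by
    show InSpan G₀ v x
    rw [← mul_one x]
    exact h1.mul_left hx
  obtain ⟨D, hD, hDb⟩ :=
    exists_derivation_of_notMem p G (fun y => hGG (hP (pow_mem_pClosure p R y))) (a := b) hα
  let D' : Derivation R k k := Derivation.mk'
    { toFun := D
      map_add' := map_add D
      map_smul' := fun r x => by
        rw [RingHom.id_apply, Algebra.smul_def, D.leibniz, hD _ (hGG (hP (algebraMap_mem_pClosure p R r))),
          smul_zero, add_zero, algebraMap_smul] }
    fun a b => D.leibniz a b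
  exact ⟨α, D', fun x hx => hD x (hGG ((le_sup_left : F α ≤ G₀) hx)),
    fun x hx => hD x ((hspan x (IntermediateField.subset_adjoin P s hx)).mono hP), hDb⟩

/-- The functional on `K ⊗ Ω[k/R]` of a derivation. -/
noncomputable def eval (K : Type u) [Field K] [Algebra k K] (D : Derivation R k k) :
    K ⊗[k] Ω[k⁄R] →ₗ[K] K :=
  (Algebra.linearMap k K ∘ₗ D.liftKaehlerDifferential).liftBaseChange K

omit [CharP k p] hp in
theorem eval_tmul_D (K : Type u) [Field K] [Algebra k K] (D : Derivation R k k) (c : K) (x : k) :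
    eval R K D (c ⊗ₜ KaehlerDifferential.D R k x) = c * algebraMap k K (D x) := by
  rw [eval, LinearMap.liftBaseChange_tmul, LinearMap.comp_apply, Derivation.liftKaehlerDifferential_comp_D,
    smul_eq_mul]
  rfl

/-- The span of the differentials of a subfield. -/
noncomputable def dSpan (K : Type u) [Field K] [Algebra k K] (F : Subfield k) : Submodule K (K ⊗[k] Ω[k⁄R]) :=
  Submodule.span K ((fun x => (1 : K) ⊗ₜ KaehlerDifferential.D R k x) '' (F : Set k))

omit [CharP k p] hp in
theorem dSpan_mono (K : Type u) [Field K] [Algebra k K] {F G : Subfield k} (h : F ≤ G) :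
    dSpan R K F ≤ dSpan R K G := Submodule.span_mono (Set.image_mono h)

omit [CharP k p] hp in
theorem eval_eq_zero_of_mem_dSpan (K : Type u) [Field K] [Algebra k K] {F : Subfield k} {D : Derivation R k k}
    (hD : ∀ x ∈ F, D x = 0) {w : K ⊗[k] Ω[k⁄R]} (hw : w ∈ dSpan R K F) : eval R K D w = 0 := by
  refine (Submodule.span_le (p := LinearMap.ker (eval R K D))).2 ?_ hw
  rintro _ ⟨x, hx, rfl⟩
  rw [SetLike.mem_coe, LinearMap.mem_ker, eval_tmul_D, hD x hx, map_zero, mul_zero]

theorem exists_eval_ne_zero {ι : Type u} [Preorder ι] [IsDirected ι (fun a b => a ≤ b)] [Nonempty ι]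
    (F : ι → Subfield k) (hanti : Antitone F)
    (hint : ∀ x, (∀ α, x ∈ F α ⊔ pClosure p R) → x ∈ pClosure p R)
    {K : Type u} [Field K] [Algebra k K] {w : K ⊗[k] Ω[k⁄R]} (hw : w ≠ 0) :
    ∃ α, ∃ D : Derivation R k k, (∀ x ∈ F α, D x = 0) ∧ eval R K D w ≠ 0 := by
  classical
  obtain ⟨B₀, hB₀, hspan, hli⟩ := exists_linearIndependent k (Set.range (D R k))
  let bs : Module.Basis B₀ k Ω[k⁄R] := Module.Basis.mk hli (by
    rw [Subtype.range_coe, hspan, span_range_derivation])
  choose g hg using fun i : B₀ => hB₀ i.2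
  have hbs : ∀ i, bs i = D R k (g i) := fun i => by rw [Module.Basis.mk_apply, hg]
  let bK : Module.Basis B₀ K (K ⊗[k] Ω[k⁄R]) := Algebra.TensorProduct.basis K bs
  obtain ⟨j, hj⟩ : ∃ j, bK.repr w j ≠ 0 := by
    by_contra h
    push Not at h
    exact hw (bK.repr.injective (Finsupp.ext fun i => by rw [h i, map_zero]; rfl))
  let D₀ : Derivation R k k := (bs.coord j).compDer (D R k)
  have hD₀ : ∀ i, D₀ (g i) = if i = j then 1 else 0 := fun i => by
    show bs.coord j (D R k (g i)) = _
    rw [← hbs, Module.Basis.coord_apply, Module.Basis.repr_self, Finsupp.single_apply]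
  obtain ⟨α, d, hdα, hds, hdj⟩ := exists_derivation_family' p R F hanti hint
    (g '' ↑((bK.repr w).support.erase j)) ((Finset.finite_toSet _).image g) (g j) D₀
    (by rintro _ ⟨i, hi, rfl⟩; rw [hD₀, if_neg (Finset.mem_erase.1 (Finset.mem_coe.1 hi)).1])
    (by rw [hD₀, if_pos rfl]; exact one_ne_zero)
  refine ⟨α, d, hdα, ?_⟩
  have hv : ∀ i, eval R K d (bK i) = algebraMap k K (d (g i)) := fun i => by
    rw [show bK i = (1 : K) ⊗ₜ bs i from Algebra.TensorProduct.basis_apply bs i, hbs, eval_tmul_D, one_mul]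
  rw [← bK.linearCombination_repr w, Finsupp.linearCombination_apply, Finsupp.sum, map_sum,
    Finset.sum_eq_single j]
  · rw [map_smul, hv, hdj, map_one, smul_eq_mul, mul_one]
    exact hj
  · intro i hi hij
    rw [map_smul, hv, hds _ ⟨i, Finset.mem_coe.2 (Finset.mem_erase.2 ⟨hij, hi⟩), rfl⟩, map_zero, smul_zero]
  · intro hj'
    rw [Finsupp.notMem_support_iff.1 hj', zero_smul, map_zero]

theorem iInf_dSpan {ι : Type u} [Preorder ι] [IsDirected ι (fun a b => a ≤ b)] [Nonempty ι]
    (F : ι → Subfield k) (hanti : Antitone F)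
    (hint : ∀ x, (∀ α, x ∈ F α ⊔ pClosure p R) → x ∈ pClosure p R)
    {K : Type u} [Field K] [Algebra k K] {w : K ⊗[k] Ω[k⁄R]} (hw : ∀ α, w ∈ dSpan R K (F α)) : w = 0 := by
  by_contra hne
  obtain ⟨α, D, hD, hev⟩ := exists_eval_ne_zero p R F hanti hint hne
  exact hev (eval_eq_zero_of_mem_dSpan R K hD (hw α))

/-- A derivation-theoretic test for membership in `R(k^p)`. -/
theorem mem_pClosure_of_D_eq_zero {x : k} (hx : D R k x = 0) : x ∈ pClosure p R (k := k) := by
  by_contra h
  obtain ⟨d, hd, hdx⟩ := exists_derivation_of_notMem p (pClosure p R) (pow_mem_pClosure p R) h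
  let d' : Derivation R k k := Derivation.mk'
    { toFun := d
      map_add' := map_add d
      map_smul' := fun r x => by
        rw [RingHom.id_apply, Algebra.smul_def, d.leibniz, hd _ (algebraMap_mem_pClosure p R r),
          smul_zero, add_zero, algebraMap_smul] }
    fun a b => d.leibniz a b
  have h1 : d' x = 0 := by rw [← d'.liftKaehlerDifferential_comp_D, hx, map_zero]
  exact one_ne_zero (hdx.symm.trans h1)

omit hp in
theorem tmul_D_pow (K : Type u) [Field K] [Algebra k K] (y : k) :
    (1 : K) ⊗ₜ[k] D R k (y ^ p) = 0 := by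
  rw [Derivation.leibniz_pow, ← Nat.cast_smul_eq_nsmul k, CharP.cast_eq_zero, zero_smul, tmul_zero]

omit hp in
/-- Membership in `F(k^p)` forces the differential into the span of `dF`. -/
theorem D_mem_dSpan {F : Subfield k} {x : k} (hx : x ∈ F ⊔ pClosure p R) (K : Type u) [Field K] [Algebra k K] :
    (1 : K) ⊗ₜ[k] D R k x ∈ dSpan R K F := by
  let S : Subfield k :=
    { carrier := {x | (1 : K) ⊗ₜ[k] D R k x ∈ dSpan R K F}
      mul_mem' := fun {a b} ha hb => by
        show _ ∈ dSpan R K F
        rw [Derivation.leibniz, tmul_add, tmul_smul, tmul_smul]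
        refine add_mem ?_ ?_
        · rw [← algebraMap_smul K a]; exact Submodule.smul_mem _ _ hb
        · rw [← algebraMap_smul K b]; exact Submodule.smul_mem _ _ ha
      one_mem' := by
        show _ ∈ dSpan R K F
        rw [Derivation.map_one_eq_zero, tmul_zero]; exact zero_mem _
      add_mem' := fun {a b} ha hb => by
        show _ ∈ dSpan R K F
        rw [map_add, tmul_add]; exact add_mem ha hb
      zero_mem' := by
        show _ ∈ dSpan R K F
        rw [map_zero, tmul_zero]; exact zero_mem _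
      neg_mem' := fun {a} ha => by
        show _ ∈ dSpan R K F
        rw [map_neg, tmul_neg]; exact neg_mem ha
      inv_mem' := fun a ha => by
        show _ ∈ dSpan R K F
        rw [Derivation.leibniz_inv, tmul_smul, ← algebraMap_smul K (-a⁻¹ ^ 2)]
        exact Submodule.smul_mem _ _ ha }
  have hF : F ≤ S := fun y hy =>
    (Submodule.subset_span ⟨y, hy, rfl⟩ : (1 : K) ⊗ₜ[k] D R k y ∈ dSpan R K F)
  refine (sup_le hF ((Subfield.closure_le (t := S)).2 ?_) : F ⊔ pClosure p R ≤ S) hx
  rintro _ (⟨r, rfl⟩ | ⟨y, rfl⟩)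
  · show (1 : K) ⊗ₜ[k] D R k (algebraMap R k r) ∈ dSpan R K F
    rw [Derivation.map_algebraMap, tmul_zero]; exact zero_mem _
  · show (1 : K) ⊗ₜ[k] D R k (y ^ p) ∈ dSpan R K F
    rw [tmul_D_pow p R K y]; exact zero_mem _

omit [CharP k p] hp in
/-- Killed by base change to a bigger base implies being in the span of its differentials. -/
theorem mem_dSpan_of_map_eq_zero (K : Type u) [Field K] [Algebra k K] (S : Type u) [CommRing S] [Algebra R S]
    [Algebra S k] [IsScalarTower R S k] (F : Subfield k) (hS : ∀ s, algebraMap S k s ∈ F)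
    {w : K ⊗[k] Ω[k⁄R]} (hw : (KaehlerDifferential.map R S k k).lTensor K w = 0) : w ∈ dSpan R K F := by
  obtain ⟨y, rfl⟩ := (lTensor_exact K (exact_mapBaseChange_map R S k) (map_surjective R S k) w).1 hw
  induction y using TensorProduct.induction_on with
  | zero => rw [map_zero]; exact zero_mem _
  | add a b ha hb =>
    rw [map_add]
    exact add_mem (ha ((lTensor_exact K (exact_mapBaseChange_map R S k) (map_surjective R S k)).apply_apply_eq_zero a))
      (hb ((lTensor_exact K (exact_mapBaseChange_map R S k) (map_surjective R S k)).apply_apply_eq_zero b))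
  | tmul c z =>
    clear hw
    induction z using TensorProduct.induction_on generalizing c with
    | zero => rw [tmul_zero, map_zero]; exact zero_mem _
    | add a b ha hb => rw [tmul_add, map_add]; exact add_mem (ha c) (hb c)
    | tmul a ω =>
      have hω : ω ∈ Submodule.span S (Set.range (D R S)) := by rw [span_range_derivation]; trivial
      induction hω using Submodule.span_induction generalizing a with
      | mem x hx =>
        obtain ⟨s, rfl⟩ := hx
        rw [LinearMap.lTensor_tmul, mapBaseChange_tmul, map_D, tmul_smul, ← algebraMap_smul K a,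
          show c ⊗ₜ[k] D R k (algebraMap S k s) = c • ((1 : K) ⊗ₜ[k] D R k (algebraMap S k s)) by
            rw [smul_tmul', smul_eq_mul, mul_one]]
        exact Submodule.smul_mem _ _ (Submodule.smul_mem _ _ (Submodule.subset_span ⟨_, hS s, rfl⟩))
      | zero => rw [tmul_zero, tmul_zero, map_zero]; exact zero_mem _
      | add x y _ _ hx hy => rw [tmul_add, tmul_add, map_add]; exact add_mem (hx a) (hy a)
      | smul s x _ hx => rw [← smul_tmul]; exact hx _

omit [CharP k p] hp in
/-- Elements of the span of differentials of a subfield die over it. -/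
theorem map_eq_zero_of_mem_dSpan (K : Type u) [Field K] [Algebra k K] (S : Type u) [CommRing S] [Algebra R S]
    [Algebra S k] [IsScalarTower R S k] (F : Subfield k) (hS : ∀ x ∈ F, ∃ s, algebraMap S k s = x)
    {w : K ⊗[k] Ω[k⁄R]} (hw : w ∈ dSpan R K F) :
    ((KaehlerDifferential.map R S k k).restrictScalars k).baseChange K w = 0 := by
  refine (Submodule.span_le (p := LinearMap.ker _)).2 ?_ hw
  rintro _ ⟨x, hx, rfl⟩
  obtain ⟨s, rfl⟩ := hS x hx
  show ((KaehlerDifferential.map R S k k).restrictScalars k).baseChange K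
    ((1 : K) ⊗ₜ[k] D R k (algebraMap S k s)) = 0
  rw [LinearMap.baseChange_tmul, LinearMap.restrictScalars_apply, map_D, Algebra.algebraMap_self_apply,
    Derivation.map_algebraMap, tmul_zero]

/-- In a vector space, a decreasing directed family of subspaces with trivial intersection misses a
finite-dimensional subspace from some index on. -/
theorem exists_inf_eq_bot {K V ι : Type u} [Field K] [AddCommGroup V] [Module K V] [Preorder ι]
    [IsDirected ι (fun a b => a ≤ b)] [Nonempty ι] (W : ι → Submodule K V) (hW : Antitone W)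
    (h : ⨅ i, W i = ⊥) (U : Submodule K V) [Module.Finite K U] : ∃ i, U ⊓ W i = ⊥ := by
  obtain ⟨i, -, hi⟩ := exists_minimalFor_of_wellFoundedLT (fun _ : ι => True)
    (fun i => (W i).comap U.subtype) ⟨Classical.arbitrary ι, trivial⟩
  refine ⟨i, (Submodule.eq_bot_iff _).2 fun x ⟨hxU, hxW⟩ => ?_⟩
  rw [← Submodule.mem_bot K, ← h, Submodule.mem_iInf]
  intro j
  obtain ⟨l, hl1, hl2⟩ := directed_of (fun a b => a ≤ b) i j
  exact hW hl2 ((hi (j := l) trivial (Submodule.comap_mono (hW hl1))) (show (⟨x, hxU⟩ : U) ∈ _ from hxW))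

end Groth.Agent.H05EGA4.FieldFamily
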