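import Groth.Agent.S2451
import Groth.Agent.H05EGA4.CohenSmooth
import Groth.Agent.H05EGA4.CotIdx2
import Groth.Agent.H02CA.GeomReducedField
import Mathlib.RingTheory.Kaehler.JacobiZariski

/-! Separability and imperfection modules. -/

set_option autoImplicit false
set_option linter.style.haveILetI false

open TensorProduct KaehlerDifferential

universe u v w

namespace Groth.Agent.H05EGA4.FieldSep

/-- Separable extensions are formally smooth, for fields in any universes. -/
theorem formallySmooth_of_isGeometricallyReduced (k : Type v) (K : Type u) [Field k] [Field K] [Algebra k K]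
    [Algebra.IsGeometricallyReduced k K] : Algebra.FormallySmooth k K :=
  formallySmooth_of_forall_fg k K fun F hF => by
    have := IntermediateField.essFiniteType_iff.mpr hF
    have := Algebra.IsGeometricallyReduced.of_injective F.val Subtype.val_injective
    obtain _ | ⟨p, hp, hpk⟩ := CharP.exists' k
    · infer_instance
    obtain ⟨s, hs, H⟩ := exists_isTranscendenceBasis_and_isSeparable_of_linearIndepOn_pow_of_essFiniteType
      p hp.out (fun s hs => H02CA.linearIndepOn_pow_of_isGeometricallyReduced (k := k) (K := F) p hp.out s hs)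
    haveI : Algebra.IsSeparable (↥(IntermediateField.adjoin k (Set.range ((↑) : s → F)))) F := by
      convert! H <;> simp
    exact .of_algebraicIndependent_of_isSeparable hs.1

theorem injective_of_formallySmooth (R : Type w) (k : Type v) (K : Type u) [CommRing R] [CommRing k] [CommRing K]
    [Algebra R k] [Algebra R K] [Algebra k K] [IsScalarTower R k K] [Algebra.FormallySmooth k K] :
    Function.Injective (mapBaseChange R k K) := by
  haveI : Subsingleton (Algebra.H1Cotangent k K) := Algebra.FormallySmooth.subsingleton_h1Cotangent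
  refine (injective_iff_map_eq_zero _).2 fun z hz => ?_
  obtain ⟨x, rfl⟩ := (Algebra.H1Cotangent.exact_δ_mapBaseChange R k K z).1 hz
  rw [Subsingleton.elim x 0, map_zero]

theorem formallySmooth_of_injective (R k K : Type u) [CommRing R] [Field k] [Field K]
    [Algebra R k] [Algebra R K] [Algebra k K] [IsScalarTower R k K] [Algebra.FormallySmooth R K]
    (h : Function.Injective (mapBaseChange R k K)) : Algebra.FormallySmooth k K := by
  haveI : Subsingleton (Algebra.H1Cotangent R K) := Algebra.FormallySmooth.subsingleton_h1Cotangent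
  have hδ : Function.Injective (Algebra.H1Cotangent.δ R k K) := by
    refine (injective_iff_map_eq_zero _).2 fun x hx => ?_
    obtain ⟨y, rfl⟩ := (Algebra.H1Cotangent.exact_map_δ R k K x).1 hx
    rw [Subsingleton.elim y 0, map_zero]
  refine ⟨Module.Projective.of_free, ⟨fun x y => hδ (h ?_)⟩⟩
  rw [(Algebra.H1Cotangent.exact_δ_mapBaseChange R k K _).2 ⟨x, rfl⟩,
    (Algebra.H1Cotangent.exact_δ_mapBaseChange R k K _).2 ⟨y, rfl⟩]

/-- Separability is the injectivity of the map of absolute differentials. -/
theorem formallySmooth_iff_injective (k K : Type u) [Field k] [Field K] [Algebra k K] :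
    Algebra.FormallySmooth k K ↔ Function.Injective (mapBaseChange ℤ k K) := by
  refine ⟨fun _ => injective_of_formallySmooth ℤ k K, fun h => ?_⟩
  haveI := PrimeTransfer.perfectField_bot k
  haveI := PrimeTransfer.subsingleton_kaehler_bot k
  let F := (⊥ : Subfield k)
  haveI : Algebra.FormallySmooth F K := formallySmooth_of_perfectField F K
  refine formallySmooth_of_injective F k K ((injective_iff_map_eq_zero _).2 fun z hz => ?_)
  obtain ⟨η, rfl⟩ := LinearMap.lTensor_surjective K (map_surjective ℤ F k) z
  have h1 : KaehlerDifferential.map ℤ F K K (mapBaseChange ℤ k K η) = 0 := by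
    rw [← CotIdx.mapBaseChange_map]; exact hz
  rw [map_eq_zero_iff _ (CotIdx.map_bijective F K).1] at h1
  rw [h (h1.trans (map_zero _).symm), map_zero]

theorem derivation_extends_iff (k K : Type u) [Field k] [Field K] [Algebra k K] :
    Function.Injective (mapBaseChange ℤ k K) ↔
      ∀ D : Derivation ℤ k K, ∃ D' : Derivation ℤ K K, ∀ a : k, D' (algebraMap k K a) = D a := by
  constructor
  · intro h D
    obtain ⟨l, hl⟩ := (mapBaseChange ℤ k K).exists_leftInverse_of_injective (LinearMap.ker_eq_bot.2 h)
    refine ⟨(D.liftKaehlerDifferential.liftBaseChange K ∘ₗ l).compDer (KaehlerDifferential.D ℤ K), fun a => ?_⟩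
    have h1 := LinearMap.congr_fun hl ((1 : K) ⊗ₜ[k] KaehlerDifferential.D ℤ k a)
    rw [LinearMap.comp_apply, mapBaseChange_tmul, one_smul, map_D, LinearMap.id_apply] at h1
    show D.liftKaehlerDifferential.liftBaseChange K (l (KaehlerDifferential.D ℤ K (algebraMap k K a))) = D a
    rw [h1, LinearMap.liftBaseChange_tmul, one_smul, Derivation.liftKaehlerDifferential_comp_D]
  · intro h
    rw [injective_iff_map_eq_zero]
    intro z hz
    refine (Module.forall_dual_apply_eq_zero_iff K z).1 fun l => ?_
    let g : Ω[k⁄ℤ] →ₗ[k] K := (l.restrictScalars k) ∘ₗ TensorProduct.mk k K Ω[k⁄ℤ] 1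
    obtain ⟨D', hD'⟩ := h (g.compDer (KaehlerDifferential.D ℤ k))
    suffices l = D'.liftKaehlerDifferential ∘ₗ mapBaseChange ℤ k K by
      rw [this, LinearMap.comp_apply, hz, map_zero]
    refine TensorProduct.AlgebraTensorModule.ext fun c w => ?_
    rw [LinearMap.comp_apply, mapBaseChange_tmul, map_smul,
      show c ⊗ₜ[k] w = c • ((1 : K) ⊗ₜ[k] w) by rw [smul_tmul', smul_eq_mul, mul_one], map_smul]
    congr 1
    have hw : w ∈ Submodule.span k (Set.range (KaehlerDifferential.D ℤ k)) := by
      rw [span_range_derivation]; trivial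
    induction hw using Submodule.span_induction with
    | mem x hx =>
      obtain ⟨a, rfl⟩ := hx
      rw [map_D, Derivation.liftKaehlerDifferential_comp_D, hD']
      rfl
    | zero => simp
    | add x y _ _ hx hy => rw [tmul_add, map_add, map_add, map_add, hx, hy]
    | smul a x _ hx =>
      rw [tmul_smul, LinearMap.map_smul_of_tower, map_smul, LinearMap.map_smul_of_tower, hx]

/-- A base generated by `p`-th powers over a smaller one changes no differential. -/
theorem map_injective_of_le (p : ℕ) {K : Type u} [Field K] [ExpChar K p] {k₀ : Type u} [CommRing k₀] [Algebra k₀ K]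
    {k : Type v} [CommRing k] [Algebra k₀ k] [Algebra k K] [IsScalarTower k₀ k K]
    (h : ∀ x : k, algebraMap k K x ∈ EGA41.pPowerSubalgebra p k₀ K) :
    Function.Injective (KaehlerDifferential.map k₀ k K K) ∨ p = 1 := by
  rcases ‹ExpChar K p› with _ | hp
  · exact Or.inr rfl
  left
  rw [injective_iff_map_eq_zero]
  intro x hx
  obtain ⟨y, rfl⟩ := (exact_mapBaseChange_map k₀ k K x).1 hx
  have hD : ∀ z ∈ EGA41.pPowerSubalgebra p k₀ K, KaehlerDifferential.D k₀ K z = 0 := by
    intro z hz
    induction hz using Algebra.adjoin_induction with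
    | mem x hx =>
      obtain ⟨b, rfl⟩ := hx
      rw [Derivation.leibniz_pow, ← Nat.cast_smul_eq_nsmul K, CharP.cast_eq_zero, zero_smul]
    | algebraMap r => exact Derivation.map_algebraMap _ r
    | add x y _ _ hx hy => rw [map_add, hx, hy, add_zero]
    | mul x y _ _ hx hy => rw [Derivation.leibniz, hx, hy, smul_zero, smul_zero, add_zero]
  clear hx
  induction y using TensorProduct.induction_on with
  | zero => simp
  | add a b ha hb => rw [map_add, ha, hb, add_zero]
  | tmul c z =>
    have hz : z ∈ Submodule.span k (Set.range (KaehlerDifferential.D k₀ k)) := by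
      rw [span_range_derivation]; trivial
    induction hz using Submodule.span_induction generalizing c with
    | mem y hy =>
      obtain ⟨a, rfl⟩ := hy
      rw [mapBaseChange_tmul, map_D, hD _ (h a), smul_zero]
    | zero => simp
    | add a b _ _ ha hb => rw [tmul_add, map_add, ha c, hb c, add_zero]
    | smul a x _ hx => rw [← smul_tmul]; exact hx _

end Groth.Agent.H05EGA4.FieldSep
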