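import Mathlib
import Groth.Agent.H9Hens.FinitePart
import Groth.Agent.H9Hens.EtaleQuotLift
import Groth.Agent.H9Smooth.Lift
import Groth.Agent.S2041

/-!
Finite étale algebras over `A/I` lift to finite étale algebras over an étale neighbourhood of `(A, I)`
(helper5).
-/

set_option autoImplicit false
set_option linter.style.haveILetI false
set_option maxHeartbeats 800000
universe u
open TensorProduct Groth.Agent

namespace Groth.Agent.H05EGA4.FinEtaleLift

/-- Zariski's main theorem near `V(IS)` when `S/IS` is finite. -/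
theorem exists_subalgebra {A : Type u} [CommRing A] (I : Ideal A) (S : Type u) [CommRing S] [Algebra A S]
    [Algebra.FiniteType A S] [Algebra.QuasiFinite A S] [Module.Finite A (S ⧸ I.map (algebraMap A S))] :
    ∃ B : Subalgebra A S, B.toSubmodule.FG ∧ ∃ r u : B,
      (∀ x : S, ∃ n : ℕ, (r : S) ^ n * x ∈ B) ∧ (r : S) - 1 ∈ I.map (algebraMap A S) ∧
      r ∣ u ∧ (u : S) - 1 ∈ I.map (algebraMap A S) ∧ u * u - u ∈ I.map (algebraMap A B) ∧
      ∀ y : B, (y : S) ∈ I.map (algebraMap A S) → u * y ∈ I.map (algebraMap A B) := by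
  classical
  set J := I.map (algebraMap A S) with hJdef
  let D : Ideal (integralClosure A S) :=
    { carrier := {r | ∀ x : S, ∃ m : ℕ, (r : S) ^ m * x ∈ integralClosure A S}
      zero_mem' := fun x => ⟨1, by simp⟩
      add_mem' := by
        intro r s hr hs x
        obtain ⟨m, hm⟩ := hr x
        obtain ⟨k, hk⟩ := hs x
        refine ⟨m + k, ?_⟩
        rw [Subalgebra.coe_add, add_pow, Finset.sum_mul]
        refine Subalgebra.sum_mem _ fun i hi => ?_
        have hi' : i ≤ m + k := Nat.lt_succ_iff.mp (Finset.mem_range.mp hi)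
        rcases le_or_gt m i with h | h
        · have : (r : S) ^ i * (s : S) ^ (m + k - i) * ((m + k).choose i : S) * x =
              ((r : S) ^ m * x) * (((r ^ (i - m) * s ^ (m + k - i) *
                ((m + k).choose i : integralClosure A S) : integralClosure A S)) : S) := by
            conv_lhs => rw [← Nat.add_sub_cancel' h, pow_add]
            push_cast
            rw [Nat.add_sub_cancel' h]
            ring
          rw [this]
          exact mul_mem hm (SetLike.coe_mem _)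
        · have h' : k ≤ m + k - i := by omega
          have : (r : S) ^ i * (s : S) ^ (m + k - i) * ((m + k).choose i : S) * x =
              ((s : S) ^ k * x) * (((r ^ i * s ^ (m + k - i - k) *
                ((m + k).choose i : integralClosure A S) : integralClosure A S)) : S) := by
            conv_lhs => rw [← Nat.add_sub_cancel' h', pow_add]
            push_cast
            ring
          rw [this]
          exact mul_mem hk (SetLike.coe_mem _)
      smul_mem' := by
        intro c r hr x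
        obtain ⟨m, hm⟩ := hr x
        refine ⟨m, ?_⟩
        rw [smul_eq_mul, Subalgebra.coe_mul, mul_pow, mul_assoc]
        exact mul_mem (pow_mem c.2 _) hm }
  let toQ : integralClosure A S →+* S ⧸ J :=
    (Ideal.Quotient.mk J).comp (integralClosure A S).val.toRingHom
  let : Algebra (integralClosure A S) (S ⧸ J) := toQ.toAlgebra
  let : SMul (integralClosure A S) (S ⧸ J) := toQ.toAlgebra.toSMul
  have : IsScalarTower A (integralClosure A S) (S ⧸ J) := IsScalarTower.of_algebraMap_eq fun a => rfl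
  have : Algebra.IsIntegral A (S ⧸ J) := Algebra.IsIntegral.of_finite A (S ⧸ J)
  have : Algebra.IsIntegral (integralClosure A S) (S ⧸ J) := Algebra.IsIntegral.tower_top A
  have hDtop : D.map (algebraMap (integralClosure A S) (S ⧸ J)) = ⊤ := by
    by_contra h
    obtain ⟨P, hP, hDP⟩ := Ideal.exists_le_maximal _ h
    have : P.IsPrime := hP.isPrime
    obtain ⟨r, hr, hint, hx⟩ := Algebra.zariskisMainProperty_iff.mp
      (Algebra.ZariskisMainProperty.of_finiteType (R := A) (P.comap (Ideal.Quotient.mk J)))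
    have hrD : (⟨r, hint⟩ : integralClosure A S) ∈ D := fun x => hx x
    exact hr (Ideal.mem_comap.mpr (hDP (Ideal.mem_map_of_mem _ hrD)))
  obtain ⟨⟨r₀, hrint⟩, hrD, hr1⟩ := H9Hens.exists_mem_algebraMap_eq_one D hDtop
  have hrJ : r₀ - 1 ∈ J := Ideal.Quotient.eq.mp (hr1.trans (map_one _).symm)
  obtain ⟨g, hg⟩ := Algebra.FiniteType.out (R := A) (A := S)
  choose mm hmm using fun x : S => hrD x
  let t : Set S := insert r₀ ((fun x => r₀ ^ mm x * x) '' (g : Set S))
  let B := Algebra.adjoin A t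
  have hBfg : B.toSubmodule.FG := by
    refine fg_adjoin_of_finite (g.finite_toSet.image _ |>.insert _) ?_
    rintro x (rfl | ⟨y, -, rfl⟩)
    exacts [hrint, hmm y]
  have hr0 : r₀ ∈ B := Algebra.subset_adjoin (Set.mem_insert _ _)
  let r : B := ⟨r₀, hr0⟩
  have hB : ∀ x : S, ∃ n : ℕ, r₀ ^ n * x ∈ B := fun x => by
    have hx : x ∈ Algebra.adjoin A (g : Set S) := by rw [hg]; exact Algebra.mem_top
    induction hx using Algebra.adjoin_induction with
    | mem y hy => exact ⟨mm y, Algebra.subset_adjoin (Set.mem_insert_of_mem _ ⟨y, hy, rfl⟩)⟩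
    | algebraMap a => exact ⟨0, by simpa using B.algebraMap_mem a⟩
    | add a b _ _ ha hb =>
      obtain ⟨m, hm⟩ := ha
      obtain ⟨n, hn⟩ := hb
      refine ⟨m + n, ?_⟩
      have : r₀ ^ (m + n) * (a + b) = r₀ ^ n * (r₀ ^ m * a) + r₀ ^ m * (r₀ ^ n * b) := by ring
      rw [this]
      exact add_mem (mul_mem (pow_mem hr0 _) hm) (mul_mem (pow_mem hr0 _) hn)
    | mul a b _ _ ha hb =>
      obtain ⟨m, hm⟩ := ha
      obtain ⟨n, hn⟩ := hb
      refine ⟨m + n, ?_⟩
      have : r₀ ^ (m + n) * (a * b) = (r₀ ^ m * a) * (r₀ ^ n * b) := by ring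
      rw [this]
      exact mul_mem hm hn
  have hkill : ∀ s ∈ J, ∃ k : ℕ, r₀ ^ k * s ∈ I • B.toSubmodule := fun s hs => by
    have hs' : s ∈ I • (⊤ : Submodule A S) := by rw [Ideal.smul_top_eq_map]; exact hs
    induction hs' using Submodule.smul_induction_on' with
    | smul i hi x _ =>
      obtain ⟨k, hk⟩ := hB x
      exact ⟨k, by rw [mul_smul_comm]; exact Submodule.smul_mem_smul hi hk⟩
    | add a ha b hb iha ihb =>
      obtain ⟨m, hm⟩ := iha (by rw [hJdef, ← Submodule.restrictScalars_mem A, ← Ideal.smul_top_eq_map]; exact ha)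
      obtain ⟨n, hn⟩ := ihb (by rw [hJdef, ← Submodule.restrictScalars_mem A, ← Ideal.smul_top_eq_map]; exact hb)
      refine ⟨m + n, ?_⟩
      have hmul : ∀ (k : ℕ) (y : S), y ∈ I • B.toSubmodule → r₀ ^ k * y ∈ I • B.toSubmodule := fun k y hy =>
        Submodule.smul_induction_on hy
          (fun i hi z hz => by rw [mul_smul_comm]; exact Submodule.smul_mem_smul hi (B.mul_mem (pow_mem hr0 _) (hz : z ∈ B)))
          (fun a b ha hb => by rw [mul_add]; exact add_mem ha hb)
      have : r₀ ^ (m + n) * (a + b) = r₀ ^ n * (r₀ ^ m * a) + r₀ ^ m * (r₀ ^ n * b) := by ring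
      rw [this]
      exact add_mem (hmul _ _ hm) (hmul _ _ hn)
  let J' := I.map (algebraMap A B)
  have hkill' : ∀ y : B, (y : S) ∈ J → ∃ k : ℕ, r ^ k * y ∈ J' := fun y hy => by
    obtain ⟨k, hk⟩ := hkill y hy
    exact ⟨k, (H9Hens.mem_map_subalgebra_iff B _).mpr (by simpa [r] using hk)⟩
  obtain ⟨N, hN⟩ := hkill' (r - 1) (by simpa [r] using hrJ)
  have hstab : ∀ j, r ^ (N + j) - r ^ N ∈ J' := fun j => by
    induction j with
    | zero => simp
    | succ j ih =>
      have : r ^ (N + (j + 1)) - r ^ N = r ^ j * (r ^ N * (r - 1)) + (r ^ (N + j) - r ^ N) := by ring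
      rw [this]
      exact add_mem (J'.mul_mem_left _ hN) ih
  refine ⟨B, hBfg, r, r ^ (N + 1), hB, hrJ, dvd_pow_self r N.succ_ne_zero, ?_, ?_, fun y hy => ?_⟩
  · rw [SubmonoidClass.coe_pow]
    exact Ideal.Quotient.eq.mp (by rw [map_pow, Ideal.Quotient.eq.mpr hrJ, map_one, one_pow])
  · have : r ^ (N + 1) * r ^ (N + 1) - r ^ (N + 1) =
        (r ^ (N + (N + 2)) - r ^ N) - (r ^ (N + 1) - r ^ N) := by ring
    rw [this]
    exact sub_mem (hstab _) (hstab 1)
  · obtain ⟨k, hk⟩ := hkill' y hy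
    have : r ^ (N + 1) * y = (r ^ (N + 1) - r ^ N) * y - (r ^ (N + k) - r ^ N) * y + r ^ N * (r ^ k * y) := by
      ring
    rw [this]
    exact add_mem (sub_mem (J'.mul_mem_right _ (hstab 1)) (J'.mul_mem_right _ (hstab k))) (J'.mul_mem_left _ hk)

/-- An idempotent component on which `R` is invertible is étale if the localisation at `R` is. -/
theorem etale_component {A' P : Type u} [CommRing A'] [CommRing P] [Algebra A' P] (e R : P) (he : IsIdempotentElem e)
    (L : Type u) [CommRing L] [Algebra P L] [Algebra A' L] [IsScalarTower A' P L] [IsLocalization.Away R L]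
    [Algebra.Etale A' L] (h : Ideal.span {1 - e, R} = (⊤ : Ideal P)) :
    Algebra.Etale A' (P ⧸ Ideal.span {1 - e}) := by
  have hRu : IsUnit (Ideal.Quotient.mk (Ideal.span {1 - e}) R) := by
    obtain ⟨x, y, hxy⟩ := Ideal.mem_span_pair.mp (h ▸ Submodule.mem_top : (1 : P) ∈ _)
    refine IsUnit.of_mul_eq_one (Ideal.Quotient.mk _ y) ?_
    rw [← map_mul, ← map_one (Ideal.Quotient.mk _), Ideal.Quotient.eq]
    exact Ideal.mem_span_singleton'.mpr ⟨-x, by linear_combination -hxy⟩
  let ψ : L →ₐ[P] P ⧸ Ideal.span {1 - e} := IsLocalization.liftAlgHom (M := Submonoid.powers R)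
    (f := Ideal.Quotient.mkₐ P (Ideal.span {1 - e})) (by
      rintro ⟨_, n, rfl⟩
      show IsUnit (Ideal.Quotient.mk _ (R ^ n))
      rw [map_pow]; exact hRu.pow n)
  letI : Algebra L (P ⧸ Ideal.span {1 - e}) := ψ.toRingHom.toAlgebra
  haveI : IsScalarTower P L (P ⧸ Ideal.span {1 - e}) := .of_algebraMap_eq fun x => (ψ.commutes x).symm
  haveI : IsScalarTower A' L (P ⧸ Ideal.span {1 - e}) := .of_algebraMap_eq fun x => by
    rw [IsScalarTower.algebraMap_apply A' P L, ← IsScalarTower.algebraMap_apply P L (P ⧸ Ideal.span {1 - e}),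
      ← IsScalarTower.algebraMap_apply]
  have hsur : Function.Surjective (algebraMap L (P ⧸ Ideal.span {1 - e})) := fun x => by
    obtain ⟨t, rfl⟩ := Ideal.Quotient.mk_surjective x
    exact ⟨algebraMap _ L t, (IsScalarTower.algebraMap_apply P L (P ⧸ Ideal.span {1 - e}) t).symm⟩
  have hker : RingHom.ker (algebraMap L (P ⧸ Ideal.span {1 - e})) = Ideal.span {1 - algebraMap P L e} := by
    apply le_antisymm
    · intro x hx
      obtain ⟨⟨t, s⟩, hts⟩ := IsLocalization.surj (Submonoid.powers R) x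
      have h1 : t ∈ Ideal.span {1 - e} := by
        rw [← Ideal.Quotient.eq_zero_iff_mem, ← Ideal.Quotient.algebraMap_eq,
          IsScalarTower.algebraMap_apply P L (P ⧸ Ideal.span {1 - e}), ← hts, map_mul, RingHom.mem_ker.mp hx, zero_mul]
      have h2 := Ideal.mem_map_of_mem (algebraMap P L) h1
      rw [← hts, Ideal.map_span, Set.image_singleton, map_sub, map_one] at h2
      exact (Ideal.mul_unit_mem_iff_mem _ (IsLocalization.map_units L s)).mp h2
    · rw [Ideal.span_le, Set.singleton_subset_iff, SetLike.mem_coe, RingHom.mem_ker, ← map_one (algebraMap P L),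
        ← map_sub, ← IsScalarTower.algebraMap_apply, Ideal.Quotient.algebraMap_eq, Ideal.Quotient.eq_zero_iff_mem]
      exact Ideal.subset_span rfl
  haveI := IsLocalization.away_of_isIdempotentElem (he.map (algebraMap P L)) hker hsur
  haveI : Algebra.Etale L (P ⧸ Ideal.span {1 - e}) := Algebra.Etale.of_isLocalizationAway (algebraMap P L e)
  exact Algebra.Etale.comp A' L _

/-- Reduction modulo `I` of an idempotent component. -/
theorem exists_reduction {A : Type u} [CommRing A] (I : Ideal A) {S : Type u} [CommRing S] [Algebra A S]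
    (B₁ : Subalgebra A S) (r u : B₁) (hB : ∀ x : S, ∃ n : ℕ, (r : S) ^ n * x ∈ B₁)
    (hr1 : (r : S) - 1 ∈ I.map (algebraMap A S)) (hu1 : (u : S) - 1 ∈ I.map (algebraMap A S))
    (huy : ∀ y : B₁, (y : S) ∈ I.map (algebraMap A S) → u * y ∈ I.map (algebraMap A B₁))
    (A' : Type u) [CommRing A'] [Algebra A A'] (σ : A' →ₐ[A] A ⧸ I)
    (hσk : ∀ x, σ x = 0 → x ∈ I.map (algebraMap A A')) (e : A' ⊗[A] B₁)
    (hec : e - (1 : A') ⊗ₜ[A] u ∈ I.map (algebraMap A (A' ⊗[A] B₁))) :
    ∃ π : ((A' ⊗[A] B₁) ⧸ Ideal.span {1 - e}) →ₐ[A] S ⧸ I.map (algebraMap A S), Function.Surjective π ∧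
      (∀ x, π x = 0 → x ∈ I.map (algebraMap A ((A' ⊗[A] B₁) ⧸ Ideal.span {1 - e}) :
        A →+* ((A' ⊗[A] B₁) ⧸ Ideal.span {1 - e}))) ∧
      ∀ a, π (Ideal.Quotient.mk _ (algebraMap A' (A' ⊗[A] B₁) a)) =
        algebraMap (A ⧸ I) (S ⧸ I.map (algebraMap A S)) (σ a) := by
  let π₀ : A' ⊗[A] B₁ →ₐ[A] S ⧸ I.map (algebraMap A S) :=
    Algebra.TensorProduct.lift ((IsScalarTower.toAlgHom A (A ⧸ I) _).comp σ)
      ((Ideal.Quotient.mkₐ A _).comp B₁.val) fun _ _ => Commute.all _ _
  have hπtmul : ∀ b : B₁, π₀ ((1 : A') ⊗ₜ[A] b) = Ideal.Quotient.mk _ (b : S) := fun b => by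
    simp [π₀]
  have hπI : ∀ x ∈ I.map (algebraMap A (A' ⊗[A] B₁)), π₀ x = 0 := fun x hx => by
    have h := Ideal.mem_map_of_mem π₀.toRingHom hx
    rw [Ideal.map_map, AlgHom.toRingHom_eq_coe, AlgHom.comp_algebraMap,
      ← Ideal.Quotient.mk_comp_algebraMap, ← Ideal.map_map, Ideal.map_quotient_self, Ideal.mem_bot] at h
    exact h
  have hπe : π₀ (1 - e) = 0 := by
    have h := hπI _ hec
    rw [map_sub, hπtmul, sub_eq_zero] at h
    rw [map_sub, map_one, h, sub_eq_zero, ← map_one (Ideal.Quotient.mk _), Ideal.Quotient.eq, ← neg_sub]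
    exact neg_mem hu1
  let π : ((A' ⊗[A] B₁) ⧸ Ideal.span {1 - e}) →ₐ[A] S ⧸ I.map (algebraMap A S) := Ideal.Quotient.liftₐ _ π₀ fun x hx => by
    obtain ⟨y, rfl⟩ := Ideal.mem_span_singleton'.mp hx
    rw [map_mul, hπe, mul_zero]
  refine ⟨π, ?_, ?_, ?_⟩
  · intro y
    obtain ⟨s, rfl⟩ := Ideal.Quotient.mk_surjective y
    obtain ⟨n, hn⟩ := hB s
    refine ⟨Ideal.Quotient.mk _ ((1 : A') ⊗ₜ[A] (⟨_, hn⟩ : B₁)), ?_⟩
    refine (Ideal.Quotient.lift_mk _ _ _).trans ((hπtmul _).trans ?_)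
    show Ideal.Quotient.mk _ ((r : S) ^ n * s) = _
    rw [map_mul, map_pow, Ideal.Quotient.eq.mpr hr1, map_one, one_pow, one_mul]
  · intro x hx
    obtain ⟨t, rfl⟩ := Ideal.Quotient.mk_surjective x
    have ht : π₀ t = 0 := hx
    obtain ⟨y, hy⟩ : ∃ y : B₁, t - (1 : A') ⊗ₜ[A] y ∈ I.map (algebraMap A (A' ⊗[A] B₁)) := by
      clear hx ht
      induction t using TensorProduct.induction_on with
      | zero => exact ⟨0, by simp⟩
      | tmul a' b =>
        obtain ⟨c, hc⟩ := Ideal.Quotient.mk_surjective (σ a')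
        refine ⟨c • b, ?_⟩
        have h1 : a' - algebraMap A A' c ∈ I.map (algebraMap A A') := hσk _ (by
          rw [map_sub, AlgHom.commutes, Ideal.Quotient.algebraMap_eq, hc, sub_self])
        have h2 := Ideal.mem_map_of_mem (algebraMap A' (A' ⊗[A] B₁)) h1
        rw [Ideal.map_map, ← IsScalarTower.algebraMap_eq, Algebra.TensorProduct.algebraMap_apply] at h2
        have h3 := Ideal.mul_mem_right ((1 : A') ⊗ₜ[A] b) _ h2
        rw [Algebra.TensorProduct.tmul_mul_tmul, mul_one, Algebra.algebraMap_self_apply, one_mul, sub_tmul,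
          Algebra.algebraMap_eq_smul_one, smul_tmul] at h3
        exact h3
      | add a b ha hb =>
        obtain ⟨y, hy⟩ := ha
        obtain ⟨z, hz⟩ := hb
        exact ⟨y + z, by rw [tmul_add, add_sub_add_comm]; exact add_mem hy hz⟩
    have hyS : (y : S) ∈ I.map (algebraMap A S) := by
      rw [← Ideal.Quotient.eq_zero_iff_mem, ← hπtmul]
      have h := hπI _ hy
      rwa [map_sub, ht, zero_sub, neg_eq_zero] at h
    have h4 : (1 : A') ⊗ₜ[A] (u * y) ∈ I.map (algebraMap A (A' ⊗[A] B₁)) := by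
      have h := Ideal.mem_map_of_mem (Algebra.TensorProduct.includeRight : B₁ →ₐ[A] A' ⊗[A] B₁).toRingHom
        (huy y hyS)
      rwa [Ideal.map_map, AlgHom.toRingHom_eq_coe, AlgHom.comp_algebraMap] at h
    have h5 : e * t ∈ I.map (algebraMap A (A' ⊗[A] B₁)) := by
      have : e * t = e * (t - (1 : A') ⊗ₜ[A] y) + (e - (1 : A') ⊗ₜ[A] u) * ((1 : A') ⊗ₜ[A] y) +
          (1 : A') ⊗ₜ[A] (u * y) := by
        rw [mul_sub, sub_mul, Algebra.TensorProduct.tmul_mul_tmul, one_mul]; abel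
      rw [this]
      exact add_mem (add_mem (Ideal.mul_mem_left _ _ hy) (Ideal.mul_mem_right _ _ hec)) h4
    have h6 := Ideal.mem_map_of_mem (Ideal.Quotient.mk (Ideal.span {1 - e})) h5
    rw [Ideal.map_map, Ideal.Quotient.mk_comp_algebraMap, map_mul] at h6
    have h7 : Ideal.Quotient.mk (Ideal.span {1 - e}) e = 1 := by
      exact Ideal.Quotient.eq.mpr (Ideal.mem_span_singleton'.mpr ⟨-1, by ring⟩)
    rw [h7] at h6
    exact (one_mul (Ideal.Quotient.mk (Ideal.span {1 - e}) t)) ▸ h6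
  · intro a'
    refine (Ideal.Quotient.lift_mk _ _ _).trans ?_
    show π₀ (a' ⊗ₜ[A] (1 : B₁)) = _
    simp [π₀]

/-- The finite part of an étale algebra is étale and finite over an étale neighbourhood. -/
theorem exists_finiteEtale_of_etale {A : Type u} [CommRing A] (I : Ideal A) (S : Type u) [CommRing S] [Algebra A S]
    [Algebra.Etale A S] [Module.Finite A (S ⧸ I.map (algebraMap A S))] :
    ∃ (A' : Type u) (_ : CommRing A') (_ : Algebra A A') (_ : Algebra.Etale A A') (σ : A' →ₐ[A] A ⧸ I),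
      Function.Surjective σ ∧ (∀ x, σ x = 0 → x ∈ I.map (algebraMap A A')) ∧
      ∃ (B : Type u) (_ : CommRing B) (_ : Algebra A' B) (_ : Algebra A B) (_ : IsScalarTower A A' B),
        Module.Finite A' B ∧ Algebra.Etale A' B ∧
        ∃ π : B →ₐ[A] S ⧸ I.map (algebraMap A S), Function.Surjective π ∧
          (∀ x, π x = 0 → x ∈ I.map (algebraMap A B)) ∧
          ∀ a, π (algebraMap A' B a) = algebraMap (A ⧸ I) (S ⧸ I.map (algebraMap A S)) (σ a) := by
  classical
  haveI : Algebra.FiniteType A S := inferInstance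
  haveI : Algebra.QuasiFinite A S := inferInstance
  obtain ⟨B₁, hfg, r, u, hB, hr1, hru, hu1, hu, huy⟩ := exists_subalgebra I S
  haveI : Module.Finite A B₁ := Module.Finite.of_fg hfg
  haveI : Algebra.IsIntegral A B₁ := Algebra.IsIntegral.of_finite A B₁
  -- localisation at `r`
  have hloc : Function.Bijective (Localization.awayMapₐ B₁.val r) := by
    refine ⟨IsLocalization.map_injective_of_injective _ _ _ Subtype.val_injective, fun x => ?_⟩
    obtain ⟨s, ⟨_, n, rfl⟩, rfl⟩ := IsLocalization.exists_mk'_eq (Submonoid.powers (B₁.val r)) x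
    obtain ⟨k, hk⟩ := hB s
    refine ⟨IsLocalization.mk' _ (⟨_, hk⟩ : B₁) (⟨r ^ (n + k), n + k, rfl⟩ : Submonoid.powers r), ?_⟩
    show IsLocalization.Away.map _ _ B₁.val.toRingHom r _ = _
    simp only [IsLocalization.Away.map, IsLocalization.map_mk', IsLocalization.mk'_eq_iff_eq]
    congr 1
    simp only [AlgHom.toRingHom_eq_coe, RingHom.coe_coe, Subalgebra.coe_val, SubmonoidClass.coe_pow]
    ring
  haveI : Algebra.Etale S (Localization.Away (B₁.val r)) := Algebra.Etale.of_isLocalizationAway (B₁.val r)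
  haveI : Algebra.Etale A (Localization.Away (B₁.val r)) := Algebra.Etale.comp A S _
  haveI : Algebra.Etale A (Localization.Away r) :=
    Algebra.Etale.of_equiv (AlgEquiv.ofBijective (Localization.awayMapₐ B₁.val r) hloc).symm
  -- étale neighbourhood with an idempotent
  have hē : IsIdempotentElem (Ideal.Quotient.mk (I.map (algebraMap A B₁)) u) := by
    show _ * _ = _
    rw [← map_mul, Ideal.Quotient.eq]; exact hu
  obtain ⟨A₁, _, _, _, hbij, e₁, he₁, hcong⟩ := Groth.Agent.S2041.result (A := A) (B := B₁) I _ hē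
  have hcong := hcong u rfl
  let τ : (A₁ ⧸ I.map (algebraMap A A₁)) ≃ₐ[A] (A ⧸ I) :=
    (AlgEquiv.ofBijective (IsScalarTower.toAlgHom A (A ⧸ I) (A₁ ⧸ I.map (algebraMap A A₁))) hbij).symm
  let σ₁ : A₁ →ₐ[A] A ⧸ I := τ.toAlgHom.comp (Ideal.Quotient.mkₐ A _)
  have hσ₁s : Function.Surjective σ₁ := τ.surjective.comp Ideal.Quotient.mk_surjective
  have hσ₁k : ∀ x, σ₁ x = 0 → x ∈ I.map (algebraMap A A₁) := fun x hx =>
    Ideal.Quotient.eq_zero_iff_mem.mp ((map_eq_zero_iff τ τ.injective).mp hx)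
  -- make `r` a unit on the component
  let J₁ : Ideal (A₁ ⊗[A] B₁) := Ideal.span {1 - e₁, (1 : A₁) ⊗ₜ[A] r}
  have hone : (1 : A₁ ⊗[A] B₁) ∈ J₁ ⊔ I.map (algebraMap A (A₁ ⊗[A] B₁)) := by
    have h1 : (1 : A₁ ⊗[A] B₁) = ((1 - e₁) + (1 : A₁) ⊗ₜ[A] u) + (e₁ - (1 : A₁) ⊗ₜ[A] u) := by ring
    rw [h1]
    refine Submodule.add_mem_sup (add_mem (Ideal.subset_span (Set.mem_insert _ _)) ?_) hcong
    obtain ⟨c, rfl⟩ := hru
    rw [← one_mul (1 : A₁), ← Algebra.TensorProduct.tmul_mul_tmul]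
    exact Ideal.mul_mem_right _ _ (Ideal.subset_span (Set.mem_insert_of_mem _ rfl))
  haveI : Module.Finite A₁ ((A₁ ⊗[A] B₁) ⧸ J₁) := Module.Finite.of_surjective (Ideal.Quotient.mkₐ A₁ J₁).toLinearMap
    Ideal.Quotient.mk_surjective
  obtain ⟨a, ha, haM⟩ := Submodule.exists_sub_one_mem_and_smul_eq_zero_of_fg_of_le_smul
    (I.map (algebraMap A A₁)) (⊤ : Submodule A₁ ((A₁ ⊗[A] B₁) ⧸ J₁)) Module.Finite.fg_top (by
      intro x _
      refine (Ideal.smul_top_eq_map (R := A₁) (S := ((A₁ ⊗[A] B₁) ⧸ J₁)) (I.map (algebraMap A A₁))).ge ?_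
      rw [Submodule.restrictScalars_mem, Ideal.map_map, ← IsScalarTower.algebraMap_eq]
      have h2 : (1 : ((A₁ ⊗[A] B₁) ⧸ J₁)) ∈ I.map (algebraMap A ((A₁ ⊗[A] B₁) ⧸ J₁) : A →+* ((A₁ ⊗[A] B₁) ⧸ J₁)) := by
        have := Ideal.mem_map_of_mem (Ideal.Quotient.mk J₁) hone
        rw [Ideal.map_sup, Ideal.map_quotient_self, bot_sup_eq, Ideal.map_map, map_one] at this
        exact this
      exact (mul_one x) ▸ Ideal.mul_mem_left _ x h2)
  have haJ : algebraMap A₁ (A₁ ⊗[A] B₁) a ∈ J₁ := by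
    have h := (Algebra.algebraMap_eq_smul_one (R := A₁) (A := ((A₁ ⊗[A] B₁) ⧸ J₁)) a).trans (haM 1 Submodule.mem_top)
    rwa [IsScalarTower.algebraMap_apply A₁ (A₁ ⊗[A] B₁) ((A₁ ⊗[A] B₁) ⧸ J₁), Ideal.Quotient.algebraMap_eq,
      Ideal.Quotient.eq_zero_iff_mem] at h
  have hσa : σ₁ a = 1 := by
    have h0 : σ₁ (a - 1) = 0 := by
      have := Ideal.mem_map_of_mem σ₁.toRingHom ha
      rwa [Ideal.map_map, AlgHom.toRingHom_eq_coe, AlgHom.comp_algebraMap, Ideal.Quotient.algebraMap_eq,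
        Ideal.map_quotient_self, Ideal.mem_bot] at this
    rwa [map_sub, map_one, sub_eq_zero] at h0
  obtain ⟨σ, hσ, hσs, hσk⟩ := H9Smooth.exists_away I σ₁ hσ₁s hσ₁k a hσa
  let A' := Localization.Away a
  haveI : Algebra.Etale A₁ A' := Algebra.Etale.of_isLocalizationAway a
  haveI : Algebra.Etale A A' := Algebra.Etale.comp A A₁ A'
  let φ : A₁ ⊗[A] B₁ →ₐ[A] A' ⊗[A] B₁ :=
    Algebra.TensorProduct.map (IsScalarTower.toAlgHom A A₁ A') (AlgHom.id A B₁)
  let e := φ e₁
  have he : IsIdempotentElem e := he₁.map φ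
  let R : A' ⊗[A] B₁ := (1 : A') ⊗ₜ[A] r
  have hφr : φ ((1 : A₁) ⊗ₜ[A] r) = R := by simp [φ, R]
  have hJtop : Ideal.span {1 - e, R} = (⊤ : Ideal (A' ⊗[A] B₁)) := by
    refine Ideal.eq_top_of_isUnit_mem _ ?_
      ((IsLocalization.Away.algebraMap_isUnit (S := A') a).map (algebraMap A' (A' ⊗[A] B₁)))
    have h := Ideal.mem_map_of_mem φ.toRingHom haJ
    rw [Ideal.map_span, Set.image_pair] at h
    have h1 : φ.toRingHom (algebraMap A₁ (A₁ ⊗[A] B₁) a) = algebraMap A' (A' ⊗[A] B₁) (algebraMap A₁ A' a) := by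
      simp [φ, Algebra.TensorProduct.algebraMap_apply]
    rw [h1] at h
    simpa [e, hφr] using h
  haveI : Algebra.Etale A' (Localization.Away R) :=
    Algebra.Etale.of_equiv (IsLocalization.Away.tensorProductEquivTMulRight A A' r (Localization.Away r))
  have hBet : Algebra.Etale A' ((A' ⊗[A] B₁) ⧸ Ideal.span {1 - e}) :=
    etale_component e R he (Localization.Away R) hJtop
  -- reduction modulo `I`
  have hec : e - (1 : A') ⊗ₜ[A] u ∈ I.map (algebraMap A (A' ⊗[A] B₁)) := by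
    have h := Ideal.mem_map_of_mem φ.toRingHom hcong
    rw [Ideal.map_map, AlgHom.toRingHom_eq_coe, AlgHom.comp_algebraMap] at h
    simpa [φ, e] using h
  obtain ⟨π, hπs, hπk, hπc⟩ := exists_reduction I B₁ r u hB hr1 hu1 huy A' σ hσk e hec
  exact ⟨A', inferInstance, inferInstance, inferInstance, σ, hσs, hσk, (A' ⊗[A] B₁) ⧸ Ideal.span {1 - e},
    inferInstance, inferInstance, inferInstance, inferInstance,
    Module.Finite.of_surjective (Ideal.Quotient.mkₐ A' _).toLinearMap Ideal.Quotient.mk_surjective, hBet, π,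
    hπs, hπk, hπc⟩

/-- Finite étale algebras over `A/I` lift to finite étale algebras over an étale neighbourhood. -/
theorem exists_finiteEtale_lift {A : Type u} [CommRing A] (I : Ideal A) (C : Type u) [CommRing C]
    [Algebra (A ⧸ I) C] [Module.Finite (A ⧸ I) C] [Algebra.Etale (A ⧸ I) C] [Algebra A C] [IsScalarTower A (A ⧸ I) C] :
    ∃ (A' : Type u) (_ : CommRing A') (_ : Algebra A A') (_ : Algebra.Etale A A') (σ : A' →ₐ[A] A ⧸ I),
      Function.Surjective σ ∧ (∀ x, σ x = 0 → x ∈ I.map (algebraMap A A')) ∧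
      ∃ (B : Type u) (_ : CommRing B) (_ : Algebra A' B) (_ : Algebra A B) (_ : IsScalarTower A A' B),
        Module.Finite A' B ∧ Algebra.Etale A' B ∧
        ∃ π : B →ₐ[A] C, Function.Surjective π ∧ (∀ x, π x = 0 → x ∈ I.map (algebraMap A B)) ∧
          ∀ a, π (algebraMap A' B a) = algebraMap (A ⧸ I) C (σ a) := by
  obtain ⟨S, _, _, hS, ⟨e⟩⟩ := H9Hens.exists_etale_lift_quotient A I C
  let g : (S ⧸ I.map (algebraMap A S)) ≃ₐ[A ⧸ I] C :=
    (Algebra.TensorProduct.quotIdealMapEquivQuotTensor S I).trans e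
  haveI : Module.Finite (A ⧸ I) (S ⧸ I.map (algebraMap A S)) := Module.Finite.equiv g.symm.toLinearEquiv
  haveI : Module.Finite A (S ⧸ I.map (algebraMap A S)) := Module.Finite.trans (A ⧸ I) _
  obtain ⟨A', _, _, _, σ, hσs, hσk, B, _, _, _, _, hfin, het, π, hπs, hπk, hπc⟩ := exists_finiteEtale_of_etale I S
  refine ⟨A', _, _, ‹_›, σ, hσs, hσk, B, _, _, _, ‹_›, hfin, het, (g.restrictScalars A).toAlgHom.comp π, ?_, ?_, ?_⟩
  · exact g.surjective.comp hπs
  · exact fun x hx => hπk x ((map_eq_zero_iff g g.injective).mp hx)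
  · intro a
    show g (π _) = _
    rw [hπc, g.commutes]

end Groth.Agent.H05EGA4.FinEtaleLift
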