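import Mathlib
import Groth.Agent.H05EGA4.FormalFibres

/-!
# Fibre conditions tested on finite algebras which are domains (helper5)
-/

set_option autoImplicit false
set_option linter.style.haveILetI false
set_option synthInstance.maxHeartbeats 100000
universe u
open IsLocalRing TensorProduct Groth.Agent

namespace Groth.Agent.H05EGA4

variable {r n : WithBot ℕ∞}

/-- A finite algebra with given fraction field, finite over a residue field. -/
theorem exists_finite_domain {A : Type u} [CommRing A] (p : Ideal A) [p.IsPrime] (k' : Type u) [Field k']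
    [Algebra p.ResidueField k'] [Algebra A k'] [IsScalarTower A p.ResidueField k'] [Module.Finite p.ResidueField k'] :
    ∃ (B : Subalgebra A k'), Module.Finite A B ∧ IsFractionRing B k' := by
  classical
  let A0 := A ⧸ p
  letI : Algebra A0 k' := ((algebraMap p.ResidueField k').comp (algebraMap A0 p.ResidueField)).toAlgebra
  haveI : IsScalarTower A0 p.ResidueField k' := .of_algebraMap_eq fun _ => rfl
  haveI : IsScalarTower A A0 k' := .of_algebraMap_eq fun a => by
    show _ = algebraMap p.ResidueField k' (algebraMap A0 p.ResidueField (algebraMap A A0 a))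
    rw [← IsScalarTower.algebraMap_apply A A0 p.ResidueField, ← IsScalarTower.algebraMap_apply]
  haveI : FaithfulSMul A0 k' := (faithfulSMul_iff_algebraMap_injective _ _).mpr
    ((algebraMap p.ResidueField k').injective.comp (IsFractionRing.injective A0 p.ResidueField))
  obtain ⟨s, hs⟩ : ∃ s : Finset k', Submodule.span p.ResidueField (s : Set k') = ⊤ := Module.Finite.fg_top
  haveI : Algebra.IsAlgebraic A0 k' :=
    haveI := IsLocalization.isAlgebraic p.ResidueField (nonZeroDivisors A0)
    Algebra.IsAlgebraic.trans A0 p.ResidueField k'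
  obtain ⟨y, hy0, hy⟩ := exists_integral_multiples (A := A0) (K := p.ResidueField) (L := k') s
  let t : Set k' := (fun x => y • x) '' (s : Set k')
  let B := Algebra.adjoin A t
  have hint : ∀ z ∈ t, IsIntegral A z := by
    rintro _ ⟨x, hx, rfl⟩
    haveI : Algebra.IsIntegral A A0 := Algebra.IsIntegral.of_finite A A0
    exact isIntegral_trans _ (hy x hx)
  refine ⟨B, Module.Finite.iff_fg.mpr (fg_adjoin_of_finite (s.finite_toSet.image _) hint), ?_⟩
  haveI : FaithfulSMul B k' := (faithfulSMul_iff_algebraMap_injective _ _).mpr Subtype.val_injective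
  have hy' : algebraMap A0 k' y ≠ 0 := fun h =>
    hy0 (FaithfulSMul.algebraMap_injective A0 k' (by rw [h, map_zero]))
  have hA0 : ∀ a : A0, algebraMap A0 k' a ∈ B := fun a => by
    obtain ⟨a, rfl⟩ := Ideal.Quotient.mk_surjective a
    rw [← Ideal.Quotient.algebraMap_eq, ← IsScalarTower.algebraMap_apply]
    exact B.algebraMap_mem a
  have hbase : ∀ c : p.ResidueField, ∃ a b : B, (b : k') ≠ 0 ∧ algebraMap p.ResidueField k' c * b = a := by
    intro c
    obtain ⟨a, b, hb, rfl⟩ := IsFractionRing.div_surjective (A := A0) c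
    refine ⟨⟨_, hA0 a⟩, ⟨_, hA0 b⟩, fun h => nonZeroDivisors.ne_zero hb
      (FaithfulSMul.algebraMap_injective A0 k' (by simpa using h)), ?_⟩
    show algebraMap p.ResidueField k' _ * algebraMap A0 k' b = algebraMap A0 k' a
    rw [IsScalarTower.algebraMap_apply A0 p.ResidueField k' b, ← map_mul,
      div_mul_cancel₀ _ (IsFractionRing.to_map_ne_zero_of_mem_nonZeroDivisors hb), ← IsScalarTower.algebraMap_apply]
  refine IsFractionRing.of_field B k' fun z => ?_
  suffices h : ∃ a b : B, (b : k') ≠ 0 ∧ z * b = a by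
    obtain ⟨a, b, hb, h⟩ := h
    exact ⟨a, b, (eq_div_iff hb).mpr h⟩
  have hz : z ∈ Submodule.span p.ResidueField (s : Set k') := hs ▸ Submodule.mem_top
  induction hz using Submodule.span_induction with
  | mem x hx =>
    refine ⟨⟨y • x, Algebra.subset_adjoin ⟨x, hx, rfl⟩⟩, ⟨_, hA0 y⟩, hy', ?_⟩
    show x * algebraMap A0 k' y = y • x
    rw [Algebra.smul_def, mul_comm]
  | zero => exact ⟨0, 1, by simp, by simp⟩
  | add x x' _ _ hx hx' =>
    obtain ⟨a, b, hb, h⟩ := hx
    obtain ⟨a', b', hb', h'⟩ := hx'
    refine ⟨a * b' + a' * b, b * b', by simp [hb, hb'], ?_⟩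
    push_cast
    rw [← h, ← h']; ring
  | smul c x _ hx =>
    obtain ⟨a, b, hb, h⟩ := hx
    obtain ⟨a', b', hb', h'⟩ := hbase c
    refine ⟨a' * a, b' * b, by simp [hb, hb'], ?_⟩
    push_cast
    rw [← h, ← h', Algebra.smul_def]; ring

/-- Fibre conditions from finite algebras which are domains. -/
theorem grsHom_of_finite_domains {A C : Type u} [CommRing A] [CommRing C] [Algebra A C] [IsNoetherianRing C]
    (hflat : Module.Flat A C)
    (h : ∀ (B : Type u) [CommRing B] [IsDomain B] [Algebra A B] [Module.Finite A B] (q : Ideal (B ⊗[A] C)) [q.IsPrime],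
      q.comap (algebraMap B (B ⊗[A] C)) = ⊥ → RS r n (Localization.AtPrime q)) :
    GRSHom r n A C := by
  refine grsHom_of_forall hflat fun p _ k' _ _ _ _ _ _ => ?_
  obtain ⟨B, hfin, hfrac⟩ := exists_finite_domain p k'
  haveI : IsNoetherianRing (B ⊗[A] C) := H02CA.isNoetherianRing_tensor_of_essFiniteType _ _ _
  haveI : IsNoetherianRing (C ⊗[A] B) :=
    isNoetherianRing_of_ringEquiv _ (Algebra.TensorProduct.comm A B C).toRingEquiv
  letI := (Algebra.TensorProduct.map (AlgHom.id A C) (IsScalarTower.toAlgHom A B k')).toRingHom.toAlgebra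
  haveI hloc := isLocalization_tensor_right A B k' C (nonZeroDivisors B)
  let M := (nonZeroDivisors B).map (Algebra.TensorProduct.includeRight : B →ₐ[A] C ⊗[A] B).toRingHom
  haveI : IsNoetherianRing (C ⊗[A] k') := IsLocalization.isNoetherianRing M _ inferInstance
  suffices hX : RS r n (C ⊗[A] k') from hX.of_ringEquiv (Algebra.TensorProduct.comm A C k').toRingEquiv
  intro P _
  refine (rsLocal_localization_iff M _ P).mpr ?_
  let P0 := P.comap (algebraMap (C ⊗[A] B) (C ⊗[A] k'))
  let e := (Algebra.TensorProduct.comm A B C).toRingEquiv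
  let q := P0.comap e.toRingHom
  haveI : q.IsPrime := Ideal.IsPrime.comap _
  have hq : q.comap (algebraMap B (B ⊗[A] C)) = ⊥ := by
    refine eq_bot_iff.mpr fun b hb => Ideal.mem_bot.mpr ?_
    by_contra hb0
    have hu : IsUnit (algebraMap (C ⊗[A] B) (C ⊗[A] k')
        ((Algebra.TensorProduct.includeRight : B →ₐ[A] C ⊗[A] B).toRingHom b)) :=
      IsLocalization.map_units (C ⊗[A] k') (⟨_, b, mem_nonZeroDivisors_of_ne_zero hb0, rfl⟩ : M)
    exact Ideal.IsPrime.ne_top inferInstance (Ideal.eq_top_of_isUnit_mem P hb hu)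
  have hqrs := ((rs_atPrime_iff q).mp (h B q hq)) q le_rfl
  exact hqrs.of_ringEquiv (IsLocalization.ringEquivOfRingEquiv (M := q.primeCompl) (T := P0.primeCompl)
    (Localization.AtPrime q) (Localization.AtPrime P0) e (by
      refine le_antisymm ?_ fun x hx => ⟨e.symm x, fun hx' => hx (e.apply_symm_apply x ▸ hx'), e.apply_symm_apply x⟩
      rintro _ ⟨x, hx, rfl⟩
      exact hx))

/-- Conversely. -/
theorem GRSHom.rs_finite_domain {A C : Type u} [CommRing A] [CommRing C] [Algebra A C] [IsNoetherianRing C]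
    (hC : GRSHom r n A C) (B : Type u) [CommRing B] [IsDomain B] [Algebra A B] [Module.Finite A B]
    (q : Ideal (B ⊗[A] C)) [q.IsPrime] (hq : q.comap (algebraMap B (B ⊗[A] C)) = ⊥) :
    RS r n (Localization.AtPrime q) := by
  let K := FractionRing B
  haveI : Algebra.EssFiniteType A K :=
    haveI : Algebra.EssFiniteType B K := Algebra.EssFiniteType.of_isLocalization K (nonZeroDivisors B)
    Algebra.EssFiniteType.comp A B K
  haveI : IsNoetherianRing (B ⊗[A] C) := H02CA.isNoetherianRing_tensor_of_essFiniteType _ _ _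
  haveI : IsNoetherianRing (C ⊗[A] B) :=
    isNoetherianRing_of_ringEquiv _ (Algebra.TensorProduct.comm A B C).toRingEquiv
  haveI : IsNoetherianRing (K ⊗[A] C) := H02CA.isNoetherianRing_tensor_of_essFiniteType _ _ _
  have hX : RS r n (C ⊗[A] K) :=
    (hC.tensor_field K (.inl inferInstance)).of_ringEquiv (Algebra.TensorProduct.comm A K C).toRingEquiv
  letI := (Algebra.TensorProduct.map (AlgHom.id A C) (IsScalarTower.toAlgHom A B K)).toRingHom.toAlgebra
  haveI hloc := isLocalization_tensor_right A B K C (nonZeroDivisors B)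
  let M := (nonZeroDivisors B).map (Algebra.TensorProduct.includeRight : B →ₐ[A] C ⊗[A] B).toRingHom
  let e := (Algebra.TensorProduct.comm A B C).toRingEquiv
  refine (rs_atPrime_iff q).mpr fun q' _ hle => ?_
  let P0 := q'.comap e.symm.toRingHom
  haveI : P0.IsPrime := Ideal.IsPrime.comap _
  have hdisj : Disjoint (M : Set (C ⊗[A] B)) P0 := Set.disjoint_left.mpr fun x hx hxP => by
    obtain ⟨b, hb, rfl⟩ := hx
    have h1 : b ∈ q.comap (algebraMap B (B ⊗[A] C)) := hle hxP
    rw [hq, Ideal.mem_bot] at h1
    exact nonZeroDivisors.ne_zero hb h1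
  haveI := IsLocalization.isPrime_of_isPrime_disjoint M (C ⊗[A] K) P0 inferInstance hdisj
  have h1 := (rsLocal_congr (IsLocalization.under_map_of_isPrime_disjoint M (C ⊗[A] K) inferInstance hdisj)).mp
    ((rsLocal_localization_iff M (C ⊗[A] K) _).mp (hX (P0.map (algebraMap _ _))))
  exact h1.of_ringEquiv (IsLocalization.ringEquivOfRingEquiv (M := P0.primeCompl) (T := q'.primeCompl)
    (Localization.AtPrime P0) (Localization.AtPrime q') e.symm (by
      refine le_antisymm ?_ fun x hx => ⟨e x, fun hx' => hx (show x ∈ q' from by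
        have := (e.symm_apply_apply x); rw [← this]; exact hx'), e.symm_apply_apply x⟩
      rintro _ ⟨x, hx, rfl⟩
      exact hx))

end Groth.Agent.H05EGA4
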