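import Mathlib
import Groth.Agent.H05EGA4.GRing
import Groth.Agent.H05EGA4.FormalFibres

/-!
G-rings from the formal fibres of finite free algebras.
-/

set_option autoImplicit false
set_option linter.style.haveILetI false
set_option synthInstance.maxHeartbeats 400000
set_option maxHeartbeats 1600000
universe u
open IsLocalRing TensorProduct Groth.Agent Polynomial

namespace Groth.Agent.H05EGA4.FiniteFreeFibres

/-- A finite free algebra hitting given integral elements. -/
theorem exists_free {R K : Type u} [CommRing R] [Field K] [Algebra R K] (s : Finset K)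
    (hs : ∀ x ∈ s, IsIntegral R x) :
    ∃ (S : Type u) (_ : CommRing S) (_ : Algebra R S), Module.Finite R S ∧ Module.Free R S ∧
      ∃ φ : S →ₐ[R] K, ∀ x ∈ s, x ∈ Set.range φ := by
  classical
  induction s using Finset.induction_on with
  | empty => exact ⟨R, inferInstance, inferInstance, inferInstance, inferInstance, Algebra.ofId R K, by simp⟩
  | insert b s hb ih =>
    obtain ⟨S, _, _, _, _, φ, hφ⟩ := ih fun x hx => hs x (Finset.mem_insert_of_mem hx)
    obtain ⟨f, hf, hev⟩ := hs b (Finset.mem_insert_self b s)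
    haveI := hf.free_adjoinRoot
    haveI := hf.finite_adjoinRoot
    let ψ : AdjoinRoot f →ₐ[R] K := AdjoinRoot.liftAlgHom f (Algebra.ofId R K) b hev
    refine ⟨S ⊗[R] AdjoinRoot f, inferInstance, inferInstance, inferInstance, inferInstance,
      Algebra.TensorProduct.productMap φ ψ, fun x hx => ?_⟩
    rcases Finset.mem_insert.mp hx with rfl | hx
    · exact ⟨1 ⊗ₜ AdjoinRoot.root f, by
        rw [Algebra.TensorProduct.productMap_apply_tmul, map_one, one_mul]
        exact AdjoinRoot.liftAlgHom_root _ _ _ _⟩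
    · obtain ⟨y, rfl⟩ := hφ x hx
      exact ⟨y ⊗ₜ 1, by simp⟩

/-- A finite extension of a residue field is the residue field of a prime of a finite free algebra. -/
theorem exists_free_generating {R K : Type u} [CommRing R] (q : Ideal R) [q.IsPrime] [Field K]
    [Algebra R K] [Algebra q.ResidueField K] [IsScalarTower R q.ResidueField K] [Module.Finite q.ResidueField K] :
    ∃ (S : Type u) (_ : CommRing S) (_ : Algebra R S), Module.Finite R S ∧ Module.Free R S ∧
      ∃ φ : S →ₐ[R] K, ∀ z : K, ∃ s t : S, φ t ≠ 0 ∧ z = φ s / φ t := by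
  classical
  haveI : Algebra.IsAlgebraic q.ResidueField K := Algebra.IsAlgebraic.of_finite _ _
  let b := Module.finBasis q.ResidueField K
  -- fractions
  have hfrac : ∀ c : q.ResidueField, ∃ r a : R, a ∉ q ∧ c * algebraMap R q.ResidueField a = algebraMap R q.ResidueField r := by
    intro c
    obtain ⟨n, d, hd, rfl⟩ := IsFractionRing.div_surjective (A := R ⧸ q) c
    obtain ⟨n, rfl⟩ := Ideal.Quotient.mk_surjective n
    obtain ⟨d, rfl⟩ := Ideal.Quotient.mk_surjective d
    refine ⟨n, d, fun h => nonZeroDivisors.ne_zero hd (Ideal.Quotient.eq_zero_iff_mem.mpr h), ?_⟩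
    rw [IsScalarTower.algebraMap_apply R (R ⧸ q) q.ResidueField d, IsScalarTower.algebraMap_apply R (R ⧸ q) q.ResidueField n,
      Ideal.Quotient.algebraMap_eq, div_mul_cancel₀]
    exact (map_ne_zero_iff _ (IsFractionRing.injective _ _)).mpr (nonZeroDivisors.ne_zero hd)
  have hne : ∀ a : R, a ∉ q → algebraMap R K a ≠ 0 := fun a ha h => ha (by
    rw [IsScalarTower.algebraMap_apply R q.ResidueField K, map_eq_zero] at h
    exact Ideal.algebraMap_residueField_eq_zero.mp h)
  -- integral multiples of the basis vectors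
  have hint : ∀ i, ∃ a : R, a ∉ q ∧ IsIntegral R (algebraMap R K a * b i) := by
    intro i
    letI : Algebra (R ⧸ q) K := ((algebraMap q.ResidueField K).comp (algebraMap (R ⧸ q) q.ResidueField)).toAlgebra
    haveI : IsScalarTower (R ⧸ q) q.ResidueField K := IsScalarTower.of_algebraMap_eq fun _ => rfl
    haveI : IsScalarTower R (R ⧸ q) K := IsScalarTower.of_algebraMap_eq fun r => by
      rw [IsScalarTower.algebraMap_apply R q.ResidueField K, IsScalarTower.algebraMap_apply R (R ⧸ q) q.ResidueField]
      rfl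
    have halg : IsAlgebraic (R ⧸ q) (b i) :=
      (IsFractionRing.isAlgebraic_iff (R ⧸ q) q.ResidueField K).mpr (Algebra.IsAlgebraic.isAlgebraic _)
    obtain ⟨a, ha0, ha⟩ := halg.exists_integral_multiple
    obtain ⟨a, rfl⟩ := Ideal.Quotient.mk_surjective a
    refine ⟨a, fun h => ha0 (Ideal.Quotient.eq_zero_iff_mem.mpr h), ?_⟩
    haveI : Algebra.IsIntegral R (R ⧸ q) := Algebra.IsIntegral.of_finite R _
    have := isIntegral_trans (R := R) _ ha
    rwa [Algebra.smul_def, ← Ideal.Quotient.algebraMap_eq, ← IsScalarTower.algebraMap_apply] at this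
  choose a ha hai using hint
  obtain ⟨S, _, _, hfin, hfree, φ, hφ⟩ := exists_free (Finset.univ.image fun i => algebraMap R K (a i) * b i)
    (by intro x hx; obtain ⟨i, -, rfl⟩ := Finset.mem_image.mp hx; exact hai i)
  refine ⟨S, inferInstance, inferInstance, hfin, hfree, φ, fun z => ?_⟩
  let T : Set K := {z | ∃ s t : S, φ t ≠ 0 ∧ z = φ s / φ t}
  have hadd : ∀ x ∈ T, ∀ y ∈ T, x + y ∈ T := by
    rintro x ⟨s, t, ht, rfl⟩ y ⟨s', t', ht', rfl⟩
    refine ⟨s * t' + s' * t, t * t', by rw [map_mul]; exact mul_ne_zero ht ht', ?_⟩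
    rw [div_add_div _ _ ht ht', map_add, map_mul, map_mul, map_mul]; ring
  have hmul : ∀ x ∈ T, ∀ y ∈ T, x * y ∈ T := by
    rintro x ⟨s, t, ht, rfl⟩ y ⟨s', t', ht', rfl⟩
    exact ⟨s * s', t * t', by rw [map_mul]; exact mul_ne_zero ht ht', by rw [map_mul, map_mul, div_mul_div_comm]⟩
  have hR : ∀ r : R, algebraMap R K r ∈ T := fun r => ⟨algebraMap R S r, 1, by simp, by simp⟩
  have hc : ∀ c : q.ResidueField, algebraMap q.ResidueField K c ∈ T := fun c => by
    obtain ⟨r, d, hd, hrd⟩ := hfrac c
    refine ⟨algebraMap R S r, algebraMap R S d, by rw [φ.commutes]; exact hne d hd, ?_⟩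
    rw [φ.commutes, φ.commutes, eq_div_iff (hne d hd), IsScalarTower.algebraMap_apply R q.ResidueField K d,
      IsScalarTower.algebraMap_apply R q.ResidueField K r, ← map_mul, hrd]
  have hb : ∀ i, b i ∈ T := fun i => by
    obtain ⟨s, hs⟩ := hφ _ (Finset.mem_image_of_mem _ (Finset.mem_univ i))
    exact ⟨s, algebraMap R S (a i), by rw [φ.commutes]; exact hne _ (ha i),
      by rw [hs, φ.commutes, mul_div_cancel_left₀ _ (hne _ (ha i))]⟩
  show z ∈ T
  rw [← b.sum_repr z]
  refine Finset.sum_induction _ (· ∈ T) (fun x y hx hy => hadd x hx y hy) ⟨0, 1, by simp, by simp⟩ fun i _ => ?_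
  rw [Algebra.smul_def]
  exact hmul _ (hc _) _ (hb i)

/-- Regularity at a prime through a localisation of the second factor. -/
theorem isRegularLocalRing_of_map {S K T C : Type u} [CommRing S] [CommRing K] [CommRing T] [CommRing C]
    [Algebra S K] [Algebra S T] [Algebra S C] (Ψ : T →ₐ[S] C) (hΨ : Function.Surjective Ψ)
    (hker : ∀ x, Ψ x = 0 → ∃ w, IsUnit (Ψ w) ∧ w * x = 0) [IsRegularRing (K ⊗[S] C)]
    (P : Ideal (K ⊗[S] T)) [hP : P.IsPrime]
    (hunit : ∀ w : T, IsUnit (Ψ w) → (1 : K) ⊗ₜ[S] w ∉ P) :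
    IsRegularLocalRing (Localization.AtPrime P) := by
  let iT : T →ₐ[S] K ⊗[S] T := Algebra.TensorProduct.includeRight
  -- the localisation
  let F := Algebra.TensorProduct.map (AlgHom.id S K) Ψ
  let M : Submonoid (K ⊗[S] T) := (IsUnit.submonoid C).comap Ψ |>.map iT
  have hF : Function.Surjective F := by
    intro z
    induction z using TensorProduct.induction_on with
    | zero => exact ⟨0, map_zero _⟩
    | add a b ha hb => obtain ⟨v, rfl⟩ := ha; obtain ⟨w, rfl⟩ := hb; exact ⟨v + w, map_add _ _ _⟩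
    | tmul l c => obtain ⟨d, rfl⟩ := hΨ c; exact ⟨l ⊗ₜ d, rfl⟩
  have hFM : ∀ y ∈ M, IsUnit (F y) := by
    rintro _ ⟨w, hw, rfl⟩
    show IsUnit (F ((1 : K) ⊗ₜ w))
    rw [Algebra.TensorProduct.map_tmul]
    exact (IsUnit.map (Algebra.TensorProduct.includeRight (R := S) (A := K) (B := C)) hw :)
  have hFker : ∀ z, F z = 0 → ∃ u ∈ M, u * z = 0 := by
    intro z hz
    have hz' : z ∈ (RingHom.ker Ψ).map iT := by
      rw [← Algebra.TensorProduct.lTensor_ker Ψ hΨ]
      exact hz
    clear hz
    induction hz' using Submodule.span_induction with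
    | mem y hy =>
      obtain ⟨x, hx, rfl⟩ := hy
      obtain ⟨w, hw, hwx⟩ := hker x hx
      exact ⟨iT w, ⟨w, hw, rfl⟩, by rw [← map_mul, hwx, map_zero]⟩
    | zero => exact ⟨1, one_mem _, mul_zero _⟩
    | add y y' _ _ hy hy' =>
      obtain ⟨u, hu, huy⟩ := hy
      obtain ⟨u', hu', huy'⟩ := hy'
      exact ⟨u * u', mul_mem hu hu', by linear_combination u' * huy + u * huy'⟩
    | smul c y _ hy =>
      obtain ⟨u, hu, huy⟩ := hy
      exact ⟨u, hu, by rw [smul_eq_mul]; linear_combination c * huy⟩
  letI : Algebra (K ⊗[S] T) (K ⊗[S] C) := F.toRingHom.toAlgebra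
  haveI : IsLocalization M (K ⊗[S] C) :=
    ⟨⟨fun y => hFM y.1 y.2, fun z => ⟨⟨(hF z).choose, 1⟩, by
      show z * F _ = F _
      rw [(hF z).choose_spec]; simp⟩, fun {x y} h => by
      obtain ⟨u, hu, huy⟩ := hFker (x - y) (by rw [map_sub]; exact sub_eq_zero.mpr h)
      exact ⟨⟨u, hu⟩, sub_eq_zero.mp (by rw [← mul_sub]; exact huy)⟩⟩⟩
  have hdisj : Disjoint (M : Set (K ⊗[S] T)) P := Set.disjoint_left.mpr fun y hy hyP => by
    obtain ⟨w, hw, rfl⟩ := hy
    exact hunit w hw hyP
  let P' := P.map (algebraMap (K ⊗[S] T) (K ⊗[S] C))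
  haveI : P'.IsPrime := IsLocalization.isPrime_of_isPrime_disjoint M _ P hP hdisj
  haveI hloc := IsLocalization.isLocalization_isLocalization_atPrime_isLocalization M (Localization.AtPrime P') P'
  have key : ∀ (q : Ideal (K ⊗[S] T)) [q.IsPrime], q = P → IsLocalization.AtPrime (Localization.AtPrime P') q →
      IsRegularLocalRing (Localization.AtPrime P) := by
    intro q _ hqP H
    subst hqP
    haveI : IsRegularLocalRing (Localization.AtPrime P') :=
      isRegularRing_iff.mp (inferInstance : IsRegularRing (K ⊗[S] C)) P'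
    exact IsRegularLocalRing.of_ringEquiv
      (IsLocalization.algEquiv q.primeCompl (Localization.AtPrime P') (Localization.AtPrime q)).toRingEquiv
  exact key _ (IsLocalization.under_map_of_isPrime_disjoint M _ hP hdisj) hloc

/-- The completion of the base, tensored with a finite algebra, localises to the completions of the algebra. -/
theorem isRegularRing_of_pieces {R S : Type u} [CommRing R] [IsNoetherianRing R] [CommRing S] [Algebra R S]
    [Module.Finite R S] (p : Ideal R) [p.IsPrime] (K : Type u) [Field K] [Algebra R K] [Algebra S K]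
    [IsScalarTower R S K] [IsNoetherianRing (K ⊗[R] EGA4.Cpl (Localization.AtPrime p))]
    (h : ∀ (𝔮 : Ideal S) [𝔮.IsPrime], 𝔮.comap (algebraMap R S) = p → RingHom.ker (algebraMap S K) ≤ 𝔮 →
      IsRegularRing (K ⊗[S] EGA4.Cpl (Localization.AtPrime 𝔮))) :
    IsRegularRing (K ⊗[R] EGA4.Cpl (Localization.AtPrime p)) := by
  classical
  haveI : IsNoetherianRing S := IsNoetherianRing.of_finite R S
  haveI : IsNoetherianRing (Localization.AtPrime p) := IsLocalization.isNoetherianRing p.primeCompl _ inferInstance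
  let Rh := EGA4.Cpl (Localization.AtPrime p)
  let T := S ⊗[R] Rh
  haveI := isNoetherianRing_cpl (Localization.AtPrime p)
  let e : K ⊗[S] T ≃ₐ[K] K ⊗[R] Rh := Algebra.TensorProduct.cancelBaseChange R S K K Rh
  haveI : IsNoetherianRing (K ⊗[S] T) := isNoetherianRing_of_ringEquiv _ e.symm.toRingEquiv
  suffices h' : IsRegularRing (K ⊗[S] T) by
    haveI := h'
    exact IsRegularRing.of_ringEquiv (R := K ⊗[S] T) e.toRingEquiv
  rw [isRegularRing_iff]
  intro P hP
  let iT : T →ₐ[S] K ⊗[S] T := Algebra.TensorProduct.includeRight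
  obtain ⟨𝔐, h𝔐, hle⟩ := Ideal.exists_le_maximal (P.comap iT) (Ideal.IsPrime.ne_top inferInstance)
  let iR : Rh →ₐ[R] T := Algebra.TensorProduct.includeRight
  have hmax : 𝔐.comap iR = maximalIdeal Rh := by
    letI : Algebra Rh T := Algebra.TensorProduct.rightAlgebra
    haveI : Module.Finite Rh T := Module.Finite.equiv
      (AlgEquiv.ofRingEquiv (f := (Algebra.TensorProduct.comm R Rh S).toRingEquiv) fun _ => rfl : Rh ⊗[R] S ≃ₐ[Rh] T).toLinearEquiv
    haveI : Algebra.IsIntegral Rh T := Algebra.IsIntegral.of_finite _ _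
    haveI := h𝔐
    exact eq_maximalIdeal (Ideal.isMaximal_comap_of_isIntegral_of_isMaximal (R := Rh) 𝔐)
  let 𝔮 := 𝔐.comap (algebraMap S T)
  haveI : 𝔮.IsPrime := inferInstance
  have hmR : (maximalIdeal Rh).comap (algebraMap R Rh) = p := by
    rw [IsScalarTower.algebraMap_eq R (Localization.AtPrime p) Rh, ← Ideal.comap_comap]
    have : (maximalIdeal Rh).comap (algebraMap (Localization.AtPrime p) Rh) = maximalIdeal _ :=
      ((local_hom_TFAE (algebraMap (Localization.AtPrime p) Rh)).out 0 4).mp (by
        exact ((local_hom_TFAE _).out 0 2).mpr (by rw [AdicCompletion.maximalIdeal_eq_map]))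
    rw [this]
    exact IsLocalization.AtPrime.under_maximalIdeal _ p
  have hq : 𝔮.comap (algebraMap R S) = p := by
    rw [← hmR, ← hmax]
    ext r
    show algebraMap S T (algebraMap R S r) ∈ 𝔐 ↔ iR (algebraMap R Rh r) ∈ 𝔐
    rw [← IsScalarTower.algebraMap_apply, iR.commutes]
  have hQ : RingHom.ker (algebraMap S K) ≤ 𝔮 := fun s hs => hle (by
    show iT (algebraMap S T s) ∈ P
    rw [iT.commutes, IsScalarTower.algebraMap_apply S K (K ⊗[S] T), RingHom.mem_ker.mp hs, map_zero]
    exact zero_mem _)
  let C := EGA4.Cpl (Localization.AtPrime 𝔮)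
  haveI : IsNoetherianRing (Localization.AtPrime 𝔮) := IsLocalization.isNoetherianRing 𝔮.primeCompl _ inferInstance
  haveI := isNoetherianRing_cpl (Localization.AtPrime 𝔮)
  haveI : IsAdicComplete (maximalIdeal C) C := by
    rw [AdicCompletion.maximalIdeal_eq_map]
    exact AdicCompletion.isAdicComplete_self _ (IsNoetherian.noetherian _)
  have hCmax : 𝔮.map (algebraMap S C) = maximalIdeal C := by
    rw [IsScalarTower.algebraMap_eq S (Localization.AtPrime 𝔮) C, ← Ideal.map_map,
      Localization.AtPrime.map_eq_maximalIdeal, ← AdicCompletion.maximalIdeal_eq_map]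
  have hCres : ∀ c : C, ∃ a t : S, t ∉ 𝔮 ∧ c * algebraMap S C t - algebraMap S C a ∈ maximalIdeal C := by
    intro c
    obtain ⟨x, hx⟩ := H24Adic.exists_sub_of_mem (IsNoetherian.noetherian (maximalIdeal (Localization.AtPrime 𝔮))) 1 c
    obtain ⟨⟨r, s, hs⟩, hrs⟩ := IsLocalization.surj 𝔮.primeCompl x
    refine ⟨r, s, hs, ?_⟩
    rw [IsScalarTower.algebraMap_apply S (Localization.AtPrime 𝔮) C r, ← hrs, map_mul,
      ← IsScalarTower.algebraMap_apply, ← sub_mul]
    refine Ideal.mul_mem_right _ _ ?_
    rw [AdicCompletion.maximalIdeal_eq_map]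
    simpa using hx
  haveI := faithfullyFlat_cpl (Localization.AtPrime 𝔮)
  have hCJ : ∀ (J : Ideal S) (a : S), algebraMap S C a ∈ J.map (algebraMap S C) → ∃ t ∉ 𝔮, t * a ∈ J := by
    intro J a ha
    rw [IsScalarTower.algebraMap_eq S (Localization.AtPrime 𝔮) C, ← Ideal.map_map] at ha
    have h1 : algebraMap S (Localization.AtPrime 𝔮) a ∈ J.map (algebraMap S (Localization.AtPrime 𝔮)) := by
      rw [← Ideal.comap_map_eq_self_of_faithfullyFlat (B := C) (J.map (algebraMap S (Localization.AtPrime 𝔮)))]
      exact ha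
    rw [IsLocalization.algebraMap_mem_map_algebraMap_iff 𝔮.primeCompl] at h1
    obtain ⟨t, ht, hta⟩ := h1
    exact ⟨t, ht, hta⟩
  obtain ⟨Ψ, hΨ, hker⟩ := exists_completion_finite_map p 𝔮 C hq hCmax hCres hCJ
  -- the point of `Ψ` is `𝔐`
  have hunit : ∀ t : T, IsUnit (Ψ t) → t ∉ 𝔐 := by
    intro t ht htM
    let 𝔐' := (maximalIdeal C).comap Ψ
    haveI : 𝔐'.IsMaximal := Ideal.comap_isMaximal_of_surjective Ψ hΨ
    have hle' : 𝔐' ≤ 𝔐 := by
      have hgen : ∀ x : T, ∃ (s : S) (d : R), d ∉ p ∧ x * algebraMap R T d - algebraMap S T s ∈ (maximalIdeal Rh).map iR := by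
        intro x
        induction x using TensorProduct.induction_on with
        | zero => exact ⟨0, 1, fun h1 => Ideal.IsPrime.ne_top ‹p.IsPrime› ((Ideal.eq_top_iff_one p).mpr h1), by simp⟩
        | tmul s y =>
          obtain ⟨x, hx⟩ := H24Adic.exists_sub_of_mem (IsNoetherian.noetherian (maximalIdeal (Localization.AtPrime p))) 1 y
          obtain ⟨⟨r, d, hd⟩, hrd⟩ := IsLocalization.surj p.primeCompl x
          refine ⟨s * algebraMap R S r, d, hd, ?_⟩
          have h1 : y * algebraMap R Rh d - algebraMap R Rh r ∈ maximalIdeal Rh := by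
            rw [IsScalarTower.algebraMap_apply R (Localization.AtPrime p) Rh r, ← hrd, map_mul,
              ← IsScalarTower.algebraMap_apply, ← sub_mul]
            refine Ideal.mul_mem_right _ _ ?_
            rw [AdicCompletion.maximalIdeal_eq_map]
            simpa using hx
          have h2 : (s ⊗ₜ y : T) * algebraMap R T d - algebraMap S T (s * algebraMap R S r) =
              algebraMap S T s * iR (y * algebraMap R Rh d - algebraMap R Rh r) := by
            rw [map_mul, ← IsScalarTower.algebraMap_apply, map_sub, map_mul, iR.commutes, iR.commutes, mul_sub,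
              ← mul_assoc]
            congr 2
            show _ = (s ⊗ₜ 1 : T) * (1 ⊗ₜ y)
            rw [Algebra.TensorProduct.tmul_mul_tmul, mul_one, one_mul]
          rw [h2]
          exact Ideal.mul_mem_left _ _ (Ideal.mem_map_of_mem _ h1)
        | add x y hx hy =>
          obtain ⟨s, d, hd, hx⟩ := hx; obtain ⟨s', d', hd', hy⟩ := hy
          refine ⟨s * algebraMap R S d' + s' * algebraMap R S d, d * d', ‹p.IsPrime›.mul_notMem hd hd', ?_⟩
          have : (x + y) * algebraMap R T (d * d') - algebraMap S T (s * algebraMap R S d' + s' * algebraMap R S d) =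
              (x * algebraMap R T d - algebraMap S T s) * algebraMap R T d' +
              (y * algebraMap R T d' - algebraMap S T s') * algebraMap R T d := by
            rw [map_add, map_mul, map_mul, map_mul, ← IsScalarTower.algebraMap_apply, ← IsScalarTower.algebraMap_apply]
            ring
          rw [this]
          exact add_mem (Ideal.mul_mem_right _ _ hx) (Ideal.mul_mem_right _ _ hy)
      intro x hx
      obtain ⟨s, d, hd, hxd⟩ := hgen x
      have hm' : (maximalIdeal Rh).map iR ≤ 𝔐' := by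
        refine Ideal.map_le_iff_le_comap.mpr fun y hy => ?_
        have hp1 : 𝔐'.comap iR = maximalIdeal Rh := by
          letI : Algebra Rh T := Algebra.TensorProduct.rightAlgebra
          haveI : Module.Finite Rh T := Module.Finite.equiv
            (AlgEquiv.ofRingEquiv (f := (Algebra.TensorProduct.comm R Rh S).toRingEquiv) fun _ => rfl : Rh ⊗[R] S ≃ₐ[Rh] T).toLinearEquiv
          haveI : Algebra.IsIntegral Rh T := Algebra.IsIntegral.of_finite _ _
          exact eq_maximalIdeal (Ideal.isMaximal_comap_of_isIntegral_of_isMaximal (R := Rh) 𝔐')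
        rw [hp1]; exact hy
      have hm : (maximalIdeal Rh).map iR ≤ 𝔐 := Ideal.map_le_iff_le_comap.mpr hmax.ge
      have hs' : algebraMap S T s ∈ 𝔐' := by
        simpa using 𝔐'.sub_mem (𝔐'.mul_mem_right (algebraMap R T d) hx) (hm' hxd)
      have hsq : s ∈ 𝔮 := by
        by_contra hsn
        have : IsUnit (Ψ (algebraMap S T s)) := by
          rw [Ψ.commutes]
          exact IsLocalRing.notMem_maximalIdeal.mp fun hh => hsn (by
            obtain ⟨t', ht', hts⟩ := hCJ 𝔮 s (by rw [hCmax]; exact hh)
            exact ((‹𝔮.IsPrime›).mem_or_mem hts).resolve_left ht')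
        exact (IsLocalRing.mem_maximalIdeal _).mp hs' this
      have hxd' : x * algebraMap R T d ∈ 𝔐 := by
        simpa using 𝔐.add_mem (hm hxd) (show algebraMap S T s ∈ 𝔐 from hsq)
      refine (h𝔐.isPrime.mem_or_mem hxd').resolve_right fun hdM => hd ?_
      rw [← hq]
      show algebraMap S T (algebraMap R S d) ∈ 𝔐
      rwa [← IsScalarTower.algebraMap_apply]
    have heq : 𝔐' = 𝔐 := Ideal.IsMaximal.eq_of_le inferInstance h𝔐.ne_top hle'
    rw [← heq] at htM
    exact (IsLocalRing.mem_maximalIdeal _).mp htM ht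
  haveI := h 𝔮 hq hQ
  exact isRegularLocalRing_of_map Ψ hΨ hker P fun w hw hwP => hunit w hw (hle hwP)

/-- G-rings from finite free algebras. -/
theorem isGRing_of_finite_free {R : Type u} [CommRing R] [IsNoetherianRing R]
    (h : ∀ (S : Type u) [CommRing S] [Algebra R S] [Module.Finite R S] [Module.Free R S]
        (q : Ideal S) [q.IsPrime] (p : Ideal (Localization.AtPrime q)) [p.IsPrime],
        IsRegularRing (EGA4.formalFibre (Localization.AtPrime q) p)) :
    CAlg.IsGRing R := by
  refine ⟨inferInstance, fun p hp => ?_⟩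
  let A := Localization.AtPrime p
  haveI : IsNoetherianRing A := IsLocalization.isNoetherianRing p.primeCompl _ inferInstance
  haveI := isNoetherianRing_cpl A
  refine H02CA.isRegularHom_of_forall (A := A) (fun Q _ => ?_) fun Q _ k' _ _ _ _ _ => ?_
  · have : IsNoetherianRing (EGA4.Cpl A ⊗[A] Q.ResidueField) :=
      Algebra.EssFiniteType.isNoetherianRing (EGA4.Cpl A) (EGA4.Cpl A ⊗[A] Q.ResidueField)
    exact isNoetherianRing_of_ringEquiv _ (Algebra.TensorProduct.comm A (EGA4.Cpl A) Q.ResidueField).toRingEquiv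
  letI : Algebra R k' := ((algebraMap A k').comp (algebraMap R A)).toAlgebra
  haveI : IsScalarTower R A k' := IsScalarTower.of_algebraMap_eq fun _ => rfl
  let q := Q.comap (algebraMap R A)
  let j : q.ResidueField →+* Q.ResidueField := Ideal.ResidueField.lift q
    ((algebraMap A Q.ResidueField).comp (algebraMap R A))
    (fun x hx => Ideal.algebraMap_residueField_eq_zero.mpr (hx : algebraMap R A x ∈ Q))
    (fun x hx => isUnit_iff_ne_zero.mpr fun h0 => hx (Ideal.algebraMap_residueField_eq_zero.mp h0 :))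
  letI : Algebra q.ResidueField Q.ResidueField := j.toAlgebra
  haveI : IsScalarTower R q.ResidueField Q.ResidueField := IsScalarTower.of_algebraMap_eq fun r => by
    show _ = j (algebraMap R q.ResidueField r)
    refine Eq.trans ?_ (Ideal.ResidueField.lift_algebraMap _ _ _ _ r).symm
    exact IsScalarTower.algebraMap_apply R A Q.ResidueField r
  letI : Algebra q.ResidueField k' := ((algebraMap Q.ResidueField k').comp j).toAlgebra
  haveI : IsScalarTower q.ResidueField Q.ResidueField k' := IsScalarTower.of_algebraMap_eq fun _ => rfl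
  haveI : IsScalarTower R q.ResidueField k' := IsScalarTower.of_algebraMap_eq fun r => by
    show algebraMap A k' (algebraMap R A r) = algebraMap Q.ResidueField k' (j (algebraMap R q.ResidueField r))
    refine Eq.trans ?_ (congrArg (algebraMap Q.ResidueField k') (Ideal.ResidueField.lift_algebraMap _ _ _ _ r).symm)
    exact IsScalarTower.algebraMap_apply A Q.ResidueField k' (algebraMap R A r)
  haveI : Module.Finite q.ResidueField Q.ResidueField := by
    refine Module.Finite.of_surjective (Algebra.linearMap q.ResidueField Q.ResidueField) fun z => ?_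
    obtain ⟨n, d, hd, rfl⟩ := IsFractionRing.div_surjective (A := A ⧸ Q) z
    obtain ⟨n, rfl⟩ := Ideal.Quotient.mk_surjective n
    obtain ⟨d, rfl⟩ := Ideal.Quotient.mk_surjective d
    have himg : ∀ x : A, ∃ c : q.ResidueField, algebraMap q.ResidueField Q.ResidueField c = algebraMap A Q.ResidueField x := by
      intro x
      obtain ⟨a, s, rfl⟩ := IsLocalization.exists_mk'_eq p.primeCompl x
      have hspec := congrArg (algebraMap A Q.ResidueField) (IsLocalization.mk'_spec A a s)
      rw [map_mul, ← IsScalarTower.algebraMap_apply, ← IsScalarTower.algebraMap_apply,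
        IsScalarTower.algebraMap_apply R q.ResidueField Q.ResidueField s,
        IsScalarTower.algebraMap_apply R q.ResidueField Q.ResidueField a] at hspec
      refine ⟨algebraMap R q.ResidueField a / algebraMap R q.ResidueField s, ?_⟩
      rw [map_div₀, div_eq_iff]
      · exact hspec.symm
      · rw [← IsScalarTower.algebraMap_apply, IsScalarTower.algebraMap_apply R A Q.ResidueField]
        exact ((IsLocalization.map_units A s).map (algebraMap A Q.ResidueField)).ne_zero
    obtain ⟨c, hc⟩ := himg n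
    obtain ⟨c', hc'⟩ := himg d
    exact ⟨c / c', by rw [Algebra.linearMap_apply, map_div₀, hc, hc', IsScalarTower.algebraMap_apply A (A ⧸ Q) Q.ResidueField,
      IsScalarTower.algebraMap_apply A (A ⧸ Q) Q.ResidueField]; rfl⟩
  haveI : Module.Finite q.ResidueField k' := Module.Finite.trans Q.ResidueField k'
  obtain ⟨S, _, _, _, _, φ, hφ⟩ := exists_free_generating (R := R) q (K := k')
  letI : Algebra S k' := φ.toRingHom.toAlgebra
  haveI : IsScalarTower R S k' := IsScalarTower.of_algebraMap_eq fun r => (φ.commutes r).symm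
  haveI : Algebra.EssFiniteType A k' := Algebra.EssFiniteType.comp A Q.ResidueField k'
  haveI : IsNoetherianRing (k' ⊗[A] EGA4.Cpl A) := H02CA.isNoetherianRing_tensor_of_essFiniteType _ _ _
  haveI : TensorProduct.CompatibleSMul R A k' (EGA4.Cpl A) :=
    IsLocalization.tensorProduct_compatibleSMul p.primeCompl A k' (EGA4.Cpl A)
  let e : k' ⊗[A] EGA4.Cpl A ≃+* k' ⊗[R] EGA4.Cpl A :=
    (Algebra.TensorProduct.equivOfCompatibleSMul R A R k' (EGA4.Cpl A)).toRingEquiv
  haveI : IsNoetherianRing (k' ⊗[R] EGA4.Cpl A) := isNoetherianRing_of_ringEquiv (k' ⊗[A] EGA4.Cpl A) e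
  suffices hreg : IsRegularRing (k' ⊗[R] EGA4.Cpl A) from IsRegularRing.of_ringEquiv e.symm
  refine isRegularRing_of_pieces (S := S) p k' fun 𝔮 _ _ hker => ?_
  let B := Localization.AtPrime 𝔮
  have hu : ∀ y : 𝔮.primeCompl, IsUnit (algebraMap S k' y) := fun y =>
    isUnit_iff_ne_zero.mpr fun h0 => y.2 (hker h0)
  letI : Algebra B k' := (IsLocalization.lift hu).toAlgebra
  haveI : IsScalarTower S B k' := IsScalarTower.of_algebraMap_eq fun s => (IsLocalization.lift_eq hu s).symm
  let QB : Ideal B := RingHom.ker (algebraMap B k')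
  haveI : QB.IsPrime := RingHom.ker_isPrime _
  let ρ : QB.ResidueField →+* k' := Ideal.ResidueField.lift QB (algebraMap B k') le_rfl fun x hx =>
    isUnit_iff_ne_zero.mpr fun h0 => hx h0
  have hρ : Function.Surjective ρ := fun z => by
    obtain ⟨s, t, ht, rfl⟩ := hφ z
    refine ⟨algebraMap B QB.ResidueField (algebraMap S B s) / algebraMap B QB.ResidueField (algebraMap S B t), ?_⟩
    rw [map_div₀, show ∀ b, ρ (algebraMap B _ b) = algebraMap B k' b from fun b => Ideal.ResidueField.lift_algebraMap _ _ _ _ b,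
      show ∀ b, ρ (algebraMap B _ b) = algebraMap B k' b from fun b => Ideal.ResidueField.lift_algebraMap _ _ _ _ b,
      ← IsScalarTower.algebraMap_apply, ← IsScalarTower.algebraMap_apply]
    rfl
  let ρA : QB.ResidueField ≃ₐ[B] k' := AlgEquiv.ofBijective
    ({ ρ with commutes' := fun b => Ideal.ResidueField.lift_algebraMap _ _ _ _ b } : QB.ResidueField →ₐ[B] k')
    ⟨ρ.injective, hρ⟩
  haveI : TensorProduct.CompatibleSMul S B k' (EGA4.Cpl B) :=
    IsLocalization.tensorProduct_compatibleSMul 𝔮.primeCompl B k' (EGA4.Cpl B)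
  haveI := h S 𝔮 QB
  exact IsRegularRing.of_ringEquiv ((Algebra.TensorProduct.congr ρA (AlgEquiv.refl : EGA4.Cpl B ≃ₐ[B] _)).toRingEquiv.trans
    (Algebra.TensorProduct.equivOfCompatibleSMul S B S k' (EGA4.Cpl B)).toRingEquiv)

end Groth.Agent.H05EGA4.FiniteFreeFibres
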