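import Groth.Agent.H05EGA4.FormalFibreFS

/-! Flat complete local algebras with prescribed regular closed fibre. -/

set_option autoImplicit false
set_option linter.style.haveILetI false
set_option maxHeartbeats 400000
universe u
open IsLocalRing Groth.Agent

namespace Groth.Agent.H05EGA4

open TensorProduct in
theorem exists_flat_complete_with_fibre {A : Type u} [CommRing A] [IsLocalRing A] [IsNoetherianRing A]
    (B₀ : Type u) [CommRing B₀] [IsRegularLocalRing B₀] [IsAdicComplete (maximalIdeal B₀) B₀]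
    [Algebra (ResidueField A) B₀] :
    ∃ (B : Type u) (_ : CommRing B) (_ : IsLocalRing B) (_ : IsNoetherianRing B) (_ : Algebra A B)
      (_ : IsLocalHom (algebraMap A B)),
      IsAdicComplete (maximalIdeal B) B ∧ Module.Flat A B ∧
        Nonempty (ResidueField A ⊗[A] B ≃ₐ[ResidueField A] B₀) := by
  let A' := AdicCompletion (maximalIdeal A) A
  haveI : IsNoetherianRing A' := isNoetherianRing_adicCompletion A (maximalIdeal A)
  haveI hcA : IsAdicComplete (maximalIdeal A') A' := by
    rw [AdicCompletion.maximalIdeal_eq_map]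
    exact AdicCompletion.isAdicComplete_self _ (IsNoetherian.noetherian _)
  have hmA : maximalIdeal A' = (maximalIdeal A).map (algebraMap A A') := AdicCompletion.maximalIdeal_eq_map
  haveI hlA : IsLocalHom (algebraMap A A') :=
    ⟨fun a ha => by
      by_contra h
      exact (hmA ▸ Ideal.mem_map_of_mem (algebraMap A A') (h : a ∈ maximalIdeal A) :
        algebraMap A A' a ∈ maximalIdeal A') ha⟩
  haveI : Module.Flat A A' := AdicCompletion.flat_of_isNoetherian _
  obtain ⟨Λ, _, n, σ, hΛ, hσ⟩ := exists_surjective_mvPowerSeries A' (IsNoetherian.noetherian _)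
  obtain ⟨_, _, _, hcΛ⟩ := coefficientRing_spec hΛ
  let R := MvPowerSeries (Fin n) Λ
  haveI hlσ : IsLocalHom σ := Function.Surjective.isLocalHom σ hσ
  let rA : A →+* ResidueField A' := (residue A').comp (algebraMap A A')
  let ρ : ResidueField A →+* ResidueField A' := ResidueField.map (algebraMap A A')
  have hρ : Function.Bijective ρ := AdicCompletion.residueField_map_bijective A
  let e := RingEquiv.ofBijective ρ hρ
  let φ : R →+* B₀ := (algebraMap (ResidueField A) B₀).comp
    (e.symm.toRingHom.comp ((residue A').comp σ))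
  have hφ : ∀ x ∈ maximalIdeal R, φ x = 0 := fun x hx => by
    show algebraMap (ResidueField A) B₀ (e.symm (residue A' (σ x))) = 0
    rw [(residue_eq_zero_iff _).2 (show σ x ∈ maximalIdeal A' from map_nonunit σ x hx), map_zero, map_zero]
  obtain ⟨C, _, _, _, π, hlC, hfC, hcC, hπ, hkerπ, hπφ⟩ := exists_flat_lift_regular hΛ n φ hφ
  haveI := hcC
  let I : Ideal C := (RingHom.ker σ).map (algebraMap R C)
  have hI : I ≤ RingHom.ker π := hkerπ ▸ Ideal.map_mono (le_maximalIdeal (RingHom.ker_ne_top σ))
  have hIm : I ≤ maximalIdeal C := hI.trans (le_maximalIdeal (RingHom.ker_ne_top π))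
  haveI : Nontrivial (C ⧸ I) := Ideal.Quotient.nontrivial_iff.2 fun h =>
    (maximalIdeal.isMaximal C).ne_top (top_le_iff.1 (h ▸ hIm))
  haveI : IsLocalRing (C ⧸ I) := IsLocalRing.of_surjective' (Ideal.Quotient.mk I) Ideal.Quotient.mk_surjective
  let g : A' →+* C ⧸ I := RingHom.liftOfSurjective σ hσ
    ⟨(Ideal.Quotient.mk I).comp (algebraMap R C), fun x hx =>
      Ideal.Quotient.eq_zero_iff_mem.2 (Ideal.mem_map_of_mem _ hx)⟩
  have hg : ∀ x, g (σ x) = Ideal.Quotient.mk I (algebraMap R C x) := fun x =>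
    RingHom.liftOfRightInverse_comp_apply _ _ _ ⟨(Ideal.Quotient.mk I).comp (algebraMap R C), _⟩ x
  letI : Algebra R A' := σ.toAlgebra
  letI : Algebra A' (C ⧸ I) := g.toAlgebra
  haveI : IsScalarTower R A' (C ⧸ I) := IsScalarTower.of_algebraMap_eq fun x => (hg x).symm
  haveI hflat' : Module.Flat A' (C ⧸ I) := by
    let f : A' ⊗[R] C →ₐ[A'] C ⧸ I := Algebra.TensorProduct.lift (Algebra.ofId A' (C ⧸ I))
      (Ideal.Quotient.mkₐ R I) (fun _ _ => Commute.all _ _)
    have hf : ∀ a c, f (a ⊗ₜ[R] c) = g a * Ideal.Quotient.mk I c := fun a c => rfl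
    have h1 : ∀ z : A' ⊗[R] C, ∃ c, z = 1 ⊗ₜ c := fun z => by
      induction z using TensorProduct.induction_on with
      | zero => exact ⟨0, by rw [tmul_zero]⟩
      | add a b ha hb =>
        obtain ⟨c, rfl⟩ := ha
        obtain ⟨d, rfl⟩ := hb
        exact ⟨c + d, by rw [tmul_add]⟩
      | tmul a c =>
        obtain ⟨x, rfl⟩ := hσ a
        exact ⟨x • c, by rw [← smul_tmul, Algebra.smul_def, mul_one]; rfl⟩
    have hbij : Function.Bijective f := by
      refine ⟨(injective_iff_map_eq_zero f).2 fun z hz => ?_, fun y => ?_⟩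
      · obtain ⟨c, rfl⟩ := h1 z
        rw [hf, map_one, one_mul, Ideal.Quotient.eq_zero_iff_mem] at hz
        have hIk : I ≤ RingHom.ker (Algebra.TensorProduct.includeRight : C →ₐ[R] A' ⊗[R] C) :=
          Ideal.map_le_iff_le_comap.2 fun x hx => by
            show Algebra.TensorProduct.includeRight (R := R) (A := A') (algebraMap R C x) = 0
            rw [AlgHom.commutes, Algebra.TensorProduct.algebraMap_apply,
              show algebraMap R A' x = 0 from hx, zero_tmul]
        exact hIk hz
      · obtain ⟨c, rfl⟩ := Ideal.Quotient.mk_surjective y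
        exact ⟨1 ⊗ₜ c, by rw [hf, map_one, one_mul]⟩
    exact Module.Flat.of_linearEquiv (AlgEquiv.ofBijective f hbij).symm.toLinearEquiv
  letI : Algebra A (C ⧸ I) := (g.comp (algebraMap A A')).toAlgebra
  haveI : IsScalarTower A A' (C ⧸ I) := IsScalarTower.of_algebraMap_eq fun _ => rfl
  haveI hlg : IsLocalHom g := ⟨fun a ha => by
    obtain ⟨x, rfl⟩ := hσ a
    rw [hg] at ha
    haveI : IsLocalHom (Ideal.Quotient.mk I) := Function.Surjective.isLocalHom _ Ideal.Quotient.mk_surjective
    exact (isUnit_of_map_unit (algebraMap R C) x (isUnit_of_map_unit (Ideal.Quotient.mk I) _ ha)).map σ⟩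
  haveI hlB : IsLocalHom (algebraMap A (C ⧸ I)) := ⟨fun a ha => hlA.map_nonunit a (hlg.map_nonunit _ ha)⟩
  refine ⟨C ⧸ I, inferInstance, inferInstance, inferInstance, inferInstance, hlB, ?_, Module.Flat.trans A A' _, ⟨?_⟩⟩
  · rw [← IsLocalRing.map_maximalIdeal_of_surjective _ (Ideal.Quotient.mk_surjective (I := I))]
    exact H24Adic.isAdicComplete_map_quotient I
  let P : C ⧸ I →+* B₀ := Ideal.Quotient.lift I π hI
  have hPs : Function.Surjective P := fun y => by
    obtain ⟨c, rfl⟩ := hπ y
    exact ⟨Ideal.Quotient.mk I c, rfl⟩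
  have hPA : ∀ a : A, P (algebraMap A (C ⧸ I) a) = algebraMap (ResidueField A) B₀ (residue A a) := fun a => by
    obtain ⟨x, hx⟩ := hσ (algebraMap A A' a)
    show P (g (algebraMap A A' a)) = _
    rw [← hx, hg, show P (Ideal.Quotient.mk I (algebraMap R C x)) = π (algebraMap R C x) from rfl,
      show π (algebraMap R C x) = φ x from RingHom.congr_fun hπφ x]
    show algebraMap (ResidueField A) B₀ (e.symm (residue A' (σ x))) = _
    rw [hx, show residue A' (algebraMap A A' a) = e (residue A a) from rfl, e.symm_apply_apply]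
  have hkerP : RingHom.ker P ≤ (maximalIdeal A).map (algebraMap A (C ⧸ I)) := fun y hy => by
    obtain ⟨c, rfl⟩ := Ideal.Quotient.mk_surjective y
    have hc : c ∈ RingHom.ker π := hy
    rw [hkerπ] at hc
    have h1 : ((maximalIdeal R).map (algebraMap R C)).map (Ideal.Quotient.mk I) ≤
        (maximalIdeal A).map (algebraMap A (C ⧸ I)) := by
      rw [Ideal.map_map, show (Ideal.Quotient.mk I).comp (algebraMap R C) = g.comp σ from RingHom.ext fun x => (hg x).symm,
        ← Ideal.map_map, show algebraMap A (C ⧸ I) = g.comp (algebraMap A A') from rfl, ← Ideal.map_map, ← hmA]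
      exact Ideal.map_mono (Ideal.map_le_iff_le_comap.2 fun x hx => map_nonunit σ x hx)
    exact h1 (Ideal.mem_map_of_mem _ hc)
  letI : Algebra A B₀ := ((algebraMap (ResidueField A) B₀).comp (residue A)).toAlgebra
  haveI : IsScalarTower A (ResidueField A) B₀ := IsScalarTower.of_algebraMap_eq fun _ => rfl
  let F : ResidueField A ⊗[A] (C ⧸ I) →ₐ[ResidueField A] B₀ :=
    Algebra.TensorProduct.lift (Algebra.ofId (ResidueField A) B₀) { P with commutes' := hPA } (fun _ _ => Commute.all _ _)
  have hF : ∀ y, F (1 ⊗ₜ y) = P y := fun y => by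
    show algebraMap (ResidueField A) B₀ 1 * P y = P y
    rw [map_one, one_mul]
  have h2 : ∀ z : ResidueField A ⊗[A] (C ⧸ I), ∃ y, z = 1 ⊗ₜ y := fun z => by
    induction z using TensorProduct.induction_on with
    | zero => exact ⟨0, by rw [tmul_zero]⟩
    | add a b ha hb =>
      obtain ⟨c, rfl⟩ := ha
      obtain ⟨d, rfl⟩ := hb
      exact ⟨c + d, by rw [tmul_add]⟩
    | tmul a c =>
      obtain ⟨x, rfl⟩ := residue_surjective a
      exact ⟨x • c, by rw [← smul_tmul, Algebra.smul_def, mul_one]; rfl⟩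
  refine AlgEquiv.ofBijective F ⟨(injective_iff_map_eq_zero F).2 fun z hz => ?_, fun y => ?_⟩
  · obtain ⟨y, rfl⟩ := h2 z
    rw [hF] at hz
    have hk : (maximalIdeal A).map (algebraMap A (C ⧸ I)) ≤
        RingHom.ker (Algebra.TensorProduct.includeRight : (C ⧸ I) →ₐ[A] ResidueField A ⊗[A] (C ⧸ I)) :=
      Ideal.map_le_iff_le_comap.2 fun a ha => by
        show Algebra.TensorProduct.includeRight (R := A) (A := ResidueField A) (algebraMap A (C ⧸ I) a) = 0
        rw [AlgHom.commutes, Algebra.TensorProduct.algebraMap_apply,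
          show algebraMap A (ResidueField A) a = 0 from (residue_eq_zero_iff a).2 ha, zero_tmul]
    exact hk (hkerP hz)
  · obtain ⟨x, rfl⟩ := hPs y
    exact ⟨1 ⊗ₜ x, hF x⟩

end Groth.Agent.H05EGA4
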