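import Mathlib
import Groth.Prelude.Def_EGA41
import Groth.Agent.H05EGA4.FSAdic
import Groth.Agent.H05EGA4.FSFlat
import Groth.Agent.H05EGA4.FlatFibreFS
import Groth.Agent.H05EGA4.FSBaseChange
import Groth.Agent.H05EGA4.FlatWithFibre
import Groth.Agent.S4542

/-!
Flat complete lifts of formally smooth complete algebras (helper5).
-/

set_option autoImplicit false
set_option linter.style.haveILetI false
set_option maxHeartbeats 1000000
universe u
open IsLocalRing TensorProduct CAlgX Groth.Agent.H05EGA4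

namespace Groth.Agent.H05EGA4.FlatLiftFS

theorem closed {R : Type u} [CommRing R] [IsLocalRing R] [IsNoetherianRing R] {I : Ideal R} (hI : I ≠ ⊤) {x : R}
    (h : ∀ t, x ∈ I ⊔ maximalIdeal R ^ t) : x ∈ I := by
  haveI : Nontrivial (R ⧸ I) := Ideal.Quotient.nontrivial_iff.mpr hI
  haveI := IsLocalRing.of_surjective' (Ideal.Quotient.mk I) Ideal.Quotient.mk_surjective
  rw [← Ideal.Quotient.eq_zero_iff_mem]
  have hb := Ideal.iInf_pow_eq_bot_of_isLocalRing ((maximalIdeal R).map (Ideal.Quotient.mk I)) (by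
    rw [map_maximalIdeal_of_surjective _ Ideal.Quotient.mk_surjective]
    exact (maximalIdeal.isMaximal _).ne_top)
  rw [← Ideal.mem_bot, ← hb, Ideal.mem_iInf]
  intro t
  have := Ideal.mem_map_of_mem (Ideal.Quotient.mk I) (h t)
  rwa [Ideal.map_sup, Ideal.map_quotient_self, bot_sup_eq, Ideal.map_pow] at this

theorem isAdicComplete_of_le {R : Type u} [CommRing R] [IsLocalRing R] [IsNoetherianRing R]
    [IsAdicComplete (maximalIdeal R) R] {I : Ideal R} (hI : I ≤ maximalIdeal R) : IsAdicComplete I R where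
  haus' x hx := IsHausdorff.haus (I := maximalIdeal R) inferInstance x fun n => by
    have := hx n
    rw [SModEq.sub_mem] at this ⊢
    rw [smul_eq_mul, Ideal.mul_top] at this ⊢
    exact Ideal.pow_right_mono hI n this
  prec' f hf := by
    obtain ⟨L, hL⟩ := IsPrecomplete.prec (I := maximalIdeal R) inferInstance (f := f) fun {m n} hmn => by
      have := hf hmn
      rw [SModEq.sub_mem] at this ⊢
      rw [smul_eq_mul, Ideal.mul_top] at this ⊢
      exact Ideal.pow_right_mono hI m this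
    refine ⟨L, fun n => ?_⟩
    rw [SModEq.sub_mem, smul_eq_mul, Ideal.mul_top]
    rcases Nat.eq_zero_or_pos n with rfl | hn
    · simp
    refine closed (fun h => (maximalIdeal.isMaximal R).ne_top (top_le_iff.1 (h ▸ (Ideal.pow_le_self hn.ne').trans hI))) fun t => ?_
    have h1 := hf (Nat.le_max_left n t)
    have h2 := hL (max n t)
    rw [SModEq.sub_mem, smul_eq_mul, Ideal.mul_top] at h1 h2
    rw [show f n - L = (f n - f (max n t)) + (f (max n t) - L) from (sub_add_sub_cancel _ _ _).symm]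
    exact add_mem (Ideal.mem_sup_left h1) (Ideal.mem_sup_right (Ideal.pow_le_pow_right (Nat.le_max_right n t) h2))

theorem map_max_le {R S : Type u} [CommRing R] [IsLocalRing R] [CommRing S] [IsLocalRing S] (f : R →+* S) [IsLocalHom f] :
    (maximalIdeal R).map f ≤ maximalIdeal S :=
  Ideal.map_le_iff_le_comap.2 fun x hx => map_nonunit f x hx

theorem isAdicComplete_quotient {R : Type u} [CommRing R] [IsLocalRing R] [IsNoetherianRing R]
    [IsAdicComplete (maximalIdeal R) R] (I : Ideal R) [IsLocalRing (R ⧸ I)] :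
    IsAdicComplete ((maximalIdeal R).map (Ideal.Quotient.mk I)) (R ⧸ I) where
  haus' := by
    have : IsHausdorff (maximalIdeal (R ⧸ I)) (R ⧸ I) := inferInstance
    rw [map_maximalIdeal_of_surjective _ Ideal.Quotient.mk_surjective]
    exact this.haus'
  prec' f hf := by
    have hlift : ∀ n, ∃ d ∈ maximalIdeal R ^ n, Ideal.Quotient.mk I d = f (n + 1) - f n := fun n => by
      have h := (SModEq.sub_mem.1 (hf (Nat.le_succ n)).symm)
      rw [smul_eq_mul, Ideal.mul_top, ← Ideal.map_pow] at h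
      exact (Ideal.mem_map_iff_of_surjective _ Ideal.Quotient.mk_surjective).1 h
    choose d hd hde using hlift
    obtain ⟨c, hc⟩ := Ideal.Quotient.mk_surjective (f 0)
    let g : ℕ → R := fun n => c + ∑ i ∈ Finset.range n, d i
    have hg : ∀ n, Ideal.Quotient.mk I (g n) = f n := fun n => by
      induction n with
      | zero => simp [g, hc]
      | succ n ih =>
        simp only [g, Finset.sum_range_succ, map_add, hde] at ih ⊢
        linear_combination ih
    obtain ⟨L, hL⟩ := IsPrecomplete.prec (I := maximalIdeal R) inferInstance (f := g) fun {m n} hmn => by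
      rw [SModEq.sub_mem, smul_eq_mul, Ideal.mul_top, ← neg_sub, neg_mem_iff]
      rw [show g n - g m = ∑ i ∈ Finset.Ico m n, d i by
        simp [g, Finset.sum_Ico_eq_sub _ hmn]]
      exact sum_mem fun i hi => Ideal.pow_le_pow_right (Finset.mem_Ico.1 hi).1 (hd i)
    refine ⟨Ideal.Quotient.mk I L, fun n => ?_⟩
    have h := hL n
    rw [SModEq.sub_mem, smul_eq_mul, Ideal.mul_top] at h ⊢
    rw [← hg, ← map_sub, ← Ideal.map_pow]
    exact Ideal.mem_map_of_mem _ h

section
variable {A : Type u} [CommRing A] [IsLocalRing A] [IsNoetherianRing A] {J : Ideal A} [IsLocalRing (A ⧸ J)]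
  {B₀ : Type u} [CommRing B₀] [IsLocalRing B₀] [IsNoetherianRing B₀] [IsAdicComplete (maximalIdeal B₀) B₀]
  [Algebra (A ⧸ J) B₀] [IsLocalHom (algebraMap (A ⧸ J) B₀)] [Algebra A B₀] [IsScalarTower A (A ⧸ J) B₀]
  (hfs : EGA41.IsFormallySmoothAdic (A ⧸ J) (maximalIdeal (A ⧸ J)) B₀ (maximalIdeal B₀))

include hfs in
theorem cafs : IsAdicFormallySmooth (A ⧸ J) B₀ (maximalIdeal B₀) :=
  (isFormallySmoothAdic_iff_isAdicFormallySmooth _ _ ⟨1, by
    rw [pow_one]
    exact map_max_le (algebraMap (A ⧸ J) B₀)⟩).1 hfs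

theorem map_m_eq : (maximalIdeal A).map (algebraMap A B₀) = (maximalIdeal (A ⧸ J)).map (algebraMap (A ⧸ J) B₀) := by
  rw [IsScalarTower.algebraMap_eq A (A ⧸ J) B₀, ← Ideal.map_map, Ideal.Quotient.algebraMap_eq,
    map_maximalIdeal_of_surjective _ Ideal.Quotient.mk_surjective]

theorem map_J_eq : J.map (algebraMap A B₀) = ⊥ := by
  rw [IsScalarTower.algebraMap_eq A (A ⧸ J) B₀, ← Ideal.map_map, Ideal.Quotient.algebraMap_eq,
    Ideal.map_quotient_self, Ideal.map_bot]

include hfs in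
theorem mB₀_le : (maximalIdeal A).map (algebraMap A B₀) ≤ maximalIdeal B₀ := by
  rw [map_m_eq (J := J)]
  exact map_max_le (algebraMap (A ⧸ J) B₀)

include hfs in
/-- Formal smoothness passes to flat algebras with isomorphic closed fibre. -/
theorem fs_of_fibre (B : Type u) [CommRing B] [IsLocalRing B] [IsNoetherianRing B] [Algebra A B]
    [IsLocalHom (algebraMap A B)] [Module.Flat A B]
    (e : (B₀ ⧸ (maximalIdeal A).map (algebraMap A B₀)) ≃ₐ[A] (B ⧸ (maximalIdeal A).map (algebraMap A B))) :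
    EGA41.IsFormallySmoothAdic A (maximalIdeal A) B (maximalIdeal B) := by
  refine (isFormallySmoothAdic_iff_isAdicFormallySmooth _ _ ⟨1, by
    rw [pow_one]
    exact map_max_le (algebraMap A B)⟩).2 ?_
  refine isAdicFormallySmooth_of_flat_of_fibre ?_
  have hle : J ≤ maximalIdeal A := IsLocalRing.le_maximalIdeal fun h => by
    haveI := (Ideal.Quotient.subsingleton_iff (I := J)).mpr h
    exact not_subsingleton (A ⧸ J) inferInstance
  let e₀ : (A ⧸ J) ⧸ maximalIdeal (A ⧸ J) ≃+* A ⧸ maximalIdeal A :=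
    (Ideal.quotEquivOfEq (map_maximalIdeal_of_surjective _ Ideal.Quotient.mk_surjective).symm).trans
      (DoubleQuot.quotQuotEquivQuotOfLE hle)
  let e₁ : B₀ ⧸ (maximalIdeal (A ⧸ J)).map (algebraMap (A ⧸ J) B₀) ≃+* B ⧸ (maximalIdeal A).map (algebraMap A B) :=
    (Ideal.quotEquivOfEq (map_m_eq (J := J)).symm).trans e.toRingEquiv
  refine isAdicFormallySmooth_of_ringEquiv e₀ e₁ (fun r => ?_) ?_
    (isAdicFormallySmooth_quotient_fibre (maximalIdeal (A ⧸ J)) (maximalIdeal B₀) (cafs hfs))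
  · obtain ⟨r, rfl⟩ := Ideal.Quotient.mk_surjective r
    obtain ⟨r, rfl⟩ := Ideal.Quotient.mk_surjective r
    show e (Ideal.Quotient.mk _ (algebraMap (A ⧸ J) B₀ (Ideal.Quotient.mk J r))) = Ideal.Quotient.mk _ (algebraMap A B r)
    rw [← Ideal.Quotient.algebraMap_eq J, ← IsScalarTower.algebraMap_apply A (A ⧸ J) B₀,
      Ideal.Quotient.mk_algebraMap, e.commutes]
    rfl
  · haveI : Nontrivial (B ⧸ (maximalIdeal A).map (algebraMap A B)) := Ideal.Quotient.nontrivial_iff.mpr fun h =>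
      (maximalIdeal.isMaximal B).ne_top (top_le_iff.1 (h ▸ map_max_le (algebraMap A B)))
    haveI := IsLocalRing.of_surjective' (Ideal.Quotient.mk ((maximalIdeal A).map (algebraMap A B))) Ideal.Quotient.mk_surjective
    rw [Ideal.map_map, map_maximalIdeal_of_surjective _ (show Function.Surjective (e₁.toRingHom.comp
      (Ideal.Quotient.mk ((maximalIdeal (A ⧸ J)).map (algebraMap (A ⧸ J) B₀)))) from
      e₁.surjective.comp Ideal.Quotient.mk_surjective), map_maximalIdeal_of_surjective _ Ideal.Quotient.mk_surjective]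

include hfs in
theorem exists_lift :
    ∃ (B : Type u) (_ : CommRing B) (_ : IsLocalRing B) (_ : IsNoetherianRing B) (_ : Algebra A B)
      (_ : IsLocalHom (algebraMap A B)), IsAdicComplete (maximalIdeal B) B ∧ Module.Flat A B ∧
      ∃ π : B →ₐ[A] B₀, Function.Surjective π ∧ RingHom.ker π.toRingHom = J.map (algebraMap A B) := by
  set I₀ := (maximalIdeal A).map (algebraMap A B₀) with hI₀
  haveI : Nontrivial (B₀ ⧸ I₀) := Ideal.Quotient.nontrivial_iff.mpr fun h =>
    (maximalIdeal.isMaximal B₀).ne_top (top_le_iff.1 (h ▸ mB₀_le hfs))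
  haveI := IsLocalRing.of_surjective' (Ideal.Quotient.mk I₀) Ideal.Quotient.mk_surjective
  -- the closed fibre is regular
  haveI hreg : IsRegularLocalRing (B₀ ⧸ I₀) := by
    letI := Ideal.Quotient.field (maximalIdeal (A ⧸ J))
    letI : Algebra ((A ⧸ J) ⧸ maximalIdeal (A ⧸ J)) (B₀ ⧸ I₀) :=
      (Ideal.quotientMap I₀ (algebraMap (A ⧸ J) B₀) (by rw [hI₀, map_m_eq (J := J)]; exact Ideal.le_comap_map)).toAlgebra
    refine (isRegularLocalRing_of_isAdicFormallySmooth (k := (A ⧸ J) ⧸ maximalIdeal (A ⧸ J)) ?_).1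
    refine isAdicFormallySmooth_of_ringEquiv (RingEquiv.refl _) (Ideal.quotEquivOfEq (map_m_eq (J := J)).symm) (fun r => ?_) ?_
      (isAdicFormallySmooth_quotient_fibre (maximalIdeal (A ⧸ J)) (maximalIdeal B₀) (cafs hfs))
    · obtain ⟨r, rfl⟩ := Ideal.Quotient.mk_surjective r
      rfl
    · rw [Ideal.map_map]
      exact map_maximalIdeal_of_surjective _ ((Ideal.quotEquivOfEq (map_m_eq (J := J)).symm).surjective.comp Ideal.Quotient.mk_surjective)
  haveI : IsAdicComplete (maximalIdeal (B₀ ⧸ I₀)) (B₀ ⧸ I₀) := by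
    rw [← map_maximalIdeal_of_surjective (Ideal.Quotient.mk I₀) Ideal.Quotient.mk_surjective]
    exact isAdicComplete_quotient I₀
  letI : Algebra (ResidueField A) (B₀ ⧸ I₀) := (Ideal.quotientMap I₀ (algebraMap A B₀) Ideal.le_comap_map).toAlgebra
  haveI : IsScalarTower A (ResidueField A) (B₀ ⧸ I₀) := .of_algebraMap_eq fun _ => rfl
  obtain ⟨B, _, _, _, _, _, hcpl, hflat, ⟨e⟩⟩ := exists_flat_complete_with_fibre (A := A) (B₀ ⧸ I₀)
  haveI := hcpl; haveI := hflat
  refine ⟨B, inferInstance, inferInstance, inferInstance, inferInstance, inferInstance, hcpl, hflat, ?_⟩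
  set M := (maximalIdeal A).map (algebraMap A B) with hM
  let ψ : B →ₐ[A] B₀ ⧸ I₀ := (e.toAlgHom.restrictScalars A).comp Algebra.TensorProduct.includeRight
  have hψs : Function.Surjective ψ := e.surjective.comp
    (fun z => by
      induction z with
      | zero => exact ⟨0, map_zero _⟩
      | tmul a b =>
        obtain ⟨a, rfl⟩ := residue_surjective (R := A) a
        refine ⟨a • b, ?_⟩
        show (1 : ResidueField A) ⊗ₜ[A] (a • b) = residue A a ⊗ₜ b
        rw [← TensorProduct.smul_tmul, Algebra.smul_def, mul_one]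
        rfl
      | add x y hx hy =>
        obtain ⟨b, rfl⟩ := hx; obtain ⟨c, rfl⟩ := hy
        exact ⟨b + c, map_add _ _ _⟩)
  have hψk : RingHom.ker ψ.toRingHom = M := by
    refine le_antisymm (fun b hb => ?_) ?_
    · let f : ResidueField A ⊗[A] B →ₐ[A] B ⧸ M := Algebra.TensorProduct.lift
        (Ideal.Quotient.liftₐ (maximalIdeal A) (Algebra.ofId A (B ⧸ M)) fun a ha =>
          (Ideal.Quotient.mk_algebraMap (R₁ := A) (A := B) (I := M) a).symm.trans
            (Ideal.Quotient.eq_zero_iff_mem.2 (Ideal.mem_map_of_mem _ ha)))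
        (Ideal.Quotient.mkₐ A M) fun _ _ => Commute.all _ _
      have h1 : (Algebra.TensorProduct.includeRight : B →ₐ[A] ResidueField A ⊗[A] B) b = 0 :=
        e.injective (by rw [map_zero]; exact hb)
      have h2 := congrArg f h1
      rw [map_zero] at h2
      refine Ideal.Quotient.eq_zero_iff_mem.1 ?_
      simpa [f] using h2
    · rw [hM, Ideal.map_le_iff_le_comap]
      intro a ha
      show ψ (algebraMap A B a) = 0
      rw [AlgHom.commutes]
      exact Ideal.Quotient.eq_zero_iff_mem.2 (Ideal.mem_map_of_mem _ ha)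
  -- lift
  haveI : IsHausdorff ((maximalIdeal B₀).map (Ideal.Quotient.mk I₀)) (B₀ ⧸ I₀) := by
    rw [map_maximalIdeal_of_surjective (Ideal.Quotient.mk I₀) Ideal.Quotient.mk_surjective]
    infer_instance
  have hfsB := fs_of_fibre hfs B ((Ideal.quotientKerAlgEquivOfSurjective hψs).symm.trans (Ideal.quotientEquivAlgOfEq A hψk))
  obtain ⟨v, -, hv⟩ := S4542.result (maximalIdeal A) (maximalIdeal B) (maximalIdeal B₀) hfsB
    ⟨1, by rw [pow_one]; exact mB₀_le hfs⟩ I₀ ⟨1, by rw [pow_one]; exact mB₀_le hfs⟩ ψ ⟨1, by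
      rw [pow_one, map_maximalIdeal_of_surjective ψ.toRingHom hψs,
        map_maximalIdeal_of_surjective (Ideal.Quotient.mk I₀) Ideal.Quotient.mk_surjective]⟩
  have hvψ : ∀ b, Ideal.Quotient.mk I₀ (v b) = ψ b := fun b => AlgHom.congr_fun hv b
  -- factor through `B ⧸ J B`
  have hvJ : J.map (algebraMap A B) ≤ RingHom.ker v.toRingHom := Ideal.map_le_iff_le_comap.2 fun a ha => by
    show v (algebraMap A B a) = 0
    rw [v.commutes, ← Ideal.mem_bot, ← map_J_eq (J := J) (B₀ := B₀)]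
    exact Ideal.mem_map_of_mem _ ha
  set JB := J.map (algebraMap A B)
  haveI : Module.Flat (A ⧸ J) B₀ := flat_of_isAdicFormallySmooth (cafs hfs)
  haveI : Nontrivial (B ⧸ JB) := Ideal.Quotient.nontrivial_iff.mpr fun h =>
    RingHom.ker_ne_top v.toRingHom (top_le_iff.1 (h ▸ hvJ))
  haveI := IsLocalRing.of_surjective' (Ideal.Quotient.mk JB) Ideal.Quotient.mk_surjective
  letI : Algebra (A ⧸ J) (B ⧸ JB) := (Ideal.quotientMap JB (algebraMap A B) Ideal.le_comap_map).toAlgebra
  haveI : IsScalarTower A (A ⧸ J) (B ⧸ JB) := .of_algebraMap_eq fun _ => rfl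
  haveI : IsAdicComplete (maximalIdeal (B ⧸ JB)) (B ⧸ JB) := by
    rw [← map_maximalIdeal_of_surjective (Ideal.Quotient.mk JB) Ideal.Quotient.mk_surjective]
    exact isAdicComplete_quotient JB
  let v₀ : (B ⧸ JB) →ₐ[A ⧸ J] B₀ :=
    { Ideal.Quotient.lift JB v.toRingHom hvJ with
      commutes' := fun r => by
        obtain ⟨r, rfl⟩ := Ideal.Quotient.mk_surjective r
        show v (algebraMap A B r) = _
        rw [v.commutes, IsScalarTower.algebraMap_apply A (A ⧸ J) B₀]
        rfl }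
  have hM₁ : (maximalIdeal (A ⧸ J)).map (algebraMap (A ⧸ J) (B ⧸ JB)) = M.map (Ideal.Quotient.mk JB) := by
    rw [← map_maximalIdeal_of_surjective (Ideal.Quotient.mk J) Ideal.Quotient.mk_surjective, Ideal.map_map, hM, Ideal.map_map]
    rfl
  haveI : IsAdicComplete ((maximalIdeal (A ⧸ J)).map (algebraMap (A ⧸ J) B₀)) B₀ :=
    isAdicComplete_of_le (map_m_eq (J := J) (B₀ := B₀) ▸ mB₀_le hfs)
  haveI : IsAdicComplete ((maximalIdeal (A ⧸ J)).map (algebraMap (A ⧸ J) (B ⧸ JB))) (B ⧸ JB) := by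
    refine isAdicComplete_of_le ?_
    rw [hM₁, ← map_maximalIdeal_of_surjective (Ideal.Quotient.mk JB) Ideal.Quotient.mk_surjective]
    exact Ideal.map_mono (map_max_le (algebraMap A B))
  have hb := bijective_of_flat_of_bijective_mod (maximalIdeal (A ⧸ J)) v₀ (fun s => by
      obtain ⟨b, hb⟩ := hψs (Ideal.Quotient.mk I₀ s)
      refine ⟨Ideal.Quotient.mk JB b, ?_⟩
      rw [← map_m_eq (J := J)]
      exact Ideal.Quotient.eq.1 ((hvψ b).trans hb))
    (fun x hx => by
      obtain ⟨b, rfl⟩ := Ideal.Quotient.mk_surjective x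
      rw [← map_m_eq (J := J)] at hx
      rw [hM₁]
      refine Ideal.mem_map_of_mem _ ?_
      rw [← hψk, RingHom.mem_ker]
      show ψ b = 0
      rw [← hvψ]
      exact Ideal.Quotient.eq_zero_iff_mem.2 hx)
  refine ⟨v, fun s => ?_, le_antisymm (fun b hb' => ?_) hvJ⟩
  · obtain ⟨x, hx⟩ := hb.2 s
    obtain ⟨b, rfl⟩ := Ideal.Quotient.mk_surjective x
    exact ⟨b, hx⟩
  · exact Ideal.Quotient.eq_zero_iff_mem.1 (hb.1 (show v₀ (Ideal.Quotient.mk JB b) = v₀ 0 by rw [map_zero]; exact hb'))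

end

/-- The projection to the base change. -/
theorem exists_proj {A : Type u} [CommRing A] {J : Ideal A} {B B₀ : Type u} [CommRing B] [Algebra A B] [CommRing B₀]
    [Algebra (A ⧸ J) B₀] [Algebra A B₀] [IsScalarTower A (A ⧸ J) B₀] (u : (A ⧸ J) ⊗[A] B ≃ₐ[A ⧸ J] B₀) :
    ∃ π : B →ₐ[A] B₀, (∀ b, π b = u (1 ⊗ₜ b)) ∧ Function.Surjective π ∧ RingHom.ker π.toRingHom = J.map (algebraMap A B) := by
  refine ⟨(u.toAlgHom.restrictScalars A).comp Algebra.TensorProduct.includeRight, fun b => rfl, ?_, ?_⟩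
  · refine u.surjective.comp fun z => ?_
    induction z with
    | zero => exact ⟨0, map_zero _⟩
    | tmul a b =>
      obtain ⟨a, rfl⟩ := Ideal.Quotient.mk_surjective a
      refine ⟨a • b, ?_⟩
      show (1 : A ⧸ J) ⊗ₜ[A] (a • b) = Ideal.Quotient.mk J a ⊗ₜ b
      rw [← TensorProduct.smul_tmul, Algebra.smul_def, mul_one]
      rfl
    | add x y hx hy =>
      obtain ⟨b, rfl⟩ := hx; obtain ⟨c, rfl⟩ := hy
      exact ⟨b + c, map_add _ _ _⟩
  · refine le_antisymm (fun b hb => ?_) (Ideal.map_le_iff_le_comap.2 fun a ha => ?_)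
    · let M := J.map (algebraMap A B)
      let f : (A ⧸ J) ⊗[A] B →ₐ[A] B ⧸ M := Algebra.TensorProduct.lift
        (Ideal.Quotient.liftₐ J (Algebra.ofId A (B ⧸ M)) fun a ha =>
          (Ideal.Quotient.mk_algebraMap (R₁ := A) (A := B) (I := M) a).symm.trans
            (Ideal.Quotient.eq_zero_iff_mem.2 (Ideal.mem_map_of_mem _ ha)))
        (Ideal.Quotient.mkₐ A M) fun _ _ => Commute.all _ _
      have h1 : (Algebra.TensorProduct.includeRight : B →ₐ[A] (A ⧸ J) ⊗[A] B) b = 0 :=
        u.injective (by rw [map_zero]; exact hb)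
      have h2 := congrArg f h1
      rw [map_zero] at h2
      exact Ideal.Quotient.eq_zero_iff_mem.1 (by simpa [f] using h2)
    · show ((u.toAlgHom.restrictScalars A).comp Algebra.TensorProduct.includeRight) (algebraMap A B a) = 0
      rw [AlgHom.commutes, IsScalarTower.algebraMap_apply A (A ⧸ J) B₀, Ideal.Quotient.algebraMap_eq,
        Ideal.Quotient.eq_zero_iff_mem.2 ha, map_zero]

theorem main {A : Type u} [CommRing A] [IsLocalRing A] [IsNoetherianRing A]
    (J : Ideal A) (hJ : J ≤ maximalIdeal A) [IsLocalRing (A ⧸ J)]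
    (B₀ : Type u) [CommRing B₀] [IsLocalRing B₀] [IsNoetherianRing B₀] [IsAdicComplete (maximalIdeal B₀) B₀]
    [Algebra (A ⧸ J) B₀] [IsLocalHom (algebraMap (A ⧸ J) B₀)]
    (hfs : EGA41.IsFormallySmoothAdic (A ⧸ J) (maximalIdeal (A ⧸ J)) B₀ (maximalIdeal B₀)) :
    (∃ (B : Type u) (_ : CommRing B) (_ : IsLocalRing B) (_ : IsNoetherianRing B) (_ : Algebra A B) (_ : IsLocalHom (algebraMap A B)),
      IsAdicComplete (maximalIdeal B) B ∧ Module.Flat A B ∧ Nonempty ((A ⧸ J) ⊗[A] B ≃ₐ[A ⧸ J] B₀)) ∧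
    ∀ (B B' : Type u) [CommRing B] [IsLocalRing B] [IsNoetherianRing B] [Algebra A B] [IsLocalHom (algebraMap A B)]
      [CommRing B'] [IsLocalRing B'] [IsNoetherianRing B'] [Algebra A B'] [IsLocalHom (algebraMap A B')],
      IsAdicComplete (maximalIdeal B) B → Module.Flat A B → IsAdicComplete (maximalIdeal B') B' → Module.Flat A B' →
      ∀ (u : (A ⧸ J) ⊗[A] B ≃ₐ[A ⧸ J] B₀) (u' : (A ⧸ J) ⊗[A] B' ≃ₐ[A ⧸ J] B₀),
      ∃ v : B ≃ₐ[A] B', (u' : (A ⧸ J) ⊗[A] B' →ₐ[A ⧸ J] B₀).comp
          (Algebra.TensorProduct.map (AlgHom.id (A ⧸ J) (A ⧸ J)) (v : B →ₐ[A] B')) = (u : (A ⧸ J) ⊗[A] B →ₐ[A ⧸ J] B₀) := by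
  letI : Algebra A B₀ := ((algebraMap (A ⧸ J) B₀).comp (algebraMap A (A ⧸ J))).toAlgebra
  haveI : IsScalarTower A (A ⧸ J) B₀ := .of_algebraMap_eq fun _ => rfl
  refine ⟨?_, fun B B' => ?_⟩
  · obtain ⟨B, _, _, _, _, _, hc, hf, π, hπs, hπk⟩ := exists_lift hfs
    refine ⟨B, inferInstance, inferInstance, inferInstance, inferInstance, inferInstance, hc, hf, ⟨?_⟩⟩
    let f : (A ⧸ J) ⊗[A] B →ₐ[A ⧸ J] B₀ :=
      Algebra.TensorProduct.lift (Algebra.ofId (A ⧸ J) B₀) π fun _ _ => Commute.all _ _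
    refine AlgEquiv.ofBijective f ⟨?_, fun s => ?_⟩
    · rw [injective_iff_map_eq_zero]
      intro z hz
      obtain ⟨b, rfl⟩ : ∃ b, (1 : A ⧸ J) ⊗ₜ[A] b = z := by
        clear hz
        induction z with
        | zero => exact ⟨0, tmul_zero _ _⟩
        | tmul a b =>
          obtain ⟨a, rfl⟩ := Ideal.Quotient.mk_surjective a
          refine ⟨a • b, ?_⟩
          rw [← TensorProduct.smul_tmul, Algebra.smul_def, mul_one]
          rfl
        | add x y hx hy =>
          obtain ⟨b, rfl⟩ := hx; obtain ⟨c, rfl⟩ := hy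
          exact ⟨b + c, tmul_add _ _ _⟩
      have hb : b ∈ J.map (algebraMap A B) := by
        rw [← hπk, RingHom.mem_ker]
        simpa [f] using hz
      have hle : J.map (algebraMap A B) ≤ RingHom.ker (Algebra.TensorProduct.includeRight : B →ₐ[A] (A ⧸ J) ⊗[A] B).toRingHom :=
        Ideal.map_le_iff_le_comap.2 fun a ha => by
          show (Algebra.TensorProduct.includeRight : B →ₐ[A] (A ⧸ J) ⊗[A] B) (algebraMap A B a) = 0
          rw [AlgHom.commutes, Algebra.TensorProduct.algebraMap_apply, Ideal.Quotient.algebraMap_eq,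
            Ideal.Quotient.eq_zero_iff_mem.2 ha, zero_tmul]
      exact hle hb
    · obtain ⟨b, rfl⟩ := hπs s
      exact ⟨1 ⊗ₜ b, by simp [f]⟩
  intros
  rename_i _ _ _ _ _ _ _ _ _ _ hc hf hc' hf' u u'
  haveI := hc; haveI := hf; haveI := hc'; haveI := hf'
  obtain ⟨π, hπ, hπs, hπk⟩ := exists_proj u
  obtain ⟨π', hπ', hπs', hπk'⟩ := exists_proj u'
  have hmB : (maximalIdeal A).map (algebraMap A B) ≤ maximalIdeal B := map_max_le _
  have hmB' : (maximalIdeal A).map (algebraMap A B') ≤ maximalIdeal B' := map_max_le _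
  set JB' := J.map (algebraMap A B') with hJB'
  have hJB'le : JB' ≤ maximalIdeal B' := (Ideal.map_mono hJ).trans hmB'
  have hfsB : EGA41.IsFormallySmoothAdic A (maximalIdeal A) B (maximalIdeal B) := by
    refine fs_of_fibre hfs B ?_
    let ψ : B →ₐ[A] B₀ ⧸ (maximalIdeal A).map (algebraMap A B₀) := (Ideal.Quotient.mkₐ A _).comp π
    have hk : RingHom.ker ψ.toRingHom = (maximalIdeal A).map (algebraMap A B) := by
      show RingHom.ker ((Ideal.Quotient.mk _).comp π.toRingHom) = _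
      rw [← RingHom.comap_ker, Ideal.mk_ker, show (maximalIdeal A).map (algebraMap A B₀) =
          ((maximalIdeal A).map (algebraMap A B)).map π.toRingHom by
        rw [Ideal.map_map]; congr 1; exact π.comp_algebraMap.symm,
        Ideal.comap_map_of_surjective' π.toRingHom hπs, hπk]
      exact sup_eq_left.2 (Ideal.map_mono hJ)
    exact (Ideal.quotientKerAlgEquivOfSurjective (f := ψ) (Ideal.Quotient.mk_surjective.comp hπs)).symm.trans
      (Ideal.quotientEquivAlgOfEq A hk)
  let θ : (B' ⧸ JB') ≃ₐ[A] B₀ := (Ideal.quotientEquivAlgOfEq A hπk'.symm).trans (Ideal.quotientKerAlgEquivOfSurjective hπs')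
  let w : B →ₐ[A] B' ⧸ JB' := θ.symm.toAlgHom.comp π
  haveI : Nontrivial (B' ⧸ JB') := θ.toEquiv.nontrivial
  haveI := IsLocalRing.of_surjective' (Ideal.Quotient.mk JB') Ideal.Quotient.mk_surjective
  haveI : IsHausdorff ((maximalIdeal B').map (Ideal.Quotient.mk JB')) (B' ⧸ JB') := by
    rw [map_maximalIdeal_of_surjective (Ideal.Quotient.mk JB') Ideal.Quotient.mk_surjective]
    infer_instance
  have hws : Function.Surjective w := θ.symm.surjective.comp hπs
  obtain ⟨v, -, hv⟩ := S4542.result (maximalIdeal A) (maximalIdeal B) (maximalIdeal B') hfsB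
    ⟨1, by rw [pow_one]; exact hmB'⟩ JB' ⟨1, by rw [pow_one]; exact hJB'le⟩ w ⟨1, by
      rw [pow_one, map_maximalIdeal_of_surjective w.toRingHom hws,
        map_maximalIdeal_of_surjective (Ideal.Quotient.mk JB') Ideal.Quotient.mk_surjective]⟩
  have hvπ : ∀ b, π' (v b) = π b := fun b => by
    have h1 : Ideal.Quotient.mk JB' (v b) = θ.symm (π b) := AlgHom.congr_fun hv b
    have h2 := congrArg θ h1
    rw [θ.apply_symm_apply] at h2
    exact h2
  haveI : IsAdicComplete (J.map (algebraMap A B)) B := isAdicComplete_of_le ((Ideal.map_mono hJ).trans hmB)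
  haveI : IsAdicComplete (J.map (algebraMap A B')) B' := isAdicComplete_of_le hJB'le
  have hbij := bijective_of_flat_of_bijective_mod J v (fun s => by
      obtain ⟨b, hb⟩ := hπs (π' s)
      refine ⟨b, ?_⟩
      rw [← hJB', ← hπk', RingHom.mem_ker]
      show π' (v b - s) = 0
      rw [map_sub, hvπ, hb, sub_self])
    (fun x hx => by
      rw [← hπk, RingHom.mem_ker]
      show π x = 0
      rw [← hvπ]
      rw [← hJB', ← hπk', RingHom.mem_ker] at hx
      exact hx)
  refine ⟨AlgEquiv.ofBijective v hbij, Algebra.TensorProduct.ext (Subsingleton.elim _ _) (AlgHom.ext fun b => ?_)⟩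
  show u' (Algebra.TensorProduct.map (AlgHom.id (A ⧸ J) (A ⧸ J)) v (1 ⊗ₜ b)) = u (1 ⊗ₜ b)
  rw [Algebra.TensorProduct.map_tmul, AlgHom.id_apply, ← hπ, ← hπ', hvπ]

end Groth.Agent.H05EGA4.FlatLiftFS
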