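import Groth.Agent.H05EGA4.FieldFamily2
import Mathlib.Algebra.Algebra.Epi
import Mathlib.Algebra.TrivSqZeroExt.Basic
import Mathlib.RingTheory.Kaehler.Basic
import Mathlib.RingTheory.FiniteType

/-! `p`-bases and derivations. -/

set_option autoImplicit false
set_option linter.style.haveILetI false

open TensorProduct KaehlerDifferential EGA41

universe u v

namespace Groth.Agent.H05EGA4.PBasis

theorem pMonomial_add {B ι : Type u} [CommRing B] (x : ι → B) (e f : ι →₀ ℕ) :
    pMonomial x (e + f) = pMonomial x e * pMonomial x f :=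
  Finsupp.prod_add_index' (fun _ => pow_zero _) fun _ _ _ => pow_add _ _ _

theorem pMonomial_single {B ι : Type u} [CommRing B] (x : ι → B) (i : ι) (n : ℕ) :
    pMonomial x (Finsupp.single i n) = x i ^ n :=
  Finsupp.prod_single_index (pow_zero _)

/-- Every polynomial reduces to one with exponents below `p` modulo `X_i ^ p - a_i`. -/
theorem exists_reduced {A : Type u} [CommRing A] {ι : Type u} (p : ℕ) [hp : Fact p.Prime] (a : ι → A)
    (f : MvPolynomial ι A) :
    ∃ g : MvPolynomial ι A, (∀ m ∈ g.support, ∀ i, m i < p) ∧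
      f - g ∈ Ideal.span (Set.range fun i => MvPolynomial.X i ^ p - MvPolynomial.C (a i)) := by
  classical
  let I := Ideal.span (Set.range fun i => (MvPolynomial.X i : MvPolynomial ι A) ^ p - MvPolynomial.C (a i))
  let R : Submodule A (MvPolynomial ι A) :=
    MvPolynomial.restrictSupport A {m : ι →₀ ℕ | ∀ i, m i < p}
  suffices f ∈ R ⊔ I.restrictScalars A by
    obtain ⟨g, hg, h, hh, hgh⟩ := Submodule.mem_sup.1 this
    exact ⟨g, fun m hm => hg hm, by rw [← hgh, add_sub_cancel_left]; exact hh⟩
  induction f using MvPolynomial.induction_on' with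
  | add u v hu hv => exact add_mem hu hv
  | monomial m c =>
    suffices ∀ (n : ℕ) (m : ι →₀ ℕ) (c : A), (m.sum fun _ e => e) = n →
        MvPolynomial.monomial m c ∈ R ⊔ I.restrictScalars A from this _ m c rfl
    intro n
    induction n using Nat.strong_induction_on with
    | _ n ih =>
    intro m c hm
    by_cases hred : ∀ i, m i < p
    · exact Submodule.mem_sup_left ((MvPolynomial.monomial_mem_restrictSupport _).2 (Or.inl hred))
    push Not at hred
    obtain ⟨i, hi⟩ := hred
    let m' := m - Finsupp.single i p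
    have hm' : m = m' + Finsupp.single i p := (tsub_add_cancel_of_le (Finsupp.single_le_iff.2 hi)).symm
    have hlt : (m'.sum fun _ e => e) < n := by
      rw [← hm, hm', Finsupp.sum_add_index' (fun _ => rfl) (fun _ _ _ => rfl), Finsupp.sum_single_index rfl]
      exact Nat.lt_add_of_pos_right hp.out.pos
    have h1 : MvPolynomial.monomial m c = MvPolynomial.monomial m' (c * a i) +
        MvPolynomial.monomial m' c * (MvPolynomial.X i ^ p - MvPolynomial.C (a i)) := by
      rw [mul_sub, MvPolynomial.X_pow_eq_monomial, MvPolynomial.monomial_mul, mul_one, ← hm',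
        mul_comm (MvPolynomial.monomial m' c) (MvPolynomial.C (a i)), MvPolynomial.C_mul_monomial,
        mul_comm (a i) c, add_sub_cancel]
    rw [h1]
    exact add_mem (ih _ hlt m' _ rfl) (Submodule.mem_sup_right
      (I.mul_mem_left _ (Ideal.subset_span ⟨i, rfl⟩)))

variable (p : ℕ) [hp : Fact p.Prime] {A B : Type u} [CommRing A] [CommRing B] [Algebra A B] [CharP B p]

/-- Derivations extend along an extension with a `p`-basis. -/
theorem exists_extend (hpow : ∀ b : B, b ^ p ∈ Set.range (algebraMap A B)) {ι : Type u} (x : ι → B)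
    (hli : LinearIndependent A (fun e : {e : ι →₀ ℕ // ∀ i, e i < p} => pMonomial x e.1))
    (hgen : Submodule.span A (Set.range fun e : {e : ι →₀ ℕ // ∀ i, e i < p} => pMonomial x e.1) = ⊤)
    {L : Type v} [AddCommGroup L] [Module B L] [Module A L] [IsScalarTower A B L] (D : Derivation ℤ A L)
    (hD : ∀ (a : A) (b : B), algebraMap A B a = b ^ p → D a = 0) (y : ι → L) :
    ∃ D' : Derivation ℤ B L, (∀ a, D' (algebraMap A B a) = D a) ∧ ∀ i, D' (x i) = y i := by
  classical
  letI : Module Bᵐᵒᵖ L := Module.compHom L ((RingHom.id B).fromOpposite mul_comm)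
  haveI : IsCentralScalar B L := ⟨fun _ _ => rfl⟩
  let φ₀ : A →+* TrivSqZeroExt B L :=
    { toFun := fun a => TrivSqZeroExt.inl (algebraMap A B a) + TrivSqZeroExt.inr (D a)
      map_one' := TrivSqZeroExt.ext (by simp) (by simp)
      map_mul' := fun a b => TrivSqZeroExt.ext (by simp) (by
        simp [algebraMap_smul, op_smul_eq_smul])
      map_zero' := TrivSqZeroExt.ext (by simp) (by simp)
      map_add' := fun a b => TrivSqZeroExt.ext (by simp) (by simp) }
  let φ : MvPolynomial ι A →+* TrivSqZeroExt B L :=
    MvPolynomial.eval₂Hom φ₀ fun i => TrivSqZeroExt.inl (x i) + TrivSqZeroExt.inr (y i)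
  let π : MvPolynomial ι A →+* B := (MvPolynomial.aeval x).toRingHom
  have hfst : ∀ f, (φ f).fst = π f := fun f => by
    have : (TrivSqZeroExt.fstHom B B L).toRingHom.comp φ = π := MvPolynomial.ringHom_ext
      (fun a => by simp [φ, π, φ₀]) (fun i => by simp [φ, π])
    exact congrArg (· f) this
  choose a ha using fun i => hpow (x i)
  have hker : ∀ f, π f = 0 → φ f = 0 := by
    intro f hf
    have hI : ∀ h ∈ Ideal.span (Set.range fun i => MvPolynomial.X i ^ p - MvPolynomial.C (a i)),
        π h = 0 ∧ φ h = 0 := fun h hh => by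
      refine (show Ideal.span _ ≤ RingHom.ker π ⊓ RingHom.ker φ from Ideal.span_le.2 ?_) hh
      rintro _ ⟨i, rfl⟩
      refine ⟨?_, ?_⟩
      · simp [π, ha]
      · refine TrivSqZeroExt.ext ?_ ?_
        · simp [φ, φ₀, ha]
        · simp [φ, φ₀, TrivSqZeroExt.snd_pow, hD _ _ (ha i), ← Nat.cast_smul_eq_nsmul B, CharP.cast_eq_zero]
    obtain ⟨g, hg, hfg⟩ := exists_reduced p a f
    have hπg : π g = 0 := by
      have := (hI _ hfg).1
      rwa [map_sub, hf, zero_sub, neg_eq_zero] at this
    have hg0 : g = 0 := by
      rw [show π g = MvPolynomial.aeval x g from rfl, MvPolynomial.aeval_def, MvPolynomial.eval₂_eq] at hπg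
      have h0 := linearIndependent_iff'.1 hli
        (g.support.subtype fun m => ∀ i, m i < p) (fun e => g.coeff e.1) (by
          refine Eq.trans ?_ hπg
          rw [Finset.sum_subtype_of_mem (fun m => MvPolynomial.coeff m g • pMonomial x m) hg]
          exact Finset.sum_congr rfl fun m _ => by rw [Algebra.smul_def]; rfl)
      refine MvPolynomial.ext _ _ fun m => ?_
      rw [MvPolynomial.coeff_zero]
      by_contra hm
      exact hm (h0 ⟨m, hg m (MvPolynomial.mem_support_iff.2 hm)⟩
        (Finset.mem_subtype.2 (MvPolynomial.mem_support_iff.2 hm)))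
    have := (hI _ hfg).2
    rwa [hg0, sub_zero] at this
  have hπ : Function.Surjective π := fun b => by
    have hb : b ∈ Submodule.span A (Set.range fun e : {e : ι →₀ ℕ // ∀ i, e i < p} => pMonomial x e.1) := by
      rw [hgen]; trivial
    have hle : Submodule.span A (Set.range fun e : {e : ι →₀ ℕ // ∀ i, e i < p} => pMonomial x e.1) ≤
        LinearMap.range (MvPolynomial.aeval x : MvPolynomial ι A →ₐ[A] B).toLinearMap := by
      rw [Submodule.span_le]
      rintro _ ⟨e, rfl⟩
      exact ⟨MvPolynomial.monomial e.1 1, by simp [pMonomial, MvPolynomial.aeval_monomial]⟩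
    exact hle hb
  choose sec hsec using hπ
  have hsec' : ∀ f, φ (sec (π f)) = φ f := fun f => by
    rw [← sub_eq_zero, ← map_sub]
    exact hker _ (by rw [map_sub, hsec, sub_self])
  let ψ : B → TrivSqZeroExt B L := fun b => φ (sec b)
  have hadd : ∀ b c, ψ (b + c) = ψ b + ψ c := fun b c => by
    show φ _ = φ _ + φ _
    rw [← map_add, ← hsec' (sec b + sec c), map_add π, hsec, hsec]
  have hmul : ∀ b c, ψ (b * c) = ψ b * ψ c := fun b c => by
    show φ _ = φ _ * φ _
    rw [← map_mul, ← hsec' (sec b * sec c), map_mul π, hsec, hsec]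
  have hψfst : ∀ b, (ψ b).fst = b := fun b => (hfst _).trans (hsec b)
  let d : B →+ L := AddMonoidHom.mk' (fun b => (ψ b).snd) fun b c => by simp [hadd]
  refine ⟨Derivation.mk' d.toIntLinearMap fun b c => ?_, fun a' => ?_, fun i => ?_⟩
  · show (ψ (b * c)).snd = b • (ψ c).snd + c • (ψ b).snd
    rw [hmul, TrivSqZeroExt.snd_mul, hψfst, hψfst, op_smul_eq_smul]
  · show (φ (sec (algebraMap A B a'))).snd = D a'
    rw [show algebraMap A B a' = π (MvPolynomial.C a') by simp [π], hsec']
    simp [φ, φ₀]
  · show (φ (sec (x i))).snd = y i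
    rw [show x i = π (MvPolynomial.X i) by simp [π], hsec']
    simp [φ]

omit hp [CharP B p] in
theorem pMonomial_mem_adjoin {ι : Type u} (x : ι → B) (e : ι →₀ ℕ) {R : Type u} [CommRing R] [Algebra R B] :
    pMonomial x e ∈ Algebra.adjoin R (Set.range x) :=
  prod_mem fun i _ => pow_mem (Algebra.subset_adjoin (Set.mem_range_self (f := x) i)) _

theorem span_eq_adjoin (hpow : ∀ b : B, b ^ p ∈ Set.range (algebraMap A B)) {ι : Type u} (x : ι → B) :
    Submodule.span A (Set.range fun e : {e : ι →₀ ℕ // ∀ i, e i < p} => pMonomial x e.1) =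
      Subalgebra.toSubmodule (Algebra.adjoin A (Set.range x)) := by
  refine le_antisymm (Submodule.span_le.2 ?_) fun b hb => ?_
  · rintro _ ⟨e, rfl⟩
    exact pMonomial_mem_adjoin x e.1
  · obtain ⟨f, rfl⟩ := (Algebra.adjoin_range_eq_range_aeval A x ▸ hb : b ∈ (MvPolynomial.aeval x).range)
    choose a ha using fun i => hpow (x i)
    obtain ⟨g, hg, hfg⟩ := exists_reduced p a f
    have h0 : MvPolynomial.aeval x (f - g) = 0 := by
      refine (show Ideal.span _ ≤ RingHom.ker (MvPolynomial.aeval x : MvPolynomial ι A →ₐ[A] B) from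
        Ideal.span_le.2 ?_) hfg
      rintro _ ⟨i, rfl⟩
      simp [ha]
    rw [map_sub, sub_eq_zero] at h0
    show MvPolynomial.aeval x f ∈ _
    rw [h0, g.as_sum, map_sum]
    refine Submodule.sum_mem _ fun m hm => ?_
    rw [MvPolynomial.aeval_monomial, ← Algebra.smul_def]
    exact Submodule.smul_mem _ _ (Submodule.subset_span ⟨⟨m, hg m hm⟩, rfl⟩)

omit hp [CharP B p] in
theorem pow_mem_pPow (b : B) : b ^ p ∈ Set.range (algebraMap (pPowerSubalgebra p A B) B) :=
  ⟨⟨b ^ p, Algebra.subset_adjoin ⟨b, rfl⟩⟩, rfl⟩

theorem isPGenerating_iff {ι : Type u} (x : ι → B) :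
    IsPGenerating p A x ↔ Algebra.adjoin (pPowerSubalgebra p A B) (Set.range x) = ⊤ := by
  rw [IsPGenerating, span_eq_adjoin p (pow_mem_pPow p) x, Algebra.toSubmodule_eq_top]

omit hp in
theorem derivation_pPow {L : Type v} [AddCommGroup L] [Module B L] [Module A L]
    (D : Derivation A B L) {b : B} (hb : b ∈ pPowerSubalgebra p A B) : D b = 0 := by
  induction hb using Algebra.adjoin_induction with
  | mem x hx =>
    obtain ⟨c, rfl⟩ := hx
    rw [Derivation.leibniz_pow, ← Nat.cast_smul_eq_nsmul B, CharP.cast_eq_zero, zero_smul]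
  | algebraMap r => exact Derivation.map_algebraMap _ r
  | add x y _ _ hx hy => rw [map_add, hx, hy, add_zero]
  | mul x y _ _ hx hy => rw [Derivation.leibniz, hx, hy, smul_zero, smul_zero, add_zero]

theorem derivation_ext {ι : Type u} {x : ι → B} (hx : IsPGenerating p A x) {L : Type v} [AddCommGroup L]
    [Module B L] [Module A L] {D D' : Derivation A B L} (h : ∀ i, D (x i) = D' (x i)) : D = D' := by
  ext b
  have hb : b ∈ Algebra.adjoin (pPowerSubalgebra p A B) (Set.range x) :=
    (isPGenerating_iff p x).1 hx ▸ Algebra.mem_top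
  induction hb using Algebra.adjoin_induction with
  | mem y hy =>
    obtain ⟨i, rfl⟩ := hy
    exact h i
  | algebraMap r =>
    show D (r : B) = D' (r : B)
    rw [derivation_pPow p D r.2, derivation_pPow p D' r.2]
  | add u v _ _ hu hv => rw [map_add, map_add, hu, hv]
  | mul u v _ _ hu hv => rw [Derivation.leibniz, Derivation.leibniz, hu, hv]

theorem span_D_eq_top {ι : Type u} {x : ι → B} (hx : IsPGenerating p A x) :
    Submodule.span B (Set.range fun i => D A B (x i)) = ⊤ := by
  let N := Submodule.span B (Set.range fun i => D A B (x i))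
  rw [eq_top_iff, ← span_range_derivation A B, Submodule.span_le]
  have h : (N.mkQ.compDer (D A B)) = 0 := derivation_ext p hx fun i =>
    (Submodule.Quotient.mk_eq_zero N).2 (Submodule.subset_span ⟨i, rfl⟩)
  rintro _ ⟨b, rfl⟩
  exact (Submodule.Quotient.mk_eq_zero N).1 (DFunLike.congr_fun h b)

/-- A derivation with prescribed values on a `p`-basis. -/
theorem exists_derivation {ι : Type u} {x : ι → B} (hx : IsPBasis p A x) {L : Type v} [AddCommGroup L]
    [Module B L] [Module A L] [IsScalarTower A B L] (y : ι → L) :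
    ∃ D : Derivation A B L, ∀ i, D (x i) = y i := by
  obtain ⟨D', hD', hy⟩ := exists_extend p (pow_mem_pPow p) x hx.1 hx.2
    (0 : Derivation ℤ (pPowerSubalgebra p A B) L) (fun _ _ _ => rfl) y
  refine ⟨Derivation.mk'
    { toFun := D'
      map_add' := map_add D'
      map_smul' := fun r b => by
        have h0 : D' (algebraMap A B r) = 0 := hD' (algebraMap A (pPowerSubalgebra p A B) r)
        rw [RingHom.id_apply, Algebra.smul_def, D'.leibniz, h0, smul_zero, add_zero, algebraMap_smul] }
    fun a b => D'.leibniz a b, hy⟩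

theorem exists_basis {ι : Type u} {x : ι → B} (hx : IsPBasis p A x) :
    ∃ b : Module.Basis ι B Ω[B⁄A], ∀ i, b i = D A B (x i) := by
  obtain ⟨d, hd⟩ := exists_derivation p hx (fun i => (Finsupp.single i 1 : ι →₀ B))
  have hli : LinearIndependent B fun i => D A B (x i) := by
    refine LinearIndependent.of_comp d.liftKaehlerDifferential ?_
    have : (d.liftKaehlerDifferential ∘ fun i => D A B (x i)) = fun i => (Finsupp.single i 1 : ι →₀ B) :=
      funext fun i => (Derivation.liftKaehlerDifferential_comp_D _ _).trans (hd i)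
    rw [this]
    simpa using (Finsupp.basisSingleOne (ι := ι) (R := B)).linearIndependent
  exact ⟨Module.Basis.mk hli (span_D_eq_top p hx.2).ge, fun i => Module.Basis.mk_apply hli _ i⟩

/-- A finite type purely inseparable algebra without differentials is trivial. -/
theorem surjective_of_subsingleton_kaehler [Algebra.FiniteType A B] (s : ℕ)
    (hpow : ∀ b : B, b ^ p ^ s ∈ Set.range (algebraMap A B)) [Subsingleton Ω[B⁄A]] :
    Function.Surjective (algebraMap A B) := by
  haveI : Algebra.IsIntegral A B := ⟨fun b => IsIntegral.of_pow (pow_pos hp.out.pos s) (by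
    obtain ⟨a, ha⟩ := hpow b
    rw [← ha]
    exact isIntegral_algebraMap)⟩
  haveI : Module.Finite A B := Algebra.IsIntegral.finite
  refine Algebra.isEpi_iff_surjective_algebraMap_of_finite.1 ((Algebra.isEpi_iff_forall_one_tmul_eq A B).2 fun b => ?_)
  let I := KaehlerDifferential.ideal A B
  have hid : IsIdempotentElem I := (Ideal.cotangent_subsingleton_iff I).1 ‹_›
  obtain ⟨e, he, hI⟩ := (Ideal.isIdempotentElem_iff_of_fg _ (KaehlerDifferential.ideal_fg A B)).1 hid
  have hchar : ((p : ℕ) : B ⊗[A] B) = 0 := by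
    rw [← map_natCast (Algebra.TensorProduct.includeLeftRingHom : B →+* B ⊗[A] B), CharP.cast_eq_zero, map_zero]
  have hnil : ∀ z ∈ I, IsNilpotent z := by
    intro z hz
    suffices I ≤ nilradical (B ⊗[A] B) from this hz
    rw [show I = _ from (KaehlerDifferential.span_range_eq_ideal A B).symm, Ideal.span_le]
    rintro _ ⟨c, rfl⟩
    refine ⟨p ^ s, ?_⟩
    rcases subsingleton_or_nontrivial (B ⊗[A] B) with h | h
    · exact Subsingleton.elim _ _
    haveI : CharP (B ⊗[A] B) p := (CharP.charP_iff_prime_eq_zero hp.out).2 hchar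
    rw [sub_pow_char_pow, Algebra.TensorProduct.tmul_pow, Algebra.TensorProduct.tmul_pow, one_pow]
    obtain ⟨a, ha⟩ := hpow c
    rw [← ha, Algebra.algebraMap_eq_smul_one, tmul_smul, smul_tmul', sub_self]
    exact Submodule.zero_mem _
  have he0 : e = 0 := IsIdempotentElem.eq_zero_of_isNilpotent he
    (hnil e (by show e ∈ KaehlerDifferential.ideal A B; rw [hI]; exact Submodule.mem_span_singleton_self e))
  have h := KaehlerDifferential.one_smul_sub_smul_one_mem_ideal A b
  rw [hI, he0, Submodule.span_singleton_eq_bot.2 rfl,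
    Submodule.mem_bot, sub_eq_zero] at h
  exact h

theorem isPGenerating_of_span {ι : Type u} (x : ι → B) [Algebra.FiniteType (pPowerSubalgebra p A B) B]
    (h : Submodule.span B (Set.range fun i => D A B (x i)) = ⊤) : IsPGenerating p A x := by
  rw [isPGenerating_iff]
  let C := pPowerSubalgebra p A B
  let A₁ := Algebra.adjoin C (Set.range x)
  haveI : Algebra.FiniteType A₁ B := Algebra.FiniteType.of_restrictScalars_finiteType C A₁ B
  haveI : Subsingleton Ω[B⁄A₁] := by
    refine subsingleton_of_forall_eq 0 fun ω => ?_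
    obtain ⟨η, rfl⟩ := map_surjective A A₁ B ω
    refine (show (⊤ : Submodule B Ω[B⁄A]) ≤ LinearMap.ker (KaehlerDifferential.map A A₁ B B) from ?_) trivial
    rw [← h, Submodule.span_le]
    rintro _ ⟨i, rfl⟩
    show KaehlerDifferential.map A A₁ B B (D A B (x i)) = 0
    rw [map_D]
    exact (D A₁ B).map_algebraMap ⟨x i, Algebra.subset_adjoin ⟨i, rfl⟩⟩
  have := surjective_of_subsingleton_kaehler p (A := A₁) (B := B) 1 fun b => by
    rw [pow_one]
    obtain ⟨c, hc⟩ := pow_mem_pPow (A := A) p b
    exact ⟨algebraMap C A₁ c, hc⟩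
  refine eq_top_iff.2 fun b _ => ?_
  obtain ⟨a, rfl⟩ := this b
  exact a.2

section Field

variable {k K : Type u} [Field k] [Field K] [Algebra k K] [CharP K p]

omit [CharP K p] in
/-- A subalgebra over `k(K^p)` as a subfield. -/
def toSubfield (S : Subalgebra (pPowerSubalgebra p k K) K) : Subfield K :=
  { S.toSubring with
    inv_mem' := fun x hx => by
      show x⁻¹ ∈ S
      rcases eq_or_ne x 0 with rfl | hx0
      · rw [inv_zero]; exact S.zero_mem
      rw [show x⁻¹ = x⁻¹ ^ p * x ^ (p - 1) by
        rw [inv_pow, ← inv_inj, inv_inv, mul_inv, inv_inv, ← div_eq_mul_inv, eq_div_iff (pow_ne_zero _ hx0),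
          ← pow_succ', Nat.sub_add_cancel hp.out.pos]]
      exact mul_mem (S.algebraMap_mem ⟨x⁻¹ ^ p, Algebra.subset_adjoin (Set.mem_range_self (f := fun b : K => b ^ p) x⁻¹)⟩) (pow_mem hx _) }

omit [CharP K p] in
theorem toSubfield_adjoin (S : Set K) :
    toSubfield p (Algebra.adjoin (pPowerSubalgebra p k K) S) =
      (IntermediateField.adjoin k ((Set.range fun y : K => y ^ p) ∪ S)).toSubfield := by
  apply le_antisymm
  · intro y hy
    have hy' : y ∈ Algebra.adjoin (pPowerSubalgebra p k K) S := hy
    induction hy' using Algebra.adjoin_induction with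
    | mem z hz => exact IntermediateField.subset_adjoin k _ (Or.inr hz)
    | algebraMap c =>
      exact (show pPowerSubalgebra p k K ≤ (IntermediateField.adjoin k _).toSubalgebra from
        Algebra.adjoin_le fun z hz => IntermediateField.subset_adjoin k _ (Or.inl hz)) c.2
    | add u v hu' hv' hu hv => exact add_mem (hu hu') (hv hv')
    | mul u v hu' hv' hu hv => exact mul_mem (hu hu') (hv hv')
  · rw [IntermediateField.adjoin_toSubfield, Subfield.closure_le]
    rintro z (⟨r, rfl⟩ | ⟨y, rfl⟩ | hz)
    · exact (Algebra.adjoin (pPowerSubalgebra p k K) S).algebraMap_mem ⟨algebraMap k K r, Subalgebra.algebraMap_mem _ r⟩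
    · exact (Algebra.adjoin (pPowerSubalgebra p k K) S).algebraMap_mem ⟨y ^ p, Algebra.subset_adjoin (Set.mem_range_self (f := fun b : K => b ^ p) y)⟩
    · exact Algebra.subset_adjoin hz

/-- A derivation killing `k(K^p, S)` and not `a`. -/
theorem exists_derivation_not_mem (S : Set K) {a : K}
    (ha : a ∉ Algebra.adjoin (pPowerSubalgebra p k K) S) :
    ∃ d : Derivation k K K, (∀ y ∈ S, d y = 0) ∧ d a = 1 := by
  let G := toSubfield p (Algebra.adjoin (pPowerSubalgebra p k K) S)
  have hC : ∀ c ∈ pPowerSubalgebra p k K, c ∈ G := fun c hc =>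
    (Algebra.adjoin (pPowerSubalgebra p k K) S).algebraMap_mem ⟨c, hc⟩
  obtain ⟨d, hd, hda⟩ := FieldFamily.exists_derivation_of_notMem p G
    (fun y => hC _ (Algebra.subset_adjoin ⟨y, rfl⟩)) (a := a) ha
  exact ⟨Derivation.mk'
    { toFun := d
      map_add' := map_add d
      map_smul' := fun r x => by
        rw [RingHom.id_apply, Algebra.smul_def, d.leibniz, hd _ (hC _ (Subalgebra.algebraMap_mem _ r)),
          smul_zero, add_zero, algebraMap_smul] }
    fun a b => d.leibniz a b, fun y hy => hd y (Algebra.subset_adjoin hy), hda⟩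

theorem pIndependent_of_linearIndependent {ι : Type u} (x : ι → K)
    (h : LinearIndependent K fun i => D k K (x i)) : IsPIndependent p k x := by
  classical
  unfold IsPIndependent
  rw [linearIndependent_iff']
  suffices ∀ (n : ℕ) (s : Finset {e : ι →₀ ℕ // ∀ i, e i < p}) (g : {e : ι →₀ ℕ // ∀ i, e i < p} → pPowerSubalgebra p k K),
      (∀ e ∈ s, e.1.degree < n) → ∑ e ∈ s, g e • pMonomial x e.1 = 0 → ∀ e ∈ s, g e = 0 by
    intro s g hs e he
    exact this (s.sup (fun e => e.1.degree) + 1) s g
      (fun e he => Nat.lt_succ_of_le (Finset.le_sup (f := fun e => e.1.degree) he)) hs e he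
  intro n
  induction n with
  | zero => exact fun s g hs _ e he => absurd (hs e he) (Nat.not_lt_zero _)
  | succ n ih =>
    intro s g hs hsum e he
    have hne : ∀ e ∈ s, e.1 ≠ 0 → g e = 0 := by
      intro e he he0
      obtain ⟨j, hj⟩ := Finsupp.support_nonempty_iff.2 he0
      obtain ⟨l, hl⟩ : ∃ l : Ω[K⁄k] →ₗ[K] K, ∀ i, l (D k K (x i)) = if i = j then 1 else 0 := by
        obtain ⟨l, hl⟩ := LinearMap.exists_extend ((Finsupp.lapply j).comp h.repr)
        refine ⟨l, fun i => ?_⟩
        have h2 := LinearMap.congr_fun hl ⟨_, Submodule.subset_span ⟨i, rfl⟩⟩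
        simp only [LinearMap.comp_apply, Submodule.subtype_apply] at h2
        rw [h2, LinearIndependent.repr_eq_single h i ⟨_, Submodule.subset_span ⟨i, rfl⟩⟩ rfl,
          Finsupp.lapply_apply, Finsupp.single_apply]
      let d : Derivation k K K := l.compDer (D k K)
      have hd : ∀ i, d (x i) = if i = j then 1 else 0 := hl
      have hdm : ∀ e : ι →₀ ℕ, d (pMonomial x e) = (e j : K) * pMonomial x (e - Finsupp.single j 1) := by
        intro e
        induction e using Finsupp.induction with
        | zero => simp [pMonomial]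
        | single_add i b f hif hb ihf =>
          rw [pMonomial_add, Derivation.leibniz, ihf, pMonomial_single, Derivation.leibniz_pow, hd i]
          simp only [smul_eq_mul, nsmul_eq_mul, Finsupp.add_apply, Nat.cast_add]
          by_cases hij : i = j
          · subst hij
            rw [Finsupp.notMem_support_iff.1 hif, Finsupp.single_eq_same, if_pos rfl,
              show Finsupp.single i b + f - Finsupp.single i 1 = Finsupp.single i (b - 1) + f from ?_,
              pMonomial_add, pMonomial_single]
            · push_cast; ring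
            · ext t
              simp only [Finsupp.coe_tsub, Finsupp.coe_add, Pi.sub_apply, Pi.add_apply, Finsupp.single_apply]
              split_ifs with ht
              · subst ht; rw [Finsupp.notMem_support_iff.1 hif]; omega
              · omega
          · rw [if_neg hij, Finsupp.single_eq_of_ne (Ne.symm hij)]
            by_cases hfj : f j = 0
            · simp [hfj]
            · rw [show Finsupp.single i b + f - Finsupp.single j 1 = Finsupp.single i b + (f - Finsupp.single j 1) from ?_,
                pMonomial_add, pMonomial_single]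
              · push_cast; ring
              · ext t
                simp only [Finsupp.coe_tsub, Finsupp.coe_add, Pi.sub_apply, Pi.add_apply, Finsupp.single_apply]
                split_ifs <;> subst_vars <;> omega
      let sh : {e : ι →₀ ℕ // ∀ i, e i < p} → {e : ι →₀ ℕ // ∀ i, e i < p} := fun e =>
        ⟨e.1 - Finsupp.single j 1, fun i => lt_of_le_of_lt (Nat.sub_le _ _) (e.2 i)⟩
      let un : {e : ι →₀ ℕ // ∀ i, e i < p} → ι →₀ ℕ := fun e => e.1 + Finsupp.single j 1
      let s₁ := s.filter fun e => e.1 j ≠ 0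
      let g' : {e : ι →₀ ℕ // ∀ i, e i < p} → pPowerSubalgebra p k K := fun e' =>
        if hh : ∀ i, un e' i < p then ((e'.1 j + 1 : ℕ) : pPowerSubalgebra p k K) * g ⟨un e', hh⟩ else 0
      have hback : ∀ e ∈ s₁, un (sh e) = e.1 := fun e he => by
        have := (Finset.mem_filter.1 he).2
        ext t
        simp only [un, sh, Finsupp.coe_add, Pi.add_apply, Finsupp.coe_tsub, Pi.sub_apply, Finsupp.single_apply]
        split_ifs with ht
        · subst ht; omega
        · omega
      have hinj : Set.InjOn sh s₁ := fun a ha b hb hab => Subtype.ext (by rw [← hback a ha, ← hback b hb, hab])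
      have hg' : ∀ e ∈ s₁, g' (sh e) = (e.1 j : pPowerSubalgebra p k K) * g e := fun e he => by
        have hun := hback e he
        have hh : ∀ i, un (sh e) i < p := by rw [hun]; exact e.2
        simp only [g', dif_pos hh]
        have h1 : (sh e).1 j + 1 = e.1 j := by
          have := DFunLike.congr_fun hun j
          simpa [un] using this
        rw [h1, show (⟨un (sh e), hh⟩ : {e : ι →₀ ℕ // ∀ i, e i < p}) = e from Subtype.ext hun]
      have hsum' : ∑ e' ∈ s₁.image sh, g' e' • pMonomial x e'.1 = 0 := by
        rw [Finset.sum_image hinj]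
        have h0 := congrArg d hsum
        rw [map_sum, map_zero] at h0
        rw [← Finset.sum_filter_add_sum_filter_not s (fun e => e.1 j ≠ 0),
          Finset.sum_eq_zero (s := s.filter fun e => ¬ e.1 j ≠ 0), add_zero] at h0
        · refine (Finset.sum_congr rfl fun e he => ?_).trans h0
          rw [hg' e he, Algebra.smul_def, Algebra.smul_def, Derivation.leibniz,
            show d (algebraMap (pPowerSubalgebra p k K) K (g e)) = 0 from derivation_pPow p d (g e).2,
            smul_zero, add_zero, hdm, smul_eq_mul, map_mul, map_natCast]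
          ring
        · intro e he
          have he' : e.1 j = 0 := not_not.1 (Finset.mem_filter.1 he).2
          rw [Algebra.smul_def, Derivation.leibniz,
            show d (algebraMap (pPowerSubalgebra p k K) K (g e)) = 0 from derivation_pPow p d (g e).2,
            hdm, he', Nat.cast_zero, zero_mul, smul_zero, smul_zero, add_zero]
      have hes : e ∈ s₁ := Finset.mem_filter.2 ⟨he, Finsupp.mem_support_iff.1 hj⟩
      have h0 := ih (s₁.image sh) g' (fun e' he' => by
        obtain ⟨a, ha, rfl⟩ := Finset.mem_image.1 he'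
        have h1 : (un (sh a)).degree = a.1.degree := by rw [hback a ha]
        simp only [un, map_add, Finsupp.degree_single] at h1
        have := hs a (Finset.mem_filter.1 ha).1
        omega) hsum' (sh e) (Finset.mem_image_of_mem sh hes)
      rw [hg' e hes] at h0
      have hp0 : (e.1 j : K) ≠ 0 := by
        rw [Ne, CharP.cast_eq_zero_iff K p]
        exact fun hdvd => absurd (Nat.le_of_dvd (Nat.pos_of_ne_zero (Finsupp.mem_support_iff.1 hj)) hdvd)
          (not_le.2 (e.2 j))
      have h1 := congrArg Subtype.val h0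
      simp [hp0] at h1
      exact h1
    by_cases he0 : e.1 = 0
    · rw [Finset.sum_eq_single e (fun b hb hbe => by
        rw [hne b hb (fun hb0 => hbe (Subtype.ext (hb0.trans he0.symm))), zero_smul]) (fun h => absurd he h),
        he0, show pMonomial x (0 : ι →₀ ℕ) = 1 from Finsupp.prod_zero_index, Algebra.smul_def, mul_one] at hsum
      exact Subtype.ext hsum
    · exact hne e he he0

theorem notMem_adjoin_of_pIndependent {ι : Type u} (x : ι → K) (h : IsPIndependent p k x) (a : ι) :
    x a ∉ Algebra.adjoin (pPowerSubalgebra p k K) (x '' {b | b ≠ a}) := by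
  classical
  intro ha
  let T := {b : ι // b ≠ a}
  have hT : x '' {b | b ≠ a} = Set.range fun b : T => x b := by
    ext z; simp [T]
  rw [hT, ← Subalgebra.mem_toSubmodule, ← span_eq_adjoin p (pow_mem_pPow p)] at ha
  have hmon : ∀ e : T →₀ ℕ, pMonomial (fun b : T => x b) e = pMonomial x (e.embDomain ⟨Subtype.val, Subtype.val_injective⟩) := by
    intro e
    rw [pMonomial, pMonomial, Finsupp.prod_embDomain]
    rfl
  have hone : ∀ i, (Finsupp.single a 1 : ι →₀ ℕ) i < p := fun i =>
    lt_of_le_of_lt ((Finsupp.single_apply (a := a) (b := 1) (a' := i)).trans_le (by split_ifs <;> omega))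
      hp.out.one_lt
  refine h.notMem_span_image (x := (⟨Finsupp.single a 1, hone⟩ : {e : ι →₀ ℕ // ∀ i, e i < p}))
    (s := {e | e.1 a = 0}) (by simp) ?_
  show pMonomial x (Finsupp.single a 1) ∈ _
  rw [pMonomial_single, pow_one]
  refine Submodule.span_le.2 ?_ ha
  rintro _ ⟨e, rfl⟩
  refine Submodule.subset_span ⟨⟨e.1.embDomain ⟨Subtype.val, Subtype.val_injective⟩, fun i => ?_⟩, ?_, (hmon e.1).symm⟩
  · by_cases hi : i = a
    · subst hi
      rw [Finsupp.embDomain_notin_range _ _ _ (by rintro ⟨b, hb⟩; exact b.2 hb)]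
      exact hp.out.pos
    · rw [show i = (⟨Subtype.val, Subtype.val_injective⟩ : T ↪ ι) ⟨i, hi⟩ from rfl, Finsupp.embDomain_apply_self]
      exact e.2 _
  · show e.1.embDomain _ a = 0
    exact Finsupp.embDomain_notin_range _ _ _ (by rintro ⟨b, hb⟩; exact b.2 hb)

theorem linearIndependent_of_notMem {ι : Type u} (x : ι → K)
    (h : ∀ a, x a ∉ Algebra.adjoin (pPowerSubalgebra p k K) (x '' {b | b ≠ a})) :
    LinearIndependent K fun i => D k K (x i) := by
  classical
  rw [linearIndependent_iff']
  intro s g hs a ha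
  obtain ⟨d, hd, hda⟩ := exists_derivation_not_mem p _ (h a)
  have h0 := congrArg d.liftKaehlerDifferential hs
  rw [map_sum, map_zero, Finset.sum_eq_single a (fun b _ hb => by
      rw [map_smul, Derivation.liftKaehlerDifferential_comp_D, hd _ ⟨b, hb, rfl⟩, smul_zero])
      (fun h => absurd ha h), map_smul, Derivation.liftKaehlerDifferential_comp_D, hda, smul_eq_mul,
    mul_one] at h0
  exact h0

theorem pIndependent_iff {ι : Type u} (x : ι → K) :
    IsPIndependent p k x ↔ LinearIndependent K fun i => D k K (x i) :=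
  ⟨fun h => linearIndependent_of_notMem p x (notMem_adjoin_of_pIndependent p x h),
    pIndependent_of_linearIndependent p x⟩

theorem pGenerating_iff {ι : Type u} (x : ι → K) :
    IsPGenerating p k x ↔ Submodule.span K (Set.range fun i => D k K (x i)) = ⊤ := by
  refine ⟨span_D_eq_top p, fun h => ?_⟩
  rw [isPGenerating_iff]
  refine eq_top_iff.2 fun a _ => ?_
  by_contra ha
  obtain ⟨d, hd, hda⟩ := exists_derivation_not_mem p _ ha
  have h0 : d.liftKaehlerDifferential = 0 := LinearMap.ext_on h (by
    rintro _ ⟨i, rfl⟩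
    rw [Derivation.liftKaehlerDifferential_comp_D, hd _ ⟨i, rfl⟩]
    rfl)
  have h1 := d.liftKaehlerDifferential_comp_D a
  rw [h0, hda] at h1
  exact zero_ne_one h1

/-- A `p`-basis between an independent and a generating family. -/
theorem exists_between {S L : Set K} (hLS : L ⊆ S) (hS : IsPGenerating p k (Subtype.val : S → K))
    (hL : IsPIndependent p k (Subtype.val : L → K)) :
    ∃ B : Set K, L ⊆ B ∧ B ⊆ S ∧ IsPBasis p k (Subtype.val : B → K) := by
  rw [pGenerating_iff] at hS
  rw [pIndependent_iff] at hL
  obtain ⟨B, hBS, hLB, hspan, hB⟩ := exists_linearIndepOn_extension (v := fun z : K => D k K z) hL hLS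
  refine ⟨B, hLB, hBS, (pIndependent_iff p _).2 hB, (pGenerating_iff p _).2 ?_⟩
  rw [eq_top_iff, ← hS, Submodule.span_le]
  rintro _ ⟨i, rfl⟩
  rw [← Set.image_eq_range]
  exact hspan ⟨i, i.2, rfl⟩

theorem exists_pBasis : ∃ B : Set K, IsPBasis p k (Subtype.val : B → K) := by
  obtain ⟨B, -, -, h⟩ := exists_between p (k := k) (K := K) (S := Set.univ) (L := ∅) (Set.empty_subset _)
    ((pGenerating_iff p _).2 (by
      rw [eq_top_iff, ← span_range_derivation k K]
      refine Submodule.span_mono ?_
      rintro _ ⟨z, rfl⟩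
      exact ⟨⟨z, trivial⟩, rfl⟩))
    ((pIndependent_iff p _).2 linearIndependent_empty_type)
  exact ⟨B, h⟩

end Field

end Groth.Agent.H05EGA4.PBasis
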