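import Mathlib
import Groth.Agent.H05EGA4.PBasis

/-!
A family of subrings of a power series ring with intersection the `p`-th powers (helper5).
-/

set_option autoImplicit false
set_option linter.style.haveILetI false
universe u
open EGA41 KaehlerDifferential

namespace Groth.Agent.H05EGA4.FrobFamily

section FieldPart

variable (p : ℕ) [hp : Fact p.Prime] (k : Type u) [Field k] [CharP k p]

/-- Subfields of finite codegree containing the `p`-th powers, directed, with intersection `k^p`. -/
theorem exists_family :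
    ∃ (ι : Type u) (_ : Nonempty ι) (F : ι → Subfield k),
      (∀ a b, ∃ c, F c ≤ F a ⊓ F b) ∧ (∀ i (x : k), x ^ p ∈ F i) ∧ (∀ i, Module.Finite (F i) k) ∧
      ∀ x, (∀ i, x ∈ F i) → ∃ y, y ^ p = x := by
  classical
  obtain ⟨B, hB⟩ := PBasis.exists_pBasis p (k := (⊥ : Subfield k)) (K := k)
  obtain ⟨bas, hbas⟩ := PBasis.exists_basis p hB
  let P := pPowerSubalgebra p (⊥ : Subfield k) k
  let Fs : Finset B → Subfield k := fun s => PBasis.toSubfield p (Algebra.adjoin P (Subtype.val '' ((s : Set B)ᶜ)))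
  have hmono : ∀ s t : Finset B, s ⊆ t → Fs t ≤ Fs s := fun s t h => by
    intro x hx
    exact Algebra.adjoin_mono (Set.image_mono (Set.compl_subset_compl.2 (Finset.coe_subset.2 h))) hx
  have hpow : ∀ s (x : k), x ^ p ∈ Fs s := fun s x =>
    (Algebra.adjoin P (Subtype.val '' ((s : Set B)ᶜ))).algebraMap_mem ⟨x ^ p, Algebra.subset_adjoin ⟨x, rfl⟩⟩
  refine ⟨Finset B, inferInstance, Fs, fun a b => ⟨a ∪ b, le_inf (hmono _ _ Finset.subset_union_left)
    (hmono _ _ Finset.subset_union_right)⟩, hpow, fun s => ?_, fun x hx => ?_⟩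
  · have hint : ∀ x ∈ Subtype.val '' (s : Set B), IsIntegral (Fs s) x := fun x _ =>
      IsIntegral.of_pow hp.out.pos
        (show IsIntegral (Fs s) (algebraMap (Fs s) k ⟨x ^ p, hpow s x⟩) from isIntegral_algebraMap)
    have htop : Algebra.adjoin (Fs s) (Subtype.val '' (s : Set B)) = ⊤ := by
      refine Algebra.eq_top_iff.2 fun x => ?_
      have hgen := (PBasis.isPGenerating_iff p _).1 hB.2
      have hx : x ∈ Algebra.adjoin P (Set.range (Subtype.val : B → k)) := hgen ▸ Algebra.mem_top
      induction hx using Algebra.adjoin_induction with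
      | mem z hz =>
        obtain ⟨b, rfl⟩ := hz
        by_cases hb : b ∈ s
        · exact Algebra.subset_adjoin ⟨b, hb, rfl⟩
        · exact (Algebra.adjoin (Fs s) _).algebraMap_mem ⟨(b : k), Algebra.subset_adjoin ⟨b, hb, rfl⟩⟩
      | algebraMap c =>
        exact (Algebra.adjoin (Fs s) _).algebraMap_mem
          ⟨(c : k), (Algebra.adjoin P (Subtype.val '' ((s : Set B)ᶜ))).algebraMap_mem c⟩
      | add u v _ _ hu hv => exact add_mem hu hv
      | mul u v _ _ hu hv => exact mul_mem hu hv
    refine Module.Finite.of_fg_top ?_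
    rw [← Algebra.top_toSubmodule, ← htop]
    exact fg_adjoin_of_finite (s.finite_toSet.image _) hint
  · have key : ∀ a : B, bas.repr (D (⊥ : Subfield k) k x) a = 0 := fun a => by
      let g : Ω[k⁄(⊥ : Subfield k)] →ₗ[k] k := bas.coord a
      have hxa : x ∈ Algebra.adjoin P (Subtype.val '' ((({a} : Finset B) : Set B)ᶜ)) := hx {a}
      show g (D (⊥ : Subfield k) k x) = 0
      clear hx
      induction hxa using Algebra.adjoin_induction with
      | mem z hz =>
        obtain ⟨b, hb, rfl⟩ := hz
        show bas.repr (D (⊥ : Subfield k) k (b : k)) a = 0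
        rw [← hbas b, bas.repr_self, Finsupp.single_eq_of_ne]
        intro e
        exact hb (by simp [e])
      | algebraMap c =>
        show g (D (⊥ : Subfield k) k (c : k)) = 0
        rw [PBasis.derivation_pPow p _ c.2, map_zero]
      | add u v _ _ hu hv => rw [map_add, map_add, hu, hv, add_zero]
      | mul u v _ _ hu hv => rw [Derivation.leibniz, map_add, map_smul, map_smul, hu, hv, smul_zero, smul_zero, add_zero]
    have hD : D (⊥ : Subfield k) k x = 0 := bas.repr.injective (by rw [map_zero]; exact Finsupp.ext key)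
    by_cases hmem : x ∈ Algebra.adjoin P (∅ : Set k)
    · rw [Algebra.adjoin_empty] at hmem
      obtain ⟨⟨c, hc⟩, rfl⟩ := hmem
      show ∃ y, y ^ p = c
      clear hx key hD
      induction hc using Algebra.adjoin_induction with
      | mem z hz => exact hz
      | algebraMap r =>
        haveI : ExpChar k p := ExpChar.prime hp.out
        obtain ⟨y, hy⟩ := (bot_le : (⊥ : Subfield k) ≤ (frobenius k p).fieldRange) r.2
        exact ⟨y, (frobenius_def p y).symm.trans hy⟩
      | add u v _ _ hu hv =>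
        obtain ⟨a, rfl⟩ := hu
        obtain ⟨b, rfl⟩ := hv
        exact ⟨a + b, add_pow_char a b p⟩
      | mul u v _ _ hu hv =>
        obtain ⟨a, rfl⟩ := hu
        obtain ⟨b, rfl⟩ := hv
        exact ⟨a * b, mul_pow a b p⟩
    · obtain ⟨d, -, hd⟩ := PBasis.exists_derivation_not_mem p _ hmem
      have h := d.liftKaehlerDifferential_comp_D x
      rw [hD, map_zero, hd] at h
      exact absurd h zero_ne_one

end FieldPart

section Series

variable (p : ℕ) [hp : Fact p.Prime] {k : Type u} [Field k] [CharP k p] {r : ℕ}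

/-- `F[[T^p]]`. -/
noncomputable def ser (F : Subfield k) : Subring (MvPowerSeries (Fin r) k) :=
  ((MvPowerSeries.map (σ := Fin r) F.subtype).comp (MvPowerSeries.expand p hp.out.ne_zero).toRingHom).range

omit [CharP k p] in
theorem exists_smul {N : Fin r →₀ ℕ} (h : ∀ i, p ∣ N i) : ∃ m : Fin r →₀ ℕ, p • m = N :=
  ⟨N.mapRange (fun a => a / p) (by simp), by ext i; simp [Nat.mul_div_cancel' (h i)]⟩

omit [CharP k p] in
theorem mem_ser {F : Subfield k} {f : MvPowerSeries (Fin r) k} :
    f ∈ ser p F ↔ (∀ N, MvPowerSeries.coeff N f ∈ F) ∧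
      ∀ N : Fin r →₀ ℕ, (∃ i, ¬ p ∣ N i) → MvPowerSeries.coeff N f = 0 := by
  constructor
  · rintro ⟨g, rfl⟩
    refine ⟨fun N => ?_, fun N ⟨i, hi⟩ => ?_⟩
    · rw [RingHom.comp_apply, MvPowerSeries.coeff_map]
      exact (MvPowerSeries.coeff N (MvPowerSeries.expand p hp.out.ne_zero g)).2
    · rw [RingHom.comp_apply, MvPowerSeries.coeff_map]
      show F.subtype (MvPowerSeries.coeff N (MvPowerSeries.expand p hp.out.ne_zero g)) = 0
      rw [MvPowerSeries.coeff_expand_of_not_dvd p _ _ hi, map_zero]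
  · rintro ⟨hF, h0⟩
    refine ⟨fun m => ⟨MvPowerSeries.coeff (p • m) f, hF _⟩, MvPowerSeries.ext fun N => ?_⟩
    rw [RingHom.comp_apply, MvPowerSeries.coeff_map]
    show F.subtype (MvPowerSeries.coeff N (MvPowerSeries.expand p hp.out.ne_zero _)) = _
    by_cases hN : ∀ i, p ∣ N i
    · obtain ⟨m, rfl⟩ := exists_smul p hN
      rw [MvPowerSeries.coeff_expand_smul]
      rfl
    · push Not at hN
      obtain ⟨i, hi⟩ := hN
      rw [MvPowerSeries.coeff_expand_of_not_dvd p _ _ hi, map_zero, h0 N ⟨i, hi⟩]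

omit [CharP k p] in
theorem isNoetherianRing_ser (F : Subfield k) : IsNoetherianRing (ser (r := r) p F) :=
  isNoetherianRing_range _

theorem pow_mem_ser (F : Subfield k) (hF : ∀ x : k, x ^ p ∈ F) (f : MvPowerSeries (Fin r) k) : f ^ p ∈ ser p F := by
  haveI : ExpChar k p := ExpChar.prime hp.out
  rw [← MvPowerSeries.map_frobenius_expand p hp.out.ne_zero]
  refine (mem_ser p).2 ⟨fun N => ?_, fun N ⟨i, hi⟩ => ?_⟩
  · rw [MvPowerSeries.coeff_map, frobenius_def]
    exact hF _
  · rw [MvPowerSeries.coeff_map, MvPowerSeries.coeff_expand_of_not_dvd p _ _ hi, map_zero]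

omit [CharP k p] in
theorem mem_of_mul_eq (F : Subfield k) {c d h : MvPowerSeries (Fin r) k} (hc : c ∈ ser p F) (hd : d ∈ ser p F)
    (hd0 : d ≠ 0) (he : d * h = c) : h ∈ ser p F := by
  classical
  obtain ⟨π, hπ⟩ := LinearMap.exists_leftInverse_of_injective (Algebra.linearMap F k)
    (LinearMap.ker_eq_bot.2 (algebraMap F k).injective)
  have hπ' : ∀ a : F, π (a : k) = a := fun a => LinearMap.congr_fun hπ a
  rw [mem_ser] at hd
  rw [mem_ser] at hc
  let h' : MvPowerSeries (Fin r) k := fun N =>
    if ∀ i, p ∣ N i then ((π (MvPowerSeries.coeff N h) : F) : k) else 0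
  have hh : ∀ N, MvPowerSeries.coeff N h' =
      if ∀ i, p ∣ N i then ((π (MvPowerSeries.coeff N h) : F) : k) else 0 := fun N => rfl
  have key : d * h' = c := by
    ext N
    by_cases hN : ∀ i, p ∣ N i
    · have hcn : MvPowerSeries.coeff N c = ((π (MvPowerSeries.coeff N c) : F) : k) :=
        (congrArg Subtype.val (hπ' ⟨_, hc.1 N⟩)).symm
      rw [hcn, ← he, MvPowerSeries.coeff_mul, MvPowerSeries.coeff_mul, map_sum]
      push_cast
      refine Finset.sum_congr rfl fun x hx => ?_
      by_cases h1 : ∀ i, p ∣ x.1 i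
      · have h2 : ∀ i, p ∣ x.2 i := fun i => by
          have := hN i
          rw [← Finset.HasAntidiagonal.mem_antidiagonal.1 hx, Finsupp.add_apply] at this
          exact (Nat.dvd_add_right (h1 i)).1 this
        rw [hh, if_pos h2, show MvPowerSeries.coeff x.1 d * MvPowerSeries.coeff x.2 h =
          (⟨_, hd.1 x.1⟩ : F) • MvPowerSeries.coeff x.2 h from rfl, map_smul]
        rfl
      · push Not at h1
        rw [hd.2 x.1 h1, zero_mul, zero_mul, map_zero]
        rfl
    · rw [hc.2 N (by push Not at hN; exact hN), MvPowerSeries.coeff_mul]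
      refine Finset.sum_eq_zero fun x hx => ?_
      by_cases h1 : ∀ i, p ∣ x.1 i
      · have h2 : ¬ ∀ i, p ∣ x.2 i := fun h2 => hN fun i => by
          rw [← Finset.HasAntidiagonal.mem_antidiagonal.1 hx, Finsupp.add_apply]
          exact dvd_add (h1 i) (h2 i)
        rw [hh, if_neg h2, mul_zero]
      · push Not at h1
        rw [hd.2 x.1 h1, zero_mul]
  rw [← mul_left_cancel₀ hd0 (key.trans he.symm)]
  refine (mem_ser p).2 ⟨fun N => ?_, fun N hN => ?_⟩
  · rw [hh]
    split
    · exact (π _).2
    · exact F.zero_mem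
  · rw [hh, if_neg (by obtain ⟨i, hi⟩ := hN; exact fun h => hi (h i))]

omit [CharP k p] in
theorem free_finite (F : Subfield k) [Module.Finite F k] :
    Module.Free (ser (r := r) p F) (MvPowerSeries (Fin r) k) ∧
      Module.Finite (ser (r := r) p F) (MvPowerSeries (Fin r) k) := by
  classical
  let bas := Module.Free.chooseBasis F k
  let emb : (Fin r → Fin p) → (Fin r →₀ ℕ) := fun m => Finsupp.equivFunOnFinite.symm fun i => (m i : ℕ)
  let v : (Fin r → Fin p) × Module.Free.ChooseBasisIndex F k → MvPowerSeries (Fin r) k :=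
    fun z => MvPowerSeries.monomial (emb z.1) (bas z.2)
  let Ψ := Fintype.linearCombination (ser (r := r) p F) v
  have hΨ : ∀ c (n : Fin r →₀ ℕ) (m : Fin r → Fin p),
      MvPowerSeries.coeff (p • n + emb m) (Ψ c) =
        ∑ j, MvPowerSeries.coeff (p • n) (c (m, j) : MvPowerSeries (Fin r) k) * bas j := by
    intro c n m
    rw [Fintype.linearCombination_apply, map_sum, Fintype.sum_prod_type, Finset.sum_eq_single m]
    · refine Finset.sum_congr rfl fun j _ => ?_
      show MvPowerSeries.coeff (p • n + emb m) ((c (m, j) : MvPowerSeries (Fin r) k) * MvPowerSeries.monomial (emb m) (bas j)) = _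
      rw [MvPowerSeries.coeff_add_mul_monomial]
    · intro m' _ hm'
      refine Finset.sum_eq_zero fun j _ => ?_
      show MvPowerSeries.coeff (p • n + emb m) ((c (m', j) : MvPowerSeries (Fin r) k) * MvPowerSeries.monomial (emb m') (bas j)) = _
      rw [MvPowerSeries.coeff_mul_monomial]
      split
      · rename_i hle
        rw [((mem_ser p).1 (c (m', j)).2).2 _ ?_, zero_mul]
        by_contra! hall
        refine hm' (funext fun i => Fin.ext ?_)
        obtain ⟨a, ha⟩ := hall i
        have hle' : (m' i : ℕ) ≤ p * n i + (m i : ℕ) := by simpa [emb] using hle i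
        have ha' : p * n i + (m i : ℕ) - (m' i : ℕ) = p * a := by simpa [emb] using ha
        have h1 : p * n i + (m i : ℕ) = p * a + (m' i : ℕ) := by omega
        have h2 := congrArg (· % p) h1
        simp only [Nat.mul_add_mod, Nat.mod_eq_of_lt (m i).isLt, Nat.mod_eq_of_lt (m' i).isLt] at h2
        exact h2.symm
      · rfl
    · exact fun h => absurd (Finset.mem_univ _) h
  have hdec : ∀ N : Fin r →₀ ℕ, ∃ (n : Fin r →₀ ℕ) (m : Fin r → Fin p), p • n + emb m = N := fun N =>
    ⟨N.mapRange (fun a => a / p) (by simp), fun i => ⟨N i % p, Nat.mod_lt _ hp.out.pos⟩, by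
      ext i; simp [emb, Nat.div_add_mod]⟩
  have hrepr : ∀ (f : Module.Free.ChooseBasisIndex F k → F), bas.repr (∑ j, (f j : k) * bas j) = Finsupp.equivFunOnFinite.symm f := by
    intro f
    rw [show (∑ j, (f j : k) * bas j) = ∑ j, f j • bas j from rfl]
    exact Finsupp.ext fun i => congrFun (bas.repr_sum_self f) i
  have hb : Function.Bijective Ψ := by
    refine ⟨fun c c' h => funext fun z => Subtype.ext (MvPowerSeries.ext fun N => ?_), fun f => ?_⟩
    · by_cases hN : ∀ i, p ∣ N i
      · obtain ⟨n, rfl⟩ := exists_smul p hN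
        have h1 := congrArg (fun g => bas.repr (MvPowerSeries.coeff (p • n + emb z.1) g) z.2) h
        simp only [hΨ] at h1
        have e1 := hrepr (fun j => ⟨_, ((mem_ser p).1 (c (z.1, j)).2).1 (p • n)⟩)
        have e2 := hrepr (fun j => ⟨_, ((mem_ser p).1 (c' (z.1, j)).2).1 (p • n)⟩)
        rw [e1, e2] at h1
        exact congrArg Subtype.val h1
      · push Not at hN
        rw [((mem_ser p).1 (c z).2).2 N hN, ((mem_ser p).1 (c' z).2).2 N hN]
    · let g : (Fin r → Fin p) × Module.Free.ChooseBasisIndex F k → MvPowerSeries (Fin r) F := fun z n =>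
        bas.repr (MvPowerSeries.coeff (p • n + emb z.1) f) z.2
      refine ⟨fun z => ⟨_, ⟨g z, rfl⟩⟩, MvPowerSeries.ext fun N => ?_⟩
      obtain ⟨n, m, rfl⟩ := hdec N
      rw [hΨ]
      conv_rhs => rw [← bas.sum_repr (MvPowerSeries.coeff (p • n + emb m) f)]
      refine Finset.sum_congr rfl fun j _ => ?_
      show MvPowerSeries.coeff (p • n) ((MvPowerSeries.map F.subtype) (MvPowerSeries.expand p hp.out.ne_zero (g (m, j)))) * bas j = _
      rw [MvPowerSeries.coeff_map, MvPowerSeries.coeff_expand_smul]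
      rfl
  let e := LinearEquiv.ofBijective Ψ hb
  exact ⟨Module.Free.of_equiv e, Module.Finite.equiv e⟩

theorem main :
    ∃ (ι : Type u) (_ : Nonempty ι) (S : ι → Subring (MvPowerSeries (Fin r) k)),
      (∀ a b : ι, ∃ c, S c ≤ S a ⊓ S b) ∧
      (∀ i, IsNoetherianRing (S i) ∧ Module.Free (S i) (MvPowerSeries (Fin r) k) ∧ Module.Finite (S i) (MvPowerSeries (Fin r) k)) ∧
      ((⨅ i, Subfield.closure (algebraMap (MvPowerSeries (Fin r) k) (FractionRing (MvPowerSeries (Fin r) k)) '' (S i)) :
          Set (FractionRing (MvPowerSeries (Fin r) k)))) =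
        Set.range fun x : FractionRing (MvPowerSeries (Fin r) k) => x ^ p := by
  obtain ⟨ι, hι, F, hdir, hpow, hfin, hinter⟩ := exists_family p k
  haveI : ExpChar k p := ExpChar.prime hp.out
  have hinj := IsFractionRing.injective (MvPowerSeries (Fin r) k) (FractionRing (MvPowerSeries (Fin r) k))
  refine ⟨ι, hι, fun i => ser p (F i), fun a b => ?_, fun i => ?_, ?_⟩
  · obtain ⟨c, hc⟩ := hdir a b
    refine ⟨c, fun f hf => ?_⟩
    obtain ⟨h1, h2⟩ := (mem_ser p).1 hf
    exact ⟨(mem_ser p).2 ⟨fun N => (hc (h1 N)).1, h2⟩, (mem_ser p).2 ⟨fun N => (hc (h1 N)).2, h2⟩⟩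
  · haveI := hfin i
    exact ⟨isNoetherianRing_ser p _, free_finite p _⟩
  refine Set.ext fun x => ?_
  simp only [Set.mem_range, iInf, Set.sInf_eq_sInter, Set.mem_sInter, SetLike.mem_coe, forall_exists_index,
    forall_apply_eq_imp_iff]
  obtain ⟨a, b, hb, rfl⟩ := IsFractionRing.div_surjective (A := MvPowerSeries (Fin r) k) x
  have hb0 : b ≠ 0 := nonZeroDivisors.ne_zero hb
  constructor
  · intro hx
    have hmem : ∀ i, a * b ^ (p - 1) ∈ ser p (F i) := fun i => by
      have hxi := hx i
      rw [← Subring.coe_map, Subfield.mem_closure_iff, Subring.closure_eq] at hxi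
      obtain ⟨_, ⟨c, hc, rfl⟩, _, ⟨d, hd, rfl⟩, hcd⟩ := hxi
      by_cases hd0 : d = 0
      · have : a = 0 := by
          rw [hd0, map_zero, div_zero] at hcd
          rcases div_eq_zero_iff.1 hcd.symm with h | h
          · exact hinj (h.trans (map_zero _).symm)
          · exact absurd (hinj (h.trans (map_zero _).symm)) hb0
        rw [this, zero_mul]
        exact zero_mem _
      refine mem_of_mul_eq p (F i) (mul_mem hc (pow_mem_ser p (F i) (hpow i) b)) hd hd0 (hinj ?_)
      rw [div_eq_div_iff (fun h => hd0 (hinj (h.trans (map_zero _).symm)))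
        (fun h => hb0 (hinj (h.trans (map_zero _).symm)))] at hcd
      rw [show b ^ p = b ^ (p - 1) * b by rw [← pow_succ, Nat.sub_add_cancel hp.out.pos]]
      simp only [map_mul, map_pow]
      linear_combination -(algebraMap _ (FractionRing (MvPowerSeries (Fin r) k)) b) ^ (p - 1) * hcd
    have hroot : ∀ N, ∃ y : k, y ^ p = MvPowerSeries.coeff N (a * b ^ (p - 1)) := fun N =>
      hinter _ fun i => ((mem_ser p).1 (hmem i)).1 N
    choose y hy using hroot
    let g : MvPowerSeries (Fin r) k := fun n => y (p • n)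
    have hg : a * b ^ (p - 1) = g ^ p := by
      rw [← MvPowerSeries.map_frobenius_expand p hp.out.ne_zero]
      ext N
      rw [MvPowerSeries.coeff_map]
      by_cases hN : ∀ i, p ∣ N i
      · obtain ⟨n, rfl⟩ := exists_smul p hN
        rw [MvPowerSeries.coeff_expand_smul, frobenius_def, ← hy]
        rfl
      · push Not at hN
        obtain ⟨i, hi⟩ := hN
        obtain ⟨i₀⟩ := hι
        rw [MvPowerSeries.coeff_expand_of_not_dvd p _ _ hi, map_zero]
        exact ((mem_ser p).1 (hmem i₀)).2 N ⟨i, hi⟩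
    refine ⟨algebraMap _ _ g / algebraMap _ _ b, ?_⟩
    have hb1 : algebraMap _ (FractionRing (MvPowerSeries (Fin r) k)) b ≠ 0 := fun h => hb0 (hinj (h.trans (map_zero _).symm))
    rw [div_pow, ← map_pow, ← hg, div_eq_div_iff (pow_ne_zero _ hb1) hb1, map_mul, map_pow, mul_assoc, ← pow_succ,
      Nat.sub_add_cancel hp.out.pos]
  · rintro ⟨z, hz⟩ i
    obtain ⟨c, d, -, rfl⟩ := IsFractionRing.div_surjective (A := MvPowerSeries (Fin r) k) z
    rw [← hz, div_pow, ← map_pow, ← map_pow]
    exact div_mem (Subfield.subset_closure ⟨_, pow_mem_ser p (F i) (hpow i) c, rfl⟩)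
      (Subfield.subset_closure ⟨_, pow_mem_ser p (F i) (hpow i) d, rfl⟩)

end Series

end Groth.Agent.H05EGA4.FrobFamily
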