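import Groth.Agent.H06EGA9.FlatConstructible

/-!
Generic flatness over an integral locally Noetherian base.
-/

set_option autoImplicit false
set_option linter.style.haveILetI false
universe u
open CategoryTheory CategoryTheory.Limits AlgebraicGeometry TopologicalSpace Topology Set TensorProduct

namespace Groth.Agent.H05EGA4.GenFlat
open Groth.Agent.H06EGA9

/-- Generic flatness of a module over an integral Noetherian base. -/
theorem exists_open_isFlatOverAt {X S : Scheme.{u}} (u : X ⟶ S) [IsIntegral S] [IsLocallyNoetherian S]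
    [LocallyOfFiniteType u] [QuasiCompact u] {F : X.Modules} (hF : CohB1.IsFP F) :
    ∃ V : S.Opens, genericPoint S ∈ V ∧ ∀ x, u x ∈ V → FlatMod.IsFlatOverAt u F x := by
  classical
  obtain ⟨_, ⟨W, hW : IsAffineOpen W, rfl⟩, hηW, -⟩ :=
    S.isBasis_affineOpens.exists_subset_of_mem_open (Set.mem_univ (genericPoint S)) isOpen_univ
  haveI : Nonempty W := ⟨⟨_, hηW⟩⟩
  have hD : IsDomain Γ(S, W) := inferInstance
  have hN : IsNoetherianRing Γ(S, W) := IsLocallyNoetherian.component_noetherian ⟨W, hW⟩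
  choose O hxO hO using H06EGA11.exists_nhd_forall_finitePresentation F hF
  choose U hxU hU hle using fun x : (u ⁻¹ᵁ W : X.Opens) =>
      show ∃ U : X.Opens, x.1 ∈ U ∧ IsAffineOpen U ∧ U ≤ O x.1 ⊓ u ⁻¹ᵁ W by
    obtain ⟨_, ⟨U, hU : IsAffineOpen U, rfl⟩, hxU, hle⟩ :=
      X.isBasis_affineOpens.exists_subset_of_mem_open
        (show x.1 ∈ O x.1 ⊓ u ⁻¹ᵁ W from ⟨hxO x.1, x.2⟩) (O x.1 ⊓ u ⁻¹ᵁ W).isOpen
    exact ⟨U, hxU, hU, hle⟩
  have key : ∀ x, ∃ d : Γ(S, W), d ≠ 0 ∧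
      ∀ y ∈ U x, u y ∈ S.basicOpen d → FlatMod.IsFlatOverAt u F y := by
    intro x
    have hUW : U x ≤ u ⁻¹ᵁ W := fun y hy => (hle x hy).2
    letI := Module.compHom Γ(F, U x) (u.appLE W (U x) hUW).hom
    letI := (u.appLE W (U x) hUW).hom.toAlgebra
    haveI : IsScalarTower Γ(S, W) Γ(X, U x) Γ(F, U x) := .of_algebraMap_smul fun _ _ => rfl
    haveI : Module.FinitePresentation Γ(X, U x) Γ(F, U x) :=
      hO x.1 _ (hU x) fun y hy => (hle x hy).1
    haveI : Algebra.FiniteType Γ(S, W) Γ(X, U x) := u.finiteType_appLE hW (hU x) hUW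
    obtain ⟨d, hd0, hk⟩ := H13Flat.genericFlat_of_finiteType (D := Γ(S, W)) Γ(X, U x) Γ(F, U x)
    refine ⟨d, hd0, fun y hy hyd => ?_⟩
    refine (H8Props.FlatLocus.isFlatOverAt_iff_localizedModule u F (H29Fitt.isQCoh_of_isFP F hF)
      hW (hU x) hUW ⟨y, hy⟩).2 (flat_localizedModule_of_killsKer hk _ ?_)
    intro hmem
    have h1 : y ∈ X.basicOpen ((u.appLE W (U x) hUW).hom d) := by
      rw [Scheme.basicOpen_appLE]
      exact ⟨hy, hyd⟩
    have h2 : (hU x).primeIdealOf ⟨y, hy⟩ ∈ PrimeSpectrum.basicOpen ((u.appLE W (U x) hUW).hom d) := by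
      rw [← (hU x).fromSpec_preimage_basicOpen]
      show (hU x).fromSpec ((hU x).primeIdealOf ⟨y, hy⟩) ∈ X.basicOpen _
      rw [(hU x).fromSpec_primeIdealOf]
      exact h1
    exact h2 hmem
  choose d hd0 hd using key
  obtain ⟨t, ht⟩ := (QuasiCompact.isCompact_preimage (f := u) W W.2 hW.isCompact).elim_finite_subcover
    (fun x => (U x : Set X)) (fun x => (U x).2)
    (fun x hx => Set.mem_iUnion.2 ⟨⟨x, hx⟩, hxU ⟨x, hx⟩⟩)
  refine ⟨S.basicOpen (∏ x ∈ t, d x), ?_, fun y hy => ?_⟩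
  · have hne : ∏ x ∈ t, d x ≠ 0 := Finset.prod_ne_zero_iff.2 fun x _ => hd0 x
    by_contra hη
    refine hne ((AlgebraicGeometry.basicOpen_eq_bot_iff _).1 (eq_bot_iff.2 fun z hz => ?_))
    exact absurd ((genericPoint_specializes z).mem_open (S.basicOpen _).2 hz) hη
  · obtain ⟨x, hxt, hyx⟩ := Set.mem_iUnion₂.1
      (ht (show y ∈ u ⁻¹ᵁ W from S.basicOpen_le _ hy))
    refine hd x y hyx ?_
    rw [← Finset.mul_prod_erase t d hxt, Scheme.basicOpen_mul] at hy
    exact hy.1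

end Groth.Agent.H05EGA4.GenFlat
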