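import Mathlib
import Groth.Agent.H05EGA4.GRingPoly

/-!
Formal fibres from the generic formal fibres of the quotient domains.
-/

set_option autoImplicit false
set_option linter.style.haveILetI false
set_option synthInstance.maxHeartbeats 400000
set_option maxHeartbeats 800000
universe u
open IsLocalRing TensorProduct Groth.Agent

namespace Groth.Agent.H05EGA4

variable {r n : WithBot ℕ∞}

/-- Generic formal fibres of the quotient domains give all formal fibres. -/
theorem grsHom_cpl_of_generic {A : Type u} [CommRing A] [IsNoetherianRing A] [IsLocalRing A]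
    (h : ∀ (Q : Ideal A) [Q.IsPrime], ∃ (D : Type u) (_ : CommRing D) (_ : IsDomain D) (_ : IsLocalRing D)
      (π : A →+* D), Function.Surjective π ∧ RingHom.ker π = Q ∧
        GRS r n (⊥ : Ideal D).ResidueField (EGA4.formalFibre D (⊥ : Ideal D))) :
    GRSHom r n A (EGA4.Cpl A) := by
  haveI := isNoetherianRing_cpl A
  refine grsHom_of_forall (flat_cpl A) fun Q _ k' _ _ _ _ _ _ => ?_
  obtain ⟨D, _, _, _, π, hπ, hker, hD⟩ := h Q
  let Ah := EGA4.Cpl A
  haveI : IsNoetherianRing D := isNoetherianRing_of_surjective A D π hπ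
  haveI := isNoetherianRing_cpl D
  haveI : IsNoetherianRing (k' ⊗[A] Ah) := H02CA.isNoetherianRing_tensor_of_essFiniteType _ _ _
  letI : Algebra A D := π.toAlgebra
  have hk0 : ∀ a, π a = 0 → algebraMap A k' a = 0 := fun a ha => by
    rw [IsScalarTower.algebraMap_apply A Q.ResidueField k',
      Ideal.algebraMap_residueField_eq_zero.mpr (by rw [← hker]; exact ha), map_zero]
  letI : Algebra D k' := (RingHom.liftOfSurjective π hπ ⟨algebraMap A k', fun a ha => hk0 a ha⟩).toAlgebra
  haveI : IsScalarTower A D k' := IsScalarTower.of_algebraMap_eq fun a =>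
    (RingHom.liftOfRightInverse_comp_apply π _ (Function.rightInverse_surjInv hπ)
      (⟨algebraMap A k', fun a ha => hk0 a ha⟩ : {g : A →+* k' // RingHom.ker π ≤ RingHom.ker g}) a).symm
  haveI : Algebra.EssFiniteType D k' := Algebra.EssFiniteType.of_comp A D k'
  have hinj : RingHom.ker (algebraMap D k') ≤ (⊥ : Ideal D) := fun x hx => by
    obtain ⟨a, rfl⟩ := hπ x
    rw [RingHom.mem_ker] at hx
    change algebraMap D k' (algebraMap A D a) = 0 at hx
    rw [← IsScalarTower.algebraMap_apply, IsScalarTower.algebraMap_apply A Q.ResidueField k', map_eq_zero,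
      Ideal.algebraMap_residueField_eq_zero, ← hker] at hx
    exact hx
  letI : Algebra (⊥ : Ideal D).ResidueField k' := (Ideal.ResidueField.lift (⊥ : Ideal D) (algebraMap D k') bot_le
    fun x hx => isUnit_iff_ne_zero.mpr fun h0 => hx (hinj h0)).toAlgebra
  haveI : IsScalarTower D (⊥ : Ideal D).ResidueField k' :=
    .of_algebraMap_eq fun d => (Ideal.ResidueField.lift_algebraMap (I := (⊥ : Ideal D)) (algebraMap D k') bot_le _ d).symm
  haveI : Algebra.EssFiniteType (⊥ : Ideal D).ResidueField k' := Algebra.EssFiniteType.of_comp D _ k'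
  haveI : IsNoetherianRing ((⊥ : Ideal D).Fiber (EGA4.Cpl D)) := H02CA.isNoetherianRing_tensor_of_essFiniteType _ _ _
  haveI : IsNoetherianRing (k' ⊗[(⊥ : Ideal D).ResidueField] ((⊥ : Ideal D).Fiber (EGA4.Cpl D))) :=
    H02CA.isNoetherianRing_tensor_of_essFiniteType _ _ _
  have h1 : RS r n (k' ⊗[D] EGA4.Cpl D) :=
    (GRS.tensor_field hD k' (.inl inferInstance)).of_ringEquiv (H02CA.fiberBaseChangeEquiv (⊥ : Ideal D) k' _)
  haveI : IsNoetherianRing (k' ⊗[D] EGA4.Cpl D) := H02CA.isNoetherianRing_tensor_of_essFiniteType _ _ _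
  obtain ⟨e, he⟩ := exists_completion_quotient_equiv_comm (maximalIdeal A) D π hπ (maximalIdeal D)
    (IsLocalRing.map_maximalIdeal_of_surjective _ hπ)
  -- `D ⊗ Â` is the completion of `D`
  let e0 : (A ⧸ RingHom.ker π) ≃ₐ[A] D := Ideal.quotientKerAlgEquivOfSurjective (f := Algebra.ofId A D) hπ
  let e1 : D ⊗[A] Ah ≃ₐ[A] (Ah ⧸ (RingHom.ker π).map (algebraMap A Ah)) :=
    ((Algebra.TensorProduct.congr e0.symm (AlgEquiv.refl : Ah ≃ₐ[A] Ah)).trans
      ((Algebra.TensorProduct.quotIdealMapEquivQuotTensor Ah (RingHom.ker π)).symm.restrictScalars A))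
  let e2 : D ⊗[A] Ah ≃+* EGA4.Cpl D := e1.toRingEquiv.trans e
  let e3 : D ⊗[A] Ah ≃ₐ[D] EGA4.Cpl D := AlgEquiv.ofRingEquiv (f := e2) fun x => by
    obtain ⟨a, rfl⟩ := hπ x
    rw [← RingHom.algebraMap_toAlgebra π, ← IsScalarTower.algebraMap_apply A D (D ⊗[A] Ah)]
    show e (e1 (algebraMap A (D ⊗[A] Ah) a)) = _
    rw [e1.commutes]
    exact he a
  let E : k' ⊗[A] Ah ≃+* k' ⊗[D] EGA4.Cpl D :=
    (Algebra.TensorProduct.cancelBaseChange A D k' k' Ah).symm.toRingEquiv.trans
      (Algebra.TensorProduct.congr (AlgEquiv.refl : k' ≃ₐ[k'] k') e3).toRingEquiv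
  exact h1.of_ringEquiv E.symm

/-- G-rings from the generic formal fibres of the localised quotient domains. -/
theorem isGRing_of_generic (R : Type u) [CommRing R] [IsNoetherianRing R]
    (h : ∀ (q : Ideal R) [q.IsPrime] (P : Ideal (R ⧸ q)) [P.IsPrime],
        CAlg.IsGeometricallyRegular (⊥ : Ideal (Localization.AtPrime P)).ResidueField
          (EGA4.formalFibre (Localization.AtPrime P) (⊥ : Ideal (Localization.AtPrime P)))) :
    CAlg.IsGRing R := by
  refine ⟨inferInstance, fun p hp => ?_⟩
  let A := Localization.AtPrime p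
  haveI : IsNoetherianRing A := IsLocalization.isNoetherianRing p.primeCompl _ inferInstance
  haveI : IsNoetherianRing (EGA4.Cpl A) := isNoetherianRing_cpl A
  refine (isRegularHom_iff_grsHom (A := A) (B := EGA4.Cpl A)).mpr (grsHom_cpl_of_generic fun Q _ => ?_)
  let q := Q.comap (algebraMap R A)
  have hqp : q ≤ p := fun x hx => (IsLocalization.AtPrime.to_map_mem_maximal_iff A p x).mp (le_maximalIdeal (Ideal.IsPrime.ne_top inferInstance) hx)
  let P := p.map (Ideal.Quotient.mk q)
  haveI : P.IsPrime := Ideal.isPrime_map_quotientMk_of_isPrime hqp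
  have hc : p = P.comap (Ideal.Quotient.mk q) := by
    rw [Ideal.comap_map_of_surjective' _ Ideal.Quotient.mk_surjective, Ideal.mk_ker, sup_eq_left.mpr hqp]
  let π := Localization.localRingHom p P (Ideal.Quotient.mk q) hc
  have hπ : Function.Surjective π := fun y => by
    obtain ⟨b, s, rfl⟩ := IsLocalization.exists_mk'_eq P.primeCompl y
    obtain ⟨b, rfl⟩ := Ideal.Quotient.mk_surjective b
    obtain ⟨s0, hs0⟩ := Ideal.Quotient.mk_surjective (s : R ⧸ q)
    have hs : s0 ∈ p.primeCompl := fun hm => s.2 (by rw [← hs0]; exact (hc ▸ hm :))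
    refine ⟨IsLocalization.mk' A b ⟨s0, hs⟩, ?_⟩
    rw [Localization.localRingHom_mk']
    congr 1
    exact Subtype.ext hs0
  haveI : IsNoetherianRing (Localization.AtPrime P) := IsLocalization.isNoetherianRing P.primeCompl _ inferInstance
  haveI := isNoetherianRing_cpl (Localization.AtPrime P)
  haveI : IsNoetherianRing (EGA4.formalFibre (Localization.AtPrime P) (⊥ : Ideal (Localization.AtPrime P))) :=
    H02CA.isNoetherianRing_tensor_of_essFiniteType _ _ _
  refine ⟨Localization.AtPrime P, inferInstance, IsLocalization.isDomain_localization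
    P.primeCompl_le_nonZeroDivisors, inferInstance, π, hπ, ?_, isGeometricallyRegular_iff_grs.mp (h q P)⟩
  refine (ker_localRingHom_of_surjective (Ideal.Quotient.mk q) Ideal.Quotient.mk_surjective p P hc).trans ?_
  rw [Ideal.mk_ker]
  exact IsLocalization.map_under p.primeCompl A Q

end Groth.Agent.H05EGA4
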