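import Mathlib

/-!
The image of a morphism of finite type meeting the generic point is a neighbourhood of it (EGA IV 1.8.4).
-/

set_option autoImplicit false
set_option linter.style.haveILetI false
universe u
open AlgebraicGeometry CategoryTheory Topology

namespace Groth.Agent.H05EGA4.GenericImage

theorem exists_basicOpen_subset_range {A B : Type u} [CommRing A] [IsDomain A] [CommRing B] [IsDomain B]
    [Algebra A B] [Algebra.FiniteType A B] (hinj : Function.Injective (algebraMap A B)) :
    ∃ f : A, f ≠ 0 ∧ ∀ p : PrimeSpectrum A, f ∉ p.asIdeal → p ∈ Set.range (PrimeSpectrum.comap (algebraMap A B)) := by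
  classical
  let K := FractionRing A
  let F := FractionRing B
  haveI : FaithfulSMul A B := (faithfulSMul_iff_algebraMap_injective A B).mpr hinj
  haveI : FaithfulSMul A F := (faithfulSMul_iff_algebraMap_injective A F).mpr <| by
    rw [IsScalarTower.algebraMap_eq A B F]; exact (IsFractionRing.injective B F).comp hinj
  letI : Algebra K F := FractionRing.liftAlgebra A F
  haveI : IsScalarTower A K F := FractionRing.isScalarTower_liftAlgebra A F
  obtain ⟨s, hs⟩ := Algebra.FiniteType.out (R := A) (A := B)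
  let E : Subalgebra K F := Algebra.adjoin K ((algebraMap B F) '' (s : Set B))
  haveI : Algebra.FiniteType K E :=
    (Subalgebra.fg_iff_finiteType E).mp ⟨s.image (algebraMap B F), by rw [Finset.coe_image]⟩
  have hmem : ∀ b : B, algebraMap B F b ∈ E := by
    intro b
    have hb : b ∈ Algebra.adjoin A (s : Set B) := hs ▸ Algebra.mem_top
    induction hb using Algebra.adjoin_induction with
    | mem x hx => exact Algebra.subset_adjoin ⟨x, hx, rfl⟩
    | algebraMap r =>
      rw [← IsScalarTower.algebraMap_apply A B F, IsScalarTower.algebraMap_apply A K F]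
      exact E.algebraMap_mem _
    | add x y _ _ hx hy => rw [map_add]; exact E.add_mem hx hy
    | mul x y _ _ hx hy => rw [map_mul]; exact E.mul_mem hx hy
  let ι : B →ₐ[A] E :=
    { toFun := fun b => ⟨algebraMap B F b, hmem b⟩
      map_one' := Subtype.ext (map_one _)
      map_zero' := Subtype.ext (map_zero _)
      map_mul' := fun x y => Subtype.ext (map_mul _ x y)
      map_add' := fun x y => Subtype.ext (map_add _ x y)
      commutes' := fun a => Subtype.ext (IsScalarTower.algebraMap_apply A B F a).symm }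
  obtain ⟨m, hm⟩ := Ideal.exists_maximal E
  haveI := hm
  let L := E ⧸ m
  letI : Field L := Ideal.Quotient.field m
  haveI : Algebra.FiniteType K L := Algebra.FiniteType.of_surjective (Ideal.Quotient.mkₐ K m) Ideal.Quotient.mk_surjective
  haveI : Module.Finite K L := finite_of_finite_type_of_isJacobsonRing K L
  let ψ : B →ₐ[A] L := (Ideal.Quotient.mkₐ A m).comp ι
  have halg : ∀ b : B, IsAlgebraic A (ψ b) := fun b =>
    (IsFractionRing.isAlgebraic_iff A K L).mpr (Algebra.IsAlgebraic.isAlgebraic _)
  choose c hc0 hc using fun b => (halg b).exists_integral_multiple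
  let f : A := ∏ b ∈ s, c b
  have hf0 : f ≠ 0 := Finset.prod_ne_zero_iff.mpr fun b _ => hc0 b
  refine ⟨f, hf0, fun p hp => ?_⟩
  let C := integralClosure A L
  have hAC : Function.Injective (algebraMap A C) := fun x y h => by
    have h1 : algebraMap A L x = algebraMap A L y := congrArg Subtype.val h
    rw [IsScalarTower.algebraMap_apply A K L, IsScalarTower.algebraMap_apply A K L] at h1
    exact IsFractionRing.injective A K ((algebraMap K L).injective h1)
  obtain ⟨q, hq, hqp⟩ := Ideal.exists_ideal_over_prime_of_isIntegral_of_isDomain p.asIdeal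
    (show RingHom.ker (algebraMap A C) ≤ p.asIdeal by
      rw [(RingHom.injective_iff_ker_eq_bot _).mp hAC]; exact bot_le)
  haveI := hq
  let fC : C := algebraMap A C f
  have hfq : fC ∉ q := fun h => hp (hqp.le h)
  have hu : ∀ y : Submonoid.powers fC, IsUnit ((Algebra.ofId C L) y) := by
    rintro ⟨_, n, rfl⟩
    refine (isUnit_iff_ne_zero).mpr ?_
    rw [Algebra.ofId_apply, map_pow]
    refine pow_ne_zero n fun h => hfq ?_
    have : fC = 0 := Subtype.ext h
    rw [this]; exact q.zero_mem
  let T := Localization.Away fC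
  let ρ : T →ₐ[C] L := IsLocalization.liftAlgHom hu
  have hρ : Function.Injective ρ :=
    (IsLocalization.lift_injective_iff _).mpr fun x y => by
      constructor
      · intro h
        have h' : algebraMap C T x = algebraMap C T y := h
        have := congrArg ρ h'
        simpa using this
      · intro h
        exact congrArg (algebraMap C T) (Subtype.ext h)
  have hmemρ : ∀ b : B, ψ b ∈ (ρ.restrictScalars A).range := by
    intro b
    have hb : b ∈ Algebra.adjoin A (s : Set B) := hs ▸ Algebra.mem_top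
    induction hb using Algebra.adjoin_induction with
    | mem x hx =>
      let g : A := ∏ b ∈ s.erase x, c b
      have hg : f = g * c x := (Finset.prod_erase_mul s c hx).symm
      let z : C := ⟨algebraMap A L f * ψ x, by
        rw [hg, map_mul, mul_assoc, ← Algebra.smul_def (c x)]
        exact mul_mem (Subalgebra.algebraMap_mem _ g) (hc x)⟩
      obtain ⟨w, hw⟩ : ∃ w : T, w = IsLocalization.mk' T z (⟨fC, Submonoid.mem_powers fC⟩ : Submonoid.powers fC) := ⟨_, rfl⟩
      refine ⟨w, ?_⟩
      show ρ w = ψ x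
      have h1 : w * algebraMap C T fC = algebraMap C T z := by rw [hw, IsLocalization.mk'_spec]
      have h2 := congrArg ρ h1
      rw [map_mul, AlgHom.commutes, AlgHom.commutes] at h2
      refine mul_right_cancel₀ (b := algebraMap C L fC) ?_ (h2.trans ?_)
      · intro h
        exact hfq ((Subtype.ext h : fC = 0) ▸ q.zero_mem)
      · show algebraMap A L f * ψ x = ψ x * algebraMap A L f
        exact mul_comm _ _
    | algebraMap r => rw [AlgHom.commutes]; exact Subalgebra.algebraMap_mem _ r
    | add x y _ _ hx hy => rw [map_add]; exact add_mem hx hy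
    | mul x y _ _ hx hy => rw [map_mul]; exact mul_mem hx hy
  let e := AlgEquiv.ofInjective (ρ.restrictScalars A) hρ
  let β : B →ₐ[A] T := e.symm.toAlgHom.comp (ψ.codRestrict _ hmemρ)
  have hdisj : Disjoint (Submonoid.powers fC : Set C) q :=
    (Ideal.disjoint_powers_iff_notMem fC (Ideal.IsPrime.isRadical ‹_›)).mpr hfq
  haveI := IsLocalization.isPrime_of_isPrime_disjoint (Submonoid.powers fC) T q ‹_› hdisj
  refine ⟨⟨(q.map (algebraMap C T)).comap β.toRingHom, inferInstance⟩, PrimeSpectrum.ext ?_⟩
  ext a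
  show β (algebraMap A B a) ∈ q.map (algebraMap C T) ↔ a ∈ p.asIdeal
  rw [β.commutes, IsScalarTower.algebraMap_apply A C T, ← Ideal.mem_comap, ← hqp]
  show algebraMap A C a ∈ (q.map (algebraMap C T)).comap (algebraMap C T) ↔ algebraMap A C a ∈ q
  rw [show (q.map (algebraMap C T)).comap (algebraMap C T) = q from
    IsLocalization.under_map_of_isPrime_disjoint (Submonoid.powers fC) T ‹_› hdisj]

theorem genericPoint_mem_interior {X Y : Scheme.{u}} (f : X ⟶ Y) [LocallyOfFiniteType f] [IrreducibleSpace Y]
    (h : genericPoint Y ∈ Set.range f.base) : genericPoint Y ∈ interior (Set.range f.base) := by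
  obtain ⟨x, hx⟩ := h
  obtain ⟨V, hV, hfV, -⟩ := exists_isAffineOpen_mem_and_subset (x := f x) (U := (⊤ : Y.Opens)) trivial
  obtain ⟨U, hU, hxU, hUV⟩ := exists_isAffineOpen_mem_and_subset (x := x) (U := f ⁻¹ᵁ V) hfV
  let φ := f.appLE V U hUV
  have hφ : φ.hom.FiniteType := HasRingHomProperty.appLE (@LocallyOfFiniteType) f ‹_› ⟨V, hV⟩ ⟨U, hU⟩ hUV
  have hcomp : Spec.map φ ≫ hV.fromSpec = hU.fromSpec ≫ f := IsAffineOpen.SpecMap_appLE_fromSpec f hV hU hUV
  let Q : PrimeSpectrum Γ(X, U) := hU.primeIdealOf ⟨x, hxU⟩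
  have hQ : hU.fromSpec Q = x := hU.fromSpec_primeIdealOf _
  let P : PrimeSpectrum Γ(Y, V) := PrimeSpectrum.comap φ.hom Q
  have hP : hV.fromSpec P = genericPoint Y := by
    have := congr($hcomp Q)
    rw [Scheme.Hom.comp_apply, Scheme.Hom.comp_apply, hQ] at this
    exact this.trans hx
  have hgen : ∀ p : PrimeSpectrum Γ(Y, V), P.asIdeal ≤ p.asIdeal := fun p => by
    refine (PrimeSpectrum.le_iff_specializes P p).mpr (hV.fromSpec.isOpenEmbedding.isInducing.specializes_iff.mp ?_)
    rw [hP]; exact genericPoint_specializes _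
  letI := φ.hom.toAlgebra
  haveI : Algebra.FiniteType Γ(Y, V) Γ(X, U) := hφ
  let A := Γ(Y, V) ⧸ P.asIdeal
  let B := Γ(X, U) ⧸ Q.asIdeal
  haveI : Q.asIdeal.LiesOver P.asIdeal := ⟨rfl⟩
  haveI : Algebra.FiniteType Γ(Y, V) B :=
    Algebra.FiniteType.of_surjective (Ideal.Quotient.mkₐ Γ(Y, V) Q.asIdeal) Ideal.Quotient.mk_surjective
  haveI : Algebra.FiniteType A B := Algebra.FiniteType.of_restrictScalars_finiteType Γ(Y, V) A B
  obtain ⟨g, hg0, hg⟩ := exists_basicOpen_subset_range (A := A) (B := B)
    (FaithfulSMul.algebraMap_injective A B)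
  obtain ⟨g, rfl⟩ := Ideal.Quotient.mk_surjective g
  have hgP : g ∉ P.asIdeal := fun h => hg0 (Ideal.Quotient.eq_zero_iff_mem.mpr h)
  refine interior_maximal ?_ (hV.fromSpec.isOpenEmbedding.isOpenMap _ (PrimeSpectrum.basicOpen g).2) ⟨P, hgP, hP⟩
  rintro _ ⟨p, hp, rfl⟩
  haveI hpp : (p.asIdeal.map (Ideal.Quotient.mk P.asIdeal)).IsPrime :=
    Ideal.map_isPrime_of_surjective Ideal.Quotient.mk_surjective (by rw [Ideal.mk_ker]; exact hgen p)
  obtain ⟨Q', hQ'⟩ := hg ⟨p.asIdeal.map (Ideal.Quotient.mk P.asIdeal), hpp⟩ fun hmem => hp (by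
    rw [Ideal.mem_quotient_iff_mem_sup, sup_eq_left.mpr (hgen p)] at hmem
    exact hmem)
  let Q'' : PrimeSpectrum Γ(X, U) := PrimeSpectrum.comap (Ideal.Quotient.mk Q.asIdeal) Q'
  refine ⟨hU.fromSpec Q'', ?_⟩
  have hcast : PrimeSpectrum.comap φ.hom Q'' = p := by
    refine PrimeSpectrum.ext ?_
    have h2 := congrArg (fun T => T.asIdeal.comap (Ideal.Quotient.mk P.asIdeal)) hQ'
    simp only [PrimeSpectrum.comap_asIdeal] at h2
    rw [Ideal.comap_map_of_surjective _ Ideal.Quotient.mk_surjective, ← RingHom.ker_eq_comap_bot, Ideal.mk_ker,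
      sup_eq_left.mpr (hgen p), Ideal.comap_comap] at h2
    rw [← h2]
    show ((Q'.asIdeal.comap (Ideal.Quotient.mk Q.asIdeal)).comap φ.hom) = _
    rw [Ideal.comap_comap]
    rfl
  have := congr($hcomp Q'')
  rw [Scheme.Hom.comp_apply, Scheme.Hom.comp_apply] at this
  rw [← hcast]
  exact this.symm

end Groth.Agent.H05EGA4.GenericImage
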