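import Groth.Agent.H05EGA4.QFFibre
import Groth.Agent.H02CA.GorFlat
import Mathlib.RingTheory.Artinian.Module

/-! A finite algebra over a field is Gorenstein iff its dual is invertible. -/

set_option autoImplicit false
set_option linter.style.haveILetI false

universe u

open TensorProduct IsLocalRing

namespace Groth.Agent.H05EGA4.GorFibre

open LocCoh CategoryTheory

section Field

variable {k C : Type u} [Field k] [CommRing C] [Algebra k C] [Module.Finite k C]

/-- `c ↦ φ(c ·)`. -/
noncomputable def translate (φ : Disc.Omega k C) : C →ₗ[k] Module.Dual k C where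
  toFun c := (c • φ).toLinearMap
  map_add' a b := by rw [add_smul]; rfl
  map_smul' r c := LinearMap.ext fun x => by
    rw [RingHom.id_apply, LinearMap.smul_apply, Disc.Omega.smul_toLinearMap_apply, Disc.Omega.smul_toLinearMap_apply,
      smul_mul_assoc, map_smul]

theorem bijective_of_injective {φ : Disc.Omega k C} (h : ∀ c : C, c • φ = 0 → c = 0) :
    Function.Bijective (fun c : C => c • φ) := by
  have hinj : Function.Injective (translate φ) := fun a b hab => by
    have hab' : a • φ = b • φ := Disc.Omega.ext hab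
    exact sub_eq_zero.1 (h _ (by rw [sub_smul, hab', sub_self]))
  have hd : Module.finrank k C = Module.finrank k (Module.Dual k C) := (Subspace.dual_finrank_eq (K := k) (V := C)).symm
  have hs : Function.Surjective (translate φ) :=
    (LinearMap.injective_iff_surjective_of_finrank_eq_finrank hd).1 hinj
  exact ⟨fun a b hab => hinj (congrArg Disc.Omega.toLinearMap hab), fun ψ =>
    (hs ψ.toLinearMap).imp fun c hc => Disc.Omega.ext hc⟩

theorem exists_socle_mem {C : Type u} [CommRing C] [IsLocalRing C] [IsArtinianRing C] {J : Ideal C} (hJ : J ≠ ⊥) :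
    ∃ y ∈ J, y ≠ 0 ∧ ∀ a ∈ maximalIdeal C, a * y = 0 := by
  classical
  obtain ⟨N, hN⟩ := IsArtinianRing.isNilpotent_jacobson_bot (R := C)
  rw [IsLocalRing.jacobson_eq_maximalIdeal ⊥ bot_ne_top] at hN
  have hex : ∃ j, maximalIdeal C ^ j * J = ⊥ := ⟨N, by rw [hN, zero_mul, Ideal.zero_eq_bot]⟩
  obtain ⟨n, hn, hmin⟩ : ∃ n, maximalIdeal C ^ n * J = ⊥ ∧ ∀ i < n, ¬ maximalIdeal C ^ i * J = ⊥ :=
    ⟨Nat.find hex, Nat.find_spec hex, fun i hi => Nat.find_min hex hi⟩
  obtain ⟨j, rfl⟩ : ∃ j, n = j + 1 := by
    rcases n with - | j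
    · exact absurd (by rwa [pow_zero, Ideal.one_eq_top, Ideal.top_mul] at hn) hJ
    · exact ⟨j, rfl⟩
  obtain ⟨y, hy, hy0⟩ := Submodule.exists_mem_ne_zero_of_ne_bot (hmin j (Nat.lt_succ_self j))
  refine ⟨y, (Ideal.mul_le_inf hy).2, hy0, fun a ha => ?_⟩
  have h1 : a * y ∈ maximalIdeal C ^ (j + 1) * J := by
    rw [pow_succ', mul_assoc]
    exact Ideal.mul_mem_mul ha hy
  rwa [hn, Ideal.mem_bot] at h1

theorem nonempty_equiv_iff [IsLocalRing C] :
    Nonempty (Disc.Omega k C ≃ₗ[C] C) ↔ IsGorensteinLocalRing C := by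
  haveI : IsArtinianRing C := IsArtinianRing.of_finite k C
  haveI : IsNoetherianRing C := inferInstance
  have h0 : ringKrullDim C = 0 := le_antisymm (Ring.krullDimLE_iff.1 inferInstance) ringKrullDim_nonneg_of_nontrivial
  constructor
  · rintro ⟨e⟩
    refine H02CA.GorFlat.gor_of_socleCyclic h0 ?_
    let φ := e.symm 1
    have hinj : ∀ c : C, c • φ = 0 → c = 0 := fun c hc => by
      have := congrArg e hc
      rwa [map_smul, e.apply_symm_apply, map_zero, smul_eq_mul, mul_one] at this
    obtain ⟨z, hz0, hz⟩ := H02CA.GorFlat.exists_socle_ne_zero (A := C) h0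
    refine ⟨z, hz, fun y hy => ?_⟩
    by_contra hne
    let W : Submodule k C := (Ideal.span {z}).restrictScalars k
    have hyW : y ∉ W := fun h => hne (Ideal.mem_span_singleton'.1 h)
    obtain ⟨ψ, hψy, hψW⟩ := Submodule.exists_dual_map_eq_bot_of_notMem hyW inferInstance
    obtain ⟨r, hr⟩ := (bijective_of_injective hinj).2 ⟨ψ⟩
    have hr' : ∀ x, φ.toLinearMap (r * x) = ψ x := fun x => by
      have := congrArg (fun Φ : Disc.Omega k C => Φ.toLinearMap x) hr
      simpa using this
    have hrz : r * z = 0 := hinj _ (Disc.Omega.ext (LinearMap.ext fun c => by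
      rw [Disc.Omega.smul_toLinearMap_apply, mul_assoc, hr']
      have hm : ψ (z * c) ∈ W.map ψ := Submodule.mem_map_of_mem (Ideal.mul_mem_right c _ (Ideal.mem_span_singleton_self z))
      rw [hψW, Submodule.mem_bot] at hm
      exact hm))
    have hrm : r ∈ maximalIdeal C := fun hu => hz0 (hu.mul_right_eq_zero.1 hrz)
    exact hψy (by rw [← hr', hy r hrm, map_zero])
  · intro hG
    obtain ⟨z, hz, hzy⟩ := H02CA.GorFlat.socleCyclic_of_gor h0 hG
    have hz0 : z ≠ 0 := by
      rintro rfl
      obtain ⟨w, hw0, hw⟩ := H02CA.GorFlat.exists_socle_ne_zero (A := C) h0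
      obtain ⟨r, hr⟩ := hzy w hw
      exact hw0 (by rw [← hr, mul_zero])
    obtain ⟨ψ, hψ⟩ : ∃ ψ : Module.Dual k C, ψ z ≠ 0 := by
      by_contra! h
      exact hz0 ((Module.forall_dual_apply_eq_zero_iff k z).1 h)
    have hinj : ∀ c : C, c • (⟨ψ⟩ : Disc.Omega k C) = 0 → c = 0 := fun c hc => by
      by_contra hc0
      obtain ⟨y, hyJ, hy0, hy⟩ := exists_socle_mem (J := Ideal.span {c}) (by
        rwa [ne_eq, Ideal.span_singleton_eq_bot])
      obtain ⟨r, hr⟩ := hzy y hy
      have hru : IsUnit r := by
        by_contra hu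
        exact hy0 (hr ▸ hz r ((mem_maximalIdeal _).2 hu))
      obtain ⟨d, hd⟩ := Ideal.mem_span_singleton'.1 hyJ
      obtain ⟨u, rfl⟩ := hru
      have h2 : z = c * (((u⁻¹ : Cˣ) : C) * d) := by
        calc z = ((u⁻¹ : Cˣ) : C) * ((u : C) * z) := by rw [← mul_assoc, Units.inv_mul, one_mul]
          _ = _ := by rw [hr, ← hd]; ring
      apply hψ
      rw [h2]
      exact congrArg (fun Φ : Disc.Omega k C => Φ.toLinearMap _) hc
    exact ⟨(LinearEquiv.ofBijective (LinearMap.toSpanSingleton C (Disc.Omega k C) ⟨ψ⟩) (bijective_of_injective hinj)).symm⟩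

theorem invertible_iff : Module.Invertible C (Disc.Omega k C) ↔ IsGorensteinRing C := by
  haveI : IsArtinianRing C := IsArtinianRing.of_finite k C
  haveI : IsNoetherianRing C := inferInstance
  have hsplit : ∀ (Q : Ideal C) [Q.IsMaximal], Module.Finite k (Localization.AtPrime Q) ∧
      Nonempty (Localization.AtPrime Q ⊗[C] Disc.Omega k C ≃ₗ[Localization.AtPrime Q] Disc.Omega k (Localization.AtPrime Q)) := by
    intro Q _
    obtain ⟨e, he, heQ, hsurj, hker⟩ := QFSplit.exists_split (R := k) Q
    have hu := IsLocalization.map_units (Localization.AtPrime Q) (⟨e, heQ⟩ : Q.primeCompl)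
    have he1 : algebraMap C (Localization.AtPrime Q) e = 1 := by
      refine hu.mul_left_cancel ?_
      rw [mul_one, ← map_mul]
      exact congrArg _ he.eq
    exact ⟨Module.Finite.of_surjective (IsScalarTower.toAlgHom k C (Localization.AtPrime Q)).toLinearMap hsurj,
      QFSplit.nonempty_equiv_split (R := k) hsurj hker he1⟩
  constructor
  · intro hinv
    refine { isGorensteinLocalRing_localization := fun Q hQ => ?_ }
    haveI : Q.IsMaximal := IsArtinianRing.isMaximal_of_isPrime Q
    obtain ⟨hfin, ⟨e⟩⟩ := hsplit Q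
    haveI := hfin
    haveI : Module.Invertible (Localization.AtPrime Q) (Disc.Omega k (Localization.AtPrime Q)) := Module.Invertible.congr e
    haveI : Module.Free (Localization.AtPrime Q) (Disc.Omega k (Localization.AtPrime Q)) :=
      Module.free_of_flat_of_isLocalRing
    exact (nonempty_equiv_iff (k := k)).1 (Module.Invertible.free_iff_linearEquiv.1 inferInstance)
  · intro hG
    have hf : QFDual.IsQFFactor k C C :=
      { finite := inferInstance
        isOpenImmersion := by
          rw [show CommRingCat.ofHom (algebraMap C C) = 𝟙 (CommRingCat.of C) from rfl, AlgebraicGeometry.Spec.map_id]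
          infer_instance }
    haveI := QFApply.finite_omega hf
    haveI : Module.Finite C (Disc.Omega k C) := Module.Finite.equiv (TensorProduct.lid C (Disc.Omega k C))
    refine QFApply.invertible_of_local fun Q hQ => ?_
    haveI := hQ.isPrime
    obtain ⟨hfin, ⟨e⟩⟩ := hsplit Q
    haveI := hfin
    obtain ⟨e'⟩ := (nonempty_equiv_iff (k := k)).2 (hG.isGorensteinLocalRing_localization Q)
    exact ⟨Localization.AtPrime Q, inferInstance, inferInstance, inferInstance, IsLocalization.flat _ Q.primeCompl,
      Localization.AtPrime.under_maximalIdeal, ⟨e.trans e'⟩⟩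

end Field

attribute [local instance] Algebra.TensorProduct.rightAlgebra

theorem gorenstein_fibres_iff {A B : Type u} [CommRing A] [CommRing B] [Algebra A B] [IsNoetherianRing A]
    [Module.Finite A B] [Module.Flat A B] :
    (∀ (p : Ideal A) [p.IsPrime], IsGorensteinRing (p.Fiber B)) ↔ Module.Invertible B (Disc.Omega A B) := by
  haveI : IsNoetherianRing B := IsNoetherianRing.of_finite A B
  have hf : QFDual.IsQFFactor A B B :=
    { finite := inferInstance
      isOpenImmersion := by
        rw [show CommRingCat.ofHom (algebraMap B B) = 𝟙 (CommRingCat.of B) from rfl, AlgebraicGeometry.Spec.map_id]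
        infer_instance }
  have key : ∀ (p : Ideal A) [p.IsPrime],
      Nonempty ((p.ResidueField ⊗[A] B) ⊗[B] Disc.Omega A B ≃ₗ[p.ResidueField ⊗[A] B]
        Disc.Omega p.ResidueField (p.ResidueField ⊗[A] B)) := fun p _ => by
    haveI : IsScalarTower B (p.ResidueField ⊗[A] B) (p.ResidueField ⊗[A] B) := inferInstance
    exact ⟨(LinearEquiv.ofBijective _ (QFGenBC.omegaBC_bijective_of_flat (B₁ := p.ResidueField ⊗[A] B) hf
      (inferInstance : Algebra.IsPushout A p.ResidueField B (p.ResidueField ⊗[A] B)))).trans (TensorProduct.lid _ _)⟩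
  constructor
  · intro h
    haveI := QFFibre.invertible_of_fibres hf fun p _ => by
      obtain ⟨e⟩ := key p
      haveI : Module.Finite p.ResidueField (p.ResidueField ⊗[A] B) := inferInstance
      haveI := (invertible_iff (k := p.ResidueField) (C := p.ResidueField ⊗[A] B)).2 (h p)
      exact Module.Invertible.congr ((TensorProduct.AlgebraTensorModule.cancelBaseChange B B (p.ResidueField ⊗[A] B)
        (p.ResidueField ⊗[A] B) (Disc.Omega A B)).trans e).symm
    exact Module.Invertible.congr (TensorProduct.lid B (Disc.Omega A B))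
  · intro h p _
    obtain ⟨e⟩ := key p
    haveI : Module.Invertible (p.ResidueField ⊗[A] B) (Disc.Omega p.ResidueField (p.ResidueField ⊗[A] B)) :=
      Module.Invertible.congr e
    exact (invertible_iff (k := p.ResidueField) (C := p.ResidueField ⊗[A] B)).1 inferInstance

end Groth.Agent.H05EGA4.GorFibre
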