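import Mathlib
import Groth.Agent.H05EGA4.Samuel
import Groth.Agent.H05EGA4.SamuelParams
import Groth.Agent.H4Depth.CM
import Groth.Agent.H4Depth.DepthLemmas
import Groth.Agent.H05EGA4.Equidim
import Groth.Prelude.Def_EGA4b

/-!
Normally flat modules: length estimates and dimension (EGA IV 6.10).
-/

set_option autoImplicit false
set_option linter.style.haveILetI false
set_option linter.unusedSectionVars false
universe u
open Polynomial Filter IsLocalRing Pointwise

namespace Groth.Agent.H05EGA4.NormalFlat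

variable {R : Type u} [CommRing R] {M : Type u} [AddCommGroup M] [Module R M]

/-- `v n` are generators of `S n` modulo `S (n+1)`. -/
def Gens (J : Ideal R) (r : ℕ → ℕ) (v : ∀ n, Fin (r n) → M) : Prop :=
  ∀ n, (∀ i, v n i ∈ J ^ n • (⊤ : Submodule R M)) ∧
    J ^ n • (⊤ : Submodule R M) ≤ Submodule.span R (Set.range (v n)) ⊔ J ^ (n + 1) • ⊤

/-- `v n` are independent modulo `S (n+1)` up to `P`. -/
def Indep (J P : Ideal R) (r : ℕ → ℕ) (v : ∀ n, Fin (r n) → M) : Prop :=
  ∀ n, ∀ a : Fin (r n) → R, ∑ i, a i • v n i ∈ J ^ (n + 1) • (⊤ : Submodule R M) → ∀ i, a i ∈ P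

theorem length_step {S T : Submodule R M} (h : T ≤ S) :
    Module.length R (M ⧸ T) = Module.length R (LinearMap.range (T.mkQ.comp S.subtype)) + Module.length R (M ⧸ S) := by
  refine Module.length_eq_add_of_exact (Submodule.subtype _) (Submodule.factor h) Subtype.val_injective
    (Submodule.factor_surjective h) ?_
  rw [LinearMap.exact_iff, Submodule.range_subtype, LinearMap.range_comp, Submodule.range_subtype]
  exact Submodule.ker_liftQ _ _ _ |>.trans (by simp)

theorem length_quotient_le {J : Ideal R} {r : ℕ → ℕ} {v : ∀ n, Fin (r n) → M} (hv : Gens J r v) (n : ℕ) :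
    Module.length R (M ⧸ J ^ n • (⊤ : Submodule R M)) ≤ (∑ i ∈ Finset.range n, r i : ℕ) * Module.length R (R ⧸ J) := by
  induction n with
  | zero =>
    rw [Module.length_eq_zero_iff.mpr ?_]
    · exact zero_le
    · rw [Submodule.Quotient.subsingleton_iff]; simp
  | succ n ih =>
    have hle : J ^ (n + 1) • (⊤ : Submodule R M) ≤ J ^ n • ⊤ := Submodule.smul_mono_left (Ideal.pow_le_pow_right n.le_succ)
    rw [length_step hle, Finset.sum_range_succ, Nat.cast_add, add_mul, add_comm]
    refine add_le_add ih ?_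
    have hkill : ∀ i, J ≤ LinearMap.ker (LinearMap.toSpanSingleton R (M ⧸ J ^ (n + 1) • (⊤ : Submodule R M)) (Submodule.Quotient.mk (v n i))) := by
      intro i a ha
      rw [LinearMap.mem_ker, LinearMap.toSpanSingleton_apply, ← Submodule.Quotient.mk_smul, Submodule.Quotient.mk_eq_zero,
        pow_succ', mul_smul]
      exact Submodule.smul_mem_smul ha ((hv n).1 i)
    let φ : (Fin (r n) → R ⧸ J) →ₗ[R] M ⧸ J ^ (n + 1) • (⊤ : Submodule R M) :=
      LinearMap.lsum R (fun _ => R ⧸ J) R fun i => Submodule.liftQ J _ (hkill i)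
    have hrange : LinearMap.range ((J ^ (n + 1) • (⊤ : Submodule R M)).mkQ.comp (J ^ n • (⊤ : Submodule R M)).subtype) ≤
        LinearMap.range φ := by
      rw [LinearMap.range_comp, Submodule.range_subtype]
      refine (Submodule.map_mono (hv n).2).trans ?_
      rw [Submodule.map_sup, Submodule.mkQ_map_self, sup_bot_eq, Submodule.map_span, Submodule.span_le]
      rintro _ ⟨_, ⟨i, rfl⟩, rfl⟩
      exact ⟨Pi.single i (Ideal.Quotient.mk J 1), by
        simp only [φ, LinearMap.lsum_piSingle]
        exact (Submodule.liftQ_apply _ _ _).trans (one_smul R _)⟩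
    calc _ ≤ Module.length R (LinearMap.range φ) :=
          Module.length_le_of_injective (Submodule.inclusion hrange) (Submodule.inclusion_injective _)
      _ ≤ Module.length R (Fin (r n) → R ⧸ J) :=
          Module.length_le_of_surjective φ.rangeRestrict φ.surjective_rangeRestrict
      _ = _ := by rw [Module.length_pi]; simp

theorem sum_le_length_quotient {J P : Ideal R} [P.IsMaximal] {r : ℕ → ℕ} {v : ∀ n, Fin (r n) → M}
    (hmem : ∀ n i, v n i ∈ J ^ n • (⊤ : Submodule R M)) (hv : Indep J P r v) (n : ℕ) :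
    ((∑ i ∈ Finset.range n, r i : ℕ) : ℕ∞) ≤ Module.length R (M ⧸ J ^ n • (⊤ : Submodule R M)) := by
  induction n with
  | zero => simp
  | succ n ih =>
    have hle : J ^ (n + 1) • (⊤ : Submodule R M) ≤ J ^ n • ⊤ := Submodule.smul_mono_left (Ideal.pow_le_pow_right n.le_succ)
    rw [length_step hle, Finset.sum_range_succ, Nat.cast_add, add_comm]
    refine add_le_add ?_ ih
    let f : (Fin (r n) → R) →ₗ[R] LinearMap.range ((J ^ (n + 1) • (⊤ : Submodule R M)).mkQ.comp (J ^ n • (⊤ : Submodule R M)).subtype) :=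
      ((J ^ (n + 1) • (⊤ : Submodule R M)).mkQ.comp (J ^ n • (⊤ : Submodule R M)).subtype).rangeRestrict.comp
        (Fintype.linearCombination R fun i => (⟨v n i, hmem n i⟩ : (J ^ n • (⊤ : Submodule R M) : Submodule R M)))
    let g : (Fin (r n) → R) →ₗ[R] (Fin (r n) → R ⧸ P) := LinearMap.pi fun i => (Submodule.mkQ P).comp (LinearMap.proj i)
    have hg : Function.Surjective g := fun y => ⟨fun i => (Submodule.mkQ_surjective P (y i)).choose,
      funext fun i => (Submodule.mkQ_surjective P (y i)).choose_spec⟩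
    have hker : LinearMap.ker f ≤ LinearMap.ker g := fun a ha => by
      have h1 : ∑ i, a i • v n i ∈ J ^ (n + 1) • (⊤ : Submodule R M) := by
        have h2 := congrArg Subtype.val (LinearMap.mem_ker.mp ha)
        rw [← Submodule.Quotient.mk_eq_zero, ← Submodule.mkQ_apply, map_sum]
        simpa [f, Fintype.linearCombination_apply] using h2
      refine LinearMap.mem_ker.mpr (funext fun i => ?_)
      exact (Submodule.Quotient.mk_eq_zero P).mpr (hv n a h1 i)
    have h1 : Module.length R (Fin (r n) → R ⧸ P) = r n := by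
      haveI : IsSimpleModule R (R ⧸ P) := isSimpleModule_iff_quot_maximal.mpr ⟨P, ‹_›, ⟨LinearEquiv.refl R _⟩⟩
      rw [Module.length_pi, Module.length_eq_one]
      simp
    calc ((r n : ℕ) : ℕ∞) = Module.length R (Fin (r n) → R ⧸ P) := h1.symm
      _ ≤ Module.length R ((Fin (r n) → R) ⧸ LinearMap.ker f) :=
          Module.length_le_of_surjective (Submodule.liftQ _ g hker) (fun y => by
            obtain ⟨x, hx⟩ := hg y
            exact ⟨Submodule.Quotient.mk x, hx⟩)
      _ ≤ _ := Module.length_le_of_injective (Submodule.liftQ _ f le_rfl)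
            (LinearMap.ker_eq_bot.mp (Submodule.ker_liftQ_eq_bot _ _ _ le_rfl))

/-- Comparing dimensions via the ranks `r`. -/
theorem supportDim_le_of_gens_of_indep {R R' : Type u} [CommRing R] [CommRing R'] [IsLocalRing R] [IsLocalRing R']
    [IsNoetherianRing R] [IsNoetherianRing R'] {M M' : Type u} [AddCommGroup M] [Module R M] [Module.Finite R M]
    [AddCommGroup M'] [Module R' M'] [Module.Finite R' M'] [Nontrivial M'] {J : Ideal R} {J' : Ideal R'} {r : ℕ → ℕ}
    {v : ∀ n, Fin (r n) → M} {v' : ∀ n, Fin (r n) → M'} (hv : Gens J r v) (hJ : J ≤ maximalIdeal R)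
    (hL : Module.length R (R ⧸ J) ≠ ⊤) (hv' : Gens J' r v') (hi : Indep J' (maximalIdeal R') r v')
    (hJ' : maximalIdeal R' ≤ J'.radical) :
    Module.supportDim R M ≤ Module.supportDim R' M' := by
  obtain ⟨c, hc⟩ := Ideal.exists_pow_le_of_le_radical_of_fg hJ' (IsNoetherian.noetherian _)
  obtain ⟨P, hP⟩ := Samuel.exists_samuel_polynomial R M
  obtain ⟨P', hP'⟩ := Samuel.exists_samuel_polynomial R' M'
  rw [← Samuel.natDegree_eq_supportDim (A := R') M' hP']
  refine (Samuel.supportDim_le_natDegree P.natDegree M P hP le_rfl).trans ?_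
  obtain ⟨L, hL'⟩ := ENat.ne_top_iff_exists.mp hL
  let c' := c + 1
  have hc' : maximalIdeal R' ^ c' ≤ J' := (Ideal.pow_le_pow_right c.le_succ).trans hc
  let Q : ℚ[X] := C (L : ℚ) * P'.comp (C (c' : ℚ) * X)
  have hdeg : Q.natDegree ≤ P'.natDegree := by
    refine natDegree_C_mul_le _ _ |>.trans (natDegree_comp_le.trans ?_)
    exact (Nat.mul_le_mul_left _ ((natDegree_C_mul_le _ _).trans natDegree_X_le)).trans (by simp)
  refine le_trans ?_ (Nat.cast_le.mpr hdeg)
  refine Nat.cast_le.mpr (Samuel.natDegree_le_of_le ?_)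
  have hP'' : ∀ᶠ n : ℕ in atTop, (Samuel.samuel (A := R') M' (c' * n) : ℚ) = P'.eval ((c' * n : ℕ) : ℚ) :=
    (tendsto_atTop_mono (fun n => Nat.le_mul_of_pos_left n c.succ_pos) tendsto_id).eventually hP'
  filter_upwards [hP, hP''] with n hn hn'
  refine ⟨hn ▸ Nat.cast_nonneg _, ?_⟩
  rw [← hn, eval_mul, eval_C, eval_comp, eval_mul, eval_C, eval_X, ← Nat.cast_mul, ← hn', ← Nat.cast_mul, Nat.cast_le]
  have h1 := length_quotient_le hv n
  have h2 := sum_le_length_quotient (fun n i => (hv' n).1 i) hi n
  have h3 : Module.length R (M ⧸ Ring.jacobson R ^ n • (⊤ : Submodule R M)) ≤ Module.length R (M ⧸ J ^ n • (⊤ : Submodule R M)) := by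
    have hle : J ^ n • (⊤ : Submodule R M) ≤ Ring.jacobson R ^ n • ⊤ :=
      Submodule.smul_mono_left (Ideal.pow_right_mono (by rwa [ringJacobson_eq_maximalIdeal]) n)
    exact Module.length_le_of_surjective (Submodule.factor hle) (Submodule.factor_surjective hle)
  have h4 : Module.length R' (M' ⧸ J' ^ n • (⊤ : Submodule R' M')) ≤
      Module.length R' (M' ⧸ Ring.jacobson R' ^ (c' * n) • (⊤ : Submodule R' M')) := by
    have hle : Ring.jacobson R' ^ (c' * n) • (⊤ : Submodule R' M') ≤ J' ^ n • ⊤ :=
      Submodule.smul_mono_left (by rw [pow_mul, ringJacobson_eq_maximalIdeal]; exact Ideal.pow_right_mono hc' n)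
    exact Module.length_le_of_surjective (Submodule.factor hle) (Submodule.factor_surjective hle)
  obtain ⟨a, ha⟩ := ENat.ne_top_iff_exists.mp (Samuel.length_jacobson_ne_top (A := R) (M := M) n)
  obtain ⟨b, hb⟩ := ENat.ne_top_iff_exists.mp (Samuel.length_jacobson_ne_top (A := R') (M := M') (c' * n))
  simp only [Samuel.samuel, Samuel.coLen, ← ha, ← hb, ENat.toNat_coe]
  rw [← ha] at h3
  rw [← hb] at h4
  rw [← hL'] at h1
  have h5 : ((∑ i ∈ Finset.range n, r i : ℕ) : ℕ∞) ≤ (b : ℕ∞) := h2.trans h4
  have h6 : (a : ℕ∞) ≤ ((∑ i ∈ Finset.range n, r i : ℕ) : ℕ∞) * (L : ℕ∞) := h3.trans h1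
  norm_cast at h5 h6
  calc a ≤ (∑ i ∈ Finset.range n, r i) * L := h6
    _ ≤ b * L := Nat.mul_le_mul_right _ h5
    _ = L * b := mul_comm _ _

/-- Lifted bases of the graded pieces. -/
theorem exists_basis {A : Type u} [CommRing A] [IsNoetherianRing A] [IsLocalRing A] {I : Ideal A} (hI : I ≠ ⊤)
    {N : Type u} [AddCommGroup N] [Module A N] [Module.Finite A N] (h : EGA4.IsNormallyFlat I N) :
    ∃ (r : ℕ → ℕ) (v : ∀ n, Fin (r n) → N), Gens I r v ∧ Indep I I r v := by
  haveI : Nontrivial (A ⧸ I) := Ideal.Quotient.nontrivial_iff.mpr hI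
  haveI : IsLocalRing (A ⧸ I) := .of_surjective' _ Ideal.Quotient.mk_surjective
  let S : ℕ → Submodule A N := fun n => I ^ n • ⊤
  have key : ∀ n, ∃ (k : ℕ) (v : Fin k → S n),
      S n ≤ Submodule.span A (Set.range fun i => (v i : N)) ⊔ S (n + 1) ∧
      ∀ a : Fin k → A, (∑ i, a i • (v i : N)) ∈ S (n + 1) → ∀ i, a i ∈ I := by
    intro n
    haveI : Module.Flat (A ⧸ I) (↥(S n) ⧸ I • (⊤ : Submodule A ↥(S n))) := h n
    haveI : Module.Finite A ↥(S n) := Module.Finite.iff_fg.mpr (IsNoetherian.noetherian _)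
    haveI : Module.Finite (A ⧸ I) (↥(S n) ⧸ I • (⊤ : Submodule A ↥(S n))) := Module.Finite.of_restrictScalars_finite A _ _
    haveI : Module.Free (A ⧸ I) (↥(S n) ⧸ I • (⊤ : Submodule A ↥(S n))) := Module.free_of_flat_of_isLocalRing
    let b := Module.finBasis (A ⧸ I) (↥(S n) ⧸ I • (⊤ : Submodule A ↥(S n)))
    choose v hv using fun i => Submodule.Quotient.mk_surjective _ (b i)
    have hsucc : (I • (⊤ : Submodule A ↥(S n))).map (S n).subtype = S (n + 1) := by
      rw [Submodule.map_smul'', Submodule.map_top, Submodule.range_subtype, ← mul_smul, ← pow_succ']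
    have hsum : ∀ a : Fin _ → A, Submodule.Quotient.mk (p := I • (⊤ : Submodule A ↥(S n))) (∑ i, a i • v i) =
        ∑ i, Ideal.Quotient.mk I (a i) • b i := fun a => by
      rw [← Submodule.mkQ_apply, map_sum]
      refine Finset.sum_congr rfl fun i _ => ?_
      rw [map_smul, Submodule.mkQ_apply, hv]
      exact (algebraMap_smul (A ⧸ I) (a i) (b i)).symm
    refine ⟨_, v, fun x hx => ?_, fun a ha => ?_⟩
    · choose a ha using fun i => Ideal.Quotient.mk_surjective (b.repr (Submodule.Quotient.mk ⟨x, hx⟩) i)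
      have h1 : (⟨x, hx⟩ : S n) - ∑ i, a i • v i ∈ I • (⊤ : Submodule A ↥(S n)) := by
        rw [← Submodule.Quotient.eq, hsum]
        simp_rw [ha]
        exact (b.sum_repr _).symm
      have h2 : x - ∑ i, a i • (v i : N) ∈ S (n + 1) := by
        rw [← hsucc]
        exact ⟨_, h1, by simp⟩
      rw [← add_sub_cancel (∑ i, a i • (v i : N)) x]
      exact Submodule.add_mem_sup (sum_mem fun i _ => Submodule.smul_mem _ _ (Submodule.subset_span ⟨i, rfl⟩)) h2
    · rw [← hsucc] at ha
      obtain ⟨y, hy, hyx⟩ := ha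
      have h1 : (∑ i, a i • v i) ∈ I • (⊤ : Submodule A ↥(S n)) := by
        have hy' : y = ∑ i, a i • v i := Subtype.ext (by simpa using hyx)
        rwa [hy'] at hy
      have h2 : ∑ i, Ideal.Quotient.mk I (a i) • b i = 0 := by
        rw [← hsum, (Submodule.Quotient.mk_eq_zero _).mpr h1]
      exact fun i => Ideal.Quotient.eq_zero_iff_mem.mp (Fintype.linearIndependent_iff.mp b.linearIndependent _ h2 i)
  choose r v hv1 hv2 using key
  exact ⟨r, fun n i => (v n i : N), fun n => ⟨fun i => (v n i).2, hv1 n⟩, hv2⟩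

section Localization

variable {A : Type u} [CommRing A] {N : Type u} [AddCommGroup N] [Module A N] (p : Ideal A) [p.IsPrime]

local notation "Ap" => Localization.AtPrime p
local notation "ι" => LocalizedModule.mkLinearMap p.primeCompl N

theorem localized_pow_smul (I : Ideal A) (n : ℕ) :
    (I ^ n • (⊤ : Submodule A N)).localized' Ap p.primeCompl ι =
      (I.map (algebraMap A Ap)) ^ n • (⊤ : Submodule Ap (LocalizedModule p.primeCompl N)) := by
  rw [Submodule.localized'_smul, Submodule.localized'_top, ← Ideal.map_pow]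
  congr 1
  rw [Submodule.localized'_eq_span]
  rfl

theorem gens_localized {I : Ideal A} {r : ℕ → ℕ} {v : ∀ n, Fin (r n) → N} (hv : Gens I r v) :
    Gens (I.map (algebraMap A Ap)) r (fun n i => ι (v n i)) := by
  intro n
  refine ⟨fun i => ?_, ?_⟩
  · rw [← localized_pow_smul p I n, Submodule.localized'_eq_span]
    exact Submodule.subset_span ⟨_, (hv n).1 i, rfl⟩
  · rw [← localized_pow_smul p I n, Submodule.localized'_eq_span, Submodule.span_le]
    rintro _ ⟨x, hx, rfl⟩
    obtain ⟨y, hy, z, hz, rfl⟩ := Submodule.mem_sup.mp ((hv n).2 hx)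
    rw [map_add]
    refine Submodule.add_mem_sup ?_ (by rw [← localized_pow_smul p I (n + 1), Submodule.localized'_eq_span]; exact Submodule.subset_span ⟨_, hz, rfl⟩)
    clear hx
    induction hy using Submodule.span_induction with
    | mem w hw => obtain ⟨i, rfl⟩ := hw; exact Submodule.subset_span ⟨i, rfl⟩
    | zero => rw [map_zero]; exact zero_mem _
    | add a b _ _ ha hb => rw [map_add]; exact add_mem ha hb
    | smul a b _ hb => rw [map_smul, ← algebraMap_smul Ap]; exact Submodule.smul_mem _ _ hb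

theorem indep_localized {I : Ideal A} (hIp : I ≤ p) {r : ℕ → ℕ} {v : ∀ n, Fin (r n) → N} (hv : Indep I I r v) :
    Indep (I.map (algebraMap A Ap)) (maximalIdeal Ap) r (fun n i => ι (v n i)) := by
  intro n a ha i
  obtain ⟨⟨s, hs⟩, hb⟩ := IsLocalization.exist_integer_multiples_of_finite p.primeCompl a
  choose b hb using hb
  have h1 : ι (∑ i, b i • v n i) ∈ (I ^ (n + 1) • (⊤ : Submodule A N)).localized' Ap p.primeCompl ι := by
    rw [localized_pow_smul p I (n + 1), map_sum]
    have : ∀ i, ι (b i • v n i) = algebraMap A Ap s • (a i • ι (v n i)) := fun i => by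
      rw [map_smul, ← algebraMap_smul Ap (b i), hb, smul_smul, Algebra.smul_def]
    simp_rw [this, ← Finset.smul_sum]
    exact Submodule.smul_mem _ _ ha
  obtain ⟨m, hm, t, ht⟩ := h1
  rw [IsLocalizedModule.mk'_eq_iff, Submonoid.smul_def, ← map_smul] at ht
  obtain ⟨u, hu⟩ := IsLocalizedModule.exists_of_eq (S := p.primeCompl) (f := ι) ht
  simp only [Submonoid.smul_def, Finset.smul_sum, smul_smul] at hu
  have h3 : ∑ i, ((u : A) * ((t : A) * b i)) • v n i ∈ I ^ (n + 1) • (⊤ : Submodule A N) := by
    rw [← hu]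
    exact Submodule.smul_mem _ _ hm
  have hbi : b i ∈ p := (‹p.IsPrime›.mem_or_mem ((‹p.IsPrime›.mem_or_mem (hIp (hv n _ h3 i))).resolve_left u.2)).resolve_left t.2
  have h2 : algebraMap A Ap (b i) ∈ maximalIdeal Ap := (IsLocalization.AtPrime.to_map_mem_maximal_iff Ap p _).mpr hbi
  rw [hb, Algebra.smul_def] at h2
  exact ((maximalIdeal.isMaximal Ap).isPrime.mem_or_mem h2).resolve_left fun h => hs ((IsLocalization.AtPrime.to_map_mem_maximal_iff Ap p _).mp h)

end Localization

/-- `dim M = dim A/I + dim M_p` for normally flat `M`. -/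
theorem supportDim_eq {A : Type u} [CommRing A] [IsNoetherianRing A] [IsLocalRing A] {I : Ideal A}
    {N : Type u} [AddCommGroup N] [Module A N] [Module.Finite A N] [Nontrivial N] (h : EGA4.IsNormallyFlat I N)
    (p : Ideal A) [hp' : p.IsPrime] (hp : p ∈ I.minimalPrimes) :
    Module.supportDim A N = ringKrullDim (A ⧸ I) +
      Module.supportDim (Localization.AtPrime p) (LocalizedModule p.primeCompl N) := by
  have hI : I ≠ ⊤ := ne_top_of_le_ne_top hp'.ne_top hp.1.2
  have hIm : I ≤ maximalIdeal A := le_maximalIdeal hI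
  obtain ⟨r, v, hv, hi⟩ := exists_basis hI h
  have hr : r 0 ≠ 0 := fun h0 => by
    haveI : IsEmpty (Fin (r 0)) := by rw [h0]; infer_instance
    have h1 := (hv 0).2
    rw [Set.range_eq_empty, Submodule.span_empty, bot_sup_eq, pow_zero, zero_add, pow_one, Ideal.one_eq_top, Submodule.top_smul] at h1
    exact Submodule.top_ne_ideal_smul_of_le_jacobson_annihilator (hIm.trans (maximalIdeal_le_jacobson _))
      (top_le_iff.mp h1).symm
  have hnt : ∀ (q : Ideal A) [q.IsPrime], I ≤ q → Nontrivial (LocalizedModule q.primeCompl N) := by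
    intro q _ hq
    by_contra hs
    rw [not_nontrivial_iff_subsingleton] at hs
    have := indep_localized q hq hi 0 (fun _ => 1) (by rw [Subsingleton.elim (∑ _, _) (0 : LocalizedModule q.primeCompl N)]; exact zero_mem _) ⟨0, Nat.pos_of_ne_zero hr⟩
    exact (maximalIdeal.isMaximal _).ne_top ((Ideal.eq_top_iff_one _).mpr this)
  have hrad : ∀ (q : Ideal A) [q.IsPrime], q ∈ I.minimalPrimes →
      maximalIdeal (Localization.AtPrime q) ≤ (I.map (algebraMap A (Localization.AtPrime q))).radical := by
    intro q _ hq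
    rw [IsLocalization.AtPrime.radical_map_of_mem_minimalPrimes (A := Localization.AtPrime q) q I hq, IsLocalization.AtPrime.map_eq_maximalIdeal]
  have hcmp : ∀ (q q' : Ideal A) [q.IsPrime] [q'.IsPrime], q ∈ I.minimalPrimes → q' ∈ I.minimalPrimes →
      Module.supportDim (Localization.AtPrime q) (LocalizedModule q.primeCompl N) ≤
        Module.supportDim (Localization.AtPrime q') (LocalizedModule q'.primeCompl N) := by
    intro q q' _ _ hq hq'
    haveI := hnt q' hq'.1.2
    refine supportDim_le_of_gens_of_indep (gens_localized q hv)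
      ((Ideal.map_mono hq.1.2).trans (IsLocalization.AtPrime.map_eq_maximalIdeal q _).le) ?_
      (gens_localized q' hv) (indep_localized q' hq'.1.2 hi) (hrad q' hq')
    refine H22Alg.length_ne_top_of_support_maximal fun P hP => ?_
    rw [Module.support_eq_zeroLocus, Ideal.annihilator_quotient] at hP
    have : maximalIdeal (Localization.AtPrime q) ≤ P.asIdeal := (hrad q hq).trans (P.isPrime.radical_le_iff.mpr hP)
    exact (maximalIdeal.isMaximal _).eq_of_le P.isPrime.ne_top this ▸ maximalIdeal.isMaximal _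
  haveI := hnt p hp.1.2
  obtain ⟨e, he⟩ := H4Depth.exists_nat_supportDim_eq (R := Localization.AtPrime p) (M := LocalizedModule p.primeCompl N)
  obtain ⟨D, hD⟩ := H4Depth.exists_nat_supportDim_eq (R := A) (M := N)
  refine le_antisymm ?_ ?_
  · haveI : Nontrivial (A ⧸ I) := Ideal.Quotient.nontrivial_iff.mpr hI
    obtain ⟨d, hd⟩ := H4Depth.exists_nat_supportDim_eq (R := A) (M := A ⧸ I)
    obtain ⟨ys, hys, hy, hfin⟩ := Samuel.exists_parameters_list (A ⧸ I) hd.le
    let Y := Ideal.ofList ys
    have hle : Module.supportDim A (N ⧸ Y • (⊤ : Submodule A N)) ≤ (e : WithBot ℕ∞) := by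
      rw [← he]
      have hmap : ∀ n, (I ⊔ Y) ^ n • (⊤ : Submodule A (N ⧸ Y • (⊤ : Submodule A N))) =
          (I ^ n • (⊤ : Submodule A N)).map (Submodule.mkQ _) := by
        intro n
        induction n with
        | zero => simp [Submodule.range_mkQ]
        | succ n ih =>
          rw [pow_succ', mul_smul, ih, Submodule.sup_smul, pow_succ', mul_smul, ← Submodule.map_smul'']
          refine sup_eq_left.mpr (le_trans ?_ bot_le)
          rw [← Submodule.map_smul'']
          exact Submodule.map_le_iff_le_comap.mpr ((Submodule.smul_mono le_rfl le_top).trans (by rw [Submodule.comap_bot, Submodule.ker_mkQ]))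
      refine supportDim_le_of_gens_of_indep (J := I ⊔ Y) (v := fun n i => Submodule.mkQ _ (v n i)) ?_
        (sup_le hIm (Ideal.span_le.mpr fun y hy' => (ringJacobson_eq_maximalIdeal (R := A)) ▸ hy y hy')) ?_
        (gens_localized p hv) (indep_localized p hp.1.2 hi) (hrad p hp)
      · intro n
        refine ⟨fun i => ?_, ?_⟩
        · rw [hmap]; exact Submodule.mem_map_of_mem ((hv n).1 i)
        · rw [hmap, hmap, Set.range_comp' (Submodule.mkQ _) (v n), ← Submodule.map_span, ← Submodule.map_sup]
          exact Submodule.map_mono (hv n).2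
      · refine ne_top_of_le_ne_top hfin (Module.length_le_of_surjective
          (Submodule.liftQ _ (Submodule.factor (le_sup_left : I ≤ I ⊔ Y)) ?_) ?_)
        · rw [Submodule.smul_le]
          intro a ha z _
          obtain ⟨z, rfl⟩ := Submodule.Quotient.mk_surjective _ z
          rw [LinearMap.mem_ker, ← Submodule.Quotient.mk_smul]
          exact (Submodule.Quotient.mk_eq_zero _).mpr (Ideal.mul_mem_right z _ (Ideal.mem_sup_right ha))
        · intro z
          obtain ⟨z, rfl⟩ := Submodule.Quotient.mk_surjective _ z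
          exact ⟨Submodule.Quotient.mk (Submodule.Quotient.mk z), rfl⟩
    refine (Samuel.supportDim_le_add_length N hy hle).trans ?_
    rw [← Module.supportDim_quotient_eq_ringKrullDim, hd, he, ← Nat.cast_add]
    exact_mod_cast Nat.add_le_add_right hys e
  · have hq : ∀ q ∈ I.minimalPrimes, ringKrullDim (A ⧸ q) ≤ ((D - e : ℕ) : WithBot ℕ∞) := by
      intro q hq
      haveI := hq.isPrime
      haveI := hnt q hq.1.2
      have hsupp : (⟨q, inferInstance⟩ : PrimeSpectrum A) ∈ Module.support A N := Module.mem_support_iff.mpr (hnt q hq.1.2)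
      have h1 := H4Depth.supportDim_localization_add_le q hsupp
      obtain ⟨e', he'⟩ := H4Depth.exists_nat_supportDim_eq (R := Localization.AtPrime q) (M := LocalizedModule q.primeCompl N)
      obtain ⟨k, hk⟩ := exists_nat_dim_quotient_eq (R := A) q
      have h2 := hcmp p q hp hq
      rw [he, he'] at h2
      rw [hk, he', hD] at h1
      rw [hk]
      norm_cast at h1 h2 ⊢
      omega
    have hed : e ≤ D := by
      have h1 := H4Depth.supportDim_localization_add_le p (Module.mem_support_iff.mpr (hnt p hp.1.2) : (⟨p, hp'⟩ : PrimeSpectrum A) ∈ Module.support A N)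
      obtain ⟨k, hk⟩ := exists_nat_dim_quotient_eq (R := A) p
      rw [hk, he, hD] at h1
      norm_cast at h1
      omega
    refine (add_le_add (ringKrullDim_quotient_le_of_minimalPrimes I hq) le_rfl).trans ?_
    rw [he, hD]
    norm_cast
    omega

section Depth

open LocCoh

variable {A : Type u} [CommRing A] [IsLocalRing A] [IsNoetherianRing A]

theorem depth_eq_top_of_subsingleton (X : Type u) [AddCommGroup X] [Module A X] [Subsingleton X] : depth A X = ⊤ :=
  H4Depth.idealDepth_eq_top (Subsingleton.elim _ _)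

theorem depth_extension {X Y Z : Type u} [AddCommGroup X] [Module A X] [AddCommGroup Y] [Module A Y]
    [AddCommGroup Z] [Module A Z] [Module.Finite A X] [Module.Finite A Y] [Module.Finite A Z]
    {f : X →ₗ[A] Y} {g : Y →ₗ[A] Z} (hf : Function.Injective f) (hg : Function.Surjective g)
    (hfg : Function.Exact f g) {d : ℕ} (hX : depth A X = d) (hZ : (d : ℕ∞) ≤ depth A Z) : depth A Y = d := by
  have h1 := H4Depth.min_le_idealDepth_mid (I := maximalIdeal A) hf hg hfg
  have h2 := H4Depth.min_le_idealDepth_left (I := maximalIdeal A) hf hg hfg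
  refine le_antisymm ?_ ((le_min hX.ge hZ).trans h1)
  by_contra hlt
  rw [not_le] at hlt
  have h3 : ((d + 1 : ℕ) : ℕ∞) ≤ depth A X := by
    refine (le_min ?_ ?_).trans h2
    · rw [Nat.cast_succ]
      exact ENat.add_one_le_iff (ENat.coe_ne_top _) |>.mpr hlt
    · rw [Nat.cast_succ]
      exact add_le_add hZ le_rfl
  rw [hX, Nat.cast_le] at h3
  omega

theorem depth_pi {X : Type u} [AddCommGroup X] [Module A X] [Module.Finite A X] {d : ℕ} (hd : depth A X = d) :
    ∀ r : ℕ, (d : ℕ∞) ≤ depth A (Fin r → X) ∧ (r ≠ 0 → depth A (Fin r → X) = d) := by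
  intro r
  induction r with
  | zero => exact ⟨by rw [depth_eq_top_of_subsingleton]; exact le_top, fun h => absurd rfl h⟩
  | succ r ih =>
    let f : X →ₗ[A] (Fin (r + 1) → X) := LinearMap.single A (fun _ => X) 0
    let g : (Fin (r + 1) → X) →ₗ[A] (Fin r → X) := LinearMap.funLeft A X Fin.succ
    have h : depth A (Fin (r + 1) → X) = d := by
      refine depth_extension (f := f) (g := g) (Pi.single_injective (M := fun _ : Fin (r + 1) => X) 0) ?_ ?_ hd ih.1
      · exact fun y => ⟨Fin.cons 0 y, funext fun i => by simp [g]⟩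
      · intro y
        refine ⟨fun hy => ⟨y 0, funext fun i => ?_⟩, ?_⟩
        · refine Fin.cases ?_ (fun j => ?_) i
          · simp [f]
          · simpa [f, g] using (congrFun hy j).symm
        · rintro ⟨x, rfl⟩
          funext j
          simp [f, g]
    exact ⟨h.ge, fun _ => h⟩

/-- Dimension and depth of normally flat modules along a nilpotent ideal. -/
theorem supportDim_depth_eq {I : Ideal A} (hI : IsNilpotent I) (N : Type u) [AddCommGroup N] [Module A N]
    [Module.Finite A N] [Nontrivial N] (h : EGA4.IsNormallyFlat I N) :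
    Module.supportDim A N = ringKrullDim (A ⧸ I) ∧ depth A N = depth A (A ⧸ I) := by
  obtain ⟨c, hc⟩ := hI
  have hrad : I ≤ (⊥ : Ideal A).radical := fun a ha => ⟨c, by
    have : a ^ c ∈ I ^ c := Ideal.pow_mem_pow ha c
    rwa [hc] at this⟩
  have hIm : I ≤ maximalIdeal A := fun a ha => (maximalIdeal.isMaximal A).isPrime.radical_le_iff.mpr bot_le (hrad ha)
  have hI' : I ≠ ⊤ := ne_top_of_le_ne_top (maximalIdeal.isMaximal A).ne_top hIm
  haveI : Nontrivial (A ⧸ I) := Ideal.Quotient.nontrivial_iff.mpr hI'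
  haveI : IsLocalRing (A ⧸ I) := .of_surjective' _ Ideal.Quotient.mk_surjective
  let S : ℕ → Submodule A N := fun n => I ^ n • ⊤
  haveI : ∀ n, Module.Finite A ↥(S n) := fun n => Module.Finite.iff_fg.mpr (IsNoetherian.noetherian _)
  have hfree : ∀ n, ∃ k : ℕ, Nonempty ((↥(S n) ⧸ I • (⊤ : Submodule A ↥(S n))) ≃ₗ[A] (Fin k → A ⧸ I)) := by
    intro n
    haveI : Module.Flat (A ⧸ I) (↥(S n) ⧸ I • (⊤ : Submodule A ↥(S n))) := h n
    haveI : Module.Finite (A ⧸ I) (↥(S n) ⧸ I • (⊤ : Submodule A ↥(S n))) := Module.Finite.of_restrictScalars_finite A _ _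
    haveI : Module.Free (A ⧸ I) (↥(S n) ⧸ I • (⊤ : Submodule A ↥(S n))) := Module.free_of_flat_of_isLocalRing
    exact ⟨_, ⟨((Module.finBasis (A ⧸ I) _).equivFun).restrictScalars A⟩⟩
  refine ⟨?_, ?_⟩
  · have hsupp : Module.support A N = PrimeSpectrum.zeroLocus I := by
      refine le_antisymm (fun P _ => (hrad.trans (P.isPrime.radical_le_iff.mpr bot_le))) fun P hP => ?_
      obtain ⟨k, ⟨e⟩⟩ := hfree 0
      have hk : k ≠ 0 := fun hk => by
        subst hk
        haveI : Subsingleton (↥(S 0) ⧸ I • (⊤ : Submodule A ↥(S 0))) := e.toEquiv.subsingleton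
        haveI : Nontrivial ↥(S 0) := by
          simp only [S, pow_zero, Ideal.one_eq_top, Submodule.top_smul]
          exact Submodule.topEquiv.toEquiv.nontrivial
        exact Submodule.top_ne_ideal_smul_of_le_jacobson_annihilator (hIm.trans (maximalIdeal_le_jacobson _))
          (Submodule.Quotient.subsingleton_iff.mp ‹_›).symm
      have h1 : P ∈ Module.support A (↥(S 0) ⧸ I • (⊤ : Submodule A ↥(S 0))) := by
        rw [e.support_eq]
        let i0 : Fin k := ⟨0, Nat.pos_of_ne_zero hk⟩
        refine Module.support_subset_of_injective (LinearMap.single A (fun _ : Fin k => A ⧸ I) i0)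
          (Pi.single_injective (M := fun _ : Fin k => A ⧸ I) i0) ?_
        rwa [Module.support_eq_zeroLocus, Ideal.annihilator_quotient]
      exact Module.support_subset_of_injective (S 0).subtype Subtype.val_injective
        (Module.support_subset_of_surjective _ (Submodule.mkQ_surjective _) h1)
    rw [H4Depth.supportDim_eq_ringKrullDim_quotient_of_support_eq hsupp]
  · obtain ⟨d, hd⟩ : ∃ d : ℕ, depth A (A ⧸ I) = d := by
      obtain ⟨d, hd⟩ := ENat.ne_top_iff_exists.mp (H4Depth.idealDepth_ne_top (M := A ⧸ I)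
        ((Submodule.top_ne_ideal_smul_of_le_jacobson_annihilator (maximalIdeal_le_jacobson _)).symm :
          maximalIdeal A • (⊤ : Submodule A (A ⧸ I)) ≠ ⊤))
      exact ⟨d, hd.symm⟩
    rw [hd]
    have key : ∀ k n, c ≤ n + k → Nontrivial ↥(S n) → depth A ↥(S n) = d := by
      intro k
      induction k with
      | zero =>
        intro n hn hnt
        have h0 : S n = ⊥ := by
          refine le_bot_iff.mp ((Submodule.smul_mono_left (Ideal.pow_le_pow_right (show c ≤ n by omega))).trans ?_)
          rw [hc]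
          simp
        exact absurd hnt (by rw [not_nontrivial_iff_subsingleton, h0]; infer_instance)
      | succ k ih =>
        intro n hn hnt
        obtain ⟨r, ⟨e⟩⟩ := hfree n
        let e' : (I • (⊤ : Submodule A ↥(S n)) : Submodule A ↥(S n)) ≃ₗ[A] ↥(S (n + 1)) :=
          (Submodule.equivMapOfInjective _ Subtype.val_injective _).trans (LinearEquiv.ofEq _ _ (by
            rw [Submodule.map_smul'', Submodule.map_top, Submodule.range_subtype, ← mul_smul, ← pow_succ']))
        rcases subsingleton_or_nontrivial ↥(S (n + 1)) with hs | hs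
        · have hbot : (I • (⊤ : Submodule A ↥(S n)) : Submodule A ↥(S n)) = ⊥ := by
            haveI := e'.toEquiv.subsingleton
            exact Submodule.eq_bot_of_subsingleton
          have e2 := (Submodule.quotEquivOfEqBot _ hbot).symm.trans e
          have hr : r ≠ 0 := fun hr => by
            subst hr
            exact not_subsingleton ↥(S n) e2.toEquiv.subsingleton
          rw [H4Depth.depth_congr e2]
          exact (depth_pi hd r).2 hr
        · refine depth_extension (f := (I • (⊤ : Submodule A ↥(S n))).subtype) (g := (I • (⊤ : Submodule A ↥(S n))).mkQ)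
            Subtype.val_injective (Submodule.mkQ_surjective _) (LinearMap.exact_subtype_mkQ _)
            ((H4Depth.depth_congr e').trans (ih (n + 1) (by omega) hs)) ?_
          rw [H4Depth.depth_congr e]
          exact (depth_pi hd r).1
    have h0 : S 0 = ⊤ := by simp [S]
    rw [← H4Depth.depth_congr ((LinearEquiv.ofEq _ _ h0).trans Submodule.topEquiv : ↥(S 0) ≃ₗ[A] N)]
    exact key c 0 (by omega) ((LinearEquiv.ofEq _ _ h0).trans Submodule.topEquiv).toEquiv.nontrivial

end Depth

/-- Normal flatness localizes. -/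
theorem isNormallyFlat_localized' {A : Type u} [CommRing A] (S : Submonoid A) (A' : Type u) [CommRing A'] [Algebra A A']
    [IsLocalization S A'] {N N' : Type u} [AddCommGroup N] [Module A N] [AddCommGroup N'] [Module A N'] [Module A' N']
    [IsScalarTower A A' N'] (f : N →ₗ[A] N') [IsLocalizedModule S f] {I : Ideal A}
    (h : ∀ n : ℕ, Module.Flat (A ⧸ I) (LocalizedModule (S.map (Ideal.Quotient.mk I))
      (↥(I ^ n • (⊤ : Submodule A N)) ⧸ (I • (⊤ : Submodule A ↥(I ^ n • (⊤ : Submodule A N))))))) :
    EGA4.IsNormallyFlat (I.map (algebraMap A A')) N' := by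
  intro n
  have hJ : ∀ J : Ideal A, J.localized' A' S (Algebra.linearMap A A') = J.map (algebraMap A A') := fun J => by
    rw [Submodule.localized'_eq_span]
    rfl
  set I' := I.map (algebraMap A A') with hI'
  let P : Submodule A N := I ^ n • ⊤
  let P' : Submodule A' N' := I' ^ n • ⊤
  let P1 : Submodule A' N' := P.localized' A' S f
  have hP : P1 = P' := by
    simp only [P1, P, P', hI', Submodule.localized'_smul, Submodule.localized'_top, hJ, Ideal.map_pow]
  let g : P →ₗ[A] P1 := P.toLocalized' A' S f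
  let W : Submodule A P := I • ⊤
  let W1 : Submodule A' P1 := W.localized' A' S g
  have hW : W1 = I' • (⊤ : Submodule A' P1) := by
    simp only [W1, W, hI', Submodule.localized'_smul, Submodule.localized'_top, hJ]
  let q : (P ⧸ W) →ₗ[A] (P1 ⧸ W1) := W.toLocalizedQuotient' A' S g
  let e : (P1 ⧸ W1) ≃ₗ[A'] ↥P' ⧸ I' • (⊤ : Submodule A' ↥P') :=
    Submodule.Quotient.equiv W1 _ (LinearEquiv.ofEq P1 P' hP) (by
      rw [hW, Submodule.map_smul'', Submodule.map_top, LinearMap.range_eq_top.mpr (LinearEquiv.surjective _)])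
  let q' : (↥P ⧸ W) →ₗ[A] ↥P' ⧸ I' • (⊤ : Submodule A' ↥P') := (e.restrictScalars A).toLinearMap.comp q
  haveI : IsLocalizedModule S q' := IsLocalizedModule.of_linearEquiv S q (e.restrictScalars A)
  haveI hloc : IsLocalization (S.map (Ideal.Quotient.mk I)) (A' ⧸ I') :=
    IsLocalization.of_surjective S A' (Ideal.Quotient.mk I) Ideal.Quotient.mk_surjective
      (Ideal.Quotient.mk I') Ideal.Quotient.mk_surjective (by ext x; rfl) (by rw [Ideal.mk_ker, Ideal.mk_ker])
  letI : Module (A ⧸ I) (↥P' ⧸ I' • (⊤ : Submodule A' ↥P')) :=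
    Module.compHom _ (algebraMap (A ⧸ I) (A' ⧸ I'))
  haveI : IsScalarTower (A ⧸ I) (A' ⧸ I') (↥P' ⧸ I' • (⊤ : Submodule A' ↥P')) := IsScalarTower.of_algebraMap_smul fun _ _ => rfl
  haveI : IsScalarTower A (A ⧸ I) (↥P' ⧸ I' • (⊤ : Submodule A' ↥P')) := IsScalarTower.of_algebraMap_smul fun a y => by
    show algebraMap (A ⧸ I) (A' ⧸ I') (algebraMap A (A ⧸ I) a) • y = a • y
    rw [← IsScalarTower.algebraMap_apply, algebraMap_smul]
  let q'' : (↥P ⧸ W) →ₗ[A ⧸ I] ↥P' ⧸ I' • (⊤ : Submodule A' ↥P') :=
    LinearMap.extendScalarsOfSurjective (show Function.Surjective (algebraMap A (A ⧸ I)) from Ideal.Quotient.mk_surjective) q'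
  have hq'' : ∀ x, q'' x = q' x := fun _ => rfl
  haveI : IsLocalizedModule (S.map (Ideal.Quotient.mk I)) q'' :=
    { map_units := by
        rintro ⟨_, s, hs, rfl⟩
        have h1 := (Module.End.isUnit_iff _).mp (IsLocalizedModule.map_units q' ⟨s, hs⟩)
        refine (Module.End.isUnit_iff _).mpr ?_
        convert h1 using 1
        funext y
        simp only [Module.algebraMap_end_apply]
        exact algebraMap_smul (A ⧸ I) s y
      surj := fun y => by
        obtain ⟨⟨x, s⟩, hx⟩ := IsLocalizedModule.surj S q' y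
        refine ⟨⟨x, ⟨_, s, s.2, rfl⟩⟩, ?_⟩
        rw [hq'', ← hx]
        exact algebraMap_smul (A ⧸ I) (s : A) y
      exists_of_eq := fun {x y} hxy => by
        obtain ⟨c, hc⟩ := IsLocalizedModule.exists_of_eq (S := S) (f := q') (show q' x = q' y from hxy)
        refine ⟨⟨_, c, c.2, rfl⟩, ?_⟩
        show Ideal.Quotient.mk I (c : A) • x = Ideal.Quotient.mk I (c : A) • y
        exact (algebraMap_smul (A ⧸ I) (c : A) x).trans (hc.trans (algebraMap_smul (A ⧸ I) (c : A) y).symm) }
  haveI : Module.Flat (A ⧸ I) (↥P' ⧸ I' • (⊤ : Submodule A' ↥P')) :=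
    @Module.Flat.of_linearEquiv _ _ _ _ _ _ _ _ (h n)
      (IsLocalizedModule.linearEquiv (S.map (Ideal.Quotient.mk I))
        q'' (LocalizedModule.mkLinearMap (S.map (Ideal.Quotient.mk I)) (↥P ⧸ W)))
  exact (Module.flat_iff_of_isLocalization (A' ⧸ I') (S.map (Ideal.Quotient.mk I))
    (↥P' ⧸ I' • (⊤ : Submodule A' ↥P'))).mpr this

/-- Normal flatness localizes. -/
theorem isNormallyFlat_localized {A : Type u} [CommRing A] (S : Submonoid A) (A' : Type u) [CommRing A'] [Algebra A A']
    [IsLocalization S A'] {N N' : Type u} [AddCommGroup N] [Module A N] [AddCommGroup N'] [Module A N'] [Module A' N']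
    [IsScalarTower A A' N'] (f : N →ₗ[A] N') [IsLocalizedModule S f] {I : Ideal A} (h : EGA4.IsNormallyFlat I N) :
    EGA4.IsNormallyFlat (I.map (algebraMap A A')) N' :=
  isNormallyFlat_localized' S A' f fun n => by
    haveI := h n
    exact Module.Flat.trans (A ⧸ I) (Localization (S.map (Ideal.Quotient.mk I))) _

/-- `(A/I)_p ≅ A_p / I_p`. -/
theorem nonempty_quotient_localized_equiv {A : Type u} [CommRing A] (I : Ideal A) (p : Ideal A) [p.IsPrime] :
    Nonempty (LocalizedModule p.primeCompl (A ⧸ I) ≃ₗ[Localization.AtPrime p]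
      Localization.AtPrime p ⧸ I.map (algebraMap A (Localization.AtPrime p))) := by
  let q : Submodule A A := I
  let f := Algebra.linearMap A (Localization.AtPrime p)
  let g := q.toLocalizedQuotient' (Localization.AtPrime p) p.primeCompl f
  let e0 := IsLocalizedModule.linearEquiv p.primeCompl (LocalizedModule.mkLinearMap p.primeCompl (A ⧸ q)) g
  refine ⟨(e0.extendScalarsOfIsLocalization p.primeCompl (Localization.AtPrime p)).trans (Submodule.quotEquivOfEq _ _ ?_)⟩
  rw [Submodule.localized'_eq_span]
  rfl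

theorem at_prime {A : Type u} [CommRing A] [IsNoetherianRing A] {I : Ideal A} (hI : IsNilpotent I)
    (N : Type u) [AddCommGroup N] [Module A N] [Module.Finite A N] (hsupp : Module.support A N = Set.univ)
    (h : EGA4.IsNormallyFlat I N) (p : Ideal A) [p.IsPrime] :
    Module.supportDim (Localization.AtPrime p) (LocalizedModule p.primeCompl N) =
      Module.supportDim (Localization.AtPrime p) (LocalizedModule p.primeCompl (A ⧸ I)) ∧
    LocCoh.depth (Localization.AtPrime p) (LocalizedModule p.primeCompl N) =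
      LocCoh.depth (Localization.AtPrime p) (LocalizedModule p.primeCompl (A ⧸ I)) := by
  have hI' : IsNilpotent (I.map (algebraMap A (Localization.AtPrime p))) := by
    obtain ⟨c, hc⟩ := hI
    exact ⟨c, by rw [← Ideal.map_pow, hc, Ideal.zero_eq_bot, Ideal.map_bot]; rfl⟩
  haveI : Nontrivial (LocalizedModule p.primeCompl N) :=
    Module.mem_support_iff.mp (show (⟨p, inferInstance⟩ : PrimeSpectrum A) ∈ Module.support A N from hsupp ▸ Set.mem_univ _)
  obtain ⟨h1, h2⟩ := supportDim_depth_eq hI' (LocalizedModule p.primeCompl N)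
    (isNormallyFlat_localized p.primeCompl (Localization.AtPrime p) (LocalizedModule.mkLinearMap p.primeCompl N) h)
  obtain ⟨e⟩ := nonempty_quotient_localized_equiv I p
  rw [h1, h2, Module.supportDim_eq_of_equiv e, H4Depth.depth_congr e, Module.supportDim_quotient_eq_ringKrullDim]
  exact ⟨rfl, rfl⟩

theorem hasSkAt_iff {A : Type u} [CommRing A] [IsNoetherianRing A] {I : Ideal A} (hI : IsNilpotent I)
    (N : Type u) [AddCommGroup N] [Module A N] [Module.Finite A N] (hsupp : Module.support A N = Set.univ)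
    (h : EGA4.IsNormallyFlat I N) (p : Ideal A) [p.IsPrime] (n : ℕ) :
    EGA4.HasSkAt n A N p ↔ EGA4.HasSkAt n A (A ⧸ I) p := by
  have hI' : IsNilpotent (I.map (algebraMap A (Localization.AtPrime p))) := by
    obtain ⟨c, hc⟩ := hI
    exact ⟨c, by rw [← Ideal.map_pow, hc, Ideal.zero_eq_bot, Ideal.map_bot]; rfl⟩
  have hs : Module.support (Localization.AtPrime p) (LocalizedModule p.primeCompl N) = Set.univ :=
    Set.eq_univ_of_forall fun Q =>
      (H4Depth.mem_support_localizedModule_iff p.primeCompl _ (LocalizedModule.mkLinearMap _ N) Q).mpr (hsupp ▸ Set.mem_univ _)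
  obtain ⟨e⟩ := nonempty_quotient_localized_equiv I p
  unfold EGA4.HasSkAt LocCoh.HasSk
  refine forall_congr' fun q => forall_congr' fun hq => ?_
  obtain ⟨h1, h2⟩ := at_prime hI' _ hs
    (isNormallyFlat_localized p.primeCompl (Localization.AtPrime p) (LocalizedModule.mkLinearMap p.primeCompl N) h) q
  let e' : LocalizedModule q.primeCompl (LocalizedModule p.primeCompl (A ⧸ I)) ≃ₗ[Localization.AtPrime q]
      LocalizedModule q.primeCompl (Localization.AtPrime p ⧸ I.map (algebraMap A (Localization.AtPrime p))) :=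
    IsLocalizedModule.mapEquiv q.primeCompl (LocalizedModule.mkLinearMap _ _) (LocalizedModule.mkLinearMap _ _)
      (Localization.AtPrime q) e
  have hd : Module.supportDim (Localization.AtPrime q) (LocalizedModule q.primeCompl (LocalizedModule p.primeCompl (A ⧸ I))) =
      Module.supportDim (Localization.AtPrime q) (LocalizedModule q.primeCompl (Localization.AtPrime p ⧸ I.map (algebraMap A (Localization.AtPrime p)))) := by
    unfold Module.supportDim
    rw [e'.support_eq]
  have hdep : LocCoh.depth (Localization.AtPrime q) (LocalizedModule q.primeCompl (LocalizedModule p.primeCompl (A ⧸ I))) =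
      LocCoh.depth (Localization.AtPrime q) (LocalizedModule q.primeCompl (Localization.AtPrime p ⧸ I.map (algebraMap A (Localization.AtPrime p)))) :=
    H4Depth.depth_congr (R := Localization.AtPrime q) (M := LocalizedModule q.primeCompl (LocalizedModule p.primeCompl (A ⧸ I)))
      (M' := LocalizedModule q.primeCompl (Localization.AtPrime p ⧸ I.map (algebraMap A (Localization.AtPrime p)))) e'
  rw [h1, h2, hd, hdep]

end Groth.Agent.H05EGA4.NormalFlat
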