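import Mathlib

/-! # The top exterior power of a quotient of a projective module by one vector. -/

set_option autoImplicit false
set_option linter.style.haveILetI false

universe u v w

namespace Groth.Agent.H05EGA4.TopExtPower

open Module

variable {R : Type u} [CommRing R] {P : Type v} [AddCommGroup P] [Module R P]
  {F : Type v} [AddCommGroup F] [Module R F]

/-- The ideal of values of linear forms at a vector. -/
def content (v : P) : Ideal R := LinearMap.range (Module.Dual.eval R P v)

theorem mem_content {v : P} {r : R} : r ∈ content v ↔ ∃ φ : P →ₗ[R] R, φ v = r := Iff.rfl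

theorem map_mk {M N : Type v} [AddCommGroup M] [Module R M] [AddCommGroup N] [Module R N] (S : Submonoid R)
    (g : M →ₗ[R] N) (m : M) (s : S) :
    LocalizedModule.map S g (LocalizedModule.mk m s) = LocalizedModule.mk (g m) s :=
  IsLocalizedModule.map_LocalizedModules (S := S) g m s

section Local

variable [Module.Finite R P] [Module.Projective R P]

theorem exists_local_generators {n : ℕ} (p : PrimeSpectrum R) (hp : Module.rankAtStalk P p = n) :
    ∃ (e : Fin n → P) (φ : Fin n → P →ₗ[R] R),
      (∀ x : P, ∃ s ∉ p.asIdeal, s • x ∈ Submodule.span R (Set.range e)) ∧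
      (Matrix.of fun j i => φ i (e j)).det ∉ p.asIdeal := by
  let S := p.asIdeal.primeCompl
  let Rp := Localization.AtPrime p.asIdeal
  let f := LocalizedModule.mkLinearMap S P
  haveI : Module.Free Rp (LocalizedModule S P) := Module.free_of_flat_of_isLocalRing
  let b := Module.finBasisOfFinrankEq Rp (LocalizedModule S P) hp
  have hsurj : ∀ y : LocalizedModule S P, ∃ xs : P × S, xs.2 • y = f xs.1 := IsLocalizedModule.surj S f
  choose xs hxs using hsurj
  let e : Fin n → P := fun j => (xs (b j)).1
  let σ : Fin n → S := fun j => (xs (b j)).2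
  have hspan : ∀ y : LocalizedModule S P, ∃ s : S, ∃ w ∈ Submodule.span R (Set.range e), s • y = f w := by
    intro y
    have hy : y ∈ Submodule.span Rp (Set.range b) := by rw [b.span_eq]; trivial
    induction hy using Submodule.span_induction with
    | mem y hy =>
      obtain ⟨j, rfl⟩ := hy
      exact ⟨σ j, e j, Submodule.subset_span ⟨j, rfl⟩, hxs (b j)⟩
    | zero => exact ⟨1, 0, zero_mem _, by simp⟩
    | add y y' _ _ h h' =>
      obtain ⟨s, w, hw, h⟩ := h
      obtain ⟨s', w', hw', h'⟩ := h'
      refine ⟨s * s', (s' : R) • w + (s : R) • w', add_mem (Submodule.smul_mem _ _ hw) (Submodule.smul_mem _ _ hw'), ?_⟩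
      simp only [Submonoid.smul_def, Submonoid.coe_mul, map_add, map_smul, smul_add, ← h, ← h', smul_smul]
      rw [mul_comm (s' : R)]
    | smul a y _ h =>
      obtain ⟨s, w, hw, h⟩ := h
      obtain ⟨r, t, rfl⟩ := IsLocalization.exists_mk'_eq S a
      refine ⟨t * s, r • w, Submodule.smul_mem _ _ hw, ?_⟩
      simp only [Submonoid.smul_def, Submonoid.coe_mul, map_smul, ← h, smul_smul]
      rw [← IsScalarTower.algebraMap_smul Rp ((t : R) * (s : R)), ← IsScalarTower.algebraMap_smul Rp (r * (s : R)),
        smul_smul, map_mul, map_mul, mul_comm, ← mul_assoc, IsLocalization.mk'_spec]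
  have hc : ∀ i, ∃ (φ : P →ₗ[R] R) (s : S), (Algebra.linearMap R Rp).comp φ =
      (s : R) • ((b.coord i).restrictScalars R ∘ₗ f) := fun i => by
    haveI := Module.finitePresentation_of_projective R P
    obtain ⟨φ, s, h⟩ := Module.FinitePresentation.exists_lift_of_isLocalizedModule S (Algebra.linearMap R Rp)
      ((b.coord i).restrictScalars R ∘ₗ f)
    exact ⟨φ, s, h⟩
  choose φ s hφ using hc
  refine ⟨e, φ, fun x => ?_, ?_⟩
  · obtain ⟨t, w, hw, h⟩ := hspan (f x)
    obtain ⟨c, hc⟩ := IsLocalizedModule.exists_of_eq (S := S) (f := f) (x₁ := (t : R) • x) (x₂ := w)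
      (by rw [map_smul]; exact h)
    refine ⟨(c : R) * (t : R), (c * t).2, ?_⟩
    rw [mul_smul, show (c : R) • ((t : R) • x) = (c : R) • w from hc]
    exact Submodule.smul_mem _ _ hw
  · intro hmem
    have hval : ∀ j i, algebraMap R Rp (φ i (e j)) =
        if j = i then algebraMap R Rp (s i * σ j : S) else 0 := by
      intro j i
      have h1 : algebraMap R Rp (φ i (e j)) = (s i : R) • b.coord i (f (e j)) := LinearMap.congr_fun (hφ i) (e j)
      rw [h1, ← hxs (b j), Submonoid.smul_def, ← IsScalarTower.algebraMap_smul Rp (σ j : R) (b j), map_smul,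
        b.coord_apply, b.repr_self, Finsupp.single_apply]
      split_ifs with h
      · rw [Submonoid.coe_mul, map_mul, smul_eq_mul, mul_one, Algebra.smul_def]
      · simp
    have hd : algebraMap R Rp (Matrix.of fun j i => φ i (e j)).det = algebraMap R Rp (∏ j, (s j * σ j : S) : S) := by
      rw [RingHom.map_det]
      have : (algebraMap R Rp).mapMatrix (Matrix.of fun j i => φ i (e j)) =
          Matrix.diagonal fun j => algebraMap R Rp (s j * σ j : S) := by
        ext j i
        rw [RingHom.mapMatrix_apply, Matrix.map_apply, Matrix.of_apply, hval j i, Matrix.diagonal_apply]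
        split_ifs with h <;> simp [h]
      rw [this, Matrix.det_diagonal, ← map_prod, Submonoid.coe_finset_prod]
    have hu : IsUnit (algebraMap R Rp (Matrix.of fun j i => φ i (e j)).det) := by
      rw [hd]; exact IsLocalization.map_units Rp (∏ j, (s j * σ j) : S)
    exact ((IsLocalization.AtPrime.isUnit_to_map_iff Rp p.asIdeal _).1 hu) hmem

theorem alternating_eq_zero {N : Type w} [AddCommGroup N] [Module R N] {n m : ℕ} (hnm : n < m)
    (hrk : ∀ p, Module.rankAtStalk (R := R) P p = n) (ψ : P [⋀^Fin m]→ₗ[R] N) : ψ = 0 := by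
  ext x
  by_contra hne
  have hne' : Submodule.annihilator (Submodule.span R {ψ x}) ≠ ⊤ := fun h => hne (by
    have h1 : (1 : R) ∈ Submodule.annihilator (Submodule.span R {ψ x}) := h ▸ trivial
    simpa using (Submodule.mem_annihilator_span_singleton _ _).1 h1)
  obtain ⟨M, hM, hle⟩ := Ideal.exists_le_maximal _ hne'
  let p : PrimeSpectrum R := ⟨M, hM.isPrime⟩
  obtain ⟨e, -, hgen, -⟩ := exists_local_generators p (hrk p)
  choose s hs hmem using fun i => hgen (x i)
  let L := Fintype.linearCombination R e
  have hL : ∀ i, ∃ c, L c = s i • x i := fun i => by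
    have h := hmem i
    rwa [← Fintype.range_linearCombination] at h
  choose c hc using hL
  have hz : ψ.compLinearMap L = 0 := Module.Basis.ext_alternating (Pi.basisFun R (Fin n)) fun v hv =>
    absurd (Fintype.card_le_of_injective v hv) (by simpa using hnm)
  have h1 : (∏ i, s i) • ψ x = 0 := by
    rw [← ψ.map_smul_univ, show (fun i => s i • x i) = fun i => L (c i) from funext fun i => (hc i).symm]
    exact congr($hz c)
  have h2 : (∏ i, s i) ∈ M := hle ((Submodule.mem_annihilator_span_singleton _ _).2 h1)
  obtain ⟨i, -, hi⟩ := hM.isPrime.prod_mem_iff.1 h2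
  exact hs i hi

theorem annihilator_extPower {n : ℕ} (hrk : ∀ p, Module.rankAtStalk (R := R) P p = n) (q : P →ₗ[R] F)
    (hq : Function.Surjective q) (v : P) (hker : LinearMap.ker q = Submodule.span R {v}) :
    (⋀[R]^n F).annihilator = content v := by
  have hqv : q v = 0 := by rw [← LinearMap.mem_ker, hker]; exact Submodule.mem_span_singleton_self v
  refine le_antisymm (fun a ha => ?_) ?_
  · by_contra haJ
    have hne : (content v).colon (Ideal.span {a} : Set R) ≠ ⊤ := fun h => haJ (by
      have h1 : (1 : R) ∈ (content v).colon (Ideal.span {a} : Set R) := h ▸ trivial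
      simpa using Submodule.mem_colon.1 h1 a (Ideal.mem_span_singleton_self a))
    obtain ⟨M, hM, hle⟩ := Ideal.exists_le_maximal _ hne
    let p : PrimeSpectrum R := ⟨M, hM.isPrime⟩
    obtain ⟨e, φ, -, hdet⟩ := exists_local_generators p (hrk p)
    refine hdet (hle (Submodule.mem_colon.2 ?_))
    intro t ht
    obtain ⟨r, rfl⟩ := Ideal.mem_span_singleton'.1 ht
    let Φ : P →ₗ[R] Fin n → R ⧸ content v :=
      LinearMap.pi fun i => (Ideal.Quotient.mkₐ R (content v)).toLinearMap ∘ₗ φ i
    have hΦ : LinearMap.ker q ≤ LinearMap.ker Φ := by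
      rw [hker, Submodule.span_singleton_le_iff_mem, LinearMap.mem_ker]
      ext i
      exact Ideal.Quotient.eq_zero_iff_mem.2 ⟨φ i, rfl⟩
    let Φ' : F →ₗ[R] Fin n → R ⧸ content v :=
      (LinearMap.ker q).liftQ Φ hΦ ∘ₗ (q.quotKerEquivOfSurjective hq).symm.toLinearMap
    have hΦ' : ∀ x, Φ' (q x) = Φ x := fun x => by
      have h1 : (q.quotKerEquivOfSurjective hq).symm (q x) = Submodule.Quotient.mk x := by
        rw [LinearEquiv.symm_apply_eq]; rfl
      simp [Φ', h1]
    let D : (Fin n → R ⧸ content v) [⋀^Fin n]→ₗ[R] (R ⧸ content v) :=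
      { (Matrix.detRowAlternating (R := R ⧸ content v) (n := Fin n)).toMultilinearMap.restrictScalars R with
        map_eq_zero_of_eq' := fun x i j h hij => Matrix.detRowAlternating.map_eq_zero_of_eq x h hij }
    let l : ↥(⋀[R]^n F) →ₗ[R] R ⧸ content v := exteriorPower.alternatingMapLinearEquiv (D.compLinearMap Φ')
    have h0 : l (a • exteriorPower.ιMulti R n fun j => q (e j)) = 0 := by
      rw [Module.mem_annihilator.1 ha, map_zero]
    have h1 : l (exteriorPower.ιMulti R n fun j => q (e j)) =
        Ideal.Quotient.mk (content v) (Matrix.of fun j i => φ i (e j)).det := by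
      rw [exteriorPower.alternatingMapLinearEquiv_apply_ιMulti]
      show Matrix.det (Matrix.of fun j => Φ' (q (e j))) = _
      rw [RingHom.map_det]
      congr 1
      ext j i
      simp [hΦ', Φ]
    rw [map_smul, h1, Algebra.smul_def, Ideal.Quotient.algebraMap_eq, ← map_mul, Ideal.Quotient.eq_zero_iff_mem] at h0
    rw [smul_eq_mul, show (Matrix.of fun j i => φ i (e j)).det * (r * a) =
      r * (a * (Matrix.of fun j i => φ i (e j)).det) by ring]
    exact Ideal.mul_mem_left _ _ h0
  · rintro r ⟨φ, rfl⟩
    show φ v ∈ _
    rw [Module.mem_annihilator]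
    intro z
    have hz : z ∈ Submodule.span R (Set.range (exteriorPower.ιMulti R n (M := F))) := by
      rw [exteriorPower.ιMulti_span]; trivial
    induction hz using Submodule.span_induction with
    | mem z hz =>
      obtain ⟨y, rfl⟩ := hz
      choose x hx using fun i => hq (y i)
      let ω : P [⋀^Fin n]→ₗ[R] ↥(⋀[R]^n F) := (exteriorPower.ιMulti R n).compLinearMap q
      have h0 := congr($(alternating_eq_zero (Nat.lt_succ_self n) hrk
        (AlternatingMap.alternatizeUncurryFin (φ.smulRight ω))) (Fin.cons v x))
      rw [AlternatingMap.alternatizeUncurryFin_apply, Fin.sum_univ_succ, Finset.sum_eq_zero, add_zero] at h0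
      · simpa [ω, funext hx] using h0
      · intro i _
        rcases n with - | n
        · exact i.elim0
        have : ω (Fin.removeNth (α := fun _ => P) i.succ (Fin.cons v x)) = 0 := by
          refine (exteriorPower.ιMulti R (n + 1) (M := F)).map_coord_zero 0 ?_
          simp [Fin.removeNth, hqv]
        simp [this]
    | zero => simp
    | add _ _ _ _ h h' => rw [smul_add, h, h', add_zero]
    | smul c _ _ h => rw [smul_comm, h, smul_zero]

end Local

theorem free_localized_of_not_mem [Module.Finite R P] [Module.Projective R P] (q : P →ₗ[R] F)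
    (hq : Function.Surjective q) (v : P) (hker : LinearMap.ker q = Submodule.span R {v}) (p : PrimeSpectrum R)
    (φ : P →ₗ[R] R) (hφ : φ v ∉ p.asIdeal) : p ∈ Module.freeLocus R F := by
  let g : P →ₗ[R] P := φ v • LinearMap.id - φ.smulRight v
  have hg : LinearMap.ker q ≤ LinearMap.ker g := by
    rw [hker, Submodule.span_singleton_le_iff_mem, LinearMap.mem_ker]
    simp [g]
  let h : F →ₗ[R] P := (LinearMap.ker q).liftQ g hg ∘ₗ (q.quotKerEquivOfSurjective hq).symm.toLinearMap
  have hqh : q ∘ₗ h = φ v • LinearMap.id := by
    refine LinearMap.ext fun y => ?_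
    obtain ⟨x, rfl⟩ := hq y
    have h1 : (q.quotKerEquivOfSurjective hq).symm (q x) = Submodule.Quotient.mk x := by
      rw [LinearEquiv.symm_apply_eq]; rfl
    have hqv : q v = 0 := by rw [← LinearMap.mem_ker, hker]; exact Submodule.mem_span_singleton_self v
    simp [h, h1, g, hqv]
  haveI : Module.Finite R F := Module.Finite.of_surjective q hq
  let S := p.asIdeal.primeCompl
  let Rp := Localization.AtPrime p.asIdeal
  have hu : IsUnit (algebraMap R Rp (φ v)) := IsLocalization.map_units Rp (⟨φ v, hφ⟩ : S)
  obtain ⟨u, hu⟩ := hu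
  let qp : LocalizedModule S P →ₗ[Rp] LocalizedModule S F := LocalizedModule.map S q
  let hp : LocalizedModule S F →ₗ[Rp] LocalizedModule S P := LocalizedModule.map S h
  have hcomp : ∀ y, qp (hp y) = (u : Rp) • y := by
    intro y
    induction y using LocalizedModule.induction_on with
    | h m s =>
      rw [show hp (LocalizedModule.mk m s) = LocalizedModule.mk (h m) s from map_mk S h m s,
        show qp (LocalizedModule.mk (h m) s) = LocalizedModule.mk (q (h m)) s from map_mk S q (h m) s]
      simp only [hu, IsScalarTower.algebraMap_smul, LocalizedModule.smul'_mk]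
      exact congrArg (LocalizedModule.mk · s) (LinearMap.congr_fun hqh m)
  haveI : Module.Free Rp (LocalizedModule S P) := Module.free_of_flat_of_isLocalRing
  have hsplit : qp ∘ₗ ((↑u⁻¹ : Rp) • hp) = LinearMap.id := LinearMap.ext fun y => by
    simp [hcomp, smul_smul]
  haveI : Module.Projective Rp (LocalizedModule S F) := Module.Projective.of_split _ qp hsplit
  exact Module.free_of_flat_of_isLocalRing

/-- If the quotient is free at `p` and the vector has content inside `p`, the vector vanishes at `p`. -/
theorem exists_smul_eq_zero_of_free [Module.Finite R P] [Module.Projective R P] (q : P →ₗ[R] F)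
    (hq : Function.Surjective q) (v : P) (hker : LinearMap.ker q = Submodule.span R {v}) (p : PrimeSpectrum R)
    (hJ : content v ≤ p.asIdeal) (hF : p ∈ Module.freeLocus R F) : ∃ s ∉ p.asIdeal, s • v = 0 := by
  let S := p.asIdeal.primeCompl
  let Rp := Localization.AtPrime p.asIdeal
  haveI : Module.Free Rp (LocalizedModule S F) := hF
  haveI : Module.Free Rp (LocalizedModule S P) := Module.free_of_flat_of_isLocalRing
  let qp : LocalizedModule S P →ₗ[Rp] LocalizedModule S F := LocalizedModule.map S q
  have hqp : Function.Surjective qp := fun y => by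
    induction y using LocalizedModule.induction_on with
    | h m s => obtain ⟨x, rfl⟩ := hq m; exact ⟨LocalizedModule.mk x s, map_mk S q x s⟩
  obtain ⟨σ, hσ⟩ := Module.projective_lifting_property qp LinearMap.id hqp
  let w : LocalizedModule S P := LocalizedModule.mkLinearMap S P v
  let π : LocalizedModule S P →ₗ[Rp] LocalizedModule S P := LinearMap.id - σ ∘ₗ qp
  have hw : qp w = 0 := by
    have hqv : q v = 0 := by rw [← LinearMap.mem_ker, hker]; exact Submodule.mem_span_singleton_self v
    refine (map_mk S q v 1).trans ?_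
    rw [hqv, LocalizedModule.zero_mk]
  have hπ : ∀ y, ∃ c : Rp, π y = c • w := by
    intro y
    have h0 : qp (π y) = 0 := by
      have := LinearMap.congr_fun hσ (qp y)
      simp only [LinearMap.comp_apply, LinearMap.id_apply] at this
      simp [π, map_sub, this]
    generalize π y = z at h0
    induction z using LocalizedModule.induction_on with
    | h m s =>
      rw [show qp (LocalizedModule.mk m s) = LocalizedModule.mk (q m) s from map_mk S q m s,
        ← LocalizedModule.zero_mk s, LocalizedModule.mk_eq] at h0
      obtain ⟨t, ht⟩ := h0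
      simp only [smul_zero, Submonoid.smul_def] at ht
      have h1 : ((t : R) * (s : R)) • m ∈ Submodule.span R {v} := by
        rw [← hker, LinearMap.mem_ker, map_smul, mul_smul, ht]
      obtain ⟨r, hr⟩ := Submodule.mem_span_singleton.1 h1
      refine ⟨IsLocalization.mk' Rp r ((t * s) * s), ?_⟩
      rw [show w = LocalizedModule.mk v 1 from rfl, ← Localization.mk_eq_mk', LocalizedModule.mk_smul_mk, hr, mul_one,
        LocalizedModule.mk_eq]
      exact ⟨1, by simp [Submonoid.smul_def, smul_smul, mul_comm, mul_left_comm]⟩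
  have hπw : π w = w := by simp [π, hw]
  let b := Module.Free.chooseBasis Rp (LocalizedModule S P)
  choose c hc using fun i => hπ (b i)
  have hcoord : ∀ i, b.coord i w ∈ IsLocalRing.maximalIdeal Rp := by
    intro i
    haveI := Module.finitePresentation_of_projective R P
    obtain ⟨φ, s, h⟩ := Module.FinitePresentation.exists_lift_of_isLocalizedModule S (Algebra.linearMap R Rp)
      ((b.coord i).restrictScalars R ∘ₗ LocalizedModule.mkLinearMap S P)
    have h1 : algebraMap R Rp (φ v) = (s : R) • b.coord i w := LinearMap.congr_fun h v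
    rw [Algebra.smul_def] at h1
    rw [← Ideal.unit_mul_mem_iff_mem _ (IsLocalization.map_units Rp s), ← h1,
      ← IsLocalization.AtPrime.map_eq_maximalIdeal p.asIdeal Rp]
    exact Ideal.mem_map_of_mem _ (hJ ⟨φ, rfl⟩)
  have hsum : w = (∑ i, b.coord i w * c i) • w := by
    calc w = π (∑ i, b.coord i w • b i) := by rw [show (∑ i, b.coord i w • b i) = w from b.sum_repr w, hπw]
      _ = _ := by rw [map_sum, Finset.sum_smul]; exact Finset.sum_congr rfl fun i _ => by rw [map_smul, hc, smul_smul]
  have hu : IsUnit (1 - ∑ i, b.coord i w * c i) :=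
    IsLocalRing.isUnit_one_sub_self_of_mem_nonunits _
      (Submodule.sum_mem _ fun i _ => Ideal.mul_mem_right _ _ (hcoord i))
  have hw0 : w = 0 := by
    refine hu.smul_eq_zero.1 ?_
    rw [sub_smul, one_smul, ← hsum, sub_self]
  obtain ⟨s, hs⟩ := IsLocalizedModule.exists_of_eq (S := S) (f := LocalizedModule.mkLinearMap S P)
    (x₁ := v) (x₂ := 0) (hw0.trans (map_zero _).symm)
  exact ⟨s, s.2, by simpa [Submonoid.smul_def] using hs⟩

end Groth.Agent.H05EGA4.TopExtPower
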