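import Mathlib
import Groth.Agent.H05EGA4.TopExtPower

/-! # Kähler differentials of a hypersurface in a smooth algebra. -/

set_option autoImplicit false
set_option linter.style.haveILetI false

universe u

open TensorProduct KaehlerDifferential

namespace Groth.Agent.H05EGA4.HypersurfaceKaehler

variable (A B R : Type u) [CommRing A] [CommRing B] [CommRing R]
    [Algebra A B] [Algebra B R] [Algebra A R] [IsScalarTower A B R]

/-- The extension given by a surjection. -/
noncomputable abbrev ext (hsurj : Function.Surjective (algebraMap B R)) : Algebra.Extension A R where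
  Ring := B
  σ := Function.surjInv hsurj
  algebraMap_σ := Function.surjInv_eq hsurj

/-- The differential of the equation. -/
noncomputable def dg (g : B) : R ⊗[B] Ω[B⁄A] := 1 ⊗ₜ KaehlerDifferential.D A B g

variable {A B R}
variable (hsurj : Function.Surjective (algebraMap B R)) {g : B}
    (hker : RingHom.ker (algebraMap B R) = Ideal.span {g})

/-- The class of the equation in the conormal module. -/
noncomputable def gen : (ext A B R hsurj).Cotangent :=
  Algebra.Extension.Cotangent.mk
    ⟨g, show g ∈ RingHom.ker (algebraMap B R) from hker ▸ Ideal.mem_span_singleton_self g⟩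

theorem cotangentComplex_gen : (ext A B R hsurj).cotangentComplex (gen hsurj hker) = dg A B R g := rfl

theorem exists_smul_gen (x : (ext A B R hsurj).Cotangent) : ∃ r : R, x = r • gen hsurj hker := by
  obtain ⟨⟨y, hy⟩, rfl⟩ := Algebra.Extension.Cotangent.mk_surjective x
  obtain ⟨b, rfl⟩ := Ideal.mem_span_singleton'.1 (show y ∈ Ideal.span {g} from hker ▸ hy)
  refine ⟨algebraMap (ext A B R hsurj).Ring R b, ?_⟩
  rw [gen, algebraMap_smul, ← map_smul]
  rfl

theorem smul_gen_eq_zero (hg : IsSMulRegular B g) {r : R} (h : r • gen (A := A) hsurj hker = 0) : r = 0 := by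
  obtain ⟨b, rfl⟩ : ∃ b : B, algebraMap B R b = r := hsurj r
  rw [gen, algebraMap_smul, ← map_smul, Algebra.Extension.Cotangent.mk_eq_zero_iff] at h
  have h' : b * g ∈ RingHom.ker (algebraMap B R) ^ 2 := h
  rw [hker, Ideal.span_singleton_pow, Ideal.mem_span_singleton'] at h'
  obtain ⟨c, hc⟩ := h'
  have hb : b = c * g := hg (show g * b = g * (c * g) by rw [mul_comm g b, ← hc]; ring)
  show algebraMap B R b = 0
  rw [← RingHom.mem_ker, hker, Ideal.mem_span_singleton']
  exact ⟨c, hb.symm⟩

include hsurj hker in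
theorem ker_mapBaseChange :
    LinearMap.ker (mapBaseChange A B R) = Submodule.span R {dg A B R g} := by
  refine le_antisymm (fun y hy => ?_) ?_
  · obtain ⟨x, rfl⟩ := ((ext A B R hsurj).exact_cotangentComplex_toKaehler y).1 hy
    obtain ⟨r, rfl⟩ := exists_smul_gen hsurj hker x
    rw [map_smul, cotangentComplex_gen]
    exact Submodule.smul_mem _ _ (Submodule.mem_span_singleton_self _)
  · rw [Submodule.span_singleton_le_iff_mem, LinearMap.mem_ker, dg, mapBaseChange_tmul, one_smul,
      KaehlerDifferential.map_D, show algebraMap B R g = 0 from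
        RingHom.mem_ker.1 (hker ▸ Ideal.mem_span_singleton_self g), map_zero]

include hsurj in
theorem content_dg [Module.Projective B (Ω[B⁄A])] (g : B) :
    TopExtPower.content (dg A B R g) =
      Ideal.span (Set.range fun φ : Ω[B⁄A] →ₗ[B] B => algebraMap B R (φ (KaehlerDifferential.D A B g))) := by
  refine le_antisymm ?_ (Ideal.span_le.2 ?_)
  · rintro r ⟨φ, rfl⟩
    obtain ⟨ψ, hψ⟩ := Module.projective_lifting_property (Algebra.linearMap B R)
      ((φ.restrictScalars B) ∘ₗ (TensorProduct.mk B R (Ω[B⁄A]) 1)) hsurj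
    exact Ideal.subset_span ⟨ψ, LinearMap.congr_fun hψ _⟩
  · rintro _ ⟨ψ, rfl⟩
    refine ⟨LinearMap.liftBaseChange R ((Algebra.linearMap B R) ∘ₗ ψ), ?_⟩
    simp [dg]

include hsurj hker in
theorem annihilator_extPower [Algebra.Smooth A B] (n : ℕ)
    (hn : ∀ p : PrimeSpectrum B, Module.rankAtStalk (Ω[B⁄A]) p = n) :
    (⋀[R]^n (Ω[R⁄A])).annihilator = TopExtPower.content (dg A B R g) :=
  TopExtPower.annihilator_extPower (fun p => by rw [Module.rankAtStalk_baseChange]; exact hn _)
    (mapBaseChange A B R) (mapBaseChange_surjective _ _ _ hsurj) _ (ker_mapBaseChange hsurj hker)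

include hsurj hker in
theorem mem_smoothLocus_iff [Algebra.Smooth A B] (hg : IsSMulRegular B g) (p : PrimeSpectrum R) :
    p ∈ Algebra.smoothLocus A R ↔ ¬ TopExtPower.content (dg A B R g) ≤ p.asIdeal := by
  haveI : Algebra.FiniteType B R := Algebra.FiniteType.of_surjective (Algebra.ofId B R) hsurj
  haveI : Algebra.FiniteType A R := Algebra.FiniteType.trans (inferInstance : Algebra.FiniteType A B) inferInstance
  haveI : Algebra.FormallySmooth A (ext A B R hsurj).Ring := inferInstanceAs (Algebra.FormallySmooth A B)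
  rw [Algebra.smoothLocus_eq_compl_support_inter, Set.mem_inter_iff, Set.mem_compl_iff,
    Module.notMem_support_iff']
  let E := ext A B R hsurj
  let e : E.H1Cotangent ≃ₗ[R] Algebra.H1Cotangent A R := E.equivH1CotangentOfFormallySmooth
  constructor
  · rintro ⟨hH, hF⟩ hJ
    obtain ⟨s, hs, hsv⟩ := TopExtPower.exists_smul_eq_zero_of_free (mapBaseChange A B R)
      (mapBaseChange_surjective _ _ _ hsurj) _ (ker_mapBaseChange hsurj hker) p hJ hF
    have hx : E.cotangentComplex (s • gen hsurj hker) = 0 := by
      rw [map_smul, cotangentComplex_gen]; exact hsv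
    obtain ⟨r, hr, hrx⟩ := hH (e ⟨s • gen hsurj hker, hx⟩)
    rw [← map_smul, LinearEquiv.map_eq_zero_iff] at hrx
    have h2 : r • s • gen (A := A) hsurj hker = 0 := congrArg Subtype.val hrx
    rw [smul_smul] at h2
    have h3 := smul_gen_eq_zero hsurj hker hg h2
    exact (p.2.mem_or_mem (h3 ▸ zero_mem _ : r * s ∈ p.asIdeal)).elim hr hs
  · intro hJ
    obtain ⟨_, ⟨φ, rfl⟩, hφ⟩ := SetLike.not_le_iff_exists.1 hJ
    refine ⟨fun m => ⟨φ (dg A B R g), hφ, ?_⟩, TopExtPower.free_localized_of_not_mem (mapBaseChange A B R)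
      (mapBaseChange_surjective _ _ _ hsurj) _ (ker_mapBaseChange hsurj hker) p φ hφ⟩
    obtain ⟨⟨x, hx⟩, rfl⟩ := e.surjective m
    rw [← map_smul, LinearEquiv.map_eq_zero_iff]
    obtain ⟨r, rfl⟩ := exists_smul_gen hsurj hker x
    have hx' : r • dg A B R g = 0 := by
      have h0 : E.cotangentComplex (r • gen hsurj hker) = 0 := hx
      rwa [map_smul, cotangentComplex_gen] at h0
    refine Subtype.ext ?_
    show φ (dg A B R g) • r • gen (A := A) hsurj hker = 0
    have h1 : φ (dg A B R g) * r = 0 := by
      rw [mul_comm, ← smul_eq_mul, ← map_smul, hx', map_zero]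
    rw [smul_smul, h1, zero_smul]

end Groth.Agent.H05EGA4.HypersurfaceKaehler
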