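import Mathlib
import Groth.Prelude.Def_EGA41
import Groth.Agent.H05EGA4.PBasis

/-!
The basis of the module of imperfection attached to `p`-bases.
-/

set_option autoImplicit false
set_option linter.style.haveILetI false
set_option maxHeartbeats 1000000
universe u v
open EGA41 TensorProduct Groth.Agent.H05EGA4

namespace Groth.Agent.H05EGA4.ImperfectionBasis

variable (p : ℕ) [Fact p.Prime] {R A B : Type u} [CommRing R] [CommRing A] [CommRing B] [IsReduced B] [Algebra R A]
  [Algebra A B] [Algebra R B] [IsScalarTower R A B] [CharP B p]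

theorem adjoin_x_eq_top (hpow : ∀ b : B, b ^ p ∈ Set.range (algebraMap A B)) {Λ : Type u} {x : Λ → B}
    (hx : IsPGenerating p A x) : Algebra.adjoin A (Set.range x) = ⊤ := by
  refine eq_top_iff.mpr fun b _ => ?_
  have hb : b ∈ Algebra.adjoin (pPowerSubalgebra p A B) (Set.range x) :=
    (PBasis.isPGenerating_iff p x).1 hx ▸ Algebra.mem_top
  induction hb using Algebra.adjoin_induction with
  | mem y hy => exact Algebra.subset_adjoin hy
  | algebraMap r =>
    refine (?_ : pPowerSubalgebra p A B ≤ Algebra.adjoin A (Set.range x)) r.2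
    refine Algebra.adjoin_le ?_
    rintro _ ⟨c, rfl⟩
    obtain ⟨a, ha⟩ := hpow c
    show c ^ p ∈ Algebra.adjoin A (Set.range x)
    rw [← ha]
    exact Subalgebra.algebraMap_mem _ a
  | add y z _ _ hy hz => exact add_mem (hy trivial) (hz trivial)
  | mul y z _ _ hy hz => exact mul_mem (hy trivial) (hz trivial)

theorem exists_extend_to_B (hinj : Function.Injective (algebraMap A B))
    (hpow : ∀ b : B, b ^ p ∈ Set.range (algebraMap A B)) {Λ : Type u} {x : Λ → B} (hx : IsPBasis p A x)
    {L : Type v} [AddCommGroup L] [Module B L] [Module A L] [IsScalarTower A B L]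
    (D : Derivation ℤ A L) (hD : ∀ (a : A) (b : B), algebraMap A B a = b ^ p → D a = 0) (y : Λ → L) :
    ∃ D' : Derivation ℤ B L, (∀ a, D' (algebraMap A B a) = D a) ∧ ∀ i, D' (x i) = y i := by
  refine PBasis.exists_extend p hpow x ?_ ?_ D hD y
  · refine hx.1.restrict_scalars fun a a' h => hinj ?_
    rw [Algebra.algebraMap_eq_smul_one, Algebra.algebraMap_eq_smul_one]
    simpa [Subtype.ext_iff, Subalgebra.smul_def, Algebra.smul_def] using h
  · rw [PBasis.span_eq_adjoin p hpow x, Algebra.toSubmodule_eq_top]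
    exact adjoin_x_eq_top p hpow hx.2

theorem exists_root_of_mem (hinj : Function.Injective (algebraMap A B))
    (hR : Set.range (algebraMap R B) = Set.range fun b : B => b ^ p) {a : A} (ha : a ∈ pPowerSubalgebra p R A) :
    ∃ b : B, b ^ p = algebraMap A B a := by
  haveI : ExpChar B p := ExpChar.prime Fact.out
  induction ha using Algebra.adjoin_induction with
  | mem z hz => obtain ⟨c, rfl⟩ := hz; exact ⟨algebraMap A B c, (map_pow _ _ _).symm⟩
  | algebraMap r =>
    obtain ⟨b, hb⟩ := (hR ▸ Set.mem_range_self r : algebraMap R B r ∈ Set.range fun b : B => b ^ p)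
    exact ⟨b, hb.trans (IsScalarTower.algebraMap_apply R A B r)⟩
  | add y z _ _ hy hz =>
    obtain ⟨b, hb⟩ := hy; obtain ⟨c, hc⟩ := hz
    exact ⟨b + c, by rw [add_pow_expChar, hb, hc, map_add]⟩
  | mul y z _ _ hy hz =>
    obtain ⟨b, hb⟩ := hy; obtain ⟨c, hc⟩ := hz
    exact ⟨b * c, by rw [mul_pow, hb, hc, map_mul]⟩

theorem mem_of_root (hinj : Function.Injective (algebraMap A B))
    (hR : Set.range (algebraMap R B) = Set.range fun b : B => b ^ p) {a : A} {b : B}
    (h : algebraMap A B a = b ^ p) : a ∈ pPowerSubalgebra p R A := by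
  obtain ⟨r, hr⟩ := (hR ▸ ⟨b, rfl⟩ : b ^ p ∈ Set.range (algebraMap R B))
  have : a = algebraMap R A r := hinj (by rw [h, ← hr, IsScalarTower.algebraMap_apply R A B])
  exact this ▸ Subalgebra.algebraMap_mem _ r

theorem derivation_kills_roots (hinj : Function.Injective (algebraMap A B))
    (hpow : ∀ b : B, b ^ p ∈ Set.range (algebraMap A B)) {Λ : Type u} {x : Λ → B} (hx : IsPGenerating p A x)
    {x' : Λ → A} (hx' : ∀ i, algebraMap A B (x' i) = x i ^ p) {L : Type v} [AddCommGroup L] [Module A L]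
    (D : Derivation ℤ A L) (h : ∀ i, D (x' i) = 0) (b : B) :
    ∀ a : A, algebraMap A B a = b ^ p → D a = 0 := by
  haveI : CharP A p := (RingHom.charP_iff (algebraMap A B) hinj p).mpr inferInstance
  haveI : ExpChar B p := ExpChar.prime Fact.out
  have hb : b ∈ Algebra.adjoin A (Set.range x) := adjoin_x_eq_top p hpow hx ▸ Algebra.mem_top
  induction hb using Algebra.adjoin_induction with
  | mem z hz =>
    obtain ⟨i, rfl⟩ := hz
    intro a ha
    rw [hinj (ha.trans (hx' i).symm)]
    exact h i
  | algebraMap c =>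
    intro a ha
    rw [← map_pow] at ha
    rw [hinj ha, Derivation.leibniz_pow, ← Nat.cast_smul_eq_nsmul A, CharP.cast_eq_zero, zero_smul]
  | add y z _ _ hy hz =>
    intro a ha
    obtain ⟨a₁, h₁⟩ := hpow y; obtain ⟨a₂, h₂⟩ := hpow z
    rw [add_pow_expChar, ← h₁, ← h₂, ← map_add] at ha
    rw [hinj ha, map_add, hy _ h₁, hz _ h₂, add_zero]
  | mul y z _ _ hy hz =>
    intro a ha
    obtain ⟨a₁, h₁⟩ := hpow y; obtain ⟨a₂, h₂⟩ := hpow z
    rw [mul_pow, ← h₁, ← h₂, ← map_mul] at ha
    rw [hinj ha, Derivation.leibniz, hy _ h₁, hz _ h₂, smul_zero, smul_zero, add_zero]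

theorem exists_frobDerivation (p : ℕ) [Fact p.Prime] {A B P : Type u} [CommRing A] [CommRing B] [CommRing P] [CharP B p]
    [Algebra A B] [Algebra P B] (E : Derivation A B B) (root : P → B) (hroot : ∀ s, root s ^ p = algebraMap P B s)
    (hfrob : ∀ b c : B, b ^ p = c ^ p → b = c) :
    ∃ δ : Derivation ℤ P B, ∀ s, δ s = E (root s) ^ p := by
  haveI : ExpChar B p := ExpChar.prime Fact.out
  let f : P →+ B := AddMonoidHom.mk' (fun s => E (root s) ^ p) fun s t => by
    rw [hfrob (root (s + t)) (root s + root t) (by rw [add_pow_expChar, hroot, hroot, hroot, map_add]), map_add,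
      add_pow_expChar]
  refine ⟨Derivation.mk' f.toIntLinearMap fun s t => ?_, fun s => rfl⟩
  show E (root (s * t)) ^ p = s • E (root t) ^ p + t • E (root s) ^ p
  rw [hfrob (root (s * t)) (root s * root t) (by rw [mul_pow, hroot, hroot, hroot, map_mul]), E.leibniz, smul_eq_mul,
    smul_eq_mul, add_pow_expChar, mul_pow, mul_pow, hroot, hroot, Algebra.smul_def, Algebra.smul_def]

theorem exists_basis (hinj : Function.Injective (algebraMap A B))
    (hpow : ∀ b : B, b ^ p ∈ Set.range (algebraMap A B))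
    (hR : Set.range (algebraMap R B) = Set.range fun b : B => b ^ p)
    {Λ M : Type u} (x : Λ → B) (hx : IsPBasis p A x) (x' : Λ → A) (hx' : ∀ i, algebraMap A B (x' i) = x i ^ p)
    (y : M → A) (hy : IsPBasis p R y) :
    ∃ b : Module.Basis Λ B (imperfection ℤ A B),
      ∀ i, (b i : B ⊗[A] Ω[A⁄ℤ]) = (1 : B) ⊗ₜ[A] KaehlerDifferential.D ℤ A (x' i) := by
  classical
  haveI : CharP A p := (RingHom.charP_iff (algebraMap A B) hinj p).mpr inferInstance
  haveI : ExpChar B p := ExpChar.prime Fact.out
  let P := pPowerSubalgebra p R A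
  have hliy : LinearIndependent P (fun e : {e : M →₀ ℕ // ∀ i, e i < p} => pMonomial y e.1) := hy.1
  have hgeny : Submodule.span P (Set.range fun e : {e : M →₀ ℕ // ∀ i, e i < p} => pMonomial y e.1) = ⊤ := hy.2
  have hxP : ∀ i, x' i ∈ P := fun i => mem_of_root p hinj hR (hx' i)
  -- functionals dual to the `dx'`
  have hfun1 : ∀ l : Λ, ∃ φ : B ⊗[A] Ω[A⁄ℤ] →ₗ[B] B,
      ∀ i, φ ((1 : B) ⊗ₜ KaehlerDifferential.D ℤ A (x' i)) = if i = l then 1 else 0 := by
    intro l
    obtain ⟨E, hE⟩ := PBasis.exists_derivation p hx (L := B) (fun i => if i = l then 1 else 0)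
    choose root hroot using fun s : P => exists_root_of_mem p hinj hR s.2
    have hfrob : ∀ b c : B, b ^ p = c ^ p → b = c := fun b c h => by
      refine sub_eq_zero.mp (eq_zero_of_pow_eq_zero (n := p) ?_)
      rw [sub_pow_expChar, h, sub_self]
    obtain ⟨δ, hδ⟩ := exists_frobDerivation p (P := P) E root hroot hfrob
    obtain ⟨D, hD, -⟩ := PBasis.exists_extend (A := P) (B := A) p (PBasis.pow_mem_pPow p) y hliy hgeny δ
      (fun s a hs => by
        rw [hδ]
        rw [hfrob (root s) (algebraMap A B a) (by rw [hroot, ← map_pow, ← hs]; rfl), Derivation.map_algebraMap,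
          zero_pow (Fact.out : p.Prime).ne_zero]) (fun _ => (0 : B))
    refine ⟨D.liftKaehlerDifferential.liftBaseChange B, fun i => ?_⟩
    rw [LinearMap.liftBaseChange_tmul, one_smul, Derivation.liftKaehlerDifferential_comp_D,
      show D (x' i) = δ ⟨x' i, hxP i⟩ from hD ⟨x' i, hxP i⟩]
    rw [hδ]
    rw [hfrob (root ⟨x' i, hxP i⟩) (x i) (by rw [hroot]; exact hx' i), hE]
    split_ifs
    · exact one_pow p
    · exact zero_pow (Fact.out : p.Prime).ne_zero
  -- functionals dual to the `dy`
  have hfun2 : ∀ m : M, ∃ φ : B ⊗[A] Ω[A⁄ℤ] →ₗ[B] B,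
      (∀ z ∈ imperfection ℤ A B, φ z = 0) ∧ (∀ i, φ ((1 : B) ⊗ₜ KaehlerDifferential.D ℤ A (x' i)) = 0) ∧
      ∀ j, φ ((1 : B) ⊗ₜ KaehlerDifferential.D ℤ A (y j)) = if j = m then 1 else 0 := by
    intro m
    obtain ⟨D, hD, hDy⟩ := PBasis.exists_extend (A := P) (B := A) p (PBasis.pow_mem_pPow p) y hliy hgeny
      (0 : Derivation ℤ P B) (fun _ _ _ => rfl) (fun j => if j = m then 1 else 0)
    have hDP : ∀ a ∈ P, D a = 0 := fun a ha => hD ⟨a, ha⟩
    obtain ⟨D', hD', -⟩ := exists_extend_to_B p hinj hpow hx D (fun a b h => hDP a (mem_of_root p hinj hR h))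
      (fun _ => (0 : B))
    have key : ∀ z : B ⊗[A] Ω[A⁄ℤ], D.liftKaehlerDifferential.liftBaseChange B z =
        D'.liftKaehlerDifferential (KaehlerDifferential.mapBaseChange ℤ A B z) := by
      refine LinearMap.congr_fun (f := D.liftKaehlerDifferential.liftBaseChange B)
        (g := D'.liftKaehlerDifferential ∘ₗ KaehlerDifferential.mapBaseChange ℤ A B) ?_
      refine (LinearMap.liftBaseChangeEquiv B).symm.injective ?_
      refine Derivation.liftKaehlerDifferential_unique _ _ (Derivation.ext fun a => ?_)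
      show D.liftKaehlerDifferential.liftBaseChange B ((1 : B) ⊗ₜ KaehlerDifferential.D ℤ A a) =
        D'.liftKaehlerDifferential (KaehlerDifferential.mapBaseChange ℤ A B ((1 : B) ⊗ₜ KaehlerDifferential.D ℤ A a))
      rw [LinearMap.liftBaseChange_tmul, one_smul, Derivation.liftKaehlerDifferential_comp_D,
        KaehlerDifferential.mapBaseChange_tmul, one_smul, KaehlerDifferential.map_D,
        Derivation.liftKaehlerDifferential_comp_D, hD']
    refine ⟨D.liftKaehlerDifferential.liftBaseChange B, fun z hz => ?_, fun i => ?_, fun j => ?_⟩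
    · rw [key, LinearMap.mem_ker.mp hz, map_zero]
    · rw [LinearMap.liftBaseChange_tmul, one_smul, Derivation.liftKaehlerDifferential_comp_D, hDP _ (hxP i)]
    · rw [LinearMap.liftBaseChange_tmul, one_smul, Derivation.liftKaehlerDifferential_comp_D, hDy]
  -- spanning
  let gx : Λ → B ⊗[A] Ω[A⁄ℤ] := fun i => (1 : B) ⊗ₜ KaehlerDifferential.D ℤ A (x' i)
  let gy : M → B ⊗[A] Ω[A⁄ℤ] := fun j => (1 : B) ⊗ₜ KaehlerDifferential.D ℤ A (y j)
  have hspan : Submodule.span B (Set.range (Sum.elim gx gy)) = ⊤ := by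
    let N := Submodule.span A (Set.range (fun i => KaehlerDifferential.D ℤ A (x' i)) ∪
      Set.range (fun j => KaehlerDifferential.D ℤ A (y j)))
    have hN : N = ⊤ := by
      rw [eq_top_iff, ← KaehlerDifferential.span_range_derivation ℤ A, Submodule.span_le]
      let d₀ : Derivation ℤ A (Ω[A⁄ℤ] ⧸ N) := N.mkQ.compDer (KaehlerDifferential.D ℤ A)
      have hx0 : ∀ i, d₀ (x' i) = 0 := fun i =>
        (Submodule.Quotient.mk_eq_zero N).2 (Submodule.subset_span (Or.inl ⟨i, rfl⟩))
      have hy0 : ∀ j, d₀ (y j) = 0 := fun j =>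
        (Submodule.Quotient.mk_eq_zero N).2 (Submodule.subset_span (Or.inr ⟨j, rfl⟩))
      have hP0 : ∀ a ∈ P, d₀ a = 0 := fun a ha => by
        obtain ⟨b, hb⟩ := exists_root_of_mem p hinj hR ha
        exact derivation_kills_roots p hinj hpow hx.2 hx' d₀ hx0 b a hb.symm
      rintro _ ⟨a, rfl⟩
      refine (Submodule.Quotient.mk_eq_zero N).1 ?_
      show d₀ a = 0
      have ha : a ∈ Algebra.adjoin P (Set.range y) := (PBasis.isPGenerating_iff p y).1 hy.2 ▸ Algebra.mem_top
      induction ha using Algebra.adjoin_induction with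
      | mem z hz => obtain ⟨j, rfl⟩ := hz; exact hy0 j
      | algebraMap r => exact hP0 _ r.2
      | add u v _ _ hu hv => rw [map_add, hu, hv, add_zero]
      | mul u v _ _ hu hv => rw [Derivation.leibniz, hu, hv, smul_zero, smul_zero, add_zero]
    rw [Submodule.eq_top_iff']
    intro z
    induction z using TensorProduct.induction_on with
    | zero => exact zero_mem _
    | add u v hu hv => exact add_mem hu hv
    | tmul c ω =>
      have hω : ω ∈ N := hN ▸ Submodule.mem_top
      induction hω using Submodule.span_induction generalizing c with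
      | mem w hw =>
        rw [show c ⊗ₜ[A] w = c • ((1 : B) ⊗ₜ[A] w) by rw [TensorProduct.smul_tmul', smul_eq_mul, mul_one]]
        refine Submodule.smul_mem _ _ (Submodule.subset_span ?_)
        rcases hw with ⟨i, rfl⟩ | ⟨j, rfl⟩
        · exact ⟨Sum.inl i, rfl⟩
        · exact ⟨Sum.inr j, rfl⟩
      | zero => rw [TensorProduct.tmul_zero]; exact zero_mem _
      | add u v _ _ hu hv => rw [TensorProduct.tmul_add]; exact add_mem (hu c) (hv c)
      | smul a w _ hw => rw [← TensorProduct.smul_tmul]; exact hw (a • c)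
  have hmem : ∀ i, gx i ∈ imperfection ℤ A B := fun i => by
    rw [imperfection, LinearMap.mem_ker, KaehlerDifferential.mapBaseChange_tmul, one_smul, KaehlerDifferential.map_D, hx',
      Derivation.leibniz_pow, ← Nat.cast_smul_eq_nsmul B, CharP.cast_eq_zero, zero_smul]
  choose φ₁ hφ₁ using hfun1
  choose φ₂ hφ₂ hφ₂x hφ₂y using hfun2
  let v : Λ → imperfection ℤ A B := fun i => ⟨gx i, hmem i⟩
  have hli : LinearIndependent B v := by
    refine LinearIndependent.of_comp (imperfection ℤ A B).subtype ?_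
    rw [linearIndependent_iff']
    intro s g hg i hi
    have h := congrArg (φ₁ i) hg
    rw [map_sum, map_zero, Finset.sum_eq_single i] at h
    · have h2 : g i * φ₁ i (gx i) = 0 := by rw [← smul_eq_mul, ← map_smul]; exact h
      rwa [show φ₁ i (gx i) = 1 from (hφ₁ i i).trans (if_pos rfl), mul_one] at h2
    · intro j _ hj
      show φ₁ i (g j • gx j) = 0
      rw [map_smul, show φ₁ i (gx j) = 0 from (hφ₁ i j).trans (if_neg hj), smul_zero]
    · intro hni
      exact absurd hi hni
  have hsp : ⊤ ≤ Submodule.span B (Set.range v) := by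
    rintro ⟨z, hz⟩ -
    obtain ⟨c, hc⟩ := Finsupp.mem_span_range_iff_exists_finsupp.mp (hspan ▸ Submodule.mem_top : z ∈ _)
    have hzero : ∀ j, c (Sum.inr j) = 0 := by
      intro j
      have h := congrArg (φ₂ j) hc
      rw [hφ₂ j z hz, Finsupp.sum, map_sum] at h
      rw [Finset.sum_eq_single (Sum.inr j)] at h
      · rw [map_smul, show φ₂ j (Sum.elim gx gy (Sum.inr j)) = 1 from (hφ₂y j j).trans (if_pos rfl),
          smul_eq_mul, mul_one] at h
        exact h
      · rintro (i | k) _ hne
        · rw [map_smul, show φ₂ j (Sum.elim gx gy (Sum.inl i)) = 0 from hφ₂x j i, smul_zero]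
        · rw [map_smul, show φ₂ j (Sum.elim gx gy (Sum.inr k)) = 0 from
            (hφ₂y j k).trans (if_neg fun h => hne (by rw [h])), smul_zero]
      · intro hnot
        rw [Finsupp.notMem_support_iff.mp hnot, zero_smul, map_zero]
    have hmap : z ∈ (Submodule.span B (Set.range v)).map (imperfection ℤ A B).subtype := by
      rw [← hc]
      refine Submodule.sum_mem _ ?_
      rintro (i | j) _ <;> simp only [Sum.elim_inl, Sum.elim_inr]
      · exact Submodule.smul_mem _ _ ⟨v i, Submodule.subset_span ⟨i, rfl⟩, rfl⟩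
      · rw [hzero j, zero_smul]; exact zero_mem _
    obtain ⟨w, hw, hwz⟩ := hmap
    have hwe : w = (⟨z, hz⟩ : imperfection ℤ A B) := Subtype.ext hwz
    exact hwe ▸ hw
  exact ⟨Module.Basis.mk hli hsp, fun i => by rw [Module.Basis.mk_apply]⟩

end Groth.Agent.H05EGA4.ImperfectionBasis
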