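import Mathlib
import Groth.Agent.H05EGA4.CompleteNormalization
import Groth.Agent.H05EGA4.HullCompletion

/-!
Integral closure of a Noetherian local domain in a finite extension of its fraction field: finitely many
maximal ideals, finite residue fields (through the completion).
-/

set_option autoImplicit false
set_option linter.style.haveILetI false
set_option maxHeartbeats 1000000
set_option synthInstance.maxHeartbeats 100000
universe u
open IsLocalRing TensorProduct

namespace Groth.Agent.H05EGA4.IntClosureSemilocal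

theorem exists_finite_subalgebra {A K' : Type u} [CommRing A] [IsDomain A] [Field K'] [Algebra A K']
    [Algebra (FractionRing A) K'] [IsScalarTower A (FractionRing A) K'] [FiniteDimensional (FractionRing A) K'] :
    ∃ B₀ : Subalgebra A K', Module.Finite A B₀ ∧ ∀ x : K', ∃ a : A, a ≠ 0 ∧ a • x ∈ B₀ := by
  classical
  obtain ⟨s, b, hb⟩ := FiniteDimensional.exists_is_basis_integral A (FractionRing A) K'
  refine ⟨Algebra.adjoin A (Set.range b), Module.Finite.iff_fg.mpr
    (fg_adjoin_of_finite (Set.finite_range b) (by rintro _ ⟨i, rfl⟩; exact hb i)), fun x => ?_⟩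
  obtain ⟨a, ha⟩ := IsLocalization.exist_integer_multiples_of_finite (nonZeroDivisors A) fun i => b.repr x i
  refine ⟨a, nonZeroDivisors.coe_ne_zero a, ?_⟩
  rw [← b.sum_repr x, Finset.smul_sum]
  refine Subalgebra.sum_mem _ fun i _ => ?_
  obtain ⟨c, hc⟩ := ha i
  rw [← smul_assoc, ← hc, algebraMap_smul]
  exact Subalgebra.smul_mem _ (Algebra.subset_adjoin (Set.mem_range_self i)) c

/-- The field of fractions of a component of a finite algebra over a complete local ring. -/
theorem exists_point {R : Type u} [CommRing R] [IsLocalRing R] [IsNoetherianRing R]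
    [IsAdicComplete (maximalIdeal R) R] (T : Type u) [CommRing T] [Algebra R T] [Module.Finite R T]
    (q : Ideal T) [q.IsPrime] :
    ∃ (L : Type u) (_ : Field L) (_ : Algebra R L) (f : T →ₐ[R] L),
      Module.Finite R (integralClosure R L) ∧ ∀ y, f y = 0 → y ∈ q := by
  obtain ⟨_, _⟩ := Groth.Agent.H05EGA4.isAdicComplete_of_finite_domain (A := R) (A' := T ⧸ q)
  haveI : IsNoetherianRing (T ⧸ q) := IsNoetherianRing.of_finite R _
  let L := FractionRing (T ⧸ q)
  have hfinL := (Groth.Agent.H05EGA4.finite_and_isJ0_of_complete_domain (T ⧸ q) L fun K _ _ _ _ _ =>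
    Module.Finite.of_surjective (Algebra.linearMap K L) (by
      intro z
      obtain ⟨n, d, -, rfl⟩ := IsFractionRing.div_surjective (A := T ⧸ q) z
      exact ⟨algebraMap _ K n / algebraMap _ K d, by
        simp [map_div₀, ← IsScalarTower.algebraMap_apply]⟩)).1
  haveI := hfinL
  haveI : Module.Finite R (integralClosure (T ⧸ q) L) := Module.Finite.trans (T ⧸ q) _
  refine ⟨L, inferInstance, inferInstance, (IsScalarTower.toAlgHom R (T ⧸ q) L).comp (Ideal.Quotient.mkₐ R q),
    ?_, fun y hy => Ideal.Quotient.eq_zero_iff_mem.mp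
      ((map_eq_zero_iff _ (IsFractionRing.injective (T ⧸ q) L)).mp hy)⟩
  exact Module.Finite.of_injective
    ({ toFun := fun x => ⟨x.1, IsIntegral.tower_top x.2⟩
       map_add' := fun _ _ => rfl
       map_smul' := fun _ _ => Subtype.ext rfl } : integralClosure R L →ₗ[R] integralClosure (T ⧸ q) L)
    fun x y h => Subtype.ext (congrArg Subtype.val h :)

theorem lift_map_id {A R B Cc N : Type u} [CommRing A] [CommRing R] [Algebra A R] [CommRing B] [Algebra A B]
    [CommRing Cc] [Algebra A Cc] [CommRing N] [Algebra R N] [Algebra A N] [IsScalarTower A R N]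
    (g : Cc →ₐ[A] N) (i : B →ₐ[A] Cc) (y : R ⊗[A] B) :
    Algebra.TensorProduct.lift (Algebra.ofId R N) g (fun _ _ => Commute.all _ _)
        (Algebra.TensorProduct.map (AlgHom.id R R) i y) =
      Algebra.TensorProduct.lift (Algebra.ofId R N) (g.comp i) (fun _ _ => Commute.all _ _) y := by
  induction y using TensorProduct.induction_on with
  | zero => simp only [map_zero]
  | tmul r b => simp
  | add x y hx hy => simp only [map_add, hx, hy]

theorem apply_lift {A R B N N' : Type u} [CommRing A] [CommRing R] [Algebra A R] [CommRing B] [Algebra A B]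
    [CommRing N] [Algebra R N] [Algebra A N] [IsScalarTower A R N]
    [CommRing N'] [Algebra R N'] [Algebra A N'] [IsScalarTower A R N']
    (v : N →ₐ[R] N') (g : B →ₐ[A] N) (g' : B →ₐ[A] N') (hg : ∀ b, g' b = v (g b)) (y : R ⊗[A] B) :
    v (Algebra.TensorProduct.lift (Algebra.ofId R N) g (fun _ _ => Commute.all _ _) y) =
      Algebra.TensorProduct.lift (Algebra.ofId R N') g' (fun _ _ => Commute.all _ _) y := by
  induction y using TensorProduct.induction_on with
  | zero => simp only [map_zero]
  | tmul r b => simp [hg, Algebra.ofId_apply]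
  | add x y hx hy => simp only [map_add, hx, hy]

theorem eq_lift_of_comp {A R B N : Type u} [CommRing A] [CommRing R] [Algebra A R] [CommRing B] [Algebra A B]
    [CommRing N] [Algebra R N] [Algebra A N] [IsScalarTower A R N]
    (f : R ⊗[A] B →ₐ[R] N) (g : B →ₐ[A] N) (hg : ∀ b, g b = f (1 ⊗ₜ b)) :
    f = Algebra.TensorProduct.lift (Algebra.ofId R N) g (fun _ _ => Commute.all _ _) :=
  Algebra.TensorProduct.ext (AlgHom.ext fun r => by
    show f (algebraMap R (R ⊗[A] B) r) = _
    rw [f.commutes]; simp)
    (AlgHom.ext fun b => by simp [← hg])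

section core
variable {A K' R : Type u} [CommRing A] [IsDomain A] [IsLocalRing A] [IsNoetherianRing A]
  [Field K'] [Algebra A K'] [CommRing R] [IsLocalRing R] [IsNoetherianRing R]
  [IsAdicComplete (maximalIdeal R) R] [Algebra A R] [Module.FaithfullyFlat A R]

theorem finite_maximal_and_residue (hres : ∀ r : R, ∃ a : A, r - algebraMap A R a ∈ maximalIdeal R)
    (hinjK : Function.Injective (algebraMap A K'))
    (B₀ : Subalgebra A K') [Module.Finite A B₀] (hB₀ : ∀ x : K', ∃ a : A, a ≠ 0 ∧ a • x ∈ B₀) :
    {m : Ideal (integralClosure A K') | m.IsMaximal}.Finite ∧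
      ∀ (m : Ideal (integralClosure A K')), m.IsMaximal → Module.Finite A (integralClosure A K' ⧸ m) := by
  classical
  let T₀ := R ⊗[A] B₀
  haveI : Module.Finite R T₀ := inferInstance
  haveI : IsNoetherianRing T₀ := IsNoetherianRing.of_finite R T₀
  have hsmul : ∀ (B : Subalgebra A K') (a : A), a ≠ 0 → ∀ y : R ⊗[A] B, a • y = 0 → y = 0 := fun B a ha y hy => by
    have h1 : Function.Injective (LinearMap.lsmul A B a) := fun u v h =>
      Subtype.ext (mul_left_cancel₀ ((map_ne_zero_iff _ hinjK).mpr ha) (by
        simpa [Algebra.smul_def] using congrArg Subtype.val h))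
    have h2 := Module.Flat.lTensor_preserves_injective_linearMap (M := R) _ h1
    refine h2 ?_
    rw [map_zero]
    have : LinearMap.lTensor R (LinearMap.lsmul A B a) = LinearMap.lsmul A (R ⊗[A] B) a :=
      TensorProduct.ext' fun r b => by simp [TensorProduct.tmul_smul]
    rw [this]
    exact hy
  -- the points
  have hq : ∀ q : minimalPrimes T₀, ∃ (N : Type u) (_ : CommRing N) (_ : IsDomain N) (_ : Algebra R N)
      (_ : Algebra A N) (_ : IsScalarTower A R N) (_ : Module.Finite R N) (θ : integralClosure A K' →ₐ[A] N),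
      ∀ (y : T₀), Algebra.TensorProduct.lift (Algebra.ofId R N)
        (θ.comp (Subalgebra.inclusion (fun x hx => ((Algebra.IsIntegral.of_finite A B₀).isIntegral
          (⟨x, hx⟩ : B₀)).map B₀.val))) (fun _ _ => Commute.all _ _) y = 0 → y ∈ q.1 := by
    rintro ⟨q, hq⟩
    haveI : q.IsPrime := hq.1.1
    obtain ⟨L, _, _, f, hfinL, hf⟩ := exists_point (R := R) T₀ q
    let g₀ : B₀ →+* L := f.toRingHom.comp Algebra.TensorProduct.includeRight.toRingHom
    have hA0 : ∀ a : A, a ≠ 0 → f (algebraMap A T₀ a) ≠ 0 := fun a ha h => by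
      refine Set.disjoint_left.mp (Ideal.disjoint_nonZeroDivisors_of_mem_minimalPrimes hq) (hf _ h)
        (mem_nonZeroDivisors_iff_left.mpr fun y hy => hsmul B₀ a ha y ?_)
      exact (Algebra.smul_def a y).trans hy
    have hg₀ : Function.Injective g₀ := (injective_iff_map_eq_zero _).mpr fun b hb => by
      by_contra hb0
      obtain ⟨a, ha, hab⟩ := hB₀ (b : K')⁻¹
      have hmul : b * ⟨_, hab⟩ = algebraMap A B₀ a := Subtype.ext (by
        have : (b : K') ≠ 0 := fun h => hb0 (Subtype.ext h)
        simp [Algebra.smul_def]; field_simp)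
      refine hA0 a ha ?_
      rw [← Algebra.TensorProduct.includeRight.commutes a, ← hmul]
      exact (map_mul g₀ b _).trans (by rw [hb, zero_mul])
    haveI : FaithfulSMul B₀ K' := (faithfulSMul_iff_algebraMap_injective _ _).mpr Subtype.val_injective
    haveI : IsFractionRing B₀ K' := IsFractionRing.of_field B₀ K' fun z => by
      obtain ⟨a, ha, haz⟩ := hB₀ z
      refine ⟨⟨_, haz⟩, algebraMap A B₀ a, ?_⟩
      have : algebraMap A K' a ≠ 0 := (map_ne_zero_iff _ hinjK).mpr ha
      show z = (a • z) / algebraMap A K' a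
      rw [Algebra.smul_def]; field_simp
    let φ : K' →+* L := IsFractionRing.lift hg₀
    have hφ : ∀ b : B₀, φ (b : K') = g₀ b := fun b => IsFractionRing.lift_algebraMap hg₀ b
    letI : Algebra A L := ((algebraMap R L).comp (algebraMap A R)).toAlgebra
    haveI : IsScalarTower A R L := IsScalarTower.of_algebraMap_eq fun _ => rfl
    have hφA : ∀ a : A, φ (algebraMap A K' a) = algebraMap A L a := fun a => by
      refine (hφ (algebraMap A B₀ a)).trans ?_
      show f (Algebra.TensorProduct.includeRight (algebraMap A B₀ a)) = algebraMap R L (algebraMap A R a)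
      rw [Algebra.TensorProduct.includeRight.commutes, ← f.commutes, ← IsScalarTower.algebraMap_apply]
    let φA : K' →ₐ[A] L := { φ with commutes' := hφA }
    let θ : integralClosure A K' →ₐ[A] (integralClosure R L).restrictScalars A :=
      (φA.comp (integralClosure A K').val).codRestrict _ fun x => (x.2.map φA).tower_top (A := R)
    let Θ : integralClosure A K' →ₐ[A] integralClosure R L :=
      { θ.toRingHom with commutes' := fun a => Subtype.ext (hφA a) }
    refine ⟨integralClosure R L, inferInstance, inferInstance, inferInstance, inferInstance, inferInstance,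
      hfinL, Θ, fun y hy => hf y ?_⟩
    have h2 := congrArg (integralClosure R L).val hy
    rw [map_zero] at h2
    refine Eq.trans ?_ h2
    have h3 := eq_lift_of_comp f (φA.comp B₀.val) (fun b => hφ b)
    rw [h3]
    exact (apply_lift (integralClosure R L).val _ (φA.comp B₀.val) (fun b => rfl) y).symm
  choose N iR iD iRN iAN iT iF θ hθ using hq
  letI := iR; letI := iRN; letI := iAN
  haveI := iD; haveI := iT; haveI := iF
  haveI hloc : ∀ q, IsLocalRing (N q) := fun q => by
    obtain ⟨h, -⟩ := Groth.Agent.H05EGA4.isAdicComplete_of_finite_domain (A := R) (A' := N q)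
    exact h
  haveI : Finite (minimalPrimes T₀) := (minimalPrimes.finite_of_isNoetherianRing T₀).to_subtype
  -- each maximal ideal is one of the points
  have key : ∀ m : Ideal (integralClosure A K'), m.IsMaximal → ∃ q, m = (maximalIdeal (N q)).comap (θ q) := by
    intro m hm
    by_contra hne
    push Not at hne
    have hw : ∀ q, ∃ x : integralClosure A K', ¬ (x ∈ m ↔ x ∈ (maximalIdeal (N q)).comap (θ q)) := fun q => by
      by_contra h; push Not at h; exact hne q (Ideal.ext h)
    choose w hw using hw
    have hB₀i : ∀ x ∈ B₀, IsIntegral A x := fun x hx =>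
      ((Algebra.IsIntegral.of_finite A B₀).isIntegral (⟨x, hx⟩ : B₀)).map B₀.val
    have hfg0 : B₀.FG := (Subalgebra.fg_iff_finiteType B₀).mpr inferInstance
    obtain ⟨s₀, hs₀⟩ := hfg0
    let S : Set K' := ↑s₀ ∪ Set.range fun q => (w q : K')
    let B : Subalgebra A K' := Algebra.adjoin A S
    have hSi : ∀ x ∈ S, IsIntegral A x := by
      rintro x (hx | ⟨q, rfl⟩)
      · exact hB₀i x (hs₀ ▸ Algebra.subset_adjoin hx)
      · exact (w q).2
    haveI : Module.Finite A B := Module.Finite.iff_fg.mpr
      (fg_adjoin_of_finite (s₀.finite_toSet.union (Set.finite_range _)) hSi)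
    have hBle : B ≤ integralClosure A K' := Algebra.adjoin_le hSi
    have h0B : B₀ ≤ B := hs₀ ▸ Algebra.adjoin_mono Set.subset_union_left
    let T := R ⊗[A] B
    haveI : IsNoetherianRing T := IsNoetherianRing.of_finite R T
    let incl : B →ₐ[A] integralClosure A K' := Subalgebra.inclusion hBle
    let ψ : ∀ q, T →ₐ[R] N q := fun q =>
      Algebra.TensorProduct.lift (Algebra.ofId R (N q)) ((θ q).comp incl) (fun _ _ => Commute.all _ _)
    let j : T₀ →ₐ[R] T := Algebra.TensorProduct.map (AlgHom.id R R) (Subalgebra.inclusion h0B)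
    have hden : ∀ x : T, ∃ a : A, a ≠ 0 ∧ ∃ y : T₀, a • x = j y := by
      intro x
      induction x using TensorProduct.induction_on with
      | zero => exact ⟨1, one_ne_zero, 0, by simp⟩
      | tmul r b =>
        obtain ⟨a, ha, hab⟩ := hB₀ (b : K')
        refine ⟨a, ha, r ⊗ₜ ⟨_, hab⟩, ?_⟩
        rw [Algebra.TensorProduct.map_tmul, ← TensorProduct.tmul_smul]
        rfl
      | add x y hx hy =>
        obtain ⟨a, ha, u, hu⟩ := hx; obtain ⟨c, hc, v, hv⟩ := hy
        refine ⟨a * c, mul_ne_zero ha hc, c • u + a • v, ?_⟩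
        have hj : ∀ (d : A) w, j (d • w) = d • j w := fun d w => map_smul (j.restrictScalars A) d w
        rw [map_add, hj c u, hj a v, ← hu, ← hv,
          smul_add, mul_smul, mul_smul, smul_comm a c x]
    have hnil : (⨅ q, RingHom.ker (ψ q)) ≤ nilradical T := by
      intro x hx
      rw [Ideal.mem_iInf] at hx
      obtain ⟨a, ha, y, hy⟩ := hden x
      have hy0 : y ∈ nilradical T₀ := by
        rw [nilradical, ← Ideal.sInf_minimalPrimes, Ideal.mem_sInf]
        intro q hq
        refine hθ ⟨q, hq⟩ y ?_
        have h1 : ψ ⟨q, hq⟩ (j y) = 0 := by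
          rw [← hy]
          exact (LinearMap.map_smul_of_tower (ψ ⟨q, hq⟩).toLinearMap a x).trans (by
            rw [show (ψ ⟨q, hq⟩).toLinearMap x = 0 from hx ⟨q, hq⟩, smul_zero])
        refine Eq.trans ?_ h1
        refine Eq.trans ?_ (lift_map_id _ _ y).symm
        rfl
      obtain ⟨n, hn⟩ := mem_nilradical.mp hy0
      refine mem_nilradical.mpr ⟨n, hsmul B (a ^ n) (pow_ne_zero n ha) _ ?_⟩
      rw [← smul_pow, hy, ← map_pow, hn, map_zero]
    -- a maximal ideal of `T` over `m`
    let n : Ideal B := m.comap incl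
    letI : Algebra B (integralClosure A K') := incl.toRingHom.toAlgebra
    haveI : IsScalarTower A B (integralClosure A K') := IsScalarTower.of_algebraMap_eq fun _ => rfl
    haveI : Algebra.IsIntegral A (integralClosure A K') :=
      ⟨fun x => (isIntegral_algHom_iff (integralClosure A K').val Subtype.val_injective).mp x.2⟩
    haveI : Algebra.IsIntegral B (integralClosure A K') := Algebra.IsIntegral.tower_top A
    haveI hn : n.IsMaximal := Ideal.isMaximal_comap_of_isIntegral_of_isMaximal (R := B) m
    let χ : T →ₐ[R] R ⊗[A] (B ⧸ n) := Algebra.TensorProduct.map (AlgHom.id R R) (Ideal.Quotient.mkₐ A n)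
    have hχ : Function.Surjective χ := by
      intro z
      induction z using TensorProduct.induction_on with
      | zero => exact ⟨0, map_zero χ⟩
      | tmul r c =>
        obtain ⟨b, rfl⟩ := Ideal.Quotient.mk_surjective c
        exact ⟨r ⊗ₜ b, Algebra.TensorProduct.map_tmul _ _ r b⟩
      | add x y hx hy =>
        obtain ⟨u, hu⟩ := hx; obtain ⟨v, hv⟩ := hy
        exact ⟨u + v, by rw [map_add, hu, hv]⟩
    haveI : Nontrivial (R ⊗[A] (B ⧸ n)) := inferInstance
    obtain ⟨P', hP'⟩ := Ideal.exists_maximal (R ⊗[A] (B ⧸ n))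
    let P := P'.comap χ
    haveI hP : P.IsMaximal := Ideal.comap_isMaximal_of_surjective χ hχ
    have hPn : P.comap (Algebra.TensorProduct.includeRight : B →ₐ[A] T) = n := by
      refine (hn.eq_of_le (Ideal.IsPrime.ne_top inferInstance) fun b hb => ?_).symm
      show χ ((1 : R) ⊗ₜ b) ∈ P'
      rw [Algebra.TensorProduct.map_tmul, show Ideal.Quotient.mkₐ A n b = 0 from Ideal.Quotient.eq_zero_iff_mem.mpr hb,
        TensorProduct.tmul_zero]
      exact zero_mem _
    haveI := Fintype.ofFinite (minimalPrimes T₀)
    obtain ⟨q, -, hq⟩ : ∃ q ∈ (Finset.univ : Finset (minimalPrimes T₀)), RingHom.ker (ψ q) ≤ P := by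
      refine (Ideal.IsPrime.inf_le' (hP.isPrime)).mp ?_
      refine le_trans ?_ (hnil.trans (nilradical_le_prime P))
      intro x hx
      rw [Finset.inf_eq_iInf] at hx
      simpa using hx
    letI : Algebra T (N q) := (ψ q).toRingHom.toAlgebra
    haveI : IsScalarTower R T (N q) := IsScalarTower.of_algebraMap_eq fun r => ((ψ q).commutes r).symm
    haveI : Algebra.IsIntegral R (N q) := Algebra.IsIntegral.of_finite R (N q)
    haveI : Algebra.IsIntegral T (N q) := Algebra.IsIntegral.tower_top R
    obtain ⟨Q, hQ, hQP⟩ := Ideal.exists_ideal_over_maximal_of_isIntegral (S := N q) P hq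
    rw [eq_maximalIdeal hQ] at hQP
    refine hw q ?_
    have hwB : (w q : K') ∈ B := Algebra.subset_adjoin (Or.inr ⟨q, rfl⟩)
    have h1 : (⟨_, hwB⟩ : B) ∈ n ↔ (w q) ∈ m := Iff.rfl
    rw [← h1, ← hPn, ← hQP]
    show ψ q ((1 : R) ⊗ₜ _) ∈ maximalIdeal (N q) ↔ _
    rw [Algebra.TensorProduct.lift_tmul, map_one, one_mul]
    rfl
  constructor
  · exact (Set.finite_range fun q => (maximalIdeal (N q)).comap (θ q)).subset fun m hm =>
      (key m hm).imp fun q h => h.symm
  · intro m hm
    obtain ⟨q, rfl⟩ := key m hm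
    let g : integralClosure A K' →ₐ[A] N q ⧸ maximalIdeal (N q) := (Ideal.Quotient.mkₐ A _).comp (θ q)
    haveI : Module.Finite A (N q ⧸ maximalIdeal (N q)) := by
      obtain ⟨G, hG⟩ := Module.Finite.fg_top (R := R) (M := N q ⧸ maximalIdeal (N q))
      refine ⟨⟨G, ?_⟩⟩
      have hm0 : ∀ r ∈ maximalIdeal R, ∀ z : N q ⧸ maximalIdeal (N q), r • z = 0 := fun r hr z => by
        rw [Algebra.smul_def, show algebraMap R (N q ⧸ maximalIdeal (N q)) r = 0 from
          Ideal.Quotient.eq_zero_iff_mem.mpr (Groth.Agent.H05EGA4.map_le_maximalIdeal_of_finite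
            (Ideal.mem_map_of_mem _ hr)), zero_mul]
      rw [eq_top_iff]
      intro z _
      have hz : z ∈ Submodule.span R (G : Set (N q ⧸ maximalIdeal (N q))) := hG ▸ Submodule.mem_top
      induction hz using Submodule.span_induction with
      | mem x hx => exact Submodule.subset_span hx
      | zero => exact zero_mem _
      | add x y _ _ hx hy => exact add_mem (hx trivial) (hy trivial)
      | smul r x _ hx =>
        obtain ⟨a, ha⟩ := hres r
        rw [show r • x = a • x from sub_eq_zero.mp (by
          rw [← algebraMap_smul R a x, ← sub_smul]; exact hm0 _ ha x)]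
        exact Submodule.smul_mem _ a (hx trivial)
    exact Module.Finite.of_injective
      (Ideal.quotientMapₐ (maximalIdeal (N q)) (θ q) le_rfl).toLinearMap
      (Ideal.quotientMap_injective (f := (θ q).toRingHom) (I := maximalIdeal (N q)))

end core

theorem main {A K' : Type u} [CommRing A] [IsDomain A] [IsLocalRing A] [IsNoetherianRing A]
    [Field K'] [Algebra A K'] [Algebra (FractionRing A) K'] [IsScalarTower A (FractionRing A) K'] [FiniteDimensional (FractionRing A) K'] :
    {m : Ideal (integralClosure A K') | m.IsMaximal}.Finite ∧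
      ∀ (m : Ideal (integralClosure A K')), m.IsMaximal → Module.Finite A (integralClosure A K' ⧸ m) := by
  obtain ⟨B₀, hf, hB₀⟩ := exists_finite_subalgebra (A := A) (K' := K')
  haveI := hf
  haveI := HullCompletion.isNoetherianRing_cpl A
  haveI := HullCompletion.faithfullyFlat_cpl A
  haveI : IsAdicComplete (maximalIdeal (EGA4.Cpl A)) (EGA4.Cpl A) := by
    rw [AdicCompletion.maximalIdeal_eq_map]
    exact AdicCompletion.isAdicComplete_self _ (IsNoetherian.noetherian _)
  have hinjK : Function.Injective (algebraMap A K') := by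
    rw [IsScalarTower.algebraMap_eq A (FractionRing A) K']
    exact (algebraMap (FractionRing A) K').injective.comp (IsFractionRing.injective A _)
  refine finite_maximal_and_residue (R := EGA4.Cpl A) (fun r => ?_) hinjK B₀ hB₀
  obtain ⟨x, hx⟩ := Ideal.Quotient.mk_surjective (AdicCompletion.evalₐ (maximalIdeal A) 1 r)
  refine ⟨x, ?_⟩
  have h1 : r - algebraMap A (EGA4.Cpl A) x ∈ ((maximalIdeal A) ^ 1 • ⊤ : Submodule A (EGA4.Cpl A)) := by
    rw [AdicCompletion.pow_smul_top_eq_ker_eval (IsNoetherian.noetherian (maximalIdeal A)), LinearMap.mem_ker]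
    have h2 : AdicCompletion.evalₐ (maximalIdeal A) 1 (r - algebraMap A _ x) = 0 := by
      rw [map_sub, AlgHom.commutes, ← hx, Ideal.Quotient.algebraMap_eq, sub_self]
    exact (Ideal.quotientEquivAlgOfEq A
      (show ((maximalIdeal A) ^ 1 • ⊤ : Ideal A) = maximalIdeal A ^ 1 by simp)).injective (by rw [map_zero]; exact h2)
  rw [Ideal.smul_top_eq_map, pow_one] at h1
  rwa [AdicCompletion.maximalIdeal_eq_map]

end Groth.Agent.H05EGA4.IntClosureSemilocal
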