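import Mathlib

/-!
`(k₀(K₀^p))((T)) = k₀(K₀^p((T)))` (helper5).
-/

set_option autoImplicit false
set_option linter.style.haveILetI false
universe u

namespace Groth.Agent.H05EGA4.LaurentAdjoin

theorem main (p : ℕ) [hp : Fact p.Prime] {k₀ K₀ : Type u} [Field k₀] [Field K₀] [Algebra k₀ K₀] [CharP k₀ p]
    (hfin : Module.Finite (Subfield.closure (Set.range fun x : k₀ => x ^ p)) k₀) (r : ℕ) :
    Subfield.closure (algebraMap (MvPowerSeries (Fin r) K₀) (FractionRing (MvPowerSeries (Fin r) K₀)) ''
        {f | ∀ n, MvPowerSeries.coeff n f ∈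
          Subfield.closure (Set.range (algebraMap k₀ K₀) ∪ Set.range fun y : K₀ => y ^ p)}) =
      Subfield.closure
        (Set.range (algebraMap k₀ (FractionRing (MvPowerSeries (Fin r) K₀))) ∪
          (Subfield.closure (algebraMap (MvPowerSeries (Fin r) K₀) (FractionRing (MvPowerSeries (Fin r) K₀)) ''
            {f | ∀ n, MvPowerSeries.coeff n f ∈ Subfield.closure (Set.range fun y : K₀ => y ^ p)}) :
            Set (FractionRing (MvPowerSeries (Fin r) K₀)))) := by
  classical
  set E := Subfield.closure (Set.range fun y : K₀ => y ^ p)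
  set F := Subfield.closure (Set.range (algebraMap k₀ K₀) ∪ Set.range fun y : K₀ => y ^ p)
  set ι := algebraMap (MvPowerSeries (Fin r) K₀) (FractionRing (MvPowerSeries (Fin r) K₀))
  have hconst : ∀ a : k₀, algebraMap k₀ (FractionRing (MvPowerSeries (Fin r) K₀)) a =
      ι (MvPowerSeries.C (algebraMap k₀ K₀ a)) := fun a => by
    rw [IsScalarTower.algebraMap_apply k₀ (MvPowerSeries (Fin r) K₀) (FractionRing (MvPowerSeries (Fin r) K₀))]
    exact congrArg ι MvPowerSeries.algebraMap_apply
  have hEF : E ≤ F := Subfield.closure_mono Set.subset_union_right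
  refine le_antisymm ?_ ?_
  · -- coefficients decompose along a finite generating set of `k₀` over `k₀^p`
    obtain ⟨s, hs⟩ := hfin.fg_top
    let V : Submodule E K₀ := Submodule.span E (algebraMap k₀ K₀ '' (s : Set k₀))
    have hk : ∀ a : k₀, algebraMap k₀ K₀ a ∈ V := fun a => by
      have ha : a ∈ Submodule.span (Subfield.closure (Set.range fun x : k₀ => x ^ p)) (s : Set k₀) := hs ▸ trivial
      induction ha using Submodule.span_induction with
      | mem z hz => exact Submodule.subset_span ⟨z, hz, rfl⟩
      | zero => rw [map_zero]; exact zero_mem _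
      | add u v _ _ hu hv => rw [map_add]; exact add_mem hu hv
      | smul c z _ hz =>
        have hc : algebraMap k₀ K₀ (c : k₀) ∈ E := by
          have : (Subfield.closure (Set.range fun x : k₀ => x ^ p)) ≤ E.comap (algebraMap k₀ K₀) :=
            Subfield.closure_le.2 (by
              rintro _ ⟨x, rfl⟩
              exact Subfield.subset_closure ⟨algebraMap k₀ K₀ x, (map_pow _ _ _).symm⟩)
          exact this c.2
        rw [show c • z = (c : k₀) * z from rfl, map_mul]
        exact V.smul_mem ⟨_, hc⟩ hz
    have hmul : ∀ x ∈ V, ∀ y ∈ V, x * y ∈ V := by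
      intro x hx y hy
      induction hx using Submodule.span_induction with
      | mem z hz =>
        induction hy using Submodule.span_induction with
        | mem w hw =>
          obtain ⟨a, -, rfl⟩ := hz
          obtain ⟨b, -, rfl⟩ := hw
          rw [← map_mul]; exact hk _
        | zero => rw [mul_zero]; exact zero_mem _
        | add u v _ _ hu hv => rw [mul_add]; exact add_mem hu hv
        | smul c u _ hu => rw [mul_smul_comm]; exact V.smul_mem c hu
      | zero => rw [zero_mul]; exact zero_mem _
      | add u v _ _ hu hv => rw [add_mul]; exact add_mem hu hv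
      | smul c u _ hu => rw [smul_mul_assoc]; exact V.smul_mem c hu
    have hone : (1 : K₀) ∈ V := map_one (algebraMap k₀ K₀) ▸ hk 1
    have hEV : ∀ x ∈ E, x ∈ V := fun x hx => by
      have := V.smul_mem ⟨x, hx⟩ hone
      rwa [show (⟨x, hx⟩ : E) • (1 : K₀) = x * 1 from rfl, mul_one] at this
    let W : Subfield K₀ :=
      { carrier := V
        mul_mem' := fun {a b} ha hb => hmul a ha b hb
        one_mem' := hone
        add_mem' := fun {a b} ha hb => V.add_mem ha hb
        zero_mem' := V.zero_mem
        neg_mem' := fun {a} ha => V.neg_mem ha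
        inv_mem' := fun a ha => by
          have hpow : ∀ n, a ^ n ∈ V := fun n => by
            induction n with
            | zero => rw [pow_zero]; exact hone
            | succ n ih => rw [pow_succ]; exact hmul _ ih _ ha
          by_cases ha0 : a = 0
          · rw [ha0, inv_zero]; exact V.zero_mem
          rw [show a⁻¹ = (a ^ p)⁻¹ * a ^ (p - 1) by
            rw [eq_inv_mul_iff_mul_eq₀ (pow_ne_zero p ha0), show a ^ p = a ^ (p - 1) * a by
              rw [← pow_succ, Nat.sub_add_cancel hp.out.pos], mul_assoc, mul_inv_cancel₀ ha0, mul_one]]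
          exact hmul _ (hEV _ (inv_mem (Subfield.subset_closure ⟨a, rfl⟩))) _ (hpow _) }
    have hFV : ∀ x ∈ F, x ∈ V := fun x hx => (Subfield.closure_le (t := W)).2 (by
      rintro z (⟨a, rfl⟩ | hz)
      · exact hk a
      · exact hEV z (Subfield.subset_closure hz)) hx
    refine Subfield.closure_le.2 ?_
    rintro _ ⟨f, hf, rfl⟩
    have hrepr : ∀ n, ∃ g : s → E, ∑ i, g i • algebraMap k₀ K₀ i.1 = MvPowerSeries.coeff n f := fun n => by
      have h := hFV _ (hf n)
      rw [show V = Submodule.span E (Set.range fun i : s => algebraMap k₀ K₀ i.1) from by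
        show Submodule.span E _ = _
        rw [Set.image_eq_range]; rfl] at h
      exact (Submodule.mem_span_range_iff_exists_fun E).1 h
    choose g hg using hrepr
    let c : s → MvPowerSeries (Fin r) K₀ := fun i n => (g n i : K₀)
    have hfe : f = ∑ i : s, c i * MvPowerSeries.C (algebraMap k₀ K₀ i.1) := MvPowerSeries.ext fun n => by
      rw [← hg n, map_sum]
      refine Finset.sum_congr rfl fun i _ => ?_
      rw [MvPowerSeries.coeff_mul_C]
      rfl
    rw [hfe, map_sum]
    refine sum_mem fun i _ => ?_
    rw [map_mul, ← hconst]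
    exact mul_mem (Subfield.subset_closure (Or.inr (Subfield.subset_closure ⟨c i, fun n => (g n i).2, rfl⟩)))
      (Subfield.subset_closure (Or.inl ⟨i.1, rfl⟩))
  · refine Subfield.closure_le.2 ?_
    rintro z (⟨a, rfl⟩ | hz)
    · rw [hconst]
      refine Subfield.subset_closure ⟨_, fun n => ?_, rfl⟩
      rw [MvPowerSeries.coeff_C]
      split
      · exact Subfield.subset_closure (Or.inl ⟨a, rfl⟩)
      · exact F.zero_mem
    · exact Subfield.closure_mono (Set.image_mono (fun f (hf : ∀ n, MvPowerSeries.coeff n f ∈ E) n => hEF (hf n))) hz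

end Groth.Agent.H05EGA4.LaurentAdjoin
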