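import Mathlib

/-!
Intersections of fields of power series fractions (helper5).
-/

set_option autoImplicit false
set_option linter.style.haveILetI false
universe u

namespace Groth.Agent.H05EGA4.LaurentInter

variable {k : Type u} [Field k] {r : ℕ}

/-- The power series with coefficients in a subfield. -/
noncomputable def ser (F : Subfield k) : Subring (MvPowerSeries (Fin r) k) :=
  (MvPowerSeries.map (σ := Fin r) F.subtype).range

theorem mem_ser {F : Subfield k} {f : MvPowerSeries (Fin r) k} :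
    f ∈ ser F ↔ ∀ n, MvPowerSeries.coeff n f ∈ F := by
  constructor
  · rintro ⟨g, rfl⟩ n
    rw [MvPowerSeries.coeff_map]
    exact (MvPowerSeries.coeff n g).2
  · intro h
    exact ⟨fun n => ⟨MvPowerSeries.coeff n f, h n⟩, MvPowerSeries.ext fun n => rfl⟩

theorem coe_eq (F : Subfield k) :
    {f : MvPowerSeries (Fin r) k | ∀ n, MvPowerSeries.coeff n f ∈ F} = (ser (r := r) F : Set _) :=
  Set.ext fun _ => mem_ser.symm

theorem mem_closure_iff (S : Subring (MvPowerSeries (Fin r) k)) (x : FractionRing (MvPowerSeries (Fin r) k)) :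
    x ∈ Subfield.closure (algebraMap _ (FractionRing (MvPowerSeries (Fin r) k)) '' (S : Set (MvPowerSeries (Fin r) k))) ↔
      ∃ c ∈ S, ∃ d ∈ S, algebraMap _ (FractionRing (MvPowerSeries (Fin r) k)) c / algebraMap _ _ d = x := by
  rw [← Subring.coe_map, Subfield.mem_closure_iff, Subring.closure_eq]
  constructor
  · rintro ⟨_, ⟨c, hc, rfl⟩, _, ⟨d, hd, rfl⟩, h⟩
    exact ⟨c, hc, d, hd, h⟩
  · rintro ⟨c, hc, d, hd, h⟩
    exact ⟨_, ⟨c, hc, rfl⟩, _, ⟨d, hd, rfl⟩, h⟩

/-- A projection onto the subfield, applied coefficientwise, shows that `k[[T]] ∩ F((T)) = F[[T]]`. -/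
theorem mem_of_mul_eq (F : Subfield k) {c d h : MvPowerSeries (Fin r) k} (hc : c ∈ ser F) (hd : d ∈ ser F)
    (hd0 : d ≠ 0) (he : d * h = c) : h ∈ ser F := by
  classical
  obtain ⟨π, hπ⟩ := LinearMap.exists_leftInverse_of_injective (Algebra.linearMap F k)
    (LinearMap.ker_eq_bot.2 (algebraMap F k).injective)
  have hπ' : ∀ a : F, π (a : k) = a := fun a => LinearMap.congr_fun hπ a
  let h' : MvPowerSeries (Fin r) k := fun n => ((π (MvPowerSeries.coeff n h) : F) : k)
  have hh : ∀ n, MvPowerSeries.coeff n h' = ((π (MvPowerSeries.coeff n h) : F) : k) := fun n => rfl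
  have key : d * h' = c := by
    ext n
    obtain ⟨g, rfl⟩ := hd
    rw [MvPowerSeries.coeff_mul]
    have hcn : MvPowerSeries.coeff n c = ((π (MvPowerSeries.coeff n c) : F) : k) :=
      (congrArg Subtype.val (hπ' ⟨_, mem_ser.1 hc n⟩)).symm
    rw [hcn, ← he, MvPowerSeries.coeff_mul, map_sum]
    push_cast
    refine Finset.sum_congr rfl fun x _ => ?_
    rw [hh, MvPowerSeries.coeff_map]
    show (F.subtype (MvPowerSeries.coeff x.1 g)) * _ = _
    rw [show F.subtype (MvPowerSeries.coeff x.1 g) * MvPowerSeries.coeff x.2 h =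
      (MvPowerSeries.coeff x.1 g) • MvPowerSeries.coeff x.2 h from rfl, map_smul]
    rfl
  rw [← mul_left_cancel₀ hd0 (key.trans he.symm)]
  exact mem_ser.2 fun n => (π (MvPowerSeries.coeff n h)).2

theorem pow_mem (p : ℕ) [ExpChar k p] (e : ℕ) (F : Subfield k) (hq : ∀ x : k, x ^ p ^ e ∈ F)
    (f : MvPowerSeries (Fin r) k) : f ^ p ^ e ∈ ser F := by
  rw [← MvPowerSeries.map_iterateFrobenius_expand p (expChar_ne_zero k p)]
  exact mem_ser.2 fun n => by rw [MvPowerSeries.coeff_map, iterateFrobenius_def]; exact hq _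

theorem main {ι : Type u} [Nonempty ι] (F : ι → Subfield k) (e : ℕ)
    (hq : ∀ x : k, x ^ ringExpChar k ^ e ∈ ⨅ i, F i) :
    (⨅ i, Subfield.closure (algebraMap (MvPowerSeries (Fin r) k) (FractionRing (MvPowerSeries (Fin r) k)) ''
        {f | ∀ n, MvPowerSeries.coeff n f ∈ F i})) =
      Subfield.closure (algebraMap (MvPowerSeries (Fin r) k) (FractionRing (MvPowerSeries (Fin r) k)) ''
        {f | ∀ n, MvPowerSeries.coeff n f ∈ ⨅ i, F i}) := by
  simp_rw [coe_eq]
  refine le_antisymm (fun x hx => ?_) (le_iInf fun i => Subfield.closure_mono (Set.image_mono fun f hf =>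
    mem_ser.2 fun n => iInf_le F i (mem_ser.1 hf n)))
  obtain ⟨p, hp⟩ : ∃ p, ringExpChar k = p := ⟨_, rfl⟩
  haveI : ExpChar k p := ringExpChar.of_eq hp
  rw [hp] at hq
  obtain ⟨a, b, hb, rfl⟩ := IsFractionRing.div_surjective (A := MvPowerSeries (Fin r) k) x
  have hb0 : b ≠ 0 := nonZeroDivisors.ne_zero hb
  have hinj := IsFractionRing.injective (MvPowerSeries (Fin r) k) (FractionRing (MvPowerSeries (Fin r) k))
  obtain ⟨m, hm⟩ : ∃ m, p ^ e = m + 1 := Nat.exists_eq_succ_of_ne_zero (pow_ne_zero e (expChar_ne_zero k p))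
  have hh : a * b ^ m ∈ ser (⨅ i, F i) := by
    refine mem_ser.2 fun n => Subfield.mem_iInf.2 fun i => ?_
    have hbi : b ^ (p ^ e) ∈ ser (r := r) (F i) :=
      pow_mem p e (F i) (fun z => Subfield.mem_iInf.1 (hq z) i) b
    obtain ⟨c, hc, d, hd, hcd⟩ := (mem_closure_iff _ _).1 (Subfield.mem_iInf.1 hx i)
    by_cases hd0 : d = 0
    · have : a = 0 := by
        rw [hd0, map_zero, div_zero] at hcd
        rcases div_eq_zero_iff.1 hcd.symm with h | h
        · exact hinj (h.trans (map_zero _).symm)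
        · exact absurd (hinj (h.trans (map_zero _).symm)) hb0
      rw [this, zero_mul, map_zero]
      exact zero_mem _
    refine mem_ser.1 (mem_of_mul_eq (F i) (mul_mem hc hbi) hd hd0 (hinj ?_)) n
    rw [div_eq_div_iff (fun h => hd0 (hinj (h.trans (map_zero _).symm)))
      (fun h => hb0 (hinj (h.trans (map_zero _).symm)))] at hcd
    rw [hm, pow_succ]
    simp only [map_mul, map_pow]
    linear_combination -(algebraMap _ (FractionRing (MvPowerSeries (Fin r) k)) b) ^ m * hcd
  refine (mem_closure_iff _ _).2 ⟨a * b ^ m, hh, b ^ (p ^ e), ?_, ?_⟩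
  · exact pow_mem p e _ hq b
  · have hb1 : algebraMap _ (FractionRing (MvPowerSeries (Fin r) k)) b ≠ 0 := fun h => hb0 (hinj (h.trans (map_zero _).symm))
    rw [hm, pow_succ, map_mul, map_mul, map_pow]
    field_simp

end Groth.Agent.H05EGA4.LaurentInter
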