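import Groth.Prelude.Def_Lef
import Groth.Agent.H10Coh.Serre

/-!
# Lef(X, Y) ⇒ clopens of a neighbourhood U of Y are those of Y

helper5.  The idempotents of `lim Γ(Y_n, O)` are the clopens of `Y`.
-/

set_option autoImplicit false
set_option linter.style.haveILetI false

universe u

open CategoryTheory CategoryTheory.Limits AlgebraicGeometry Opposite TopologicalSpace
open Groth.Agent.H10Coh (gres mulΓ mulΓ_app)

namespace Groth.Agent.H05EGA4.LefConn

variable {X : Scheme.{u}}

/-- The structure module is finite locally free. -/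
theorem isFinLocFree_unit (X : Scheme.{u}) : FlatMod.IsFinLocFree (Coh.structureModule X) :=
  fun _ => ⟨⊤, 1, trivial, ⟨Scheme.Modules.restrictUnitIso (⊤ : X.Opens).ι ≪≫
    (coproductUniqueIso fun _ : Fin 1 => Coh.structureModule (↑(⊤ : X.Opens) : Scheme.{u})).symm⟩⟩

/-- A morphism out of the structure module is determined by its value at `1` over `⊤`. -/
theorem unit_hom_ext {M : X.Modules} {φ ψ : Coh.structureModule X ⟶ M}
    (h : φ.app ⊤ (1 : Γ(X, ⊤)) = ψ.app ⊤ (1 : Γ(X, ⊤))) : φ = ψ := by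
  refine (SheafOfModules.unitHomEquiv (M : SheafOfModules X.ringCatSheaf)).injective
    (Subtype.ext (funext fun V => ?_))
  have h1 := ((SheafOfModules.unitHomEquiv (M : SheafOfModules X.ringCatSheaf)) φ).property
    (homOfLE (le_top : V.unop ≤ ⊤)).op
  have h2 := ((SheafOfModules.unitHomEquiv (M : SheafOfModules X.ringCatSheaf)) ψ).property
    (homOfLE (le_top : V.unop ≤ ⊤)).op
  exact h1.symm.trans ((congrArg (M.val.map _) h).trans h2)

theorem gres_top (s : Γ(X, ⊤)) : gres s ⊤ = s :=
  (ConcreteCategory.congr_hom (X.presheaf.map_id (op ⊤)) s :)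

theorem mulΓ_one (s : Γ(X, ⊤)) : (mulΓ s).app ⊤ (1 : Γ(X, ⊤)) = s :=
  (mulΓ_app s ⊤ (1 : Γ(X, ⊤))).trans ((mul_one _).trans (gres_top s))

theorem comp_toSubscheme_one (s : Γ(X, ⊤)) (I : X.IdealSheafData) :
    (mulΓ s ≫ ClSub.toSubscheme I).app ⊤ (1 : Γ(X, ⊤)) = I.subschemeι.app ⊤ s :=
  congrArg (fun t => (ClSub.toSubscheme I).app ⊤ t) (mulΓ_one s)

/-- The section `e` of `O_Z` as a morphism `O_X ⟶ i_* O_Z`. -/
noncomputable def secHom (I : X.IdealSheafData) (e : Γ(I.subscheme, ⊤)) :
    Coh.structureModule X ⟶ ClSub.quotMod I :=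
  ClSub.toSubscheme I ≫ (Scheme.Modules.pushforward I.subschemeι).map (mulΓ e)

theorem secHom_one (I : X.IdealSheafData) (e : Γ(I.subscheme, ⊤)) :
    (secHom I e).app ⊤ (1 : Γ(X, ⊤)) = e := by
  show (mulΓ e).app ⊤ ((ClSub.toSubscheme I).app ⊤ (1 : Γ(X, ⊤))) = e
  rw [show (ClSub.toSubscheme I).app ⊤ (1 : Γ(X, ⊤)) = (1 : Γ(I.subscheme, ⊤)) from
    map_one (I.subschemeι.app ⊤).hom]
  exact mulΓ_one e

theorem quotMap_app {I J : X.IdealSheafData} (h : I ≤ J) (x : Γ(I.subscheme, ⊤)) :
    (Lef.quotMap h).app ⊤ x = (Scheme.IdealSheafData.inclusion h).app ⊤ x :=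
  (ConcreteCategory.congr_hom (J.subscheme.presheaf.map_id (op ⊤))
    ((Scheme.IdealSheafData.inclusion h).app ⊤ x) :)

/-- The idempotent of a clopen. -/
theorem exists_idempotent {C : Set X} (hC : IsClopen C) :
    ∃ e : Γ(X, ⊤), IsIdempotentElem e ∧ (X.basicOpen e : Set X) = C := by
  let W : Bool → X.Opens := fun b => bif b then ⟨C, hC.2⟩ else ⟨Cᶜ, hC.1.isOpen_compl⟩
  let s : ∀ b, Γ(X, W b) := fun b => bif b then 1 else 0
  have hemp : ∀ b b', b ≠ b' → W b ⊓ W b' = ⊥ := by
    intro b b' h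
    refine Opens.ext ?_
    cases b <;> cases b' <;> first | exact absurd rfl h | simp [W]
  have hcov : (⊤ : X.Opens) ≤ ⨆ b, W b := fun z _ => by
    rw [Opens.mem_iSup]
    by_cases hz : z ∈ C
    · exact ⟨true, hz⟩
    · exact ⟨false, hz⟩
  obtain ⟨e, he, -⟩ := X.sheaf.existsUnique_gluing' W ⊤ (fun b => homOfLE le_top) hcov s (by
    intro b b'
    by_cases h : b = b'
    · subst h; rfl
    · haveI : Subsingleton Γ(X, W b ⊓ W b') := by rw [hemp b b' h]; infer_instance
      exact @Subsingleton.elim Γ(X, W b ⊓ W b') _ _ _)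
  have hg : ∀ (b : Bool) (x : X) (hx : x ∈ W b),
      X.presheaf.germ ⊤ x trivial e = X.presheaf.germ (W b) x hx (s b) := fun b x hx => by
    rw [← he b]
    exact (X.presheaf.germ_res_apply (homOfLE le_top) x hx e).symm
  refine ⟨e, X.sheaf.eq_of_locally_eq' W ⊤ (fun b => homOfLE le_top) hcov _ _ fun b => ?_,
    Set.ext fun x => ?_⟩
  · refine (map_mul (X.presheaf.map (homOfLE le_top : W b ⟶ ⊤).op).hom e e).trans ?_
    change X.sheaf.obj.map (homOfLE le_top : W b ⟶ ⊤).op e *
      X.sheaf.obj.map (homOfLE le_top : W b ⟶ ⊤).op e = _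
    rw [he b]
    cases b
    · exact mul_zero _
    · exact mul_one _
  · refine (X.mem_basicOpen_top e x).trans ?_
    by_cases hx : x ∈ C
    · refine iff_of_true ?_ hx
      rw [hg true x hx]
      exact isUnit_one.map (X.presheaf.germ (W true) x hx).hom
    · refine iff_of_false ?_ hx
      rw [hg false x hx]
      show ¬ IsUnit ((X.presheaf.germ (W false) x hx) 0)
      rw [map_zero]
      exact not_isUnit_zero

theorem idem_eq_one {A : Type*} [CommRing A] {a : A} (ha : IsIdempotentElem a) (h : IsUnit a) :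
    a = 1 :=
  h.mul_left_cancel (ha.eq.trans (mul_one a).symm)

theorem idem_eq_zero {A : Type*} [CommRing A] [IsLocalRing A] {a : A} (ha : IsIdempotentElem a)
    (h : ¬ IsUnit a) : a = 0 := by
  rcases IsLocalRing.isUnit_or_isUnit_one_sub_self a with h' | h'
  · exact absurd h' h
  · exact h'.mul_left_cancel (a := 1 - a) (by rw [mul_zero, sub_mul, one_mul, ha.eq, sub_self])

theorem idem_ext {a b : Γ(X, ⊤)} (ha : IsIdempotentElem a) (hb : IsIdempotentElem b)
    (h : (X.basicOpen a : Set X) = X.basicOpen b) : a = b := by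
  refine TopCat.Presheaf.section_ext X.sheaf ⊤ a b fun x hx => ?_
  show X.presheaf.germ ⊤ x hx a = X.presheaf.germ ⊤ x hx b
  have ha' := ha.map (X.presheaf.germ ⊤ x hx).hom
  have hb' := hb.map (X.presheaf.germ ⊤ x hx).hom
  have hiff : IsUnit (X.presheaf.germ ⊤ x hx a) ↔ IsUnit (X.presheaf.germ ⊤ x hx b) := by
    rw [← X.mem_basicOpen_top a x, ← X.mem_basicOpen_top b x, ← SetLike.mem_coe, h, SetLike.mem_coe]
  by_cases hu : IsUnit (X.presheaf.germ ⊤ x hx a)
  · exact (idem_eq_one ha' hu).trans (idem_eq_one hb' (hiff.1 hu)).symm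
  · exact (idem_eq_zero ha' hu).trans (idem_eq_zero hb' fun h => hu (hiff.2 h)).symm

theorem isClopen_basicOpen {e : Γ(X, ⊤)} (he : IsIdempotentElem e) :
    IsClopen (X.basicOpen e : Set X) := by
  refine ⟨isOpen_compl_iff.1 ?_, (X.basicOpen e).2⟩
  have : (X.basicOpen e : Set X)ᶜ = X.basicOpen (1 - e) := by
    ext x
    rw [Set.mem_compl_iff, SetLike.mem_coe, SetLike.mem_coe, X.mem_basicOpen_top, X.mem_basicOpen_top,
      map_sub, map_one]
    have hg := he.map (X.presheaf.germ ⊤ x trivial).hom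
    by_cases hu : IsUnit (X.presheaf.germ ⊤ x trivial e)
    · have h : X.presheaf.germ ⊤ x trivial e = 1 := idem_eq_one hg hu
      exact iff_of_false (fun h' => h' hu) (by rw [h, sub_self]; exact not_isUnit_zero)
    · have h : X.presheaf.germ ⊤ x trivial e = 0 := idem_eq_zero hg hu
      exact iff_of_true hu (by rw [h, sub_zero]; exact isUnit_one)
  rw [this]
  exact (X.basicOpen (1 - e)).2

variable {J : X.IdealSheafData}

theorem range_pow (J : X.IdealSheafData) (n : ℕ) :
    Set.range (J ^ (n + 1)).subschemeι = (J.support : Set X) := by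
  rw [Scheme.IdealSheafData.range_subschemeι, Scheme.IdealSheafData.support_pow_succ]

/-- If `Hom(O, O) → lim Hom(O, O/J^{n+1})` is bijective and the scheme is connected, so is `V(J)`. -/
theorem connectedSpace_support (h : Lef.HomToFormalBijective J (Coh.structureModule X))
    (hX : ConnectedSpace X) : ConnectedSpace (J.support : Set X) := by
  have key : ∀ C : Set (J.support : Set X), IsClopen C → C = ∅ ∨ C = Set.univ := by
    intro C hC
    let Z : ℕ → Scheme.{u} := fun n => (J ^ (n + 1)).subscheme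
    have hmem : ∀ (n : ℕ) (z : Z n), (J ^ (n + 1)).subschemeι z ∈ (J.support : Set X) := fun n z =>
      range_pow J n ▸ Set.mem_range_self z
    let p : ∀ n, Z n → (J.support : Set X) := fun n z => ⟨_, hmem n z⟩
    have hp : ∀ n, Continuous (p n) := fun n =>
      (J ^ (n + 1)).subschemeι.continuous.subtype_mk _
    have hsurj : ∀ n, Function.Surjective (p n) := fun n y => by
      obtain ⟨z, hz⟩ : y.1 ∈ Set.range (J ^ (n + 1)).subschemeι := by rw [range_pow]; exact y.2
      exact ⟨z, Subtype.ext hz⟩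
    choose e he heC using fun n => exists_idempotent (hC.preimage (hp n))
    have hcompat : Lef.IsFormalHom J (Coh.structureModule X) fun n => secHom (J ^ (n + 1)) (e n) := by
      intro n
      refine unit_hom_ext ?_
      rw [secHom_one]
      show (Lef.quotMap (Lef.pow_succ_le J n)).app ⊤ ((secHom (J ^ (n + 2)) (e (n + 1))).app ⊤ (1 : Γ(X, ⊤))) = e n
      rw [secHom_one, quotMap_app]
      refine idem_ext ((he (n + 1)).map ((Scheme.IdealSheafData.inclusion _).app ⊤).hom) (he n) ?_
      rw [heC n]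
      refine (congrArg SetLike.coe
        (Scheme.preimage_basicOpen (Scheme.IdealSheafData.inclusion (Lef.pow_succ_le J n)) (e (n + 1))).symm).trans ?_
      ext z
      show (Scheme.IdealSheafData.inclusion (Lef.pow_succ_le J n)) z ∈ (Scheme.basicOpen _ (e (n + 1)) : Set _) ↔ _
      rw [heC (n + 1)]
      have hz : (J ^ (n + 2)).subschemeι ((Scheme.IdealSheafData.inclusion (Lef.pow_succ_le J n)) z) =
          (J ^ (n + 1)).subschemeι z := by
        rw [← Scheme.Hom.comp_apply, Scheme.IdealSheafData.inclusion_subschemeι]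
      show (⟨_, _⟩ : (J.support : Set X)) ∈ C ↔ (⟨_, _⟩ : (J.support : Set X)) ∈ C
      exact Iff.of_eq (congrArg (· ∈ C) (Subtype.ext hz))
    obtain ⟨φ, hφ⟩ := h.2 _ hcompat
    let s : Γ(X, ⊤) := φ.app ⊤ (1 : Γ(X, ⊤))
    have hφs : mulΓ s = φ := unit_hom_ext (mulΓ_one s)
    have hs : ∀ n, (J ^ (n + 1)).subschemeι.app ⊤ s = e n := by
      intro n
      rw [← comp_toSubscheme_one, hφs, hφ n, secHom_one]
    have hidem : IsIdempotentElem s := by
      have h2 : mulΓ (s * s) = φ := h.1 _ _ fun n => by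
        refine unit_hom_ext ?_
        rw [comp_toSubscheme_one, hφ n, secHom_one, map_mul, hs n]
        exact he n
      have h3 := congrArg (fun ψ : Coh.structureModule X ⟶ Coh.structureModule X =>
        ψ.app ⊤ (1 : Γ(X, ⊤))) h2
      exact (mulΓ_one _).symm.trans h3
    have hpre : p 0 ⁻¹' C = (J ^ (0 + 1)).subschemeι ⁻¹' (X.basicOpen s : Set X) := by
      rw [← heC 0, ← hs 0]
      exact congrArg SetLike.coe (Scheme.preimage_basicOpen (J ^ (0 + 1)).subschemeι s).symm
    rcases isClopen_iff.1 (isClopen_basicOpen hidem) with h0 | h1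
    · refine Or.inl (Set.eq_empty_iff_forall_notMem.2 fun y hy => ?_)
      obtain ⟨z, rfl⟩ := hsurj 0 y
      have : z ∈ p 0 ⁻¹' C := hy
      rw [hpre, h0] at this
      exact this
    · refine Or.inr (Set.eq_univ_iff_forall.2 fun y => ?_)
      obtain ⟨z, rfl⟩ := hsurj 0 y
      show z ∈ p 0 ⁻¹' C
      rw [hpre, h1]
      trivial
  have hne : Nonempty (J.support : Set X) := by
    rw [nonempty_subtype]
    by_contra hcon
    push Not at hcon
    have : mulΓ (1 : Γ(X, ⊤)) = mulΓ (0 : Γ(X, ⊤)) := h.1 _ _ fun n => by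
      haveI : IsEmpty (J ^ (n + 1)).subscheme :=
        ⟨fun z => hcon _ (range_pow J n ▸ Set.mem_range_self z)⟩
      haveI : Subsingleton Γ((J ^ (n + 1)).subscheme, ⊤) := by
        rw [show (⊤ : (J ^ (n + 1)).subscheme.Opens) = ⊥ from
          Opens.ext (Set.eq_empty_of_isEmpty _)]
        infer_instance
      refine unit_hom_ext ?_
      rw [comp_toSubscheme_one, comp_toSubscheme_one]
      exact @Subsingleton.elim Γ((J ^ (n + 1)).subscheme, ⊤) _ _ _
    have h10 : (1 : Γ(X, ⊤)) = 0 := (mulΓ_one _).symm.trans ((congrArg (fun ψ : Coh.structureModule X ⟶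
      Coh.structureModule X => ψ.app ⊤ (1 : Γ(X, ⊤))) this).trans (mulΓ_one _))
    obtain ⟨x⟩ := hX.toNonempty
    have := congrArg (X.presheaf.germ ⊤ x trivial) h10
    rw [map_one, map_zero] at this
    exact one_ne_zero this
  haveI : PreconnectedSpace (J.support : Set X) := preconnectedSpace_iff_clopen.2 key
  exact ⟨hne⟩

/-- If `Hom(O, O) → lim Hom(O, O/J^{n+1})` is injective and `V(J)` is connected, so is the scheme. -/
theorem connectedSpace_of_support (h : Lef.HomToFormalBijective J (Coh.structureModule X))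
    (hY : ConnectedSpace (J.support : Set X)) : ConnectedSpace X := by
  have vanish : ∀ C : Set X, IsClopen C → (∀ y ∈ (J.support : Set X), y ∉ C) → C = ∅ := by
    intro C hC hdisj
    obtain ⟨e, he, heC⟩ := exists_idempotent hC
    have h0 : mulΓ e = mulΓ (0 : Γ(X, ⊤)) := h.1 _ _ fun n => by
      refine unit_hom_ext ?_
      rw [comp_toSubscheme_one, comp_toSubscheme_one, map_zero]
      refine idem_ext (he.map ((J ^ (n + 1)).subschemeι.app ⊤).hom) (mul_zero _) ?_
      refine Eq.trans ?_ (congrArg SetLike.coe (Scheme.basicOpen_zero (J ^ (n + 1)).subscheme ⊤)).symm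
      refine (congrArg SetLike.coe (Scheme.preimage_basicOpen (J ^ (n + 1)).subschemeι e).symm).trans ?_
      refine Set.eq_empty_iff_forall_notMem.2 fun z hz => ?_
      exact hdisj _ (range_pow J n ▸ Set.mem_range_self z) (heC ▸ hz)
    have he0 : e = 0 := (mulΓ_one e).symm.trans ((congrArg (fun ψ : Coh.structureModule X ⟶
      Coh.structureModule X => ψ.app ⊤ (1 : Γ(X, ⊤))) h0).trans (mulΓ_one _))
    rw [← heC, he0, Scheme.basicOpen_zero]
    rfl
  obtain ⟨y₀⟩ := hY.toNonempty
  haveI : Nonempty X := ⟨y₀.1⟩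
  haveI : PreconnectedSpace X := by
    refine preconnectedSpace_iff_clopen.2 fun C hC => ?_
    rcases isClopen_iff.1 (hC.preimage
      (continuous_subtype_val (p := fun x : X => x ∈ (J.support : Set X)))) with h0 | h1
    · exact Or.inl (vanish C hC fun y hy hyC => Set.eq_empty_iff_forall_notMem.1 h0 ⟨y, hy⟩ hyC)
    · refine Or.inr (Set.compl_empty_iff.1 (vanish Cᶜ hC.compl fun y hy hyC => hyC ?_))
      exact Set.eq_univ_iff_forall.1 h1 ⟨y, hy⟩
  exact ⟨inferInstance⟩

end Groth.Agent.H05EGA4.LefConn
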