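import Mathlib

/-! Left invertibility of maps from finite modules into projective modules. -/

set_option autoImplicit false
set_option linter.style.haveILetI false

open TensorProduct

universe u

namespace Groth.Agent.H05EGA4.LeftInv

variable {A : Type u} [CommRing A] {M N : Type u} [AddCommGroup M] [Module A M]
  [AddCommGroup N] [Module A N] (u : M →ₗ[A] N)

/-- A left inverse up to `g` gives a left inverse after localising at `S ∋ g`. -/
theorem exists_leftInverse_localized {S : Submonoid A} {g : A} (hg : g ∈ S) {w : N →ₗ[A] M}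
    (hw : ∀ m, w (u m) = g • m) :
    ∃ W : LocalizedModule S N →ₗ[A] LocalizedModule S M,
      W ∘ₗ (LocalizedModule.map S u).restrictScalars A = LinearMap.id := by
  have hu := IsLocalizedModule.map_units (S := S) (LocalizedModule.mkLinearMap S M) ⟨g, hg⟩
  refine ⟨(↑hu.unit⁻¹ : Module.End A (LocalizedModule S M)) ∘ₗ (LocalizedModule.map S w).restrictScalars A, ?_⟩
  ext x
  induction x using LocalizedModule.induction_on with
  | h m s =>
    simp only [LinearMap.comp_apply, LinearMap.restrictScalars_apply, LocalizedModule.map_mk, hw,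
      LinearMap.id_apply]
    rw [← LocalizedModule.smul'_mk]
    exact LinearMap.congr_fun hu.val_inv_mul (LocalizedModule.mk m s)

/-- A left inverse after localisation at a submonoid which becomes invertible in a field `k` gives
injectivity over `k`. -/
theorem injective_lTensor_of_localized {S : Submonoid A} (k : Type u) [CommRing k] [Algebra A k]
    (hS : ∀ s ∈ S, IsUnit (algebraMap A k s)) (W : LocalizedModule S N →ₗ[A] LocalizedModule S M)
    (hW : W ∘ₗ (LocalizedModule.map S u).restrictScalars A = LinearMap.id) :
    Function.Injective (u.lTensor k) := by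
  have hu : ∀ x : S, IsUnit ((algebraMap A (Module.End A (k ⊗[A] M))) x) := fun x => by
    rw [Module.End.isUnit_iff]
    obtain ⟨v, hv⟩ := hS x x.2
    refine Function.bijective_iff_has_inverse.2 ⟨fun z => (↑v⁻¹ : k) • z, fun z => ?_, fun z => ?_⟩
    · show (↑v⁻¹ : k) • ((x : A) • z) = z
      rw [← algebraMap_smul k (x : A) z, ← hv, smul_smul, v.inv_mul, one_smul]
    · show (x : A) • ((↑v⁻¹ : k) • z) = z
      rw [← algebraMap_smul k (x : A), ← hv, smul_smul, v.mul_inv, one_smul]
  let h : N →ₗ[A] k ⊗[A] M :=
    LocalizedModule.lift S (TensorProduct.mk A k M 1) hu ∘ₗ W ∘ₗ LocalizedModule.mkLinearMap S N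
  have hh : ∀ m, h (u m) = 1 ⊗ₜ m := fun m => by
    have e := LinearMap.congr_fun hW (LocalizedModule.mk m 1)
    simp only [LinearMap.comp_apply, LinearMap.restrictScalars_apply, LocalizedModule.map_mk,
      LinearMap.id_apply] at e
    simp only [h, LinearMap.comp_apply, LocalizedModule.mkLinearMap_apply, e, LocalizedModule.lift_mk_one,
      TensorProduct.mk_apply]
  have hH : h.liftBaseChange k ∘ₗ u.baseChange k = LinearMap.id := by
    ext m
    simp [hh]
  exact Function.LeftInverse.injective (g := h.liftBaseChange k) fun z => LinearMap.congr_fun hH z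

/-- Injectivity at a prime gives a left inverse up to an element outside the prime. -/
theorem exists_smul_leftInverse [Module.Finite A M] [Module.Projective A N] (p : Ideal A) [p.IsPrime]
    (hinj : Function.Injective (u.lTensor p.ResidueField)) :
    ∃ (g : A) (w : N →ₗ[A] M), g ∉ p ∧ ∀ m, w (u m) = g • m := by
  classical
  let k := p.ResidueField
  have hne : ∀ a : A, a ∉ p → algebraMap A k a ≠ 0 := fun a ha h => ha (Ideal.algebraMap_residueField_eq_zero.1 h)
  -- a basis of `k ⊗ M` made of pure tensors
  obtain ⟨n, m, B, hB⟩ : ∃ (n : ℕ) (m : Fin n → M) (B : Module.Basis (Fin n) k (k ⊗[A] M)),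
      ∀ i, B i = 1 ⊗ₜ m i := by
    obtain ⟨b, hbs, hbspan, hbli⟩ := exists_linearIndependent k (Set.range fun x : M => (1 : k) ⊗ₜ[A] x)
    let B0 : Module.Basis b k (k ⊗[A] M) := Module.Basis.mk hbli (by
      rw [Subtype.range_coe, hbspan]
      intro z _
      induction z using TensorProduct.induction_on with
      | zero => exact zero_mem _
      | add x y hx hy => exact add_mem (hx trivial) (hy trivial)
      | tmul c x =>
        rw [show c ⊗ₜ[A] x = c • ((1 : k) ⊗ₜ[A] x) by rw [TensorProduct.smul_tmul', smul_eq_mul, mul_one]]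
        exact Submodule.smul_mem _ c (Submodule.subset_span ⟨x, rfl⟩))
    haveI : Finite b := Module.Finite.finite_basis B0
    choose m hm using fun i : b => hbs i.2
    refine ⟨Nat.card b, fun i => m ((Finite.equivFin b).symm i), B0.reindex (Finite.equivFin b), fun i => ?_⟩
    rw [Module.Basis.reindex_apply, Module.Basis.mk_apply]
    exact (hm _).symm
  -- functionals with invertible matrix
  obtain ⟨φ, hφ⟩ : ∃ φ : Fin n → (N →ₗ[A] A),
      algebraMap A k (Matrix.of fun a i => φ a (u (m i))).det ≠ 0 := by
    let r : (N →ₗ[A] A) → (Fin n → k) := fun φ i => algebraMap A k (φ (u (m i)))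
    have hr : Submodule.span k (Set.range r) = ⊤ := by
      by_contra hne'
      obtain ⟨c, hc0, hc⟩ := Submodule.exists_le_ker_of_lt_top _ (lt_top_iff_ne_top.2 hne')
      apply hc0
      let z : k ⊗[A] M := ∑ i, c (Pi.single i 1) • B i
      have hcφ : ∀ φ : N →ₗ[A] A, ∑ i, c (Pi.single i 1) * algebraMap A k (φ (u (m i))) = 0 := fun φ => by
        have := hc (Submodule.subset_span ⟨φ, rfl⟩)
        rw [LinearMap.mem_ker, pi_eq_sum_univ' (r φ), map_sum] at this
        simpa only [map_smul, smul_eq_mul, r, mul_comm] using this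
      obtain ⟨ι, _, _, _, hF, i, s, -, -, hs⟩ :
          ∃ (ι : Type u) (F : Type u) (_ : AddCommGroup F) (_ : Module A F) (bF : Module.Basis ι A F)
            (i : N →ₗ[A] F) (s : F →ₗ[A] N), True ∧ True ∧ s ∘ₗ i = LinearMap.id := by
        obtain ⟨s, hs⟩ := Module.projective_def.1 (inferInstance : Module.Projective A N)
        exact ⟨N, N →₀ A, inferInstance, inferInstance, Finsupp.basisSingleOne, s,
          Finsupp.linearCombination A id, trivial, trivial, LinearMap.ext hs⟩
      have hz : u.baseChange k z = 0 := by
        refine Function.LeftInverse.injective (g := s.baseChange k) (f := i.baseChange k) (fun y => ?_) ?_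
        · rw [← LinearMap.comp_apply, ← LinearMap.baseChange_comp, hs, LinearMap.baseChange_id]; rfl
        · rw [map_zero]
          apply (Algebra.TensorProduct.basis k hF).repr.injective
          rw [map_zero]
          ext j
          simp only [z, map_sum, map_smul, hB, LinearMap.baseChange_tmul, Algebra.TensorProduct.basis_repr_tmul,
            Finsupp.coe_finset_sum, Finset.sum_apply, Finsupp.smul_apply, Finsupp.mapRange_apply, one_smul,
            smul_eq_mul, Finsupp.coe_zero, Pi.zero_apply]
          exact hcφ (hF.coord j ∘ₗ i)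
      have hz0 : z = 0 := hinj (show u.lTensor k z = u.lTensor k 0 by rw [map_zero]; exact hz)
      refine (Pi.basisFun k (Fin n)).ext fun j => ?_
      rw [Pi.basisFun_apply, LinearMap.zero_apply]
      exact Fintype.linearIndependent_iff.1 B.linearIndependent _ hz0 j
    obtain ⟨b, hbs, hbspan, hbli⟩ := exists_linearIndependent k (Set.range r)
    let B0 : Module.Basis b k (Fin n → k) := Module.Basis.mk hbli (by rw [Subtype.range_coe, hbspan, hr])
    let e := B0.indexEquiv (Pi.basisFun k (Fin n))
    choose φ hφ using fun a : Fin n => hbs (e.symm a).2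
    refine ⟨φ, ?_⟩
    rw [RingHom.map_det]
    have hli : LinearIndependent k ((Matrix.of fun a i => φ a (u (m i))).map (algebraMap A k)).row := by
      rw [show ((Matrix.of fun a i => φ a (u (m i))).map (algebraMap A k)).row =
        (Subtype.val ∘ e.symm : Fin n → (Fin n → k)) from funext hφ]
      exact hbli.comp e.symm e.symm.injective
    exact ((Matrix.isUnit_iff_isUnit_det _).1 (Matrix.linearIndependent_rows_iff_isUnit.1 hli)).ne_zero
  -- the `m i` generate away from some `f`
  obtain ⟨f, hf, hfM⟩ : ∃ f ∉ p, ∀ x : M, f • x ∈ Submodule.span A (Set.range m) := by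
    let Q := M ⧸ Submodule.span A (Set.range m)
    have hQ : ∀ y : k ⊗[A] Q, y = 0 := by
      intro y
      obtain ⟨z, rfl⟩ := LinearMap.lTensor_surjective k (Submodule.mkQ_surjective (Submodule.span A (Set.range m))) y
      have : (Submodule.mkQ (Submodule.span A (Set.range m))).baseChange k = 0 := B.ext fun i => by
        rw [hB, LinearMap.baseChange_tmul, Submodule.mkQ_apply, LinearMap.zero_apply,
          (Submodule.Quotient.mk_eq_zero (Submodule.span A (Set.range m))).2
            (Submodule.subset_span (Set.mem_range_self i)), tmul_zero]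
      exact LinearMap.congr_fun this z
    have hp : (⟨p, inferInstance⟩ : PrimeSpectrum A) ∉ Module.support A Q := by
      rw [Module.mem_support_iff_nontrivial_residueField_tensorProduct, not_nontrivial_iff_subsingleton]
      exact ⟨fun a b => (hQ a).trans (hQ b).symm⟩
    rw [Module.support_eq_zeroLocus, PrimeSpectrum.mem_zeroLocus, SetLike.coe_subset_coe, SetLike.not_le_iff_exists] at hp
    obtain ⟨f, hfQ, hf⟩ := hp
    refine ⟨f, hf, fun x => (Submodule.Quotient.mk_eq_zero _).1 ?_⟩
    rw [Submodule.Quotient.mk_smul]
    exact Module.mem_annihilator.1 hfQ _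
  let D : Matrix (Fin n) (Fin n) A := Matrix.of fun a i => φ a (u (m i))
  let w0 : N →ₗ[A] M := Fintype.linearCombination A m ∘ₗ D.adjugate.mulVecLin ∘ₗ LinearMap.pi φ
  have hw0 : ∀ i, w0 (u (m i)) = D.det • m i := fun i => by
    show Fintype.linearCombination A m (D.adjugate.mulVec fun a => φ a (u (m i))) = _
    rw [show (fun a => φ a (u (m i))) = D.mulVec (Pi.single i 1) by rw [Matrix.mulVec_single_one]; rfl,
      Matrix.mulVec_mulVec, Matrix.adjugate_mul, Matrix.smul_mulVec, Matrix.one_mulVec, map_smul,
      Fintype.linearCombination_apply_single, one_smul]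
  refine ⟨f * D.det, f • w0, fun h => ?_, fun x => ?_⟩
  · rcases Ideal.IsPrime.mem_or_mem (I := p) inferInstance h with h | h
    · exact hf h
    · exact hφ (Ideal.algebraMap_residueField_eq_zero.2 h)
  · have heq : Set.EqOn (w0 ∘ₗ u) (D.det • LinearMap.id : M →ₗ[A] M) (Set.range m) := by
      rintro _ ⟨i, rfl⟩; exact hw0 i
    have h2 := LinearMap.eqOn_span heq (hfM x)
    simp only [LinearMap.comp_apply, map_smul, LinearMap.smul_apply, LinearMap.id_apply] at h2 ⊢
    rw [h2, smul_smul, mul_comm]

end Groth.Agent.H05EGA4.LeftInv
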