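import Mathlib
import Groth.Agent.H05EGA4.CohenMisc
import Groth.Agent.H24Adic.CompletionMap
import Groth.Agent.H24Adic.Basic

/-!
Lifting a finite homomorphism between reductions of smooth algebras to the completions.
-/

set_option autoImplicit false
set_option linter.style.haveILetI false
set_option maxHeartbeats 1000000
universe u
open Groth.Agent

namespace Groth.Agent.H05EGA4.LiftFiniteCompletion

theorem exists_lift_complete {V A D : Type u} [CommRing V] [CommRing A] [CommRing D] [Algebra V A] [Algebra V D]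
    [Algebra.FormallySmooth V A] (K : Ideal D) [IsAdicComplete K D] (u : A →ₐ[V] D ⧸ K) :
    ∃ v : A →ₐ[V] D, ∀ x, Ideal.Quotient.mk K (v x) = u x := by
  obtain ⟨v, hv⟩ := exists_lift_adicComplete (R := V) (W := A) K K le_rfl
    (fun n K' hK hnK u => by
      let g := Ideal.Quotient.factorₐ V hnK
      have hg : Function.Surjective g := Ideal.Quotient.factor_surjective hnK
      have hnil : IsNilpotent (RingHom.ker (g : (D ⧸ K ^ (n + 1)) →+* D ⧸ K')) := by
        refine ⟨n + 1, ?_⟩
        have : RingHom.ker (g : (D ⧸ K ^ (n + 1)) →+* D ⧸ K') = K'.map (Ideal.Quotient.mk _) :=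
          Ideal.Quotient.factor_ker hnK
        rw [this, ← Ideal.map_pow]
        exact le_bot_iff.mp ((Ideal.map_mono (Ideal.pow_right_mono hK _)).trans (le_of_eq (Ideal.map_quotient_self _)))
      refine ⟨Algebra.FormallySmooth.liftOfSurjective u g hg hnil, fun x c hc => ?_⟩
      rw [← Algebra.FormallySmooth.liftOfSurjective_apply u g hg hnil x, hc]
      rfl) u
  refine ⟨v, fun x => ?_⟩
  obtain ⟨c, hc⟩ := Ideal.Quotient.mk_surjective (u x)
  rw [← hc, Ideal.Quotient.eq]
  have := hv x c hc.symm 1
  rwa [pow_one, sup_idem] at this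

theorem exists_finite_lift {V A C : Type u} [CommRing V] [CommRing A] [CommRing C] [Algebra V A] [Algebra V C]
    [Algebra.FormallySmooth V A] [IsNoetherianRing V] (I : Ideal V)
    (φ₀ : (A ⧸ I.map (algebraMap V A)) →ₐ[V] (C ⧸ I.map (algebraMap V C))) (hφ₀ : φ₀.toRingHom.Finite) :
    ∃ φ : AdicCompletion (I.map (algebraMap V A)) A →ₐ[V] AdicCompletion (I.map (algebraMap V C)) C,
      φ.toRingHom.Finite ∧
      (AdicCompletion.evalOneₐ (I.map (algebraMap V C))).toRingHom.comp φ.toRingHom =
        φ₀.toRingHom.comp (AdicCompletion.evalOneₐ (I.map (algebraMap V A))).toRingHom := by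
  let IA := I.map (algebraMap V A)
  let IC := I.map (algebraMap V C)
  let A' := AdicCompletion IA A
  let C' := AdicCompletion IC C
  have hfgA : IA.FG := Ideal.FG.map (IsNoetherian.noetherian I) _
  have hfgC : IC.FG := Ideal.FG.map (IsNoetherian.noetherian I) _
  have hK : IC.map (algebraMap C C') = I.map (algebraMap V C') := by
    rw [Ideal.map_map, ← IsScalarTower.algebraMap_eq]
  haveI hC' : IsAdicComplete (I.map (algebraMap V C')) C' := by
    rw [← hK]
    exact (IsAdicComplete.map_algebraMap_iff _ _).mpr (AdicCompletion.isAdicComplete hfgC)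
  let π : C' →ₐ[V] C ⧸ IC := (AdicCompletion.evalOneₐ IC).restrictScalars V
  have hπker : ∀ x, π x = 0 → x ∈ I.map (algebraMap V C') := by
    intro x hx
    obtain ⟨p, hp⟩ := H24Adic.exists_sub_of_mem hfgC 1 x
    rw [pow_one] at hp
    have h1 : π (algebraMap C C' p) = 0 := by
      have h2 : ∀ z ∈ IC.map (algebraMap C C'), π z = 0 := by
        intro z hz
        refine (Ideal.map_le_iff_le_comap.mpr ?_ : IC.map (algebraMap C C') ≤ RingHom.ker π) hz
        intro c hc
        show π (algebraMap C C' c) = 0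
        show AdicCompletion.evalOneₐ IC (algebraMap C C' c) = 0
        rw [AlgHom.commutes]
        exact Ideal.Quotient.eq_zero_iff_mem.mpr hc
      have := h2 _ hp
      rwa [map_sub, hx, zero_sub, neg_eq_zero] at this
    change AdicCompletion.evalOneₐ IC (algebraMap C C' p) = 0 at h1
    rw [AlgHom.commutes] at h1
    rw [← hK, show x = (x - algebraMap C C' p) + algebraMap C C' p by rw [sub_add_cancel]]
    exact add_mem hp (Ideal.mem_map_of_mem _ (Ideal.Quotient.eq_zero_iff_mem.mp h1))
  have hπker' : RingHom.ker π = I.map (algebraMap V C') := by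
    refine le_antisymm (fun x hx => hπker x hx) (Ideal.map_le_iff_le_comap.mpr fun i hi => ?_)
    show π (algebraMap V C' i) = 0
    rw [AlgHom.commutes, IsScalarTower.algebraMap_apply V C (C ⧸ IC)]
    exact Ideal.Quotient.eq_zero_iff_mem.mpr (Ideal.mem_map_of_mem _ hi)
  have hπs : Function.Surjective π := AdicCompletion.evalOneₐ_surjective IC
  let ε : (C' ⧸ I.map (algebraMap V C')) ≃ₐ[V] C ⧸ IC :=
    (Ideal.quotientEquivAlgOfEq V hπker'.symm).trans (Ideal.quotientKerAlgEquivOfSurjective hπs)
  obtain ⟨v, hv⟩ := exists_lift_complete (I.map (algebraMap V C'))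
    ((ε.symm : (C ⧸ IC) →ₐ[V] _).comp (φ₀.comp (Ideal.Quotient.mkₐ V IA)))
  have hv' : ∀ x, π (v x) = φ₀ (Ideal.Quotient.mk IA x) := by
    intro x
    have h1 := congrArg ε (hv x)
    simp only [AlgHom.comp_apply, AlgEquiv.coe_toAlgHom, AlgEquiv.apply_symm_apply] at h1
    exact h1
  obtain ⟨φ, hφ⟩ := H24Adic.exists_algHom (R := V) (P := A) (B := C') I v
  have hcomp : ∀ y : A', π (φ y) = φ₀ (AdicCompletion.evalOneₐ IA y) := by
    intro y
    obtain ⟨p, hp⟩ := H24Adic.exists_sub_of_mem hfgA 1 y
    rw [pow_one] at hp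
    have hz : ∀ z ∈ IA.map (algebraMap A A'), π (φ z) = φ₀ (AdicCompletion.evalOneₐ IA z) := by
      intro z hz
      rw [show IA.map (algebraMap A A') = I.map (algebraMap V A') by
        rw [Ideal.map_map, ← IsScalarTower.algebraMap_eq]] at hz
      have h1 : ∀ (T : Type u) [CommRing T] [Algebra V T] (f : A' →ₐ[V] T), I.map (algebraMap V T) = ⊥ → f z = 0 := by
        intro T _ _ f hT
        have h2 := Ideal.mem_map_of_mem f.toRingHom hz
        rw [Ideal.map_map, show f.toRingHom.comp (algebraMap V A') = algebraMap V T from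
          RingHom.ext fun r => f.commutes r, hT, Ideal.mem_bot] at h2
        exact h2
      have hbot : I.map (algebraMap V (C ⧸ IC)) = ⊥ := by
        rw [IsScalarTower.algebraMap_eq V C (C ⧸ IC), ← Ideal.map_map]
        exact Ideal.map_quotient_self _
      exact (h1 _ (π.comp φ) hbot).trans (h1 _ (φ₀.comp ((AdicCompletion.evalOneₐ IA).restrictScalars V)) hbot).symm
    have h3 := hz _ hp
    rw [map_sub, map_sub, map_sub, map_sub, hφ, hv', AlgHom.commutes] at h3
    rw [show Ideal.Quotient.mk IA p = algebraMap A (A ⧸ IA) p from rfl] at h3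
    exact sub_left_inj.mp h3
  refine ⟨φ, ?_, RingHom.ext hcomp⟩
  -- finiteness by the complete Nakayama lemma
  letI := φ.toRingHom.toAlgebra
  show Module.Finite A' C'
  haveI : IsScalarTower V A' C' := .of_algebraMap_eq fun r => (φ.commutes r).symm
  let K := I.map (algebraMap V A')
  have hKC : K.map (algebraMap A' C') = I.map (algebraMap V C') := by
    rw [Ideal.map_map, ← IsScalarTower.algebraMap_eq]
  haveI : IsAdicComplete K A' := by
    show IsAdicComplete (I.map (algebraMap V A')) A'
    rw [show I.map (algebraMap V A') = IA.map (algebraMap A A') by rw [Ideal.map_map, ← IsScalarTower.algebraMap_eq]]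
    exact (IsAdicComplete.map_algebraMap_iff _ _).mpr (AdicCompletion.isAdicComplete hfgA)
  haveI : IsHausdorff K C' := IsHausdorff.map_algebraMap_iff.mp (by rw [hKC]; exact hC'.toIsHausdorff)
  let ψ : A' →+* C ⧸ IC := φ₀.toRingHom.comp (AdicCompletion.evalOneₐ IA).toRingHom
  have hψ : ψ.Finite := hφ₀.comp (RingHom.Finite.of_surjective _ (AdicCompletion.evalOneₐ_surjective IA))
  letI : Algebra A' (C ⧸ IC) := ψ.toAlgebra
  haveI : Module.Finite A' (C ⧸ IC) := hψ
  let l : C' →ₗ[A'] C ⧸ IC :=
    { toFun := π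
      map_add' := map_add π
      map_smul' := fun a c => by
        rw [Algebra.smul_def, map_mul, RingHom.id_apply, Algebra.smul_def]
        congr 1
        exact hcomp a }
  have hlker : LinearMap.ker l = (K • ⊤ : Submodule A' C') := by
    rw [Ideal.smul_top_eq_map, hKC, ← hπker']
    ext x
    rfl
  haveI : Module.Finite A' (C' ⧸ (K • ⊤ : Submodule A' C')) :=
    Module.Finite.equiv ((Submodule.quotEquivOfEq _ _ hlker.symm).trans (l.quotKerEquivOfSurjective hπs)).symm
  exact H24Adic.finite_of_finite_quotient (M := C') K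

end Groth.Agent.H05EGA4.LiftFiniteCompletion
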