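import Mathlib
import Groth.Prelude.Def_Found
import Groth.Agent.S6299
import Groth.Agent.S0569
import Groth.Agent.S2114
import Groth.Agent.H1CAlg.NagataFiniteType

/-!
Power series over a Japanese domain are Japanese.
-/

set_option autoImplicit false
set_option linter.style.haveILetI false
set_option maxHeartbeats 800000
universe u
open Groth.Agent

namespace Groth.Agent.H05EGA4.N2PowerSeries

/-- `N-2` descends along a finite birational extension of domains. -/
theorem isN2_of_birational {S T : Type u} [CommRing S] [IsDomain S] [CommRing T] [IsDomain T] [Algebra S T]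
    [Module.Finite S T] (hinj : Function.Injective (algebraMap S T)) (c : S) (hc : c ≠ 0)
    (hcT : ∀ t : T, algebraMap S T c * t ∈ (algebraMap S T).range) (hT : CAlg.IsN2 T) : CAlg.IsN2 S := by
  intro L _ _ _ _ hL
  let φ : S →+* L := algebraMap S L
  have hφ : Function.Injective φ := by
    intro a b hab
    apply IsFractionRing.injective S (FractionRing S)
    apply (algebraMap (FractionRing S) L).injective
    rw [← IsScalarTower.algebraMap_apply, ← IsScalarTower.algebraMap_apply]
    exact hab
  have hφc : φ c ≠ 0 := fun h => hc (hφ (h.trans φ.map_zero.symm))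
  choose d hd using hcT
  have hkey : ∀ (t : T) (s : S), algebraMap S T s = algebraMap S T c * t → φ s / φ c = φ (d t) / φ c := by
    intro t s hs
    rw [hinj (hs.trans (hd t).symm)]
  let ψ : T →+* L :=
    { toFun := fun t => φ (d t) / φ c
      map_one' := by rw [← hkey 1 c (mul_one _).symm, div_self hφc]
      map_mul' := fun a b => by
        have h : d a * d b = c * d (a * b) := hinj (by rw [map_mul, map_mul, hd, hd, hd]; ring)
        have h' := congrArg φ h
        rw [map_mul, map_mul] at h'
        field_simp
        linear_combination h'.symm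
      map_zero' := by rw [← hkey 0 0 (by rw [mul_zero, map_zero]), map_zero, zero_div]
      map_add' := fun a b => by
        rw [← hkey (a + b) (d a + d b) (by rw [map_add, hd, hd, mul_add]), map_add, add_div] }
  have hψS : ∀ s, ψ (algebraMap S T s) = φ s := fun s => by
    show φ (d _) / φ c = _
    rw [← hkey _ (c * s) (by rw [map_mul]), map_mul, mul_div_cancel_left₀ _ hφc]
  have hψ : Function.Injective ψ := (injective_iff_map_eq_zero ψ).mpr fun t ht => by
    change φ (d t) / φ c = 0 at ht
    have h0 : d t = 0 := hφ (((div_eq_zero_iff.mp ht).resolve_right hφc).trans φ.map_zero.symm)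
    have := hd t
    rw [h0, map_zero] at this
    exact ((mul_eq_zero.mp this.symm).resolve_left fun h => hc (hinj (h.trans (map_zero _).symm)))
  letI : Algebra T L := ψ.toAlgebra
  let J : FractionRing T →+* L := IsFractionRing.lift hψ
  letI : Algebra (FractionRing T) L := J.toAlgebra
  haveI : IsScalarTower T (FractionRing T) L := .of_algebraMap_eq fun t => (IsFractionRing.lift_algebraMap hψ t).symm
  haveI hST : IsScalarTower S T L := .of_algebraMap_eq fun s => (hψS s).symm
  -- the two fraction fields act compatibly
  let I : FractionRing S →+* FractionRing T :=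
    IsFractionRing.lift (g := (algebraMap T (FractionRing T)).comp (algebraMap S T))
      ((IsFractionRing.injective T (FractionRing T)).comp hinj)
  letI := I.toAlgebra
  haveI : IsScalarTower (FractionRing S) (FractionRing T) L := IsScalarTower.of_algebraMap_eq' (by
    refine IsLocalization.ringHom_ext (nonZeroDivisors S) (RingHom.ext fun s => ?_)
    show algebraMap (FractionRing S) L (algebraMap S _ s) = J (I (algebraMap S _ s))
    rw [← IsScalarTower.algebraMap_apply, IsFractionRing.lift_algebraMap, RingHom.comp_apply,
      IsFractionRing.lift_algebraMap]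
    exact (hψS s).symm)
  haveI : FiniteDimensional (FractionRing T) L := Module.Finite.right (FractionRing S) (FractionRing T) L
  haveI := hT L inferInstance
  haveI : Module.Finite S (integralClosure T L) := Module.Finite.trans T _
  haveI : Algebra.IsIntegral S T := inferInstance
  let e : integralClosure S L →ₗ[S] integralClosure T L :=
    { toFun := fun x => ⟨x.1, IsIntegral.tower_top x.2⟩
      map_add' := fun _ _ => rfl
      map_smul' := fun s x => Subtype.ext (by
        show s • x.1 = ((s • (⟨x.1, IsIntegral.tower_top x.2⟩ : integralClosure T L) : integralClosure T L) : L)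
        rfl) }
  let e' : integralClosure T L →ₗ[S] integralClosure S L :=
    { toFun := fun x => ⟨x.1, isIntegral_trans (R := S) (A := T) x.1 x.2⟩
      map_add' := fun _ _ => rfl
      map_smul' := fun _ _ => rfl }
  exact Module.Finite.of_surjective e' fun x => ⟨e x, rfl⟩

theorem finite_map_powerSeries {R R' : Type u} [CommRing R] [CommRing R'] [Algebra R R'] [Module.Finite R R'] :
    (PowerSeries.map (algebraMap R R')).Finite := by
  classical
  algebraize [PowerSeries.map (algebraMap R R')]
  obtain ⟨n, g, hg⟩ := Module.Finite.exists_fin (R := R) (M := R')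
  refine ⟨⟨Finset.univ.image fun i => PowerSeries.C (g i), top_le_iff.mp fun f _ => ?_⟩⟩
  have hc : ∀ k, ∃ a : Fin n → R, ∑ i, a i • g i = PowerSeries.coeff k f := fun k =>
    Submodule.mem_span_range_iff_exists_fun R |>.mp (hg ▸ Submodule.mem_top)
  choose a ha using hc
  have hf : f = ∑ i, (PowerSeries.mk fun k => a k i) • PowerSeries.C (g i) := by
    ext k
    rw [map_sum, ← ha k]
    refine Finset.sum_congr rfl fun i _ => ?_
    rw [Algebra.smul_def, Algebra.smul_def, RingHom.algebraMap_toAlgebra (PowerSeries.map (algebraMap R R')),
      PowerSeries.coeff_mul_C, PowerSeries.coeff_map, PowerSeries.coeff_mk]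
  rw [hf]
  exact sum_mem fun i _ =>
    Submodule.smul_mem _ _ (Submodule.subset_span (Finset.mem_image_of_mem _ (Finset.mem_univ i)))

theorem isN2_powerSeries_normal (B : Type u) [CommRing B] [IsDomain B] [IsNoetherianRing B] [IsIntegrallyClosed B]
    (hB : CAlg.IsN2 B) : CAlg.IsN2 (PowerSeries B) := by
  obtain ⟨h1, h2⟩ := S6299.result B
  haveI := h1
  haveI := h2
  haveI : (Ideal.span ({PowerSeries.X} : Set (PowerSeries B))).IsPrime := PowerSeries.span_X_isPrime
  have hker : RingHom.ker (PowerSeries.constantCoeff (R := B)) = Ideal.span {PowerSeries.X} := by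
    ext f
    rw [RingHom.mem_ker, Ideal.mem_span_singleton, PowerSeries.X_dvd_iff]
  let e0 : (PowerSeries B ⧸ Ideal.span ({PowerSeries.X} : Set (PowerSeries B))) ≃+* B :=
    (Ideal.quotEquivOfEq hker.symm).trans
      (RingHom.quotientKerEquivOfRightInverse (g := PowerSeries.C) fun b => PowerSeries.constantCoeff_C b)
  exact S0569.result (PowerSeries B) PowerSeries.X (H1CAlg.isN2_of_ringEquiv e0.symm hB)

theorem isN2_powerSeries {R : Type u} [CommRing R] [IsDomain R] [IsNoetherianRing R] (h : CAlg.IsN2 R) :
    CAlg.IsN2 (PowerSeries R) := by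
  classical
  let R' := integralClosure R (FractionRing R)
  haveI : Module.Finite R R' := h (FractionRing R) (Module.Finite.self _)
  haveI : IsNoetherianRing R' := IsNoetherianRing.of_finite R R'
  haveI : IsIntegrallyClosed R' := integralClosure.isIntegrallyClosedOfFiniteExtension (FractionRing R)
  have hR' : CAlg.IsN2 R' := S2114.result (FaithfulSMul.algebraMap_injective R R') h
  have hN := isN2_powerSeries_normal R' hR'
  obtain ⟨n, g, hg⟩ := Module.Finite.exists_fin (R := R) (M := R')
  obtain ⟨b, hb⟩ := IsLocalization.exist_integer_multiples (nonZeroDivisors R) Finset.univ fun i => (g i : FractionRing R)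
  have hb' : ∀ t : R', ∃ r : R, algebraMap R R' r = algebraMap R R' b * t := by
    intro t
    have ht : t ∈ Submodule.span R (Set.range g) := hg ▸ Submodule.mem_top
    induction ht using Submodule.span_induction with
    | mem x hx =>
      obtain ⟨i, rfl⟩ := hx
      obtain ⟨r, hr⟩ := hb i (Finset.mem_univ i)
      refine ⟨r, Subtype.ext ?_⟩
      show algebraMap R (FractionRing R) r = algebraMap R (FractionRing R) b * (g i : FractionRing R)
      rw [hr, Algebra.smul_def]
    | zero => exact ⟨0, by rw [map_zero, mul_zero]⟩
    | add x y _ _ hx hy =>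
      obtain ⟨r, hr⟩ := hx; obtain ⟨s, hs⟩ := hy
      exact ⟨r + s, by rw [map_add, hr, hs, mul_add]⟩
    | smul a x _ hx =>
      obtain ⟨r, hr⟩ := hx
      exact ⟨a * r, by rw [map_mul, hr, Algebra.smul_def]; ring⟩
  have hfin := finite_map_powerSeries (R := R) (R' := R')
  letI := (PowerSeries.map (algebraMap R R')).toAlgebra
  haveI : Module.Finite (PowerSeries R) (PowerSeries R') := hfin
  refine isN2_of_birational (S := PowerSeries R) (T := PowerSeries R')
    (PowerSeries.map_injective _ (FaithfulSMul.algebraMap_injective R R')) (PowerSeries.C (b : R))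
    (fun h0 => nonZeroDivisors.coe_ne_zero b (by simpa using congrArg PowerSeries.constantCoeff h0)) (fun t => ?_) hN
  choose r hr using hb'
  refine ⟨PowerSeries.mk fun k => r (PowerSeries.coeff k t), ?_⟩
  ext k
  rw [RingHom.algebraMap_toAlgebra, PowerSeries.coeff_map, PowerSeries.coeff_mk, PowerSeries.map_C,
    PowerSeries.coeff_C_mul, hr]

end Groth.Agent.H05EGA4.N2PowerSeries
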