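import Mathlib
import Groth.Agent.H05EGA4.GeomReducedNagata
import Groth.Agent.H1CAlg.NagataUnramified
import Groth.Agent.H8Props.NagataAffine
import Groth.Agent.S4562

/-!
A criterion for Nagata rings: local conditions and generic normality.
-/

set_option autoImplicit false
set_option linter.style.haveILetI false
set_option maxHeartbeats 1600000
set_option synthInstance.maxHeartbeats 200000
universe u
open IsLocalRing Groth.Agent Groth.Agent.H05EGA4

namespace Groth.Agent.H05EGA4.NagataCriterion

theorem isNagata_of_local_and_generic {A : Type u} [CommRing A] [IsNoetherianRing A]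
    (hloc : ∀ (p : Ideal A) [p.IsPrime], CAlg.IsNagata (Localization.AtPrime p))
    (h2 : ∀ (p : Ideal A) [p.IsPrime] (K' : Type u) [Field K'] [Algebra (A ⧸ p) K']
          [Algebra (FractionRing (A ⧸ p)) K'] [IsScalarTower (A ⧸ p) (FractionRing (A ⧸ p)) K']
          [FiniteDimensional (FractionRing (A ⧸ p)) K'] [IsPurelyInseparable (FractionRing (A ⧸ p)) K']
          (B' : Subalgebra (A ⧸ p) K'), Module.Finite (A ⧸ p) B' → IsFractionRing B' K' →
            ∃ f : B', f ≠ 0 ∧ IsIntegrallyClosed (Localization.Away f)) :
    CAlg.IsNagata A := by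
  classical
  refine ⟨inferInstance, fun P _ => ?_⟩
  refine Groth.Agent.S4562.result (A ⧸ P) fun K' _ _ _ _ hfd hpi => ?_
  haveI := hpi
  let D := A ⧸ P
  let C := integralClosure D K'
  haveI : FiniteDimensional (FractionRing D) K' := hfd
  have hinj : Function.Injective (algebraMap D K') := by
    rw [IsScalarTower.algebraMap_eq D (FractionRing D) K']
    exact (algebraMap (FractionRing D) K').injective.comp (IsFractionRing.injective D _)
  haveI : FaithfulSMul D K' := (faithfulSMul_iff_algebraMap_injective _ _).mpr hinj
  haveI halg : Algebra.IsAlgebraic D K' := IsFractionRing.comap_isAlgebraic_iff.mpr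
    (inferInstance : Algebra.IsAlgebraic (FractionRing D) K')
  -- local finiteness
  have hfinloc : ∀ (q : Ideal D) [q.IsPrime],
      Module.Finite (Localization.AtPrime q) (LocalizedModule q.primeCompl C) := by
    intro q _
    let Dq := Localization.AtPrime q
    let Q := q.comap (Ideal.Quotient.mk P)
    haveI : IsNoetherianRing (Localization.AtPrime Q) := IsLocalization.isNoetherianRing Q.primeCompl _ inferInstance
    haveI : IsNoetherianRing Dq := IsLocalization.isNoetherianRing q.primeCompl _ inferInstance
    letI algQ : Algebra (Localization.AtPrime Q) Dq := (Localization.localRingHom Q q (Ideal.Quotient.mk P) rfl).toAlgebra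
    haveI : Module.Finite (Localization.AtPrime Q) Dq := Module.Finite.of_surjective (Algebra.linearMap _ Dq)
      ((RingHom.surjectiveOnStalks_of_surjective Ideal.Quotient.mk_surjective).localRingHom_surjective Q q rfl)
    have hu : ∀ y : q.primeCompl, IsUnit (algebraMap D K' y) := fun y =>
      isUnit_iff_ne_zero.mpr ((map_ne_zero_iff _ hinj).mpr fun h => y.2 (h ▸ zero_mem q))
    letI : Algebra Dq K' := (IsLocalization.lift hu).toAlgebra
    haveI : IsScalarTower D Dq K' := .of_algebraMap_eq fun a => (IsLocalization.lift_eq hu a).symm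
    haveI : IsFractionRing Dq (FractionRing D) :=
      IsFractionRing.isFractionRing_of_isDomain_of_isLocalization q.primeCompl _ _
    haveI : IsDomain Dq := IsLocalization.isDomain_localization q.primeCompl_le_nonZeroDivisors
    have hN2 : CAlg.IsN2 Dq := H1CAlg.isN2_of_finite_isNagata (R := Localization.AtPrime Q) (hloc Q)
    haveI : IsScalarTower Dq (FractionRing D) K' :=
      IsScalarTower.of_algebraMap_eq' (IsLocalization.ringHom_ext q.primeCompl (RingHom.ext fun a => by
        simp only [RingHom.comp_apply, ← IsScalarTower.algebraMap_apply]))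
    haveI := H02CA.finite_integralClosure_of_isN2 hN2 (FractionRing D) K'
    let ι : C →ₗ[D] integralClosure Dq K' :=
      { toFun := fun x => ⟨x, x.2.tower_top⟩
        map_add' := fun _ _ => rfl
        map_smul' := fun _ _ => rfl }
    have hun : ∀ x : q.primeCompl, IsUnit ((algebraMap D (Module.End D (integralClosure Dq K'))) x) := fun x => by
      rw [Module.End.isUnit_iff]
      have hx := IsLocalization.map_units Dq x
      refine ⟨fun a b hab => ?_, fun b => ⟨(hx.unit⁻¹ : Dqˣ).1 • b, ?_⟩⟩
      · have h1 : (x : D) • a = (x : D) • b := hab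
        rw [← algebraMap_smul Dq (x : D) a, ← algebraMap_smul Dq (x : D) b] at h1
        exact hx.smul_left_cancel.mp h1
      · show (x : D) • ((hx.unit⁻¹ : Dqˣ).1 • b) = b
        rw [← algebraMap_smul Dq (x : D), smul_smul, hx.mul_val_inv, one_smul]
    let l : LocalizedModule q.primeCompl C →ₗ[D] integralClosure Dq K' := LocalizedModule.lift q.primeCompl ι hun
    let l' : LocalizedModule q.primeCompl C →ₗ[Dq] integralClosure Dq K' :=
      l.extendScalarsOfIsLocalization q.primeCompl Dq
    haveI : IsNoetherian Dq (integralClosure Dq K') := by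
      exact isNoetherian_of_finite_of_noeth Dq (integralClosure Dq K')
    refine Module.Finite.of_injective l' fun a b hab => ?_
    induction a using LocalizedModule.induction_on with
    | _ m s =>
      induction b using LocalizedModule.induction_on with
      | _ m' s' =>
        have h1 : l (LocalizedModule.mk m s) = l (LocalizedModule.mk m' s') := hab
        rw [LocalizedModule.lift_mk, LocalizedModule.lift_mk, Module.End.algebraMap_isUnit_inv_apply_eq_iff,
          ← map_smul, eq_comm, Module.End.algebraMap_isUnit_inv_apply_eq_iff] at h1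
        rw [LocalizedModule.mk_eq]
        refine ⟨1, ?_⟩
        rw [one_smul, one_smul]
        refine Subtype.ext ?_
        have h2 := congrArg (fun z : integralClosure Dq K' => (z : K')) h1
        simp only [ι, LinearMap.coe_mk, AddHom.coe_mk] at h2
        simpa [Submonoid.smul_def] using h2.symm
  -- a finite birational algebra with open regular locus
  obtain ⟨s, hs⟩ : ∃ s : Finset K', Submodule.span (FractionRing D) (s : Set K') = ⊤ := Module.Finite.fg_top
  obtain ⟨y, hy0, hy⟩ := exists_integral_multiples (A := D) (K := FractionRing D) (L := K') s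
  let B := Algebra.adjoin D ((fun x => y • x) '' (s : Set K'))
  haveI : Module.Finite D B := Module.Finite.iff_fg.mpr (fg_adjoin_of_finite (s.finite_toSet.image _) (by
    rintro _ ⟨x, hx, rfl⟩; exact hy x hx))
  haveI : Algebra.IsIntegral D B := Algebra.IsIntegral.of_finite D B
  haveI : IsNoetherianRing B := IsNoetherianRing.of_finite D B
  have hBy : y ≠ 0 := hy0
  have hgenB : ∀ z : K', ∃ a : B, ∃ t : D, t ≠ 0 ∧ t • z = a := by
    intro z
    have hz : z ∈ Submodule.span (FractionRing D) (s : Set K') := hs ▸ Submodule.mem_top
    induction hz using Submodule.span_induction with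
    | mem x hx => exact ⟨⟨y • x, Algebra.subset_adjoin ⟨x, hx, rfl⟩⟩, y, hBy, rfl⟩
    | zero => exact ⟨0, 1, one_ne_zero, by simp⟩
    | add x x' _ _ hx hx' =>
      obtain ⟨a, t, ht, h⟩ := hx
      obtain ⟨a', t', ht', h'⟩ := hx'
      refine ⟨t' • a + t • a', t * t', mul_ne_zero ht ht', ?_⟩
      push_cast
      rw [← h, ← h', smul_add, smul_smul, smul_smul, mul_comm t t']
    | smul c x _ hx =>
      obtain ⟨a, t, ht, h⟩ := hx
      obtain ⟨c1, c2, hc2, rfl⟩ := IsFractionRing.div_surjective (A := D) c
      refine ⟨c1 • a, c2 * t, mul_ne_zero (nonZeroDivisors.ne_zero hc2) ht, ?_⟩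
      push_cast
      rw [← h]
      simp only [Algebra.smul_def, map_mul, IsScalarTower.algebraMap_apply D (FractionRing D) K', map_div₀]
      have h0 : algebraMap (FractionRing D) K' (algebraMap D (FractionRing D) c2) ≠ 0 :=
        (map_ne_zero_iff _ (algebraMap (FractionRing D) K').injective).mpr
          (IsFractionRing.to_map_ne_zero_of_mem_nonZeroDivisors hc2)
      field_simp
  haveI : FaithfulSMul B K' := (faithfulSMul_iff_algebraMap_injective _ _).mpr Subtype.val_injective
  haveI hBfrac : IsFractionRing B K' := IsFractionRing.of_field B K' fun z => by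
    obtain ⟨a, t, ht, h⟩ := hgenB z
    exact ⟨a, algebraMap D B t, (eq_div_iff ((map_ne_zero_iff _ hinj).mpr ht)).mpr (by
      show z * algebraMap D K' t = a
      rw [← h, Algebra.smul_def, mul_comm])⟩
  obtain ⟨g, hg0, hgic⟩ := h2 P K' B inferInstance inferInstance
  obtain ⟨f, hf0, gf⟩ : ∃ f : D, f ≠ 0 ∧ g ∣ algebraMap D B f :=
    ((Algebra.IsIntegral.isIntegral g).isAlgebraic).exists_nonzero_dvd (mem_nonZeroDivisors_of_ne_zero hg0)
  let fB := algebraMap D B f
  let Bf := Localization.Away fB
  have hfB : fB ≠ 0 := fun h => hf0 (by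
    have : algebraMap D K' f = 0 := by rw [show algebraMap D K' f = (fB : K') from rfl, h]; rfl
    exact (map_eq_zero_iff _ hinj).mp this)
  have hle : Submonoid.powers fB ≤ nonZeroDivisors B := powers_le_nonZeroDivisors_of_noZeroDivisors hfB
  haveI : IsDomain Bf := IsLocalization.isDomain_localization hle
  haveI : IsIntegrallyClosed Bf := by
    haveI := hgic
    haveI : IsDomain (Localization.Away g) :=
      IsLocalization.isDomain_localization (powers_le_nonZeroDivisors_of_noZeroDivisors hg0)
    obtain ⟨g', hg'⟩ := gf
    haveI : IsLocalization.Away (algebraMap B (Localization.Away g) g') (Localization.Away (algebraMap B (Localization.Away g) g')) := inferInstance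
    haveI hfg : IsLocalization.Away fB (Localization.Away (algebraMap B (Localization.Away g) g')) := by
      have : fB = g * g' := hg'
      rw [this]
      exact IsLocalization.Away.mul' (Localization.Away g) _ g g'
    haveI : IsIntegrallyClosed (Localization.Away (algebraMap B (Localization.Away g) g')) :=
      isIntegrallyClosed_of_isLocalization (R := Localization.Away g) _
        (Submonoid.powers (algebraMap B (Localization.Away g) g'))
        (powers_le_nonZeroDivisors_of_noZeroDivisors (fun (h0 : algebraMap B (Localization.Away g) g' = 0) => hfB (by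
          show fB = 0
          rw [show fB = g * g' from hg']
          rw [← map_zero (algebraMap B (Localization.Away g))] at h0
          rw [IsLocalization.injective (Localization.Away g) (powers_le_nonZeroDivisors_of_noZeroDivisors hg0) h0, mul_zero])))
    exact IsIntegrallyClosed.of_equiv (IsLocalization.algEquiv (Submonoid.powers fB)
      (Localization.Away (algebraMap B (Localization.Away g) g')) Bf).toRingEquiv
  have hu : ∀ y : Submonoid.powers fB, IsUnit (algebraMap B K' y) := fun y =>
    isUnit_iff_ne_zero.mpr ((map_ne_zero_iff _ Subtype.val_injective).mpr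
      (nonZeroDivisors.ne_zero (hle y.2)))
  letI : Algebra Bf K' := (IsLocalization.lift hu).toAlgebra
  haveI : IsScalarTower B Bf K' := .of_algebraMap_eq fun a => (IsLocalization.lift_eq hu a).symm
  haveI : IsFractionRing Bf K' := IsFractionRing.isFractionRing_of_isDomain_of_isLocalization (Submonoid.powers fB) _ _
  have hmem : ∀ x : C, ∃ n : ℕ, f ^ n • (x : K') ∈ B := by
    intro x
    have hx : IsIntegral Bf (x : K') := by
      have h1 : IsIntegral B (x : K') := x.2.tower_top
      exact h1.tower_top
    obtain ⟨z, hz⟩ := IsIntegrallyClosed.isIntegral_iff.mp hx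
    obtain ⟨⟨b, ⟨_, n, rfl⟩⟩, hb⟩ := IsLocalization.surj (Submonoid.powers fB) z
    refine ⟨n, ?_⟩
    have h2 := congrArg (algebraMap Bf K') hb
    rw [map_mul, hz, ← IsScalarTower.algebraMap_apply, ← IsScalarTower.algebraMap_apply] at h2
    have h3 : f ^ n • (x : K') = (b : K') := by
      rw [Algebra.smul_def, mul_comm, map_pow]
      simpa [fB] using h2
    rw [h3]; exact b.2
  have hf : Module.Finite (Localization.Away f) (LocalizedModule (Submonoid.powers f) C) := by
    let incl : B →ₗ[D] C :=
      { toFun := fun b => ⟨b, (Algebra.IsIntegral.isIntegral (R := D) b).map B.val⟩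
        map_add' := fun _ _ => rfl
        map_smul' := fun _ _ => rfl }
    obtain ⟨T, hT⟩ := (Module.Finite.fg_top (R := D) (M := B))
    refine ⟨⟨T.image fun b => LocalizedModule.mk (incl b) 1, eq_top_iff.mpr fun z _ => ?_⟩⟩
    induction z using LocalizedModule.induction_on with
    | _ x t =>
      obtain ⟨n, hn⟩ := hmem x
      let b : B := ⟨_, hn⟩
      have hspan : LocalizedModule.mk (incl b) (1 : Submonoid.powers f) ∈ Submodule.span (Localization.Away f)
          ((T.image fun b => LocalizedModule.mk (incl b) (1 : Submonoid.powers f) : Finset _) : Set _) := by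
        have hb : b ∈ Submodule.span D (T : Set B) := hT ▸ Submodule.mem_top
        have := Submodule.mem_map_of_mem (f := (LocalizedModule.mkLinearMap (Submonoid.powers f) C).comp incl) hb
        rw [Submodule.map_span] at this
        rw [Finset.coe_image]
        exact Submodule.span_le_restrictScalars D (Localization.Away f) _ this
      have heq : LocalizedModule.mk x t =
          Localization.mk (1 : D) (⟨f ^ n, n, rfl⟩ * t) • LocalizedModule.mk (incl b) (1 : Submonoid.powers f) := by
        rw [LocalizedModule.mk_smul_mk, one_smul, mul_one, LocalizedModule.mk_eq]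
        refine ⟨1, Subtype.ext ?_⟩
        simp only [one_smul]
        show ((⟨f ^ n, n, rfl⟩ * t : Submonoid.powers f) : D) • (x : K') = (t : D) • (f ^ n • (x : K'))
        rw [Submonoid.coe_mul, smul_smul, mul_comm]
      rw [heq]
      exact Submodule.smul_mem _ _ hspan
  exact finite_integralClosure_of_local K' hf0 hf hfinloc

/-- Local rings at all primes from those at maximal ideals. -/
theorem isNagata_atPrime {A : Type u} [CommRing A] [IsNoetherianRing A]
    (h : ∀ (m : Ideal A) [m.IsMaximal] (P : Ideal (Localization.AtPrime m)) [P.IsPrime],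
          CAlg.IsN2 (Localization.AtPrime m ⧸ P)) (p : Ideal A) [p.IsPrime] :
    CAlg.IsNagata (Localization.AtPrime p) := by
  obtain ⟨m, hm, hpm⟩ := Ideal.exists_le_maximal p (Ideal.IsPrime.ne_top inferInstance)
  let Am := Localization.AtPrime m
  haveI : IsNoetherianRing Am := IsLocalization.isNoetherianRing m.primeCompl _ inferInstance
  have hdisj : Disjoint (m.primeCompl : Set A) p := Set.disjoint_left.mpr fun x hx hx' => hx (hpm hx')
  haveI := IsLocalization.isPrime_of_isPrime_disjoint m.primeCompl Am p inferInstance hdisj
  let p' := p.map (algebraMap A Am)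
  have hloc := IsLocalization.isLocalization_isLocalization_atPrime_isLocalization m.primeCompl (Localization.AtPrime p') p'
  have hN : CAlg.IsNagata (Localization.AtPrime p') :=
    H8Props.NagataAffine.isNagata_of_isLocalization p'.primeCompl _ (R := Am) ⟨inferInstance, fun P _ => h m P⟩
  have key : ∀ (q : Ideal A) [q.IsPrime], q = p → IsLocalization.AtPrime (Localization.AtPrime p') q →
      CAlg.IsNagata (Localization.AtPrime p) := by
    intro q _ hq H
    subst hq
    exact H8Props.NagataAffine.isNagata_of_ringEquiv
      (IsLocalization.algEquiv q.primeCompl (Localization.AtPrime p') (Localization.AtPrime q)).toRingEquiv hN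
  exact key _ (IsLocalization.under_map_of_isPrime_disjoint m.primeCompl Am inferInstance hdisj) hloc

/-- Birational finite algebras over a Nagata domain are generically normal. -/
theorem exists_isIntegrallyClosed_away {D K' : Type u} [CommRing D] [IsDomain D] [Field K'] [Algebra D K']
    [Module.Finite D (integralClosure D K')] (B' : Subalgebra D K') [Module.Finite D B'] [IsFractionRing B' K'] :
    ∃ f : B', f ≠ 0 ∧ IsIntegrallyClosed (Localization.Away f) := by
  classical
  obtain ⟨G, hG⟩ := Module.Finite.fg_top (R := D) (M := integralClosure D K')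
  choose n d hd hnd using fun z : K' => IsFractionRing.div_surjective (A := B') z
  let f : B' := ∏ z ∈ G, d z
  have hf : f ≠ 0 := Finset.prod_ne_zero_iff.mpr fun z _ => nonZeroDivisors.ne_zero (hd _)
  refine ⟨f, hf, ?_⟩
  have hclear : ∀ x : integralClosure D K', (f : K') * x ∈ B' := by
    intro x
    have hx : x ∈ Submodule.span D (G : Set (integralClosure D K')) := hG ▸ Submodule.mem_top
    induction hx using Submodule.span_induction with
    | mem z hz =>
      have h1 : (f : K') = (d z : K') * ((∏ w ∈ G.erase z, d (w : K') : B') : K') := by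
        rw [← Subalgebra.coe_mul]
        exact congrArg Subtype.val (Finset.mul_prod_erase G (fun z => d (z : K')) hz).symm
      have h2 : (d z : K') * (z : K') = n z := by
        have hne : (d z : K') ≠ 0 := fun h0 => nonZeroDivisors.ne_zero (hd _) (Subtype.ext h0)
        calc (d z : K') * (z : K') = (d z : K') * ((n z : K') / (d z : K')) := congrArg _ (hnd z).symm
          _ = n z := mul_div_cancel₀ _ hne
      rw [h1, mul_right_comm, h2]
      exact mul_mem (SetLike.coe_mem _) (SetLike.coe_mem _)
    | zero => simp
    | add a b _ _ ha hb => push_cast; rw [mul_add]; exact add_mem ha hb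
    | smul c a _ ha => push_cast; rw [mul_smul_comm]; exact Subalgebra.smul_mem _ ha c
  let Bf := Localization.Away f
  have hle : Submonoid.powers f ≤ nonZeroDivisors B' := powers_le_nonZeroDivisors_of_noZeroDivisors hf
  have hu : ∀ y : Submonoid.powers f, IsUnit (algebraMap B' K' y) := fun y =>
    isUnit_iff_ne_zero.mpr ((map_ne_zero_iff _ Subtype.val_injective).mpr (nonZeroDivisors.ne_zero (hle y.2)))
  letI : Algebra Bf K' := (IsLocalization.lift hu).toAlgebra
  haveI : IsScalarTower B' Bf K' := .of_algebraMap_eq fun a => (IsLocalization.lift_eq hu a).symm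
  haveI : IsDomain Bf := IsLocalization.isDomain_localization hle
  haveI : IsFractionRing Bf K' := IsFractionRing.isFractionRing_of_isDomain_of_isLocalization (Submonoid.powers f) _ _
  refine (isIntegrallyClosed_iff K').mpr fun {x} hx => ?_
  obtain ⟨⟨_, m, rfl⟩, hm⟩ := hx.exists_multiple_integral_of_isLocalization (Submonoid.powers f) x
  haveI : Algebra.IsIntegral D B' := Algebra.IsIntegral.of_finite D B'
  have h1 : IsIntegral D ((f ^ m : B') • x) := isIntegral_trans (A := B') _ hm
  have h2 := hclear ⟨_, h1⟩
  refine ⟨IsLocalization.mk' Bf (⟨_, h2⟩ : B') (⟨f ^ (m + 1), m + 1, rfl⟩ : Submonoid.powers f), ?_⟩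
  refine ((IsLocalization.map_units Bf (⟨f ^ (m + 1), m + 1, rfl⟩ : Submonoid.powers f)).map (algebraMap Bf K')).mul_left_inj.mp ?_
  rw [← map_mul, IsLocalization.mk'_spec, ← IsScalarTower.algebraMap_apply, ← IsScalarTower.algebraMap_apply]
  show (f : K') * ((f ^ m : B') • x) = x * ((f ^ (m + 1) : B') : K')
  rw [Algebra.smul_def]
  show (f : K') * (((f ^ m : B') : K') * x) = _
  push_cast
  ring

theorem isNagata_iff (A : Type u) [CommRing A] [IsNoetherianRing A] :
    CAlg.IsNagata A ↔
      ((∀ (m : Ideal A) [m.IsMaximal] (P : Ideal (Localization.AtPrime m)) [P.IsPrime],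
          CAlg.IsN2 (Localization.AtPrime m ⧸ P)) ∧
        ∀ (p : Ideal A) [p.IsPrime] (K' : Type u) [Field K'] [Algebra (A ⧸ p) K']
          [Algebra (FractionRing (A ⧸ p)) K'] [IsScalarTower (A ⧸ p) (FractionRing (A ⧸ p)) K']
          [FiniteDimensional (FractionRing (A ⧸ p)) K'] [IsPurelyInseparable (FractionRing (A ⧸ p)) K']
          (B' : Subalgebra (A ⧸ p) K'), Module.Finite (A ⧸ p) B' → IsFractionRing B' K' →
            ∃ f : B', f ≠ 0 ∧ IsIntegrallyClosed (Localization.Away f)) := by
  constructor
  · intro h
    refine ⟨fun m _ P _ => (H8Props.NagataAffine.isNagata_of_isLocalization m.primeCompl _ h).2 P, ?_⟩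
    intro p _ K' _ _ _ _ _ _ B' hB hfr
    haveI := hB; haveI := hfr
    haveI : Module.Finite (A ⧸ p) (integralClosure (A ⧸ p) K') := h.2 p K' inferInstance
    exact exists_isIntegrallyClosed_away B'
  · rintro ⟨h1, h2⟩
    exact isNagata_of_local_and_generic (isNagata_atPrime h1) h2

end Groth.Agent.H05EGA4.NagataCriterion
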