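import Mathlib
import Groth.Prelude.Def_CAlgX
import Groth.Agent.H05EGA4.GeomRegular

/-!
# Jacobian criterion: adic formal smoothness of local rings gives formal smoothness nearby (helper5)
-/

set_option autoImplicit false
set_option linter.style.haveILetI false
set_option maxHeartbeats 400000
set_option synthInstance.maxHeartbeats 100000
universe u
open IsLocalRing TensorProduct CAlgX Groth.Agent

namespace Groth.Agent.H05EGA4

/-- A derivation inverting the conormal map up to `f` gives formal smoothness where `f` is invertible. -/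
theorem formallySmooth_away_of_derivation {k₀ P C Cf : Type u} [CommRing k₀] [CommRing P] [CommRing C] [CommRing Cf]
    [Algebra k₀ P] [Algebra k₀ C] [Algebra P C] [IsScalarTower k₀ P C] [Algebra.FormallySmooth k₀ P]
    [Algebra C Cf] [Algebra k₀ Cf] [IsScalarTower k₀ C Cf] (hπ : Function.Surjective (algebraMap P C))
    (f : P) [IsLocalization.Away (algebraMap P C f) Cf]
    (D : Derivation k₀ P (RingHom.ker (algebraMap P C)).Cotangent)
    (hD : ∀ x : RingHom.ker (algebraMap P C), D (x : P) = f • (RingHom.ker (algebraMap P C)).toCotangent x) :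
    Algebra.FormallySmooth k₀ Cf := by
  refine Algebra.FormallySmooth.of_comp_surjective fun B _ _ J hJ g => ?_
  let gP : P →ₐ[k₀] B ⧸ J := (g.comp (IsScalarTower.toAlgHom k₀ C Cf)).comp (IsScalarTower.toAlgHom k₀ P C)
  let θ := Algebra.FormallySmooth.lift J ⟨2, hJ⟩ gP
  have hθ : ∀ y, Ideal.Quotient.mk J (θ y) = g (algebraMap C Cf (algebraMap P C y)) :=
    fun y => Algebra.FormallySmooth.mk_lift J ⟨2, hJ⟩ gP y
  letI : Algebra P B := θ.toRingHom.toAlgebra
  have : IsScalarTower k₀ P B := IsScalarTower.of_algebraMap_eq fun c => (θ.commutes c).symm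
  let I := RingHom.ker (algebraMap P C)
  have hI : ∀ x ∈ I, θ x ∈ J := fun x hx => Ideal.Quotient.eq_zero_iff_mem.mp (by
    rw [hθ, RingHom.mem_ker.mp hx, map_zero, map_zero])
  have hJJ : ∀ a ∈ J, ∀ b ∈ J, a * b = 0 := fun a ha b hb =>
    Ideal.mem_bot.mp (hJ.le (pow_two J ▸ Ideal.mul_mem_mul ha hb))
  let δ₀ : I →ₗ[P] B :=
    { toFun := fun x => θ x
      map_add' := fun a b => map_add θ _ _
      map_smul' := fun a b => map_mul θ _ _ }
  let δ : I.Cotangent →ₗ[P] B := Submodule.liftQ _ δ₀ fun x hx => by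
    refine Submodule.smul_induction_on hx (fun a ha y _ => ?_) fun a b ha hb => ?_
    · show θ (a * (y : P)) = 0
      rw [map_mul]
      exact hJJ _ (hI a ha) _ (hI _ y.2)
    · rw [LinearMap.mem_ker, map_add, LinearMap.mem_ker.mp ha, LinearMap.mem_ker.mp hb, add_zero]
  have hδJ : ∀ z, δ z ∈ J := fun z => by
    obtain ⟨z, rfl⟩ := Submodule.mkQ_surjective _ z
    exact hI _ z.2
  obtain ⟨u, hu⟩ := isUnit_of_isUnit_mk_sq hJ (show IsUnit (Ideal.Quotient.mk J (θ f)) by
    rw [hθ]; exact (IsLocalization.Away.algebraMap_isUnit (algebraMap P C f)).map g)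
  let ε : P → B := fun y => (↑u⁻¹ : B) * δ (D y)
  have hεJ : ∀ y, ε y ∈ J := fun y => J.mul_mem_left _ (hδJ _)
  have hεmul : ∀ a b, ε (a * b) = θ a * ε b + θ b * ε a := fun a b => by
    show (↑u⁻¹ : B) * δ (D (a * b)) = θ a * ((↑u⁻¹ : B) * δ (D b)) + θ b * ((↑u⁻¹ : B) * δ (D a))
    rw [D.leibniz, map_add, map_smul, map_smul]
    show (↑u⁻¹ : B) * (θ a * δ (D b) + θ b * δ (D a)) = _
    ring
  have hε1 : ε 1 = 0 := by show (↑u⁻¹ : B) * δ (D 1) = 0; rw [D.map_one_eq_zero, map_zero, mul_zero]
  let θ' : P →ₐ[k₀] B :=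
    { toFun := fun y => θ y - ε y
      map_one' := by rw [map_one, hε1, sub_zero]
      map_mul' := fun a b => by rw [map_mul, hεmul]; linear_combination (-1 : B) * hJJ _ (hεJ a) _ (hεJ b)
      map_zero' := by show θ 0 - (↑u⁻¹ : B) * δ (D 0) = 0; rw [map_zero, map_zero, map_zero, mul_zero, sub_zero]
      map_add' := fun a b => by
        show θ (a + b) - (↑u⁻¹ : B) * δ (D (a + b)) = θ a - (↑u⁻¹ : B) * δ (D a) + (θ b - (↑u⁻¹ : B) * δ (D b))
        rw [map_add, map_add, map_add]; ring
      commutes' := fun c => by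
        show θ (algebraMap k₀ P c) - (↑u⁻¹ : B) * δ (D (algebraMap k₀ P c)) = _
        rw [D.map_algebraMap, map_zero, mul_zero, sub_zero, θ.commutes] }
  have hker : ∀ x ∈ I, θ' x = 0 := fun x hx => by
    show θ x - (↑u⁻¹ : B) * δ (D x) = 0
    rw [show D x = f • I.toCotangent ⟨x, hx⟩ from hD ⟨x, hx⟩, map_smul]
    show θ x - (↑u⁻¹ : B) * (θ f * θ x) = 0
    rw [← hu, ← mul_assoc, Units.inv_mul, one_mul, sub_self]
  let πA : P →ₐ[k₀] C := IsScalarTower.toAlgHom k₀ P C
  let v0 : C →+* B := RingHom.liftOfSurjective (algebraMap P C) hπ ⟨θ'.toRingHom, fun x hx => hker x hx⟩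
  have hv0' : ∀ y, v0 (algebraMap P C y) = θ' y := fun y =>
    RingHom.liftOfRightInverse_comp_apply _ _ _ ⟨θ'.toRingHom, fun x hx => hker x hx⟩ y
  let v : C →ₐ[k₀] B :=
    { v0 with
      commutes' := fun c => by
        show v0 (algebraMap k₀ C c) = _
        rw [IsScalarTower.algebraMap_apply k₀ P C, hv0', θ'.commutes] }
  have hmk : ∀ y, Ideal.Quotient.mk J (θ' y) = g (algebraMap C Cf (algebraMap P C y)) := fun y => by
    show Ideal.Quotient.mk J (θ y - ε y) = _
    rw [map_sub, Ideal.Quotient.eq_zero_iff_mem.mpr (hεJ y), sub_zero, hθ]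
  have hunit : ∀ y : Submonoid.powers (algebraMap P C f), IsUnit (v y) := by
    rintro ⟨_, n, rfl⟩
    show IsUnit (v (algebraMap P C f ^ n))
    rw [map_pow]
    refine IsUnit.pow n (isUnit_of_isUnit_mk_sq hJ ?_)
    show IsUnit (Ideal.Quotient.mk J (v0 (algebraMap P C f)))
    rw [hv0', hmk]
    exact (IsLocalization.Away.algebraMap_isUnit (algebraMap P C f)).map g
  refine ⟨IsLocalization.liftAlgHom (M := Submonoid.powers (algebraMap P C f)) hunit, ?_⟩
  refine IsLocalization.algHom_ext (Submonoid.powers (algebraMap P C f)) (AlgHom.ext fun c => ?_)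
  obtain ⟨y, rfl⟩ := hπ c
  show Ideal.Quotient.mk J (IsLocalization.lift hunit (algebraMap C Cf (algebraMap P C y))) = _
  rw [IsLocalization.lift_eq]
  exact (congrArg (Ideal.Quotient.mk J) (hv0' y)).trans (hmk y)

/-- Clearing denominators of a linear map on finitely many elements of a projective module. -/
theorem exists_scaled_linearMap {P R Ω : Type u} [CommRing P] [CommRing R] [Algebra P R] (S : Submonoid P)
    [IsLocalization S R] [AddCommGroup Ω] [Module P Ω] [Module.Projective P Ω] (L : Ω →ₗ[P] R)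
    {r : ℕ} (ω : Fin r → Ω) :
    ∃ (s : S) (L' : Ω →ₗ[P] P), ∀ i, algebraMap P R (L' (ω i)) = algebraMap P R s * L (ω i) := by
  classical
  obtain ⟨σ, hσ⟩ := Module.projective_def'.mp (inferInstance : Module.Projective P Ω)
  let T : Finset Ω := Finset.univ.biUnion fun i => (σ (ω i)).support
  obtain ⟨s, hs⟩ := IsLocalization.exist_integer_multiples S T fun b => L b
  choose c hc using fun b : T => hs b.1 b.2
  let c' : Ω → P := fun b => if hb : b ∈ T then c ⟨b, hb⟩ else 0
  refine ⟨s, (Finsupp.linearCombination P c').comp σ, fun i => ?_⟩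
  have h1 : ω i = Finsupp.linearCombination P id (σ (ω i)) := (LinearMap.congr_fun hσ (ω i)).symm
  rw [LinearMap.comp_apply]
  conv_rhs => rw [h1, Finsupp.linearCombination_apply, map_finsuppSum]
  rw [Finsupp.linearCombination_apply, map_finsuppSum, Finsupp.sum, Finsupp.sum, Finset.mul_sum]
  refine Finset.sum_congr rfl fun b hb => ?_
  have hbT : b ∈ T := Finset.mem_biUnion.mpr ⟨i, Finset.mem_univ _, hb⟩
  rw [smul_eq_mul, map_mul, show c' b = c ⟨b, hbT⟩ from dif_pos hbT, hc ⟨b, hbT⟩, id_eq, map_smul,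
    Algebra.smul_def, Algebra.smul_def]
  ring

/-- Evaluation of a finite sum of derivations. -/
theorem derivation_sum_apply {R A M ι : Type*} [CommRing R] [CommRing A] [Algebra R A] [AddCommGroup M] [Module A M]
    [Module R M] (s : Finset ι) (F : ι → Derivation R A M) (y : A) : (∑ i ∈ s, F i) y = ∑ i ∈ s, F i y := by
  classical
  induction s using Finset.induction_on with
  | empty => simp
  | insert a s ha ih => rw [Finset.sum_insert ha, Finset.sum_insert ha, Derivation.add_apply, ih]

/-- A derivation into the residue field dual to a linear form on the conormal module. -/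
theorem exists_derivation_residue_of_fs {k₀ P R Cp : Type u} [CommRing k₀] [CommRing P] [CommRing R]
    [CommRing Cp] [IsLocalRing R] [IsNoetherianRing R] [IsLocalRing Cp] [Algebra k₀ P] [Algebra P R] [Algebra k₀ R]
    [IsScalarTower k₀ P R] [Algebra k₀ Cp] (ρ : R →ₐ[k₀] Cp) (hρ : Function.Surjective ρ) (K : Ideal R)
    (hK : RingHom.ker ρ = K) (h : IsAdicFormallySmooth k₀ Cp (maximalIdeal Cp))
    (φ : K →ₗ[R] R ⧸ maximalIdeal R) :
    ∃ Δ : Derivation k₀ P (R ⧸ maximalIdeal R), ∀ (x : P) (hx : algebraMap P R x ∈ K), Δ x = φ ⟨_, hx⟩ := by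
  classical
  let m := maximalIdeal R
  have hKm : K ≤ m := hK ▸ le_maximalIdeal (RingHom.ker_ne_top ρ)
  obtain ⟨k, hk⟩ := Ideal.exists_pow_inf_eq_pow_smul m (K : Submodule R R)
  have hAR : ∀ z ∈ m ^ (k + 1), z ∈ K → z ∈ m * K := by
    intro z hz hzK
    have h1 : z ∈ (m ^ (k + 1) • ⊤ : Submodule R R) ⊓ K := ⟨by rwa [smul_eq_mul, Ideal.mul_top], hzK⟩
    rw [hk (k + 1) (Nat.le_succ k), Nat.add_sub_cancel_left, pow_one, smul_eq_mul] at h1
    exact Ideal.mul_mono_right inf_le_right h1
  let I' := m * K ⊔ m ^ (k + 1)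
  let q := Ideal.Quotient.mkₐ k₀ I'
  let J : Ideal (R ⧸ I') := K.map q
  have hJ : J ^ 2 = ⊥ := by
    rw [← Ideal.map_pow, ← le_bot_iff, pow_two]
    refine (Ideal.map_mono ((Ideal.mul_mono_left hKm).trans (le_sup_left : m * K ≤ I'))).trans ?_
    exact (Ideal.map_quotient_self I').le
  let gR : R →ₐ[k₀] (R ⧸ I') ⧸ J := (Ideal.Quotient.mkₐ k₀ J).comp q
  have hgR : RingHom.ker ρ.toRingHom ≤ RingHom.ker gR.toRingHom := fun x hx =>
    Ideal.Quotient.eq_zero_iff_mem.mpr (Ideal.mem_map_of_mem _ (hK ▸ hx : x ∈ K))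
  let ψ0 : Cp →+* (R ⧸ I') ⧸ J := RingHom.liftOfSurjective ρ.toRingHom hρ ⟨gR.toRingHom, hgR⟩
  have hψ0 : ∀ x, ψ0 (ρ x) = gR x := fun x => RingHom.liftOfRightInverse_comp_apply _ _ _ ⟨gR.toRingHom, hgR⟩ x
  let ψ : Cp →ₐ[k₀] (R ⧸ I') ⧸ J :=
    { ψ0 with
      commutes' := fun c => by
        show ψ0 (algebraMap k₀ Cp c) = _
        rw [← ρ.commutes c, hψ0, gR.commutes] }
  have : IsLocalHom ρ.toRingHom := Function.Surjective.isLocalHom _ hρ
  obtain ⟨χ, hχ⟩ := h (R ⧸ I') J hJ ψ ⟨k + 1, fun x hx => by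
    rw [← IsLocalRing.map_maximalIdeal_of_surjective ρ.toRingHom hρ, ← Ideal.map_pow] at hx
    obtain ⟨y, hy, rfl⟩ := (Ideal.mem_map_iff_of_surjective ρ.toRingHom hρ).mp hx
    show ψ0 (ρ y) = 0
    rw [hψ0]
    show Ideal.Quotient.mk J (Ideal.Quotient.mk I' y) = 0
    rw [Ideal.Quotient.eq_zero_iff_mem.mpr (Submodule.mem_sup_right hy : y ∈ I'), map_zero]⟩
  have hex : ∀ z : R, ∃ w : K, Ideal.Quotient.mk I' (w : R) = Ideal.Quotient.mk I' z - χ (ρ z) := by
    intro z
    have h1 : Ideal.Quotient.mk I' z - χ (ρ z) ∈ J := by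
      rw [← Ideal.Quotient.eq_zero_iff_mem, map_sub,
        show Ideal.Quotient.mk J (χ (ρ z)) = gR z from (AlgHom.congr_fun hχ (ρ z)).trans (hψ0 z)]
      exact sub_self _
    obtain ⟨w, hw, hwe⟩ := (Ideal.mem_map_iff_of_surjective _ Ideal.Quotient.mk_surjective).mp h1
    exact ⟨⟨w, hw⟩, hwe⟩
  have hmK : ∀ (w : K), (w : R) ∈ m * K → φ w = 0 := by
    intro w hw
    have key : ∀ z ∈ m * K, ∀ hz : z ∈ K, φ ⟨z, hz⟩ = 0 := by
      intro z hz
      induction hz using Submodule.mul_induction_on' with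
      | mem_mul_mem a ha b hb =>
        intro hab
        have h1 : (⟨a * b, hab⟩ : K) = a • ⟨b, hb⟩ := Subtype.ext rfl
        rw [h1, map_smul]
        obtain ⟨c, hc⟩ := Ideal.Quotient.mk_surjective (φ ⟨b, hb⟩)
        rw [← hc]
        show Ideal.Quotient.mk m (a * c) = 0
        exact Ideal.Quotient.eq_zero_iff_mem.mpr (Ideal.mul_mem_right _ _ ha)
      | add a ha b hb iha ihb =>
        intro hab
        have h1 : (⟨a + b, hab⟩ : K) = ⟨a, Ideal.mul_le_right ha⟩ + ⟨b, Ideal.mul_le_right hb⟩ := Subtype.ext rfl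
        rw [h1, map_add, iha, ihb, add_zero]
    exact key w hw w.2
  have hwd : ∀ w w' : K, Ideal.Quotient.mk I' (w : R) = Ideal.Quotient.mk I' (w' : R) → φ w = φ w' := by
    intro w w' he
    obtain ⟨a, ha, b, hb, hab⟩ := Submodule.mem_sup.mp (Ideal.Quotient.eq.mp he)
    rw [← sub_eq_zero, ← map_sub]
    refine hmK _ ?_
    show (w : R) - w' ∈ m * K
    rw [← hab]
    refine add_mem ha (hAR b hb ?_)
    rw [show b = ((w : R) - w') - a by rw [← hab]; ring]
    exact sub_mem (sub_mem w.2 w'.2) (Ideal.mul_le_right ha)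
  choose W hW using hex
  let Δ0 : P → R ⧸ m := fun y => φ (W (algebraMap P R y))
  have hval : ∀ (y : P) (w : K),
      Ideal.Quotient.mk I' (w : R) = Ideal.Quotient.mk I' (algebraMap P R y) - χ (ρ (algebraMap P R y)) →
      Δ0 y = φ w := fun y w hw => hwd _ _ ((hW _).trans hw.symm)
  let Δl : P →ₗ[k₀] R ⧸ m :=
    { toFun := Δ0
      map_add' := fun a b => by
        refine (hval (a + b) (W (algebraMap P R a) + W (algebraMap P R b)) ?_).trans (map_add φ _ _)
        rw [Submodule.coe_add, map_add, hW, hW, map_add, map_add, map_add, map_add]; ring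
      map_smul' := fun c a => by
        refine (hval (c • a) (algebraMap k₀ R c • W (algebraMap P R a)) ?_).trans ?_
        · rw [Submodule.coe_smul, smul_eq_mul, map_mul, hW, Algebra.smul_def, map_mul,
            ← IsScalarTower.algebraMap_apply, map_mul, map_mul, map_mul, ρ.commutes, χ.commutes]
          show algebraMap k₀ (R ⧸ I') c * _ = algebraMap k₀ (R ⧸ I') c * _ - _
          ring
        · rw [map_smul, RingHom.id_apply, algebraMap_smul] }
  refine ⟨Derivation.mk' Δl fun a b => ?_, fun x hx => ?_⟩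
  · show Δ0 (a * b) = a • Δ0 b + b • Δ0 a
    set za := algebraMap P R a
    set zb := algebraMap P R b
    refine (hval (a * b) (za • W zb + zb • W za - (W za : R) • W zb) ?_).trans ?_
    · rw [Submodule.coe_sub, Submodule.coe_add, Submodule.coe_smul, Submodule.coe_smul, Submodule.coe_smul,
        smul_eq_mul, smul_eq_mul, smul_eq_mul, map_sub, map_add, map_mul, map_mul, map_mul, hW, hW, map_mul (algebraMap P R),
        map_mul, map_mul, map_mul]
      ring
    · rw [map_sub, map_add, map_smul, map_smul, map_smul]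
      have h0 : (W za : R) • φ (W zb) = 0 := by
        rw [← map_smul]
        exact hmK _ (Ideal.mul_mem_mul (hKm (W za).2) (W zb).2)
      rw [h0, sub_zero, algebraMap_smul, algebraMap_smul]
  · show Δ0 x = _
    refine hval x ⟨_, hx⟩ ?_
    have : ρ (algebraMap P R x) = 0 := RingHom.mem_ker.mp (hK ▸ hx)
    rw [this, map_zero, sub_zero]

/-- Adic formal smoothness at a prime gives a derivation inverting the conormal map nearby. -/
theorem exists_derivation_inverse {k₀ P C : Type u} [CommRing k₀] [CommRing P] [CommRing C] [IsNoetherianRing P]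
    [Algebra k₀ P] [Algebra k₀ C] [Algebra P C] [IsScalarTower k₀ P C] [Algebra.FormallySmooth k₀ P]
    (hπ : Function.Surjective (algebraMap P C)) (p : Ideal C) [p.IsPrime]
    (h : IsAdicFormallySmooth k₀ (Localization.AtPrime p) (maximalIdeal (Localization.AtPrime p))) :
    ∃ f : P, algebraMap P C f ∉ p ∧ ∃ D : Derivation k₀ P (RingHom.ker (algebraMap P C)).Cotangent,
      ∀ x : RingHom.ker (algebraMap P C), D (x : P) = f • (RingHom.ker (algebraMap P C)).toCotangent x := by
  classical
  let I := RingHom.ker (algebraMap P C)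
  let Q := p.comap (algebraMap P C)
  let R := Localization.AtPrime Q
  let Cp := Localization.AtPrime p
  have : IsNoetherianRing R := IsLocalization.isNoetherianRing Q.primeCompl _ inferInstance
  let m := maximalIdeal R
  let ρ0 : R →+* Cp := Localization.localRingHom Q p (algebraMap P C) rfl
  have hρ0 : ∀ y, ρ0 (algebraMap P R y) = algebraMap C Cp (algebraMap P C y) :=
    fun y => Localization.localRingHom_to_map _ _ _ rfl y
  let ρ : R →ₐ[k₀] Cp :=
    { ρ0 with
      commutes' := fun c => by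
        show ρ0 (algebraMap k₀ R c) = _
        rw [IsScalarTower.algebraMap_apply k₀ P R, hρ0, ← IsScalarTower.algebraMap_apply k₀ P C,
          ← IsScalarTower.algebraMap_apply] }
  have hρs : Function.Surjective ρ := fun z => by
    obtain ⟨⟨c, s, hs⟩, hcs⟩ := IsLocalization.surj p.primeCompl z
    obtain ⟨c', rfl⟩ := hπ c
    obtain ⟨s', rfl⟩ := hπ s
    have hs' : s' ∈ Q.primeCompl := hs
    refine ⟨IsLocalization.mk' R c' (⟨s', hs'⟩ : Q.primeCompl), ((IsLocalization.map_units Cp ⟨_, hs⟩).mul_left_inj).mp ?_⟩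
    refine Eq.trans ?_ hcs.symm
    show ρ0 _ * algebraMap C Cp (algebraMap P C s') = _
    rw [← hρ0, ← map_mul, IsLocalization.mk'_spec R c' (⟨s', hs'⟩ : Q.primeCompl), hρ0]
  have hker : RingHom.ker ρ = I.map (algebraMap P R) := by
    refine le_antisymm (fun z hz => ?_) (Ideal.map_le_iff_le_comap.mpr fun y hy => ?_)
    · obtain ⟨⟨a, s, hs⟩, has⟩ := IsLocalization.surj Q.primeCompl z
      have h1 : algebraMap C Cp (algebraMap P C a) = 0 := by
        rw [← hρ0, ← has]
        show ρ (z * _) = 0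
        rw [map_mul, show ρ z = 0 from hz, zero_mul]
      obtain ⟨⟨t, ht⟩, htc⟩ := (IsLocalization.map_eq_zero_iff p.primeCompl Cp _).mp h1
      obtain ⟨t', rfl⟩ := hπ t
      have hsu : IsUnit (algebraMap P R (t' * s)) :=
        IsLocalization.map_units R (⟨t' * s, Q.primeCompl.mul_mem (ht : t' ∈ Q.primeCompl) hs⟩ : Q.primeCompl)
      refine (Ideal.unit_mul_mem_iff_mem _ hsu).mp ?_
      rw [map_mul, mul_assoc, mul_comm (algebraMap P R s) z, has, ← map_mul]
      refine Ideal.mem_map_of_mem _ ?_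
      show algebraMap P C (t' * a) = 0
      rw [map_mul]
      exact htc
    · show ρ0 (algebraMap P R y) = 0
      rw [hρ0, RingHom.mem_ker.mp hy, map_zero]
  let K : Ideal R := I.map (algebraMap P R)
  letI : Field (R ⧸ m) := Ideal.Quotient.field m
  let V := K ⧸ (m • ⊤ : Submodule R K)
  have : Module.Finite (R ⧸ m) V := Module.Finite.of_restrictScalars_finite R _ _
  let b := Module.finBasis (R ⧸ m) V
  -- representatives in `I`
  have hrep : ∀ i, ∃ (a : P) (ha : a ∈ I) (c : R ⧸ m), c ≠ 0 ∧
      Submodule.Quotient.mk (p := (m • ⊤ : Submodule R K)) ⟨algebraMap P R a, Ideal.mem_map_of_mem _ ha⟩ = c • b i := by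
    intro i
    obtain ⟨w, hw⟩ := Submodule.Quotient.mk_surjective _ (b i)
    obtain ⟨⟨⟨a, ha⟩, s⟩, has⟩ := (IsLocalization.mem_map_algebraMap_iff Q.primeCompl R).mp w.2
    refine ⟨a, ha, Ideal.Quotient.mk m (algebraMap P R s), fun h0 =>
      (Ideal.Quotient.eq_zero_iff_mem.mp h0) (IsLocalization.map_units R s), ?_⟩
    rw [← hw]
    show _ = Submodule.Quotient.mk (algebraMap P R s • w)
    congr 1
    exact Subtype.ext (by rw [Submodule.coe_smul, smul_eq_mul, mul_comm]; exact has.symm)
  choose x hxI c hc hxb using hrep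
  let xR : Fin (Module.finrank (R ⧸ m) V) → K := fun i => ⟨algebraMap P R (x i), Ideal.mem_map_of_mem _ (hxI i)⟩
  let φ : Fin (Module.finrank (R ⧸ m) V) → (K →ₗ[R] R ⧸ m) := fun j =>
    (((c j)⁻¹ • b.coord j).restrictScalars R).comp (Submodule.mkQ _)
  have hφ : ∀ j i, φ j (xR i) = if i = j then 1 else 0 := fun j i => by
    show (c j)⁻¹ • b.coord j (Submodule.Quotient.mk (xR i)) = _
    rw [show (Submodule.Quotient.mk (xR i) : V) = c i • b i from hxb i, map_smul, Module.Basis.coord_apply,
      Module.Basis.repr_self, Finsupp.single_apply]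
    split_ifs with hij
    · subst hij; simp [hc i]
    · simp
  choose Δ hΔ using fun j => exists_derivation_residue_of_fs (P := P) ρ hρs K hker h (φ j)
  -- lift to derivations of `P`
  let mkR : R →ₗ[P] R ⧸ m := (Submodule.mkQ m).restrictScalars P
  choose L hL using fun j =>
    Module.projective_lifting_property mkR (Δ j).liftKaehlerDifferential (Submodule.mkQ_surjective m)
  choose s L' hL' using fun j =>
    exists_scaled_linearMap Q.primeCompl (L j) fun i => KaehlerDifferential.D k₀ P (x i)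
  let N : Matrix (Fin (Module.finrank (R ⧸ m) V)) (Fin (Module.finrank (R ⧸ m) V)) P :=
    Matrix.of fun j i => L' j (KaehlerDifferential.D k₀ P (x i))
  have hdet : algebraMap P C N.det ∉ p := by
    intro hd
    have h1 : algebraMap P R N.det ∈ m := (IsLocalization.AtPrime.to_map_mem_maximal_iff R Q _).mpr hd
    rw [← Ideal.Quotient.eq_zero_iff_mem, RingHom.map_det, RingHom.map_det] at h1
    have h2 : (Ideal.Quotient.mk m).mapMatrix ((algebraMap P R).mapMatrix N) =
        Matrix.diagonal fun j => Ideal.Quotient.mk m (algebraMap P R (s j)) := by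
      ext j i
      simp only [RingHom.mapMatrix_apply, Matrix.map_apply, N, Matrix.of_apply]
      rw [hL', map_mul, show Ideal.Quotient.mk m (L j (KaehlerDifferential.D k₀ P (x i))) =
          (Δ j).liftKaehlerDifferential (KaehlerDifferential.D k₀ P (x i)) from LinearMap.congr_fun (hL j) _,
        Derivation.liftKaehlerDifferential_comp_D, hΔ j (x i) (Ideal.mem_map_of_mem _ (hxI i)), hφ]
      by_cases hij : i = j
      · subst hij; simp
      · rw [if_neg hij, mul_zero, Matrix.diagonal_apply_ne' _ hij]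
    rw [h2, Matrix.det_diagonal, Finset.prod_eq_zero_iff] at h1
    obtain ⟨j, -, hj⟩ := h1
    exact (Ideal.Quotient.eq_zero_iff_mem.mp hj) (IsLocalization.map_units R (s j))
  let E : Fin (Module.finrank (R ⧸ m) V) → Derivation k₀ P P := fun j =>
    ∑ l, N.adjugate j l • (L' l).compDer (KaehlerDifferential.D k₀ P)
  have hE : ∀ j i, E j (x i) = if i = j then N.det else 0 := fun j i => by
    have h1 := congrFun (congrFun (Matrix.adjugate_mul N) j) i
    rw [Matrix.mul_apply, Matrix.smul_apply, Matrix.one_apply] at h1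
    simp only [E, derivation_sum_apply]
    refine h1.trans ?_
    by_cases hij : i = j
    · subst hij; simp
    · simp [hij, Ne.symm hij]
  let D0 : Derivation k₀ P I.Cotangent :=
    ∑ j, (LinearMap.toSpanSingleton P I.Cotangent (I.toCotangent ⟨x j, hxI j⟩)).compDer (E j)
  have hD0 : ∀ i, D0 (x i) = N.det • I.toCotangent ⟨x i, hxI i⟩ := fun i => by
    simp only [D0, derivation_sum_apply]
    rw [Finset.sum_eq_single i]
    · show (E i (x i) • I.toCotangent ⟨x i, hxI i⟩ : I.Cotangent) = _
      rw [hE, if_pos rfl]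
    · intro j _ hji
      show (E j (x i) • I.toCotangent ⟨x j, hxI j⟩ : I.Cotangent) = 0
      rw [hE, if_neg (Ne.symm hji), zero_smul]
    · simp
  -- the representatives generate `I` near `p`
  let X : Ideal P := Ideal.span (Set.range x)
  have hgen : K ≤ X.map (algebraMap P R) := by
    refine Submodule.le_of_le_smul_of_le_jacobson_bot (IsNoetherian.noetherian K) (maximalIdeal_le_jacobson ⊥) ?_
    intro z hz
    let w : K := ⟨z, hz⟩
    choose r hr using fun i => Ideal.Quotient.mk_surjective ((c i)⁻¹ * b.repr (Submodule.Quotient.mk w) i)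
    have h1 : w - ∑ i, r i • xR i ∈ (m • ⊤ : Submodule R K) := by
      rw [← Submodule.Quotient.mk_eq_zero, ← Submodule.mkQ_apply, map_sub, map_sum, sub_eq_zero, Submodule.mkQ_apply]
      conv_lhs => rw [← b.sum_repr (Submodule.Quotient.mk w)]
      refine Finset.sum_congr rfl fun i _ => ?_
      rw [map_smul, Submodule.mkQ_apply, show (Submodule.Quotient.mk (xR i) : V) = c i • b i from hxb i,
        show r i • (c i • b i) = Ideal.Quotient.mk m (r i) • (c i • b i) from rfl, hr, ← mul_smul, mul_comm _ (c i),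
        ← mul_assoc, mul_inv_cancel₀ (hc i), one_mul]
    have h2 := Submodule.mem_map_of_mem (f := Submodule.subtype K) h1
    rw [Submodule.map_smul'', Submodule.map_top, Submodule.range_subtype, map_sub, map_sum] at h2
    have hsum : ∑ i, Submodule.subtype K (r i • xR i) ∈ X.map (algebraMap P R) := Ideal.sum_mem _ fun i _ => by
      rw [map_smul]
      exact Ideal.mul_mem_left _ _ (Ideal.mem_map_of_mem _ (Ideal.subset_span ⟨i, rfl⟩))
    have h3 := add_mem (Submodule.mem_sup_right h2 : _ ∈ X.map (algebraMap P R) ⊔ m • K) (Submodule.mem_sup_left hsum)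
    rwa [sub_add_cancel] at h3
  obtain ⟨t, htQ, ht⟩ : ∃ t : P, t ∉ Q ∧ ∀ y ∈ I, t * y ∈ X := by
    obtain ⟨G, hG⟩ := IsNoetherian.noetherian (I : Submodule P P)
    have hG' : ∀ y : (G : Set P), ∃ t ∈ Q.primeCompl, t * (y : P) ∈ X := fun y =>
      (IsLocalization.algebraMap_mem_map_algebraMap_iff Q.primeCompl R X y).mp
        (hgen (Ideal.mem_map_of_mem _ (hG ▸ Submodule.subset_span y.2)))
    choose t htQ ht using hG'
    refine ⟨∏ y : (G : Set P), t y, Q.primeCompl.prod_mem fun y _ => htQ y, fun y hy => ?_⟩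
    have hy' : y ∈ Submodule.span P (G : Set P) := hG ▸ hy
    induction hy' using Submodule.span_induction with
    | mem z hz =>
      obtain ⟨d, hd⟩ := Finset.dvd_prod_of_mem t (Finset.mem_univ (⟨z, hz⟩ : (G : Set P)))
      rw [hd, mul_comm (t _) d, mul_assoc]
      exact Ideal.mul_mem_left _ _ (ht ⟨z, hz⟩)
    | zero => rw [mul_zero]; exact zero_mem _
    | add y z _ _ iy iz => rw [mul_add]; exact add_mem (iy (hG ▸ ‹y ∈ _›)) (iz (hG ▸ ‹z ∈ _›))
    | smul r y hy2 iy => rw [smul_eq_mul, mul_left_comm]; exact Ideal.mul_mem_left _ _ (iy (hG ▸ hy2))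
  have hkill : ∀ y ∈ I, ∀ v : I.Cotangent, y • v = 0 := fun y hy v => by
    obtain ⟨v, rfl⟩ := Ideal.toCotangent_surjective I v
    rw [← map_smul, Ideal.toCotangent_eq_zero]
    show y * (v : P) ∈ I ^ 2
    rw [pow_two]
    exact Ideal.mul_mem_mul hy v.2
  refine ⟨t * N.det, ?_, t • D0, fun y => ?_⟩
  · rw [map_mul]
    exact fun hh => (Ideal.IsPrime.mem_or_mem inferInstance hh).elim htQ hdet
  obtain ⟨a, ha⟩ := Ideal.mem_span_range_iff_exists_fun.mp (ht y y.2)
  have h1 : D0 (t * (y : P)) = t • D0 (y : P) := by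
    rw [D0.leibniz, hkill _ y.2, add_zero]
  show t • D0 (y : P) = _
  have hty : (t • y : I) = ∑ i, a i • (⟨x i, hxI i⟩ : I) := Subtype.ext (by simp [← ha])
  rw [← h1, ← ha, map_sum, mul_comm t N.det, mul_smul, ← map_smul I.toCotangent t y, hty, map_sum, Finset.smul_sum]
  refine Finset.sum_congr rfl fun i _ => ?_
  rw [D0.leibniz, hkill _ (hxI i), add_zero, hD0, map_smul, smul_comm]

/-- Formal smoothness at all maximal ideals gives formal smoothness. -/
theorem formallySmooth_of_forall_isAdicFormallySmooth {k₀ P C : Type u} [CommRing k₀] [CommRing P] [CommRing C]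
    [IsNoetherianRing P] [Algebra k₀ P] [Algebra k₀ C] [Algebra P C] [IsScalarTower k₀ P C]
    [Algebra.FormallySmooth k₀ P] (hπ : Function.Surjective (algebraMap P C))
    (h : ∀ (p : Ideal C) [p.IsMaximal],
      IsAdicFormallySmooth k₀ (Localization.AtPrime p) (maximalIdeal (Localization.AtPrime p))) :
    Algebra.FormallySmooth k₀ C := by
  let I := RingHom.ker (algebraMap P C)
  let A : Ideal P :=
    { carrier := {f | ∃ D : Derivation k₀ P I.Cotangent, ∀ x : I, D (x : P) = f • I.toCotangent x}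
      add_mem' := fun {f g} ⟨D, hD⟩ ⟨E, hE⟩ => ⟨D + E, fun x => by rw [Derivation.add_apply, hD, hE, add_smul]⟩
      zero_mem' := ⟨0, fun x => by rw [Derivation.zero_apply, zero_smul]⟩
      smul_mem' := fun r f ⟨D, hD⟩ => ⟨r • D, fun x => by rw [Derivation.smul_apply, hD, smul_eq_mul, mul_smul]⟩ }
  have hkill : ∀ y ∈ I, ∀ v : I.Cotangent, y • v = 0 := fun y hy v => by
    obtain ⟨v, rfl⟩ := Ideal.toCotangent_surjective I v
    rw [← map_smul, Ideal.toCotangent_eq_zero]
    show y * (v : P) ∈ I ^ 2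
    rw [pow_two]
    exact Ideal.mul_mem_mul hy v.2
  have hA : A = ⊤ := by
    by_contra hne
    obtain ⟨M, hM, hAM⟩ := Ideal.exists_le_maximal A hne
    have hIM : I ≤ M := fun y hy => hAM ⟨0, fun x => by rw [Derivation.zero_apply, hkill y hy]⟩
    have hp : (M.map (algebraMap P C)).IsMaximal :=
      (Ideal.map_eq_top_or_isMaximal_of_surjective _ hπ hM).resolve_left fun htop => hM.ne_top (by
        have := Ideal.comap_map_of_surjective' _ hπ M
        rw [htop, Ideal.comap_top, sup_eq_left.mpr hIM] at this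
        exact this.symm)
    obtain ⟨f, hf, D, hD⟩ := exists_derivation_inverse hπ (M.map (algebraMap P C)) (h _)
    exact hf (Ideal.mem_map_of_mem _ (hAM ⟨D, hD⟩))
  obtain ⟨D, hD⟩ : (1 : P) ∈ A := hA ▸ Submodule.mem_top
  have : IsLocalization.Away (algebraMap P C 1) C := by
    rw [map_one]; exact IsLocalization.away_of_isUnit_of_bijective _ isUnit_one Function.bijective_id
  exact formallySmooth_away_of_derivation hπ 1 D hD

/-- Formal smoothness near a prime from adic formal smoothness at it. -/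
theorem exists_formallySmooth_away {k₀ P C : Type u} [CommRing k₀] [CommRing P] [CommRing C]
    [IsNoetherianRing P] [Algebra k₀ P] [Algebra k₀ C] [Algebra P C] [IsScalarTower k₀ P C]
    [Algebra.FormallySmooth k₀ P] (hπ : Function.Surjective (algebraMap P C)) (p : Ideal C) [p.IsPrime]
    (h : IsAdicFormallySmooth k₀ (Localization.AtPrime p) (maximalIdeal (Localization.AtPrime p))) :
    ∃ g : C, g ∉ p ∧ Algebra.FormallySmooth k₀ (Localization.Away g) := by
  obtain ⟨f, hf, D, hD⟩ := exists_derivation_inverse hπ p h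
  exact ⟨_, hf, formallySmooth_away_of_derivation hπ f D hD⟩

/-- Formal smoothness passes from a principal open to the local rings inside it. -/
theorem formallySmooth_atPrime_of_away {k₀ C : Type u} [CommRing k₀] [CommRing C] [Algebra k₀ C] (p : Ideal C)
    [p.IsPrime] (g : C) (hg : g ∉ p) [Algebra.FormallySmooth k₀ (Localization.Away g)] :
    Algebra.FormallySmooth k₀ (Localization.AtPrime p) := by
  have hle : Submonoid.powers g ≤ p.primeCompl := by
    rintro _ ⟨n, rfl⟩
    exact p.primeCompl.pow_mem hg n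
  letI : Algebra (Localization.Away g) (Localization.AtPrime p) :=
    IsLocalization.localizationAlgebraOfSubmonoidLe _ _ (Submonoid.powers g) p.primeCompl hle
  have : IsScalarTower C (Localization.Away g) (Localization.AtPrime p) :=
    IsLocalization.localization_isScalarTower_of_submonoid_le _ _ (Submonoid.powers g) p.primeCompl hle
  have : IsLocalization (p.primeCompl.map (algebraMap C (Localization.Away g))) (Localization.AtPrime p) :=
    IsLocalization.isLocalization_of_submonoid_le _ _ (Submonoid.powers g) p.primeCompl hle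
  have : IsScalarTower k₀ (Localization.Away g) (Localization.AtPrime p) :=
    IsScalarTower.of_algebraMap_eq fun c => by
      rw [IsScalarTower.algebraMap_apply k₀ C (Localization.Away g),
        ← IsScalarTower.algebraMap_apply C (Localization.Away g), ← IsScalarTower.algebraMap_apply]
  have : Algebra.FormallyEtale (Localization.Away g) (Localization.AtPrime p) :=
    Algebra.FormallyEtale.of_isLocalization (p.primeCompl.map (algebraMap C (Localization.Away g)))
  exact Algebra.FormallySmooth.comp k₀ (Localization.Away g) (Localization.AtPrime p)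

end Groth.Agent.H05EGA4
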