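import Groth.Agent.H05EGA4.NagataDer
import Groth.Agent.H05EGA4.NagataJac
import Groth.Agent.H05EGA4.SmoothLocus
import Groth.Agent.H05EGA4.Equidim
import Groth.Agent.H05EGA4.IntegralDim
import Groth.Agent.S9443

/-! From regularity to the Jacobian condition. -/

set_option autoImplicit false
set_option linter.style.haveILetI false
set_option maxHeartbeats 1000000

open IsLocalRing

universe u

namespace Groth.Agent.H05EGA4.NagataDetect

/-- A complete regular local ring containing a field is a power series ring. -/
theorem exists_powerSeries_equiv (k A : Type u) [Field k] [CommRing A] [IsRegularLocalRing A]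
    [IsAdicComplete (maximalIdeal A) A] [Algebra k A] :
    ∃ (K : Type u) (_ : Field K) (_ : Algebra K A) (n : ℕ),
      Nonempty (MvPowerSeries (Fin n) K ≃ₐ[K] A) ∧ ∀ p : ℕ, CharP k p → CharP K p := by
  haveI := PrimeTransfer.perfectField_bot k
  let F := (⊥ : Subfield k)
  haveI := formallySmooth_of_perfectField F (ResidueField A)
  obtain ⟨σ, hσ⟩ := exists_coefficientField (k := F) (A := A)
  letI : Algebra (ResidueField A) A := σ.toRingHom.toAlgebra
  obtain ⟨d, ⟨e⟩⟩ := S9443.result A (ResidueField A) (by
    have h : ∀ x : ResidueField A, algebraMap (ResidueField A) (ResidueField A) x = residue A (σ x) :=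
      fun x => (hσ x).symm
    refine ⟨RingHom.injective _, fun x => ⟨x, ?_⟩⟩
    show residue A (σ x) = x
    exact hσ x)
  exact ⟨ResidueField A, inferInstance, inferInstance, d, ⟨e.symm⟩,
    fun p hp => charP_of_injective_ringHom (f := algebraMap k (ResidueField A)) (RingHom.injective _) p⟩

/-- Values of a relation on the derivations killing a finite basis of differentials. -/
theorem relation_eq_zero_charP (p : ℕ) [hp : Fact p.Prime] {k A : Type u} [Field k] [CharP k p]
    (hk : Module.Finite (frobenius k p).fieldRange k) [CommRing A] [IsRegularLocalRing A]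
    [IsAdicComplete (maximalIdeal A) A] [Algebra k A] (P : Ideal A) [P.IsPrime] {m : ℕ} (f : Fin m → A)
    (hdual : ∀ l, ∃ Δ : Derivation ℤ A P.ResidueField,
      (∀ t : k, Δ (algebraMap k A t) = 0) ∧ ∀ j, Δ (f j) = if l = j then 1 else 0)
    (hext : ∀ d : Derivation ℤ k P.ResidueField, ∃ E : Derivation ℤ A P.ResidueField,
      ∀ t, E (algebraMap k A t) = d t)
    (lam : Fin m → P.ResidueField)
    (hlam : ∀ D : Derivation k A A, ∑ j, lam j * algebraMap A P.ResidueField (D (f j)) = 0) : lam = 0 := by
  classical
  obtain ⟨K, _, _, n, ⟨φ⟩, hK⟩ := exists_powerSeries_equiv k A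
  haveI := hK p inferInstance
  -- a finite basis of the differentials of `k`
  haveI : Module.Finite k (Ω[k⁄ℤ]) := by
    obtain ⟨G, hG⟩ := hk.fg_top
    refine ⟨⟨G.image (KaehlerDifferential.D ℤ k), ?_⟩⟩
    rw [eq_top_iff, ← KaehlerDifferential.span_range_derivation, Submodule.span_le]
    rintro _ ⟨x, rfl⟩
    have hx : x ∈ Submodule.span (frobenius k p).fieldRange (G : Set k) := hG ▸ trivial
    induction hx using Submodule.span_induction with
    | mem y hy => exact Submodule.subset_span (by simpa using ⟨y, hy, rfl⟩)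
    | zero => rw [map_zero]; exact zero_mem _
    | add a b _ _ ha hb => rw [map_add]; exact add_mem ha hb
    | smul c a _ ha =>
      obtain ⟨c, y, rfl⟩ := c
      show KaehlerDifferential.D ℤ k (frobenius k p y * a) ∈ _
      rw [Derivation.leibniz, frobenius_def, Derivation.leibniz_pow, ← Nat.cast_smul_eq_nsmul k, CharP.cast_eq_zero,
        zero_smul, smul_zero, add_zero]
      exact Submodule.smul_mem _ _ ha
  obtain ⟨b, hb, hspan, hind⟩ := exists_linearIndependent k (Set.range (KaehlerDifferential.D ℤ k))
  rw [KaehlerDifferential.span_range_derivation] at hspan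
  haveI : Finite b := hind.finite
  obtain ⟨e, ⟨σ⟩⟩ := Finite.exists_equiv_fin b
  let B := (Module.Basis.mk hind (by rw [Subtype.range_coe, hspan])).reindex σ
  choose t ht using fun i => hb (σ.symm i).2
  have hB : ∀ i, B i = KaehlerDifferential.D ℤ k (t i) := fun i => by
    simp [B, ht]
  let g : Fin (e + m) → A := Fin.append (fun i => algebraMap k A (t i)) f
  have hno : ∀ μ : Fin (e + m) → P.ResidueField,
      (∀ D : Derivation ℤ A A, ∑ j, μ j * algebraMap A P.ResidueField (D (g j)) = 0) → μ = 0 := by
    intro μ hμ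
    have hall := NagataDer.eq_zero_of_forall_derivation φ p P g μ hμ
    have hf0 : ∀ l, μ (Fin.natAdd e l) = 0 := fun l => by
      obtain ⟨Δ, hΔk, hΔf⟩ := hdual l
      have h1 := hall Δ
      simpa [g, Fin.sum_univ_add, hΔk, hΔf] using h1
    have ht0 : ∀ i, μ (Fin.castAdd m i) = 0 := fun i => by
      let dl : Ω[k⁄ℤ] →ₗ[k] P.ResidueField := B.constr k fun i' => if i = i' then 1 else 0
      obtain ⟨E, hE⟩ := hext (dl.compDer (KaehlerDifferential.D ℤ k))
      have h1 := hall E
      have h2 : ∀ i', E (algebraMap k A (t i')) = if i = i' then 1 else 0 := fun i' => by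
        rw [hE]
        show dl (KaehlerDifferential.D ℤ k (t i')) = _
        rw [← hB, Module.Basis.constr_basis]
      simpa [g, Fin.sum_univ_add, h2, hf0] using h1
    funext x
    induction x using Fin.addCases with
    | left i => exact ht0 i
    | right l => exact hf0 l
  obtain ⟨D, hD⟩ := NagataDer.exists_det_notMem P g hno
  obtain ⟨E, hE⟩ := NagataJac.exists_adjugate D g
  funext l
  have hkill : ∀ y : k, E (Fin.natAdd e l) (algebraMap k A y) = 0 := by
    let d₀ : Derivation ℤ k A := Derivation.mk'
      ((E (Fin.natAdd e l)).toLinearMap.toAddMonoidHom.comp (algebraMap k A).toAddMonoidHom).toIntLinearMap fun a b => by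
        show E (Fin.natAdd e l) (algebraMap k A (a * b)) = a • E _ (algebraMap k A b) + b • E _ (algebraMap k A a)
        rw [map_mul, Derivation.leibniz, algebraMap_smul, algebraMap_smul]
    have h0 : d₀.liftKaehlerDifferential = 0 := B.ext fun i => by
      rw [hB, Derivation.liftKaehlerDifferential_comp_D, LinearMap.zero_apply]
      show E (Fin.natAdd e l) (algebraMap k A (t i)) = 0
      have h1 := hE (Fin.natAdd e l) (Fin.castAdd m i)
      rw [show g (Fin.castAdd m i) = algebraMap k A (t i) from Fin.append_left _ _ i, if_neg] at h1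
      · exact h1
      · intro h
        have := congrArg Fin.val h
        simp at this
        omega
    intro y
    have h1 : d₀ y = 0 := by
      rw [← d₀.liftKaehlerDifferential_comp_D, h0]
      rfl
    exact h1
  let E' : Derivation k A A := Derivation.mk'
    { (E (Fin.natAdd e l)).toLinearMap.toAddMonoidHom with
      map_smul' := fun c a => by
        show E (Fin.natAdd e l) (c • a) = c • E (Fin.natAdd e l) a
        rw [Algebra.smul_def c a, Derivation.leibniz, hkill, smul_zero, add_zero, algebraMap_smul] }
    fun a b => (E (Fin.natAdd e l)).leibniz a b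
  have hval : ∀ j, E' (f j) = if l = j then Matrix.det (Matrix.of fun a b => D a (g b)) else 0 := fun j => by
    show E (Fin.natAdd e l) (f j) = _
    rw [show f j = g (Fin.natAdd e j) from (Fin.append_right _ _ j).symm, hE]
    simp [Fin.ext_iff]
  have h1 := hlam E'
  simp only [hval, apply_ite (algebraMap A P.ResidueField), map_zero, mul_ite, mul_zero, Finset.sum_ite_eq,
    Finset.mem_univ, if_true] at h1
  exact (mul_eq_zero.1 h1).resolve_right fun h => hD (Ideal.algebraMap_residueField_eq_zero.1 h)

/-- A derivation into the residue field restricts to a functional on the cotangent space. -/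
theorem exists_cot_functional {R : Type u} [CommRing R] [IsLocalRing R] (d : Derivation ℤ R (ResidueField R)) :
    ∃ ψ : Module.Dual (ResidueField R) (CotangentSpace R),
      ∀ (x : R) (hx : x ∈ maximalIdeal R), ψ ((maximalIdeal R).toCotangent ⟨x, hx⟩) = d x := by
  have hkill : ∀ r ∈ maximalIdeal R, ∀ z : ResidueField R, r • z = 0 := fun r hr z => by
    rw [Algebra.smul_def, ResidueField.algebraMap_eq, (residue_eq_zero_iff r).2 hr, zero_mul]
  let ψ₀ : maximalIdeal R →ₗ[R] ResidueField R :=
    { toFun := fun x => d x.1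
      map_add' := fun x y => map_add d x.1 y.1
      map_smul' := fun r x => by
        show d (r * x.1) = r • d x.1
        rw [Derivation.leibniz, hkill _ x.2, add_zero] }
  let ψ₁ : (maximalIdeal R).Cotangent →ₗ[R] R ⧸ maximalIdeal R :=
    (maximalIdeal R • ⊤ : Submodule R (maximalIdeal R)).liftQ ψ₀ (Submodule.smul_le.2 fun r hr x _ => by
      rw [LinearMap.mem_ker, map_smul]; exact hkill r hr _)
  let ψ₂ : (maximalIdeal R).Cotangent →ₗ[R ⧸ maximalIdeal R] R ⧸ maximalIdeal R :=
    ψ₁.extendScalarsOfSurjective Ideal.Quotient.mk_surjective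
  exact ⟨ψ₂, fun x hx => rfl⟩

/-- A derivation killing the variables of a power series ring kills it, into a separated module. -/
theorem eq_zero_of_kills_vars {K R : Type u} [Field K] [CommRing R] [IsLocalRing R] [IsNoetherianRing R] {s : ℕ}
    [Algebra (MvPowerSeries (Fin s) K) R] [IsLocalHom (algebraMap (MvPowerSeries (Fin s) K) R)]
    (δ : Derivation ℤ (MvPowerSeries (Fin s) K) R) (hC : ∀ c : K, δ (MvPowerSeries.C c) = 0)
    (hX : ∀ i, δ (MvPowerSeries.X i) = 0) (x : MvPowerSeries (Fin s) K) : δ x = 0 := by
  let S := MvPowerSeries (Fin s) K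
  have hpoly : ∀ q : MvPolynomial (Fin s) K, δ (q : S) = 0 := fun q => by
    induction q using MvPolynomial.induction_on with
    | C a => rw [MvPolynomial.coe_C]; exact hC a
    | add a b ha hb => rw [MvPolynomial.coe_add, map_add, ha, hb, add_zero]
    | mul_X a i ha => rw [MvPolynomial.coe_mul, MvPolynomial.coe_X, Derivation.leibniz, hX, ha, smul_zero, smul_zero, add_zero]
  have hpow : ∀ (n : ℕ), ∀ y ∈ H02CA.PS.vars (Fin s) K ^ (n + 1), δ y ∈ maximalIdeal R ^ n := by
    intro n
    induction n with
    | zero => intro y _; simp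
    | succ n ih =>
      intro y hy
      have hm : ∀ z ∈ H02CA.PS.vars (Fin s) K, algebraMap S R z ∈ maximalIdeal R := by
        have hle : H02CA.PS.vars (Fin s) K ≤ (maximalIdeal R).comap (algebraMap S R) := by
          rw [Ideal.span_le]
          rintro _ ⟨i, rfl⟩
          refine (IsLocalRing.mem_maximalIdeal _).2 fun hu => ?_
          have h2 := isUnit_of_map_unit (algebraMap S R) (MvPowerSeries.X i) hu
          rw [MvPowerSeries.isUnit_iff_constantCoeff, MvPowerSeries.constantCoeff_X] at h2
          exact not_isUnit_zero h2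
        exact fun z hz => hle hz
      rw [pow_succ] at hy
      refine Submodule.mul_induction_on hy (fun a ha b hb => ?_) fun a b ha hb => by rw [map_add]; exact add_mem ha hb
      rw [Derivation.leibniz, Algebra.smul_def, Algebra.smul_def]
      refine add_mem (Ideal.mul_mem_right _ _ ?_) ?_
      · have h1 := Ideal.pow_right_mono (Ideal.map_le_iff_le_comap.2 (fun z hz => Ideal.mem_comap.2 (hm z hz)) : (H02CA.PS.vars (Fin s) K).map (algebraMap S R) ≤ _) (n + 1)
        rw [← Ideal.map_pow] at h1
        exact h1 (Ideal.mem_map_of_mem _ ha)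
      · rw [pow_succ, mul_comm (maximalIdeal R ^ n)]
        exact Ideal.mul_mem_mul (hm b hb) (ih a ha)
  refine IsHausdorff.haus (I := maximalIdeal R)
    (IsHausdorff.of_isLocalRing _ _ (maximalIdeal.isMaximal R).ne_top) _ fun n => ?_
  rw [SModEq.zero, smul_eq_mul, Ideal.mul_top]
  have h1 := hpow n _ (H02CA.PS.sub_truncTotal_mem (n + 1) x)
  rwa [map_sub, hpoly, sub_zero] at h1

/-- The separable case: derivations generating the differentials detect regular systems. -/
theorem relation_eq_zero_separable {K A : Type u} [Field K] [CommRing A] [IsRegularLocalRing A] [Algebra K A]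
    {n : ℕ} (D : Fin n → Derivation K A A) (hn : ringKrullDim A = n) (P : Ideal A) [P.IsPrime]
    (hgen : ∀ v : Fin n → P.ResidueField, (∀ a, ∑ i, v i * algebraMap A P.ResidueField (D i a) = 0) → v = 0)
    {s : ℕ} [Algebra (MvPowerSeries (Fin s) K) (A ⧸ P)] [IsScalarTower K (MvPowerSeries (Fin s) K) (A ⧸ P)]
    [Module.Finite (MvPowerSeries (Fin s) K) (A ⧸ P)]
    (hinj : Function.Injective (algebraMap (MvPowerSeries (Fin s) K) (A ⧸ P)))
    (F L : Type u) [Field F] [Field L] [Algebra (MvPowerSeries (Fin s) K) F]
    [IsFractionRing (MvPowerSeries (Fin s) K) F] [Algebra (A ⧸ P) L] [IsFractionRing (A ⧸ P) L] [Algebra F L]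
    [Algebra (MvPowerSeries (Fin s) K) L] [IsScalarTower (MvPowerSeries (Fin s) K) (A ⧸ P) L]
    [IsScalarTower (MvPowerSeries (Fin s) K) F L] [Algebra.IsSeparable F L]
    {m : ℕ} (f : Fin m → A) (hf : ∀ i, f i ∈ P)
    (hind : LinearIndependent (ResidueField (Localization.AtPrime P))
        (fun i => (maximalIdeal (Localization.AtPrime P)).toCotangent
          ⟨algebraMap A _ (f i), (IsLocalization.AtPrime.to_map_mem_maximal_iff _ P _).2 (hf i)⟩))
    [IsRegularLocalRing (Localization.AtPrime P)]
    (lam : Fin m → P.ResidueField)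
    (hlam : ∀ E : Derivation K A A, ∑ j, lam j * algebraMap A P.ResidueField (E (f j)) = 0) : lam = 0 := by
  classical
  let S := MvPowerSeries (Fin s) K
  let R := Localization.AtPrime P
  haveI : IsLocalRing (A ⧸ P) := IsLocalRing.of_surjective' _ Ideal.Quotient.mk_surjective
  haveI : Algebra.IsIntegral S (A ⧸ P) := Algebra.IsIntegral.of_finite _ _
  haveI : IsLocalHom (algebraMap S (A ⧸ P)) := (algebraMap_isIntegral_iff.mpr inferInstance).isLocalHom hinj
  have hkill : ∀ r ∈ maximalIdeal R, ∀ z : ResidueField R, r • z = 0 := fun r hr z => by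
    rw [Algebra.smul_def, ResidueField.algebraMap_eq, (residue_eq_zero_iff r).2 hr, zero_mul]
  choose d hd using fun i => NagataJac.exists_extend_loc R P.primeCompl
    (((Algebra.linearMap A P.ResidueField).compDer (D i)).restrictScalars ℤ)
  have hd' : ∀ i a, d i (algebraMap A R a) = algebraMap A P.ResidueField (D i a) := fun i a => hd i a
  choose ψ hψ₀ using fun i => exists_cot_functional (d i)
  have hψ : ∀ i (a : A) (ha : algebraMap A R a ∈ maximalIdeal R),
      ψ i ((maximalIdeal R).toCotangent ⟨_, ha⟩) = algebraMap A P.ResidueField (D i a) := fun i a ha =>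
    (hψ₀ i _ ha).trans (hd' i a)
  let Ψ : (Fin n → ResidueField R) →ₗ[ResidueField R] Module.Dual (ResidueField R) (CotangentSpace R) :=
    Fintype.linearCombination (ResidueField R) ψ
  have hΨ : ∀ v (a : A) (ha : algebraMap A R a ∈ maximalIdeal R),
      Ψ v ((maximalIdeal R).toCotangent ⟨_, ha⟩) = ∑ i, v i * algebraMap A P.ResidueField (D i a) := fun v a ha => by
    simp only [Ψ, Fintype.linearCombination_apply, LinearMap.sum_apply, LinearMap.smul_apply, smul_eq_mul, hψ]
  -- the kernel is small
  choose x hx using fun i : Fin s => Ideal.Quotient.mk_surjective (algebraMap S (A ⧸ P) (MvPowerSeries.X i))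
  let ev : (Fin n → ResidueField R) →ₗ[ResidueField R] (Fin s → ResidueField R) :=
    LinearMap.pi fun l => Fintype.linearCombination (ResidueField R) fun i => algebraMap A P.ResidueField (D i (x l))
  have hker : LinearMap.ker Ψ ⊓ LinearMap.ker ev = ⊥ := by
    rw [eq_bot_iff]
    rintro v ⟨hv, hvx⟩
    rw [SetLike.mem_coe, LinearMap.mem_ker] at hv hvx
    rw [Submodule.mem_bot]
    refine hgen v fun a => ?_
    have hP : ∀ a ∈ P, ∑ i, v i * algebraMap A P.ResidueField (D i a) = 0 := fun a ha => by
      rw [← hΨ v a ((IsLocalization.AtPrime.to_map_mem_maximal_iff R P a).2 ha), hv, LinearMap.zero_apply]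
    have hx0 : ∀ l, ∑ i, v i * algebraMap A P.ResidueField (D i (x l)) = 0 := fun l => by
      have h1 := congrFun hvx l
      simpa [ev, Fintype.linearCombination_apply] using h1
    obtain ⟨⟨c, hc⟩, hcv⟩ := IsLocalization.exist_integer_multiples_of_finite (nonZeroDivisors (A ⧸ P)) v
    choose r hr using hcv
    replace hr : ∀ i, algebraMap (A ⧸ P) P.ResidueField (r i) = algebraMap (A ⧸ P) P.ResidueField c * v i :=
      fun i => (hr i).trans (Algebra.smul_def _ _)
    have hinjR := IsFractionRing.injective (A ⧸ P) P.ResidueField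
    let δA : A →+ A ⧸ P := AddMonoidHom.mk' (fun a => ∑ i, r i * Ideal.Quotient.mk P (D i a)) fun a b => by
      simp only [map_add, mul_add, Finset.sum_add_distrib]
    have hδA : ∀ a, algebraMap (A ⧸ P) P.ResidueField (δA a) =
        algebraMap (A ⧸ P) P.ResidueField c * ∑ i, v i * algebraMap A P.ResidueField (D i a) := fun a => by
      show algebraMap (A ⧸ P) P.ResidueField (∑ i, r i * Ideal.Quotient.mk P (D i a)) = _
      rw [map_sum, Finset.mul_sum]
      refine Finset.sum_congr rfl fun i _ => ?_
      rw [map_mul, hr, IsScalarTower.algebraMap_apply A (A ⧸ P) P.ResidueField, Ideal.Quotient.algebraMap_eq]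
      ring
    have hδP : ∀ a ∈ P, δA a = 0 := fun a ha => hinjR (by rw [hδA, hP a ha, mul_zero, map_zero])
    let δR : (A ⧸ P) →+ A ⧸ P := QuotientAddGroup.lift P.toAddSubgroup δA hδP
    have hδR : ∀ a, δR (Ideal.Quotient.mk P a) = δA a := fun a => rfl
    have hlei : ∀ y z, δR (y * z) = y * δR z + z * δR y := fun y z => by
      obtain ⟨y, rfl⟩ := Ideal.Quotient.mk_surjective y
      obtain ⟨z, rfl⟩ := Ideal.Quotient.mk_surjective z
      rw [← map_mul, hδR, hδR, hδR]
      simp only [δA, AddMonoidHom.mk'_apply]
      simp only [Derivation.leibniz, smul_eq_mul, map_add, map_mul, Finset.mul_sum, ← Finset.sum_add_distrib]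
      refine Finset.sum_congr rfl fun i _ => ?_
      ring
    let δS : Derivation ℤ S (A ⧸ P) := Derivation.mk' (δR.comp (algebraMap S (A ⧸ P)).toAddMonoidHom).toIntLinearMap
      fun y z => by
        show δR (algebraMap S (A ⧸ P) (y * z)) = y • δR _ + z • δR _
        rw [map_mul, hlei, Algebra.smul_def, Algebra.smul_def]
        rfl
    have hS : ∀ y, δR (algebraMap S (A ⧸ P) y) = 0 := by
      refine eq_zero_of_kills_vars δS (fun a => ?_) fun l => ?_
      · show δR (algebraMap S (A ⧸ P) (MvPowerSeries.C a)) = 0
        rw [show (MvPowerSeries.C a : S) = algebraMap K S a from rfl,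
          ← IsScalarTower.algebraMap_apply K S (A ⧸ P), IsScalarTower.algebraMap_apply K A (A ⧸ P),
          Ideal.Quotient.algebraMap_eq, hδR]
        show ∑ i, r i * Ideal.Quotient.mk P (D i (algebraMap K A a)) = 0
        simp
      · show δR (algebraMap S (A ⧸ P) (MvPowerSeries.X l)) = 0
        rw [← hx, hδR]
        exact hinjR (by rw [hδA, hx0, mul_zero, map_zero])
    let δL : Derivation ℤ (A ⧸ P) L := (Algebra.linearMap (A ⧸ P) L).compDer
      (Derivation.mk' δR.toIntLinearMap hlei)
    haveI : Algebra.FormallyEtale (A ⧸ P) L := Algebra.FormallyEtale.of_isLocalization (nonZeroDivisors (A ⧸ P))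
    obtain ⟨Δ, hΔ⟩ := NagataDer.exists_extend_localization (T := L) δL
    have hΔF : ∀ z : F, Δ (algebraMap F L z) = 0 := fun z => by
      have hΔS : ∀ y : S, Δ (algebraMap S L y) = 0 := fun y => by
        rw [IsScalarTower.algebraMap_apply S (A ⧸ P) L, hΔ]
        show algebraMap (A ⧸ P) L (δR (algebraMap S (A ⧸ P) y)) = 0
        rw [hS, map_zero]
      obtain ⟨a, b, hb, rfl⟩ := IsFractionRing.div_surjective (A := S) z
      rw [map_div₀, ← IsScalarTower.algebraMap_apply, ← IsScalarTower.algebraMap_apply, div_eq_mul_inv,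
        Derivation.leibniz, Derivation.leibniz_inv, hΔS, hΔS]
      simp
    let ΔF : Derivation F L L := Derivation.mk'
      { Δ.toLinearMap.toAddMonoidHom with
        map_smul' := fun z y => by
          show Δ (z • y) = z • Δ y
          rw [Algebra.smul_def z y, Δ.leibniz, hΔF, smul_zero, add_zero, algebraMap_smul] }
      fun y z => Δ.leibniz y z
    haveI : Algebra.FormallyUnramified F L := Algebra.FormallyUnramified.of_isSeparable F L
    have h0 : ΔF = 0 := by
      refine Derivation.ext fun y => ?_
      rw [← ΔF.liftKaehlerDifferential_comp_D, Subsingleton.elim (KaehlerDifferential.D F L y) 0, map_zero]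
      rfl
    have h1 : δR (Ideal.Quotient.mk P a) = 0 := by
      refine IsFractionRing.injective (A ⧸ P) L ?_
      rw [map_zero]
      have h2 : ΔF (algebraMap (A ⧸ P) L (Ideal.Quotient.mk P a)) = 0 := by rw [h0]; rfl
      exact (hΔ _).symm.trans h2
    have h3 := congrArg (algebraMap (A ⧸ P) P.ResidueField) h1
    rw [hδR, hδA, map_zero] at h3
    exact (mul_eq_zero.1 h3).resolve_left fun h => nonZeroDivisors.coe_ne_zero ⟨c, hc⟩ (hinjR (h.trans (map_zero _).symm))
  -- counting
  have hkerle : Module.finrank (ResidueField R) (LinearMap.ker Ψ) ≤ s := by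
    have hinj' : Function.Injective (ev ∘ₗ (LinearMap.ker Ψ).subtype) := by
      rw [← LinearMap.ker_eq_bot, eq_bot_iff]
      intro v hv
      have : (v : Fin n → ResidueField R) ∈ LinearMap.ker Ψ ⊓ LinearMap.ker ev := ⟨v.2, hv⟩
      rw [hker, Submodule.mem_bot] at this
      rw [Submodule.mem_bot]
      exact Subtype.ext this
    exact (LinearMap.finrank_le_finrank_of_injective hinj').trans (by rw [Module.finrank_fin_fun])
  have hrn := LinearMap.finrank_range_add_finrank_ker Ψ
  rw [Module.finrank_fin_fun] at hrn
  have hdim : Module.finrank (ResidueField R) (CotangentSpace R) + s ≤ n := by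
    have h1 := height_add_dim_quotient_le P
    rw [← IsLocalization.AtPrime.ringKrullDim_eq_height P R, ← (IsRegularLocalRing.iff_finrank_cotangentSpace R).1 inferInstance,
      (dim_int S (A ⧸ P)).2 hinj, ringKrullDim_mvPowerSeries_regular K s 0 (by simp), hn, zero_add] at h1
    exact_mod_cast h1
  have hsurj : Function.Surjective Ψ := by
    rw [← LinearMap.range_eq_top]
    refine Submodule.eq_top_of_finrank_eq (le_antisymm (Submodule.finrank_le _) ?_)
    rw [Subspace.dual_finrank_eq]
    omega
  -- dual functionals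
  obtain ⟨π', hπ'⟩ := LinearMap.exists_leftInverse_of_injective
    (Fintype.linearCombination (ResidueField R) fun i => (maximalIdeal R).toCotangent
      ⟨algebraMap A R (f i), (IsLocalization.AtPrime.to_map_mem_maximal_iff R P _).2 (hf i)⟩)
    (by rw [LinearMap.ker_eq_bot]; exact hind.fintypeLinearCombination_injective)
  funext l
  obtain ⟨v, hv⟩ := hsurj ((LinearMap.proj l).comp π')
  have hval : ∀ j, ∑ i, v i * algebraMap A P.ResidueField (D i (f j)) = if l = j then 1 else 0 := fun j => by
    rw [← hΨ v (f j) ((IsLocalization.AtPrime.to_map_mem_maximal_iff R P _).2 (hf j)), hv, LinearMap.comp_apply,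
      LinearMap.proj_apply]
    have h2 := congrFun (LinearMap.congr_fun hπ' (Pi.single j 1)) l
    rw [LinearMap.comp_apply, Fintype.linearCombination_apply_single, one_smul] at h2
    rw [h2, LinearMap.id_apply, Pi.single_apply]
  have h1 : ∑ i, v i * ∑ j, lam j * algebraMap A P.ResidueField (D i (f j)) = 0 :=
    Finset.sum_eq_zero fun i _ => by rw [hlam (D i), mul_zero]
  simp only [Finset.mul_sum] at h1
  rw [Finset.sum_comm] at h1
  simp only [mul_left_comm (v _), ← Finset.mul_sum, hval] at h1
  simpa using h1

end Groth.Agent.H05EGA4.NagataDetect
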