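import Mathlib
import Groth.Prelude.Def_Disc
import Groth.Agent.H05EGA4.DiscJac
import Groth.Agent.H17.KoszulBC
import Groth.Agent.S2235

/-!
The Noether different of a quasi-finite global complete intersection (helper5).
-/

set_option autoImplicit false
set_option linter.style.haveILetI false
universe u
open TensorProduct MvPolynomial

namespace Groth.Agent.H05EGA4.NoetherCI

theorem ringKrullDim_eq_zero_of_isArtinian (T : Type u) [CommRing T] [IsArtinianRing T] [Nontrivial T] :
    ringKrullDim T = 0 :=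
  ringKrullDimZero_iff_ringKrullDim_eq_zero.mp (isArtinianRing_iff_krullDimLE_zero.mp inferInstance)

/-- A quasi-finite algebra with as many equations as variables is a relative global complete intersection. -/
theorem isRelGCI_of_quasiFinite {R : Type u} [CommRing R] {n : ℕ} (F : Fin n → MvPolynomial (Fin n) R)
    [Algebra.QuasiFinite R (MvPolynomial (Fin n) R ⧸ Ideal.span (Set.range F))] :
    Synt.IsRelGCI R n n F := fun p hp => by
  refine ⟨le_rfl, ?_⟩
  rw [Nat.sub_self, Nat.cast_zero]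
  haveI := hp
  exact ringKrullDim_eq_zero_of_isArtinian (p.asIdeal.Fiber (MvPolynomial (Fin n) R ⧸ Ideal.span (Set.range F)))

variable {A B : Type u} [CommRing A] [CommRing B] [Algebra A B] {n : ℕ}

theorem isKoszulRegularSeq_X_sub_C (b : Fin n → B) :
    LCI.IsKoszulRegularSeq (MvPolynomial (Fin n) B) (List.ofFn fun j => X j - C (b j)) := by
  haveI : Module.Finite B (MvPolynomial (Fin n) B ⧸ Ideal.span (Set.range fun j => X j - C (b j))) :=
    Module.Finite.of_surjective (Algebra.linearMap B _) fun z => by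
      obtain ⟨p, rfl⟩ := Ideal.Quotient.mk_surjective z
      exact ⟨eval b p, (Ideal.Quotient.eq.2 (DiscJac.sub_mem_span_X B b p)).symm⟩
  exact H9CI.isKoszulRegularSeq_relGCI _ (isRelGCI_of_quasiFinite _)

theorem isKoszulRegularSeq_diag (b : Fin n → B) :
    LCI.IsKoszulRegularSeq (MvPolynomial (Fin n) A ⊗[A] B)
      (List.ofFn fun j => (X j : MvPolynomial (Fin n) A) ⊗ₜ[A] (1 : B) - 1 ⊗ₜ b j) := by
  let ψ : MvPolynomial (Fin n) B ≃+* MvPolynomial (Fin n) A ⊗[A] B :=
    ((MvPolynomial.algebraTensorAlgEquiv A B).symm.toRingEquiv).trans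
      (Algebra.TensorProduct.comm A B (MvPolynomial (Fin n) A)).toRingEquiv
  letI := ψ.toRingHom.toAlgebra
  haveI : Module.Flat (MvPolynomial (Fin n) B) (MvPolynomial (Fin n) A ⊗[A] B) :=
    RingHom.Flat.of_bijective (f := ψ.toRingHom) ψ.bijective
  have h := H17.KoszulBC.isKoszulRegularSeq_map (MvPolynomial (Fin n) A ⊗[A] B) (isKoszulRegularSeq_X_sub_C b)
  have e : ∀ j, ψ (X j - C (b j)) = (X j : MvPolynomial (Fin n) A) ⊗ₜ[A] (1 : B) - 1 ⊗ₜ b j := fun j => by
    have h1 : ψ (X j) = (X j : MvPolynomial (Fin n) A) ⊗ₜ[A] (1 : B) := by simp [ψ]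
    have h2 : ψ (C (b j)) = (1 : MvPolynomial (Fin n) A) ⊗ₜ[A] b j := by
      show (Algebra.TensorProduct.comm A B (MvPolynomial (Fin n) A))
        ((MvPolynomial.algebraTensorAlgEquiv A B).symm (algebraMap B (MvPolynomial (Fin n) B) (b j))) = _
      rw [AlgEquiv.commutes, Algebra.TensorProduct.algebraMap_apply, Algebra.algebraMap_self, RingHom.id_apply,
        Algebra.TensorProduct.comm_tmul]
    rw [map_sub, h1, h2]
  rw [List.map_ofFn] at h
  rwa [show (algebraMap (MvPolynomial (Fin n) B) (MvPolynomial (Fin n) A ⊗[A] B)) ∘ (fun j => X j - C (b j)) =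
    fun j => (X j : MvPolynomial (Fin n) A) ⊗ₜ[A] (1 : B) - 1 ⊗ₜ b j from funext e] at h

variable (φ : MvPolynomial (Fin n) A →ₐ[A] B)

theorem span_diag_eq_ker :
    Ideal.span (Set.range fun j => (X j : MvPolynomial (Fin n) A) ⊗ₜ[A] (1 : B) - 1 ⊗ₜ φ (X j)) =
      RingHom.ker (Algebra.TensorProduct.productMap φ (AlgHom.id A B)) := by
  set K := Ideal.span (Set.range fun j => (X j : MvPolynomial (Fin n) A) ⊗ₜ[A] (1 : B) - 1 ⊗ₜ φ (X j))
  refine le_antisymm (Ideal.span_le.2 ?_) fun z hz => ?_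
  · rintro _ ⟨j, rfl⟩
    simp
  · have key : ∀ p : MvPolynomial (Fin n) A, p ⊗ₜ[A] (1 : B) - 1 ⊗ₜ φ p ∈ K := fun p => by
      have h : ((Ideal.Quotient.mkₐ A K).comp Algebra.TensorProduct.includeLeft) =
          (Ideal.Quotient.mkₐ A K).comp ((Algebra.TensorProduct.includeRight).comp φ) :=
        MvPolynomial.algHom_ext fun j => Ideal.Quotient.eq.2 (Ideal.subset_span ⟨j, rfl⟩)
      exact Ideal.Quotient.eq.1 (AlgHom.congr_fun h p)
    have h2 : ∀ w : MvPolynomial (Fin n) A ⊗[A] B,
        w - 1 ⊗ₜ Algebra.TensorProduct.productMap φ (AlgHom.id A B) w ∈ K := fun w => by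
      induction w with
      | zero => simp
      | add x y hx hy =>
        rw [map_add, TensorProduct.tmul_add, add_sub_add_comm]
        exact add_mem hx hy
      | tmul p b =>
        have he : p ⊗ₜ[A] b - 1 ⊗ₜ Algebra.TensorProduct.productMap φ (AlgHom.id A B) (p ⊗ₜ[A] b) =
            (p ⊗ₜ[A] (1 : B) - 1 ⊗ₜ φ p) * ((1 : MvPolynomial (Fin n) A) ⊗ₜ[A] b) := by
          simp [sub_mul]
        rw [he]
        exact K.mul_mem_right _ (key p)
    simpa [RingHom.mem_ker.1 hz] using h2 z

theorem noetherDifferent_eq (f : Fin n → MvPolynomial (Fin n) A)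
    [Algebra.QuasiFinite A (MvPolynomial (Fin n) A ⧸ Ideal.span (Set.range f))] :
    Disc.noetherDifferent A (MvPolynomial (Fin n) A ⧸ Ideal.span (Set.range f)) =
      Ideal.span {Ideal.Quotient.mk (Ideal.span (Set.range f))
        (Matrix.det (Matrix.of fun i j => MvPolynomial.pderiv j (f i)))} := by
  have hgci := isRelGCI_of_quasiFinite f
  haveI := H9CI.flat_relGCIRing f hgci
  let I := Ideal.span (Set.range f)
  let mkA := Ideal.Quotient.mkₐ A I
  obtain ⟨c, hc, hμ⟩ := DiscJac.exists_matrix f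
  let π := Algebra.TensorProduct.map (AlgHom.id A (MvPolynomial (Fin n) A)) mkA
  have hc' : ∀ i, f i ⊗ₜ[A] (1 : MvPolynomial (Fin n) A ⧸ I) =
      ∑ j, (c.map π) i j * ((X j : MvPolynomial (Fin n) A) ⊗ₜ[A] (1 : MvPolynomial (Fin n) A ⧸ I) - 1 ⊗ₜ mkA (X j)) := fun i => by
    have h := congrArg π (hc i)
    have h0 : mkA (f i) = 0 := Ideal.Quotient.eq_zero_iff_mem.2 (Ideal.subset_span ⟨i, rfl⟩)
    simpa [π, DiscJac.dg, map_sum, h0] using h
  have hann := S2235.result f (H9CI.isKoszulRegularSeq_relGCI f hgci) _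
    (isKoszulRegularSeq_diag (fun j => mkA (X j))) (span_diag_eq_ker mkA) (c.map π) hc'
  rw [Disc.noetherDifferent, hann, Ideal.map_span, Set.image_singleton]
  congr 2
  have hcomp : ∀ z, Algebra.TensorProduct.map mkA (AlgHom.id A (MvPolynomial (Fin n) A ⧸ I)) (π z) =
      Algebra.TensorProduct.map mkA mkA z := fun z => by
    induction z with
    | zero => simp
    | add x y hx hy => simp only [map_add, hx, hy]
    | tmul x y => simp [π]
  have hdet : (c.map π).det = π c.det := by
    rw [Matrix.det_apply', Matrix.det_apply', map_sum]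
    exact Finset.sum_congr rfl fun σ _ => by simp [map_mul, map_prod]
  rw [hdet, hcomp]
  exact DiscJac.lmul'_det mkA f c hμ

end Groth.Agent.H05EGA4.NoetherCI
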