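import Mathlib
import Groth.Prelude.Def_Curv2
import Groth.Prelude.Def_Found
import Groth.Agent.H05EGA4.NormTensor
import Groth.Agent.H05EGA4.CompleteNormalization
import Groth.Agent.H8Props.WeakEtaleReduced
import Groth.Agent.H8Props.NagataAffine
import Groth.Agent.H22Alg.NormalizationDimOne
import Groth.Agent.S2321

/-!
Finiteness of the normalisation of a finite type domain, generically étale over an analytically unramified
local ring (helper5).
-/

set_option autoImplicit false
set_option linter.style.haveILetI false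
set_option maxHeartbeats 800000
universe u
open TensorProduct Groth.Agent

namespace Groth.Agent.H05EGA4.NormEtale

theorem finite_integralClosure_of_faithfullyFlat {R S : Type u} [CommRing R] [IsDomain R] [CommRing S] [Algebra R S]
    [Module.FaithfullyFlat R S] [IsReduced S] (hNag : CAlg.IsNagata S)
    (K : Type u) [CommRing K] [Algebra R K] [IsFractionRing R K] : Module.Finite R (integralClosure R K) := by
  haveI : IsNoetherianRing S := hNag.1
  have hnzd : (nonZeroDivisors R).map (algebraMap R S) ≤ nonZeroDivisors S := EssEtFrac.map_nonZeroDivisors_le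
  let Q := FractionRing S
  have hunit : ∀ y : nonZeroDivisors R, IsUnit (Algebra.ofId R Q y) := fun y => by
    rw [Algebra.ofId_apply, IsScalarTower.algebraMap_apply R S Q]
    exact IsLocalization.map_units Q (⟨_, hnzd ⟨y, y.2, rfl⟩⟩ : nonZeroDivisors S)
  let j : K →ₐ[R] Q := IsLocalization.liftAlgHom (M := nonZeroDivisors R) (f := Algebra.ofId R Q) hunit
  let φ : S ⊗[R] K →ₐ[S] Q := Algebra.TensorProduct.lift (Algebra.ofId S Q) j (fun _ _ => Commute.all _ _)
  have hφ : Function.Injective φ := by
    rw [injective_iff_map_eq_zero]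
    intro z hz
    obtain ⟨⟨s, t⟩, hst⟩ := IsLocalization.surj (Algebra.algebraMapSubmonoid S (nonZeroDivisors R)) z
    have h1 : algebraMap S Q s = 0 := by
      rw [← φ.commutes s, ← hst, map_mul, hz, zero_mul]
    have hs : s = 0 := IsFractionRing.injective S Q (h1.trans (map_zero _).symm)
    obtain ⟨v, hv⟩ := IsLocalization.map_units (S ⊗[R] K) t
    simp only [hs, map_zero, ← hv] at hst
    have h2 := congrArg (· * (↑v⁻¹ : S ⊗[R] K)) hst
    simpa [mul_assoc] using h2
  let C := integralClosure R K
  let μ : S ⊗[R] C →ₐ[S] S ⊗[R] K := Algebra.TensorProduct.map (AlgHom.id S S) C.val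
  let ψ : S ⊗[R] C →ₐ[S] Q := φ.comp μ
  have hψ : Function.Injective ψ := by
    have h1 : Function.Injective ((C.val.toLinearMap).lTensor S) :=
      Module.Flat.lTensor_preserves_injective_linearMap _ Subtype.val_injective
    have h2 : ∀ z, μ z = (C.val.toLinearMap).lTensor S z := fun z => by
      induction z using TensorProduct.induction_on with
      | zero => simp
      | tmul a x => simp [μ]
      | add a b ha hb => simp only [map_add, ha, hb]
    exact fun x y hxy => h1 (((h2 x).symm.trans (hφ hxy)).trans (h2 y))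
  have hint : ∀ z, ψ z ∈ integralClosure S Q := fun z => by
    induction z using TensorProduct.induction_on with
    | zero => rw [map_zero]; exact zero_mem _
    | tmul a x =>
      have hx : IsIntegral R (x : K) := x.2
      have h1 : IsIntegral S (j x) := (hx.map j).tower_top
      have h2 : ψ (a ⊗ₜ x) = algebraMap S Q a * j x := by
        simp [ψ, μ, φ, Algebra.ofId_apply]
      rw [h2]
      exact (isIntegral_algebraMap.mul h1 : IsIntegral S _)
    | add x y hx hy => rw [map_add]; exact add_mem hx hy
  haveI := H05EGA4.NormTensor.finite_integralClosure_fraction S hNag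
  haveI : IsNoetherian S (integralClosure S Q) := isNoetherian_of_isNoetherianRing_of_finite S _
  let ψ' : S ⊗[R] C →ₗ[S] integralClosure S Q := (ψ.codRestrict _ hint).toLinearMap
  haveI : Module.Finite S (S ⊗[R] C) := Module.Finite.of_injective ψ' fun a b h => hψ (congrArg Subtype.val h)
  exact Module.Finite.of_finite_tensorProduct_of_faithfullyFlat (T := S)

theorem finite_integralClosure {A : Type u} [CommRing A] [IsLocalRing A] [IsNoetherianRing A]
    [IsReduced (AdicCompletion (IsLocalRing.maximalIdeal A) A)]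
    (R : Type u) [CommRing R] [IsDomain R] [Algebra A R] [Algebra.FiniteType A R] (g : R) (hg : g ≠ 0)
    [Algebra.Etale A (Localization.Away g)]
    (K : Type u) [CommRing K] [Algebra R K] [IsFractionRing R K] : Module.Finite R (integralClosure R K) := by
  let Ah := AdicCompletion (IsLocalRing.maximalIdeal A) A
  haveI : IsNoetherianRing Ah := H05EGA4.isNoetherianRing_adicCompletion A _
  haveI : Module.FaithfullyFlat A Ah :=
    ((Groth.Agent.S2321.result A (IsLocalRing.maximalIdeal A)).out 0 1).mp (IsLocalRing.maximalIdeal_le_jacobson _)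
  let e : R ⊗[A] Ah ≃ₐ[A] Ah ⊗[A] R := Algebra.TensorProduct.comm A R Ah
  have hNag : CAlg.IsNagata (R ⊗[A] Ah) := H8Props.NagataAffine.isNagata_of_ringEquiv e.symm.toRingEquiv
    (H1CAlg.isNagata_of_finiteType (R := Ah) (H05EGA4.isNagata_of_isAdicComplete Ah))
  have hnzd : (nonZeroDivisors R).map (algebraMap R (R ⊗[A] Ah)) ≤ nonZeroDivisors (R ⊗[A] Ah) :=
    EssEtFrac.map_nonZeroDivisors_le
  haveI : IsReduced (R ⊗[A] Ah) := ⟨fun x hx => by
    let Sg := Localization.Away ((1 : Ah) ⊗ₜ[A] g)
    let q : Ah ⊗[A] Localization.Away g ≃ₐ[Ah] Sg :=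
      IsLocalization.Away.tensorProductEquivTMulRight A Ah g (Localization.Away g)
    haveI : IsReduced (Ah ⊗[A] Localization.Away g) := H8Props.WeakEtaleReduced.isReduced_of_weaklyEtale Ah _
    haveI : IsReduced Sg := isReduced_of_injective q.symm.toRingEquiv.toRingHom q.symm.injective
    have h1 : algebraMap _ Sg (e x) = 0 := ((hx.map e).map (algebraMap (Ah ⊗[A] R) Sg)).eq_zero
    obtain ⟨⟨_, m, rfl⟩, hm⟩ := (IsLocalization.map_eq_zero_iff (Submonoid.powers ((1 : Ah) ⊗ₜ[A] g)) Sg _).mp h1
    have h2 : algebraMap R (R ⊗[A] Ah) (g ^ m) * x = 0 := by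
      apply e.injective
      rw [map_mul, map_pow, map_pow, map_zero]
      rwa [show e (algebraMap R (R ⊗[A] Ah) g) = (1 : Ah) ⊗ₜ[A] g from rfl]
    exact (mem_nonZeroDivisors_iff_left.mp (hnzd ⟨g ^ m, pow_mem (mem_nonZeroDivisors_of_ne_zero hg) m, rfl⟩)) x h2⟩
  exact finite_integralClosure_of_faithfullyFlat hNag K

open CategoryTheory AlgebraicGeometry in
/-- Generically étale integral schemes over an analytically unramified local ring have finite normalisation. -/
theorem isFinite_normalizationι (A : Type u) [CommRing A] [IsLocalRing A] [IsNoetherianRing A]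
    [IsReduced (AdicCompletion (IsLocalRing.maximalIdeal A) A)]
    (X : Scheme.{u}) [IsIntegral X] (f : X ⟶ Spec (CommRingCat.of A)) [LocallyOfFiniteType f]
    (U₀ : X.Opens) (hU₀ : genericPoint X ∈ U₀) [Etale (U₀.ι ≫ f)]
    [QuasiCompact (X.fromSpecStalk (genericPoint X))] [QuasiSeparated (X.fromSpecStalk (genericPoint X))] :
    IsFinite (Curv2.normalizationι X) := by
  rw [isFinite_iff]
  haveI := Groth.Agent.H22Alg.NormalizationDimOne.isIntegralHom_normalizationι X
  refine ⟨inferInstance, fun U hU => ?_⟩
  rcases isEmpty_or_nonempty (↥U : Type u) with hemp | hne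
  · have hbot : Curv2.normalizationι X ⁻¹ᵁ U = ⊥ :=
      eq_bot_iff.2 fun y hy => hemp.elim ⟨_, hy⟩
    haveI : Subsingleton Γ(Curv2.normalization X, Curv2.normalizationι X ⁻¹ᵁ U) := by
      rw [hbot]; infer_instance
    exact RingHom.Finite.of_surjective _ fun x => ⟨0, Subsingleton.elim _ _⟩
  · haveI : Nonempty U.toScheme := hne
    obtain ⟨φ, hφ⟩ := Groth.Agent.H22Alg.NormalizationDimOne.exists_obj_iso X hU
    haveI : IsFractionRing Γ(X, U) X.functionField := functionField_isFractionRing_of_isAffineOpen X U hU
    have hgen : genericPoint X ∈ U :=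
      ((genericPoint_spec X).mem_open_set_iff U.isOpen).mpr (by simpa using ‹Nonempty U›)
    obtain ⟨g, hgU₀, hgmem⟩ := hU.exists_basicOpen_le ⟨genericPoint X, hU₀⟩ hgen
    have hg : g ≠ 0 := fun h => by
      rw [h, Scheme.basicOpen_zero] at hgmem
      exact hgmem
    let ρ : A →+* Γ(X, U) := (f.appLE ⊤ U le_top).hom.comp (Scheme.ΓSpecIso (CommRingCat.of A)).inv.hom
    have hρ : ρ.FiniteType :=
      (LocallyOfFiniteType.finiteType_appLE f (isAffineOpen_top _) hU le_top).comp
        (RingHom.FiniteType.of_surjective _ (ConcreteCategory.bijective_of_isIso (Scheme.ΓSpecIso (CommRingCat.of A)).inv).surjective)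
    letI : Algebra A Γ(X, U) := ρ.toAlgebra
    haveI : Algebra.FiniteType A Γ(X, U) := hρ
    haveI hloc : IsLocalization.Away g Γ(X, X.basicOpen g) := hU.isLocalization_basicOpen g
    have het : Etale ((X.basicOpen g).ι ≫ f) := by
      rw [← X.homOfLE_ι hgU₀, Category.assoc]
      infer_instance
    have hσ : ((f.appLE ⊤ (X.basicOpen g) le_top).hom.comp (Scheme.ΓSpecIso (CommRingCat.of A)).inv.hom).Etale := by
      have h3 : Etale ((hU.basicOpen g).fromSpec ≫ f) := by
        rw [← (hU.basicOpen g).isoSpec_inv_ι, Category.assoc]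
        infer_instance
      rw [← IsAffineOpen.SpecMap_appLE_fromSpec f (isAffineOpen_top _) (hU.basicOpen g) le_top,
        IsAffineOpen.fromSpec_top, MorphismProperty.cancel_right_of_respectsIso @Etale] at h3
      exact RingHom.Etale.respectsIso.2 _ (Scheme.ΓSpecIso (CommRingCat.of A)).symm.commRingCatIsoToRingEquiv
        ((HasRingHomProperty.Spec_iff (P := @Etale)).mp h3)
    letI : Algebra A Γ(X, X.basicOpen g) :=
      ((f.appLE ⊤ (X.basicOpen g) le_top).hom.comp (Scheme.ΓSpecIso (CommRingCat.of A)).inv.hom).toAlgebra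
    haveI : IsScalarTower A Γ(X, U) Γ(X, X.basicOpen g) := .of_algebraMap_eq' (by
      show _ = (X.presheaf.map (homOfLE (X.basicOpen_le g)).op).hom.comp ρ
      rw [← RingHom.comp_assoc, ← CommRingCat.hom_comp, Scheme.Hom.appLE_map]
      rfl)
    haveI : Algebra.Etale A Γ(X, X.basicOpen g) := RingHom.etale_algebraMap.mp hσ
    let eg : Γ(X, X.basicOpen g) ≃ₐ[Γ(X, U)] Localization.Away g := IsLocalization.algEquiv (Submonoid.powers g) _ _
    haveI : Algebra.Etale A (Localization.Away g) := Algebra.Etale.of_equiv (eg.restrictScalars A)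
    haveI := finite_integralClosure (A := A) Γ(X, U) g hg X.functionField
    have h1 : (algebraMap Γ(X, U) (integralClosure Γ(X, U) X.functionField)).Finite :=
      RingHom.finite_algebraMap.mpr ‹_›
    have h2 := RingHom.Finite.comp (RingHom.Finite.of_surjective φ.toRingHom φ.surjective) h1
    convert h2 using 1
    exact RingHom.ext fun b => (hφ b).symm

end Groth.Agent.H05EGA4.NormEtale
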