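import Mathlib
import Groth.Prelude.Def_Curv2
import Groth.Prelude.Def_Found
import Groth.Agent.H05EGA4.NormEtale

/-!
Finiteness of the normalisation when the base change to the completion is normal off the closed fibre (helper5).
-/

set_option autoImplicit false
set_option linter.style.haveILetI false
set_option maxHeartbeats 800000
universe u
open TensorProduct Groth.Agent CategoryTheory AlgebraicGeometry

namespace Groth.Agent.H05EGA4.NormCpl

theorem isNagata_of_isField {F : Type u} [CommRing F] [IsLocalRing F] [IsNoetherianRing F]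
    (h : IsLocalRing.maximalIdeal F = ⊥) : CAlg.IsNagata F := by
  haveI : IsAdicComplete (IsLocalRing.maximalIdeal F) F := by rw [h]; infer_instance
  exact H05EGA4.isNagata_of_isAdicComplete F

/-- The ring `R ⊗ Â` is reduced if its local rings at primes avoiding `g ∈ m` are, and `g` is nonzero in `R`. -/
theorem isReduced_tensor {A : Type u} [CommRing A] [IsLocalRing A] [IsNoetherianRing A]
    (R : Type u) [CommRing R] [IsDomain R] [Algebra A R] (Ah : Type u) [CommRing Ah] [Algebra A Ah]
    [Module.Flat A Ah] (g : A) (hg : algebraMap A R g ≠ 0)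
    (h : ∀ q : PrimeSpectrum (R ⊗[A] Ah), algebraMap A (R ⊗[A] Ah) g ∉ q.asIdeal →
      IsReduced (Localization.AtPrime q.asIdeal)) : IsReduced (R ⊗[A] Ah) := by
  have hnzd : (nonZeroDivisors R).map (algebraMap R (R ⊗[A] Ah)) ≤ nonZeroDivisors (R ⊗[A] Ah) :=
    EssEtFrac.map_nonZeroDivisors_le
  refine ⟨fun x hx => ?_⟩
  let I : Ideal (R ⊗[A] Ah) := (Submodule.span (R ⊗[A] Ah) {x}).annihilator
  have hmem : algebraMap A (R ⊗[A] Ah) g ∈ I.radical := by
    rw [Ideal.radical_eq_sInf, Submodule.mem_sInf]
    rintro (q : Ideal (R ⊗[A] Ah)) ⟨hIq, hq⟩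
    by_contra hgq
    haveI := hq
    haveI := h ⟨q, hq⟩ hgq
    have h1 : algebraMap (R ⊗[A] Ah) (Localization.AtPrime q) x = 0 :=
      (hx.map (algebraMap (R ⊗[A] Ah) (Localization.AtPrime q))).eq_zero
    obtain ⟨⟨c, hc⟩, hcx⟩ := (IsLocalization.map_eq_zero_iff (Ideal.primeCompl q) _ x).mp h1
    exact hc (hIq ((Submodule.mem_annihilator_span_singleton x c).mpr hcx))
  obtain ⟨n, hn⟩ := hmem
  have hn' := (Submodule.mem_annihilator_span_singleton x _).mp hn
  rw [smul_eq_mul, IsScalarTower.algebraMap_apply A R (R ⊗[A] Ah), ← map_pow] at hn'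
  exact (mem_nonZeroDivisors_iff_left.mp (hnzd ⟨_, pow_mem (mem_nonZeroDivisors_of_ne_zero hg) n, rfl⟩)) x hn'

theorem finite_integralClosure {A : Type u} [CommRing A] [IsLocalRing A] [IsNoetherianRing A]
    (R : Type u) [CommRing R] [IsDomain R] [Algebra A R] [Algebra.FiniteType A R]
    (h : ∀ q : PrimeSpectrum (R ⊗[A] Curv2.cpl A),
      q.comap (Algebra.TensorProduct.includeRight : Curv2.cpl A →ₐ[A] R ⊗[A] Curv2.cpl A).toRingHom ≠
        IsLocalRing.closedPoint (Curv2.cpl A) →
      IsReduced (Localization.AtPrime q.asIdeal))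
    (K : Type u) [CommRing K] [Algebra R K] [IsFractionRing R K] : Module.Finite R (integralClosure R K) := by
  let Ah := Curv2.cpl A
  haveI : IsNoetherianRing Ah := H05EGA4.isNoetherianRing_adicCompletion A _
  haveI : Module.FaithfullyFlat A Ah :=
    ((Groth.Agent.S2321.result A (IsLocalRing.maximalIdeal A)).out 0 1).mp (IsLocalRing.maximalIdeal_le_jacobson _)
  by_cases hm : ∀ g ∈ IsLocalRing.maximalIdeal A, algebraMap A R g = 0
  · -- `R` is of finite type over the residue field
    have hle : IsLocalRing.maximalIdeal A ≤ RingHom.ker (algebraMap A R) := fun g hg => hm g hg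
    let F := IsLocalRing.ResidueField A
    letI : Algebra F R := (Ideal.Quotient.lift (IsLocalRing.maximalIdeal A) (algebraMap A R) hle).toAlgebra
    haveI : IsScalarTower A F R := .of_algebraMap_eq fun a => rfl
    haveI : Algebra.FiniteType F R := Algebra.FiniteType.of_restrictScalars_finiteType A F R
    have hNag : CAlg.IsNagata R :=
      H1CAlg.isNagata_of_finiteType (R := F) (isNagata_of_isField (IsLocalRing.maximalIdeal_eq_bot))
    exact NormEtale.finite_integralClosure_of_faithfullyFlat (S := R) hNag K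
  · push_neg at hm
    obtain ⟨g, hgm, hg⟩ := hm
    let e : R ⊗[A] Ah ≃ₐ[A] Ah ⊗[A] R := Algebra.TensorProduct.comm A R Ah
    have hNag : CAlg.IsNagata (R ⊗[A] Ah) := H8Props.NagataAffine.isNagata_of_ringEquiv e.symm.toRingEquiv
      (H1CAlg.isNagata_of_finiteType (R := Ah) (H05EGA4.isNagata_of_isAdicComplete Ah))
    have hgh : algebraMap A Ah g ∈ IsLocalRing.maximalIdeal Ah := by
      refine IsLocalRing.le_maximalIdeal ?_ (Ideal.mem_map_of_mem _ hgm)
      intro htop
      have h1 := Ideal.comap_map_eq_self_of_faithfullyFlat (B := Ah) (IsLocalRing.maximalIdeal A)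
      rw [htop, Ideal.comap_top] at h1
      exact (IsLocalRing.maximalIdeal.isMaximal A).ne_top h1.symm
    haveI : IsReduced (R ⊗[A] Ah) := isReduced_tensor R Ah g hg fun q hq => h q fun hcl => hq (by
      have h2 : algebraMap A Ah g ∈ (q.comap
          (Algebra.TensorProduct.includeRight : Ah →ₐ[A] R ⊗[A] Ah).toRingHom).asIdeal := by
        rw [hcl]; exact hgh
      simpa using h2)
    exact NormEtale.finite_integralClosure_of_faithfullyFlat hNag K

/-- If the base change to the completion is normal off the closed fibre then the normalisation is finite. -/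
theorem isFinite_normalizationι (A : Type u) [CommRing A] [IsLocalRing A] [IsNoetherianRing A]
    (X : Scheme.{u}) [IsIntegral X] (f : X ⟶ Spec (CommRingCat.of A)) [LocallyOfFiniteType f]
    [QuasiCompact (X.fromSpecStalk (genericPoint X))] [QuasiSeparated (X.fromSpecStalk (genericPoint X))]
    (hY : ∀ y : ↥(Curv2.bcCpl A f), (Curv2.bcCplSnd A f).base y ≠ IsLocalRing.closedPoint (Curv2.cpl A) →
      IsDomain ((Curv2.bcCpl A f).presheaf.stalk y) ∧ IsIntegrallyClosed ((Curv2.bcCpl A f).presheaf.stalk y)) :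
    IsFinite (Curv2.normalizationι X) := by
  rw [isFinite_iff]
  haveI := Groth.Agent.H22Alg.NormalizationDimOne.isIntegralHom_normalizationι X
  refine ⟨inferInstance, fun U hU => ?_⟩
  rcases isEmpty_or_nonempty (↥U : Type u) with hemp | hne
  · have hbot : Curv2.normalizationι X ⁻¹ᵁ U = ⊥ :=
      eq_bot_iff.2 fun y hy => hemp.elim ⟨_, hy⟩
    haveI : Subsingleton Γ(Curv2.normalization X, Curv2.normalizationι X ⁻¹ᵁ U) := by
      rw [hbot]; infer_instance
    exact RingHom.Finite.of_surjective _ fun x => ⟨0, Subsingleton.elim _ _⟩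
  · haveI : Nonempty U.toScheme := hne
    obtain ⟨φ, hφ⟩ := Groth.Agent.H22Alg.NormalizationDimOne.exists_obj_iso X hU
    haveI : IsFractionRing Γ(X, U) X.functionField := functionField_isFractionRing_of_isAffineOpen X U hU
    let ρ : A →+* Γ(X, U) := (f.appLE ⊤ U le_top).hom.comp (Scheme.ΓSpecIso (CommRingCat.of A)).inv.hom
    have hρ : ρ.FiniteType :=
      (LocallyOfFiniteType.finiteType_appLE f (isAffineOpen_top _) hU le_top).comp
        (RingHom.FiniteType.of_surjective _ (ConcreteCategory.bijective_of_isIso (Scheme.ΓSpecIso (CommRingCat.of A)).inv).surjective)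
    letI : Algebra A Γ(X, U) := ρ.toAlgebra
    haveI : Algebra.FiniteType A Γ(X, U) := hρ
    have hfac : hU.fromSpec ≫ f = Spec.map (CommRingCat.ofHom (algebraMap A Γ(X, U))) := by
      rw [← IsAffineOpen.SpecMap_appLE_fromSpec f (isAffineOpen_top _) hU le_top,
        IsAffineOpen.fromSpec_top, Scheme.isoSpec_Spec_inv, ← Spec.map_comp]
      rfl
    let j : Spec (CommRingCat.of (Γ(X, U) ⊗[A] Curv2.cpl A)) ⟶ Curv2.bcCpl A f :=
      (pullbackSpecIso A Γ(X, U) (Curv2.cpl A)).inv ≫
        Limits.pullback.map _ _ _ _ hU.fromSpec (𝟙 _) (𝟙 _) (by rw [Category.comp_id, hfac]) (by simp)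
    haveI : IsOpenImmersion j := by dsimp [j]; infer_instance
    have hj : j ≫ Curv2.bcCplSnd A f = Spec.map (CommRingCat.ofHom
        (Algebra.TensorProduct.includeRight : Curv2.cpl A →ₐ[A] Γ(X, U) ⊗[A] Curv2.cpl A).toRingHom) := by
      simp only [j, Curv2.bcCplSnd, Category.assoc]
      rw [Limits.pullback.lift_snd, Category.comp_id, pullbackSpecIso_inv_snd]
      rfl
    haveI := finite_integralClosure (A := A) Γ(X, U) (fun q hq => by
      have hy := hY (j.base q) (by
        intro hcl
        refine hq ?_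
        rw [← hcl]
        exact (Scheme.Hom.comp_apply j (Curv2.bcCplSnd A f) q).symm.trans (by rw [hj]; rfl) |>.symm)
      haveI := hy.1
      haveI : IsDomain ((structurePresheafInCommRingCat (Γ(X, U) ⊗[A] Curv2.cpl A)).stalk q) :=
        MulEquiv.isDomain _ (asIso (j.stalkMap q)).commRingCatIsoToRingEquiv.symm.toMulEquiv
      let el := (StructureSheaf.stalkIso (Γ(X, U) ⊗[A] Curv2.cpl A) q).toRingEquiv
      exact isReduced_of_injective el el.injective) X.functionField
    have h1 : (algebraMap Γ(X, U) (integralClosure Γ(X, U) X.functionField)).Finite :=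
      RingHom.finite_algebraMap.mpr ‹_›
    have h2 := RingHom.Finite.comp (RingHom.Finite.of_surjective φ.toRingHom φ.surjective) h1
    convert h2 using 1
    exact RingHom.ext fun b => (hφ b).symm

end Groth.Agent.H05EGA4.NormCpl
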