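import Mathlib
import Groth.Prelude.Def_EGA4b
import Groth.Agent.H05EGA4.NorLocus
import Groth.Agent.H05EGA4.Regular2
import Groth.Agent.H8Props.FlatDepth
import Groth.Agent.H1CAlg.Serre
import Groth.Agent.H02CA.SmoothRegular

/-!
# Ascent and descent of normality along flat maps (EGA IV 6.5.4)
-/

open IsLocalRing
universe u
set_option maxHeartbeats 400000

namespace Groth.Agent.H05EGA4

theorem natCast_min_le_depth_of_isIntegrallyClosed (A : Type u) [CommRing A] [IsLocalRing A] [IsNoetherianRing A]
    [IsDomain A] [IsIntegrallyClosed A] {a d : ℕ} (ha : ringKrullDim A = a) (hd : LocCoh.depth A A = d) :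
    min 2 a ≤ d := by
  by_cases h2 : 2 ≤ a
  · have := H1CAlg.depth_ge_two_of_isIntegrallyClosed (R := A) (by rw [ha]; exact_mod_cast h2)
    rw [hd] at this
    norm_cast at this
    omega
  · have := H1CAlg.isRegularLocalRing_of_isIntegrallyClosed (R := A) (by rw [ha]; exact_mod_cast (show a ≤ 1 by omega))
    have h := H4Depth.depth_self_eq_ringKrullDim_of_regular A
    rw [hd, ha] at h
    norm_cast at h
    omega

/-- Flat local map with normal base and normal closed fibre: regular in dimension `≤ 1`, depth `≥ min 2 dim`. -/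
theorem regular_and_depth_of_flat_normal (A B : Type u) [CommRing A] [CommRing B] [IsLocalRing A] [IsLocalRing B]
    [IsNoetherianRing A] [IsNoetherianRing B] [Algebra A B] [IsLocalHom (algebraMap A B)] [Module.Flat A B]
    [IsDomain A] [IsIntegrallyClosed A] [IsDomain (B ⧸ (maximalIdeal A).map (algebraMap A B))]
    [IsIntegrallyClosed (B ⧸ (maximalIdeal A).map (algebraMap A B))] :
    (ringKrullDim B ≤ 1 → IsRegularLocalRing B) ∧
      min (2 : WithBot ℕ∞) (ringKrullDim B) ≤ ((LocCoh.depth B B : ℕ∞) : WithBot ℕ∞) := by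
  let C := B ⧸ (maximalIdeal A).map (algebraMap A B)
  obtain ⟨a, ha⟩ := exists_dim_eq_nat A
  obtain ⟨c, hc⟩ := exists_dim_eq_nat C
  obtain ⟨da, hda⟩ := ENat.ne_top_iff_exists.mp (H8Props.FlatDepth.depth_ne_top A A)
  obtain ⟨dc, hdc⟩ := ENat.ne_top_iff_exists.mp (H8Props.FlatDepth.depth_ne_top C C)
  have h1 := H8Props.FlatDepth.ringKrullDim_eq_add A B
  rw [ha, show ringKrullDim (B ⧸ (maximalIdeal A).map (algebraMap A B)) = c from hc, ← Nat.cast_add] at h1
  have h2 := H8Props.FlatDepth.depth_eq_add A B
  rw [← hda, show LocCoh.depth (B ⧸ (maximalIdeal A).map (algebraMap A B)) (B ⧸ (maximalIdeal A).map (algebraMap A B)) = dc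
    from hdc.symm, ← Nat.cast_add] at h2
  refine ⟨fun hB => ?_, ?_⟩
  · rw [h1] at hB
    have hac : a + c ≤ 1 := by exact_mod_cast hB
    have := H1CAlg.isRegularLocalRing_of_isIntegrallyClosed (R := A) (by rw [ha]; exact_mod_cast (show a ≤ 1 by omega))
    have := H1CAlg.isRegularLocalRing_of_isIntegrallyClosed (R := B ⧸ (maximalIdeal A).map (algebraMap A B))
      (by rw [show ringKrullDim (B ⧸ (maximalIdeal A).map (algebraMap A B)) = c from hc]; exact_mod_cast (show c ≤ 1 by omega))
    exact isRegularLocalRing_of_flat_of_fibre A B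
  · have e1 := natCast_min_le_depth_of_isIntegrallyClosed A ha hda.symm
    have e2 := natCast_min_le_depth_of_isIntegrallyClosed C hc hdc.symm
    rw [h1, h2]
    rcases le_total (a + c) 2 with h | h
    · exact (min_le_right _ _).trans (by exact_mod_cast (show a + c ≤ da + dc by omega))
    · refine (min_le_left _ _).trans ?_
      show ((2 : ℕ) : WithBot ℕ∞) ≤ ((da + dc : ℕ) : WithBot ℕ∞)
      exact Nat.cast_le.mpr (by omega)

/-- Normality of a local ring from the closed fibres over normal points below it. -/
theorem isDomain_and_isIntegrallyClosed_of_flat {A B : Type u} [CommRing A] [CommRing B] [IsNoetherianRing A]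
    [IsNoetherianRing B] [Algebra A B] [Module.Flat A B] (q : Ideal B) [q.IsPrime]
    (hbase : ∀ (r : Ideal B) [r.IsPrime], r ≤ q → IsDomain (Localization.AtPrime (r.comap (algebraMap A B))) ∧
      IsIntegrallyClosed (Localization.AtPrime (r.comap (algebraMap A B))))
    (hfib : ∀ (r : Ideal B) [r.IsPrime], r ≤ q → IsDomain (EGA4.FibLocRing A B r) ∧
      IsIntegrallyClosed (EGA4.FibLocRing A B r)) :
    IsDomain (Localization.AtPrime q) ∧ IsIntegrallyClosed (Localization.AtPrime q) := by
  let Bq := Localization.AtPrime q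
  have key : ∀ (P : Ideal Bq) [P.IsPrime],
      (ringKrullDim (Localization.AtPrime P) ≤ 1 → IsRegularLocalRing (Localization.AtPrime P)) ∧
      min (2 : WithBot ℕ∞) (ringKrullDim (Localization.AtPrime P)) ≤
        ((LocCoh.depth (Localization.AtPrime P) (Localization.AtPrime P) : ℕ∞) : WithBot ℕ∞) := by
    intro P _
    let r := P.comap (algebraMap B Bq)
    have hrq : r ≤ q := (Ideal.comap_mono (le_maximalIdeal (Ideal.IsPrime.ne_top ‹_›))).trans
      (Localization.AtPrime.under_maximalIdeal (I := q)).le
    let p := r.comap (algebraMap A B)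
    have : r.LiesOver p := ⟨rfl⟩
    letI := Localization.AtPrime.algebraOfLiesOver p r
    have : Module.Flat (Localization.AtPrime p) (Localization.AtPrime r) := inferInstance
    have : IsLocalHom (algebraMap (Localization.AtPrime p) (Localization.AtPrime r)) := by
      rw [Localization.AtPrime.IsLiesOverAlgebra.algebraMap_eq]
      infer_instance
    obtain ⟨_, _⟩ := hbase r hrq
    have heq : (maximalIdeal (Localization.AtPrime p)).map (algebraMap (Localization.AtPrime p) (Localization.AtPrime r)) =
        p.map (algebraMap A (Localization.AtPrime r)) := by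
      rw [← Localization.AtPrime.map_eq_maximalIdeal, Ideal.map_map, ← IsScalarTower.algebraMap_eq]
    obtain ⟨hd, hi⟩ := hfib r hrq
    have := (Ideal.quotEquivOfEq heq).toMulEquiv.isDomain (EGA4.FibLocRing A B r)
    have : IsIntegrallyClosed (Localization.AtPrime r ⧸
        (maximalIdeal (Localization.AtPrime p)).map (algebraMap (Localization.AtPrime p) (Localization.AtPrime r))) :=
      IsIntegrallyClosed.of_equiv (Ideal.quotEquivOfEq heq).symm
    obtain ⟨h1, h2⟩ := regular_and_depth_of_flat_normal (Localization.AtPrime p) (Localization.AtPrime r)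
    have := IsLocalization.isLocalization_isLocalization_atPrime_isLocalization q.primeCompl (Localization.AtPrime P) P
    let e := (IsLocalization.algEquiv r.primeCompl (Localization.AtPrime r) (Localization.AtPrime P)).toRingEquiv
    refine ⟨fun h => ?_, ?_⟩
    · rw [← ringKrullDim_eq_of_ringEquiv e] at h
      have := h1 h
      exact IsRegularLocalRing.of_ringEquiv e
    · rw [← ringKrullDim_eq_of_ringEquiv e]
      refine h2.trans (le_of_eq ?_)
      letI := e.toRingHom.toAlgebra
      have hs : Function.Surjective (algebraMap (Localization.AtPrime r) (Localization.AtPrime P)) := e.surjective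
      rw [H8Props.FlatDepth.depth_eq_of_surjective (M := Localization.AtPrime P) hs]
      exact congrArg _ (H4Depth.depth_congr
        (LinearEquiv.ofBijective (Algebra.linearMap (Localization.AtPrime r) (Localization.AtPrime P)) e.bijective))
  have hRS : LocCoh.HasRk 1 Bq ∧ LocCoh.HasSk 2 Bq Bq := by
    refine ⟨fun P _ hP => (key P).1 ?_, fun P _ => ?_⟩
    · rw [IsLocalization.AtPrime.ringKrullDim_eq_height P]
      exact_mod_cast hP
    · obtain ⟨e⟩ := H4Depth.exists_localizedModule_self_equiv (R := Bq) P
      rw [H4Depth.depth_congr e, Module.supportDim_eq_of_equiv e, Module.supportDim_self_eq_ringKrullDim]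
      exact (key P).2
  obtain ⟨hd, hi⟩ := (H1CAlg.normal_iff_R1_S2 (R := Bq)).mpr hRS (maximalIdeal Bq)
  let e := (IsLocalization.atUnits Bq (maximalIdeal Bq).primeCompl
    (S := Localization.AtPrime (maximalIdeal Bq)) (fun x hx => (IsLocalRing.notMem_maximalIdeal.mp hx))).toRingEquiv
  exact ⟨e.toMulEquiv.isDomain _, IsIntegrallyClosed.of_equiv e.symm⟩

theorem isDomain_and_isIntegrallyClosed_of_le {A : Type u} [CommRing A] [IsNoetherianRing A] {r p : Ideal A}
    [r.IsPrime] [p.IsPrime] (h : r ≤ p) [IsDomain (Localization.AtPrime p)]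
    [IsIntegrallyClosed (Localization.AtPrime p)] :
    IsDomain (Localization.AtPrime r) ∧ IsIntegrallyClosed (Localization.AtPrime r) := by
  let Ap := Localization.AtPrime p
  have hdisj : Disjoint (p.primeCompl : Set A) r := Set.disjoint_left.2 fun z hz hzr => hz (h hzr)
  have hP := IsLocalization.isPrime_of_isPrime_disjoint p.primeCompl Ap r ‹_› hdisj
  have hc := IsLocalization.under_map_of_isPrime_disjoint p.primeCompl Ap ‹_› hdisj
  set P := r.map (algebraMap A Ap)
  have hle : P.primeCompl ≤ nonZeroDivisors Ap := P.primeCompl_le_nonZeroDivisors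
  have : IsDomain (Localization.AtPrime P) := IsLocalization.isDomain_localization hle
  have : IsIntegrallyClosed (Localization.AtPrime P) := isIntegrallyClosed_of_isLocalization _ P.primeCompl hle
  have := IsLocalization.isLocalization_isLocalization_atPrime_isLocalization p.primeCompl (Localization.AtPrime P) P
  have key : ∀ (r' : Ideal A) [r'.IsPrime], r' = r → IsLocalization r'.primeCompl (Localization.AtPrime P) →
      IsDomain (Localization.AtPrime r) ∧ IsIntegrallyClosed (Localization.AtPrime r) := by
    intro r' _ hr' hloc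
    subst hr'
    let e := (IsLocalization.algEquiv r'.primeCompl (Localization.AtPrime P) (Localization.AtPrime r')).toRingEquiv
    exact ⟨e.symm.toMulEquiv.isDomain _, IsIntegrallyClosed.of_equiv e⟩
  exact key _ hc inferInstance

/-- The local rings of the fibres of a smooth algebra are regular. -/
theorem isRegularLocalRing_fibLocRing_of_smooth (A B : Type u) [CommRing A] [CommRing B] [Algebra A B]
    [Algebra.Smooth A B] (r : Ideal B) [r.IsPrime] : IsRegularLocalRing (EGA4.FibLocRing A B r) := by
  let p := r.comap (algebraMap A B)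
  let Q := (PrimeSpectrum.preimageEquivFiber A B ⟨p, inferInstance⟩) ⟨⟨r, ‹_›⟩, rfl⟩
  have hQ : Q.asIdeal.comap Algebra.TensorProduct.includeRight = r :=
    congrArg (fun x => x.1.asIdeal) ((PrimeSpectrum.preimageEquivFiber A B ⟨p, inferInstance⟩).symm_apply_apply ⟨⟨r, ‹_›⟩, rfl⟩)
  have key : ∀ (r' : Ideal B) [r'.IsPrime], r' = r → r' = Q.asIdeal.comap Algebra.TensorProduct.includeRight →
      IsRegularLocalRing (Localization.AtPrime r' ⧸ p.map (algebraMap A (Localization.AtPrime r'))) →
      IsRegularLocalRing (EGA4.FibLocRing A B r) := by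
    intro r' _ h _ H
    subst h
    exact H
  refine key (Q.asIdeal.comap Algebra.TensorProduct.includeRight) hQ rfl ?_
  have : (Q.asIdeal.comap Algebra.TensorProduct.includeRight).LiesOver p := ⟨by rw [hQ]⟩
  letI := Localization.AtPrime.algebraOfLiesOver p (Q.asIdeal.comap Algebra.TensorProduct.includeRight)
  have : IsRegularRing (p.Fiber B) := H02CA.isRegularRing_of_smooth p.ResidueField (p.Fiber B)
  have e := Ideal.Fiber.localizationAlgEquivQuotient p Q.asIdeal
  have : IsRegularLocalRing (Localization.AtPrime Q.asIdeal) := isRegularRing_iff.mp inferInstance _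
  exact IsRegularLocalRing.of_ringEquiv (R := Localization.AtPrime Q.asIdeal)
    (R' := Localization.AtPrime (Q.asIdeal.comap Algebra.TensorProduct.includeRight) ⧸
      p.map (algebraMap A (Localization.AtPrime (Q.asIdeal.comap Algebra.TensorProduct.includeRight)))) e.toRingEquiv

/-- Normality descends along flat maps at a point. -/
theorem isIntegrallyClosed_comap_of_flat {A B : Type u} [CommRing A] [CommRing B] [IsDomain A] [IsDomain B]
    [IsNoetherianRing A] [IsNoetherianRing B] [Algebra A B] [FaithfulSMul A B] [Module.Flat A B]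
    (Q : Ideal B) [Q.IsPrime] (h : IsIntegrallyClosed (Localization.AtPrime Q)) :
    IsIntegrallyClosed (Localization.AtPrime (Q.comap (algebraMap A B))) := by
  classical
  let p := Q.comap (algebraMap A B)
  rw [isIntegrallyClosed_atPrime_iff] at h ⊢
  intro x hx
  obtain ⟨a, c, hc, rfl⟩ := IsFractionRing.div_surjective A x
  have hc0 : c ≠ 0 := nonZeroDivisors.ne_zero hc
  obtain ⟨⟨s, hs⟩, hsx⟩ := hx.exists_multiple_integral_of_isLocalization p.primeCompl _
  let K := FractionRing A
  let L := FractionRing B
  let φ : K →+* L := IsFractionRing.lift (A := A) (g := (algebraMap B L).comp (algebraMap A B))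
    ((IsFractionRing.injective B L).comp (FaithfulSMul.algebraMap_injective A B))
  have hφ : ∀ r : A, φ (algebraMap A K r) = algebraMap B L (algebraMap A B r) := fun r => IsFractionRing.lift_algebraMap _ r
  have hint : IsIntegral B (algebraMap B L (algebraMap A B s) * (algebraMap B L (algebraMap A B a) / algebraMap B L (algebraMap A B c))) := by
    have h1 : IsIntegral A (φ (s • (algebraMap A K a / algebraMap A K c))) := by
      obtain ⟨pol, hm, hr⟩ := hsx
      refine ⟨pol, hm, ?_⟩
      have h2 := congrArg φ hr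
      rw [Polynomial.hom_eval₂, map_zero] at h2
      have hcomp : φ.comp (algebraMap A K) = algebraMap A L := by
        ext r
        rw [RingHom.comp_apply, hφ, ← IsScalarTower.algebraMap_apply]
      rw [hcomp] at h2
      exact h2
    rw [Algebra.smul_def, map_mul, map_div₀, hφ, hφ, hφ] at h1
    exact h1.tower_top
  obtain ⟨b, t, ht, hbt⟩ := h _ hint.tower_top
  have hinjL := IsFractionRing.injective B L
  have hc' : algebraMap A B c ≠ 0 := (map_ne_zero_iff _ (FaithfulSMul.algebraMap_injective A B)).mpr hc0
  have ht0 : t ≠ 0 := fun h => ht (h ▸ zero_mem Q)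
  rw [← mul_div_assoc, ← map_mul, ← div_eq_mul_inv,
    div_eq_div_iff ((map_ne_zero_iff _ hinjL).mpr hc') ((map_ne_zero_iff _ hinjL).mpr ht0), ← map_mul, ← map_mul] at hbt
  have e : algebraMap A B s * algebraMap A B a * t = b * algebraMap A B c := hinjL (by
    simp only [map_mul] at hbt ⊢
    exact hbt)
  obtain ⟨k, m, y, hy, hm⟩ := Module.Flat.isTrivialRelation_of_sum_smul_eq_zero
      (f := ![a, -c]) (x := ![algebraMap A B s * t, b]) (by
    simp only [Fin.sum_univ_two, Matrix.cons_val_zero, Matrix.cons_val_one, Algebra.smul_def, map_neg]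
    linear_combination e)
  obtain ⟨j, hj⟩ : ∃ j, m 0 j ∉ p := by
    by_contra hcon
    push Not at hcon
    have h1 : algebraMap A B s * t ∈ Q := by
      have h2 := hy 0
      simp only [Matrix.cons_val_zero] at h2
      rw [h2]
      exact Q.sum_mem fun j _ => by rw [Algebra.smul_def]; exact Q.mul_mem_right _ (hcon j)
    exact (‹Q.IsPrime›.mem_or_mem h1).elim hs ht
  refine ⟨m 1 j, m 0 j, hj, ?_⟩
  have h1 := hm j
  simp only [Fin.sum_univ_two, Matrix.cons_val_zero, Matrix.cons_val_one] at h1
  have hm0 : m 0 j ≠ 0 := fun h => hj (h ▸ zero_mem p)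
  rw [← div_eq_mul_inv, div_eq_div_iff ((map_ne_zero_iff _ (IsFractionRing.injective A K)).mpr hc0)
    ((map_ne_zero_iff _ (IsFractionRing.injective A K)).mpr hm0), ← map_mul, ← map_mul]
  congr 1
  linear_combination h1

/-- A finite type domain is normal somewhere if the finite domain extensions are. -/
theorem exists_normal_of_finiteType (A B : Type u) [CommRing A] [CommRing B] [IsDomain A] [IsDomain B]
    [IsNoetherianRing A] [Algebra A B] [FaithfulSMul A B] [Algebra.FiniteType A B]
    (H : ∀ (A' : Type u) [CommRing A'] [IsDomain A'] [Algebra A A'], Module.Finite A A' →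
      ∃ c : A', c ≠ 0 ∧ ∀ (Q : Ideal A') [Q.IsPrime], c ∉ Q → IsIntegrallyClosed (Localization.AtPrime Q)) :
    ∃ c : B, c ≠ 0 ∧ ∀ (Q : Ideal B) [Q.IsPrime], c ∉ Q → IsIntegrallyClosed (Localization.AtPrime Q) := by
  classical
  have : IsNoetherianRing B := Algebra.FiniteType.isNoetherianRing A B
  refine finiteType_alteration A B fun R' B' _ _ _ _ _ _ _ _ _ _ _ _ _ K' L _ _ _ _ _ _ _ _ _ _ _ hfin => ?_
  obtain ⟨f, hf0, hf⟩ := H R' hfin
  obtain ⟨g, hg0, hsm⟩ := exists_smooth_away R' B' K' L
  let f' := algebraMap R' B' f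
  have hf'0 : f' ≠ 0 := (map_ne_zero_iff _ (FaithfulSMul.algebraMap_injective R' B')).mpr hf0
  obtain ⟨u, hu0, hfree⟩ := H7Flat.exists_isAwayFree_of_finiteType (R := B) B' B'
  let u' := algebraMap B B' u
  have hu'0 : u' ≠ 0 := (map_ne_zero_iff _ (FaithfulSMul.algebraMap_injective B B')).mpr hu0
  let S' := Localization.Away u'
  have hfr := hfree.free_baseChange
  have : Module.Flat (Localization.Away u) (TensorProduct B (Localization.Away u) B') :=
    @Module.Flat.of_free (Localization.Away u) (TensorProduct B (Localization.Away u) B') _ _ _ hfr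
  have : Module.Flat B (TensorProduct B (Localization.Away u) B') := Module.Flat.trans B (Localization.Away u) _
  have hloc : IsLocalizedModule (Submonoid.powers u) (IsScalarTower.toAlgHom B B' S').toLinearMap := by
    rw [isLocalizedModule_iff_isLocalization]
    have : Algebra.algebraMapSubmonoid B' (Submonoid.powers u) = Submonoid.powers u' := Submonoid.map_powers _ _
    rw [this]
    infer_instance
  have : Module.Flat B S' :=
    Module.Flat.of_linearEquiv
      ((IsLocalizedModule.iso (Submonoid.powers u) (IsScalarTower.toAlgHom B B' S').toLinearMap).symm ≪≫ₗ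
        (LocalizedModule.equivTensorProduct (Submonoid.powers u) B').restrictScalars B)
  have hle : Submonoid.powers u' ≤ nonZeroDivisors B' := powers_le_nonZeroDivisors_of_noZeroDivisors hu'0
  have : IsDomain S' := IsLocalization.isDomain_localization hle
  have hinjS : Function.Injective (algebraMap B S') := by
    rw [IsScalarTower.algebraMap_eq B B' S']
    exact (IsLocalization.injective S' hle).comp (FaithfulSMul.algebraMap_injective B B')
  have : FaithfulSMul B S' := (faithfulSMul_iff_algebraMap_injective _ _).mpr hinjS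
  have : IsNoetherianRing B' := Algebra.FiniteType.isNoetherianRing B B'
  have : IsNoetherianRing S' := IsLocalization.isNoetherianRing (Submonoid.powers u') S' inferInstance
  have : Algebra.FiniteType B' S' := IsLocalization.finiteType_of_monoid_fg (Submonoid.powers u') S'
  have : Algebra.FiniteType B S' := Algebra.FiniteType.trans (R := B) (S := B') (A := S') inferInstance inferInstance
  have : Algebra.FinitePresentation B S' := Algebra.FinitePresentation.of_finiteType.mp inferInstance
  let w := algebraMap B' S' (g * f')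
  have hw : w ≠ 0 := (map_ne_zero_iff _ (IsLocalization.injective S' hle)).mpr (mul_ne_zero hg0 hf'0)
  obtain ⟨_, ⟨c, rfl⟩, hcmem, hcsub⟩ := PrimeSpectrum.isTopologicalBasis_basic_opens.exists_subset_of_mem_open
    (Set.mem_image_of_mem (PrimeSpectrum.comap (algebraMap B S')) (show (⟨⊥, Ideal.isPrime_bot⟩ : PrimeSpectrum S') ∈
      (PrimeSpectrum.basicOpen w : Set (PrimeSpectrum S')) from hw))
    (PrimeSpectrum.isOpenMap_comap_of_hasGoingDown_of_finitePresentation _ (PrimeSpectrum.basicOpen w).2)
  refine ⟨c, fun hc => hcmem (by rw [hc]; exact zero_mem _), fun P hP hcP => ?_⟩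
  obtain ⟨Q, hQw, hQP⟩ := hcsub (show (⟨P, hP⟩ : PrimeSpectrum B) ∈ (PrimeSpectrum.basicOpen c : Set _) from hcP)
  let Q' := Q.asIdeal.comap (algebraMap B' S')
  have hg' : g * f' ∉ Q' := hQw
  have hgQ' : g ∉ Q' := fun h => hg' (Q'.mul_mem_right f' h)
  have hfQ' : f' ∉ Q' := fun h => hg' (Q'.mul_mem_left g h)
  let Bg := Localization.Away g
  have hd : Disjoint (Submonoid.powers g : Set B') Q' := (Ideal.disjoint_powers_iff_notMem_of_isPrime _).mpr hgQ'
  have hP1 := IsLocalization.isPrime_of_isPrime_disjoint (Submonoid.powers g) Bg Q' inferInstance hd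
  have hc1 := IsLocalization.under_map_of_isPrime_disjoint (Submonoid.powers g) Bg (I := Q') inferInstance hd
  set P1 := Q'.map (algebraMap B' Bg)
  have : IsNoetherianRing Bg := IsLocalization.isNoetherianRing (Submonoid.powers g) Bg inferInstance
  have : Algebra.Smooth R' Bg := hsm
  obtain ⟨_, hICg⟩ := isDomain_and_isIntegrallyClosed_of_flat (A := R') P1
    (fun r hr hrP => ⟨inferInstance, hf _ fun hfr => hfQ' (by
      have h1 : algebraMap R' Bg f ∈ P1 := hrP hfr
      rw [IsScalarTower.algebraMap_apply R' B' Bg] at h1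
      exact hc1 ▸ (show f' ∈ P1.comap (algebraMap B' Bg) from h1))⟩)
    (fun r hr _ => by
      have := isRegularLocalRing_fibLocRing_of_smooth R' Bg r
      exact ⟨H4Depth.isDomain_of_isRegularLocalRing _, S9829.result _⟩)
  have hICQ' : IsIntegrallyClosed (Localization.AtPrime Q') := by
    have := IsLocalization.isLocalization_isLocalization_atPrime_isLocalization (Submonoid.powers g) (Localization.AtPrime P1) P1
    have h2 : IsIntegrallyClosed (Localization.AtPrime (P1.comap (algebraMap B' Bg))) := IsIntegrallyClosed.of_equiv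
      (IsLocalization.algEquiv (P1.comap (algebraMap B' Bg)).primeCompl (Localization.AtPrime P1)
        (Localization.AtPrime (P1.comap (algebraMap B' Bg)))).toRingEquiv
    exact (isIntegrallyClosed_atPrime_congr hc1).mp h2
  have hICQ : IsIntegrallyClosed (Localization.AtPrime Q.asIdeal) := by
    have := IsLocalization.isLocalization_isLocalization_atPrime_isLocalization (Submonoid.powers u') (Localization.AtPrime Q.asIdeal) Q.asIdeal
    exact IsIntegrallyClosed.of_equiv (IsLocalization.algEquiv Q'.primeCompl (Localization.AtPrime Q')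
      (Localization.AtPrime Q.asIdeal)).toRingEquiv
  exact (isIntegrallyClosed_atPrime_congr (congrArg PrimeSpectrum.asIdeal hQP)).mp
    (isIntegrallyClosed_comap_of_flat Q.asIdeal hICQ)

/-- EGA IV 6.13.7. -/
theorem isOpen_norLocus_of_finite_domains (A : Type u) [CommRing A] [IsNoetherianRing A]
    (H : ∀ (A' : Type u) [CommRing A'] [IsDomain A'] [Algebra A A'], Module.Finite A A' → IsOpen (EGA4.norLocus A'))
    (S : Type u) [CommRing S] [Algebra A S] [Algebra.FiniteType A S] : IsOpen (EGA4.norLocus S) := by
  have : IsNoetherianRing S := Algebra.FiniteType.isNoetherianRing A S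
  refine isOpen_norLocus_of_nhds fun p hp hpn => ?_
  have := hpn.1
  obtain ⟨q, g, hq, hqp, hg, hann⟩ := exists_nhd_domain p.asIdeal
  have hqp' : q.IsPrime := hq.isPrime
  have hpq : q = p.asIdeal := le_antisymm hqp (hp.2 ⟨hqp', bot_le⟩ hqp)
  obtain ⟨I, hI, alg, tower, hfs⟩ := exists_quotient_ker (A := A) (B := S ⧸ q)
  have : Algebra.FiniteType A (S ⧸ q) :=
    Algebra.FiniteType.of_surjective (Ideal.Quotient.mkₐ A q) Ideal.Quotient.mk_surjective
  have : Algebra.FiniteType (A ⧸ I) (S ⧸ q) := Algebra.FiniteType.of_restrictScalars_finiteType A (A ⧸ I) _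
  obtain ⟨c, hc0, hc⟩ := exists_normal_of_finiteType (A ⧸ I) (S ⧸ q) fun A' _ _ _ hfin => by
    letI : Algebra A A' := ((algebraMap (A ⧸ I) A').comp (algebraMap A (A ⧸ I))).toAlgebra
    have : IsScalarTower A (A ⧸ I) A' := IsScalarTower.of_algebraMap_eq fun _ => rfl
    have hopen := H A' (Module.Finite.trans (A ⧸ I) A')
    have hbot : (⟨⊥, Ideal.isPrime_bot⟩ : PrimeSpectrum A') ∈ EGA4.norLocus A' := by
      have : IsNoetherianRing A' := IsNoetherianRing.of_finite (A ⧸ I) A'
      exact mem_norLocus_of_mem_regLocus (isRegularLocalRing_bot A')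
    obtain ⟨_, ⟨c, rfl⟩, hcmem, hcsub⟩ := PrimeSpectrum.isTopologicalBasis_basic_opens.exists_subset_of_mem_open hbot hopen
    exact ⟨c, fun hc => hcmem (by rw [hc]; exact zero_mem _), fun Q hQ hcQ => (hcsub (a := ⟨Q, hQ⟩) hcQ).2⟩
  obtain ⟨c, rfl⟩ := Ideal.Quotient.mk_surjective c
  have hcq : c ∉ q := fun h' => hc0 (Ideal.Quotient.eq_zero_iff_mem.mpr h')
  refine ⟨(PrimeSpectrum.basicOpen (c * g) : Set (PrimeSpectrum S)), (PrimeSpectrum.basicOpen _).2,
    fun hmem => (p.2.mem_or_mem hmem).elim (hpq ▸ hcq) hg, fun P hP => ?_⟩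
  have hgP : g ∉ P.asIdeal := fun h' => hP (P.asIdeal.mul_mem_left c h')
  obtain ⟨hqP, hiff⟩ := mem_norLocus_iff_of_nhd hann P hgP
  have := Ideal.isPrime_map_quotientMk_of_isPrime hqP
  refine hiff.mpr (hc _ fun hmem => hP ?_)
  have h1 : c ∈ (P.asIdeal.map (Ideal.Quotient.mk q)).comap (Ideal.Quotient.mk q) := hmem
  rw [Ideal.comap_map_of_surjective' _ Ideal.Quotient.mk_surjective, Ideal.mk_ker, sup_eq_left.mpr hqP] at h1
  exact P.asIdeal.mul_mem_right g h1

end Groth.Agent.H05EGA4
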