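import Mathlib
import Groth.Agent.H05EGA4.FormalFibres
import Groth.Agent.H05EGA4.NormalUnion
import Groth.Agent.H05EGA4.NormalTensorGeom
import Groth.Agent.H05EGA4.EakinNagata
import Groth.Agent.H05EGA4.FibreLifting

/-!
Normality of completions along ideals.
-/

set_option autoImplicit false
set_option linter.style.haveILetI false
set_option maxHeartbeats 800000
universe u
open IsLocalRing Groth.Agent Groth.Agent.H05EGA4

namespace Groth.Agent.H05EGA4.NormalCompletion

theorem isDomain_of_isNormalRing {R : Type u} [CommRing R] [IsNoetherianRing R] [Nontrivial R]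
    (h : EGA4.IsNormalRing R) (hidem : ∀ e : R, IsIdempotentElem e → e = 0 ∨ e = 1) : IsDomain R := by
  classical
  haveI : IsReduced R := isReduced_of_isNormalRing h
  have hfin : (minimalPrimes R).Finite := minimalPrimes.finite_of_isNoetherianRing R
  have hcop : ∀ p ∈ minimalPrimes R, ∀ q ∈ minimalPrimes R, p ≠ q → p ⊔ q = ⊤ := by
    intro p hp q hq hne
    by_contra htop
    obtain ⟨m, hm, hle⟩ := Ideal.exists_le_maximal _ htop
    haveI := (h m).1
    have : ∀ r ∈ minimalPrimes R, r ≤ m → r = (⊥ : Ideal (Localization.AtPrime m)).comap (algebraMap R _) := by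
      intro r hr hrm
      haveI := hr.1.1
      refine le_antisymm ?_ ?_
      · have hb : ((⊥ : Ideal (Localization.AtPrime m)).comap (algebraMap R _)).IsPrime := inferInstance
        have hle' : (⊥ : Ideal (Localization.AtPrime m)).comap (algebraMap R _) ≤ r := fun x hx => by
          obtain ⟨c, hc⟩ := (IsLocalization.map_eq_zero_iff m.primeCompl _ x).mp hx
          exact (hr.1.1.mem_or_mem (hc ▸ r.zero_mem : (c : R) * x ∈ r)).resolve_left fun hcr => c.2 (hrm hcr)
        exact hr.2 ⟨hb, bot_le⟩ hle'
      · exact fun x hx => by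
          obtain ⟨c, hc⟩ := (IsLocalization.map_eq_zero_iff m.primeCompl _ x).mp hx
          exact (hr.1.1.mem_or_mem (hc ▸ r.zero_mem : (c : R) * x ∈ r)).resolve_left fun hcr => c.2 (hrm hcr)
    exact hne ((this p hp (le_sup_left.trans hle)).trans (this q hq (le_sup_right.trans hle)).symm)
  obtain ⟨p, hp⟩ : (minimalPrimes R).Nonempty := Set.nonempty_coe_sort.mp (Ideal.nonempty_minimalPrimes (I := (⊥ : Ideal R)) bot_ne_top)
  have huniq : ∀ q ∈ minimalPrimes R, q = p := by
    intro q hq
    by_contra hne
    let s := hfin.toFinset.erase p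
    have hcop' : IsCoprime p (⨅ r ∈ s, r) := Ideal.isCoprime_iff_sup_eq.mpr <| Ideal.sup_iInf_eq_top fun r hr => by
      obtain ⟨hr1, hr2⟩ := Finset.mem_erase.mp hr
      exact hcop p hp r ((Set.Finite.mem_toFinset _).mp hr2) (Ne.symm hr1)
    obtain ⟨a, ha, e, he, hae⟩ := Ideal.isCoprime_iff_exists.mp hcop'
    have hmul : a * e = 0 := by
      refine IsReduced.eq_zero _ (mem_nilradical.mp ?_)
      rw [nilradical, ← Ideal.sInf_minimalPrimes, Ideal.mem_sInf]
      intro r hr
      rcases eq_or_ne r p with rfl | hrp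
      · exact Ideal.mul_mem_right _ _ ha
      · refine Ideal.mul_mem_left _ _ ?_
        rw [Ideal.mem_iInf] at he
        have := he r
        rw [Ideal.mem_iInf] at this
        exact this (Finset.mem_erase.mpr ⟨hrp, (Set.Finite.mem_toFinset _).mpr hr⟩)
    have hid : IsIdempotentElem e := by
      show e * e = e
      calc e * e = e * e + a * e := by rw [hmul, add_zero]
        _ = e * (a + e) := by ring
        _ = e := by rw [hae, mul_one]
    rcases hidem e hid with h0 | h1
    · rw [h0, add_zero] at hae
      exact hp.1.1.ne_top ((Ideal.eq_top_iff_one p).mpr (hae ▸ ha))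
    · haveI := hq.1.1
      refine hq.1.1.ne_top ((Ideal.eq_top_iff_one q).mpr ?_)
      rw [Ideal.mem_iInf] at he
      have := he q
      rw [Ideal.mem_iInf] at this
      exact h1 ▸ this (Finset.mem_erase.mpr ⟨hne, (Set.Finite.mem_toFinset _).mpr hq⟩)
  have hbot : p = ⊥ := le_bot_iff.mp fun x hx => by
    refine (Submodule.mem_bot R).mpr (IsReduced.eq_zero _ (mem_nilradical.mp ?_))
    rw [nilradical, ← Ideal.sInf_minimalPrimes, Ideal.mem_sInf]
    exact fun r hr => (huniq r hr) ▸ hx
  haveI : (⊥ : Ideal R).IsPrime := hbot ▸ hp.1.1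
  exact (RingEquiv.quotientBot R).symm.toMulEquiv.isDomain (R ⧸ (⊥ : Ideal R))

theorem idempotents_iff_connected {R : Type u} [CommRing R] [Nontrivial R] :
    ConnectedSpace (PrimeSpectrum R) ↔ ∀ e : R, IsIdempotentElem e → e = 0 ∨ e = 1 := by
  constructor
  · intro hc e he
    rcases isClopen_iff.mp (PrimeSpectrum.isClopen_iff.mpr ⟨e, he, rfl⟩ : IsClopen (PrimeSpectrum.basicOpen e : Set (PrimeSpectrum R))) with h | h
    · left
      have h1 : PrimeSpectrum.basicOpen e = ⊥ := SetLike.coe_injective h
      exact he.eq_zero_of_isNilpotent (PrimeSpectrum.basicOpen_eq_bot_iff e |>.mp h1)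
    · right
      have h1 : PrimeSpectrum.basicOpen e = ⊤ := SetLike.coe_injective h
      have hu : IsUnit e := by
        rw [← Ideal.span_singleton_eq_top]
        by_contra hne
        obtain ⟨M, hM, hle⟩ := Ideal.exists_le_maximal _ hne
        have : (⟨M, hM.isPrime⟩ : PrimeSpectrum R) ∈ PrimeSpectrum.basicOpen e := h1 ▸ trivial
        exact this (hle (Ideal.mem_span_singleton_self e))
      exact (IsIdempotentElem.iff_eq_one_of_isUnit hu).mp he
  · intro h
    haveI : PreconnectedSpace (PrimeSpectrum R) := by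
      refine preconnectedSpace_iff_clopen.mpr fun s hs => ?_
      obtain ⟨e, he, rfl⟩ := PrimeSpectrum.isClopen_iff.mp hs
      rcases h e he with rfl | rfl
      · left; rw [PrimeSpectrum.basicOpen_zero]; rfl
      · right; rw [PrimeSpectrum.basicOpen_one]; rfl
    exact { toNonempty := inferInstance }

theorem main (A : Type u) [CommRing A] [IsNoetherianRing A] (J : Ideal A) (hJ : J ≠ ⊤)
    (hf : EGA4.IsNormalHom A (AdicCompletion J A))
    (T : Submonoid A) (hT : T = MonoidHom.mker (Ideal.Quotient.mk J)) :
    (IsDomain (AdicCompletion J A) ∧ IsIntegrallyClosed (AdicCompletion J A)) ↔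
      ((IsDomain (Localization T) ∧ IsIntegrallyClosed (Localization T)) ∧
        ConnectedSpace (PrimeSpectrum (A ⧸ J))) := by
  let Ah := AdicCompletion J A
  haveI : IsNoetherianRing Ah := isNoetherianRing_adicCompletion A J
  haveI : IsNoetherianRing (Localization T) := IsLocalization.isNoetherianRing T _ inferInstance
  haveI : Nontrivial (A ⧸ J) := Ideal.Quotient.nontrivial_iff.mpr hJ
  let JA := J.map (algebraMap A Ah)
  haveI : IsAdicComplete JA Ah := AdicCompletion.isAdicComplete_self J (IsNoetherian.noetherian J)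
  have hjac : JA ≤ (⊥ : Ideal Ah).jacobson := IsAdicComplete.le_jacobson_bot JA
  obtain ⟨π, hπ, hπA, hker⟩ : ∃ π : Ah →+* A ⧸ J, Function.Surjective π ∧
      (∀ a, π (algebraMap A Ah a) = Ideal.Quotient.mk J a) ∧ RingHom.ker π = JA := by
    refine ⟨(AdicCompletion.evalOneₐ J).toRingHom, ?_, fun a => (AdicCompletion.evalOneₐ J).commutes a, ?_⟩
    · exact AdicCompletion.evalOneₐ_surjective J
    · refine le_antisymm (fun x hx => ?_) (Ideal.map_le_iff_le_comap.mpr fun a ha => ?_)
      · obtain ⟨a, ha⟩ := H24Adic.exists_sub_of_mem (IsNoetherian.noetherian J) 1 x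
        rw [pow_one] at ha
        have h1 : (AdicCompletion.evalOneₐ J) (x - algebraMap A Ah a) = 0 := by
          have hle : JA ≤ RingHom.ker (AdicCompletion.evalOneₐ J).toRingHom :=
            Ideal.map_le_iff_le_comap.mpr fun b hb => by
              show (AdicCompletion.evalOneₐ J) (algebraMap A Ah b) = 0
              rw [AlgHom.commutes]; exact Ideal.Quotient.eq_zero_iff_mem.mpr hb
          exact hle ha
        rw [map_sub, AlgHom.commutes, show (AdicCompletion.evalOneₐ J) x = 0 from hx, zero_sub, neg_eq_zero] at h1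
        have ha' : a ∈ J := Ideal.Quotient.eq_zero_iff_mem.mp h1
        have h2 := add_mem ha (Ideal.mem_map_of_mem (algebraMap A Ah) ha')
        rw [sub_add_cancel] at h2
        exact h2
      · show (AdicCompletion.evalOneₐ J) (algebraMap A Ah a) = 0
        rw [AlgHom.commutes]; exact Ideal.Quotient.eq_zero_iff_mem.mpr ha
  have hunitπ : ∀ x : Ah, IsUnit (π x) → IsUnit x := fun x hx => by
    by_contra hnu
    obtain ⟨M, hM, hxM⟩ := exists_max_ideal_of_mem_nonunits hnu
    have hle : RingHom.ker π ≤ M := hker ▸ hjac.trans (sInf_le ⟨bot_le, hM⟩)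
    haveI := hM
    have := Ideal.map_eq_top_or_isMaximal_of_surjective π hπ hM
    have htop : M.map π = ⊤ := Ideal.eq_top_of_isUnit_mem _ (Ideal.mem_map_of_mem π hxM) hx
    have := Ideal.comap_map_of_surjective' π hπ M
    rw [htop, Ideal.comap_top, sup_eq_left.mpr hle] at this
    exact hM.ne_top this.symm
  have hTu : ∀ t : T, IsUnit (algebraMap A Ah t) := fun t => hunitπ _ (by
    rw [hπA, show Ideal.Quotient.mk J (t : A) = 1 from by
      have ht : (t : A) ∈ MonoidHom.mker (Ideal.Quotient.mk J) := hT ▸ t.2
      exact ht]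
    exact isUnit_one)
  letI : Algebra (Localization T) Ah := (IsLocalization.lift hTu).toAlgebra
  haveI : IsScalarTower A (Localization T) Ah := IsScalarTower.of_algebraMap_eq fun a => (IsLocalization.lift_eq hTu a).symm
  have hG : GRSHom 1 2 (Localization T) Ah := by
    haveI : IsLocalization (⊥ : Submonoid Ah) Ah := IsLocalization.self bot_le
    exact (isNormalHom_iff_grsHom.mp hf).localization T (Localization T) Ah (⊥ : Submonoid Ah)
  haveI := hG.1
  haveI : Module.FaithfullyFlat (Localization T) Ah := by
    refine Module.FaithfullyFlat.of_comap_surjective ?_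
    intro ⟨P, hP⟩
    obtain ⟨M, hM, hPM⟩ := Ideal.exists_le_maximal P hP.ne_top
    let M0 := M.comap (algebraMap A (Localization T))
    have hJM : J ≤ M0 := by
      by_contra hnot
      obtain ⟨j, hj, hjM⟩ := Set.not_subset.mp hnot
      haveI := hM
      obtain ⟨y, hy⟩ := hM.exists_inv (x := algebraMap A (Localization T) j) hjM
      obtain ⟨i, hi, hsum⟩ := hy
      obtain ⟨⟨a, t⟩, hat⟩ := IsLocalization.surj T y
      have hmemM : algebraMap A (Localization T) ((t : A) - a * j) ∈ M := by
        have : algebraMap A (Localization T) ((t : A) - a * j) = algebraMap A (Localization T) t * i := by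
          rw [map_sub, map_mul, ← hat, ← sub_eq_zero]
          linear_combination (algebraMap A (Localization T) t) * hsum * (-1)
        rw [this]; exact M.mul_mem_left _ hi
      have hT' : (t : A) - a * j ∈ T := by
        have ht : Ideal.Quotient.mk J (t : A) = 1 := by
          have ht : (t : A) ∈ MonoidHom.mker (Ideal.Quotient.mk J) := hT ▸ t.2
          exact ht
        have hh : (t : A) - a * j ∈ MonoidHom.mker (Ideal.Quotient.mk J) := by
          show Ideal.Quotient.mk J ((t : A) - a * j) = 1
          rw [map_sub, map_mul, Ideal.Quotient.eq_zero_iff_mem.mpr hj, mul_zero, sub_zero, ht]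
        exact (SetLike.ext_iff.mp hT _).mpr hh
      exact hM.ne_top (Ideal.eq_top_of_isUnit_mem _ hmemM (IsLocalization.map_units _ (⟨_, hT'⟩ : T)))
    haveI : M0.IsPrime := Ideal.IsPrime.comap _
    let N0 := (M0.map (Ideal.Quotient.mk J)).comap π
    haveI : (M0.map (Ideal.Quotient.mk J)).IsPrime := Ideal.isPrime_map_quotientMk_of_isPrime hJM
    haveI : N0.IsPrime := Ideal.IsPrime.comap _
    have hN0 : N0.comap (algebraMap (Localization T) Ah) = M := by
      haveI : (N0.comap (algebraMap (Localization T) Ah)).IsPrime := Ideal.IsPrime.comap _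
      rw [← IsLocalization.map_under T (Localization T) M,
        ← IsLocalization.map_under T (Localization T) (N0.comap (algebraMap (Localization T) Ah))]
      congr 1
      ext a
      show algebraMap (Localization T) Ah (algebraMap A (Localization T) a) ∈ N0 ↔ _
      rw [← IsScalarTower.algebraMap_apply]
      show π (algebraMap A Ah a) ∈ M0.map (Ideal.Quotient.mk J) ↔ _
      rw [hπA, ← Ideal.mem_comap, Ideal.comap_map_of_surjective' _ Ideal.Quotient.mk_surjective, Ideal.mk_ker,
        sup_eq_left.mpr hJM]
    haveI : N0.LiesOver M := ⟨hN0.symm⟩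
    haveI := hP
    obtain ⟨Q, -, hQ, hQP⟩ := Ideal.exists_ideal_le_liesOver_of_le (p := P) (q := M) N0 hPM
    exact ⟨⟨Q, hQ⟩, PrimeSpectrum.ext hQP.over.symm⟩
  constructor
  · rintro ⟨_, _⟩
    have hinj : Function.Injective (algebraMap (Localization T) Ah) := FaithfulSMul.algebraMap_injective _ _
    haveI hd : IsDomain (Localization T) := hinj.isDomain _
    refine ⟨⟨hd, isIntegrallyClosed_of_isNormalRing (isNormalRing_iff_rs.mpr
      (RS.of_faithfullyFlat (A := Localization T) (isNormalRing_iff_rs.mp (normal_of_domain Ah))))⟩, ?_⟩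
    rw [idempotents_iff_connected]
    intro e he
    obtain ⟨x, hx⟩ := hπ e
    obtain ⟨e', he', hee⟩ := H9Hens.exists_idem_lift (A := Ah) (I := JA) (B := Ah) x (by
      show x * x - x ∈ JA.map (RingHom.id Ah)
      rw [Ideal.map_id, ← hker, RingHom.mem_ker, map_sub, map_mul, hx, he, sub_self])
    have hπe : π e' = e := by
      have hee' : e' - x ∈ JA.map (RingHom.id Ah) := hee
      rw [Ideal.map_id, ← hker, RingHom.mem_ker, map_sub, sub_eq_zero, hx] at hee'
      exact hee'
    rcases IsIdempotentElem.iff_eq_zero_or_one.mp he' with h | h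
    · left; rw [← hπe, h, map_zero]
    · right; rw [← hπe, h, map_one]
  · rintro ⟨⟨_, _⟩, hc⟩
    have hN : EGA4.IsNormalRing Ah :=
      isNormalRing_iff_rs.mpr (hG.rs (isNormalRing_iff_rs.mp (normal_of_domain (Localization T))))
    haveI : Nontrivial Ah := π.domain_nontrivial
    have hidem : ∀ e : Ah, IsIdempotentElem e → e = 0 ∨ e = 1 := fun e he => by
      rcases (idempotents_iff_connected.mp hc) (π e) (he.map π) with h | h
      · left
        have hu : IsUnit (1 - e) := hunitπ _ (by rw [map_sub, map_one, h, sub_zero]; exact isUnit_one)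
        exact hu.mul_left_eq_zero.mp (by rw [mul_sub, mul_one, he, sub_self])
      · right
        exact (IsIdempotentElem.iff_eq_one_of_isUnit (hunitπ _ (h ▸ isUnit_one))).mp he
    haveI := isDomain_of_isNormalRing hN hidem
    exact ⟨inferInstance, isIntegrallyClosed_of_isNormalRing hN⟩

end Groth.Agent.H05EGA4.NormalCompletion
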