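import Mathlib
import Groth.Prelude.Def_EGA4b
import Groth.Agent.H05EGA4.NormalTensor

/-!
Integral closure commutes with base change along a normal homomorphism.
-/

set_option autoImplicit false
set_option linter.style.haveILetI false
set_option maxHeartbeats 1000000
set_option synthInstance.maxHeartbeats 200000
universe u
open TensorProduct Groth.Agent

namespace Groth.Agent.H05EGA4.NormalHomIntClosure

theorem core {A A' B0 B C : Type u} [CommRing A] [CommRing A'] [IsNoetherianRing A] [IsNoetherianRing A'] [Algebra A A']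
    [Module.Flat A A'] (hred : RedFibres A A') [CommRing B0] [CommRing B] [CommRing C] [IsNoetherianRing B0]
    [Algebra A B0] [Algebra A B] [Algebra A C] [Algebra B0 B] [Algebra B0 C] [Algebra B C]
    [IsScalarTower A B0 C] [IsScalarTower B0 B C] [IsScalarTower A B C] (x : A' ⊗[A] C)
    (q : Polynomial (A' ⊗[A] B0)) (hqm : q.Monic)
    (hqx : Polynomial.eval₂ (Algebra.TensorProduct.map (AlgHom.id A' A') (IsScalarTower.toAlgHom A B0 C)).toRingHom x q = 0) :
    x ∈ Set.range (Algebra.TensorProduct.map (AlgHom.id A' A') ((integralClosure B C).val.restrictScalars A)) := by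
  obtain ⟨e, he⟩ := exists_rebase_equiv A A' B0 C
  have hx' : IsIntegral (B0 ⊗[A] A') (e.symm x) := by
    refine isIntegral_map_of_square (Algebra.TensorProduct.comm A A' B0).toRingHom (RingHom.id _)
      (Algebra.TensorProduct.map (AlgHom.id A' A') (IsScalarTower.toAlgHom A B0 C)).toRingHom e.symm.toRingHom
      (fun z => ?_) q hqm x (by rw [Polynomial.map_id]; exact hqx)
    induction z using TensorProduct.induction_on with
    | zero => simp
    | tmul a b =>
      apply e.injective
      simp [Algebra.TensorProduct.algebraMap_apply, he, Algebra.smul_def]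
    | add z w hz hw => simp only [map_add, hz, hw]
  obtain ⟨c, hc⟩ := mem_range_integralClosure (A := B0) (RedFibres.baseChange hred) _ hx'
  have hkey : ∀ c, e (Algebra.TensorProduct.map (AlgHom.id (B0 ⊗[A] A') (B0 ⊗[A] A')) (integralClosure B0 C).val c) ∈
      (Algebra.TensorProduct.map (AlgHom.id A' A') ((integralClosure B C).val.restrictScalars A)).range := by
    intro c
    induction c using TensorProduct.induction_on with
    | zero => rw [map_zero, map_zero]; exact zero_mem _
    | add z w hz hw => rw [map_add, map_add]; exact add_mem hz hw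
    | tmul y z =>
      induction y using TensorProduct.induction_on with
      | zero => rw [TensorProduct.zero_tmul, map_zero, map_zero]; exact zero_mem _
      | add y w hy hw => rw [TensorProduct.add_tmul, map_add, map_add]; exact add_mem hy hw
      | tmul b a =>
        have hz : IsIntegral B ((b : B0) • (z : C)) := by
          have h1 : IsIntegral B0 ((b : B0) • (z : C)) := IsIntegral.smul b z.2
          exact h1.tower_top
        refine ⟨a ⊗ₜ[A] (⟨_, hz⟩ : integralClosure B C), ?_⟩
        show _ = e ((b ⊗ₜ[A] a) ⊗ₜ[B0] (z : C))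
        rw [he, AlgHom.toRingHom_eq_coe, RingHom.coe_coe, Algebra.TensorProduct.map_tmul, AlgHom.id_apply]
        rfl
  obtain ⟨y, hy⟩ := hkey c
  exact ⟨y, hy.trans (by rw [hc]; exact e.apply_symm_apply x)⟩

theorem integralClosure_baseChange {A A' : Type u} [CommRing A] [CommRing A'] [IsNoetherianRing A] [IsNoetherianRing A']
    [Algebra A A'] (h : EGA4.IsNormalHom A A') (B C : Type u) [CommRing B] [CommRing C] [Algebra A B] [Algebra A C]
    [Algebra B C] [IsScalarTower A B C] (x : A' ⊗[A] C)
    (hx : (Algebra.TensorProduct.map (AlgHom.id A' A') (IsScalarTower.toAlgHom A B C)).toRingHom.IsIntegralElem x) :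
    x ∈ Set.range (Algebra.TensorProduct.map (AlgHom.id A' A') ((integralClosure B C).val.restrictScalars A)) := by
  classical
  haveI := h.1
  have hred : RedFibres A A' := redFibres_of_grsHom (by norm_num) (by norm_num) (isNormalHom_iff_grsHom.mp h)
  obtain ⟨p, hp, hpx⟩ := hx
  obtain ⟨B0, hB0, hsub⟩ := exists_fg_subalgebra_finset ((Finset.range (p.natDegree + 1)).image p.coeff)
  haveI : Algebra.FiniteType A B0 := (Subalgebra.fg_iff_finiteType _).mp hB0
  haveI : IsNoetherianRing B0 := Algebra.FiniteType.isNoetherianRing A B0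
  let ι0 := Algebra.TensorProduct.map (AlgHom.id A A') B0.val
  have hlift : p ∈ Polynomial.lifts ι0.toRingHom := by
    rw [Polynomial.lifts_iff_coeff_lifts]
    intro i
    rcases lt_or_ge i (p.natDegree + 1) with hi | hi
    · exact hsub (Finset.mem_coe.mpr (Finset.mem_image_of_mem _ (Finset.mem_range.mpr hi)))
    · exact ⟨0, by rw [map_zero, Polynomial.coeff_eq_zero_of_natDegree_lt (by omega)]⟩
  obtain ⟨q, hq, -, hqm⟩ := Polynomial.lifts_and_natDegree_eq_and_monic hlift hp
  refine core (B0 := B0) (B := B) hred x q hqm ?_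
  rw [← hq, Polynomial.eval₂_map] at hpx
  refine (congrArg (fun f => Polynomial.eval₂ f x q) ?_).trans hpx
  refine RingHom.ext fun z => ?_
  induction z using TensorProduct.induction_on with
  | zero => rw [map_zero, map_zero]
  | tmul a b =>
    show Algebra.TensorProduct.map _ _ (a ⊗ₜ[A] b) =
      Algebra.TensorProduct.map _ _ (Algebra.TensorProduct.map _ _ (a ⊗ₜ[A] b))
    simp only [Algebra.TensorProduct.map_tmul]
    rfl
  | add z w hz hw => rw [map_add, map_add, hz, hw]

theorem main {A A' : Type u} [CommRing A] [CommRing A'] [IsNoetherianRing A] [IsNoetherianRing A'] [Algebra A A']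
    (h : EGA4.IsNormalHom A A') (B C : Type u) [CommRing B] [CommRing C] [Algebra A B] [Algebra A C] [Algebra B C]
    [IsScalarTower A B C] :
    (integralClosure
          ↥(Algebra.TensorProduct.map (AlgHom.id A' A') (IsScalarTower.toAlgHom A B C)).range (A' ⊗[A] C) :
        Set (A' ⊗[A] C)) =
      Set.range (Algebra.TensorProduct.map (AlgHom.id A' A')
        ((integralClosure B C).val.restrictScalars A)) := by
  let f := Algebra.TensorProduct.map (AlgHom.id A' A') (IsScalarTower.toAlgHom A B C)
  refine Set.Subset.antisymm (fun x hx => integralClosure_baseChange h B C x ?_) ?_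
  · obtain ⟨p, hp, hpx⟩ := hx
    have hlift : p ∈ Polynomial.lifts f.rangeRestrict.toRingHom :=
      (Polynomial.mem_lifts _).mpr (Polynomial.map_surjective _ f.rangeRestrict_surjective p)
    obtain ⟨q, hq, -, hqm⟩ := Polynomial.lifts_and_natDegree_eq_and_monic hlift hp
    refine ⟨q, hqm, ?_⟩
    rw [← hq, Polynomial.eval₂_map] at hpx
    exact hpx
  · rintro _ ⟨z, rfl⟩
    induction z using TensorProduct.induction_on with
    | zero => rw [map_zero]; exact zero_mem _
    | add a b ha hb => rw [map_add]; exact add_mem ha hb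
    | tmul a d =>
      rw [Algebra.TensorProduct.map_tmul]
      show a ⊗ₜ[A] (d : C) ∈ integralClosure _ _
      rw [show a ⊗ₜ[A] (d : C) = (a ⊗ₜ[A] (1 : C)) * ((1 : A') ⊗ₜ[A] (d : C)) by
        rw [Algebra.TensorProduct.tmul_mul_tmul, mul_one, one_mul]]
      refine mul_mem ?_ ?_
      · exact isIntegral_algebraMap (R := f.range) (A := A' ⊗[A] C) (x := ⟨a ⊗ₜ (1 : C), a ⊗ₜ (1 : B), by simp [f]⟩)
      · obtain ⟨g, hg, hgd⟩ := d.2
        refine ⟨g.map (f.rangeRestrict.toRingHom.comp (Algebra.TensorProduct.includeRight : B →ₐ[A] A' ⊗[A] B).toRingHom),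
          hg.map _, ?_⟩
        rw [Polynomial.eval₂_map, show (algebraMap f.range (A' ⊗[A] C)).comp
          (f.rangeRestrict.toRingHom.comp (Algebra.TensorProduct.includeRight : B →ₐ[A] A' ⊗[A] B).toRingHom) =
          (Algebra.TensorProduct.includeRight : C →ₐ[A] A' ⊗[A] C).toRingHom.comp (algebraMap B C) from RingHom.ext fun b => by
            show f ((1 : A') ⊗ₜ[A] b) = (1 : A') ⊗ₜ[A] (algebraMap B C b)
            simp [f]]
        exact (Polynomial.hom_eval₂ _ _ _ _).symm.trans (by rw [hgd, map_zero])

end Groth.Agent.H05EGA4.NormalHomIntClosure
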