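import Mathlib
import Groth.Agent.H05EGA4.ExtendNormal
import Groth.Agent.H8Props.Generic
import Groth.Agent.H11Val.Point

/-!
Valuative criteria for extending sections over normal points.
-/

set_option autoImplicit false
universe u
open AlgebraicGeometry CategoryTheory CategoryTheory.Limits TopologicalSpace IsLocalRing

namespace Groth.Agent.H05EGA4.NormalPointExt

theorem graph_case {X Y S : Scheme.{u}} (pX : X ⟶ S) (pY : Y ⟶ S)
    [LocallyOfFiniteType pY] [IsSeparated pY] (hX : ∀ y : ↥X, ∃ W : X.Opens, y ∈ W ∧ IsIntegral (W : Scheme.{u}))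
    (U : X.Opens) (hU : Dense (U : Set ↥X)) (h : (U : Scheme.{u}) ⟶ Y) (hh : U.ι ≫ pX = h ≫ pY)
    (x : ↥X) (hx : IsIntegrallyClosed (X.presheaf.stalk x))
    (z : ↥(pullback pX pY)) (hz : pullback.fst pX pY z = x)
    (hzΓ : z ∈ closure (Set.range (pullback.lift U.ι h hh)))
    (hiso : ∃ W : (pullback pX pY).Opens, (W : Set ↥(pullback pX pY)) ∩ closure (Set.range (pullback.lift U.ι h hh)) ∩
      (pullback.fst pX pY) ⁻¹' {x} = {z}) :
    ∃ (V : X.Opens) (v : (V : Scheme.{u}) ⟶ Y), x ∈ V ∧ v ≫ pY = V.ι ≫ pX ∧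
      X.homOfLE (inf_le_right : U ⊓ V ≤ V) ≫ v = X.homOfLE (inf_le_left : U ⊓ V ≤ U) ≫ h := by
  subst hz
  obtain ⟨W, hW, hWi⟩ := hX (pullback.fst pX pY z)
  obtain ⟨V, v, hV, hv, hag⟩ := ExtendNormal.exists_section_nhd (pullback.fst pX pY) U hU
    (pullback.lift U.ι h hh) (pullback.lift_fst _ _ _) W z hW hx hzΓ hiso
  refine ⟨V, v ≫ pullback.snd _ _, hV, ?_, ?_⟩
  · rw [Category.assoc, ← pullback.condition, ← Category.assoc, hv]
  · rw [← Category.assoc, hag, Category.assoc, pullback.lift_snd]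

theorem exists_dvr {X : Scheme.{u}} [IsLocallyNoetherian X] (U : X.Opens) (hU : Dense (U : Set X)) (z x : X)
    (hz : z ⤳ x) (hzU : z ∈ U) (hxU : x ∉ U) :
    ∃ (R : Type u) (_ : CommRing R) (_ : IsDomain R) (_ : IsDiscreteValuationRing R)
      (u : Spec (CommRingCat.of R) ⟶ X) (ub : Spec (CommRingCat.of (FractionRing R)) ⟶ (U : Scheme.{u})),
      u (closedPoint R) = x ∧
      ub ≫ U.ι = Spec.map (CommRingCat.ofHom (algebraMap R (FractionRing R))) ≫ u ∧
      ∀ t, U.ι (ub t) = z := by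
  have hne : x ≠ (𝟙 X : X ⟶ X) z := fun h => hxU (h ▸ hzU)
  obtain ⟨A, u, hA, hu, hcomp⟩ := H11Val.exists_dvr_hom_through (𝟙 X) z x hz hne
  obtain ⟨e, -, he⟩ := H11Val.map_fractionRing A (X.residueField z)
  have hall : ∀ t, (e ≫ X.fromSpecResidueField z) t = z := fun t => by
    rw [Scheme.Hom.comp_apply, Scheme.fromSpecResidueField_apply]
  have hr : Set.range (e ≫ X.fromSpecResidueField z) ⊆ Set.range U.ι := by
    rintro _ ⟨t, rfl⟩; rw [Scheme.Opens.range_ι, hall]; exact hzU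
  refine ⟨A, inferInstance, inferInstance, hA, u,
    IsOpenImmersion.lift U.ι (e ≫ X.fromSpecResidueField z) hr, hu, ?_, fun t => ?_⟩
  · rw [IsOpenImmersion.lift_fac, ← he, Category.assoc]
    exact congrArg (e ≫ ·) ((Category.comp_id _).symm.trans hcomp.symm)
  · rw [← Scheme.Hom.comp_apply, IsOpenImmersion.lift_fac, hall]

theorem exists_generic_mem {X : Scheme.{u}} (U : X.Opens) (hU : Dense (U : Set X)) (x : X)
    [IsLocallyNoetherian X] [IsDomain (X.presheaf.stalk x)] :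
    ∃ (W : X.Opens) (_ : IsIntegral (W : Scheme.{u})), x ∈ W ∧ W.ι (genericPoint (W : Scheme.{u})) ∈ U ∧
      W.ι (genericPoint (W : Scheme.{u})) ⤳ x := by
  obtain ⟨W, hxW, -, hW⟩ := H17.exists_isIntegral_nhd x (Or.inl inferInstance)
  haveI := hW
  refine ⟨W, hW, hxW, ?_, (genericPoint_specializes (α := ↥(W : Scheme.{u})) ⟨x, hxW⟩).map W.ι.continuous⟩
  obtain ⟨z, hzW, hzU⟩ := hU.inter_open_nonempty _ W.2 ⟨x, hxW⟩
  exact ((genericPoint_specializes (α := ↥(W : Scheme.{u})) ⟨z, hzW⟩).map W.ι.continuous).mem_open U.2 hzU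

theorem range_le_of_closedPoint_mem {R : Type u} [CommRing R] [IsLocalRing R] {X : Scheme.{u}}
    (u : Spec (CommRingCat.of R) ⟶ X) (V : X.Opens) (h : u (closedPoint R) ∈ V) : Set.range u ⊆ V := by
  rintro _ ⟨t, rfl⟩
  exact ((specializes_closedPoint t).map u.continuous).mem_open V.2 h

theorem of_extension {X Y : Scheme.{u}} (q : Y ⟶ X) (U : X.Opens) (h : (U : Scheme.{u}) ⟶ Y)
    (U' : X.Opens) (hUU' : U ≤ U') (h' : (U' : Scheme.{u}) ⟶ Y) (hh' : h' ≫ q = U'.ι) (hres : X.homOfLE hUU' ≫ h' = h)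
    (R : Type u) [CommRing R] [IsDomain R] [IsLocalRing R] (u : Spec (CommRingCat.of R) ⟶ X)
    (hu : u (closedPoint R) ∈ U') (ub : Spec (CommRingCat.of (FractionRing R)) ⟶ (U : Scheme.{u}))
    (hub : ub ≫ U.ι = Spec.map (CommRingCat.ofHom (algebraMap R (FractionRing R))) ≫ u) :
    ∃ h₁ : Spec (CommRingCat.of R) ⟶ Y, h₁ ≫ q = u ∧ h₁ (closedPoint R) = h' ⟨u (closedPoint R), hu⟩ ∧
      Spec.map (CommRingCat.ofHom (algebraMap R (FractionRing R))) ≫ h₁ = ub ≫ h := by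
  let l := IsOpenImmersion.lift U'.ι u (by rw [Scheme.Opens.range_ι]; exact range_le_of_closedPoint_mem u U' hu)
  have hl : l ≫ U'.ι = u := IsOpenImmersion.lift_fac _ _ _
  refine ⟨l ≫ h', by rw [Category.assoc, hh', hl], ?_, ?_⟩
  · exact congrArg h' (Subtype.ext (congr($(hl) (closedPoint R))))
  · have h0 : Spec.map (CommRingCat.ofHom (algebraMap R (FractionRing R))) ≫ l = ub ≫ X.homOfLE hUU' := by
      rw [← cancel_mono U'.ι, Category.assoc, hl, Category.assoc, Scheme.homOfLE_ι, hub]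
    rw [reassoc_of% h0, hres]

theorem quasiFinite_case {X Y : Scheme.{u}} [IsLocallyNoetherian X] (q : Y ⟶ X)
    [LocallyOfFiniteType q] [IsSeparated q] [LocallyQuasiFinite q] (U : X.Opens) (hU : Dense (U : Set ↥X))
    (h : (U : Scheme.{u}) ⟶ Y) (hh : h ≫ q = U.ι) (x : ↥X) (hxU : x ∉ U) [IsDomain ↑(X.presheaf.stalk x)]
    (hx : IsIntegrallyClosed ↑(X.presheaf.stalk x)) :
    (∃ (U' : X.Opens) (hUU' : U ≤ U') (h' : (U' : Scheme.{u}) ⟶ Y),
        x ∈ U' ∧ h' ≫ q = U'.ι ∧ X.homOfLE hUU' ≫ h' = h) ↔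
      ∃ (R : Type u) (_ : CommRing R) (_ : IsDomain R) (_ : IsDiscreteValuationRing R)
        (u : Spec (CommRingCat.of R) ⟶ X) (ub : Spec (CommRingCat.of (FractionRing R)) ⟶ (U : Scheme.{u}))
        (h₁ : Spec (CommRingCat.of R) ⟶ Y),
        u (IsLocalRing.closedPoint R) = x ∧
          ub ≫ U.ι = Spec.map (CommRingCat.ofHom (algebraMap R (FractionRing R))) ≫ u ∧
          h₁ ≫ q = u ∧ Spec.map (CommRingCat.ofHom (algebraMap R (FractionRing R))) ≫ h₁ = ub ≫ h := by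
  constructor
  · rintro ⟨U', hUU', h', hxU', hh', hres⟩
    obtain ⟨W, _, -, hηU, hηx⟩ := exists_generic_mem U hU x
    obtain ⟨R, _, _, _, u, ub, hu, hub, -⟩ := exists_dvr U hU _ x hηx hηU hxU
    obtain ⟨h₁, e1, -, e2⟩ := of_extension q U h U' hUU' h' hh' hres R u (by rw [hu]; exact hxU') ub hub
    exact ⟨R, inferInstance, inferInstance, inferInstance, u, ub, h₁, hu, hub, e1, e2⟩
  · rintro ⟨R, _, _, _, u, ub, h₁, rfl, hub, h1q, h1U⟩
    obtain ⟨W, hW, hxW, hηU, -⟩ := exists_generic_mem U hU (u (closedPoint R))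
    haveI := hW
    let y := h₁ (closedPoint R)
    have hqy : q y = u (closedPoint R) := congr($(h1q) (closedPoint R))
    have hy : y ∈ closure (Set.range h) := by
      let t : Spec (CommRingCat.of (FractionRing R)) := closedPoint (FractionRing R)
      have h0 : h₁ (Spec.map (CommRingCat.ofHom (algebraMap R (FractionRing R))) t) = h (ub t) :=
        congr($(h1U) t)
      have h2 := ((specializes_closedPoint (Spec.map (CommRingCat.ofHom (algebraMap R (FractionRing R))) t)).map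
        h₁.continuous).mem_closure
      exact closure_mono (Set.singleton_subset_iff.mpr (show _ ∈ Set.range h from ⟨ub t, h0.symm⟩)) h2
    have hiso : ∃ O : Y.Opens, (O : Set Y) ∩ closure (Set.range h) ∩ q ⁻¹' {q y} = {y} := by
      have h3 := Scheme.Hom.quasiFiniteAt_iff_isOpen_singleton_asFiber.mp (q.quasiFiniteAt y)
      obtain ⟨O, hO, hOeq⟩ := (q.fiberι (q y)).isEmbedding.isInducing.isOpen_iff.mp h3
      refine ⟨⟨O, hO⟩, Set.ext fun w => ⟨?_, ?_⟩⟩
      · rintro ⟨⟨hwO, -⟩, hwq⟩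
        obtain ⟨a, rfl⟩ : w ∈ Set.range (q.fiberι (q y)) := by rw [Scheme.Hom.range_fiberι]; exact hwq
        have : a = q.asFiber y := hOeq.le hwO
        rw [this, Scheme.Hom.fiberι_asFiber]; rfl
      · rintro rfl
        refine ⟨⟨?_, hy⟩, rfl⟩
        have h4 : q.asFiber y ∈ (q.fiberι (q y)) ⁻¹' O := hOeq.symm.le rfl
        rwa [Set.mem_preimage, Scheme.Hom.fiberι_asFiber] at h4
    obtain ⟨V, v, hxV, hv, hag⟩ := ExtendNormal.exists_section_nhd q U hU h hh W y (by rw [hqy]; exact hxW)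
      (by rw [hqy]; exact hx) hy hiso
    obtain ⟨h', hh', hres, -⟩ := ExtendNormal.exists_extension q U h hh V v hv hag
    exact ⟨U ⊔ V, le_sup_left, h', Or.inr (hqy ▸ hxV), hh', hres⟩

end Groth.Agent.H05EGA4.NormalPointExt
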