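import Mathlib
import Groth.Agent.H05EGA4.NormalPointExt
import Groth.Agent.H05EGA4.TensorIntClosed

/-!
The valuative criterion for a section to extend to a normal point with prescribed value.
-/

set_option autoImplicit false
universe u
open AlgebraicGeometry CategoryTheory CategoryTheory.Limits TopologicalSpace IsLocalRing

namespace Groth.Agent.H05EGA4.NormalPointDvr

theorem exists_dvr_dominating_notMem {A K : Type u} [CommRing A] [IsDomain A] [IsNoetherianRing A] [IsLocalRing A]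
    [IsIntegrallyClosed A] [Field K] [Algebra A K] [IsFractionRing A K] {z : K}
    (hz : z ∉ Set.range (algebraMap A K)) :
    ∃ V : ValuationSubring K, IsDiscreteValuationRing V ∧ (∀ a, algebraMap A K a ∈ V) ∧
      (∀ a ∈ maximalIdeal A, V.valuation (algebraMap A K a) < 1) ∧ z ∉ V := by
  classical
  have hzi : ¬ IsIntegral A z := fun h => hz (IsIntegrallyClosed.isIntegral_iff.mp h)
  have hz0 : z ≠ 0 := fun h => hz ⟨0, by rw [map_zero, h]⟩
  let D := Algebra.adjoin A ({z⁻¹} : Set K)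
  haveI : Algebra.FiniteType A D := (Subalgebra.fg_iff_finiteType _).mp (by simpa using Subalgebra.fg_adjoin_finset (R := A) ({z⁻¹} : Finset K))
  haveI : IsNoetherianRing D := Algebra.FiniteType.isNoetherianRing A D
  let w : D := ⟨z⁻¹, Algebra.subset_adjoin rfl⟩
  have hw : ¬ IsUnit w := fun hu => by
    obtain ⟨w', hw'⟩ := hu.exists_right_inv
    have h1 : z⁻¹ * (w' : K) = 1 := congrArg Subtype.val hw'
    have h2 : (w' : K) = z := by
      rw [← mul_one z, ← h1, ← mul_assoc, mul_inv_cancel₀ hz0, one_mul]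
    refine hzi (H17.LocalRange.isIntegral_of_mem_adjoin_inv hz0 ?_)
    have h3 := w'.2
    rwa [h2] at h3
  obtain ⟨P, hP, hwP⟩ := exists_max_ideal_of_mem_nonunits hw
  haveI := hP.isPrime
  have hsurj : Function.Surjective ((Ideal.Quotient.mk P).comp (algebraMap A D)) := by
    intro d
    obtain ⟨⟨d, hd⟩, rfl⟩ := Ideal.Quotient.mk_surjective d
    induction hd using Algebra.adjoin_induction with
    | mem x hx =>
      rw [Set.mem_singleton_iff] at hx; subst hx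
      exact ⟨0, by rw [map_zero]; exact (Ideal.Quotient.eq_zero_iff_mem.mpr hwP).symm⟩
    | algebraMap r => exact ⟨r, rfl⟩
    | add x y hx hy h1 h2 =>
      obtain ⟨a, ha⟩ := h1; obtain ⟨b, hb⟩ := h2
      exact ⟨a + b, by rw [map_add, ha, hb, ← map_add]; rfl⟩
    | mul x y hx hy h1 h2 =>
      obtain ⟨a, ha⟩ := h1; obtain ⟨b, hb⟩ := h2
      exact ⟨a * b, by rw [map_mul, ha, hb, ← map_mul]; rfl⟩
  have hm : P.comap (algebraMap A D) = maximalIdeal A := by
    refine IsLocalRing.eq_maximalIdeal ?_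
    letI := Ideal.Quotient.field P
    have := RingHom.ker_isMaximal_of_surjective _ hsurj
    rwa [← RingHom.comap_ker, Ideal.mk_ker] at this
  have hPne : P ≠ ⊥ := fun h => by
    rw [h, Ideal.mem_bot] at hwP
    exact inv_ne_zero hz0 (congrArg Subtype.val hwP)
  have hS' : Subfield.closure (Set.range (algebraMap D K) ∪ ((∅ : Finset K) : Set K)) = ⊤ := by
    refine top_le_iff.mp fun t _ => ?_
    obtain ⟨a, b, _, rfl⟩ := IsFractionRing.div_surjective A t
    exact div_mem (Subfield.subset_closure (Or.inl ⟨algebraMap A D a, rfl⟩))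
      (Subfield.subset_closure (Or.inl ⟨algebraMap A D b, rfl⟩))
  obtain ⟨V, hV, hc⟩ := H11Val.exists_dvr_center K (fun a b h => Subtype.ext h) ∅ hS' P hPne
  refine ⟨V, hV, fun a => (hc (algebraMap A D a)).1, fun a ha => (hc (algebraMap A D a)).2.mp (hm.ge ha), fun hzV => ?_⟩
  have h1 : V.valuation z⁻¹ < 1 := (hc w).2.mp hwP
  have h2 : V.valuation z ≤ 1 := (V.valuation_le_one_iff z).mpr hzV
  have h3 : V.valuation z⁻¹ * V.valuation z = 1 := by rw [← map_mul, inv_mul_cancel₀ hz0, map_one]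
  exact absurd h3 (ne_of_lt (mul_lt_one_of_lt_of_le h1 h2))

theorem exists_mem_specializes_of_mem_closure {X : Scheme.{u}} [IsLocallyNoetherian X] (O : X.Opens) (C : Set X)
    (hC : IsClosed C) (x : X) (hx : x ∈ closure ((O : Set X) ∩ C)) :
    ∃ t ∈ (O : Set X) ∩ C, t ⤳ x := by
  classical
  obtain ⟨A, hA, hxA, -⟩ := exists_isAffineOpen_mem_and_subset (X := X) (x := x) (U := ⊤) trivial
  haveI : IsNoetherianRing Γ(X, A) := IsLocallyNoetherian.component_noetherian ⟨A, hA⟩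
  set S : Set (PrimeSpectrum Γ(X, A)) := hA.fromSpec ⁻¹' ((O : Set X) ∩ C)
  set I := PrimeSpectrum.vanishingIdeal S
  set q := hA.primeIdealOf ⟨x, hxA⟩
  have hfq : hA.fromSpec q = x := hA.fromSpec_primeIdealOf _
  have hIiff : ∀ P : PrimeSpectrum Γ(X, A), I ≤ P.asIdeal ↔ P ∈ closure S := fun P => by
    rw [← PrimeSpectrum.zeroLocus_vanishingIdeal_eq_closure]; rfl
  have hq : I ≤ q.asIdeal := by
    refine (hIiff q).mpr (hA.fromSpec.isOpenEmbedding.isOpenMap.preimage_closure_subset_closure_preimage ?_)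
    show hA.fromSpec q ∈ closure _
    rw [hfq]; exact hx
  obtain ⟨P, hP, hPq⟩ := Ideal.exists_minimalPrimes_le hq
  have hfin := Ideal.finite_minimalPrimes_of_isNoetherianRing Γ(X, A) I
  let P' : PrimeSpectrum Γ(X, A) := ⟨P, hP.1.1⟩
  let O₁ : Set (PrimeSpectrum Γ(X, A)) := (⋃ Q ∈ I.minimalPrimes \ {P}, PrimeSpectrum.zeroLocus (Q : Set Γ(X, A)))ᶜ
  have hO₁ : IsOpen O₁ :=
    (Set.Finite.isClosed_biUnion (hfin.subset Set.diff_subset) fun Q _ => PrimeSpectrum.isClosed_zeroLocus _).isOpen_compl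
  have hPO : P' ∈ O₁ := by
    simp only [O₁, Set.mem_compl_iff, Set.mem_iUnion, not_exists]
    rintro Q ⟨hQ, hne⟩ hle
    exact hne (le_antisymm hle (hP.2 hQ.1 hle))
  obtain ⟨t, htO₁, htS⟩ := mem_closure_iff.mp ((hIiff P').mp hP.1.2) O₁ hO₁ hPO
  obtain ⟨Q, hQ, hQt⟩ := Ideal.exists_minimalPrimes_le ((hIiff t).mpr (subset_closure htS))
  have hQP : Q = P := by
    by_contra hne
    exact htO₁ (Set.mem_biUnion (show Q ∈ I.minimalPrimes \ {P} from ⟨hQ, hne⟩) hQt)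
  subst hQP
  have hsp : P' ⤳ t := (PrimeSpectrum.le_iff_specializes P' t).mp hQt
  refine ⟨hA.fromSpec P', ⟨(hsp.map hA.fromSpec.continuous).mem_open O.2 htS.1, ?_⟩, ?_⟩
  · exact (closure_minimal (fun _ h => h.2) (hC.preimage hA.fromSpec.continuous) : closure S ⊆ _) ((hIiff P').mp hP.1.2)
  · exact hfq ▸ ((PrimeSpectrum.le_iff_specializes P' q).mp hPq).map hA.fromSpec.continuous

set_option maxHeartbeats 1600000 in
theorem criterion {X Y : Scheme.{u}} [IsLocallyNoetherian X] (q : Y ⟶ X)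
    [LocallyOfFiniteType q] (U : X.Opens) (hU : Dense (U : Set ↥X)) (h : (U : Scheme.{u}) ⟶ Y)
    (hh : h ≫ q = U.ι) (x : ↥X) (hxU : x ∉ U) [IsDomain ↑(X.presheaf.stalk x)]
    (hx : IsIntegrallyClosed ↑(X.presheaf.stalk x)) (y₀ : ↥Y) (hy₀ : q y₀ = x) :
    (∃ (U' : X.Opens) (hUU' : U ≤ U') (hxU' : x ∈ U') (h' : (U' : Scheme.{u}) ⟶ Y),
        h' ≫ q = U'.ι ∧ X.homOfLE hUU' ≫ h' = h ∧ h' ⟨x, hxU'⟩ = y₀) ↔
      ∀ (R : Type u) [CommRing R] [IsDomain R] [IsDiscreteValuationRing R]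
        (u : Spec (CommRingCat.of R) ⟶ X), u (IsLocalRing.closedPoint R) = x →
        ∀ ub : Spec (CommRingCat.of (FractionRing R)) ⟶ (U : Scheme.{u}),
          ub ≫ U.ι = Spec.map (CommRingCat.ofHom (algebraMap R (FractionRing R))) ≫ u →
          ∃ h₁ : Spec (CommRingCat.of R) ⟶ Y, h₁ ≫ q = u ∧ h₁ (IsLocalRing.closedPoint R) = y₀ ∧
            Spec.map (CommRingCat.ofHom (algebraMap R (FractionRing R))) ≫ h₁ = ub ≫ h := by
  constructor
  · rintro ⟨U', hUU', hxU', h', hh', hres, hval⟩ R _ _ _ u rfl ub hub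
    obtain ⟨h₁, e1, e2, e3⟩ := NormalPointExt.of_extension q U h U' hUU' h' hh' hres R u hxU' ub hub
    exact ⟨h₁, e1, e2.trans hval, e3⟩
  intro H
  classical
  subst hy₀
  haveI := hx
  obtain ⟨W, hW, hxW, hηU, hηx⟩ := NormalPointExt.exists_generic_mem U hU (q y₀)
  haveI := hW
  -- the generic point
  let K := FractionRing (X.presheaf.stalk (q y₀))
  let ι : X.presheaf.stalk (q y₀) ⟶ CommRingCat.of K := CommRingCat.ofHom (algebraMap (X.presheaf.stalk (q y₀)) K)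
  let κ : Spec (CommRingCat.of K) ⟶ X := Spec.map ι ≫ X.fromSpecStalk (q y₀)
  have hκsp : ∀ (t : Spec (CommRingCat.of K)) (z : X), z ⤳ q y₀ → κ t ⤳ z := fun t z hz => by
    obtain ⟨s, rfl⟩ : z ∈ Set.range (X.fromSpecStalk (q y₀)) := by rw [Scheme.range_fromSpecStalk]; exact hz
    refine Specializes.map ((PrimeSpectrum.le_iff_specializes (Spec.map ι t : PrimeSpectrum (X.presheaf.stalk (q y₀))) s).mp ?_)
      (X.fromSpecStalk (q y₀)).continuous
    intro a (ha : algebraMap _ K a ∈ (t : PrimeSpectrum K).asIdeal)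
    haveI : ((t : PrimeSpectrum K).asIdeal).IsPrime := (t : PrimeSpectrum K).isPrime
    rw [Ideal.eq_bot_of_prime (t : PrimeSpectrum K).asIdeal, Ideal.mem_bot] at ha
    rw [(IsFractionRing.injective (X.presheaf.stalk (q y₀)) K) (ha.trans (map_zero _).symm)]
    exact Ideal.zero_mem _
  have hκU : ∀ t, κ t ∈ U := fun t => (hκsp t _ hηx).mem_open U.2 hηU
  have hεr : Set.range κ ⊆ Set.range U.ι := by
    rintro _ ⟨t, rfl⟩; rw [Scheme.Opens.range_ι]; exact hκU t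
  obtain ⟨ε, hε⟩ : ∃ ε, ε ≫ U.ι = κ := ⟨IsOpenImmersion.lift U.ι κ hεr, IsOpenImmersion.lift_fac _ _ _⟩
  let g := ε ≫ h
  have hgq : g ≫ q = κ := by rw [Category.assoc, hh, hε]
  let k₀ : Spec (CommRingCat.of K) := closedPoint K
  -- what a dominating discrete valuation ring gives
  have hV : ∀ V : ValuationSubring K, IsDiscreteValuationRing V →
      (∀ a, algebraMap (X.presheaf.stalk (q y₀)) K a ∈ V) →
      (∀ a ∈ maximalIdeal (X.presheaf.stalk (q y₀)), V.valuation (algebraMap _ K a) < 1) →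
      ∃ ψ : Y.presheaf.stalk y₀ ⟶ CommRingCat.of V, IsLocalHom ψ.hom ∧
        Spec.map (ψ ≫ CommRingCat.ofHom V.subtype) ≫ Y.fromSpecStalk y₀ = g := by
    intro V _ hmem hdom
    let α : X.presheaf.stalk (q y₀) ⟶ CommRingCat.of V :=
      CommRingCat.ofHom ((algebraMap (X.presheaf.stalk (q y₀)) K).codRestrict V.toSubring hmem)
    haveI : IsLocalHom α.hom := ⟨fun a ha => by
      by_contra hna
      have h1 : IsUnit (⟨_, hmem a⟩ : V) := ha
      exact absurd ((V.valuation_eq_one_iff ⟨_, hmem a⟩).mp h1) (ne_of_lt (hdom a hna))⟩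
    let u : Spec (CommRingCat.of V) ⟶ X := Spec.map α ≫ X.fromSpecStalk (q y₀)
    have hu : u (closedPoint V) = q y₀ := by
      show X.fromSpecStalk (q y₀) (Spec.map α (closedPoint V)) = q y₀
      have h1 : Spec.map α (closedPoint V) = closedPoint (X.presheaf.stalk (q y₀)) := comap_closedPoint (S := V) α.hom
      rw [h1, Scheme.fromSpecStalk_closedPoint]
    have hVK : Spec.map (CommRingCat.ofHom V.subtype) ≫ u = κ := by
      rw [← Category.assoc, ← Spec.map_comp]; rfl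
    obtain ⟨e, he, hee⟩ := H11Val.map_fractionRing V K
    haveI := he
    have hee' : e ≫ Spec.map (CommRingCat.ofHom V.subtype) =
        Spec.map (CommRingCat.ofHom (algebraMap V (FractionRing V))) := hee
    obtain ⟨h₁, e1, e2, e3⟩ := H V u hu (e ≫ ε) (by
      rw [Category.assoc, hε, ← hVK, ← Category.assoc, hee'])
    rw [← hee', Category.assoc, Category.assoc, cancel_epi] at e3
    refine ⟨Y.presheaf.stalkSpecializes (Inseparable.of_eq e2).specializes ≫ Scheme.stalkClosedPointTo h₁, ?_, ?_⟩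
    · haveI : IsLocalHom (Scheme.stalkClosedPointTo h₁).hom := inferInstance
      haveI : IsIso (Y.presheaf.stalkSpecializes (Inseparable.of_eq e2).specializes) :=
        ⟨Y.presheaf.stalkSpecializes (Inseparable.of_eq e2.symm).specializes, by simp, by simp⟩
      haveI : IsLocalHom (Y.presheaf.stalkSpecializes (Inseparable.of_eq e2).specializes).hom := isLocalHom_of_isIso _
      rw [CommRingCat.hom_comp]
      infer_instance
    · rw [Spec.map_comp, Spec.map_comp, Category.assoc, Category.assoc,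
        Scheme.SpecMap_stalkSpecializes_fromSpecStalk, Scheme.Spec_stalkClosedPointTo_fromSpecStalk, e3]
  have hne : maximalIdeal (X.presheaf.stalk (q y₀)) ≠ ⊥ := fun hbot => by
    obtain ⟨s, hs⟩ : W.ι (genericPoint (W : Scheme.{u})) ∈ Set.range (X.fromSpecStalk (q y₀)) := by
      rw [Scheme.range_fromSpecStalk]; exact hηx
    have : (s : PrimeSpectrum (X.presheaf.stalk (q y₀))) = closedPoint _ := PrimeSpectrum.ext (le_antisymm
      (IsLocalRing.le_maximalIdeal (s : PrimeSpectrum (X.presheaf.stalk (q y₀))).2.ne_top) (hbot.le.trans bot_le))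
    rw [this, Scheme.fromSpecStalk_closedPoint] at hs
    exact hxU (hs ▸ hηU)
  obtain ⟨V₀, hV₀, hc₀⟩ := H11Val.exists_dvr_center (A := X.presheaf.stalk (q y₀)) K
    (IsFractionRing.injective _ _) ∅ (top_le_iff.mp fun t _ => by
      obtain ⟨a, b, _, rfl⟩ := IsFractionRing.div_surjective (X.presheaf.stalk (q y₀)) t
      exact div_mem (Subfield.subset_closure (Or.inl ⟨a, rfl⟩)) (Subfield.subset_closure (Or.inl ⟨b, rfl⟩)))
    (maximalIdeal _) hne
  obtain ⟨ψ, hψl, hψ⟩ := hV V₀ hV₀ (fun a => (hc₀ a).1) (fun a ha => (hc₀ a).2.mp ha)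
  haveI := hψl
  let φ : Y.presheaf.stalk y₀ ⟶ CommRingCat.of K := ψ ≫ CommRingCat.ofHom V₀.subtype
  have hrange : ∀ b, φ b ∈ Set.range (algebraMap (X.presheaf.stalk (q y₀)) K) := fun b => by
    by_contra hb
    obtain ⟨V, hV', hmem, hdom, hbV⟩ := exists_dvr_dominating_notMem hb
    obtain ⟨ψ', -, hψ'⟩ := hV V hV' hmem hdom
    have h1 : φ = ψ' ≫ CommRingCat.ofHom V.subtype :=
      Spec.map_injective ((cancel_mono (Y.fromSpecStalk y₀)).mp (hψ.trans hψ'.symm))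
    exact hbV (by rw [h1]; exact (ψ' b).2)
  choose f₀ hf₀ using hrange
  have hinj : Function.Injective (algebraMap (X.presheaf.stalk (q y₀)) K) := IsFractionRing.injective _ _
  let ψ₀ : Y.presheaf.stalk y₀ ⟶ X.presheaf.stalk (q y₀) := CommRingCat.ofHom
    { toFun := f₀
      map_one' := hinj ((hf₀ _).trans ((map_one φ.hom).trans (map_one _).symm))
      map_mul' := fun a b => hinj ((hf₀ _).trans ((map_mul φ.hom a b).trans (((map_mul _ _ _).trans (congrArg₂ (· * ·) (hf₀ a) (hf₀ b))).symm)))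
      map_zero' := hinj ((hf₀ _).trans ((map_zero φ.hom).trans (map_zero _).symm))
      map_add' := fun a b => hinj ((hf₀ _).trans ((map_add φ.hom a b).trans (((map_add _ _ _).trans (congrArg₂ (· + ·) (hf₀ a) (hf₀ b))).symm))) }
  have hψ₀ : ψ₀ ≫ ι = φ := CommRingCat.hom_ext (RingHom.ext hf₀)
  haveI : IsLocalHom ψ₀.hom := ⟨fun b hb => by
    have h1 : IsUnit (ψ b) := by
      obtain ⟨c, hc⟩ := hb.exists_right_inv
      refine IsUnit.of_mul_eq_one (⟨algebraMap _ K c, (hc₀ c).1⟩ : V₀) (Subtype.ext ?_)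
      show φ b * algebraMap _ K c = 1
      rw [← hf₀ b, ← map_mul]; exact (congrArg _ hc).trans (map_one _)
    exact (isUnit_map_iff ψ.hom b).mp h1⟩
  have hcompat : q.stalkMap y₀ ≫ ψ₀ = 𝟙 _ := by
    have h1 : (q.stalkMap y₀ ≫ ψ₀) ≫ ι = ι := by
      apply Spec.map_injective
      rw [← cancel_mono (X.fromSpecStalk (q y₀)), Category.assoc, hψ₀, Spec.map_comp, Category.assoc,
        Scheme.SpecMap_stalkMap_fromSpecStalk, ← Category.assoc, hψ, hgq]
    exact CommRingCat.hom_ext (RingHom.ext fun a => hinj (congr($(h1) a)))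
  obtain ⟨V₁, hxV₁, v, hv1, hv2⟩ := spread_out_of_isGermInjective (𝟙 X) q (x := q y₀) (y := y₀) rfl ψ₀ (by
    rw [hcompat]; simp)
  rw [Category.comp_id] at hv2
  have hvx : v ⟨q y₀, hxV₁⟩ = y₀ := by
    have h1 : Y.fromSpecStalk y₀ (Spec.map ψ₀ (closedPoint (X.presheaf.stalk (q y₀)))) =
        v (V₁.fromSpecStalkOfMem (q y₀) hxV₁ (closedPoint (X.presheaf.stalk (q y₀)))) :=
      congr($(hv1) (closedPoint (X.presheaf.stalk (q y₀))))
    have h2 : Spec.map ψ₀ (closedPoint (X.presheaf.stalk (q y₀))) = closedPoint (Y.presheaf.stalk y₀) :=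
      comap_closedPoint (S := X.presheaf.stalk (q y₀)) ψ₀.hom
    rw [h2, Scheme.fromSpecStalk_closedPoint] at h1
    refine Eq.trans ?_ h1.symm
    refine congrArg v (Subtype.ext ?_)
    have := congr($(V₁.fromSpecStalkOfMem_ι (q y₀) hxV₁) (closedPoint (X.presheaf.stalk (q y₀))))
    exact (this.trans Scheme.fromSpecStalk_closedPoint).symm
  -- shrink
  obtain ⟨Y₁, hY₁, hy₁, -⟩ := exists_isAffineOpen_mem_and_subset (X := Y) (x := y₀) (U := ⊤) trivial
  let V₂ : X.Opens := W ⊓ V₁.ι ''ᵁ (v ⁻¹ᵁ Y₁)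
  have hxV₂ : q y₀ ∈ V₂ := ⟨hxW, (⟨q y₀, hxV₁⟩ : (V₁ : Scheme.{u})), (show v ⟨q y₀, hxV₁⟩ ∈ Y₁ by rw [hvx]; exact hy₁), rfl⟩
  have hUimg : IsOpen (U.ι '' (h ⁻¹' (Y₁ : Set Y))) := U.ι.isOpenEmbedding.isOpenMap _ (Y₁.2.preimage h.continuous)
  let T : Set X := ((U ⊓ V₂ : X.Opens) : Set X) ∩ (U.ι '' (h ⁻¹' (Y₁ : Set Y)))ᶜ
  have hT : q y₀ ∉ closure T := fun hcl => by
    obtain ⟨z, ⟨⟨hzU, -⟩, hz⟩, hzx⟩ := exists_mem_specializes_of_mem_closure (U ⊓ V₂) _ hUimg.isClosed_compl _ hcl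
    obtain ⟨R, _, _, _, u, ub, hu, hub, hubz⟩ := NormalPointExt.exists_dvr U hU z (q y₀) hzx hzU hxU
    obtain ⟨h₁, -, e2, e3⟩ := H R u hu ub hub
    let t : Spec (CommRingCat.of (FractionRing R)) := closedPoint (FractionRing R)
    refine hz ⟨ub t, ?_, hubz t⟩
    show h (ub t) ∈ Y₁
    have h5 : h₁ (Spec.map (CommRingCat.ofHom (algebraMap R (FractionRing R))) t) = h (ub t) := congr($(e3) t)
    rw [← h5]
    exact ((specializes_closedPoint _).map h₁.continuous).mem_open Y₁.2 (e2.symm ▸ hy₁)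
  let V₃ : X.Opens := V₂ ⊓ ⟨(closure T)ᶜ, isClosed_closure.isOpen_compl⟩
  have hV₃₁ : V₃ ≤ V₁ := inf_le_left.trans (inf_le_right.trans (V₁.ι_image_le _))
  have hxV₃ : q y₀ ∈ V₃ := ⟨hxV₂, hT⟩
  let v' := X.homOfLE hV₃₁ ≫ v
  have hv' : v' ≫ q = V₃.ι := by rw [Category.assoc, hv2, Scheme.homOfLE_ι]
  have hagree : X.homOfLE (inf_le_right : U ⊓ V₃ ≤ V₃) ≫ v' = X.homOfLE (inf_le_left : U ⊓ V₃ ≤ U) ≫ h := by
    haveI : IsReduced ((U ⊓ V₃ : X.Opens) : Scheme.{u}) :=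
      isReduced_of_isOpenImmersion (X.homOfLE ((inf_le_right.trans inf_le_left).trans inf_le_left : U ⊓ V₃ ≤ W))
    have hla : Set.range (X.homOfLE (inf_le_right : U ⊓ V₃ ≤ V₃) ≫ v') ⊆ Set.range Y₁.ι := by
      rintro _ ⟨t, rfl⟩
      rw [Scheme.Opens.range_ι]
      obtain ⟨a, ha, hat⟩ := t.2.2.1.2
      have : X.homOfLE hV₃₁ (X.homOfLE (inf_le_right : U ⊓ V₃ ≤ V₃) t) = a := V₁.ι.isOpenEmbedding.injective
        (((congr($(X.homOfLE_ι hV₃₁) (X.homOfLE (inf_le_right : U ⊓ V₃ ≤ V₃) t))).trans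
          (congr($(X.homOfLE_ι (inf_le_right : U ⊓ V₃ ≤ V₃)) t))).trans hat.symm)
      show v (X.homOfLE hV₃₁ (X.homOfLE (inf_le_right : U ⊓ V₃ ≤ V₃) t)) ∈ Y₁
      rw [this]; exact ha
    have hlb : Set.range (X.homOfLE (inf_le_left : U ⊓ V₃ ≤ U) ≫ h) ⊆ Set.range Y₁.ι := by
      rintro _ ⟨t, rfl⟩
      rw [Scheme.Opens.range_ι]
      show h (X.homOfLE (inf_le_left : U ⊓ V₃ ≤ U) t) ∈ Y₁
      by_contra hn
      refine t.2.2.2 (subset_closure (show t.1 ∈ T from ⟨⟨t.2.1, t.2.2.1⟩, ?_⟩))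
      rintro ⟨s, hs, hst⟩
      have : s = X.homOfLE (inf_le_left : U ⊓ V₃ ≤ U) t := U.ι.isOpenEmbedding.injective (by
        rw [hst, ← Scheme.Hom.comp_apply, Scheme.homOfLE_ι]; rfl)
      exact hn (this ▸ hs)
    rw [← IsOpenImmersion.lift_fac Y₁.ι _ hla, ← IsOpenImmersion.lift_fac Y₁.ι _ hlb]
    congr 1
    haveI : IsAffine (Y₁ : Scheme.{u}) := hY₁
    have hp : ∀ z ∈ W, κ k₀ ⤳ z := fun z hz =>
      (hκsp k₀ _ hηx).trans ((genericPoint_specializes (α := ↥(W : Scheme.{u})) ⟨z, hz⟩).map W.ι.continuous)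
    have hr : Set.range κ ⊆ Set.range (U ⊓ V₃).ι := by
      rintro _ ⟨t, rfl⟩; rw [Scheme.Opens.range_ι]
      exact ⟨hκU t, (hκsp t _ specializes_rfl).mem_open V₃.2 hxV₃⟩
    obtain ⟨T', hT'⟩ : ∃ T', T' ≫ (U ⊓ V₃).ι = κ := ⟨IsOpenImmersion.lift _ κ hr, IsOpenImmersion.lift_fac _ _ _⟩
    haveI : IsDominant T' := by
      refine ⟨fun z => mem_closure_iff.mpr fun O hO hzO => ?_⟩
      refine ⟨T' k₀, ?_, k₀, rfl⟩
      have : T' k₀ ⤳ z := (subtype_specializes_iff _ _).mpr (by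
        show ((U ⊓ V₃).ι (T' k₀) : X) ⤳ z.1
        rw [← Scheme.Hom.comp_apply, hT']
        exact hp _ z.2.2.1.1)
      exact this.mem_open hO hzO
    apply ext_of_isDominant T'
    rw [← cancel_mono Y₁.ι, Category.assoc, Category.assoc, IsOpenImmersion.lift_fac, IsOpenImmersion.lift_fac]
    have e1 : T' ≫ X.homOfLE inf_le_left = ε := by
      rw [← cancel_mono U.ι, hε, Category.assoc, Scheme.homOfLE_ι, hT']
    have e2 : T' ≫ X.homOfLE inf_le_right ≫ X.homOfLE hV₃₁ = Spec.map ι ≫ V₁.fromSpecStalkOfMem (q y₀) hxV₁ := by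
      rw [← cancel_mono V₁.ι, Category.assoc, Category.assoc, Scheme.homOfLE_ι, Scheme.homOfLE_ι, hT',
        Category.assoc, Scheme.Opens.fromSpecStalkOfMem_ι]
    show T' ≫ X.homOfLE inf_le_right ≫ X.homOfLE hV₃₁ ≫ v = _
    rw [reassoc_of% e2, ← hv1, ← Spec.map_comp_assoc, hψ₀, hψ, reassoc_of% e1]
  obtain ⟨h', hh', hres, hres'⟩ := ExtendNormal.exists_extension q U h hh V₃ v' hv' hagree
  refine ⟨U ⊔ V₃, le_sup_left, Or.inr hxV₃, h', hh', hres, ?_⟩
  have h6 : h' (X.homOfLE (le_sup_right : V₃ ≤ U ⊔ V₃) ⟨q y₀, hxV₃⟩) = v (X.homOfLE hV₃₁ ⟨q y₀, hxV₃⟩) :=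
    congr($(hres') (⟨q y₀, hxV₃⟩ : (V₃ : Scheme.{u})))
  have a1 : X.homOfLE (le_sup_right : V₃ ≤ U ⊔ V₃) ⟨q y₀, hxV₃⟩ = ⟨q y₀, Or.inr hxV₃⟩ := Subtype.ext (congr($(X.homOfLE_ι (le_sup_right : V₃ ≤ U ⊔ V₃)) (⟨q y₀, hxV₃⟩ : (V₃ : Scheme.{u}))))
  have a2 : X.homOfLE hV₃₁ ⟨q y₀, hxV₃⟩ = ⟨q y₀, hxV₁⟩ := Subtype.ext (congr($(X.homOfLE_ι hV₃₁) (⟨q y₀, hxV₃⟩ : (V₃ : Scheme.{u}))))
  rw [a1, a2, hvx] at h6
  exact h6

end Groth.Agent.H05EGA4.NormalPointDvr
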