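import Mathlib
import Groth.Agent.H05EGA4.NormalPointDvr

/-!
Extension with prescribed reduction, tested on discrete valuation rings.
-/

set_option autoImplicit false
universe u
open AlgebraicGeometry CategoryTheory CategoryTheory.Limits TopologicalSpace IsLocalRing

namespace Groth.Agent.H05EGA4.NormalReduction

theorem dense_preimage_of_flat {X S : Scheme.{u}} [IsLocallyNoetherian S] (f : X ⟶ S) [Flat f] (U : S.Opens)
    (hU : Dense (U : Set S)) : Dense ((f ⁻¹ᵁ U : X.Opens) : Set X) := by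
  refine dense_iff_closure_eq.mpr (Set.eq_univ_of_forall fun x => ?_)
  obtain ⟨ξ, hξ⟩ := QuasiSober.sober (isIrreducible_irreducibleComponent (x := x)) isClosed_irreducibleComponent
  suffices h : ξ ∈ f ⁻¹ᵁ U from
    (hξ.specializes mem_irreducibleComponent).mem_closed isClosed_closure (subset_closure h)
  refine H8Props.genericPoints_subset_of_dense U.2 hU (H8Props.mem_genericPoints_iff.mpr fun s hs => ?_)
  obtain ⟨ξ', h1, rfl⟩ := Flat.generalizingMap f hs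
  have hg : ξ ∈ genericPoints X := by
    show closure {ξ} ∈ irreducibleComponents X
    rw [hξ.def]
    exact irreducibleComponent_mem_irreducibleComponents x
  exact congrArg f (H8Props.mem_genericPoints_iff.mp hg ξ' h1)

theorem residue_lift {Z X : Scheme.{u}} (iZ : Z ⟶ X) [IsClosedImmersion iZ] {K : Type u} [Field K]
    (m : Spec (CommRingCat.of K) ⟶ X) (hm : m (closedPoint K) ∈ Set.range iZ) :
    ∃ r : Spec (CommRingCat.of K) ⟶ Z, r ≫ iZ = m := by
  haveI : IsReduced (Spec (CommRingCat.of K)) := inferInstance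
  haveI : Subsingleton ↥(Spec (CommRingCat.of K)) := inferInstanceAs (Subsingleton (PrimeSpectrum K))
  haveI : Surjective (pullback.snd iZ m) := ⟨fun t => by
    have : t ∈ Set.range (pullback.snd iZ m) := by
      rw [Scheme.Pullback.range_snd]
      show m t ∈ Set.range iZ
      rwa [Subsingleton.elim t (closedPoint K : ↥(Spec (CommRingCat.of K)))]
    exact this⟩
  haveI := isIso_of_isClosedImmersion_of_surjective (pullback.snd iZ m)
  exact ⟨inv (pullback.snd iZ m) ≫ pullback.fst iZ m, by rw [Category.assoc, pullback.condition, IsIso.inv_hom_id_assoc]⟩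

theorem test {X Y S : Scheme.{u}} (f : X ⟶ S) (g : Y ⟶ S) (U : S.Opens) (h : ↑(f ⁻¹ᵁ U) ⟶ Y)
    (Z : Scheme.{u}) (iZ : Z ⟶ X) [IsClosedImmersion iZ]
    (hZ : Set.range ⇑iZ = ((f ⁻¹ᵁ U : X.Opens) : Set ↥X)ᶜ) (h₀ : Z ⟶ Y) (hh₀ : h₀ ≫ g = iZ ≫ f)
    (H : ∀ (R : Type u) [CommRing R] [IsDomain R] [IsDiscreteValuationRing R]
        (u : Spec (CommRingCat.of R) ⟶ S),
        u (IsLocalRing.closedPoint R) ∉ U → u (genericPoint ↥(Spec (CommRingCat.of R))) ∈ U →
        ∃ h₁ : pullback f u ⟶ pullback g u,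
          h₁ ≫ pullback.snd g u = pullback.snd f u ∧
          ((pullback.fst f u) ⁻¹ᵁ (f ⁻¹ᵁ U)).ι ≫ h₁ ≫ pullback.fst g u = (pullback.fst f u ∣_ (f ⁻¹ᵁ U)) ≫ h ∧
          ∀ z₁ : ↥(pullback (iZ ≫ f) u),
            (pullback (iZ ≫ f) u).fromSpecResidueField z₁ ≫
                pullback.lift (pullback.fst (iZ ≫ f) u ≫ iZ) (pullback.snd (iZ ≫ f) u)
                  ((Category.assoc _ _ _).trans pullback.condition) ≫ h₁ ≫ pullback.fst g u =
              (pullback (iZ ≫ f) u).fromSpecResidueField z₁ ≫ pullback.fst (iZ ≫ f) u ≫ h₀)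
    (R : Type u) [CommRing R] [IsDomain R] [IsDiscreteValuationRing R] (u : Spec (CommRingCat.of R) ⟶ X)
    (z : Z) (hu : u (closedPoint R) = iZ z)
    (ub : Spec (CommRingCat.of (FractionRing R)) ⟶ ((f ⁻¹ᵁ U : X.Opens) : Scheme.{u}))
    (hub : ub ≫ (f ⁻¹ᵁ U).ι = Spec.map (CommRingCat.ofHom (algebraMap R (FractionRing R))) ≫ u) :
    ∃ k : Spec (CommRingCat.of R) ⟶ pullback f g, k ≫ pullback.fst f g = u ∧
      k (closedPoint R) = pullback.lift iZ h₀ hh₀.symm z ∧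
      Spec.map (CommRingCat.ofHom (algebraMap R (FractionRing R))) ≫ k ≫ pullback.snd f g = ub ≫ h := by
  let ι := Spec.map (CommRingCat.ofHom (algebraMap R (FractionRing R)))
  have hc : (u ≫ f) (closedPoint R) ∉ U := fun hmem => by
    have h1 : iZ z ∈ Set.range iZ := ⟨z, rfl⟩
    rw [hZ] at h1
    exact h1 (show f (iZ z) ∈ U from hu ▸ hmem)
  have hgen : (u ≫ f) (genericPoint ↥(Spec (CommRingCat.of R))) ∈ U := by
    let t : Spec (CommRingCat.of (FractionRing R)) := closedPoint (FractionRing R)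
    have h1 : u (ι t) = (f ⁻¹ᵁ U).ι (ub t) := (congr($(hub) t)).symm
    have h2 : f (u (ι t)) ∈ U := by rw [h1]; exact (ub t).2
    exact ((genericPoint_specializes (ι t)).map (u ≫ f).continuous).mem_open U.2 h2
  obtain ⟨h₁, e1, e2, e3⟩ := H R (u ≫ f) hc hgen
  let l : Spec (CommRingCat.of R) ⟶ pullback f (u ≫ f) := pullback.lift u (𝟙 _) (by rw [Category.id_comp])
  let res := Spec.map (CommRingCat.ofHom (IsLocalRing.residue R))
  have hres : ∀ t, res t = closedPoint R := fun t => by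
    apply PrimeSpectrum.ext
    show Ideal.comap (IsLocalRing.residue R) (t : PrimeSpectrum (ResidueField R)).asIdeal = maximalIdeal R
    haveI : (t : PrimeSpectrum (ResidueField R)).asIdeal.IsPrime := (t : PrimeSpectrum (ResidueField R)).isPrime
    rw [Ideal.eq_bot_of_prime (t : PrimeSpectrum (ResidueField R)).asIdeal, ← RingHom.ker_eq_comap_bot,
      IsLocalRing.ker_residue]
  let t₀ : Spec (CommRingCat.of (ResidueField R)) := closedPoint (ResidueField R)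
  obtain ⟨r, hr⟩ := residue_lift iZ (res ≫ u) ⟨z, by
    show iZ z = u (res t₀)
    rw [hres, hu]⟩
  have hrz : r t₀ = z := iZ.isEmbedding.injective (by
    refine (congr($(hr) t₀)).trans ?_
    show u (res t₀) = iZ z
    rw [hres, hu])
  let l₁ : Spec (CommRingCat.of (ResidueField R)) ⟶ pullback (iZ ≫ f) (u ≫ f) :=
    pullback.lift r res (by rw [← Category.assoc, hr, Category.assoc])
  let k₀ := l ≫ h₁ ≫ pullback.fst g (u ≫ f)
  have hk₀ : k₀ ≫ g = u ≫ f := by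
    simp only [k₀, l, Category.assoc, pullback.condition, reassoc_of% e1, pullback.lift_snd_assoc,
      Category.id_comp]
  refine ⟨pullback.lift u k₀ hk₀.symm, pullback.lift_fst _ _ _, ?_, ?_⟩
  · have key : res ≫ k₀ = r ≫ h₀ := by
      have hfac := Scheme.descResidueField_stalkClosedPointTo_fromSpecResidueField (ResidueField R) _ l₁
      have h4 := congrArg (fun w => Spec.map (Scheme.descResidueField (Scheme.stalkClosedPointTo l₁)) ≫ w)
        (e3 (l₁ (closedPoint (ResidueField R))))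
      dsimp only at h4
      rw [reassoc_of% hfac, reassoc_of% hfac, pullback.lift_fst_assoc] at h4
      rw [← h4]
      simp only [k₀, ← Category.assoc]
      congr 2
      apply pullback.hom_ext
      · simp only [l, l₁, Category.assoc, pullback.lift_fst, pullback.lift_fst_assoc, hr]
      · simp only [l, l₁, Category.assoc, pullback.lift_snd, pullback.lift_snd_assoc, Category.comp_id]
    have key2 : res ≫ pullback.lift u k₀ hk₀.symm = r ≫ pullback.lift iZ h₀ hh₀.symm := by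
      apply pullback.hom_ext
      · simp only [Category.assoc, pullback.lift_fst, hr]
      · simp only [Category.assoc, pullback.lift_snd, key]
    have h5 : pullback.lift u k₀ hk₀.symm (res t₀) = pullback.lift iZ h₀ hh₀.symm (r t₀) := congr($(key2) t₀)
    rw [hrz, hres] at h5
    exact h5
  · rw [pullback.lift_snd]
    have hsub : Set.range (ι ≫ l) ⊆ Set.range ((pullback.fst f (u ≫ f)) ⁻¹ᵁ (f ⁻¹ᵁ U)).ι := by
      rintro _ ⟨t, rfl⟩
      rw [Scheme.Opens.range_ι]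
      show pullback.fst f (u ≫ f) ((ι ≫ l) t) ∈ f ⁻¹ᵁ U
      rw [← Scheme.Hom.comp_apply, Category.assoc, pullback.lift_fst, ← hub, Scheme.Hom.comp_apply]
      exact (ub t).2
    obtain ⟨b, hb⟩ : ∃ b, b ≫ ((pullback.fst f (u ≫ f)) ⁻¹ᵁ (f ⁻¹ᵁ U)).ι = ι ≫ l :=
      ⟨IsOpenImmersion.lift _ _ hsub, IsOpenImmersion.lift_fac _ _ _⟩
    have hb2 : b ≫ (pullback.fst f (u ≫ f) ∣_ (f ⁻¹ᵁ U)) = ub := by
      rw [← cancel_mono (f ⁻¹ᵁ U).ι, Category.assoc, morphismRestrict_ι, reassoc_of% hb, pullback.lift_fst, hub]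
    show ι ≫ l ≫ h₁ ≫ pullback.fst g (u ≫ f) = ub ≫ h
    rw [← reassoc_of% hb, e2, reassoc_of% hb2]

theorem exists_local {X P : Scheme.{u}} [IsLocallyNoetherian X] (q : P ⟶ X) [LocallyOfFiniteType q]
    (U : X.Opens) (hU : Dense (U : Set X)) (sec : (U : Scheme.{u}) ⟶ P) (hsec : sec ≫ q = U.ι)
    (Z : Scheme.{u}) (iZ : Z ⟶ X) [IsClosedImmersion iZ] (hZ : Set.range ⇑iZ = (U : Set X)ᶜ) (H₀ : Z ⟶ P) (hH₀ : H₀ ≫ q = iZ)
    (hnorm : ∀ z : ↥Z, IsDomain ↑(X.presheaf.stalk (iZ z)) ∧ IsIntegrallyClosed ↑(X.presheaf.stalk (iZ z)))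
    (hT : ∀ (R : Type u) [CommRing R] [IsDomain R] [IsDiscreteValuationRing R] (u : Spec (CommRingCat.of R) ⟶ X)
      (z : Z), u (closedPoint R) = iZ z → ∀ ub : Spec (CommRingCat.of (FractionRing R)) ⟶ (U : Scheme.{u}),
      ub ≫ U.ι = Spec.map (CommRingCat.ofHom (algebraMap R (FractionRing R))) ≫ u →
      ∃ k : Spec (CommRingCat.of R) ⟶ P, k ≫ q = u ∧ k (closedPoint R) = H₀ z ∧
        Spec.map (CommRingCat.ofHom (algebraMap R (FractionRing R))) ≫ k = ub ≫ sec) (z : Z) :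
    ∃ (V : X.Opens) (v : (V : Scheme.{u}) ⟶ P), iZ z ∈ V ∧ v ≫ q = V.ι ∧
      X.homOfLE (inf_le_right : U ⊓ V ≤ V) ≫ v = X.homOfLE (inf_le_left : U ⊓ V ≤ U) ≫ sec ∧
      ∀ (z' : Z) (hz' : iZ z' ∈ V), v ⟨iZ z', hz'⟩ = H₀ z' := by
  have hxU : ∀ z', iZ z' ∉ U := fun z' hm => by
    have h1 : iZ z' ∈ Set.range iZ := ⟨z', rfl⟩
    rw [hZ] at h1
    exact h1 hm
  haveI := (hnorm z).1
  have hq : q (H₀ z) = iZ z := congr($(hH₀) z)
  obtain ⟨U', hUU', hxU', h', hh', hres, hval⟩ :=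
    (NormalPointDvr.criterion q U hU sec hsec (iZ z) (hxU z) (hnorm z).2 (H₀ z) hq).mpr
      fun R _ _ _ u hu ub hub => hT R u z hu ub hub
  obtain ⟨O, hO, hzO, -⟩ := exists_isAffineOpen_mem_and_subset (X := P) (x := H₀ z) (U := ⊤) trivial
  let A : X.Opens := U'.ι ''ᵁ (h' ⁻¹ᵁ O)
  let B : X.Opens := ⟨(iZ '' (H₀ ⁻¹' (O : Set P))ᶜ)ᶜ,
    (iZ.isClosedEmbedding.isClosedMap _ (O.2.preimage H₀.continuous).isClosed_compl).isOpen_compl⟩
  have hAU : A ⊓ B ≤ U' := inf_le_left.trans (U'.ι_image_le _)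
  have hval' : h' ⟨iZ z, hxU'⟩ = H₀ z := hval
  refine ⟨A ⊓ B, X.homOfLE hAU ≫ h', ⟨⟨(⟨iZ z, hxU'⟩ : (U' : Scheme.{u})), (show h' ⟨iZ z, hxU'⟩ ∈ O from hval' ▸ hzO), rfl⟩, ?_⟩, ?_, ?_, ?_⟩
  · rintro ⟨z₁, hz₁, h1⟩
    rw [iZ.isEmbedding.injective h1] at hz₁
    exact hz₁ hzO
  · rw [Category.assoc, hh', Scheme.homOfLE_ι]
  · have h2 : X.homOfLE (inf_le_left : U ⊓ (A ⊓ B) ≤ U) ≫ sec = X.homOfLE (inf_le_left.trans hUU' : U ⊓ (A ⊓ B) ≤ U') ≫ h' := by
      rw [← hres, Scheme.homOfLE_homOfLE_assoc]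
    rw [h2, Scheme.homOfLE_homOfLE_assoc]
  intro z' hz'
  haveI := (hnorm z').1
  have hzU' : iZ z' ∈ U' := hAU hz'
  have hz'O : h' ⟨iZ z', hzU'⟩ ∈ O := by
    obtain ⟨a, ha, hat⟩ := hz'.1
    have : a = (⟨iZ z', hzU'⟩ : (U' : Scheme.{u})) := Subtype.ext hat
    exact this ▸ ha
  have hH₀O : H₀ z' ∈ O := by
    by_contra hn
    exact hz'.2 ⟨z', hn, rfl⟩
  obtain ⟨W, _, -, hηU, hηx⟩ := NormalPointExt.exists_generic_mem U hU (iZ z')
  obtain ⟨R, _, _, _, u, ub, hu, hub, -⟩ := NormalPointExt.exists_dvr U hU _ (iZ z') hηx hηU (hxU z')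
  obtain ⟨k, hkq, hkc, hkg⟩ := hT R u z' hu ub hub
  obtain ⟨k₁, -, hk₁c, hk₁g⟩ := NormalPointExt.of_extension q U sec U' hUU' h' hh' hres R u (by rw [hu]; exact hzU') ub hub
  have hk₁c' : k₁ (closedPoint R) = h' ⟨iZ z', hzU'⟩ := hk₁c.trans (congrArg h' (Subtype.ext hu))
  haveI : IsAffine (O : Scheme.{u}) := hO
  have hl : Set.range k ⊆ Set.range O.ι := by
    rw [Scheme.Opens.range_ι]; exact NormalPointExt.range_le_of_closedPoint_mem k O (hkc ▸ hH₀O)
  have hl₁ : Set.range k₁ ⊆ Set.range O.ι := by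
    rw [Scheme.Opens.range_ι]; exact NormalPointExt.range_le_of_closedPoint_mem k₁ O (hk₁c' ▸ hz'O)
  haveI : IsDominant (Spec.map (CommRingCat.ofHom (algebraMap R (FractionRing R)))) :=
    ⟨PrimeSpectrum.denseRange_comap_iff_ker_le_nilRadical (algebraMap R (FractionRing R)) |>.mpr (by
      rw [(RingHom.injective_iff_ker_eq_bot _).mp (IsFractionRing.injective R (FractionRing R))]; exact bot_le)⟩
  have heq : IsOpenImmersion.lift O.ι k₁ hl₁ = IsOpenImmersion.lift O.ι k hl := by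
    refine ext_of_isDominant (Spec.map (CommRingCat.ofHom (algebraMap R (FractionRing R)))) ?_
    rw [← cancel_mono O.ι, Category.assoc, Category.assoc, IsOpenImmersion.lift_fac, IsOpenImmersion.lift_fac,
      hk₁g, hkg]
  have hkk : k₁ = k := by
    rw [← IsOpenImmersion.lift_fac O.ι k₁ hl₁, ← IsOpenImmersion.lift_fac O.ι k hl, heq]
  refine Eq.trans ?_ (hkc)
  rw [← hkk, hk₁c']
  refine congrArg h' (Subtype.ext ?_)
  exact congr($(X.homOfLE_ι hAU) (⟨iZ z', hz'⟩ : ((A ⊓ B : X.Opens) : Scheme.{u})))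

theorem local_ext {X P : Scheme.{u}} (D : X.Opens) (a b : (D : Scheme.{u}) ⟶ P)
    (h : ∀ x ∈ D, ∃ (N : X.Opens) (hN : N ≤ D), x ∈ N ∧ X.homOfLE hN ≫ a = X.homOfLE hN ≫ b) : a = b := by
  choose N hN hxN heq using h
  let W : D → X.Opens := fun x => N x.1 x.2
  have hle : (⨆ i, W i) ≤ D := iSup_le fun x => hN x.1 x.2
  have hge : D ≤ ⨆ i, W i := fun x hx => Opens.mem_iSup.mpr ⟨⟨x, hx⟩, hxN x hx⟩
  have key : X.homOfLE hle ≫ a = X.homOfLE hle ≫ b :=
    Scheme.Cover.hom_ext (Scheme.Opens.iSupOpenCover W) _ _ fun i =>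
      (Scheme.homOfLE_homOfLE_assoc X (le_iSup W i) hle a).trans
        ((heq i.1 i.2).trans (Scheme.homOfLE_homOfLE_assoc X (le_iSup W i) hle b).symm)
  simpa using congrArg (X.homOfLE hge ≫ ·) key

theorem point_sections_eq {Z X P : Scheme.{u}} (q : P ⟶ X) (iZ : Z ⟶ X) [IsClosedImmersion iZ]
    (a b : Z ⟶ P) (ha : a ≫ q = iZ) (hb : b ≫ q = iZ) (h : ∀ z, a z = b z) [IsReduced Z] : a = b := by
  refine Scheme.Cover.hom_ext (Z.openCoverOfIsOpenCover (fun O : P.affineOpens => a ⁻¹ᵁ O.1 ⊓ b ⁻¹ᵁ O.1) ?_) _ _ fun O => ?_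
  · refine eq_top_iff.mpr fun z _ => ?_
    obtain ⟨O, hO, hzO, -⟩ := exists_isAffineOpen_mem_and_subset (X := P) (x := a z) (U := ⊤) trivial
    exact Opens.mem_iSup.mpr ⟨⟨O, hO⟩, hzO, show b z ∈ O from h z ▸ hzO⟩
  set N := a ⁻¹ᵁ O.1 ⊓ b ⁻¹ᵁ O.1
  show N.ι ≫ a = N.ι ≫ b
  have hla : Set.range (N.ι ≫ a) ⊆ Set.range O.1.ι := by
    rintro _ ⟨t, rfl⟩; rw [Scheme.Opens.range_ι]; exact t.2.1
  have hlb : Set.range (N.ι ≫ b) ⊆ Set.range O.1.ι := by
    rintro _ ⟨t, rfl⟩; rw [Scheme.Opens.range_ι]; exact t.2.2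
  haveI : IsAffine (O.1 : Scheme.{u}) := O.2
  haveI : IsReduced (N : Scheme.{u}) := isReduced_of_isOpenImmersion N.ι
  rw [← IsOpenImmersion.lift_fac O.1.ι _ hla, ← IsOpenImmersion.lift_fac O.1.ι _ hlb]
  congr 1
  refine ext_of_fromSpecResidueField_eq _ _ (terminal.from _) Set.univ dense_univ (fun n _ => ?_) (terminal.hom_ext _ _)
  rw [← cancel_mono O.1.ι, Category.assoc, Category.assoc, IsOpenImmersion.lift_fac, IsOpenImmersion.lift_fac]
  obtain ⟨m, hm⟩ : ∃ m, m = (N : Scheme.{u}).fromSpecResidueField n ≫ N.ι := ⟨_, rfl⟩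
  rw [← Category.assoc, ← Category.assoc, ← hm]
  let K := (N : Scheme.{u}).residueField n
  have h1 : (m ≫ a) (closedPoint K) = (m ≫ b) (closedPoint K) := h (m (closedPoint K))
  -- the residue field of the base maps onto that of the common image point
  have hbij : ∀ (c : Z ⟶ P), c ≫ q = iZ → ∀ z, Function.Surjective (q.residueFieldMap (c z)) := fun c hc z y => by
    obtain ⟨w, hw⟩ : ∃ w, (c ≫ q).residueFieldMap z w = c.residueFieldMap z y := by
      have hsurj : Function.Surjective ((c ≫ q).residueFieldMap z) := by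
        have : ∀ g, g = iZ → Function.Surjective (Scheme.Hom.residueFieldMap g z) := by
          rintro g rfl
          intro e
          obtain ⟨e', rfl⟩ := Z.residue_surjective z e
          obtain ⟨e'', rfl⟩ := g.stalkMap_surjective z e'
          exact ⟨X.residue _ e'', congr($(Scheme.residue_residueFieldMap g z) e'')⟩
        exact this _ hc
      exact hsurj _
    refine ⟨w, (c.residueFieldMap z).hom.injective ?_⟩
    rw [← hw, Scheme.residueFieldMap_comp]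
    rfl
  haveI : Mono (Spec.map (q.residueFieldMap ((m ≫ a) (closedPoint K)))) := by
    haveI : IsClosedImmersion (Spec.map (q.residueFieldMap ((m ≫ a) (closedPoint K)))) :=
      IsClosedImmersion.spec_of_surjective _ (hbij a ha (m (closedPoint K)))
    infer_instance
  have key : ∀ (p : P) (_ : Mono (Spec.map (q.residueFieldMap p))) (φ ψ : P.residueField p ⟶ CommRingCat.of K),
      Spec.map φ ≫ P.fromSpecResidueField p ≫ q = Spec.map ψ ≫ P.fromSpecResidueField p ≫ q → φ = ψ := by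
    intro p _ φ ψ he
    rw [← q.SpecMap_residueFieldMap_fromSpecResidueField, ← Category.assoc, ← Category.assoc] at he
    exact Spec.map_injective ((cancel_mono _).mp ((cancel_mono _).mp he))
  rw [← Scheme.descResidueField_stalkClosedPointTo_fromSpecResidueField K _ (m ≫ a),
    ← Scheme.descResidueField_stalkClosedPointTo_fromSpecResidueField K _ (m ≫ b)]
  have gen : ∀ (p p' : P) (φ : P.residueField p ⟶ CommRingCat.of K) (ψ : P.residueField p' ⟶ CommRingCat.of K),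
      p = p' → Mono (Spec.map (q.residueFieldMap p)) →
      Spec.map φ ≫ P.fromSpecResidueField p ≫ q = Spec.map ψ ≫ P.fromSpecResidueField p' ≫ q →
      Spec.map φ ≫ P.fromSpecResidueField p = Spec.map ψ ≫ P.fromSpecResidueField p' := by
    rintro p _ φ ψ rfl hmono he
    rw [key p hmono φ ψ he]
  refine gen _ _ _ _ h1 inferInstance ?_
  rw [← Category.assoc, Scheme.descResidueField_stalkClosedPointTo_fromSpecResidueField, ← Category.assoc,
    Scheme.descResidueField_stalkClosedPointTo_fromSpecResidueField, Category.assoc, Category.assoc, ha, hb]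

theorem exists_extension_iff {X Y S : Scheme.{u}} [IsLocallyNoetherian S]
    [IsLocallyNoetherian X] (f : X ⟶ S) [Flat f] (g : Y ⟶ S) [LocallyOfFiniteType g]
    (U : S.Opens) (hU : Dense (U : Set ↥S)) (h : ↑(f ⁻¹ᵁ U) ⟶ Y) (hh : h ≫ g = (f ⁻¹ᵁ U).ι ≫ f)
    (Z : Scheme.{u}) (iZ : Z ⟶ X) [IsClosedImmersion iZ] [IsReduced Z]
    (hZ : Set.range ⇑iZ = ((f ⁻¹ᵁ U : X.Opens) : Set ↥X)ᶜ) (h₀ : Z ⟶ Y) (hh₀ : h₀ ≫ g = iZ ≫ f)
    (hnorm : ∀ z : ↥Z, IsDomain ↑(X.presheaf.stalk (iZ z)) ∧ IsIntegrallyClosed ↑(X.presheaf.stalk (iZ z))) :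
    (∃ h' : X ⟶ Y, h' ≫ g = f ∧ (f ⁻¹ᵁ U).ι ≫ h' = h ∧ iZ ≫ h' = h₀) ↔
      ∀ (R : Type u) [CommRing R] [IsDomain R] [IsDiscreteValuationRing R]
        (u : Spec (CommRingCat.of R) ⟶ S),
        u (IsLocalRing.closedPoint R) ∉ U → u (genericPoint ↥(Spec (CommRingCat.of R))) ∈ U →
        ∃ h₁ : pullback f u ⟶ pullback g u,
          h₁ ≫ pullback.snd g u = pullback.snd f u ∧
          ((pullback.fst f u) ⁻¹ᵁ (f ⁻¹ᵁ U)).ι ≫ h₁ ≫ pullback.fst g u = (pullback.fst f u ∣_ (f ⁻¹ᵁ U)) ≫ h ∧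
          ∀ z₁ : ↥(pullback (iZ ≫ f) u),
            (pullback (iZ ≫ f) u).fromSpecResidueField z₁ ≫
                pullback.lift (pullback.fst (iZ ≫ f) u ≫ iZ) (pullback.snd (iZ ≫ f) u)
                  ((Category.assoc _ _ _).trans pullback.condition) ≫ h₁ ≫ pullback.fst g u =
              (pullback (iZ ≫ f) u).fromSpecResidueField z₁ ≫ pullback.fst (iZ ≫ f) u ≫ h₀ := by
  constructor
  · rintro ⟨h', hh', hU', hZ'⟩ R _ _ _ u - -
    refine ⟨pullback.lift (pullback.fst f u ≫ h') (pullback.snd f u) (by rw [Category.assoc, hh', pullback.condition]),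
      pullback.lift_snd _ _ _, ?_, fun z₁ => ?_⟩
    · rw [pullback.lift_fst, ← morphismRestrict_ι_assoc, hU']
    · rw [pullback.lift_fst, pullback.lift_fst_assoc, Category.assoc, hZ']
  intro H
  let sec : ((f ⁻¹ᵁ U : X.Opens) : Scheme.{u}) ⟶ pullback f g := pullback.lift (f ⁻¹ᵁ U).ι h hh.symm
  have hsec : sec ≫ pullback.fst f g = (f ⁻¹ᵁ U).ι := pullback.lift_fst _ _ _
  let H₀ : Z ⟶ pullback f g := pullback.lift iZ h₀ hh₀.symm
  have hH₀ : H₀ ≫ pullback.fst f g = iZ := pullback.lift_fst _ _ _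
  have hUd := dense_preimage_of_flat f U hU
  have hT : ∀ (R : Type u) [CommRing R] [IsDomain R] [IsDiscreteValuationRing R] (u : Spec (CommRingCat.of R) ⟶ X)
      (z : Z), u (closedPoint R) = iZ z → ∀ ub : Spec (CommRingCat.of (FractionRing R)) ⟶ ((f ⁻¹ᵁ U : X.Opens) : Scheme.{u}),
      ub ≫ (f ⁻¹ᵁ U).ι = Spec.map (CommRingCat.ofHom (algebraMap R (FractionRing R))) ≫ u →
      ∃ k : Spec (CommRingCat.of R) ⟶ pullback f g, k ≫ pullback.fst f g = u ∧ k (closedPoint R) = H₀ z ∧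
        Spec.map (CommRingCat.ofHom (algebraMap R (FractionRing R))) ≫ k = ub ≫ sec := by
    intro R _ _ _ u z hu ub hub
    obtain ⟨k, hk1, hk2, hk3⟩ := test f g U h Z iZ hZ h₀ hh₀ H R u z hu ub hub
    refine ⟨k, hk1, hk2, pullback.hom_ext ?_ ?_⟩
    · rw [Category.assoc, hk1, Category.assoc, hsec, hub]
    · rw [Category.assoc, hk3, Category.assoc, pullback.lift_snd]
  choose V v hzV hv hag hval using exists_local (pullback.fst f g) (f ⁻¹ᵁ U) hUd sec hsec Z iZ hZ H₀ hH₀ hnorm hT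
  -- the local extensions agree
  have hov : ∀ a b, X.homOfLE (inf_le_left : V a ⊓ V b ≤ V a) ≫ v a = X.homOfLE (inf_le_right : V a ⊓ V b ≤ V b) ≫ v b := by
    intro a b
    refine local_ext _ _ _ fun x hx => ?_
    by_cases hxU : x ∈ f ⁻¹ᵁ U
    · refine ⟨f ⁻¹ᵁ U ⊓ (V a ⊓ V b), inf_le_right, ⟨hxU, hx⟩, ?_⟩
      have ha := congrArg (X.homOfLE (inf_le_inf_left _ inf_le_left : f ⁻¹ᵁ U ⊓ (V a ⊓ V b) ≤ f ⁻¹ᵁ U ⊓ V a) ≫ ·) (hag a)
      have hb := congrArg (X.homOfLE (inf_le_inf_left _ inf_le_right : f ⁻¹ᵁ U ⊓ (V a ⊓ V b) ≤ f ⁻¹ᵁ U ⊓ V b) ≫ ·) (hag b)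
      simp only [Scheme.homOfLE_homOfLE_assoc] at ha hb ⊢
      exact ha.trans hb.symm
    obtain ⟨z, rfl⟩ : x ∈ Set.range iZ := by rw [hZ]; exact hxU
    haveI := (hnorm z).1
    obtain ⟨W, hW, hxW, hηU, -⟩ := NormalPointExt.exists_generic_mem (f ⁻¹ᵁ U) hUd (iZ z)
    haveI := hW
    obtain ⟨O, hO, hzO, -⟩ := exists_isAffineOpen_mem_and_subset (X := (pullback f g)) (x := H₀ z) (U := ⊤) trivial
    let N : X.Opens := W ⊓ ((V a).ι ''ᵁ (v a ⁻¹ᵁ O) ⊓ (V b).ι ''ᵁ (v b ⁻¹ᵁ O))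
    have hN : N ≤ V a ⊓ V b := inf_le_right.trans (inf_le_inf ((V a).ι_image_le _) ((V b).ι_image_le _))
    refine ⟨N, hN, ⟨hxW, ⟨(⟨iZ z, hx.1⟩ : (V a : Scheme.{u})), (show v a _ ∈ O by rw [hval]; exact hzO), rfl⟩,
      ⟨(⟨iZ z, hx.2⟩ : (V b : Scheme.{u})), (show v b _ ∈ O by rw [hval]; exact hzO), rfl⟩⟩, ?_⟩
    rw [Scheme.homOfLE_homOfLE_assoc, Scheme.homOfLE_homOfLE_assoc]
    have hla : Set.range (X.homOfLE (hN.trans inf_le_left) ≫ v a) ⊆ Set.range O.ι := by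
      rintro _ ⟨t, rfl⟩; rw [Scheme.Opens.range_ι]
      obtain ⟨c, hc, hct⟩ := t.2.2.1
      have : X.homOfLE (hN.trans inf_le_left) t = c :=
        (V a).ι.isOpenEmbedding.injective ((congr($(X.homOfLE_ι (hN.trans inf_le_left)) t)).trans hct.symm)
      show v a (X.homOfLE _ t) ∈ O
      rw [this]; exact hc
    have hlb : Set.range (X.homOfLE (hN.trans inf_le_right) ≫ v b) ⊆ Set.range O.ι := by
      rintro _ ⟨t, rfl⟩; rw [Scheme.Opens.range_ι]
      obtain ⟨c, hc, hct⟩ := t.2.2.2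
      have : X.homOfLE (hN.trans inf_le_right) t = c :=
        (V b).ι.isOpenEmbedding.injective ((congr($(X.homOfLE_ι (hN.trans inf_le_right)) t)).trans hct.symm)
      show v b (X.homOfLE _ t) ∈ O
      rw [this]; exact hc
    haveI : IsReduced (N : Scheme.{u}) := isReduced_of_isOpenImmersion (X.homOfLE (inf_le_left : N ≤ W))
    haveI : IsAffine (O : Scheme.{u}) := hO
    haveI : IsDominant (X.homOfLE (inf_le_right : f ⁻¹ᵁ U ⊓ N ≤ N)) := by
      refine ⟨(hUd.preimage N.ι.isOpenEmbedding.isOpenMap).mono fun t ht => ⟨⟨N.ι t, ht, t.2⟩, ?_⟩⟩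
      exact N.ι.isOpenEmbedding.injective (congr($(X.homOfLE_ι (inf_le_right : f ⁻¹ᵁ U ⊓ N ≤ N)) (⟨N.ι t, ht, t.2⟩ : ((f ⁻¹ᵁ U ⊓ N : X.Opens) : Scheme.{u}))))
    rw [← IsOpenImmersion.lift_fac O.ι _ hla, ← IsOpenImmersion.lift_fac O.ι _ hlb]
    congr 1
    refine ext_of_isDominant (X.homOfLE (inf_le_right : f ⁻¹ᵁ U ⊓ N ≤ N)) ?_
    rw [← cancel_mono O.ι, Category.assoc, Category.assoc, IsOpenImmersion.lift_fac, IsOpenImmersion.lift_fac]
    have ha := congrArg (X.homOfLE (inf_le_inf_left _ (hN.trans inf_le_left) : f ⁻¹ᵁ U ⊓ N ≤ f ⁻¹ᵁ U ⊓ V a) ≫ ·) (hag a)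
    have hb := congrArg (X.homOfLE (inf_le_inf_left _ (hN.trans inf_le_right) : f ⁻¹ᵁ U ⊓ N ≤ f ⁻¹ᵁ U ⊓ V b) ≫ ·) (hag b)
    simp only [Scheme.homOfLE_homOfLE_assoc] at ha hb ⊢
    exact ha.trans hb.symm
  let W : Option Z → X.Opens := fun i => i.elim (f ⁻¹ᵁ U) V
  let w : ∀ i, (W i : Scheme.{u}) ⟶ pullback f g
    | none => sec
    | some z => v z
  have hcov : IsOpenCover W := eq_top_iff.mpr fun x _ => Opens.mem_iSup.mpr (by
    by_cases hxU : x ∈ f ⁻¹ᵁ U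
    · exact ⟨none, hxU⟩
    · obtain ⟨z, rfl⟩ : x ∈ Set.range iZ := by rw [hZ]; exact hxU
      exact ⟨some z, hzV z⟩)
  have hcomp : ∀ i j, X.homOfLE (inf_le_left : W i ⊓ W j ≤ W i) ≫ w i = X.homOfLE (inf_le_right : W i ⊓ W j ≤ W j) ≫ w j := by
    rintro (_ | a) (_ | b)
    · rfl
    · exact (hag b).symm
    · have h1 := congrArg (X.homOfLE (le_inf inf_le_right inf_le_left : V a ⊓ f ⁻¹ᵁ U ≤ f ⁻¹ᵁ U ⊓ V a) ≫ ·) (hag a)
      simp only [Scheme.homOfLE_homOfLE_assoc] at h1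
      exact h1
    · exact hov a b
  let 𝒰 := X.openCoverOfIsOpenCover W hcov
  let c := 𝒰.glueMorphisms (Y := pullback f g) w (fun i j => by
    have h1 := isPullback_opens_inf (W i) (W j)
    refine (cancel_epi h1.isoPullback.hom).mp ?_
    show h1.isoPullback.hom ≫ pullback.fst _ _ ≫ w i = h1.isoPullback.hom ≫ pullback.snd _ _ ≫ w j
    rw [h1.isoPullback_hom_fst_assoc, h1.isoPullback_hom_snd_assoc]
    exact hcomp i j)
  have hc : ∀ i, (W i).ι ≫ c = w i := fun i => 𝒰.ι_glueMorphisms _ _ i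
  have hcq : c ≫ pullback.fst f g = 𝟙 X := 𝒰.hom_ext _ _ fun (i : Option Z) => by
    show (W i).ι ≫ _ = (W i).ι ≫ _
    rw [← Category.assoc, hc, Category.comp_id]
    rcases i with _ | z
    · exact hsec
    · exact hv z
  refine ⟨c ≫ pullback.snd f g, ?_, ?_, ?_⟩
  · rw [Category.assoc, ← pullback.condition, reassoc_of% hcq]
  · rw [← Category.assoc, show (f ⁻¹ᵁ U).ι ≫ c = sec from hc none, pullback.lift_snd]
  · have : iZ ≫ c = H₀ := by
      refine point_sections_eq (pullback.fst f g) iZ _ _ (by rw [Category.assoc, hcq, Category.comp_id]) hH₀ fun z => ?_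
      exact (congr($(hc (some z)) (⟨iZ z, hzV z⟩ : (V z : Scheme.{u})))).trans (hval z z (hzV z))
    rw [← Category.assoc, this, pullback.lift_snd]

end Groth.Agent.H05EGA4.NormalReduction
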