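import Mathlib
import Groth.Agent.H05EGA4.NormalPointExt

/-!
Definedness of a rational map at a normal point can be tested after a universally open morphism.
-/

set_option autoImplicit false
universe u
open AlgebraicGeometry CategoryTheory CategoryTheory.Limits TopologicalSpace

namespace Groth.Agent.H05EGA4.NormalUnivOpen

theorem defined_iff {X X' Y S : Scheme.{u}} (pX : X ⟶ S) (pY : Y ⟶ S)
    [LocallyOfFiniteType pY] [IsSeparated pY] (hX : ∀ y : ↥X, ∃ W : X.Opens, y ∈ W ∧ IsIntegral (W : Scheme.{u}))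
    (hXn : ∀ y : ↥X, IsIntegrallyClosed (X.presheaf.stalk y))
    (U : X.Opens) (hU : Dense (U : Set ↥X)) (h : (U : Scheme.{u}) ⟶ Y) (hh : h ≫ pY = U.ι ≫ pX)
    (f : X' ⟶ X) [UniversallyOpen f] (x' : ↥X') :
    (∃ (V : X.Opens) (v : (V : Scheme.{u}) ⟶ Y), f x' ∈ V ∧ v ≫ pY = V.ι ≫ pX ∧
        X.homOfLE (inf_le_right : U ⊓ V ≤ V) ≫ v = X.homOfLE (inf_le_left : U ⊓ V ≤ U) ≫ h) ↔
      ∃ (V' : X'.Opens) (v' : (V' : Scheme.{u}) ⟶ Y), x' ∈ V' ∧ v' ≫ pY = V'.ι ≫ f ≫ pX ∧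
        X'.homOfLE (inf_le_right : f ⁻¹ᵁ U ⊓ V' ≤ V') ≫ v' =
          X'.homOfLE (inf_le_left : f ⁻¹ᵁ U ⊓ V' ≤ f ⁻¹ᵁ U) ≫ (f ∣_ U) ≫ h := by
  constructor
  · rintro ⟨V, v, hxV, hv, hag⟩
    refine ⟨f ⁻¹ᵁ V, (f ∣_ V) ≫ v, hxV, ?_, ?_⟩
    · rw [Category.assoc, hv, morphismRestrict_ι_assoc]
    · have h1 : X'.homOfLE (inf_le_right : f ⁻¹ᵁ U ⊓ f ⁻¹ᵁ V ≤ f ⁻¹ᵁ V) ≫ (f ∣_ V) =
          (f.resLE (U ⊓ V) (f ⁻¹ᵁ U ⊓ f ⁻¹ᵁ V) (show f ⁻¹ᵁ U ⊓ f ⁻¹ᵁ V ≤ f ⁻¹ᵁ (U ⊓ V) from fun _ ht => ht)) ≫ X.homOfLE (inf_le_right : U ⊓ V ≤ V) := by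
        rw [← cancel_mono V.ι, Category.assoc, morphismRestrict_ι, Category.assoc, Scheme.homOfLE_ι,
          Scheme.Hom.resLE_comp_ι, Scheme.homOfLE_ι_assoc]
      have h2 : X'.homOfLE (inf_le_left : f ⁻¹ᵁ U ⊓ f ⁻¹ᵁ V ≤ f ⁻¹ᵁ U) ≫ (f ∣_ U) =
          (f.resLE (U ⊓ V) (f ⁻¹ᵁ U ⊓ f ⁻¹ᵁ V) (show f ⁻¹ᵁ U ⊓ f ⁻¹ᵁ V ≤ f ⁻¹ᵁ (U ⊓ V) from fun _ ht => ht)) ≫ X.homOfLE (inf_le_left : U ⊓ V ≤ U) := by
        rw [← cancel_mono U.ι, Category.assoc, morphismRestrict_ι, Category.assoc, Scheme.homOfLE_ι,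
          Scheme.Hom.resLE_comp_ι, Scheme.homOfLE_ι_assoc]
      rw [reassoc_of% h1, hag, reassoc_of% h2]
  rintro ⟨V', v', hxV', hv', hag⟩
  have hh' : U.ι ≫ pX = h ≫ pY := hh.symm
  let H : (U : Scheme.{u}) ⟶ pullback pX pY := pullback.lift U.ι h hh'
  let q' : pullback f (pullback.fst pX pY) ⟶ X' := pullback.fst f (pullback.fst pX pY)
  let F : pullback f (pullback.fst pX pY) ⟶ pullback pX pY := pullback.snd f (pullback.fst pX pY)
  haveI : UniversallyOpen F := inferInstanceAs (UniversallyOpen (pullback.snd _ _))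
  have hcond : q' ≫ f = F ≫ pullback.fst pX pY := pullback.condition
  let s : ((f ⁻¹ᵁ U : X'.Opens) : Scheme.{u}) ⟶ pullback f (pullback.fst pX pY) :=
    pullback.lift (f ⁻¹ᵁ U).ι ((f ∣_ U) ≫ H) (by rw [Category.assoc, pullback.lift_fst, morphismRestrict_ι])
  let σ₀ : (V' : Scheme.{u}) ⟶ pullback pX pY :=
    pullback.lift (V'.ι ≫ f) v' (by rw [Category.assoc, hv'])
  let σ : (V' : Scheme.{u}) ⟶ pullback f (pullback.fst pX pY) :=
    pullback.lift V'.ι σ₀ (by rw [pullback.lift_fst])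
  have hσ : σ ≫ q' = V'.ι := pullback.lift_fst _ _ _
  have hsσ : X'.homOfLE (inf_le_left : f ⁻¹ᵁ U ⊓ V' ≤ f ⁻¹ᵁ U) ≫ s =
      X'.homOfLE (inf_le_right : f ⁻¹ᵁ U ⊓ V' ≤ V') ≫ σ := by
    refine pullback.hom_ext ?_ (pullback.hom_ext ?_ ?_)
    · simp only [Category.assoc, s, σ, pullback.lift_fst, Scheme.homOfLE_ι]
    · simp only [Category.assoc, s, σ, pullback.lift_snd, H, σ₀, pullback.lift_fst, morphismRestrict_ι,
        Scheme.homOfLE_ι_assoc]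
    · simp only [Category.assoc, s, σ, pullback.lift_snd, H, σ₀]
      exact hag.symm
  have hsub : F ⁻¹' Set.range H ⊆ Set.range s := by
    intro w hw
    rw [← Scheme.Pullback.range_fst] at hw
    obtain ⟨c, rfl⟩ := hw
    have hk : pullback.fst F H ≫ q' ≫ f = pullback.snd F H ≫ U.ι := by
      rw [hcond, ← Category.assoc, pullback.condition, Category.assoc, pullback.lift_fst]
    have hr : Set.range (pullback.fst F H ≫ q') ⊆ Set.range (f ⁻¹ᵁ U).ι := by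
      rintro _ ⟨t, rfl⟩
      rw [Scheme.Opens.range_ι]
      show f ((pullback.fst F H ≫ q') t) ∈ U
      rw [← Scheme.Hom.comp_apply, Category.assoc, hk, Scheme.Hom.comp_apply]
      exact Subtype.coe_prop _
    obtain ⟨l, hl⟩ : ∃ l, l ≫ (f ⁻¹ᵁ U).ι = pullback.fst F H ≫ q' :=
      ⟨IsOpenImmersion.lift _ _ hr, IsOpenImmersion.lift_fac _ _ _⟩
    have hlU : l ≫ (f ∣_ U) = pullback.snd F H := by
      rw [← cancel_mono U.ι, Category.assoc, morphismRestrict_ι, ← Category.assoc, hl, Category.assoc, hk]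
    have heq : pullback.fst F H = l ≫ s := by
      apply pullback.hom_ext
      · rw [Category.assoc, pullback.lift_fst, hl]
      · rw [Category.assoc, pullback.lift_snd, ← Category.assoc, hlU]
        exact pullback.condition
    exact ⟨l c, congr($(heq.symm) c)⟩
  have hrσ : Set.range σ ⊆ q' ⁻¹ᵁ V' := by
    rintro _ ⟨t, rfl⟩
    show q' (σ t) ∈ V'
    rw [← Scheme.Hom.comp_apply, hσ]
    exact t.2
  obtain ⟨τ, hτ⟩ : ∃ τ, τ ≫ (q' ⁻¹ᵁ V').ι = σ :=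
    ⟨IsOpenImmersion.lift _ _ (by rw [Scheme.Opens.range_ι]; exact hrσ), IsOpenImmersion.lift_fac _ _ _⟩
  have hτq : τ ≫ (q' ∣_ V') = 𝟙 _ := by
    rw [← cancel_mono V'.ι, Category.assoc, morphismRestrict_ι, ← Category.assoc, hτ, hσ, Category.id_comp]
  haveI : IsClosedImmersion τ := by
    haveI : IsClosedImmersion (τ ≫ (q' ∣_ V')) := by rw [hτq]; infer_instance
    exact IsClosedImmersion.of_comp τ (q' ∣_ V')
  let x'' : (V' : Scheme.{u}) := ⟨x', hxV'⟩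
  have hfib : ∀ w, q' w = x' → w ∈ closure (F ⁻¹' Set.range H) → w = σ x'' := by
    intro w hw hcl
    have hwV : w ∈ q' ⁻¹ᵁ V' := by show q' w ∈ V'; rw [hw]; exact hxV'
    have h1 : w ∈ closure (Set.range σ) := by
      refine mem_closure_iff.mpr fun O hO hwO => ?_
      obtain ⟨t, ⟨htO, htV⟩, ht⟩ := mem_closure_iff.mp hcl _ (hO.inter (q' ⁻¹ᵁ V').2) ⟨hwO, hwV⟩
      obtain ⟨a, rfl⟩ := hsub ht
      have ha : (f ⁻¹ᵁ U).ι a ∈ V' := by
        have h3 : q' (s a) = (f ⁻¹ᵁ U).ι a := congr($(pullback.lift_fst (f := f) (g := pullback.fst pX pY)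
          (f ⁻¹ᵁ U).ι ((f ∣_ U) ≫ H) (by rw [Category.assoc, pullback.lift_fst, morphismRestrict_ι])) a)
        rw [← h3]; exact htV
      let b : ((f ⁻¹ᵁ U ⊓ V' : X'.Opens) : Scheme.{u}) := ⟨(f ⁻¹ᵁ U).ι a, a.2, ha⟩
      have hb : X'.homOfLE (inf_le_left : f ⁻¹ᵁ U ⊓ V' ≤ f ⁻¹ᵁ U) b = a :=
        (f ⁻¹ᵁ U).ι.isOpenEmbedding.injective (congr($(X'.homOfLE_ι inf_le_left) b))
      refine ⟨s a, htO, X'.homOfLE (inf_le_right : f ⁻¹ᵁ U ⊓ V' ≤ V') b, ?_⟩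
      rw [← hb]
      exact congr($(hsσ.symm) b)
    have hι : Topology.IsOpenEmbedding (q' ⁻¹ᵁ V').ι := (q' ⁻¹ᵁ V').ι.isOpenEmbedding
    have h2 : (⟨w, hwV⟩ : ((q' ⁻¹ᵁ V' : _) : Scheme.{u})) ∈ Set.range τ := by
      rw [← τ.isClosedEmbedding.isClosed_range.closure_eq, hι.isInducing.closure_eq_preimage_closure_image]
      show w ∈ closure _
      rw [← Set.range_comp, ← TopCat.coe_comp, ← Scheme.Hom.comp_base, hτ]
      exact h1
    obtain ⟨a, ha⟩ := h2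
    have ha' : σ a = w := (congr($(hτ.symm) a)).trans (congrArg (fun z => (q' ⁻¹ᵁ V').ι z) ha)
    have : V'.ι a = x' := by rw [← hw, ← ha', ← Scheme.Hom.comp_apply, hσ]
    rw [← ha', show a = x'' from Subtype.ext this]
  have hq'x : q' (σ x'') = x' := congr($(hσ) x'')
  let z := F (σ x'')
  have hzfst : pullback.fst pX pY z = f x' := by
    rw [← hq'x]; exact (congr($(hcond) (σ x''))).symm
  have hz : z ∈ closure (Set.range H) := by
    have hd : Dense (f ⁻¹' (U : Set X)) := hU.preimage f.isOpenMap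
    have h1 : x'' ∈ closure (V'.ι ⁻¹' (f ⁻¹' (U : Set X))) :=
      V'.ι.isOpenEmbedding.isOpenMap.preimage_closure_subset_closure_preimage (hd _)
    refine map_mem_closure (f := fun t => F (σ t)) (F.continuous.comp σ.continuous) h1 fun t ht => ?_
    let b : ((f ⁻¹ᵁ U ⊓ V' : X'.Opens) : Scheme.{u}) := ⟨V'.ι t, ht, t.2⟩
    have hb : X'.homOfLE (inf_le_right : f ⁻¹ᵁ U ⊓ V' ≤ V') b = t :=
      V'.ι.isOpenEmbedding.injective (congr($(X'.homOfLE_ι inf_le_right) b))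
    refine ⟨(f ∣_ U) (X'.homOfLE (inf_le_left : f ⁻¹ᵁ U ⊓ V' ≤ f ⁻¹ᵁ U) b), ?_⟩
    show _ = F (σ t)
    rw [← hb]
    have h5 : X'.homOfLE (inf_le_left : f ⁻¹ᵁ U ⊓ V' ≤ f ⁻¹ᵁ U) ≫ (f ∣_ U) ≫ H =
        X'.homOfLE (inf_le_right : f ⁻¹ᵁ U ⊓ V' ≤ V') ≫ σ ≫ F := by
      rw [← reassoc_of% hsσ, pullback.lift_snd]
    exact congr($(h5) b)
  refine NormalPointExt.graph_case pX pY hX U hU h hh' (f x') (hXn _) z hzfst hz ⟨⊤, ?_⟩
  ext z₁
  constructor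
  · rintro ⟨⟨-, hz₁⟩, hz₁x⟩
    obtain ⟨w, hw1, hw2⟩ := Scheme.Pullback.exists_preimage_pullback (f := f) (g := pullback.fst pX pY) x' z₁ hz₁x.symm
    have hwcl : w ∈ closure (F ⁻¹' Set.range H) := by
      rw [← F.isOpenMap.preimage_closure_eq_closure_preimage F.continuous]
      show F w ∈ closure _
      rw [show F w = z₁ from hw2]; exact hz₁
    rw [Set.mem_singleton_iff, ← hw2, hfib w hw1 hwcl]
  · rintro rfl
    exact ⟨⟨trivial, hz⟩, hzfst⟩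

end Groth.Agent.H05EGA4.NormalUnivOpen
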