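import Mathlib
import Groth.Prelude.Def_QFDual

/-!
The dualizing module of a product (helper5).
-/

set_option autoImplicit false
set_option linter.style.haveILetI false
universe u
open TensorProduct

namespace Groth.Agent.H05EGA4.OmegaProd

variable (A B' B C' C : Type u) [CommRing A] [CommRing B'] [CommRing B] [CommRing C'] [CommRing C]
  [Algebra A B'] [Algebra B' B] [Algebra A B] [IsScalarTower A B' B]
  [Algebra A C'] [Algebra C' C] [Algebra A C] [IsScalarTower A C' C]
  [Algebra (B' × C') (B × C)] [IsScalarTower A (B' × C') (B × C)]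
  (halg : algebraMap (B' × C') (B × C) = (algebraMap B' B).prodMap (algebraMap C' C))

abbrev resl (φ : Disc.Omega A (B' × C')) : Disc.Omega A B' := ⟨φ.toLinearMap ∘ₗ LinearMap.inl A B' C'⟩
abbrev resr (φ : Disc.Omega A (B' × C')) : Disc.Omega A C' := ⟨φ.toLinearMap ∘ₗ LinearMap.inr A B' C'⟩
abbrev extl (ψ : Disc.Omega A B') : Disc.Omega A (B' × C') := ⟨ψ.toLinearMap ∘ₗ LinearMap.fst A B' C'⟩
abbrev extr (ψ : Disc.Omega A C') : Disc.Omega A (B' × C') := ⟨ψ.toLinearMap ∘ₗ LinearMap.snd A B' C'⟩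

include halg in
theorem smul_eq (r : B' × C') (p : B × C) : r • p = (r.1 • p.1, r.2 • p.2) := by
  rw [Algebra.smul_def, halg]
  exact Prod.ext (Algebra.smul_def r.1 p.1).symm (Algebra.smul_def r.2 p.2).symm

include halg in
theorem exists_equiv : ∃ e : QFDual.omega A (B' × C') (B × C) ≃ₗ[A] QFDual.omega A B' B × QFDual.omega A C' C,
    ∀ (b : B) (c : C) (φ : Disc.Omega A (B' × C')),
      e ((b, c) ⊗ₜ[B' × C'] φ) = (b ⊗ₜ[B'] Disc.Omega.mk (φ.toLinearMap ∘ₗ LinearMap.inl A B' C'),
        c ⊗ₜ[C'] Disc.Omega.mk (φ.toLinearMap ∘ₗ LinearMap.inr A B' C')) := by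
  have hl : ∀ (r : B' × C') φ, resl A B' C' (r • φ) = r.1 • resl A B' C' φ := fun r φ =>
    Disc.Omega.ext (LinearMap.ext fun x => congrArg φ.toLinearMap (Prod.ext rfl (mul_zero _)))
  have hr : ∀ (r : B' × C') φ, resr A B' C' (r • φ) = r.2 • resr A B' C' φ := fun r φ =>
    Disc.Omega.ext (LinearMap.ext fun x => congrArg φ.toLinearMap (Prod.ext (mul_zero _) rfl))
  let F₀ : B × C →+ Disc.Omega A (B' × C') →+ QFDual.omega A B' B × QFDual.omega A C' C :=
    AddMonoidHom.mk' (fun p => AddMonoidHom.mk' (fun φ => (p.1 ⊗ₜ resl A B' C' φ, p.2 ⊗ₜ resr A B' C' φ))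
      (fun φ ψ => Prod.ext
        (by show _ = p.1 ⊗ₜ _ + p.1 ⊗ₜ _; rw [← tmul_add]; rfl)
        (by show _ = p.2 ⊗ₜ _ + p.2 ⊗ₜ _; rw [← tmul_add]; rfl)))
      (fun p q => by
        refine AddMonoidHom.ext fun φ => Prod.ext ?_ ?_
        · exact add_tmul _ _ _
        · exact add_tmul _ _ _)
  let F := TensorProduct.liftAddHom F₀ fun (r : B' × C') (p : B × C) (φ : Disc.Omega A (B' × C')) => by
    refine Prod.ext ?_ ?_
    · show (r • p).1 ⊗ₜ[B'] resl A B' C' φ = p.1 ⊗ₜ[B'] resl A B' C' (r • φ)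
      rw [hl, smul_eq B' B C' C halg, smul_tmul]
    · show (r • p).2 ⊗ₜ[C'] resr A B' C' φ = p.2 ⊗ₜ[C'] resr A B' C' (r • φ)
      rw [hr, smul_eq B' B C' C halg, smul_tmul]
  let l₀ : B →+ Disc.Omega A B' →+ QFDual.omega A (B' × C') (B × C) :=
    AddMonoidHom.mk' (fun b => AddMonoidHom.mk' (fun ψ => ((b, (0 : C)) : B × C) ⊗ₜ extl A B' C' ψ)
      (fun φ ψ => by rw [← tmul_add]; rfl))
      (fun p q => by
        refine AddMonoidHom.ext fun φ => ?_
        show ((p + q, (0 : C)) : B × C) ⊗ₜ extl A B' C' φ = (p, (0 : C)) ⊗ₜ extl A B' C' φ + (q, (0 : C)) ⊗ₜ extl A B' C' φ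
        rw [← add_tmul, Prod.mk_add_mk, add_zero])
  let r₀ : C →+ Disc.Omega A C' →+ QFDual.omega A (B' × C') (B × C) :=
    AddMonoidHom.mk' (fun c => AddMonoidHom.mk' (fun ψ => (((0 : B), c) : B × C) ⊗ₜ extr A B' C' ψ)
      (fun φ ψ => by rw [← tmul_add]; rfl))
      (fun p q => by
        refine AddMonoidHom.ext fun φ => ?_
        show (((0 : B), p + q) : B × C) ⊗ₜ extr A B' C' φ = ((0 : B), p) ⊗ₜ extr A B' C' φ + ((0 : B), q) ⊗ₜ extr A B' C' φ
        rw [← add_tmul, Prod.mk_add_mk, add_zero])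
  let L := TensorProduct.liftAddHom l₀ fun (s : B') (b : B) (ψ : Disc.Omega A B') => by
    show ((s • b, (0 : C)) : B × C) ⊗ₜ extl A B' C' ψ = (b, (0 : C)) ⊗ₜ extl A B' C' (s • ψ)
    rw [show extl A B' C' (s • ψ) = ((s, 0) : B' × C') • extl A B' C' ψ from
      Disc.Omega.ext (LinearMap.ext fun x => rfl), ← smul_tmul, smul_eq B' B C' C halg]
    simp
  let R := TensorProduct.liftAddHom r₀ fun (s : C') (b : C) (ψ : Disc.Omega A C') => by
    show (((0 : B), s • b) : B × C) ⊗ₜ extr A B' C' ψ = ((0 : B), b) ⊗ₜ extr A B' C' (s • ψ)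
    rw [show extr A B' C' (s • ψ) = ((0, s) : B' × C') • extr A B' C' ψ from
      Disc.Omega.ext (LinearMap.ext fun x => rfl), ← smul_tmul, smul_eq B' B C' C halg]
    simp
  have hFl : ∀ z, F (L z) = (z, 0) := fun z => by
    induction z with
    | zero => simp; rfl
    | add x y hx hy => rw [map_add, map_add, hx, hy, Prod.mk_add_mk, add_zero]
    | tmul b ψ =>
      refine Prod.ext ?_ ?_
      · show b ⊗ₜ[B'] resl A B' C' (extl A B' C' ψ) = _
        rw [show resl A B' C' (extl A B' C' ψ) = ψ from Disc.Omega.ext (LinearMap.ext fun x => rfl)]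
      · exact zero_tmul _ _
  have hFr : ∀ z, F (R z) = (0, z) := fun z => by
    induction z with
    | zero => simp; rfl
    | add x y hx hy => rw [map_add, map_add, hx, hy, Prod.mk_add_mk, add_zero]
    | tmul b ψ =>
      refine Prod.ext ?_ ?_
      · exact zero_tmul _ _
      · show b ⊗ₜ[C'] resr A B' C' (extr A B' C' ψ) = _
        rw [show resr A B' C' (extr A B' C' ψ) = ψ from Disc.Omega.ext (LinearMap.ext fun x => rfl)]
  have hGF : ∀ z, L (F z).1 + R (F z).2 = z := fun z => by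
    induction z with
    | zero => simp
    | add x y hx hy => simp only [map_add, Prod.fst_add, Prod.snd_add]; rw [add_add_add_comm, hx, hy]
    | tmul p φ =>
      obtain ⟨b, c⟩ := p
      show ((b, (0 : C)) : B × C) ⊗ₜ extl A B' C' (resl A B' C' φ) + ((0 : B), c) ⊗ₜ extr A B' C' (resr A B' C' φ) = _
      rw [show extl A B' C' (resl A B' C' φ) = ((1, 0) : B' × C') • φ from Disc.Omega.ext (LinearMap.ext fun x => by
          show φ.toLinearMap (x.1, 0) = φ.toLinearMap ((1, 0) * x)
          exact congrArg _ (Prod.ext (one_mul _).symm (zero_mul _).symm)),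
        show extr A B' C' (resr A B' C' φ) = ((0, 1) : B' × C') • φ from Disc.Omega.ext (LinearMap.ext fun x => by
          show φ.toLinearMap (0, x.2) = φ.toLinearMap ((0, 1) * x)
          exact congrArg _ (Prod.ext (zero_mul _).symm (one_mul _).symm)),
        ← smul_tmul, ← smul_tmul, smul_eq B' B C' C halg, smul_eq B' B C' C halg, ← add_tmul]
      simp
  have hA : ∀ (a : A) (z : QFDual.omega A (B' × C') (B × C)), F (a • z) = a • F z := fun a z => by
    induction z using TensorProduct.induction_on with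
    | zero => rw [smul_zero, map_zero, smul_zero]
    | add x y hx hy => rw [smul_add, map_add, map_add, hx, hy, smul_add]
    | tmul p φ => exact Prod.ext rfl rfl
  let Fl : QFDual.omega A (B' × C') (B × C) →ₗ[A] QFDual.omega A B' B × QFDual.omega A C' C :=
    { F with map_smul' := hA }
  have hb : Function.Bijective Fl :=
    ⟨fun x y h => by
      have h' : F x = F y := h
      rw [← hGF x, ← hGF y, h'],
     fun w => ⟨L w.1 + R w.2, by
      show F _ = w
      rw [map_add, hFl, hFr, Prod.mk_add_mk, add_zero, zero_add]⟩⟩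
  exact ⟨LinearEquiv.ofBijective Fl hb, fun b c φ => rfl⟩

end Groth.Agent.H05EGA4.OmegaProd
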