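import Groth.Agent.H05EGA4.PBasis

/-! Algebra maps out of an algebra with a `p`-basis. -/

set_option autoImplicit false
set_option linter.style.haveILetI false

open EGA41

universe u

namespace Groth.Agent.H05EGA4.PBasis

variable (p : ℕ) [hp : Fact p.Prime] {A B : Type u} [CommRing A] [CommRing B] [Algebra A B]

omit hp in
theorem algHom_ext_adjoin {ι : Type u} {x : ι → B} (h : Algebra.adjoin A (Set.range x) = ⊤)
    {E : Type u} [CommRing E] [Algebra A E] {v v' : B →ₐ[A] E} (hv : ∀ i, v (x i) = v' (x i)) : v = v' :=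
  AlgHom.ext fun b => by
    have hb : b ∈ AlgHom.equalizer v v' := by
      have : Algebra.adjoin A (Set.range x) ≤ AlgHom.equalizer v v' := Algebra.adjoin_le (by
        rintro _ ⟨i, rfl⟩; exact hv i)
      exact this (h ▸ Algebra.mem_top)
    exact hb

variable [CharP B p]

/-- Maps with prescribed values on a `p`-basis. -/
theorem exists_algHom (hpow : ∀ b : B, b ^ p ∈ Set.range (algebraMap A B)) {ι : Type u} (x : ι → B)
    (hli : LinearIndependent A (fun e : {e : ι →₀ ℕ // ∀ i, e i < p} => pMonomial x e.1))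
    (hgen : Submodule.span A (Set.range fun e : {e : ι →₀ ℕ // ∀ i, e i < p} => pMonomial x e.1) = ⊤)
    {E : Type u} [CommRing E] [Algebra A E] (z : ι → E)
    (hz : ∀ (i : ι) (a : A), algebraMap A B a = x i ^ p → z i ^ p = algebraMap A E a) :
    ∃ v : B →ₐ[A] E, ∀ i, v (x i) = z i := by
  classical
  let π : MvPolynomial ι A →ₐ[A] B := MvPolynomial.aeval x
  let φ : MvPolynomial ι A →ₐ[A] E := MvPolynomial.aeval z
  choose a ha using fun i => hpow (x i)
  have hker : ∀ f, π f = 0 → φ f = 0 := by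
    intro f hf
    have hI : ∀ h ∈ Ideal.span (Set.range fun i => MvPolynomial.X i ^ p - MvPolynomial.C (a i)),
        π h = 0 ∧ φ h = 0 := fun h hh => by
      refine (show Ideal.span _ ≤ RingHom.ker π ⊓ RingHom.ker φ from Ideal.span_le.2 ?_) hh
      rintro _ ⟨i, rfl⟩
      refine ⟨?_, ?_⟩
      · simp [π, ha]
      · simp [φ, hz i (a i) (ha i)]
    obtain ⟨g, hg, hfg⟩ := exists_reduced p a f
    have hπg : MvPolynomial.aeval x g = 0 := by
      have := (hI _ hfg).1
      rwa [map_sub, hf, zero_sub, neg_eq_zero] at this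
    have hg0 : g = 0 := by
      rw [MvPolynomial.aeval_def, MvPolynomial.eval₂_eq] at hπg
      have h0 := linearIndependent_iff'.1 hli
        (g.support.subtype fun m => ∀ i, m i < p) (fun e => g.coeff e.1) (by
          refine Eq.trans ?_ hπg
          rw [Finset.sum_subtype_of_mem (fun m => MvPolynomial.coeff m g • pMonomial x m) hg]
          exact Finset.sum_congr rfl fun m _ => by rw [Algebra.smul_def]; rfl)
      refine MvPolynomial.ext _ _ fun m => ?_
      rw [MvPolynomial.coeff_zero]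
      by_contra hm
      exact hm (h0 ⟨m, hg m (MvPolynomial.mem_support_iff.2 hm)⟩
        (Finset.mem_subtype.2 (MvPolynomial.mem_support_iff.2 hm)))
    have := (hI _ hfg).2
    rwa [hg0, sub_zero] at this
  have hπ : Function.Surjective π := fun b => by
    have hb : b ∈ Algebra.adjoin A (Set.range x) := by
      rw [← Subalgebra.mem_toSubmodule, ← span_eq_adjoin p hpow x, hgen]; trivial
    rw [Algebra.adjoin_range_eq_range_aeval] at hb
    exact hb
  let e := Ideal.quotientKerAlgEquivOfSurjective hπ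
  refine ⟨(Ideal.Quotient.liftₐ (RingHom.ker π) φ hker).comp e.symm.toAlgHom, fun i => ?_⟩
  have he : e.symm (x i) = Ideal.Quotient.mk _ (MvPolynomial.X i) := by
    rw [AlgEquiv.symm_apply_eq]
    exact (MvPolynomial.aeval_X x i).symm
  show Ideal.Quotient.liftₐ (RingHom.ker π) φ hker (e.symm (x i)) = z i
  rw [he]
  exact MvPolynomial.aeval_X z i

omit [CharP B p] in
theorem add_pow_eq {E : Type u} [CommRing E] (hp0 : (p : E) = 0) (a b : E) : (a + b) ^ p = a ^ p + b ^ p := by
  rcases subsingleton_or_nontrivial E with h | h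
  · exact Subsingleton.elim _ _
  haveI : CharP E p := (CharP.charP_iff_prime_eq_zero hp.out).2 hp0
  exact add_pow_char a b p

omit [CharP B p] in
theorem pow_eq_of_sub_mem {E : Type u} [CommRing E] (hp0 : (p : E) = 0) {R : Ideal E} (hR : R ^ p = ⊥)
    {a b : E} (h : a - b ∈ R) : a ^ p = b ^ p := by
  have h0 : (a - b) ^ p = 0 := by
    have := Ideal.pow_mem_pow h p
    rwa [hR, Ideal.mem_bot] at this
  rw [← sub_add_cancel a b, add_pow_eq p hp0, h0, zero_add]

variable [CharP A p] [PerfectRing A p] [IsReduced B]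

/-- Unique lifting along an ideal killed by the `p`-th power map. -/
theorem existsUnique_lift_step {ι : Type u} (x : ι → B) (hx : IsPBasis p A x) (E : Type u) [CommRing E]
    [Algebra A E] (R : Ideal E) (hR : R ^ p = ⊥) (v : B →ₐ[A] E ⧸ R) (z : ι → E)
    (hz : ∀ i, Ideal.Quotient.mk R (z i) = v (x i)) :
    ∃! w : B →ₐ[A] E, (Ideal.Quotient.mkₐ A R).comp w = v ∧ ∀ i, w (x i) = z i := by
  have hp0 : (p : E) = 0 := by rw [← map_natCast (algebraMap A E), CharP.cast_eq_zero, map_zero]
  let C := pPowerSubalgebra p A B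
  let F : Subalgebra A B :=
    { carrier := Set.range fun b : B => b ^ p
      mul_mem' := by rintro _ _ ⟨a, rfl⟩ ⟨b, rfl⟩; exact ⟨a * b, mul_pow a b p⟩
      one_mem' := ⟨1, one_pow p⟩
      add_mem' := by rintro _ _ ⟨a, rfl⟩ ⟨b, rfl⟩; exact ⟨a + b, add_pow_char a b p⟩
      zero_mem' := ⟨0, zero_pow hp.out.ne_zero⟩
      algebraMap_mem' := fun a => by
        obtain ⟨a', rfl⟩ := surjective_frobenius A p a
        exact ⟨algebraMap A B a', by rw [frobenius_def, map_pow]⟩ }
  have hC : ∀ c : C, ∃ b : B, b ^ p = (c : B) := fun c =>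
    (show C ≤ F from Algebra.adjoin_le fun y hy => hy) c.2
  choose root hroot using hC
  choose lift hlift using fun b : B => Ideal.Quotient.mk_surjective (v b)
  have hrootC : ∀ (c : C) (b : B), b ^ p = (c : B) → root c = b := fun c b hb => by
    have h : (root c - b) ^ p = 0 := by rw [sub_pow_char, hroot, hb, sub_self]
    exact sub_eq_zero.1 (IsNilpotent.eq_zero ⟨p, h⟩)
  have hmk : ∀ (e : E) (b : B), Ideal.Quotient.mk R e = v b → e ^ p = lift b ^ p := fun e b he =>
    pow_eq_of_sub_mem p hp0 hR (Ideal.Quotient.eq.1 (he.trans (hlift b).symm))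
  let w₀ : C →+* E :=
    { toFun := fun c => lift (root c) ^ p
      map_one' := by rw [← hmk 1 (root 1) (by rw [hrootC 1 1 (one_pow p), map_one, map_one]), one_pow]
      map_mul' := fun c d => by
        rw [← mul_pow, ← hmk (lift (root c) * lift (root d)) (root (c * d))]
        rw [map_mul, hlift, hlift, ← map_mul, hrootC (c * d) (root c * root d)
          (by rw [mul_pow, hroot, hroot]; rfl)]
      map_zero' := by
        rw [← hmk 0 (root 0) (by rw [hrootC 0 0 (zero_pow hp.out.ne_zero), map_zero, map_zero]),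
          zero_pow hp.out.ne_zero]
      map_add' := fun c d => by
        rw [← add_pow_eq p hp0, ← hmk (lift (root c) + lift (root d)) (root (c + d))]
        rw [map_add, hlift, hlift, ← map_add, hrootC (c + d) (root c + root d)
          (by rw [add_pow_char, hroot, hroot]; rfl)] }
  have hw₀A : ∀ a, w₀ (algebraMap A C a) = algebraMap A E a := fun a => by
    obtain ⟨a', rfl⟩ := surjective_frobenius A p a
    show lift _ ^ p = _
    rw [hrootC _ (algebraMap A B a') (by rw [frobenius_def, ← map_pow]; rfl),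
      ← hmk (algebraMap A E a') _ (by rw [AlgHom.commutes]; rfl), ← map_pow, frobenius_def]
  letI : Algebra C E := w₀.toAlgebra
  haveI : IsScalarTower A C E := IsScalarTower.of_algebraMap_eq fun a => (hw₀A a).symm
  let v' : B →ₐ[C] E ⧸ R :=
    { v.toRingHom with
      commutes' := fun c => by
        show v (c : B) = Ideal.Quotient.mk R (lift (root c) ^ p)
        rw [map_pow, hlift, ← map_pow, hroot] }
  obtain ⟨w, hw⟩ := exists_algHom p (pow_mem_pPow p) x hx.1 hx.2 z (fun i c hc => by
    show z i ^ p = lift (root c) ^ p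
    rw [hrootC c (x i) hc.symm]
    exact hmk _ _ (hz i))
  have hadj := (isPGenerating_iff p x).1 hx.2
  have hv' : (Ideal.Quotient.mkₐ C R).comp w = v' := algHom_ext_adjoin hadj fun i => by
    show Ideal.Quotient.mk R (w (x i)) = v (x i)
    rw [hw, hz]
  refine ⟨w.restrictScalars A, ⟨AlgHom.ext fun b => AlgHom.congr_fun hv' b, hw⟩, fun w' ⟨hw'1, hw'2⟩ => ?_⟩
  let w'' : B →ₐ[C] E :=
    { w'.toRingHom with
      commutes' := fun c => by
        show w' (c : B) = lift (root c) ^ p
        rw [← hroot c, map_pow]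
        exact hmk _ _ (AlgHom.congr_fun hw'1 _) }
  have : w'' = w := algHom_ext_adjoin hadj fun i => (hw'2 i).trans (hw i).symm
  exact AlgHom.ext fun b => AlgHom.congr_fun this b

theorem existsUnique_lift {ι : Type u} (x : ι → B) (hx : IsPBasis p A x) (E : Type u) [CommRing E]
    [Algebra A E] (R : Ideal E) (hR : IsNilpotent R) (v : B →ₐ[A] E ⧸ R) (z : ι → E)
    (hz : ∀ i, Ideal.Quotient.mk R (z i) = v (x i)) :
    ∃! w : B →ₐ[A] E, (Ideal.Quotient.mkₐ A R).comp w = v ∧ ∀ i, w (x i) = z i := by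
  obtain ⟨N, hN⟩ := hR
  suffices ∀ (i : ℕ) (E : Type u) [CommRing E] [Algebra A E] (R : Ideal E), R ^ (p ^ i) = ⊥ →
      ∀ (v : B →ₐ[A] E ⧸ R) (z : ι → E), (∀ i, Ideal.Quotient.mk R (z i) = v (x i)) →
      ∃! w : B →ₐ[A] E, (Ideal.Quotient.mkₐ A R).comp w = v ∧ ∀ i, w (x i) = z i from
    this N E R (le_bot_iff.1 ((Ideal.pow_le_pow_right (Nat.lt_pow_self hp.out.one_lt).le).trans hN.le)) v z hz
  intro i
  induction i with
  | zero =>
    intro E _ _ R hR v z hz
    rw [pow_zero, pow_one] at hR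
    have hR' : R ^ p = ⊥ := by rw [hR, ← Ideal.zero_eq_bot, zero_pow hp.out.ne_zero]
    exact existsUnique_lift_step p x hx E R hR' v z hz
  | succ i ih =>
    intro E _ _ R hR v z hz
    let q := Ideal.Quotient.mk (R ^ p)
    let R' : Ideal (E ⧸ R ^ p) := R.map q
    have hR' : R' ^ p = ⊥ := by rw [← Ideal.map_pow]; exact Ideal.map_quotient_self _
    have hle : R ^ p ≤ R := Ideal.pow_le_self hp.out.ne_zero
    let e : ((E ⧸ R ^ p) ⧸ R') ≃ₐ[A] E ⧸ R :=
      (DoubleQuot.quotQuotEquivQuotSupₐ A (R ^ p) R).trans (Ideal.quotientEquivAlgOfEq A (sup_eq_right.2 hle))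
    obtain ⟨w₁, ⟨h1, h1'⟩, h1u⟩ := existsUnique_lift_step p x hx (E ⧸ R ^ p) R' hR' (e.symm.toAlgHom.comp v)
      (fun i => q (z i)) (fun i => by
        show Ideal.Quotient.mk R' (q (z i)) = e.symm (v (x i))
        rw [AlgEquiv.eq_symm_apply, ← hz]
        rfl)
    have hR2 : (R ^ p) ^ (p ^ i) = ⊥ := by rwa [← pow_mul, ← pow_succ']
    obtain ⟨w, ⟨h2, h2'⟩, h2u⟩ := ih E (R ^ p) hR2 w₁ z fun i => (h1' i).symm
    refine ⟨w, ⟨AlgHom.ext fun b => ?_, h2'⟩, fun w' ⟨h3, h3'⟩ => h2u w' ⟨?_, h3'⟩⟩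
    · have ha := congrArg e (AlgHom.congr_fun h1 b)
      rw [AlgHom.comp_apply, AlgHom.comp_apply, ← AlgHom.congr_fun h2 b] at ha
      exact ha.trans (e.apply_symm_apply _)
    · refine h1u _ ⟨AlgHom.ext fun b => ?_, fun i => congrArg q (h3' i)⟩
      show Ideal.Quotient.mk R' (q (w' b)) = e.symm (v b)
      rw [AlgEquiv.eq_symm_apply, ← h3]
      rfl

end Groth.Agent.H05EGA4.PBasis
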