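import Groth.Agent.S4595
import Groth.Agent.H05EGA4.Regular
import Groth.Agent.H05EGA4.IntegralDim

/-! Quotients of polynomial rings by `p`-polynomials over regular local rings. -/

set_option autoImplicit false
set_option linter.style.haveILetI false

open TensorProduct IsLocalRing

universe u

namespace Groth.Agent.H05EGA4.PPoly

theorem finrank_cotangent_of_surjective {B C : Type u} [CommRing B] [CommRing C] [IsLocalRing B]
    [IsLocalRing C] [IsNoetherianRing B] (ψ : B →+* C) (hψ : Function.Surjective ψ)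
    (hk : RingHom.ker ψ ≤ maximalIdeal B ^ 2) :
    Module.finrank (ResidueField B) (CotangentSpace B) =
      Module.finrank (ResidueField C) (CotangentSpace C) := by
  haveI : IsLocalHom ψ := IsLocalHom.of_surjective ψ hψ
  have hmap : (maximalIdeal B).map ψ = maximalIdeal C :=
    IsLocalRing.map_maximalIdeal_of_surjective ψ hψ
  let f₀ : maximalIdeal B →+ CotangentSpace C :=
    { toFun := fun x => (maximalIdeal C).toCotangent ⟨ψ x, hmap.le (Ideal.mem_map_of_mem ψ x.2)⟩
      map_zero' := by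
        rw [Ideal.toCotangent_eq_zero]
        simp
      map_add' := fun x y => by
        rw [← map_add]
        exact congrArg _ (Subtype.ext (map_add ψ _ _)) }
  have hf₀ : ∀ x : maximalIdeal B, (maximalIdeal B).toCotangent x = 0 ↔ f₀ x = 0 := by
    intro x
    show _ ↔ (maximalIdeal C).toCotangent _ = 0
    rw [Ideal.toCotangent_eq_zero, Ideal.toCotangent_eq_zero]
    show (x : B) ∈ _ ↔ ψ x ∈ _
    rw [← hmap, ← Ideal.map_pow, ← Ideal.mem_comap, Ideal.comap_map_of_surjective ψ hψ,
      ← RingHom.ker_eq_comap_bot, sup_eq_left.2 hk]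
  let s := Function.surjInv (maximalIdeal B).toCotangent_surjective
  have hs : ∀ y, (maximalIdeal B).toCotangent (s y) = y :=
    Function.surjInv_eq (maximalIdeal B).toCotangent_surjective
  have hwd : ∀ x, f₀ (s ((maximalIdeal B).toCotangent x)) = f₀ x := fun x => by
    rw [← sub_eq_zero, ← map_sub, ← hf₀, map_sub, hs, sub_self]
  let j₀ : CotangentSpace B →+ CotangentSpace C :=
    { toFun := fun y => f₀ (s y)
      map_zero' := by
        rw [← map_zero (maximalIdeal B).toCotangent, hwd, map_zero]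
      map_add' := fun a b => by
        rw [← hs a, ← hs b, ← map_add, hwd, hwd, hwd, map_add] }
  have hj : Function.Bijective j₀ := by
    refine ⟨(injective_iff_map_eq_zero _).2 fun y hy => ?_, fun z => ?_⟩
    · rw [← hs y, hf₀]
      exact hy
    · obtain ⟨⟨c, hc⟩, rfl⟩ := (maximalIdeal C).toCotangent_surjective z
      rw [← hmap, Ideal.mem_map_iff_of_surjective ψ hψ] at hc
      obtain ⟨b, hb, rfl⟩ := hc
      exact ⟨(maximalIdeal B).toCotangent ⟨b, hb⟩, hwd ⟨b, hb⟩⟩
  refine congrArg Cardinal.toNat (rank_eq_of_equiv_equiv (ResidueField.map ψ)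
    (AddEquiv.ofBijective j₀ hj) ⟨(ResidueField.map ψ).injective, ?_⟩ ?_)
  · intro c
    obtain ⟨c, rfl⟩ := residue_surjective c
    obtain ⟨b, rfl⟩ := hψ c
    exact ⟨residue B b, ResidueField.map_residue ψ b⟩
  · intro r y
    obtain ⟨r, rfl⟩ := residue_surjective r
    obtain ⟨x, rfl⟩ := (maximalIdeal B).toCotangent_surjective y
    show j₀ (r • (maximalIdeal B).toCotangent x) = _ • j₀ _
    rw [← map_smul]
    show f₀ (s _) = _ • f₀ (s _)
    rw [hwd, hwd, ResidueField.map_residue]
    show (maximalIdeal C).toCotangent _ = ψ r • (maximalIdeal C).toCotangent _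
    rw [← map_smul]
    exact congrArg _ (Subtype.ext (map_mul ψ r x))

theorem map_pPoly {A A' σ : Type*} [CommRing A] [CommRing A'] (g : A →+* A') (p : ℕ) (hp : (p : A') = 0)
    (i : σ) (s : MvPolynomial σ A) (a : A) :
    MvPolynomial.map g (MvPolynomial.X i ^ p + (p : MvPolynomial σ A) * s - MvPolynomial.C a) =
      MvPolynomial.X i ^ p - MvPolynomial.C (g a) := by
  have hp' : (p : MvPolynomial σ A') = 0 := by
    rw [← map_natCast (MvPolynomial.C : A' →+* _), hp, map_zero]
  simp [hp']

/-- Reduction of a finite quotient of a polynomial ring modulo the square of the maximal ideal. -/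
theorem reduce_sq {A A₀ : Type u} [CommRing A] [IsLocalRing A] [IsNoetherianRing A] [CommRing A₀]
    {r : ℕ} (g : A →+* A₀) (hgs : Function.Surjective g) (hg : RingHom.ker g = maximalIdeal A ^ 2)
    (F : Fin r → MvPolynomial (Fin r) A) (G : Fin r → MvPolynomial (Fin r) A₀)
    (hμF : ∀ i, MvPolynomial.map g (F i) = G i)
    [Nontrivial (MvPolynomial (Fin r) A ⧸ Ideal.span (Set.range F))]
    [Module.Finite A (MvPolynomial (Fin r) A ⧸ Ideal.span (Set.range F))]
    [IsLocalRing (MvPolynomial (Fin r) A₀ ⧸ Ideal.span (Set.range G))] :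
    ∃ _ : IsLocalRing (MvPolynomial (Fin r) A ⧸ Ideal.span (Set.range F)),
      Module.finrank (ResidueField (MvPolynomial (Fin r) A ⧸ Ideal.span (Set.range F)))
          (CotangentSpace (MvPolynomial (Fin r) A ⧸ Ideal.span (Set.range F))) =
        Module.finrank (ResidueField (MvPolynomial (Fin r) A₀ ⧸ Ideal.span (Set.range G)))
          (CotangentSpace (MvPolynomial (Fin r) A₀ ⧸ Ideal.span (Set.range G))) := by
  let P := MvPolynomial (Fin r) A
  let B := P ⧸ Ideal.span (Set.range F)
  let B₀ := MvPolynomial (Fin r) A₀ ⧸ Ideal.span (Set.range G)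
  let μ : P →+* MvPolynomial (Fin r) A₀ := MvPolynomial.map g
  have hμ : Function.Surjective μ := MvPolynomial.map_surjective _ hgs
  let ψ₀ : P →+* B₀ := (Ideal.Quotient.mk (Ideal.span (Set.range G))).comp μ
  have hker₀ : RingHom.ker ψ₀ = Ideal.span (Set.range F) ⊔ (RingHom.ker g).map MvPolynomial.C := by
    have h1 : RingHom.ker ψ₀ = (Ideal.span (Set.range G)).comap μ := by
      rw [← RingHom.comap_ker, Ideal.mk_ker]
    have h2 : Ideal.span (Set.range G) = (Ideal.span (Set.range F)).map μ := by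
      rw [Ideal.map_span, ← Set.range_comp]
      congr 2
      funext i
      exact (hμF i).symm
    rw [h1, h2, Ideal.comap_map_of_surjective μ hμ, ← RingHom.ker_eq_comap_bot, MvPolynomial.ker_map,
      ]
  let ψ : B →+* B₀ := Ideal.Quotient.lift _ ψ₀ fun x hx =>
    RingHom.mem_ker.1 (hker₀.ge (Ideal.mem_sup_left hx))
  have hψs : Function.Surjective ψ := fun y => by
    obtain ⟨z, rfl⟩ := Ideal.Quotient.mk_surjective y
    obtain ⟨x, rfl⟩ := hμ z
    exact ⟨Ideal.Quotient.mk _ x, rfl⟩
  have hψk : RingHom.ker ψ = (maximalIdeal A ^ 2).map (algebraMap A B) := by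
    refine le_antisymm (fun b hb => ?_) (Ideal.map_le_iff_le_comap.2 fun a ha => ?_)
    · obtain ⟨x, rfl⟩ := Ideal.Quotient.mk_surjective b
      have hx : x ∈ Ideal.span (Set.range F) ⊔ (RingHom.ker g).map MvPolynomial.C := hker₀.le hb
      obtain ⟨u, hu, v, hv, rfl⟩ := Submodule.mem_sup.1 hx
      rw [map_add, Ideal.Quotient.eq_zero_iff_mem.2 hu, zero_add, ← hg]
      have h := Ideal.mem_map_of_mem (Ideal.Quotient.mk (Ideal.span (Set.range F))) hv
      rw [Ideal.map_map] at h
      exact h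
    · show ψ₀ (MvPolynomial.C a) = 0
      exact RingHom.mem_ker.1 (hker₀.ge (Ideal.mem_sup_right (Ideal.mem_map_of_mem _ (hg.ge ha))))
  have hcontains : ∀ M : Ideal B, M.IsMaximal → (maximalIdeal A).map (algebraMap A B) ≤ M := by
    intro M hM
    haveI := hM
    haveI : (M.comap (algebraMap A B)).IsMaximal := Ideal.isMaximal_comap_of_isIntegral_of_isMaximal M
    exact Ideal.map_le_iff_le_comap.2 (IsLocalRing.eq_maximalIdeal inferInstance).ge
  have hkerM : ∀ M : Ideal B, M.IsMaximal → RingHom.ker ψ ≤ M := fun M hM =>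
    hψk.le.trans ((Ideal.map_mono (Ideal.pow_le_self two_ne_zero)).trans (hcontains M hM))
  haveI hloc : IsLocalRing B := by
    refine IsLocalRing.of_unique_max_ideal ⟨(maximalIdeal B₀).comap ψ,
      Ideal.comap_isMaximal_of_surjective ψ hψs, fun M hM => ?_⟩
    haveI := hM
    rcases Ideal.map_eq_top_or_isMaximal_of_surjective ψ hψs hM with h | h
    · exfalso
      have := congrArg (Ideal.comap ψ) h
      rw [Ideal.comap_map_of_surjective ψ hψs, ← RingHom.ker_eq_comap_bot,
        sup_eq_left.2 (hkerM M hM), Ideal.comap_top] at this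
      exact hM.ne_top this
    · rw [← IsLocalRing.eq_maximalIdeal h, Ideal.comap_map_of_surjective ψ hψs,
        ← RingHom.ker_eq_comap_bot, sup_eq_left.2 (hkerM M hM)]
  haveI : IsNoetherianRing B := isNoetherianRing_of_surjective P B _ Ideal.Quotient.mk_surjective
  have hk2 : RingHom.ker ψ ≤ maximalIdeal B ^ 2 := by
    rw [hψk, Ideal.map_pow]
    exact pow_le_pow_left' (hcontains _ (maximalIdeal.isMaximal B)) 2
  exact ⟨hloc, finrank_cotangent_of_surjective ψ hψs hk2⟩

theorem linearIndependent_residue_iff {A : Type u} [CommRing A] [IsLocalRing A]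
    [IsLocalRing (A ⧸ RingHom.ker (algebraMap A (ResidueField A)) ^ 2)] {ι : Type*} (f : ι → A) :
    LinearIndependent (ResidueField (A ⧸ RingHom.ker (algebraMap A (ResidueField A)) ^ 2))
      (fun i => (1 : ResidueField (A ⧸ RingHom.ker (algebraMap A (ResidueField A)) ^ 2)) ⊗ₜ[A ⧸ RingHom.ker (algebraMap A (ResidueField A)) ^ 2]
        KaehlerDifferential.D ℤ (A ⧸ RingHom.ker (algebraMap A (ResidueField A)) ^ 2)
          (Ideal.Quotient.mk (RingHom.ker (algebraMap A (ResidueField A)) ^ 2) (f i))) ↔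
    LinearIndependent (ResidueField A)
      (fun i => (1 : ResidueField A) ⊗ₜ[A] KaehlerDifferential.D ℤ A (f i)) := by
  let K := ResidueField A
  let A₀ := A ⧸ RingHom.ker (algebraMap A K) ^ 2
  let K₀ := ResidueField A₀
  have hs : Function.Surjective (algebraMap A₀ K) := fun x => by
    obtain ⟨a, rfl⟩ := residue_surjective x
    exact ⟨Ideal.Quotient.mk _ a, (IsScalarTower.algebraMap_apply A A₀ K a).symm⟩
  have hk : RingHom.ker (algebraMap A₀ K) = maximalIdeal A₀ :=
    IsLocalRing.ker_eq_maximalIdeal _ hs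
  let i : K₀ ≃ₐ[A₀] K := (Ideal.quotientEquivAlgOfEq A₀ hk.symm).trans
    (Ideal.quotientKerAlgEquivOfSurjective (f := Algebra.ofId A₀ K) hs)
  let c : K₀ ⊗[A₀] Ω[A₀⁄ℤ] ≃ₗ[A₀] K ⊗[A₀] Ω[A₀⁄ℤ] :=
    TensorProduct.congr i.toLinearEquiv (LinearEquiv.refl A₀ _)
  let t : K ⊗[A₀] Ω[A₀⁄ℤ] ≃ₗ[K] K ⊗[A] Ω[A⁄ℤ] :=
    tensorKaehlerQuotKerSqEquiv ℤ A K
  let j : K₀ ⊗[A₀] Ω[A₀⁄ℤ] ≃+ K ⊗[A] Ω[A⁄ℤ] := c.toAddEquiv.trans t.toAddEquiv
  have hc : ∀ (r : K₀) (x : K₀ ⊗[A₀] Ω[A₀⁄ℤ]), c (r • x) = i r • c x := fun r x => by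
    induction x using TensorProduct.induction_on with
    | zero => simp
    | add a b ha hb => simp only [smul_add, map_add, ha, hb]
    | tmul a w => simp [c, TensorProduct.smul_tmul']
  have hj : ∀ (r : K₀) (x : K₀ ⊗[A₀] Ω[A₀⁄ℤ]), j (r • x) = i r • j x := fun r x => by
    show t (c (r • x)) = i r • t (c x)
    rw [hc, map_smul]
  have hv : (fun k => (1 : K) ⊗ₜ[A] KaehlerDifferential.D ℤ A (f k)) =
      ⇑j ∘ fun k => (1 : K₀) ⊗ₜ[A₀] KaehlerDifferential.D ℤ A₀ (Ideal.Quotient.mk (RingHom.ker (algebraMap A K) ^ 2) (f k)) := by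
    funext k
    simp only [Function.comp_apply, j, AddEquiv.trans_apply, LinearEquiv.coe_toAddEquiv]
    simp [c, t, A₀]
  rw [hv]
  constructor
  · intro h
    exact h.map_of_surjective_injective (fun r => i r) j.toAddMonoidHom i.surjective
      (fun m hm => j.injective (by rw [map_zero]; exact hm)) hj
  · intro h
    have h2 := h.map_of_surjective_injective (fun r => i.symm r) j.symm.toAddMonoidHom i.symm.surjective
      (fun m hm => j.symm.injective (by rw [map_zero]; exact hm)) (fun r x => j.injective (by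
        show j (j.symm (r • x)) = j (i.symm r • j.symm x)
        rw [hj]
        simp))
    convert h2 using 1
    funext k
    exact (j.symm_apply_apply _).symm

end Groth.Agent.H05EGA4.PPoly
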