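import Groth.Agent.H05EGA4.CKBase
import Groth.Agent.H05EGA4.FrobFamily
import Groth.Agent.H05EGA4.CompleteNormalization
import Groth.Agent.H05EGA4.IntegralDim
import Groth.Agent.H05EGA4.CotIdx2
import Groth.Agent.H05EGA4.KaehlerRank

/-! Differentials of the fraction field of a power series ring and Cartier's equality for complete domains. -/

set_option autoImplicit false
set_option linter.style.haveILetI false
set_option maxHeartbeats 1000000

universe u

open TensorProduct KaehlerDifferential IsLocalRing

namespace Groth.Agent.H05EGA4.PSKaehler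

variable {k : Type u} [Field k] {n : ℕ}


/-- A derivation of the coefficient field, coefficientwise. -/
noncomputable def cder (D₀ : Derivation ℤ k k) (g : MvPowerSeries (Fin n) k) : MvPowerSeries (Fin n) k :=
  fun N => D₀ (MvPowerSeries.coeff N g)

theorem coeff_cder (D₀ : Derivation ℤ k k) (g : MvPowerSeries (Fin n) k) (N : Fin n →₀ ℕ) :
    MvPowerSeries.coeff N (cder D₀ g) = D₀ (MvPowerSeries.coeff N g) := rfl

/-- A derivation of the coefficient field acts coefficientwise. -/
theorem exists_coeff_der (D₀ : Derivation ℤ k k) : ∃ f : (MvPowerSeries (Fin n) k) → (MvPowerSeries (Fin n) k), (∀ a b, f (a + b) = f a + f b) ∧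
    (∀ a b, f (a * b) = a * f b + b * f a) ∧ ∀ c, f (algebraMap k (MvPowerSeries (Fin n) k) c) = algebraMap k (MvPowerSeries (Fin n) k) (D₀ c) := by
  classical
  refine ⟨cder D₀, fun a b => MvPowerSeries.ext fun N => ?_, fun a b => MvPowerSeries.ext fun N => ?_, fun c =>
    MvPowerSeries.ext fun N => ?_⟩
  · simp only [coeff_cder, map_add]
  · simp only [map_add, coeff_cder, MvPowerSeries.coeff_mul, map_sum, D₀.leibniz, smul_eq_mul, Finset.sum_add_distrib]
    congr 1
    refine Finset.sum_equiv (Equiv.prodComm _ _) (fun x => ?_) fun x _ => rfl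
    simp [Finset.HasAntidiagonal.mem_antidiagonal, add_comm]
  · rw [coeff_cder, MvPowerSeries.algebraMap_apply, MvPowerSeries.algebraMap_apply, MvPowerSeries.coeff_C, MvPowerSeries.coeff_C]
    split <;> simp

/-- `L ⊗ Ω_k → L ⊗ Ω_K`. -/
noncomputable def alpha (k K L : Type u) [Field k] [Field K] [Field L] [Algebra k K] [Algebra K L] [Algebra k L]
    [IsScalarTower k K L] : L ⊗[k] Ω[k⁄ℤ] →ₗ[L] L ⊗[K] Ω[K⁄ℤ] :=
  (mapBaseChange ℤ k K).baseChange L ∘ₗ (AlgebraTensorModule.cancelBaseChange k K L L Ω[k⁄ℤ]).symm.toLinearMap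

theorem alpha_injective (n : ℕ) (K : Type u) [Field K] [Algebra (MvPowerSeries (Fin n) k) K]
    [IsFractionRing (MvPowerSeries (Fin n) k) K] [Algebra k K] [IsScalarTower k (MvPowerSeries (Fin n) k) K]
    (L : Type u) [Field L] [Algebra K L] [Algebra (MvPowerSeries (Fin n) k) L]
    [IsScalarTower (MvPowerSeries (Fin n) k) K L] [Algebra k L] [IsScalarTower k K L] : Function.Injective (alpha k K L) := by
  let b := Module.Free.chooseBasis k Ω[k⁄ℤ]
  let bL := b.baseChange L
  rw [injective_iff_map_eq_zero]
  intro z hz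
  refine bL.repr.injective (Finsupp.ext fun j => ?_)
  rw [map_zero, Finsupp.zero_apply]
  obtain ⟨f, hadd, hmul, hf⟩ := exists_coeff_der (n := n) ((b.coord j).compDer (D ℤ k))
  obtain ⟨Δ, hΔ⟩ := CKBase.exists_ext (F := K) (L := L) (nonZeroDivisors (MvPowerSeries (Fin n) k)) f hadd hmul
  let Φ : L ⊗[K] Ω[K⁄ℤ] →ₗ[L] L := LinearMap.liftBaseChange L Δ.liftKaehlerDifferential
  have key : ∀ w, Φ (alpha k K L w) = bL.repr w j := by
    intro w
    refine LinearMap.congr_fun (f := Φ ∘ₗ alpha k K L) (g := Finsupp.lapply j ∘ₗ bL.repr.toLinearMap)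
      (AlgebraTensorModule.ext fun l ω => ?_) w
    have hr : bL.repr (l ⊗ₜ ω) j = b.repr ω j • l := Module.Basis.baseChange_repr_tmul (S := L) b l ω j
    simp only [LinearMap.comp_apply, LinearEquiv.coe_coe, Finsupp.lapply_apply, hr]
    have h0 : alpha k K L (l ⊗ₜ ω) = l ⊗ₜ KaehlerDifferential.map ℤ ℤ k K ω := by
      simp [alpha]
    rw [h0, show Φ (l ⊗ₜ KaehlerDifferential.map ℤ ℤ k K ω) = l • Δ.liftKaehlerDifferential (KaehlerDifferential.map ℤ ℤ k K ω)
      from LinearMap.liftBaseChange_tmul (A := L) _ _ _, smul_eq_mul, mul_comm, Algebra.smul_def]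
    congr 1
    clear hr h0
    have hω : ω ∈ Submodule.span k (Set.range (D ℤ k)) := span_range_derivation ℤ k ▸ trivial
    induction hω using Submodule.span_induction with
    | mem x hx =>
      obtain ⟨c, rfl⟩ := hx
      rw [map_D, Derivation.liftKaehlerDifferential_comp_D, IsScalarTower.algebraMap_apply k (MvPowerSeries (Fin n) k) K, hΔ, hf,
        IsScalarTower.algebraMap_apply (MvPowerSeries (Fin n) k) K L, ← IsScalarTower.algebraMap_apply k (MvPowerSeries (Fin n) k) K,
        ← IsScalarTower.algebraMap_apply k K L]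
      rfl
    | zero => simp
    | add x y _ _ hx hy => rw [map_add, map_add, hx, hy, map_add, Finsupp.add_apply, map_add]
    | smul a x _ hx =>
      rw [map_smul, LinearMap.map_smul_of_tower, hx, map_smul, Finsupp.smul_apply, smul_eq_mul, map_mul, Algebra.smul_def]
  rw [← key, hz, map_zero]

variable (K : Type u) [Field K] [Algebra (MvPowerSeries (Fin n) k) K] [Algebra k K] [IsScalarTower k (MvPowerSeries (Fin n) k) K]
  (L : Type u) [Field L] [Algebra K L] [Algebra (MvPowerSeries (Fin n) k) L] [IsScalarTower (MvPowerSeries (Fin n) k) K L] [Algebra k L] [IsScalarTower k K L]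



/-- The differentials of the variables are independent. -/
theorem le_rank [IsFractionRing (MvPowerSeries (Fin n) k) K] : (n : Cardinal.{u}) ≤ Module.rank L (L ⊗[K] Ω[K⁄k]) := by
  classical
  let v : Fin n → L ⊗[K] Ω[K⁄k] := fun i => 1 ⊗ₜ D k K (algebraMap (MvPowerSeries (Fin n) k) K (MvPowerSeries.X i))
  have hv : LinearIndependent L v := by
    rw [Fintype.linearIndependent_iff]
    intro g hg i
    let δ := MvPowerSeries.pderiv (R := k) i
    obtain ⟨Δ, hΔ⟩ := CKBase.exists_ext (F := K) (L := L) (nonZeroDivisors (MvPowerSeries (Fin n) k)) δ (fun a b => map_add δ a b)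
      (fun a b => δ.leibniz a b)
    have hk : ∀ c : k, Δ (algebraMap k K c) = 0 := fun c => by
      rw [IsScalarTower.algebraMap_apply k (MvPowerSeries (Fin n) k) K, hΔ, Derivation.map_algebraMap, map_zero]
    let Δk : Derivation k K L := Derivation.mk'
      { toFun := Δ
        map_add' := map_add Δ
        map_smul' := fun c x => by
          rw [Algebra.smul_def, Δ.leibniz, hk, smul_zero, add_zero, RingHom.id_apply, algebraMap_smul] }
      fun a b => Δ.leibniz a b
    have h1 := congrArg (LinearMap.liftBaseChange L Δk.liftKaehlerDifferential) hg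
    rw [map_sum, map_zero, Finset.sum_eq_single i] at h1
    · rw [map_smul, LinearMap.liftBaseChange_tmul, one_smul, Derivation.liftKaehlerDifferential_comp_D] at h1
      change g i • Δ (algebraMap (MvPowerSeries (Fin n) k) K (MvPowerSeries.X i)) = 0 at h1
      rw [hΔ, MvPowerSeries.pderiv_X_self, map_one, smul_eq_mul, mul_one] at h1
      exact h1
    · intro j _ hj
      rw [map_smul, LinearMap.liftBaseChange_tmul, one_smul, Derivation.liftKaehlerDifferential_comp_D]
      show g j • Δ (algebraMap (MvPowerSeries (Fin n) k) K (MvPowerSeries.X j)) = 0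
      rw [hΔ, MvPowerSeries.pderiv_X_of_ne hj, map_zero, smul_zero]
    · simp
  simpa using hv.cardinal_lift_le_rank

/-- Every series is a combination of polynomials over `k^p[[T^p]]`. -/
theorem span_poly {r : ℕ} (p : ℕ) [hp : Fact p.Prime] (F : Subfield k) [Module.Finite F k] (f : MvPowerSeries (Fin r) k) :
    f ∈ Submodule.span (FrobFamily.ser (r := r) p F) (Set.range fun P : MvPolynomial (Fin r) k => (P : (MvPowerSeries (Fin r) k))) := by
  let bas := Module.Free.chooseBasis F k
  let emb : (Fin r → Fin p) → (Fin r →₀ ℕ) := fun m => Finsupp.equivFunOnFinite.symm fun i => (m i : ℕ)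
  let v : (Fin r → Fin p) × Module.Free.ChooseBasisIndex F k → MvPowerSeries (Fin r) k :=
    fun z => MvPowerSeries.monomial (emb z.1) (bas z.2)
  let Ψ := Fintype.linearCombination (FrobFamily.ser (r := r) p F) v
  have hΨ : ∀ c (n : Fin r →₀ ℕ) (m : Fin r → Fin p),
      MvPowerSeries.coeff (p • n + emb m) (Ψ c) =
        ∑ j, MvPowerSeries.coeff (p • n) (c (m, j) : MvPowerSeries (Fin r) k) * bas j := by
    intro c n m
    rw [Fintype.linearCombination_apply, map_sum, Fintype.sum_prod_type, Finset.sum_eq_single m]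
    · refine Finset.sum_congr rfl fun j _ => ?_
      show MvPowerSeries.coeff (p • n + emb m) ((c (m, j) : MvPowerSeries (Fin r) k) * MvPowerSeries.monomial (emb m) (bas j)) = _
      rw [MvPowerSeries.coeff_add_mul_monomial]
    · intro m' _ hm'
      refine Finset.sum_eq_zero fun j _ => ?_
      show MvPowerSeries.coeff (p • n + emb m) ((c (m', j) : MvPowerSeries (Fin r) k) * MvPowerSeries.monomial (emb m') (bas j)) = _
      rw [MvPowerSeries.coeff_mul_monomial]
      split
      · rename_i hle
        rw [((FrobFamily.mem_ser p).1 (c (m', j)).2).2 _ ?_, zero_mul]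
        by_contra! hall
        refine hm' (funext fun i => Fin.ext ?_)
        obtain ⟨a, ha⟩ := hall i
        have hle' : (m' i : ℕ) ≤ p * n i + (m i : ℕ) := by simpa [emb] using hle i
        have ha' : p * n i + (m i : ℕ) - (m' i : ℕ) = p * a := by simpa [emb] using ha
        have h1 : p * n i + (m i : ℕ) = p * a + (m' i : ℕ) := by omega
        have h2 := congrArg (· % p) h1
        simp only [Nat.mul_add_mod, Nat.mod_eq_of_lt (m i).isLt, Nat.mod_eq_of_lt (m' i).isLt] at h2
        exact h2.symm
      · rfl
    · exact fun h => absurd (Finset.mem_univ _) h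
  have hdec : ∀ N : Fin r →₀ ℕ, ∃ (n : Fin r →₀ ℕ) (m : Fin r → Fin p), p • n + emb m = N := fun N =>
    ⟨N.mapRange (fun a => a / p) (by simp), fun i => ⟨N i % p, Nat.mod_lt _ hp.out.pos⟩, by
      ext i; simp [emb, Nat.div_add_mod]⟩
  have hrepr : ∀ (f : Module.Free.ChooseBasisIndex F k → F), bas.repr (∑ j, (f j : k) * bas j) = Finsupp.equivFunOnFinite.symm f := by
    intro f
    rw [show (∑ j, (f j : k) * bas j) = ∑ j, f j • bas j from rfl]
    exact Finsupp.ext fun i => congrFun (bas.repr_sum_self f) i
  have hsur : ∃ c, Ψ c = f := by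
    let g : (Fin r → Fin p) × Module.Free.ChooseBasisIndex F k → MvPowerSeries (Fin r) F := fun z n =>
      bas.repr (MvPowerSeries.coeff (p • n + emb z.1) f) z.2
    refine ⟨fun z => ⟨_, ⟨g z, rfl⟩⟩, MvPowerSeries.ext fun N => ?_⟩
    obtain ⟨n, m, rfl⟩ := hdec N
    rw [hΨ]
    conv_rhs => rw [← bas.sum_repr (MvPowerSeries.coeff (p • n + emb m) f)]
    refine Finset.sum_congr rfl fun j _ => ?_
    show MvPowerSeries.coeff (p • n) ((MvPowerSeries.map F.subtype) (MvPowerSeries.expand p hp.out.ne_zero (g (m, j)))) * bas j = _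
    rw [MvPowerSeries.coeff_map, MvPowerSeries.coeff_expand_smul]
    rfl
  obtain ⟨c, rfl⟩ := hsur
  rw [Fintype.linearCombination_apply]
  refine Submodule.sum_mem _ fun z _ => Submodule.smul_mem _ _ (Submodule.subset_span ⟨MvPolynomial.monomial (emb z.1) (bas z.2), ?_⟩)
  exact MvPolynomial.coe_monomial _ _

/-- `Ω_{(MvPowerSeries (Fin n) k)/k}` is spanned by the differentials of the variables when `k` is finite over `k^p`. -/
theorem span_D_X (p : ℕ) [Fact p.Prime] [CharP k p] (hk : (frobenius k p).Finite) :
    Submodule.span (MvPowerSeries (Fin n) k) (Set.range fun i => D k (MvPowerSeries (Fin n) k) (MvPowerSeries.X i)) = (⊤ : Submodule (MvPowerSeries (Fin n) k) Ω[(MvPowerSeries (Fin n) k)⁄k]) := by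
  classical
  haveI : ExpChar k p := ExpChar.prime Fact.out
  let F := (frobenius k p).fieldRange
  haveI : Module.Finite F k := by
    obtain ⟨s, hs⟩ := @Module.Finite.fg_top k k _ _ (@Algebra.toModule k k _ _ (frobenius k p).toAlgebra) hk
    refine ⟨⟨s, eq_top_iff.2 fun x h => ?_⟩⟩
    clear h
    have hx : x ∈ @Submodule.span k k _ _ (@Algebra.toModule k k _ _ (frobenius k p).toAlgebra) (s : Set k) := by
      rw [hs]; trivial
    induction hx using Submodule.span_induction with
    | mem y hy => exact Submodule.subset_span hy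
    | zero => exact zero_mem _
    | add y z _ _ hy hz => exact add_mem hy hz
    | smul c y _ hy => exact Submodule.smul_mem _ (⟨frobenius k p c, c, rfl⟩ : F) hy
  set S := Submodule.span (MvPowerSeries (Fin n) k) (Set.range fun i => D k (MvPowerSeries (Fin n) k) (MvPowerSeries.X i)) with hS
  have hpoly : ∀ P : MvPolynomial (Fin n) k, D k (MvPowerSeries (Fin n) k) (P : (MvPowerSeries (Fin n) k)) ∈ S := by
    intro P
    induction P using MvPolynomial.induction_on with
    | C a =>
      rw [MvPolynomial.coe_C, show MvPowerSeries.C a = algebraMap k (MvPowerSeries (Fin n) k) a from rfl, Derivation.map_algebraMap]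
      exact zero_mem _
    | add P Q hP hQ => rw [MvPolynomial.coe_add, map_add]; exact add_mem hP hQ
    | mul_X P i hP =>
      rw [MvPolynomial.coe_mul, MvPolynomial.coe_X, Derivation.leibniz]
      exact add_mem (S.smul_mem _ (Submodule.subset_span ⟨i, rfl⟩)) (S.smul_mem _ hP)
  have hpow : ∀ c ∈ FrobFamily.ser (r := n) p F, D k (MvPowerSeries (Fin n) k) c = 0 := by
    intro c hc
    obtain ⟨h1, h2⟩ := (FrobFamily.mem_ser p).1 hc
    choose r hr using h1
    let h : MvPowerSeries (Fin n) k := fun m => r (p • m)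
    have : c = h ^ p := by
      refine MvPowerSeries.ext fun N => ?_
      rw [← MvPowerSeries.map_frobenius_expand p (Fact.out : p.Prime).ne_zero, MvPowerSeries.coeff_map]
      by_cases hN : ∀ i, p ∣ N i
      · obtain ⟨m, rfl⟩ := FrobFamily.exists_smul p hN
        rw [MvPowerSeries.coeff_expand_smul]
        exact (hr (p • m)).symm
      · push Not at hN
        obtain ⟨i, hi⟩ := hN
        rw [MvPowerSeries.coeff_expand_of_not_dvd p _ _ hi, map_zero, h2 N ⟨i, hi⟩]
    have hp0 : (p : (MvPowerSeries (Fin n) k)) = 0 := by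
      rw [← map_natCast (algebraMap k (MvPowerSeries (Fin n) k)), CharP.cast_eq_zero, map_zero]
    rw [this, Derivation.leibniz_pow, ← Nat.cast_smul_eq_nsmul (MvPowerSeries (Fin n) k), hp0, zero_smul]
  obtain ⟨hfree, hfin⟩ := FrobFamily.free_finite (r := n) p F
  rw [eq_top_iff, ← span_range_derivation, Submodule.span_le]
  rintro _ ⟨f, rfl⟩
  let bas := Module.Free.chooseBasis F k
  have hf : f ∈ Submodule.span (FrobFamily.ser (r := n) p F)
      (Set.range fun P : MvPolynomial (Fin n) k => (P : (MvPowerSeries (Fin n) k))) := span_poly p F f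
  induction hf using Submodule.span_induction with
  | mem y hy => obtain ⟨P, rfl⟩ := hy; exact hpoly P
  | zero => rw [map_zero]; exact zero_mem _
  | add y z _ _ hy hz => rw [map_add]; exact add_mem hy hz
  | smul c y _ hy =>
    show D k (MvPowerSeries (Fin n) k) ((c : (MvPowerSeries (Fin n) k)) * y) ∈ S
    rw [Derivation.leibniz, hpow _ c.2, smul_zero, add_zero]
    exact S.smul_mem _ hy

theorem finite_of_exact {L M N P : Type u} [Field L] [AddCommGroup M] [Module L M] [AddCommGroup N] [Module L N]
    [AddCommGroup P] [Module L P] (f : M →ₗ[L] N) (g : N →ₗ[L] P) (h : Function.Exact f g)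
    [Module.Finite L (LinearMap.range f)] [Module.Finite L (LinearMap.range g)] : Module.Finite L N := by
  haveI : Module.Finite L (LinearMap.ker g) := by rw [LinearMap.exact_iff.1 h]; infer_instance
  haveI : Module.Finite L (N ⧸ LinearMap.ker g) := Module.Finite.equiv g.quotKerEquivRange.symm
  exact Module.Finite.of_submodule_quotient (LinearMap.ker g)

/-- Cartier's equality through an intermediate field with injective base change of differentials. -/
theorem cartier_through (k K L : Type u) [Field k] [Field K] [Field L] [Algebra k K] [Algebra K L] [Algebra k L]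
    [IsScalarTower k K L] [Module.Finite K L] (hα : Function.Injective (alpha k K L)) :
    Module.Finite L (LinearMap.ker (mapBaseChange ℤ k L)) ∧
      (Module.Finite L (L ⊗[K] Ω[K⁄k]) ↔ Module.Finite L Ω[L⁄k]) ∧
      (Module.Finite L Ω[L⁄k] →
        Module.finrank L Ω[L⁄k] = Module.finrank L (L ⊗[K] Ω[K⁄k]) + Module.finrank L (LinearMap.ker (mapBaseChange ℤ k L))) := by
  obtain ⟨hΩ, hker, hcar⟩ := CotIdx.cartier K L
  rw [trdeg_eq_zero, map_zero, Nat.cast_zero] at hcar
  let α := alpha k K L
  let β := mapBaseChange ℤ K L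
  let γ := mapBaseChange ℤ k L
  have hcomp : β ∘ₗ α = γ := KaehlerRank.mapBaseChange_comp ℤ k K L
  haveI : Module.Finite L (LinearMap.ker β) := hker
  haveI hγ : Module.Finite L (LinearMap.ker γ) := by
    let h : LinearMap.ker γ →ₗ[L] LinearMap.ker β := α.restrict fun z hz => by
      rw [LinearMap.mem_ker] at hz ⊢
      rw [← hz, ← hcomp]; rfl
    have hh : Function.Injective h := fun a b hab => Subtype.ext (hα (congrArg Subtype.val hab : α a = α b))
    haveI : IsNoetherian L ↥(LinearMap.ker β) := isNoetherian_of_isNoetherianRing_of_finite L ↥(LinearMap.ker β)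
    exact Module.Finite.of_injective h hh
  let π := (KaehlerDifferential.map ℤ k K K).baseChange L
  have hπs : Function.Surjective π := LinearMap.lTensor_surjective L (map_surjective ℤ k K)
  have hπ : LinearMap.ker π = LinearMap.range α := by
    show _ = LinearMap.range (alpha k K L)
    rw [alpha, LinearMap.range_comp_of_range_eq_top _ (LinearEquiv.range _)]
    ext z
    exact lTensor_exact L (exact_mapBaseChange_map ℤ k K) (map_surjective ℤ k K) z
  let q : ((L ⊗[K] Ω[K⁄ℤ]) ⧸ LinearMap.range α) ≃ₗ[L] L ⊗[K] Ω[K⁄k] :=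
    (Submodule.quotEquivOfEq _ _ hπ.symm).trans (π.quotKerEquivOfSurjective hπs)
  let qk : (Ω[L⁄ℤ] ⧸ LinearMap.range γ) ≃ₗ[L] Ω[L⁄k] :=
    (Submodule.quotEquivOfEq _ _ (LinearMap.exact_iff.1 (exact_mapBaseChange_map ℤ k L)).symm).trans
      ((KaehlerDifferential.map ℤ k L L).quotKerEquivOfSurjective (map_surjective ℤ k L))
  let qK : (Ω[L⁄ℤ] ⧸ LinearMap.range β) ≃ₗ[L] Ω[L⁄K] :=
    (Submodule.quotEquivOfEq _ _ (LinearMap.exact_iff.1 (exact_mapBaseChange_map ℤ K L)).symm).trans
      ((KaehlerDifferential.map ℤ K L L).quotKerEquivOfSurjective (map_surjective ℤ K L))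
  haveI := hΩ
  let δ := mapBaseChange k K L
  have hδ : δ ∘ₗ π = KaehlerDifferential.map ℤ k L L ∘ₗ β := by
    refine AlgebraTensorModule.ext fun l ω => ?_
    simp only [LinearMap.comp_apply, π, δ, β, LinearMap.baseChange_tmul, mapBaseChange_tmul, map_smul]
    congr 1
    have hω : ω ∈ Submodule.span K (Set.range (D ℤ K)) := span_range_derivation ℤ K ▸ trivial
    induction hω using Submodule.span_induction with
    | mem x hx =>
      obtain ⟨a, rfl⟩ := hx
      simp only [map_D]
      rfl
    | zero => simp
    | add x y _ _ hx hy => simp only [map_add, hx, hy]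
    | smul a x _ hx => simp only [map_smul, LinearMap.map_smul_of_tower, hx]
  have hδker : Module.Finite L (LinearMap.ker δ) := by
    have h : LinearMap.ker δ ≤ (LinearMap.ker β).map π := fun x hx => by
      obtain ⟨z, rfl⟩ := hπs x
      obtain ⟨y, hy⟩ := (exact_mapBaseChange_map ℤ k L (β z)).1 ((LinearMap.congr_fun hδ z).symm.trans hx)
      refine ⟨z - α y, ?_, ?_⟩
      · rw [SetLike.mem_coe, LinearMap.mem_ker, map_sub, show β (α y) = γ y from LinearMap.congr_fun hcomp y]
        exact sub_eq_zero.2 hy.symm
      · rw [map_sub, LinearMap.mem_ker.1 (hπ ▸ LinearMap.mem_range_self α y : α y ∈ LinearMap.ker π), sub_zero]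
    exact Submodule.finiteDimensional_of_le h
  have hiff : Module.Finite L (L ⊗[K] Ω[K⁄k]) ↔ Module.Finite L Ω[L⁄k] := by
    constructor <;> intro h
    · exact finite_of_exact δ (KaehlerDifferential.map k K L L) (exact_mapBaseChange_map k K L)
    · haveI : Module.Finite L (LinearMap.range δ) := inferInstance
      haveI := hδker
      haveI : Module.Finite L ((L ⊗[K] Ω[K⁄k]) ⧸ LinearMap.ker δ) := Module.Finite.equiv δ.quotKerEquivRange.symm
      exact Module.Finite.of_submodule_quotient (LinearMap.ker δ)
  refine ⟨hγ, hiff, fun h => ?_⟩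
  haveI := hiff.2 h
  haveI : FiniteDimensional L (LinearMap.ker α) := by rw [LinearMap.ker_eq_bot.2 hα]; infer_instance
  haveI : FiniteDimensional L ((L ⊗[K] Ω[K⁄ℤ]) ⧸ LinearMap.range α) := Module.Finite.equiv q.symm
  haveI : FiniteDimensional L (Ω[L⁄ℤ] ⧸ LinearMap.range β) := Module.Finite.equiv qK.symm
  have hsum := LinearMap.index_comp (f := α) β
  rw [hcomp, LinearMap.index_eq_finrank_sub, LinearMap.index_eq_finrank_sub, LinearMap.index_of_injective hα,
    q.finrank_eq, qk.finrank_eq, qK.finrank_eq] at hsum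
  have hcar' : (Module.finrank L Ω[L⁄K] : ℤ) - Module.finrank L (LinearMap.ker β) = 0 := hcar
  show Module.finrank L Ω[L⁄k] = Module.finrank L (L ⊗[K] Ω[K⁄k]) + Module.finrank L (LinearMap.ker γ)
  omega

section Domain

variable (p : ℕ) [Fact p.Prime] [CharP k p]

theorem finite_kaehler (hk : (frobenius k p).Finite) : Module.Finite (MvPowerSeries (Fin n) k) Ω[(MvPowerSeries (Fin n) k)⁄k] := by
  classical
  exact ⟨⟨Finset.univ.image fun i => D k _ (MvPowerSeries.X i), by
    rw [Finset.coe_image, Finset.coe_univ, Set.image_univ, span_D_X p hk]⟩⟩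

theorem finite_kaehler_of_finite (hk : (frobenius k p).Finite) (C : Type u) [CommRing C] [Algebra k C]
    [Algebra (MvPowerSeries (Fin n) k) C] [IsScalarTower k (MvPowerSeries (Fin n) k) C]
    [Module.Finite (MvPowerSeries (Fin n) k) C] : Module.Finite C Ω[C⁄k] := by
  haveI := finite_kaehler (n := n) p hk
  let f := mapBaseChange k (MvPowerSeries (Fin n) k) C
  let g := KaehlerDifferential.map k (MvPowerSeries (Fin n) k) C C
  refine ⟨Submodule.fg_of_fg_map_of_fg_inf_ker g ?_ ?_⟩
  · rw [Submodule.map_top, LinearMap.range_eq_top.2 (map_surjective k (MvPowerSeries (Fin n) k) C)]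
    exact Module.Finite.fg_top
  · rw [top_inf_eq, LinearMap.exact_iff.1 (exact_mapBaseChange_map k (MvPowerSeries (Fin n) k) C), LinearMap.range_eq_map]
    exact Module.Finite.fg_top.map f

theorem finrank_eq_n (hk : (frobenius k p).Finite) [IsFractionRing (MvPowerSeries (Fin n) k) K] :
    Module.Finite L (L ⊗[K] Ω[K⁄k]) ∧ Module.finrank L (L ⊗[K] Ω[K⁄k]) = n := by
  classical
  haveI := Algebra.FormallyEtale.of_isLocalization (Rₘ := K) (nonZeroDivisors (MvPowerSeries (Fin n) k))
  let e := tensorKaehlerEquivOfFormallyEtale k (MvPowerSeries (Fin n) k) K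
  let v : Fin n → Ω[K⁄k] := fun i => D k K (algebraMap (MvPowerSeries (Fin n) k) K (MvPowerSeries.X i))
  have hv : Submodule.span K (Set.range v) = ⊤ := by
    rw [eq_top_iff]
    intro x hx
    clear hx
    obtain ⟨z, rfl⟩ := e.surjective x
    induction z using TensorProduct.induction_on with
    | zero => rw [map_zero]; exact zero_mem _
    | add a b ha hb => rw [map_add]; exact add_mem ha hb
    | tmul c ω =>
      rw [show e (c ⊗ₜ ω) = c • KaehlerDifferential.map k k _ K ω from mapBaseChange_tmul k _ K c ω]
      refine Submodule.smul_mem _ c ?_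
      have hω : ω ∈ Submodule.span (MvPowerSeries (Fin n) k) (Set.range fun i => D k _ (MvPowerSeries.X i)) := by
        rw [span_D_X p hk]; trivial
      induction hω using Submodule.span_induction with
      | mem y hy => obtain ⟨i, rfl⟩ := hy; rw [map_D]; exact Submodule.subset_span ⟨i, rfl⟩
      | zero => rw [map_zero]; exact zero_mem _
      | add a b _ _ ha hb => rw [map_add]; exact add_mem ha hb
      | smul a b _ hb => rw [map_smul, ← algebraMap_smul K a]; exact Submodule.smul_mem _ _ hb
  haveI : Module.Finite K Ω[K⁄k] := ⟨⟨Finset.univ.image v, by rw [Finset.coe_image, Finset.coe_univ, Set.image_univ, hv]⟩⟩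
  refine ⟨inferInstance, ?_⟩
  rw [Module.finrank_baseChange]
  have h1 : Module.finrank K Ω[K⁄k] ≤ n := by
    have := finrank_range_le_card (R := K) v
    rw [Set.finrank, hv, finrank_top, Fintype.card_fin] at this
    exact this
  have h2 := le_rank (k := k) (n := n) K L
  rw [← Module.finrank_eq_rank, Module.finrank_baseChange, Nat.cast_le] at h2
  omega

end Domain

/-- A complete local domain is finite over a power series ring of the same dimension. -/
theorem exists_normalization (C : Type u) [CommRing C] [IsDomain C] [IsNoetherianRing C] [IsLocalRing C] [Algebra k C]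
    [IsAdicComplete (maximalIdeal C) C] [Module.Finite k (ResidueField C)] (hn : ringKrullDim C = n) :
    ∃ (_ : Algebra (MvPowerSeries (Fin n) k) C), IsScalarTower k (MvPowerSeries (Fin n) k) C ∧
      Module.Finite (MvPowerSeries (Fin n) k) C ∧ Function.Injective (algebraMap (MvPowerSeries (Fin n) k) C) := by
  haveI : IsLocalHom (algebraMap k C) := ⟨fun a ha => isUnit_iff_ne_zero.2 fun h => by simp [h] at ha⟩
  obtain ⟨m, ψ, hinj, hfin, -⟩ := H05EGA4.exists_finite_injective_mvPowerSeries (Λ := k) (A := C)
    (Or.inl (Field.toIsField k)) inferInstance (algebraMap k C).injective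
  letI : Algebra (MvPowerSeries (Fin m) k) C := ψ.toRingHom.toAlgebra
  haveI : Module.Finite (MvPowerSeries (Fin m) k) C := hfin
  haveI : Algebra.IsIntegral (MvPowerSeries (Fin m) k) C := Algebra.IsIntegral.of_finite _ _
  have hd := (H05EGA4.dim_int (MvPowerSeries (Fin m) k) C).2 hinj
  rw [H02CA.PS.ringKrullDim_eq, hn] at hd
  obtain rfl : n = m := by exact_mod_cast hd
  exact ⟨ψ.toRingHom.toAlgebra, IsScalarTower.of_algebraMap_eq fun c => (ψ.commutes c).symm, hfin, hinj⟩

/-- The data of a normalisation, on fraction fields. -/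
theorem setup (C L : Type u) [CommRing C] [IsDomain C] [IsNoetherianRing C] [IsLocalRing C] [Algebra k C]
    [IsAdicComplete (maximalIdeal C) C] [Module.Finite k (ResidueField C)] (hn : ringKrullDim C = n)
    [Field L] [Algebra C L] [IsFractionRing C L] [Algebra k L] [IsScalarTower k C L] :
    ∃ (_ : Algebra (MvPowerSeries (Fin n) k) C) (_ : IsScalarTower k (MvPowerSeries (Fin n) k) C)
      (_ : Module.Finite (MvPowerSeries (Fin n) k) C)
      (_ : Algebra (MvPowerSeries (Fin n) k) L) (K : Type u) (_ : Field K) (_ : Algebra (MvPowerSeries (Fin n) k) K)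
      (_ : IsFractionRing (MvPowerSeries (Fin n) k) K) (_ : Algebra k K) (_ : IsScalarTower k (MvPowerSeries (Fin n) k) K)
      (_ : Algebra K L) (_ : IsScalarTower (MvPowerSeries (Fin n) k) K L) (_ : IsScalarTower k K L), Module.Finite K L := by
  obtain ⟨iC, hT, hfin, hinj⟩ := exists_normalization (k := k) (n := n) C hn
  haveI := hT
  haveI := hfin
  let R := MvPowerSeries (Fin n) k
  letI : Algebra R L := ((algebraMap C L).comp (algebraMap R C)).toAlgebra
  haveI : IsScalarTower R C L := IsScalarTower.of_algebraMap_eq fun _ => rfl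
  have hinjL : Function.Injective (algebraMap R L) := (IsFractionRing.injective C L).comp hinj
  let K := FractionRing R
  letI : Algebra K L := (IsFractionRing.lift hinjL).toAlgebra
  haveI : IsScalarTower R K L := IsScalarTower.of_algebraMap_eq fun x => (IsFractionRing.lift_algebraMap hinjL x).symm
  haveI : IsScalarTower k K L := IsScalarTower.of_algebraMap_eq fun c => by
    rw [IsScalarTower.algebraMap_apply k R K, ← IsScalarTower.algebraMap_apply R K L,
      IsScalarTower.algebraMap_apply R C L, ← IsScalarTower.algebraMap_apply k R C, IsScalarTower.algebraMap_apply k C L]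
  haveI : FaithfulSMul R L := (faithfulSMul_iff_algebraMap_injective R L).2 hinjL
  haveI : FaithfulSMul R C := (faithfulSMul_iff_algebraMap_injective R C).2 hinj
  haveI : IsLocalization (Algebra.algebraMapSubmonoid C (nonZeroDivisors R)) L :=
    inferInstance
  exact ⟨iC, hT, hfin, inferInstance, K, inferInstance, inferInstance, inferInstance, inferInstance, inferInstance,
    inferInstance, inferInstance, inferInstance, Module.Finite.of_isLocalization R C (nonZeroDivisors R)⟩

end Groth.Agent.H05EGA4.PSKaehler
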