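import Mathlib
import Groth.Agent.H06Red.Algebra

/-!
When is `K ⊗ k^{p^-∞}` Artinian (helper5).
-/

set_option autoImplicit false
set_option linter.style.haveILetI false
set_option maxHeartbeats 1000000
universe u
open TensorProduct

namespace Groth.Agent.H05EGA4.PerfArt

/-- A ring all of whose elements are units or nilpotent, with finitely generated nilradical, is Artinian. -/
theorem isArtinianRing_of_fg (T : Type u) [CommRing T] [Nontrivial T] (J : Ideal T) (hfg : J.FG)
    (hJ : J ≤ nilradical T) (hu : ∀ z, z ∈ J ∨ IsUnit z) : IsArtinianRing T := by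
  have hp : ∀ q : Ideal T, q.IsPrime → q = J := fun q hq => by
    refine le_antisymm (fun z hz => (hu z).resolve_right fun h => hq.ne_top (q.eq_top_of_isUnit_mem hz h)) ?_
    exact hJ.trans (nilradical_le_prime q)
  haveI : IsNoetherianRing T := IsNoetherianRing.of_prime fun q hq => hp q hq ▸ hfg
  refine isArtinianRing_iff_isNoetherianRing_krullDimLE_zero.2 ⟨inferInstance, ?_⟩
  exact Ring.krullDimLE_zero_iff.2 fun q hq => by
    obtain ⟨M, hM, hle⟩ := Ideal.exists_le_maximal q hq.ne_top
    rw [hp q hq, ← hp M hM.isPrime]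
    exact hM

section
variable (p : ℕ) [Fact p.Prime] (k K P : Type u) [Field k] [CharP k p] [Field K] [Algebra k K]
  [Field P] [Algebra k P] [IsPRadical (algebraMap k P) p]

include p in
theorem isAlgebraic_P : Algebra.IsAlgebraic k P := by
  refine ⟨fun x => ?_⟩
  obtain ⟨n, c, hc⟩ := IsPRadical.pow_mem (algebraMap k P) p x
  refine IsAlgebraic.of_pow (n := p ^ n) (pow_pos (Fact.out (p := p.Prime)).pos n) ?_
  rw [← hc]
  exact isAlgebraic_algebraMap c

theorem exists_pow_mem (z : P ⊗[k] K) : ∃ (n : ℕ) (a : K), z ^ p ^ n = 1 ⊗ₜ a := by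
  haveI : CharP (P ⊗[k] K) p := charP_of_injective_ringHom (algebraMap k (P ⊗[k] K)).injective p
  induction z with
  | zero => exact ⟨0, 0, by simp⟩
  | tmul x a =>
    obtain ⟨n, c, hc⟩ := IsPRadical.pow_mem (algebraMap k P) p x
    refine ⟨n, algebraMap k K c * a ^ p ^ n, ?_⟩
    rw [Algebra.TensorProduct.tmul_pow, ← hc, ← mul_one (algebraMap k P c), ← Algebra.smul_def,
      TensorProduct.smul_tmul, Algebra.smul_def]
  | add x y hx hy =>
    obtain ⟨n, a, ha⟩ := hx
    obtain ⟨m, b, hb⟩ := hy
    refine ⟨n + m, a ^ p ^ m + b ^ p ^ n, ?_⟩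
    have h1 : x ^ p ^ (n + m) = 1 ⊗ₜ (a ^ p ^ m) := by
      rw [pow_add, pow_mul, ha, Algebra.TensorProduct.tmul_pow, one_pow]
    have h2 : y ^ p ^ (n + m) = 1 ⊗ₜ (b ^ p ^ n) := by
      rw [add_comm n m, pow_add, pow_mul, hb, Algebra.TensorProduct.tmul_pow, one_pow]
    rw [add_pow_char_pow, h1, h2, tmul_add]

theorem exists_finset_mem (z : P ⊗[k] K) : ∃ s : Finset P, ∀ E : IntermediateField k P, (s : Set P) ⊆ E →
    ∃ w : E ⊗[k] K, Algebra.TensorProduct.map E.val (AlgHom.id k K) w = z := by
  classical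
  induction z with
  | zero => exact ⟨∅, fun E _ => ⟨0, map_zero _⟩⟩
  | tmul x a => exact ⟨{x}, fun E hE => ⟨⟨x, hE (by simp)⟩ ⊗ₜ a, rfl⟩⟩
  | add x y hx hy =>
    obtain ⟨s, hs⟩ := hx
    obtain ⟨t, ht⟩ := hy
    refine ⟨s ∪ t, fun E hE => ?_⟩
    rw [Finset.coe_union, Set.union_subset_iff] at hE
    obtain ⟨w, hw⟩ := hs E hE.1
    obtain ⟨v, hv⟩ := ht E hE.2
    exact ⟨w + v, by rw [map_add, hw, hv]⟩

end

section
variable (k K E P : Type u) [Field k] [Field K] [Algebra k K] [Field E] [Algebra k E] [Field P] [Algebra k P]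
  [Algebra E P] [IsScalarTower k E P]

/-- The base change map `E ⊗ K → P ⊗ K`. -/
noncomputable abbrev ι : E ⊗[k] K →ₐ[k] P ⊗[k] K :=
  Algebra.TensorProduct.map (IsScalarTower.toAlgHom k E P) (AlgHom.id k K)

theorem cancel_tmul_one (w : E ⊗[k] K) :
    Algebra.TensorProduct.cancelBaseChange k E E P K (1 ⊗ₜ w) = ι k K E P w := by
  induction w with
  | zero => simp
  | add x y hx hy => rw [tmul_add, map_add, map_add, hx, hy]
  | tmul x a =>
    rw [Algebra.TensorProduct.cancelBaseChange_tmul, Algebra.TensorProduct.map_tmul]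
    simp [Algebra.smul_def]

/-- The extension of the nilradical is nilradical iff the quotient stays reduced. -/
theorem mem_map_iff (z : P ⊗[k] K) :
    z ∈ (nilradical (E ⊗[k] K)).map (ι k K E P) ↔
      Algebra.TensorProduct.map (AlgHom.id E P) (Ideal.Quotient.mkₐ E (nilradical (E ⊗[k] K)))
        ((Algebra.TensorProduct.cancelBaseChange k E E P K).symm z) = 0 := by
  set R := E ⊗[k] K
  set e := Algebra.TensorProduct.cancelBaseChange k E E P K
  set J : Ideal (P ⊗[E] R) := (nilradical R).map (Algebra.TensorProduct.includeRight : R →ₐ[E] P ⊗[E] R)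
  have hk : RingHom.ker (Algebra.TensorProduct.map (AlgHom.id E P) (Ideal.Quotient.mkₐ E (nilradical R))) = J := by
    have h := Algebra.TensorProduct.lTensor_ker (A := P) (Ideal.Quotient.mkₐ E (nilradical R))
      Ideal.Quotient.mk_surjective
    rw [h]
    congr 1
    exact Ideal.mk_ker
  rw [← RingHom.mem_ker, hk]
  have : (nilradical R).map (ι k K E P) = J.map e.toRingEquiv.toRingHom := by
    refine le_antisymm (Ideal.map_le_iff_le_comap.2 fun w hw => ?_) (Ideal.map_le_iff_le_comap.2 (Ideal.map_le_iff_le_comap.2 fun w hw => ?_))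
    · show ι k K E P w ∈ J.map e.toRingEquiv.toRingHom
      rw [← cancel_tmul_one k K E P w]
      exact Ideal.mem_map_of_mem e.toRingEquiv.toRingHom
        (Ideal.mem_map_of_mem (Algebra.TensorProduct.includeRight : R →ₐ[E] P ⊗[E] R) hw)
    · show e (1 ⊗ₜ w) ∈ (nilradical R).map (ι k K E P)
      rw [cancel_tmul_one k K E P w]
      exact Ideal.mem_map_of_mem _ hw
  rw [this, Ideal.mem_map_iff_of_surjective e.toRingEquiv.toRingHom e.toRingEquiv.surjective]
  constructor
  · rintro ⟨x, hx, rfl⟩
    rwa [show e.symm (e.toRingEquiv.toRingHom x) = x from e.symm_apply_apply x]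
  · exact fun h => ⟨_, h, e.apply_symm_apply z⟩

end

section
variable (k K : Type u) [Field k] [Field K] [Algebra k K] (E : Type u) (P : Type u) [Field P] [Algebra k P]
theorem forward_aux [Field E] [Algebra k E] [Algebra E P] [IsScalarTower k E P]
    [Algebra.IsAlgebraic E P] [PerfectField P]
    (hle : nilradical (P ⊗[k] K) ≤ (nilradical (E ⊗[k] K)).map (ι k K E P)) :
    Algebra.IsGeometricallyReduced E ((E ⊗[k] K) ⧸ nilradical (E ⊗[k] K)) := by
  haveI : IsReduced (P ⊗[E] ((E ⊗[k] K) ⧸ nilradical (E ⊗[k] K))) := by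
    refine ⟨fun x hx => ?_⟩
    obtain ⟨n, hn⟩ := hx
    have hπ : Function.Surjective (Algebra.TensorProduct.map (AlgHom.id E P) (Ideal.Quotient.mkₐ E (nilradical (E ⊗[k] K)))) :=
      Algebra.TensorProduct.map_surjective _ _ Function.surjective_id Ideal.Quotient.mk_surjective
    obtain ⟨y, rfl⟩ := hπ x
    let e := Algebra.TensorProduct.cancelBaseChange k E E P K
    have h1 : (e y) ^ n ∈ (nilradical (E ⊗[k] K)).map (ι k K E P) := by
      rw [mem_map_iff, map_pow, e.symm_apply_apply, map_pow, hn]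
    have h2 : (nilradical (E ⊗[k] K)).map (ι k K E P) ≤ nilradical (P ⊗[k] K) := Ideal.map_le_iff_le_comap.2 fun r hr => by
      obtain ⟨m, hm⟩ := hr
      exact ⟨m, by rw [← map_pow, show r ^ m = 0 from hm]; exact map_zero _⟩
    have h3 : e y ∈ nilradical (P ⊗[k] K) := by
      obtain ⟨m, hm⟩ := h2 h1
      exact ⟨n * m, (pow_mul _ _ _).trans hm⟩
    have h4 := (mem_map_iff k K E P (e y)).1 (hle h3)
    rwa [e.symm_apply_apply] at h4
  haveI := H06Red.isGeometricallyReduced_of_perfectField P (P ⊗[E] ((E ⊗[k] K) ⧸ nilradical (E ⊗[k] K)))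
  rw [Algebra.isGeometricallyReduced_field_iff]
  haveI h5 := (Algebra.isGeometricallyReduced_field_iff P _).1 ‹Algebra.IsGeometricallyReduced P (P ⊗[E] ((E ⊗[k] K) ⧸ nilradical (E ⊗[k] K)))›
  haveI : IsReduced (AlgebraicClosure P ⊗[E] ((E ⊗[k] K) ⧸ nilradical (E ⊗[k] K))) :=
    isReduced_of_injective _ (Algebra.TensorProduct.cancelBaseChange E P P (AlgebraicClosure P) ((E ⊗[k] K) ⧸ nilradical (E ⊗[k] K))).symm.injective
  haveI : IsAlgClosure E (AlgebraicClosure P) :=
    ⟨inferInstance, Algebra.IsAlgebraic.trans E P (AlgebraicClosure P)⟩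
  exact isReduced_of_injective _
    (Algebra.TensorProduct.congr (IsAlgClosure.equiv E (AlgebraicClosure E) (AlgebraicClosure P)) AlgEquiv.refl).injective


end

variable (p : ℕ) [Fact p.Prime] (k K P : Type u) [Field k] [CharP k p] [Field K] [Algebra k K]
  [Field P] [Algebra k P] [PerfectRing P p] [IsPRadical (algebraMap k P) p]

include p

theorem forward (h : IsArtinianRing (P ⊗[k] K)) :
    ∃ (k' : Type u) (_ : Field k') (_ : Algebra k k'), Module.Finite k k' ∧ IsPurelyInseparable k k' ∧
      Algebra.IsGeometricallyReduced k' ((k' ⊗[k] K) ⧸ nilradical (k' ⊗[k] K)) := by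
  classical
  haveI := h
  haveI := isAlgebraic_P p k P
  haveI : ExpChar k p := ExpChar.prime Fact.out
  haveI : CharP P p := charP_of_injective_ringHom (algebraMap k P).injective p
  haveI : ExpChar P p := ExpChar.prime Fact.out
  haveI : PerfectField P := PerfectRing.toPerfectField P p
  obtain ⟨S, hS⟩ := IsNoetherian.noetherian (nilradical (P ⊗[k] K))
  choose s hs using exists_finset_mem k K P
  let E := IntermediateField.adjoin k ((S.biUnion s : Finset P) : Set P)
  haveI : FiniteDimensional k E := IntermediateField.finiteDimensional_adjoin fun x _ =>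
    (Algebra.IsAlgebraic.isAlgebraic x).isIntegral
  haveI : IsPurelyInseparable k P := (isPurelyInseparable_iff_pow_mem k p).2 fun x => by
    obtain ⟨n, c, hc⟩ := IsPRadical.pow_mem (algebraMap k P) p x
    exact ⟨n, c, hc⟩
  haveI : IsPurelyInseparable k E := IntermediateField.isPurelyInseparable_tower_bot k P E
  refine ⟨E, inferInstance, inferInstance, inferInstance, inferInstance, ?_⟩
  have hι : Function.Injective (ι k K E P) :=
    Module.Flat.rTensor_preserves_injective_linearMap (M := K) (E.val.toLinearMap) E.val.injective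
  have hle : nilradical (P ⊗[k] K) ≤ (nilradical (E ⊗[k] K)).map (ι k K E P) := by
    rw [← hS, Submodule.span_le]
    intro g hg
    obtain ⟨w, hw⟩ := hs g E (fun x hx => IntermediateField.subset_adjoin k _
      (Finset.mem_coe.2 (Finset.mem_biUnion.2 ⟨g, hg, hx⟩)))
    rw [show ι k K E P = Algebra.TensorProduct.map E.val (AlgHom.id k K) from rfl, ← hw]
    refine Ideal.mem_map_of_mem _ ?_
    obtain ⟨n, hn⟩ := (hS ▸ Submodule.subset_span hg : g ∈ nilradical (P ⊗[k] K))
    refine ⟨n, hι ?_⟩
    rw [map_pow, map_zero]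
    exact (congrArg (· ^ n) hw).trans hn
  haveI : Algebra.IsAlgebraic E P := Algebra.IsAlgebraic.tower_top (K := k) E
  exact forward_aux k K E P hle

theorem backward (k' : Type u) [Field k'] [Algebra k k'] [Module.Finite k k'] [IsPurelyInseparable k k']
    [Algebra.IsGeometricallyReduced k' ((k' ⊗[k] K) ⧸ nilradical (k' ⊗[k] K))] :
    IsArtinianRing (P ⊗[k] K) := by
  haveI := isAlgebraic_P p k P
  haveI : ExpChar k p := ExpChar.prime Fact.out
  haveI : CharP P p := charP_of_injective_ringHom (algebraMap k P).injective p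
  haveI : ExpChar P p := ExpChar.prime Fact.out
  haveI : IsPRadical (algebraMap k k') p := IsPurelyInseparable.isPRadical k k' p
  haveI : CharP k' p := charP_of_injective_ringHom (algebraMap k k').injective p
  haveI : ExpChar k' p := ExpChar.prime Fact.out
  let j : k' →+* P := PerfectRing.lift (algebraMap k k') (algebraMap k P) p
  letI := j.toAlgebra
  haveI : IsScalarTower k k' P := .of_algebraMap_eq fun x =>
    (PerfectRing.lift_comp_apply (algebraMap k k') (algebraMap k P) p x).symm
  haveI : Algebra.IsAlgebraic k' P := Algebra.IsAlgebraic.tower_top (K := k) k'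
  haveI : IsNoetherianRing (k' ⊗[k] K) := by
    haveI : Module.Finite K (K ⊗[k] k') := inferInstance
    haveI : IsNoetherianRing (K ⊗[k] k') := IsNoetherianRing.of_finite K _
    exact isNoetherianRing_of_ringEquiv _ (Algebra.TensorProduct.comm k K k').toRingEquiv
  set J := (nilradical (k' ⊗[k] K)).map (ι k K k' P)
  have hJ : J ≤ nilradical (P ⊗[k] K) := Ideal.map_le_iff_le_comap.2 fun r hr => by
    obtain ⟨m, hm⟩ := hr
    exact ⟨m, by rw [← map_pow, show r ^ m = 0 from hm]; exact map_zero _⟩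
  refine isArtinianRing_of_fg _ J (Ideal.FG.map (IsNoetherian.noetherian (nilradical (k' ⊗[k] K))) (ι k K k' P).toRingHom) hJ fun z => ?_
  obtain ⟨n, a, ha⟩ := exists_pow_mem p k K P z
  by_cases ha0 : a = 0
  · left
    rw [mem_map_iff]
    haveI : IsReduced (P ⊗[k'] ((k' ⊗[k] K) ⧸ nilradical (k' ⊗[k] K))) := inferInstance
    refine IsReduced.eq_zero _ ⟨p ^ n, ?_⟩
    rw [← map_pow, ← map_pow, ha, ha0, tmul_zero, map_zero, map_zero]
  · right
    have : IsUnit (z ^ p ^ n) := by
      rw [ha]
      exact (isUnit_iff_ne_zero.2 ha0).map (Algebra.TensorProduct.includeRight : K →ₐ[k] P ⊗[k] K)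
    exact (isUnit_pow_iff (pow_ne_zero n (Fact.out (p := p.Prime)).ne_zero)).1 this

theorem main :
    IsArtinianRing (K ⊗[k] P) ↔
      ∃ (k' : Type u) (_ : Field k') (_ : Algebra k k'), Module.Finite k k' ∧ IsPurelyInseparable k k' ∧
        Algebra.IsGeometricallyReduced k' ((k' ⊗[k] K) ⧸ nilradical (k' ⊗[k] K)) := by
  let c := (Algebra.TensorProduct.comm k K P).toRingEquiv
  constructor
  · intro h
    exact forward p k K P c.isArtinianRing
  · rintro ⟨k', _, _, _, _, _⟩
    haveI := backward p k K P k'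
    exact c.symm.isArtinianRing

end Groth.Agent.H05EGA4.PerfArt
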