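import Groth.Agent.H05EGA4.CKEtale
import Groth.Agent.H05EGA4.CKGeom
import Groth.Agent.H05EGA4.CompleteNormalization
import Groth.Agent.H05EGA4.IntegralDim
import Groth.Agent.H05EGA4.PerfArt
import Groth.Agent.H06Red.Algebra

/-! Separable normalisation of complete local domains after a purely inseparable extension (EGA IV 0.21.9). -/

set_option autoImplicit false
set_option linter.style.haveILetI false
set_option maxHeartbeats 1000000

universe u

open TensorProduct IsLocalRing

namespace Groth.Agent.H05EGA4.PSSep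

variable (p : ℕ) (k k' : Type u) [Field k] [Field k'] [Algebra k k'] [ExpChar k p] [IsPurelyInseparable k k']

theorem exists_pow_mem (B : Type u) [CommRing B] [Algebra k B] [Nontrivial B] (z : k' ⊗[k] B) :
    ∃ (m : ℕ) (a : B), z ^ p ^ m = 1 ⊗ₜ a := by
  haveI : Nontrivial (k' ⊗[k] B) := (Algebra.TensorProduct.includeRight_injective (R := k) (A := k') (B := B)
    (algebraMap k k').injective).nontrivial
  haveI : ExpChar (k' ⊗[k] B) p := expChar_of_injective_ringHom (algebraMap k (k' ⊗[k] B)).injective p
  induction z using TensorProduct.induction_on with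
  | zero => exact ⟨0, 0, by simp⟩
  | tmul x a =>
    obtain ⟨m, c, hc⟩ := IsPurelyInseparable.pow_mem k p x
    refine ⟨m, c • a ^ p ^ m, ?_⟩
    rw [Algebra.TensorProduct.tmul_pow, ← hc, Algebra.algebraMap_eq_smul_one, TensorProduct.smul_tmul]
  | add x y hx hy =>
    obtain ⟨n, a, ha⟩ := hx
    obtain ⟨m, b, hb⟩ := hy
    refine ⟨n + m, a ^ p ^ m + b ^ p ^ n, ?_⟩
    rw [add_pow_expChar_pow, pow_add, pow_mul, ha, mul_comm (p ^ n), pow_mul, hb, Algebra.TensorProduct.tmul_pow,
      Algebra.TensorProduct.tmul_pow, one_pow, one_pow, tmul_add]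

include p in
theorem isPrime_nilradical (B : Type u) [CommRing B] [IsDomain B] [Algebra k B] : (nilradical (k' ⊗[k] B)).IsPrime := by
  have hinj := Algebra.TensorProduct.includeRight_injective (R := k) (A := k') (B := B) (algebraMap k k').injective
  haveI : Nontrivial (k' ⊗[k] B) := hinj.nontrivial
  have hp : 0 < p := expChar_pos k p
  refine Ideal.isPrime_iff.2 ⟨fun h => one_ne_zero (α := k' ⊗[k] B) ?_, fun {x y} h => ?_⟩
  · obtain ⟨n, hn⟩ := h.symm ▸ Submodule.mem_top (x := (1 : k' ⊗[k] B))
    rwa [one_pow] at hn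
  obtain ⟨n, a, ha⟩ := exists_pow_mem p k k' B x
  obtain ⟨m, b, hb⟩ := exists_pow_mem p k k' B y
  obtain ⟨j, hj⟩ := mem_nilradical.1 h
  have h0 : ((1 : k') ⊗ₜ[k] (a ^ (p ^ m * j) * b ^ (p ^ n * j))) = 0 := by
    have e1 : ((1 : k') ⊗ₜ[k] (a ^ (p ^ m * j) * b ^ (p ^ n * j))) =
        (x ^ p ^ n) ^ (p ^ m * j) * (y ^ p ^ m) ^ (p ^ n * j) := by
      rw [ha, hb, Algebra.TensorProduct.tmul_pow, Algebra.TensorProduct.tmul_pow, Algebra.TensorProduct.tmul_mul_tmul,
        one_pow, one_pow, one_mul]
    rw [e1, ← pow_mul, ← pow_mul, show p ^ n * (p ^ m * j) = j * (p ^ n * p ^ m) by ring,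
      show p ^ m * (p ^ n * j) = j * (p ^ n * p ^ m) by ring, ← mul_pow, pow_mul, hj,
      zero_pow (Nat.mul_pos (pow_pos hp n) (pow_pos hp m)).ne']
  have h1 : a ^ (p ^ m * j) * b ^ (p ^ n * j) = 0 := hinj (h0.trans (map_zero _).symm)
  rcases mul_eq_zero.1 h1 with ha' | hb'
  · exact Or.inl (mem_nilradical.2 ⟨p ^ n, by rw [ha, eq_zero_of_pow_eq_zero ha', tmul_zero]⟩)
  · exact Or.inr (mem_nilradical.2 ⟨p ^ m, by rw [hb, eq_zero_of_pow_eq_zero hb', tmul_zero]⟩)

theorem injective_algebraMap_red (B : Type u) [CommRing B] [IsDomain B] [Algebra k B] :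
    Function.Injective ((Ideal.Quotient.mk (nilradical (k' ⊗[k] B))).comp
      (Algebra.TensorProduct.includeRight : B →ₐ[k] k' ⊗[k] B).toRingHom) := by
  rw [injective_iff_map_eq_zero]
  intro a ha
  obtain ⟨n, hn⟩ := Ideal.Quotient.eq_zero_iff_mem.1 ha
  refine eq_zero_of_pow_eq_zero (n := n) ?_
  refine Algebra.TensorProduct.includeRight_injective (R := k) (A := k') (B := B) (algebraMap k k').injective ?_
  rw [map_pow, map_zero]
  exact hn

theorem isRegularRing_of_isReduced_isArtinian (T : Type u) [CommRing T] [IsArtinianRing T] [IsReduced T] :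
    IsRegularRing T := by
  refine { isRegularLocalRing_localization := fun q _ => ?_ }
  haveI : IsReduced (Localization.AtPrime q) := inferInstance
  haveI : IsArtinianRing (Localization.AtPrime q) := IsArtinianRing.localization_artinian q.primeCompl _
  have hF : IsField (Localization.AtPrime q) := IsArtinianRing.isField_of_isReduced_of_isLocalRing _
  letI := hF.toField
  infer_instance

theorem isGeometricallyRegular_field (F : Type u) [Field F] [Algebra k F] [Algebra.IsGeometricallyReduced k F] :
    CAlg.IsGeometricallyRegular k F := by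
  intro K _ _ hK
  haveI : IsReduced (F ⊗[k] K) := H06Red.isReduced_tensor k F K
  haveI : IsReduced (K ⊗[k] F) := isReduced_of_injective (Algebra.TensorProduct.comm k K F) (Algebra.TensorProduct.comm k K F).injective
  haveI : Module.Finite F (F ⊗[k] K) := inferInstance
  haveI : IsArtinianRing (F ⊗[k] K) := IsArtinianRing.of_finite F _
  haveI : IsArtinianRing (K ⊗[k] F) := (Algebra.TensorProduct.comm k F K).toRingEquiv.isArtinianRing
  exact isRegularRing_of_isReduced_isArtinian _

include p in
theorem finite_fieldRange [ExpChar k' p] [Module.Finite k k'] [Module.Finite (frobenius k p).fieldRange k] :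
    Module.Finite (frobenius k' p).fieldRange k' := by
  let F := (frobenius k p).fieldRange
  let F' := (frobenius k' p).fieldRange
  let j : F →+* F' := ((algebraMap k k').comp F.subtype).codRestrict F' fun x => by
    obtain ⟨_, y, rfl⟩ := x
    exact ⟨algebraMap k k' y, ((algebraMap k k').map_frobenius p y).symm⟩
  letI := j.toAlgebra
  haveI : IsScalarTower F F' k' := IsScalarTower.of_algebraMap_eq fun _ => rfl
  haveI : Module.Finite F k' := Module.Finite.trans k k'
  exact Module.Finite.of_restrictScalars_finite F F' k'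

/-- The separable normalisation given an extension making the fraction field geometrically reduced. -/
theorem main (A : Type u) [CommRing A] [IsDomain A] [IsNoetherianRing A] [IsLocalRing A] [Algebra k A]
    [IsAdicComplete (maximalIdeal A) A] [Module.Finite k (ResidueField A)] (hA : ¬ IsField A)
    (n : ℕ) (hn : ringKrullDim A = n) (hk' : p = 1 ∨ Module.Finite (frobenius k p).fieldRange k)
    [Module.Finite k k'] (L : Type u) [Field L] [Algebra A L] [IsFractionRing A L] [Algebra k L] [IsScalarTower k A L]
    (hL : Algebra.IsGeometricallyReduced k' ((k' ⊗[k] L) ⧸ nilradical (k' ⊗[k] L))) :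
    ∃ (_ : IsDomain ((k' ⊗[k] A) ⧸ nilradical (k' ⊗[k] A)))
        (_ : IsLocalRing ((k' ⊗[k] A) ⧸ nilradical (k' ⊗[k] A)))
        (_ : Algebra (MvPowerSeries (Fin n) k') ((k' ⊗[k] A) ⧸ nilradical (k' ⊗[k] A)))
        (_ : IsScalarTower k' (MvPowerSeries (Fin n) k') ((k' ⊗[k] A) ⧸ nilradical (k' ⊗[k] A))),
        IsLocalHom (algebraMap (MvPowerSeries (Fin n) k') ((k' ⊗[k] A) ⧸ nilradical (k' ⊗[k] A))) ∧
        Function.Injective (algebraMap (MvPowerSeries (Fin n) k') ((k' ⊗[k] A) ⧸ nilradical (k' ⊗[k] A))) ∧
        Module.Finite (MvPowerSeries (Fin n) k') ((k' ⊗[k] A) ⧸ nilradical (k' ⊗[k] A)) ∧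
        Algebra.IsUnramifiedAt (MvPowerSeries (Fin n) k') (⊥ : Ideal ((k' ⊗[k] A) ⧸ nilradical (k' ⊗[k] A))) := by
  haveI := isPrime_nilradical p k k' A
  let A' := (k' ⊗[k] A) ⧸ nilradical (k' ⊗[k] A)
  haveI : IsDomain A' := Ideal.Quotient.isDomain _
  let ι : A →+* A' := (Ideal.Quotient.mk _).comp (Algebra.TensorProduct.includeRight : A →ₐ[k] k' ⊗[k] A).toRingHom
  letI : Algebra A A' := ι.toAlgebra
  haveI : Module.Finite A A' := by
    have h1 : (Algebra.TensorProduct.includeRight : A →ₐ[k] k' ⊗[k] A).toRingHom.Finite := by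
      have e : (Algebra.TensorProduct.includeRight : A →ₐ[k] k' ⊗[k] A).toRingHom =
          (Algebra.TensorProduct.comm k A k').toRingEquiv.toRingHom.comp
            (algebraMap A (A ⊗[k] k')) := RingHom.ext fun a => rfl
      rw [e]
      exact (RingHom.Finite.of_surjective _ (Algebra.TensorProduct.comm k A k').surjective).comp
        (RingHom.finite_algebraMap.2 inferInstance)
    exact (RingHom.Finite.of_surjective _ Ideal.Quotient.mk_surjective).comp h1
  have hinjA : Function.Injective (algebraMap A A') := injective_algebraMap_red k k' A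
  haveI : IsNoetherianRing A' := IsNoetherianRing.of_finite A A'
  obtain ⟨hloc, hcomp⟩ := H05EGA4.isAdicComplete_of_finite_domain (A := A) (A' := A')
  haveI := hloc
  haveI := hcomp
  haveI : Algebra.IsIntegral A A' := Algebra.IsIntegral.of_finite _ _
  have hdim : ringKrullDim A' = n := ((H05EGA4.dim_int A A').2 hinjA).trans hn
  have hm : (maximalIdeal A).map (algebraMap A A') ≤ maximalIdeal A' := H05EGA4.map_le_maximalIdeal_of_finite
  haveI : IsLocalHom (algebraMap A A') := ((local_hom_TFAE (algebraMap A A')).out 0 2).2 hm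
  haveI : IsScalarTower k A A' := IsScalarTower.of_algebraMap_eq fun c => by
    show _ = Ideal.Quotient.mk _ ((1 : k') ⊗ₜ[k] algebraMap k A c)
    rw [← Algebra.TensorProduct.includeRight_apply (R := k) (A := k'), AlgHom.commutes]
    rfl
  haveI : Module.Finite k (ResidueField A') := Module.Finite.trans (ResidueField A) _
  haveI : Module.Finite k' (ResidueField A') := Module.Finite.of_restrictScalars_finite k _ _
  have hbot : (⊥ : Ideal A') ≠ maximalIdeal A' := fun h => hA (IsLocalRing.isField_iff_maximalIdeal_eq.2 <| by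
    rw [eq_bot_iff]
    intro x hx
    exact hinjA ((Ideal.mem_bot.1 (h ▸ hm (Ideal.mem_map_of_mem _ hx))).trans (map_zero _).symm))
  -- the fraction field
  haveI := isPrime_nilradical p k k' L
  let L'' := (k' ⊗[k] L) ⧸ nilradical (k' ⊗[k] L)
  haveI : IsDomain L'' := Ideal.Quotient.isDomain _
  have hF : IsField L'' := by
    letI := ((Ideal.Quotient.mk (nilradical (k' ⊗[k] L))).comp
        (Algebra.TensorProduct.includeRight : L →ₐ[k] k' ⊗[k] L).toRingHom).toAlgebra
    haveI : Algebra.IsIntegral L L'' := ⟨fun z => by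
      obtain ⟨z, rfl⟩ := Ideal.Quotient.mk_surjective z
      obtain ⟨m, a, ha⟩ := exists_pow_mem p k k' L z
      refine IsIntegral.of_pow (pow_pos (expChar_pos k p) m) ?_
      rw [← map_pow, ha]
      exact isIntegral_algebraMap (x := a)⟩
    exact isField_of_isIntegral_of_isField' (Field.toIsField L)
  letI := hF.toField
  let f : k' ⊗[k] A →ₐ[k'] k' ⊗[k] L := Algebra.TensorProduct.map (AlgHom.id k' k') (IsScalarTower.toAlgHom k A L)
  have hf : Function.Injective f := Module.Flat.lTensor_preserves_injective_linearMap (M := k')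
    (IsScalarTower.toAlgHom k A L).toLinearMap (IsFractionRing.injective A L)
  let g : A' →ₐ[k'] L'' := Ideal.Quotient.liftₐ _ ((Ideal.Quotient.mkₐ k' _).comp f) fun z hz => by
    obtain ⟨j, hj⟩ := mem_nilradical.1 hz
    exact Ideal.Quotient.eq_zero_iff_mem.2 (mem_nilradical.2 ⟨j, by
      show ((f z) ^ j) = 0
      rw [← map_pow, hj, map_zero]⟩)
  have hg : Function.Injective g := by
    rw [injective_iff_map_eq_zero]
    intro z hz
    obtain ⟨z, rfl⟩ := Ideal.Quotient.mk_surjective z
    obtain ⟨j, hj⟩ := mem_nilradical.1 <| Ideal.Quotient.eq_zero_iff_mem.1 (show Ideal.Quotient.mk _ (f z) = 0 from hz)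
    exact Ideal.Quotient.eq_zero_iff_mem.2 (mem_nilradical.2 ⟨j, hf (by rw [map_pow, hj, map_zero])⟩)
  let T := Localization.AtPrime (⊥ : Ideal A')
  haveI : IsFractionRing A' T := by
    have h : (⊥ : Ideal A').primeCompl = nonZeroDivisors A' := by
      ext x; simp [Ideal.primeCompl]
    show IsLocalization _ T
    rw [← h]; infer_instance
  letI : Field T := IsFractionRing.toField A'
  let gT : T →ₐ[k'] L'' := IsFractionRing.liftAlgHom hg
  haveI := hL
  haveI : Algebra.IsGeometricallyReduced k' T := Algebra.IsGeometricallyReduced.of_injective gT gT.toRingHom.injective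
  have hreg : CAlg.IsGeometricallyRegular k' T := isGeometricallyRegular_field k' T
  haveI : ExpChar k' p := expChar_of_injective_ringHom (algebraMap k k').injective p
  have hk'' : p = 1 ∨ Module.Finite (frobenius k' p).fieldRange k' := by
    rcases hk' with h | h
    · exact Or.inl h
    · right
      exact finite_fieldRange p k k'
  have hq : (⊥ : Ideal A') ∈ minimalPrimes A' := by
    rw [IsDomain.minimalPrimes_eq_singleton_bot]; rfl
  obtain ⟨hfree, hrank⟩ := CKGeom.free_of_geometricallyRegular p k' A' hk'' (⊥ : Ideal A') hreg ⊥ hq le_rfl n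
    ((ringKrullDim_eq_of_ringEquiv (RingEquiv.quotientBot A')).trans hdim)
  haveI := (CKBase.finite_and_surjective k' A').1
  haveI := hfree
  haveI : Module.Finite T (LocalizedModule (⊥ : Ideal A').primeCompl (AdicCompletion (maximalIdeal A') (Ω[A'⁄k']))) :=
    Module.Finite.of_isLocalizedModule (⊥ : Ideal A').primeCompl (LocalizedModule.mkLinearMap _ _)
  have hr := CKUnits.finrank_le (⊥ : Ideal A') (Module.finBasisOfFinrankEq T _ hrank) (Module.Basis.span_eq _)
  obtain ⟨iR, hT, hloc', hfin, hunr⟩ := CKEtale.exists_unramified (k := k') (⊥ : Ideal A') hbot hdim le_rfl hr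
  haveI := hfin
  refine ⟨inferInstance, hloc, iR, hT, hloc', ?_, hfin, hunr⟩
  rw [RingHom.injective_iff_ker_eq_bot]
  by_contra hne
  let R := MvPowerSeries (Fin n) k'
  let q := RingHom.ker (algebraMap R A')
  obtain ⟨x, hx, hx0⟩ := Submodule.exists_mem_ne_zero_of_ne_bot hne
  have hxd : x ∈ nonZeroDivisors R := mem_nonZeroDivisors_of_ne_zero hx0
  have h1 : ringKrullDim A' ≤ ringKrullDim (R ⧸ q) := by
    letI : Algebra (R ⧸ q) A' := (RingHom.kerLift (algebraMap R A')).toAlgebra
    haveI : Algebra.IsIntegral (R ⧸ q) A' := by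
      have hc : ((RingHom.kerLift (algebraMap R A')).comp (Ideal.Quotient.mk q)).Finite := by
        rw [show (RingHom.kerLift (algebraMap R A')).comp (Ideal.Quotient.mk q) = algebraMap R A' from RingHom.ext fun _ => rfl]
        exact RingHom.finite_algebraMap.2 hfin
      haveI : Module.Finite (R ⧸ q) A' := RingHom.Finite.of_comp_finite hc
      exact Algebra.IsIntegral.of_finite _ _
    exact (H05EGA4.dim_int (R ⧸ q) A').1
  have h2 := ringKrullDim_quotient_succ_le_of_nonZeroDivisor hxd
  have h3 : ringKrullDim (R ⧸ q) ≤ ringKrullDim (R ⧸ Ideal.span {x}) :=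
    ringKrullDim_le_of_surjective (Ideal.Quotient.factor (Ideal.span_le.2 (Set.singleton_subset_iff.2 hx)))
      (Ideal.Quotient.factor_surjective _)
  rw [H02CA.PS.ringKrullDim_eq] at h2
  rw [hdim] at h1
  have h4 := (add_le_add_left (h1.trans h3) 1).trans h2
  norm_cast at h4
  omega

/-- `Frac k[[T]] ⊗ P` is reduced for an algebraic extension `P`. -/
theorem isReduced_tensor_fractionRing {n : ℕ} (P : Type u) [Field P] [Algebra k P] :
    IsReduced (FractionRing (MvPowerSeries (Fin n) k) ⊗[k] P) := by
  classical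
  let R := MvPowerSeries (Fin n) k
  let K := FractionRing R
  let RP := MvPowerSeries (Fin n) P
  let Q := FractionRing RP
  let i : R →+* RP := MvPowerSeries.map (algebraMap k P)
  have hi : Function.Injective i := fun f g h => MvPowerSeries.ext fun N => (algebraMap k P).injective <| by
    have h' := congrArg (MvPowerSeries.coeff (R := P) N) h
    simp only [i, MvPowerSeries.coeff_map] at h'
    exact h'
  have hiQ : Function.Injective ((algebraMap RP Q).comp i) := (IsFractionRing.injective RP Q).comp hi
  let φK : K →ₐ[k] Q :=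
    { IsFractionRing.lift hiQ with
      commutes' := fun c => by
        show IsFractionRing.lift hiQ (algebraMap k K c) = _
        rw [IsScalarTower.algebraMap_apply k R K, IsFractionRing.lift_algebraMap, RingHom.comp_apply,
          IsScalarTower.algebraMap_apply k RP Q]
        congr 1 }
  let φP : P →ₐ[k] Q := (IsScalarTower.toAlgHom k RP Q).comp (IsScalarTower.toAlgHom k P RP)
  let Φ : K ⊗[k] P →ₐ[k] Q := Algebra.TensorProduct.lift φK φP fun _ _ => Commute.all _ _
  suffices hΦ : Function.Injective Φ from isReduced_of_injective Φ hΦ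
  rw [injective_iff_map_eq_zero]
  intro z hz
  let b := Module.Free.chooseBasis k P
  obtain ⟨c, hc⟩ : ∃ c : Module.Free.ChooseBasisIndex k P →₀ K, c.sum (fun j x => x ⊗ₜ[k] b j) = z :=
    ⟨_, (TensorProduct.eq_repr_basis_right b z).choose_spec⟩
  subst hc
  obtain ⟨⟨s, hs⟩, h⟩ := IsLocalization.exist_integer_multiples (nonZeroDivisors R) c.support c
  choose! r hr using h
  have hs' : algebraMap R K s ≠ 0 := IsFractionRing.to_map_ne_zero_of_mem_nonZeroDivisors hs
  suffices ∀ j ∈ c.support, c j = 0 by
    rw [Finsupp.sum, Finset.sum_eq_zero fun j hj => by rw [this j hj, zero_tmul]]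
  have hkey : ∑ j ∈ c.support, i (r j) * algebraMap P RP (b j) = 0 := by
    refine IsFractionRing.injective RP Q ?_
    rw [map_zero, map_sum, ← mul_zero (φK (algebraMap R K s)), ← hz, Finsupp.sum, map_sum, Finset.mul_sum]
    refine Finset.sum_congr rfl fun j hj => ?_
    rw [Algebra.TensorProduct.lift_tmul, ← mul_assoc, ← map_mul φK, ← Algebra.smul_def, ← hr j hj, map_mul]
    congr 1
    exact (IsFractionRing.lift_algebraMap hiQ (r j)).symm
  intro j hj
  have hr0 : r j = 0 := by
    refine MvPowerSeries.ext fun N => ?_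
    have h1 := congrArg (MvPowerSeries.coeff N) hkey
    simp only [map_sum, map_zero] at h1
    rw [Finset.sum_congr rfl (fun j _ => show MvPowerSeries.coeff N (i (r j) * algebraMap P RP (b j)) =
        algebraMap k P (MvPowerSeries.coeff N (r j)) * b j from by
      rw [show algebraMap P RP (b j) = MvPowerSeries.C (b j) from rfl, MvPowerSeries.coeff_mul_C, MvPowerSeries.coeff_map])] at h1
    have h2 := linearIndependent_iff'.1 b.linearIndependent c.support (fun j => MvPowerSeries.coeff N (r j))
      (by simpa only [Algebra.smul_def] using h1) j hj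
    rw [map_zero]; exact h2
  have h3 := hr j hj
  rw [hr0, map_zero, Algebra.smul_def] at h3
  exact (mul_eq_zero.1 h3.symm).resolve_left hs'

include p in
/-- The separable normalisation in characteristic `p`. -/
theorem exists_extension [Fact p.Prime] [CharP k p] (A : Type u) [CommRing A] [IsDomain A] [IsNoetherianRing A] [IsLocalRing A]
    [Algebra k A] [IsAdicComplete (maximalIdeal A) A] [Module.Finite k (ResidueField A)] :
    ∃ (k' : Type u) (_ : Field k') (_ : Algebra k k'), Module.Finite k k' ∧ IsPurelyInseparable k k' ∧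
      Algebra.IsGeometricallyReduced k' ((k' ⊗[k] FractionRing A) ⧸ nilradical (k' ⊗[k] FractionRing A)) := by
  haveI : IsLocalHom (algebraMap k A) := ⟨fun a ha => isUnit_iff_ne_zero.2 fun h => by simp [h] at ha⟩
  obtain ⟨m, ψ, hinj, hfin, -⟩ := H05EGA4.exists_finite_injective_mvPowerSeries (Λ := k) (A := A)
    (Or.inl (Field.toIsField k)) inferInstance (algebraMap k A).injective
  let R := MvPowerSeries (Fin m) k
  let L := FractionRing A
  letI : Algebra R A := ψ.toRingHom.toAlgebra
  haveI : Module.Finite R A := hfin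
  haveI : IsScalarTower k R A := IsScalarTower.of_algebraMap_eq fun c => (ψ.commutes c).symm
  haveI : FaithfulSMul R A := (faithfulSMul_iff_algebraMap_injective R A).2 hinj
  haveI : Algebra.IsIntegral R A := Algebra.IsIntegral.of_finite _ _
  haveI : FaithfulSMul R L := (faithfulSMul_iff_algebraMap_injective R L).2 <| by
    rw [IsScalarTower.algebraMap_eq R A L]
    exact (IsFractionRing.injective A L).comp hinj
  let K := FractionRing R
  letI : Algebra K L := FractionRing.liftAlgebra R L
  haveI : IsScalarTower R K L := FractionRing.isScalarTower_liftAlgebra R L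
  haveI : Module.Finite K L := Module.Finite.of_isLocalization R A (nonZeroDivisors R)
  haveI : IsScalarTower k K L := IsScalarTower.of_algebraMap_eq fun c => by
    rw [IsScalarTower.algebraMap_apply k R K, ← IsScalarTower.algebraMap_apply R K L, ← IsScalarTower.algebraMap_apply k R L]
  let P := PerfectClosure k p
  letI : Algebra k P := (PerfectClosure.of k p).toAlgebra
  haveI : IsPRadical (algebraMap k P) p := PerfectClosure.isPRadical k p
  haveI := PerfArt.isAlgebraic_P p k P
  haveI : Algebra.IsIntegral k P := Algebra.IsAlgebraic.isIntegral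
  haveI hred := isReduced_tensor_fractionRing k (n := m) P
  haveI : Algebra.IsIntegral K (K ⊗[k] P) := inferInstance
  haveI : IsPurelyInseparable k P := (isPurelyInseparable_iff_pow_mem k p).2 fun x => by
    obtain ⟨n, c, hc⟩ := IsPRadical.pow_mem (algebraMap k P) p x
    exact ⟨n, c, hc⟩
  haveI hPr := isPrime_nilradical p k P K
  have hKP : IsField (K ⊗[k] P) := by
    have e : nilradical (P ⊗[k] K) = ⊥ := by
      haveI : IsReduced (P ⊗[k] K) := isReduced_of_injective (Algebra.TensorProduct.comm k P K)
        (Algebra.TensorProduct.comm k P K).injective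
      exact nilradical_eq_zero _
    haveI : IsDomain (P ⊗[k] K) := by
      rw [e] at hPr
      exact IsDomain.of_bot_isPrime _
    haveI : IsDomain (K ⊗[k] P) := (Algebra.TensorProduct.comm k K P).toMulEquiv.isDomain
    exact isField_of_isIntegral_of_isField' (Field.toIsField K)
  letI := hKP.toField
  haveI : IsArtinianRing (L ⊗[k] P) := by
    haveI : IsArtinianRing (L ⊗[K] (K ⊗[k] P)) := by
      haveI : Module.Finite (K ⊗[k] P) ((K ⊗[k] P) ⊗[K] L) := inferInstance
      haveI : IsArtinianRing ((K ⊗[k] P) ⊗[K] L) := IsArtinianRing.of_finite (K ⊗[k] P) ((K ⊗[k] P) ⊗[K] L)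
      exact (Algebra.TensorProduct.comm K (K ⊗[k] P) L).toRingEquiv.isArtinianRing
    exact (Algebra.TensorProduct.cancelBaseChange k K L L P).toRingEquiv.isArtinianRing
  exact (PerfArt.main p k L P).1 inferInstance

end Groth.Agent.H05EGA4.PSSep
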