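import Mathlib
import Groth.Prelude.Def_EGA41

/-!
Transitivity of `p`-generators and `p`-independence (helper5).
-/

set_option autoImplicit false
universe u

namespace Groth.Agent.H05EGA4.PTower

open EGA41
open scoped Pointwise

variable {B : Type u} [CommRing B] {R R' : Type u} [CommRing R] [CommRing R'] [Algebra R B] [Algebra R' B]

theorem exists_map (h : Set.range (algebraMap R B) ⊆ Set.range (algebraMap R' B)) :
    ∃ g : R → R', ∀ r, algebraMap R' B (g r) = algebraMap R B r :=
  ⟨fun r => (h ⟨r, rfl⟩).choose, fun r => (h ⟨r, rfl⟩).choose_spec⟩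

theorem span_eq_top_congr (h : Set.range (algebraMap R B) ⊆ Set.range (algebraMap R' B)) (s : Set B)
    (hs : Submodule.span R s = ⊤) : Submodule.span R' s = ⊤ := by
  obtain ⟨g, hg⟩ := exists_map h
  refine eq_top_iff.mpr fun b _ => ?_
  have hb : b ∈ Submodule.span R s := hs ▸ Submodule.mem_top
  induction hb using Submodule.span_induction with
  | mem x hx => exact Submodule.subset_span hx
  | zero => exact zero_mem _
  | add x y _ _ hx hy => exact add_mem (hx trivial) (hy trivial)
  | smul r x _ hx =>
    rw [Algebra.smul_def, ← hg, ← Algebra.smul_def]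
    exact Submodule.smul_mem _ _ (hx trivial)

theorem linearIndependent_congr (hinj : Function.Injective (algebraMap R B))
    (hinj' : Function.Injective (algebraMap R' B))
    (h : Set.range (algebraMap R B) = Set.range (algebraMap R' B)) {ι : Type u} (v : ι → B)
    (hv : LinearIndependent R' v) : LinearIndependent R v := by
  classical
  obtain ⟨g, hg⟩ := exists_map h.le
  rw [linearIndependent_iff']
  intro s c hc i hi
  have h2 := linearIndependent_iff'.mp hv s (fun j => g (c j))
    (by simpa [Algebra.smul_def, hg] using hc) i hi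
  refine hinj ?_
  rw [← hg, h2, map_zero, map_zero]

variable (p : ℕ) [Fact p.Prime]

theorem pMonomial_sumElim {ι κ : Type u} (x : ι → B) (y : κ → B) (e : (ι ⊕ κ) →₀ ℕ) :
    pMonomial (Sum.elim x y) e =
      pMonomial x (Finsupp.sumFinsuppEquivProdFinsupp e).1 * pMonomial y (Finsupp.sumFinsuppEquivProdFinsupp e).2 := by
  obtain ⟨⟨a, b⟩, rfl⟩ := (Finsupp.sumFinsuppEquivProdFinsupp (α := ι) (β := κ) (γ := ℕ)).symm.surjective e
  rw [Equiv.apply_symm_apply]
  exact Finsupp.prod_sumElim a b fun i n => Sum.elim x y i ^ n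

/-- Reduced exponent vectors on a disjoint union. -/
noncomputable def redEquiv (ι κ : Type u) :
    {e : (ι ⊕ κ) →₀ ℕ // ∀ i, e i < p} ≃ {e : ι →₀ ℕ // ∀ i, e i < p} × {e : κ →₀ ℕ // ∀ i, e i < p} where
  toFun e := (⟨(Finsupp.sumFinsuppEquivProdFinsupp e.1).1, fun i => by simpa using e.2 (Sum.inl i)⟩,
    ⟨(Finsupp.sumFinsuppEquivProdFinsupp e.1).2, fun i => by simpa using e.2 (Sum.inr i)⟩)
  invFun f := ⟨Finsupp.sumFinsuppEquivProdFinsupp.symm (f.1.1, f.2.1), fun i => by
    cases i <;> simp [f.1.2, f.2.2]⟩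
  left_inv e := Subtype.ext (by simp)
  right_inv f := by ext <;> simp

theorem pMonomial_algebraMap {C : Type u} [CommRing C] [Algebra C B] {ι : Type u} (x : ι → C) (e : ι →₀ ℕ) :
    pMonomial (fun i => algebraMap C B (x i)) e = algebraMap C B (pMonomial x e) := by
  simp [pMonomial, Finsupp.prod, map_prod]

theorem tower {A C : Type u} [CommRing A] [CommRing C] [Algebra A C] [Algebra C B] [Algebra A B]
    [IsScalarTower A C B] (hinj : Function.Injective (algebraMap C B))
    (hpow : ∀ b : B, b ^ p ∈ Set.range (algebraMap A B)) {ι κ : Type u} (x : ι → C) (y : κ → B) :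
    (IsPGenerating p A x → IsPGenerating p C y →
      IsPGenerating p A (Sum.elim (fun i => algebraMap C B (x i)) y)) ∧
    (IsPBasis p A x →
      (IsPIndependent p C y ↔ IsPIndependent p A (Sum.elim (fun i => algebraMap C B (x i)) y))) := by
  let P := pPowerSubalgebra p A C
  let PB := pPowerSubalgebra p A B
  let PC := pPowerSubalgebra p C B
  have hPB : Set.range (algebraMap PB B) = Set.range (algebraMap A B) := by
    have h : PB = ⊥ := le_antisymm (Algebra.adjoin_le fun z ⟨b, hb⟩ => Algebra.mem_bot.2 (hb ▸ hpow b)) bot_le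
    ext z
    constructor
    · rintro ⟨w, rfl⟩; exact Algebra.mem_bot.1 (show (w : B) ∈ (⊥ : Subalgebra A B) from h ▸ w.2)
    · rintro ⟨a, rfl⟩; exact ⟨⟨_, PB.algebraMap_mem a⟩, rfl⟩
  have hP : Set.range (algebraMap P B) = Set.range (algebraMap A B) := by
    ext z
    constructor
    · rintro ⟨⟨c, hc⟩, rfl⟩
      show algebraMap C B c ∈ _
      induction hc using Algebra.adjoin_induction with
      | mem w hw => obtain ⟨d, rfl⟩ := hw; rw [map_pow]; exact hpow _
      | algebraMap a => exact ⟨a, IsScalarTower.algebraMap_apply A C B a⟩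
      | add u v _ _ hu hv =>
        obtain ⟨a, ha⟩ := hu; obtain ⟨b, hb⟩ := hv
        exact ⟨a + b, by rw [map_add, map_add, ha, hb]⟩
      | mul u v _ _ hu hv =>
        obtain ⟨a, ha⟩ := hu; obtain ⟨b, hb⟩ := hv
        exact ⟨a * b, by rw [map_mul, map_mul, ha, hb]⟩
    · rintro ⟨a, rfl⟩
      exact ⟨⟨_, P.algebraMap_mem a⟩, (IsScalarTower.algebraMap_apply A C B a).symm⟩
  have hC : Set.range (algebraMap PC B) = Set.range (algebraMap C B) := by
    have h : PC = ⊥ := le_antisymm (Algebra.adjoin_le fun z ⟨b, hb⟩ => by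
      obtain ⟨a, ha⟩ := hpow b
      subst hb
      exact Algebra.mem_bot.2 ⟨algebraMap A C a, by rw [← IsScalarTower.algebraMap_apply]; exact ha⟩) bot_le
    ext z
    constructor
    · rintro ⟨w, rfl⟩; exact Algebra.mem_bot.1 (show (w : B) ∈ (⊥ : Subalgebra C B) from h ▸ w.2)
    · rintro ⟨a, rfl⟩; exact ⟨⟨_, PC.algebraMap_mem a⟩, rfl⟩
  have hPinj : Function.Injective (algebraMap P B) := hinj.comp Subtype.val_injective
  let z : {e : ι →₀ ℕ // ∀ i, e i < p} × {e : κ →₀ ℕ // ∀ i, e i < p} → B :=
    fun q => pMonomial x q.1.1 • pMonomial y q.2.1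
  have hz : (fun e : {e : (ι ⊕ κ) →₀ ℕ // ∀ i, e i < p} =>
      pMonomial (Sum.elim (fun i => algebraMap C B (x i)) y) e.1) = z ∘ redEquiv p ι κ := by
    funext e
    rw [Function.comp_apply, pMonomial_sumElim, pMonomial_algebraMap, ← Algebra.smul_def]
    rfl
  refine ⟨fun hx hy => ?_, fun hx => ?_⟩
  · have hy' := span_eq_top_congr hC.le _ hy
    have h1 : Submodule.span P (Set.range z) = ⊤ := by
      rw [show Set.range z = Set.range (fun e : {e : ι →₀ ℕ // ∀ i, e i < p} => pMonomial x e.1) •
        Set.range (fun e : {e : κ →₀ ℕ // ∀ i, e i < p} => pMonomial y e.1) from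
          (Set.range_smul_range (fun e : {e : ι →₀ ℕ // ∀ i, e i < p} => pMonomial x e.1)
            (fun e : {e : κ →₀ ℕ // ∀ i, e i < p} => pMonomial y e.1)).symm]
      rw [← Submodule.restrictScalars_top P C B, ← hy']
      exact Submodule.span_smul_of_span_eq_top hx _
    have h2 := span_eq_top_congr (R := P) (R' := PB) (hP.trans hPB.symm).le _ h1
    show Submodule.span PB _ = ⊤
    rwa [hz, EquivLike.range_comp]
  · have hxi : LinearIndependent P (fun e : {e : ι →₀ ℕ // ∀ i, e i < p} => pMonomial x e.1) := hx.1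
    have hkey : IsPIndependent p A (Sum.elim (fun i => algebraMap C B (x i)) y) ↔ LinearIndependent P z := by
      show LinearIndependent PB _ ↔ _
      rw [hz, linearIndependent_equiv]
      exact ⟨linearIndependent_congr hPinj Subtype.val_injective (hP.trans hPB.symm) z,
        linearIndependent_congr Subtype.val_injective hPinj (hPB.trans hP.symm) z⟩
    rw [hkey]
    constructor
    · intro hy
      exact linearIndependent_smul hxi (linearIndependent_congr hinj Subtype.val_injective hC.symm _ hy)
    · intro hli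
      refine linearIndependent_congr Subtype.val_injective hinj hC _ ?_
      have hspan : Submodule.span P (Set.range fun e : {e : ι →₀ ℕ // ∀ i, e i < p} => pMonomial x e.1) = ⊤ := hx.2
      let b := Module.Basis.mk hxi hspan.ge
      let b2 := Finsupp.basis fun _ : {e : κ →₀ ℕ // ∀ i, e i < p} => b
      let L := (Finsupp.linearCombination C
        (fun e : {e : κ →₀ ℕ // ∀ i, e i < p} => pMonomial y e.1)).restrictScalars P
      let σ : (Σ _ : {e : κ →₀ ℕ // ∀ i, e i < p}, {e : ι →₀ ℕ // ∀ i, e i < p}) → _ := fun q => (q.2, q.1)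
      have hσ : Function.Injective σ := fun q q' h => by
        obtain ⟨j, i⟩ := q; obtain ⟨j', i'⟩ := q'
        obtain ⟨rfl, rfl⟩ := Prod.ext_iff.mp h
        rfl
      have hL : ∀ q, L (b2 q) = (z ∘ σ) q := fun q => by
        simp [L, b2, b, z, σ, Finsupp.coe_basis, Finsupp.linearCombination_single]
      rw [linearIndependent_iff]
      intro c hc
      have h0 : L c = 0 := hc
      rw [← b2.linearCombination_repr c, Finsupp.apply_linearCombination, show L ∘ b2 = z ∘ σ from funext hL] at h0
      rw [← b2.linearCombination_repr c, linearIndependent_iff.mp (hli.comp σ hσ) _ h0, map_zero]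

end Groth.Agent.H05EGA4.PTower
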