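import Mathlib
import Groth.Prelude.Def_Hens2
import Groth.Agent.H05EGA4.GRingPoly
import Groth.Agent.H9Hens.FormalFibres
import Groth.Agent.H9Hens.GRingLocal
import Groth.Agent.H9Hens.PairNoetherian
import Groth.Agent.S0506

/-!
Henselizations of pairs over G-rings.
-/

set_option autoImplicit false
set_option linter.style.haveILetI false
set_option synthInstance.maxHeartbeats 200000
set_option maxHeartbeats 800000
universe u
open IsLocalRing Groth.Agent Groth.Agent.H05EGA4

namespace Groth.Agent.H05EGA4.PairHensGRing

theorem isGRing_pairHenselization (A : Type u) [CommRing A] (hA : CAlg.IsGRing A) (I : Ideal A)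
    (B : Type u) [CommRing B] [Algebra A B] (hB : Hens2.IsPairHenselization A I B) : CAlg.IsGRing B := by
  haveI := hA.1
  haveI : IsNoetherianRing B := H9Hens.pairHenselization_isNoetherianRing hB
  refine isGRing_of_maximal fun m hm => ?_
  let p := m.comap (algebraMap A B)
  let R := Localization.AtPrime p
  let Bm := Localization.AtPrime m
  letI : Algebra R Bm := (Localization.localRingHom p m (algebraMap A B) rfl).toAlgebra
  haveI : IsScalarTower A R Bm := IsScalarTower.of_algebraMap_eq fun a =>
    ((Localization.localRingHom_to_map p m (algebraMap A B) rfl a).trans (IsScalarTower.algebraMap_apply A B Bm a).symm).symm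
  haveI : IsNoetherianRing R := IsLocalization.isNoetherianRing p.primeCompl _ inferInstance
  haveI : IsNoetherianRing Bm := IsLocalization.isNoetherianRing m.primeCompl _ inferInstance
  haveI : IsLocalHom (algebraMap R Bm) := Localization.isLocalHom_localRingHom p m (algebraMap A B) rfl
  obtain ⟨H, _, _, _, _, hH⟩ := Groth.Agent.S0506.result Bm
  haveI := hH
  letI : Algebra R H := ((algebraMap Bm H).comp (algebraMap R Bm)).toAlgebra
  haveI : IsScalarTower R Bm H := IsScalarTower.of_algebraMap_eq fun _ => rfl
  haveI : IsLocalHom (algebraMap R H) := ⟨fun a ha =>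
    IsUnit.of_map (algebraMap R Bm) a (IsUnit.of_map (algebraMap Bm H) _ ha)⟩
  -- the maximal ideal comes from `A`
  have hIm : I.map (algebraMap A B) ≤ m :=
    (hB.1.jac).trans (sInf_le ⟨bot_le, hm⟩)
  have hIp : I ≤ p := Ideal.map_le_iff_le_comap.mp hIm
  have hmp : m ≤ p.map (algebraMap A B) := fun b hb => by
    obtain ⟨z, hz⟩ := (H9Hens.pairHenselization_quotient_pow_bijective hB 1).2 (Ideal.Quotient.mk _ b)
    obtain ⟨a, rfl⟩ := Ideal.Quotient.mk_surjective z
    rw [Ideal.quotientMap_mk, Ideal.Quotient.eq] at hz
    rw [pow_one] at hz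
    have ha : a ∈ p := show algebraMap A B a ∈ m by simpa using m.add_mem (hIm hz) hb
    have := sub_mem (Ideal.mem_map_of_mem (algebraMap A B) ha) (Ideal.map_mono hIp hz)
    simpa using this
  haveI : Hensel.IsHenselization R H := ⟨hH.henselian, fun T _ _ f hf => by
    haveI := hf
    obtain ⟨g0, hg0, huniq⟩ := hB.2 T (maximalIdeal T) (f.comp (algebraMap A R)) inferInstance (by
      refine Ideal.map_le_iff_le_comap.mpr fun a ha => ?_
      show f (algebraMap A R a) ∈ maximalIdeal T
      intro hu
      exact (IsLocalization.AtPrime.to_map_mem_maximal_iff R p a).mpr (hIp ha) (IsUnit.of_map f _ hu))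
    have hg0' : ∀ a, g0 (algebraMap A B a) = f (algebraMap A R a) := fun a => RingHom.congr_fun hg0 a
    have hcomap : (maximalIdeal T).comap g0 = m := by
      refine (hm.eq_of_le (Ideal.IsPrime.ne_top inferInstance) (hmp.trans (Ideal.map_le_iff_le_comap.mpr fun a ha => ?_))).symm
      show g0 (algebraMap A B a) ∈ maximalIdeal T
      rw [hg0']
      intro hu
      exact (IsLocalization.AtPrime.to_map_mem_maximal_iff R p a).mpr ha (IsUnit.of_map f _ hu)
    have hu : ∀ y : m.primeCompl, IsUnit (g0 y) := fun y =>
      IsLocalRing.notMem_maximalIdeal.mp fun h => y.2 (hcomap.le h)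
    let g1 : Bm →+* T := IsLocalization.lift (M := m.primeCompl) hu
    have hg1 : ∀ b, g1 (algebraMap B Bm b) = g0 b := fun b => IsLocalization.lift_eq hu b
    have hg1R : g1.comp (algebraMap R Bm) = f := by
      refine IsLocalization.ringHom_ext p.primeCompl (RingHom.ext fun a => ?_)
      show g1 (algebraMap R Bm (algebraMap A R a)) = f (algebraMap A R a)
      rw [← IsScalarTower.algebraMap_apply, IsScalarTower.algebraMap_apply A B Bm, hg1, hg0']
    haveI : IsLocalHom g1 := ⟨fun x hx => by
      obtain ⟨b, s, rfl⟩ := IsLocalization.exists_mk'_eq m.primeCompl x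
      rw [IsLocalization.AtPrime.isUnit_mk'_iff Bm m]
      intro hb
      have h' := hx.mul ((IsLocalization.map_units Bm s).map g1)
      rw [← map_mul, IsLocalization.mk'_spec, hg1] at h'
      exact (hcomap.ge hb : g0 b ∈ maximalIdeal T) h'⟩
    obtain ⟨g, hg, hgu⟩ := hH.universal T g1 inferInstance
    refine ⟨g, ?_, fun g' hg' => hgu g' ?_⟩
    · show g.comp ((algebraMap Bm H).comp (algebraMap R Bm)) = f
      rw [← RingHom.comp_assoc, hg, hg1R]
    · show g'.comp (algebraMap Bm H) = g1
      refine IsLocalization.ringHom_ext m.primeCompl ?_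
      have h1 : ((g'.comp (algebraMap Bm H)).comp (algebraMap B Bm)).comp (algebraMap A B) = f.comp (algebraMap A R) := by
        refine RingHom.ext fun a => ?_
        show g' (algebraMap Bm H (algebraMap B Bm (algebraMap A B a))) = f (algebraMap A R a)
        rw [← IsScalarTower.algebraMap_apply A B Bm, IsScalarTower.algebraMap_apply A R Bm]
        exact RingHom.congr_fun hg' _
      rw [huniq _ h1]
      exact RingHom.ext fun b => (hg1 b).symm⟩
  haveI : IsNoetherianRing H := (Groth.Agent.S0511.result Bm H).mp inferInstance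
  haveI := isNoetherianRing_cpl R
  haveI := isNoetherianRing_cpl Bm
  have hR : GRSHom ⊤ ⊤ R (EGA4.Cpl R) := grsHom_of_isRegularHom (hA.2 p)
  exact isRegularHom_iff_grsHom.mpr
    ((H9Hens.grsHom_henselization_self Bm H).cpl_of_flat_local (H9Hens.grsHom_cpl_henselization R H hR))

end Groth.Agent.H05EGA4.PairHensGRing
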