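import Mathlib
import Groth.Prelude.Def_EGA4b
import Groth.Agent.H05EGA4.Dim
import Groth.Agent.H06EGA11.FibreProjective

/-!
Projective dimension under flat base change and on the closed fibre.
-/

set_option autoImplicit false
set_option linter.style.haveILetI false
set_option maxHeartbeats 800000
universe u
open CategoryTheory TensorProduct IsLocalRing Groth.Agent

namespace Groth.Agent.H05EGA4.PdBaseChange

theorem pd_le_pd {A B : Type u} [CommRing A] [CommRing B] {X : ModuleCat.{u} A} {Y : ModuleCat.{u} B}
    (h0 : Subsingleton X → Subsingleton Y) (h : ∀ n : ℕ, HasProjectiveDimensionLE X n → HasProjectiveDimensionLE Y n) :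
    projectiveDimension Y ≤ projectiveDimension X := by
  refine forall_ge_iff_le.mp fun d hd => ?_
  induction d with
  | bot =>
    rw [le_bot_iff, projectiveDimension_eq_bot_iff, ModuleCat.isZero_iff_subsingleton] at hd ⊢
    exact h0 hd
  | coe d =>
    induction d with
    | top => simp
    | coe n =>
      norm_cast at hd ⊢
      simp only [projectiveDimension_le_iff] at hd ⊢
      exact h n hd

theorem pd_eq_pd {A B : Type u} [CommRing A] [CommRing B] {X : ModuleCat.{u} A} {Y : ModuleCat.{u} B}
    (h0 : Subsingleton X ↔ Subsingleton Y) (h : ∀ n : ℕ, HasProjectiveDimensionLE X n ↔ HasProjectiveDimensionLE Y n) :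
    projectiveDimension Y = projectiveDimension X :=
  le_antisymm (pd_le_pd h0.mp fun n => (h n).mp) (pd_le_pd h0.mpr fun n => (h n).mpr)

theorem pd_zero_iff {A : Type u} [CommRing A] (M : Type u) [AddCommGroup M] [Module A M] :
    HasProjectiveDimensionLE (ModuleCat.of A M) 0 ↔ Module.Projective A M := by
  rw [← projective_iff_hasProjectiveDimensionLE_zero]
  exact (IsProjective.iff_projective (R := A) M).symm

/-- Syzygy step after an arbitrary base change along which the presentation stays exact. -/
theorem pd_succ_baseChange {A Q : Type u} [CommRing A] [CommRing Q] [Algebra A Q] {F M : Type u} [AddCommGroup F]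
    [Module A F] [Module.Projective A F] [AddCommGroup M] [Module A M] (f : F →ₗ[A] M) (hf : Function.Surjective f)
    (hinj : Function.Injective ((LinearMap.ker f).subtype.baseChange Q)) (n : ℕ) :
    HasProjectiveDimensionLE (ModuleCat.of Q (Q ⊗[A] M)) (n + 1) ↔
      HasProjectiveDimensionLE (ModuleCat.of Q (Q ⊗[A] LinearMap.ker f)) n := by
  have hS : (ShortComplex.mk (ModuleCat.ofHom ((LinearMap.ker f).subtype.baseChange Q))
      (ModuleCat.ofHom (f.baseChange Q)) (ModuleCat.hom_ext (LinearMap.ext fun x =>
        (lTensor_exact Q f.exact_subtype_ker_map hf).apply_apply_eq_zero x))).ShortExact :=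
    ModuleCat.shortComplex_shortExact _ (lTensor_exact Q f.exact_subtype_ker_map hf) hinj
      (LinearMap.lTensor_surjective Q hf)
  exact hS.hasProjectiveDimensionLT_X₃_iff n ((IsProjective.iff_projective (R := Q) (Q ⊗[A] F)).1 inferInstance)

theorem pd_succ {A : Type u} [CommRing A] {F M : Type u} [AddCommGroup F] [Module A F] [Module.Projective A F]
    [AddCommGroup M] [Module A M] (f : F →ₗ[A] M) (hf : Function.Surjective f) (n : ℕ) :
    HasProjectiveDimensionLE (ModuleCat.of A M) (n + 1) ↔
      HasProjectiveDimensionLE (ModuleCat.of A (LinearMap.ker f)) n :=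
  (H05EGA4.shortExact_of_surjective f hf).hasProjectiveDimensionLT_X₃_iff n
    ((IsProjective.iff_projective (R := A) F).1 inferInstance)

theorem baseChange_injective {A B : Type u} [CommRing A] [CommRing B] [Algebra A B] [Module.Flat A B]
    {F M : Type u} [AddCommGroup F] [Module A F] [AddCommGroup M] [Module A M] (f : F →ₗ[A] M) :
    Function.Injective ((LinearMap.ker f).subtype.baseChange B) :=
  Module.Flat.lTensor_preserves_injective_linearMap (M := B) (LinearMap.ker f).subtype Subtype.val_injective

/-- Flat base change does not increase the projective dimension. -/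
theorem pd_baseChange_le {A B : Type u} [CommRing A] [CommRing B] [Algebra A B] [Module.Flat A B] :
    ∀ (n : ℕ) (M : Type u) [AddCommGroup M] [Module A M],
      HasProjectiveDimensionLE (ModuleCat.of A M) n → HasProjectiveDimensionLE (ModuleCat.of B (B ⊗[A] M)) n := by
  intro n
  induction n with
  | zero => intro M _ _ h; rw [pd_zero_iff] at h ⊢; infer_instance
  | succ n ih =>
    intro M _ _ h
    have hs : Function.Surjective (Finsupp.linearCombination A (id : M → M)) :=
      fun m => ⟨Finsupp.single m 1, by rw [Finsupp.linearCombination_single, one_smul, id]⟩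
    exact (pd_succ_baseChange _ hs (baseChange_injective _) n).mpr (ih _ ((pd_succ _ hs n).mp h))

/-- Projective dimension descends along faithfully flat maps. -/
theorem pd_baseChange_iff {A B : Type u} [CommRing A] [IsNoetherianRing A] [CommRing B] [Algebra A B]
    [Module.FaithfullyFlat A B] : ∀ (n : ℕ) (M : Type u) [AddCommGroup M] [Module A M] [Module.Finite A M],
      HasProjectiveDimensionLE (ModuleCat.of A M) n ↔ HasProjectiveDimensionLE (ModuleCat.of B (B ⊗[A] M)) n := by
  intro n
  induction n with
  | zero =>
    intro M _ _ _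
    refine ⟨pd_baseChange_le 0 M, fun h => ?_⟩
    rw [pd_zero_iff] at h ⊢
    haveI := Module.finitePresentation_of_finite A M
    haveI : Module.Flat A M := Module.Flat.of_flat_tensorProduct A M B
    exact Module.Flat.projective_of_finitePresentation
  | succ n ih =>
    intro M _ _ _
    obtain ⟨r, f, hf⟩ := Module.Finite.exists_fin' A M
    rw [pd_succ_baseChange f hf (baseChange_injective f) n, pd_succ f hf n]
    exact ih _

/-- The locus of bounded projective dimension is open. -/
theorem isOpen_pd_le {A : Type u} [CommRing A] [IsNoetherianRing A] :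
    ∀ (n : ℕ) (M : Type u) [AddCommGroup M] [Module A M] [Module.Finite A M],
      IsOpen {p : PrimeSpectrum A | HasProjectiveDimensionLE
        (ModuleCat.of (Localization.AtPrime p.asIdeal) (Localization.AtPrime p.asIdeal ⊗[A] M)) n} := by
  intro n
  induction n with
  | zero =>
    intro M _ _ _
    haveI := Module.finitePresentation_of_finite A M
    convert Module.isOpen_freeLocus (R := A) (M := M) using 1
    ext p
    simp only [Set.mem_setOf_eq, pd_zero_iff, Module.mem_freeLocus_iff_tensor p (Localization.AtPrime p.asIdeal)]
    exact ⟨fun h => by haveI := h; exact Module.free_of_flat_of_isLocalRing, fun h => Module.Projective.of_free⟩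
  | succ n ih =>
    intro M _ _ _
    obtain ⟨r, f, hf⟩ := Module.Finite.exists_fin' A M
    simp only [pd_succ_baseChange f hf (baseChange_injective f) n]
    exact ih _

/-- Along the closed fibre of a local map the presentation stays exact. -/
theorem fibre_injective {A B : Type u} [CommRing A] [CommRing B] [Algebra A B] [IsLocalRing A]
    {F N : Type u} [AddCommGroup F] [Module B F] [Module A F] [IsScalarTower A B F] [AddCommGroup N] [Module B N]
    [Module A N] [IsScalarTower A B N] [Module.Flat A N] (f : F →ₗ[B] N) (hf : Function.Surjective f) :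
    Function.Injective ((LinearMap.ker f).subtype.baseChange (EGA4.FibRing A B)) := by
  let e : EGA4.FibRing A B ≃ₗ[B] B ⊗[A] (A ⧸ maximalIdeal A) :=
    (Algebra.TensorProduct.quotIdealMapEquivTensorQuot B (maximalIdeal A)).toLinearEquiv
  have h := H06EGA11.baseChange_injective_of_flat (A := A) (LinearMap.ker f).subtype f Subtype.val_injective hf
    f.exact_subtype_ker_map (A ⧸ maximalIdeal A)
  intro x y hxy
  refine (TensorProduct.congr e (LinearEquiv.refl B _)).injective (h ?_)
  have key : ∀ z, (LinearMap.ker f).subtype.baseChange (B ⊗[A] (A ⧸ maximalIdeal A))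
      (TensorProduct.congr e (LinearEquiv.refl B _) z) =
        TensorProduct.congr e (LinearEquiv.refl B F) ((LinearMap.ker f).subtype.baseChange (EGA4.FibRing A B) z) := by
    intro z
    induction z using TensorProduct.induction_on with
    | zero => simp
    | tmul q k => simp
    | add z w hz hw => simp only [map_add, hz, hw]
  rw [key, key, hxy]

theorem subsingleton_quot_tensor {B : Type u} [CommRing B] [IsLocalRing B] (J : Ideal B) (hJ : J ≤ maximalIdeal B)
    {K : Type u} [AddCommGroup K] [Module B K] [Module.Finite B K] (h : Subsingleton ((B ⧸ J) ⊗[B] K)) :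
    Subsingleton K := by
  have h1 : Subsingleton (K ⧸ J • (⊤ : Submodule B K)) :=
    (TensorProduct.quotTensorEquivQuotSMul K J).symm.toEquiv.subsingleton
  rw [Submodule.Quotient.subsingleton_iff] at h1
  rw [← Submodule.subsingleton_iff B]
  exact subsingleton_of_bot_eq_top ((Submodule.eq_bot_of_le_smul_of_le_jacobson_bot J ⊤ Module.Finite.fg_top
    h1.ge (hJ.trans (maximalIdeal_le_jacobson ⊥))).symm)

/-- Projective dimension of a relatively flat module is read on the closed fibre. -/
theorem pd_fibre_iff {A B : Type u} [CommRing A] [CommRing B] [IsNoetherianRing B] [IsLocalRing A] [IsLocalRing B]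
    [Algebra A B] [IsLocalHom (algebraMap A B)] [Module.Flat A B] :
    ∀ (n : ℕ) (N : Type u) [AddCommGroup N] [Module B N] [Module A N] [IsScalarTower A B N] [Module.Finite B N]
      [Module.Flat A N], HasProjectiveDimensionLE (ModuleCat.of B N) n ↔
        HasProjectiveDimensionLE (ModuleCat.of (EGA4.FibRing A B) (EGA4.FibRing A B ⊗[B] N)) n := by
  intro n
  have hJ : EGA4.mB A B ≤ maximalIdeal B := map_maximalIdeal_le (algebraMap A B)
  haveI : Nontrivial (EGA4.FibRing A B) :=
    Ideal.Quotient.nontrivial_iff.mpr (ne_top_of_le_ne_top (maximalIdeal.isMaximal B).ne_top hJ)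
  haveI : IsLocalRing (EGA4.FibRing A B) := .of_surjective' _ Ideal.Quotient.mk_surjective
  induction n with
  | zero =>
    intro N _ _ _ _ _ _
    rw [pd_zero_iff, pd_zero_iff]
    refine ⟨fun _ => inferInstance, fun h => ?_⟩
    haveI : Module.Free (EGA4.FibRing A B) (EGA4.FibRing A B ⊗[B] N) := Module.free_of_flat_of_isLocalRing
    obtain ⟨r, b⟩ : Σ' r : ℕ, Module.Basis (Fin r) (EGA4.FibRing A B) (EGA4.FibRing A B ⊗[B] N) :=
      ⟨_, Module.finBasis _ _⟩
    have hmk : ∀ z : EGA4.FibRing A B ⊗[B] N, ∃ x : N, (1 : EGA4.FibRing A B) ⊗ₜ[B] x = z := by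
      intro z
      induction z using TensorProduct.induction_on with
      | zero => exact ⟨0, tmul_zero _ _⟩
      | tmul q x =>
        obtain ⟨c, rfl⟩ := Ideal.Quotient.mk_surjective q
        exact ⟨c • x, by rw [← smul_tmul, ← Algebra.algebraMap_eq_smul_one]; rfl⟩
      | add z w hz hw =>
        obtain ⟨a, rfl⟩ := hz; obtain ⟨c, rfl⟩ := hw
        exact ⟨a + c, tmul_add _ _ _⟩
    choose v hv using fun i => hmk (b i)
    let π : (Fin r → B) →ₗ[B] N := Fintype.linearCombination B v
    let bF := (Pi.basisFun B (Fin r)).baseChange (EGA4.FibRing A B)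
    have heq : π.baseChange (EGA4.FibRing A B) = (bF.equiv b (Equiv.refl _)).toLinearMap := by
      refine bF.ext fun i => ?_
      rw [LinearEquiv.coe_coe, Module.Basis.equiv_apply, Equiv.refl_apply, Module.Basis.baseChange_apply,
        LinearMap.baseChange_tmul, Pi.basisFun_apply, Fintype.linearCombination_apply_single, one_smul, hv]
    have hbij : Function.Bijective (π.baseChange (EGA4.FibRing A B)) := by
      rw [heq]; exact LinearEquiv.bijective _
    have hπ : Function.Surjective π := by
      rw [← LinearMap.range_eq_top, ← Submodule.Quotient.subsingleton_iff]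
      refine subsingleton_quot_tensor (EGA4.mB A B) hJ (subsingleton_of_forall_eq 0 fun z => ?_)
      obtain ⟨w, rfl⟩ := LinearMap.lTensor_surjective (EGA4.FibRing A B) π.range.mkQ_surjective z
      obtain ⟨w, rfl⟩ := hbij.2 w
      show π.range.mkQ.lTensor (EGA4.FibRing A B) (π.lTensor (EGA4.FibRing A B) w) = 0
      rw [← LinearMap.lTensor_comp_apply, LinearMap.range_mkQ_comp, LinearMap.lTensor_zero, LinearMap.zero_apply]
    have hker : Subsingleton (LinearMap.ker π) := by
      refine subsingleton_quot_tensor (EGA4.mB A B) hJ (subsingleton_of_forall_eq 0 fun z => ?_)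
      haveI : Module.Flat A (Fin r → B) := Module.Flat.trans A B _
      refine fibre_injective π hπ ?_
      rw [map_zero]
      refine hbij.1 ?_
      rw [map_zero]
      show π.lTensor (EGA4.FibRing A B) ((LinearMap.ker π).subtype.lTensor (EGA4.FibRing A B) z) = 0
      rw [← LinearMap.lTensor_comp_apply, LinearMap.comp_ker_subtype, LinearMap.lTensor_zero, LinearMap.zero_apply]
    refine Module.Projective.of_equiv (LinearEquiv.ofBijective π ⟨fun x y hxy => ?_, hπ⟩)
    have hmem : x - y ∈ LinearMap.ker π := by rw [LinearMap.mem_ker, map_sub, hxy, sub_self]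
    exact sub_eq_zero.mp (congrArg Subtype.val (hker.elim ⟨x - y, hmem⟩ 0))
  | succ n ih =>
    intro N _ _ _ _ _ _
    obtain ⟨r, f, hf⟩ := Module.Finite.exists_fin' B N
    haveI : Module.Flat A (Fin r → B) := Module.Flat.trans A B _
    haveI : Module.Flat A (LinearMap.ker f) :=
      H8Props.flat_of_exact ((LinearMap.ker f).subtype.restrictScalars A) (f.restrictScalars A)
        Subtype.val_injective f.exact_subtype_ker_map hf
    rw [pd_succ_baseChange f hf (fibre_injective f hf) n, pd_succ f hf n]
    exact ih _

theorem pd_fibMod {A B : Type u} [CommRing A] [IsLocalRing A] [CommRing B] [Algebra A B] (N : Type u) [AddCommGroup N]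
    [Module B N] : projectiveDimension (ModuleCat.of (EGA4.FibRing A B) (EGA4.FibRing A B ⊗[B] N)) =
      projectiveDimension (ModuleCat.of (EGA4.FibRing A B) (EGA4.FibMod A B N)) :=
  projectiveDimension_eq_of_linearEquiv
    (LinearEquiv.extendScalarsOfSurjective (R := B) (S := EGA4.FibRing A B) Ideal.Quotient.mk_surjective
      (TensorProduct.quotTensorEquivQuotSMul N (EGA4.mB A B)))

theorem pd_fibre_eq {A B : Type u} [CommRing A] [CommRing B] [IsNoetherianRing B] [IsLocalRing A] [IsLocalRing B]
    [Algebra A B] [IsLocalHom (algebraMap A B)] [Module.Flat A B] (N : Type u) [AddCommGroup N] [Module B N]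
    [Module A N] [IsScalarTower A B N] [Module.Finite B N] [Module.Flat A N] :
    projectiveDimension (ModuleCat.of B N) =
      projectiveDimension (ModuleCat.of (EGA4.FibRing A B) (EGA4.FibMod A B N)) := by
  rw [← pd_fibMod]
  refine (pd_eq_pd ⟨fun h => ?_, fun h => ?_⟩ fun n => pd_fibre_iff n N).symm
  · haveI : Subsingleton N := h
    exact subsingleton_of_forall_eq 0 fun z => by
      induction z using TensorProduct.induction_on with
      | zero => rfl
      | tmul q x => rw [Subsingleton.elim x 0, tmul_zero]
      | add z w hz hw => rw [hz, hw, add_zero]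
  · exact subsingleton_quot_tensor (EGA4.mB A B) (map_maximalIdeal_le (algebraMap A B)) h

theorem pd_localized {A : Type u} [CommRing A] (M : Type u) [AddCommGroup M] [Module A M] (p : Ideal A) [p.IsPrime] :
    projectiveDimension (ModuleCat.of (Localization.AtPrime p) (LocalizedModule p.primeCompl M)) =
      projectiveDimension (ModuleCat.of (Localization.AtPrime p) (Localization.AtPrime p ⊗[A] M)) :=
  projectiveDimension_eq_of_linearEquiv (LocalizedModule.equivTensorProduct p.primeCompl M)

end Groth.Agent.H05EGA4.PdBaseChange
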