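import Groth.Agent.H8Props.PushoutProps.Fibred
import Groth.Agent.H8Props.PushoutProps.Descend
import Mathlib.RingTheory.Kaehler.TensorProduct
import Mathlib.RingTheory.Etale.Basic

/-!
# Étale morphisms between pushouts of a closed immersion and an integral morphism
-/

set_option autoImplicit false
set_option linter.style.haveILetI false
set_option backward.isDefEq.respectTransparency false

universe u

open CategoryTheory Limits AlgebraicGeometry TopologicalSpace Opposite TensorProduct KaehlerDifferential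

namespace Groth.Agent.H05EGA4.PushoutEt

open Groth.Agent.H7Flat Groth.Agent.H8Props.PushoutQF

section Descend

variable {R A B : Type u} [CommRing R] [CommRing A] [CommRing B] [Algebra R A] [Algebra R B]
  (hA : Function.Surjective (algebraMap R A))
  (hinj : RingHom.ker (algebraMap R B) ⊓ RingHom.ker (algebraMap R A) = ⊥)
  (hI : ∀ a ∈ Ideal.map (algebraMap R B) (RingHom.ker (algebraMap R A)),
    ∃ i ∈ RingHom.ker (algebraMap R A), algebraMap R B i = a)

include hA hinj hI in
/-- Finite presentation descends along a pinching square. -/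
theorem finitePresentation_descent {R' : Type u} [CommRing R'] [Algebra R R'] [Algebra.FiniteType R R']
    [Module.Flat R R'] [Algebra.FinitePresentation A (A ⊗[R] R')]
    [Algebra.FinitePresentation B (B ⊗[R] R')] : Algebra.FinitePresentation R R' := by
  classical
  obtain ⟨n, f, hf⟩ := Algebra.FiniteType.iff_quotient_mvPolynomial''.1 ‹Algebra.FiniteType R R'›
  obtain ⟨sA, hsA, hsAK, hkA⟩ := H8Props.PushoutProps.exists_finset_ker (C := A) f hf
  obtain ⟨sB, hsB, hsBK, hkB⟩ := H8Props.PushoutProps.exists_finset_ker (C := B) f hf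
  let K₀ : Ideal (MvPolynomial (Fin n) R) := Ideal.span (sA ∪ sB)
  have hK₀fg : K₀.FG := Submodule.fg_span (hsA.union hsB)
  have hK₀ : K₀ ≤ RingHom.ker f := Ideal.span_le.2 (Set.union_subset hsAK hsBK)
  let q := Ideal.Quotient.mkₐ R K₀
  let π : (MvPolynomial (Fin n) R ⧸ K₀) →ₐ[R] R' := Ideal.Quotient.liftₐ K₀ f fun x hx => hK₀ hx
  have hπ : Function.Surjective π := fun x => by
    obtain ⟨y, rfl⟩ := hf x
    exact ⟨q y, rfl⟩
  let N := LinearMap.ker π.toLinearMap
  have key : ∀ (C : Type u) [CommRing C] [Algebra R C] (s : Set (MvPolynomial (Fin n) R)),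
      s ⊆ sA ∪ sB → RingHom.ker (Algebra.TensorProduct.map (AlgHom.id R C) f) ≤
        (Ideal.span s).map (Algebra.TensorProduct.includeRight : _ →ₐ[R] C ⊗[R] _) →
      Subsingleton (C ⊗[R] N) := by
    intro C _ _ s hs hker
    refine subsingleton_of_forall_eq 0 fun z => ?_
    have hinjN : Function.Injective (N.subtype.lTensor C) :=
      LinearMap.lTensor_injective_of_exact_of_flat π.toLinearMap hπ _ Subtype.val_injective
        (LinearMap.exact_subtype_ker_map π.toLinearMap) C
    refine hinjN (a₂ := 0) ?_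
    rw [map_zero]
    obtain ⟨w, hw⟩ : ∃ w, Algebra.TensorProduct.map (AlgHom.id R C) q w = N.subtype.lTensor C z :=
      LinearMap.lTensor_surjective C (g := q.toLinearMap) Ideal.Quotient.mk_surjective _
    have hwf : Algebra.TensorProduct.map (AlgHom.id R C) f w = 0 := by
      show f.toLinearMap.lTensor C w = 0
      rw [show f.toLinearMap = π.toLinearMap ∘ₗ q.toLinearMap from rfl, LinearMap.lTensor_comp_apply,
        show q.toLinearMap.lTensor C w = N.subtype.lTensor C z from hw, ← LinearMap.lTensor_comp_apply,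
        show π.toLinearMap ∘ₗ N.subtype = 0 from LinearMap.ext fun x => x.2,
        LinearMap.lTensor_zero, LinearMap.zero_apply]
    have h2 : w ∈ RingHom.ker (Algebra.TensorProduct.map (AlgHom.id R C) q) := by
      rw [Algebra.TensorProduct.lTensor_ker q (Ideal.Quotient.mkₐ_surjective R K₀),
        show RingHom.ker q = K₀ from Ideal.Quotient.mkₐ_ker R K₀]
      exact Ideal.map_mono (Ideal.span_mono hs) (hker hwf)
    exact hw.symm.trans h2
  haveI := key A sA Set.subset_union_left hkA
  haveI := key B sB Set.subset_union_right hkB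
  haveI : Subsingleton N := H28Pinch.ModuleDescent.subsingleton_descent hA hinj hI (M := N)
  have hπinj : Function.Injective π := (injective_iff_map_eq_zero π).2 fun x hx =>
    congrArg Subtype.val (Subsingleton.elim (⟨x, hx⟩ : N) 0)
  haveI : Algebra.FinitePresentation R (MvPolynomial (Fin n) R ⧸ K₀) :=
    Algebra.FinitePresentation.quotient hK₀fg
  exact Algebra.FinitePresentation.equiv (AlgEquiv.ofBijective π ⟨hπinj, hπ⟩)

end Descend

section Ring

variable {R A B C R' A' B' C' : Type u} [CommRing R] [CommRing A] [CommRing B] [CommRing C]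
  [CommRing R'] [CommRing A'] [CommRing B'] [CommRing C']
  {pa : R →+* A} {pb : R →+* B} {p : A →+* C} {q : B →+* C}
  {pa' : R' →+* A'} {pb' : R' →+* B'} {p' : A' →+* C'} {q' : B' →+* C'}
  {φ : R →+* R'} {fA : A →+* A'} {fB : B →+* B'} {fC : C →+* C'}

/-- Being étale descends to the fibre product. -/
theorem sqHom_etale (H : SqHom pa pb p q pa' pb' p' q' φ fA fB fC) (hA : fA.Etale) (hB : fB.Etale) :
    φ.Etale := by
  obtain ⟨hAf, hAu, hAp⟩ := RingHom.Etale.iff_flat_and_formallyUnramified.1 hA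
  obtain ⟨hBf, hBu, hBp⟩ := RingHom.Etale.iff_flat_and_formallyUnramified.1 hB
  have hft : φ.FiniteType :=
    H.finiteType (RingHom.FiniteType.of_finitePresentation hAp) (RingHom.FiniteType.of_finitePresentation hBp)
  letI := pa.toAlgebra
  letI := pb.toAlgebra
  letI := φ.toAlgebra
  letI := fA.toAlgebra
  letI := fB.toAlgebra
  letI := pa'.toAlgebra
  letI := pb'.toAlgebra
  letI : Algebra R A' := (fA.comp pa).toAlgebra
  letI : Algebra R B' := (fB.comp pb).toAlgebra
  haveI : IsScalarTower R A A' := IsScalarTower.of_algebraMap_eq fun _ => rfl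
  haveI : IsScalarTower R B B' := IsScalarTower.of_algebraMap_eq fun _ => rfl
  haveI : IsScalarTower R R' A' := IsScalarTower.of_algebraMap_eq' H.commA.symm
  haveI : IsScalarTower R R' B' := IsScalarTower.of_algebraMap_eq' H.commB.symm
  haveI hPA : Algebra.IsPushout R A R' A' := CommRingCat.isPushout_iff_isPushout.1 H.isPushout.1
  haveI hPB : Algebra.IsPushout R B R' B' := CommRingCat.isPushout_iff_isPushout.1 H.isPushout.2
  let eA := Algebra.IsPushout.equiv R A R' A'
  let eB := Algebra.IsPushout.equiv R B R' B'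
  have hsurj : Function.Surjective (algebraMap R B) := H.sq.snd_surjective
  have hinj : RingHom.ker (algebraMap R A) ⊓ RingHom.ker (algebraMap R B) = ⊥ :=
    eq_bot_iff.2 fun x hx => by
      have h1 : pa x = 0 := hx.1
      have h2 : pb x = 0 := hx.2
      exact H.sq.ext x 0 (by rw [h1, map_zero]) (by rw [h2, map_zero])
  have hI : ∀ a ∈ Ideal.map (algebraMap R A) (RingHom.ker (algebraMap R B)),
      ∃ i ∈ RingHom.ker (algebraMap R B), algebraMap R A i = a := fun a ha => by
    have hle : Ideal.map (algebraMap R A) (RingHom.ker (algebraMap R B)) ≤ RingHom.ker p :=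
      Ideal.map_le_iff_le_comap.2 fun z hz => by
        show p (pa z) = 0
        rw [H.sq.comm, show pb z = 0 from hz, map_zero]
    obtain ⟨z, hz1, hz2⟩ := H.sq.exists_lift a 0 ((hle ha : p a = 0).trans (map_zero q).symm)
    exact ⟨z, hz2, hz1⟩
  haveI : Algebra.FiniteType R R' := hft
  haveI : Module.Flat A A' := hAf
  haveI : Module.Flat B B' := hBf
  haveI : Module.Flat A (A ⊗[R] R') := Module.Flat.of_linearEquiv eA.toLinearEquiv
  haveI : Module.Flat B (B ⊗[R] R') := Module.Flat.of_linearEquiv eB.toLinearEquiv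
  haveI hflat : Module.Flat R R' := H28Pinch.ModuleDescent.flat_descent hsurj hinj hI
  haveI : Algebra.FinitePresentation A A' := hAp
  haveI : Algebra.FinitePresentation B B' := hBp
  haveI : Algebra.FinitePresentation A (A ⊗[R] R') := Algebra.FinitePresentation.equiv eA.symm
  haveI : Algebra.FinitePresentation B (B ⊗[R] R') := Algebra.FinitePresentation.equiv eB.symm
  have hfp : Algebra.FinitePresentation R R' := finitePresentation_descent hsurj hinj hI
  haveI : Algebra.FormallyUnramified A A' := hAu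
  haveI : Algebra.FormallyUnramified B B' := hBu
  haveI : Subsingleton Ω[A'⁄A] := Algebra.FormallyUnramified.subsingleton_kaehlerDifferential
  haveI : Subsingleton Ω[B'⁄B] := Algebra.FormallyUnramified.subsingleton_kaehlerDifferential
  haveI : Subsingleton (A ⊗[R] Ω[R'⁄R]) := (KaehlerDifferential.tensorKaehlerEquivBase R A R' A').toEquiv.subsingleton
  haveI : Subsingleton (B ⊗[R] Ω[R'⁄R]) := (KaehlerDifferential.tensorKaehlerEquivBase R B R' B').toEquiv.subsingleton
  haveI : Subsingleton Ω[R'⁄R] := H28Pinch.ModuleDescent.subsingleton_descent hsurj hinj hI (M := Ω[R'⁄R])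
  exact RingHom.Etale.iff_flat_and_formallyUnramified.2 ⟨hflat, ⟨inferInstance⟩, hfp⟩

end Ring

/-- A morphism of pushouts with étale cartesian sides is étale. -/
theorem etale_of_isPushout {X Y Z X' Y' Z' P P' : Scheme.{u}}
    (i : Z ⟶ X) (j : Z ⟶ Y) [IsClosedImmersion i] [IsIntegralHom j]
    (h3 : ∀ y : Y, ∃ U : X.Opens, IsAffineOpen U ∧ j ⁻¹' {y} ⊆ (i ⁻¹ᵁ U : Set ↑Z))
    (a : X ⟶ P) (b : Y ⟶ P) (hP : IsPushout i j a b)
    (f : X' ⟶ X) (g : Y' ⟶ Y) (i' : Z' ⟶ X') (j' : Z' ⟶ Y') (h : Z' ⟶ Z)
    (hX : IsPullback h i' i f) (hY : IsPullback h j' j g) [IsAffineHom f] [Etale f] [Etale g]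
    (a' : X' ⟶ P') (b' : Y' ⟶ P') (hP' : IsPushout i' j' a' b') (k : P' ⟶ P) (ha : a' ≫ k = f ≫ a)
    (hb : b' ≫ k = g ≫ b) : Etale k := by
  haveI : IsClosedImmersion i' := MorphismProperty.of_isPullback hX inferInstance
  haveI : IsIntegralHom j' := MorphismProperty.of_isPullback hY inferInstance
  have hcov := exists_adapted_pair i j h3
  have hcov' : ∀ y' : Y', ∃ π : AP i' j', y' ∈ π.V := by
    refine exists_adapted_pair i' j' fun y' => ?_
    obtain ⟨U, hU, hsub⟩ := h3 (g y')
    refine ⟨f ⁻¹ᵁ U, hU.preimage f, fun z hz => ?_⟩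
    show f (i' z) ∈ U
    rw [← Scheme.Hom.comp_apply, ← hX.w, Scheme.Hom.comp_apply]
    refine hsub ?_
    show j (h z) = g y'
    rw [← Scheme.Hom.comp_apply, hY.w, Scheme.Hom.comp_apply, show j' z = y' from hz]
  obtain ⟨e, rfl, rfl⟩ := H28Pinch.exists_iso_glued a b hP hcov
  obtain ⟨e', rfl, rfl⟩ := H28Pinch.exists_iso_glued a' b' hP' hcov'
  let k₀ : glued i' j' ⟶ glued i j := e'.hom ≫ k ≫ e.inv
  have hk : k = e'.inv ≫ k₀ ≫ e.hom := by simp [k₀]
  have hkX : inX hcov' ≫ k₀ = f ≫ inX hcov := by simp [k₀, reassoc_of% ha]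
  have hkY : inY hcov' ≫ k₀ = g ≫ inY hcov := by simp [k₀, reassoc_of% hb]
  let I := {x : AP i' j' × AP i j // Over' f g x.1 x.2}
  let 𝒰 : (glued i' j').OpenCover :=
    { I₀ := I
      X := fun x => Spec (CommRingCat.of x.1.1.R)
      f := fun x => chart i' j' x.1.1
      mem₀ := by
        rw [Scheme.presieve₀_mem_precoverage_iff]
        refine ⟨fun w => ?_, fun x => inferInstance⟩
        obtain ⟨π', π, o, hw⟩ := exists_over hX hY hcov w
        exact ⟨⟨(π', π), o⟩, hw⟩ }
  have hkey : ∀ x : I, chart i' j' x.1.1 ≫ k₀ = sm (x.2.φ hX hY) ≫ chart i j x.1.2 := fun x =>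
    x.2.chart_comp hX hY hcov hcov' k₀ hkX hkY
  rw [hk, MorphismProperty.cancel_left_of_respectsIso (P := @Etale),
    MorphismProperty.cancel_right_of_respectsIso (P := @Etale)]
  refine IsZariskiLocalAtSource.of_openCover (P := @Etale) 𝒰 fun x => ?_
  show Etale (chart i' j' x.1.1 ≫ k₀)
  rw [hkey x]
  haveI : Etale (sm (x.2.φ hX hY)) := (HasRingHomProperty.Spec_iff (P := @Etale)).2
    (sqHom_etale (x.2.sqHom hX hY)
      (HasRingHomProperty.appLE @Etale f inferInstance ⟨x.1.2.U, x.1.2.hU⟩ ⟨x.1.1.U, x.1.1.hU⟩ x.2.hU)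
      (HasRingHomProperty.appLE @Etale g inferInstance ⟨x.1.2.V, x.1.2.hV⟩ ⟨x.1.1.V, x.1.1.hV⟩ x.2.hV))
  infer_instance

end Groth.Agent.H05EGA4.PushoutEt
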