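import Groth.Agent.H05EGA4.QFLocal
import Mathlib.RingTheory.Adjoin.Basic
import Mathlib.RingTheory.TensorProduct.Finite

/-! A finite subalgebra dominating two factorizations. -/

set_option autoImplicit false
set_option linter.style.haveILetI false

universe u

open AlgebraicGeometry CategoryTheory

namespace Groth.Agent.H05EGA4.QFDominate

theorem isOpenImmersion_subalgebra {A B B' : Type u} [CommRing A] [CommRing B] [CommRing B'] [Algebra A B]
    [Algebra B' B] (h' : IsOpenImmersion (Spec.map (CommRingCat.ofHom (algebraMap B' B)))) (C : Subalgebra A B)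
    (hC : Set.range (algebraMap B' B) ⊆ (C : Set B)) :
    IsOpenImmersion (Spec.map (CommRingCat.ofHom C.val.toRingHom)) := by
  let φ : B' →+* C := (algebraMap B' B).codRestrict C.toSubring fun x => hC ⟨x, rfl⟩
  let g : PrimeSpectrum B → PrimeSpectrum C := fun q => q.comap C.val.toRingHom
  let h : PrimeSpectrum C → PrimeSpectrum B' := fun c => c.comap φ
  have hcomp : h ∘ g = fun q => q.comap (algebraMap B' B) := funext fun q => PrimeSpectrum.ext rfl
  have hemb' : Topology.IsOpenEmbedding fun q : PrimeSpectrum B => q.comap (algebraMap B' B) :=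
    (Spec.map (CommRingCat.ofHom (algebraMap B' B))).isOpenEmbedding
  -- elements invertible near a point divide elements of `B'`
  have down : ∀ (q : Ideal B) [q.IsPrime] (u : B), u ∉ q → ∃ s : B', algebraMap B' B s ∉ q ∧ u ∣ algebraMap B' B s := by
    intro q hq u hu
    by_contra! hno
    let S : Submonoid B := (q.comap (algebraMap B' B)).primeCompl.map (algebraMap B' B).toMonoidHom
    have hd : Disjoint (Ideal.span {u} : Set B) S := by
      rw [Set.disjoint_right]
      rintro _ ⟨s, hs, rfl⟩ hm
      exact hno s hs (Ideal.mem_span_singleton.1 hm)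
    obtain ⟨P, hP, hle, hdis⟩ := Ideal.exists_le_prime_disjoint _ S hd
    have hsub : (⟨P.comap (algebraMap B' B), hP.comap _⟩ : PrimeSpectrum B') ≤ ⟨q.comap (algebraMap B' B), hq.comap _⟩ := by
      intro s hs
      by_contra hsq
      exact Set.disjoint_left.1 hdis hs ⟨s, hsq, rfl⟩
    have := hemb'.isEmbedding.isInducing.specializes_iff.1 ((PrimeSpectrum.le_iff_specializes _ _).1 hsub :
      ((fun q : PrimeSpectrum B => q.comap (algebraMap B' B)) ⟨P, hP⟩) ⤳ ((fun q : PrimeSpectrum B => q.comap (algebraMap B' B)) ⟨q, hq⟩))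
    exact hu ((PrimeSpectrum.le_iff_specializes _ _).2 this (hle (Ideal.mem_span_singleton_self u)))
  -- fractions near a point
  have key : ∀ (q : Ideal B) [q.IsPrime] (x : B), ∃ a s : B', algebraMap B' B s ∉ q ∧ algebraMap B' B s * x = algebraMap B' B a := by
    intro q _ x
    haveI := QFLocal.isLocalization_atPrime h' q
    obtain ⟨⟨a, s⟩, hx⟩ := IsLocalization.surj (q.comap (algebraMap B' B)).primeCompl (algebraMap B (Localization.AtPrime q) x)
    rw [IsScalarTower.algebraMap_apply B' B (Localization.AtPrime q), IsScalarTower.algebraMap_apply B' B (Localization.AtPrime q) a,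
      ← map_mul] at hx
    obtain ⟨⟨u, hu⟩, huu⟩ := (IsLocalization.eq_iff_exists q.primeCompl _).1 hx
    obtain ⟨s', hs', w, hw⟩ := down q u hu
    refine ⟨s' * a, s' * s, ?_, ?_⟩
    · rw [map_mul]
      exact q.primeCompl.mul_mem hs' s.2
    · rw [map_mul, map_mul, hw]
      linear_combination w * huu
  have hg : Topology.IsOpenEmbedding g := by
    refine Topology.isOpenEmbedding_iff _ |>.2 ⟨?_, ?_⟩
    · exact Topology.IsEmbedding.of_comp (PrimeSpectrum.continuous_comap _) (PrimeSpectrum.continuous_comap φ)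
        (by rw [hcomp]; exact hemb'.isEmbedding)
    · have : Set.range g = h ⁻¹' (Set.range fun q : PrimeSpectrum B => q.comap (algebraMap B' B)) := by
        ext c
        constructor
        · rintro ⟨q, rfl⟩
          exact ⟨q, (congrFun hcomp q).symm⟩
        · rintro ⟨q, hq⟩
          refine ⟨q, PrimeSpectrum.ext (Ideal.ext fun x => ?_)⟩
          obtain ⟨a, s, hs, hx⟩ := key q.asIdeal (x : B)
          have hx' : φ s * x = φ a := Subtype.ext hx
          have hq' : ∀ b : B', algebraMap B' B b ∈ q.asIdeal ↔ φ b ∈ c.asIdeal := fun b =>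
            Ideal.ext_iff.1 (congrArg PrimeSpectrum.asIdeal hq) b
          show (x : B) ∈ q.asIdeal ↔ x ∈ c.asIdeal
          have hs' : φ s ∉ c.asIdeal := fun hh => hs ((hq' s).2 hh)
          constructor
          · intro hxq
            refine (c.isPrime.mem_or_mem (?_ : φ s * x ∈ c.asIdeal)).resolve_left hs'
            rw [hx', ← hq', ← hx]
            exact Ideal.mul_mem_left _ _ hxq
          · intro hxc
            refine (q.isPrime.mem_or_mem (?_ : algebraMap B' B s * (x : B) ∈ q.asIdeal)).resolve_left hs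
            rw [hx, hq', ← hx']
            exact Ideal.mul_mem_left _ _ hxc
      rw [this]
      exact hemb'.isOpen_range.preimage (PrimeSpectrum.continuous_comap φ)
  refine IsOpenImmersion.iff_isIso_stalkMap.2 ⟨hg, fun q => ?_⟩
  let f := CommRingCat.ofHom C.val.toRingHom
  refine ((MorphismProperty.isomorphisms CommRingCat).arrow_mk_iso_iff (Scheme.arrowStalkMapSpecIso f q)).2 ?_
  let c := q.asIdeal.comap C.val.toRingHom
  refine (ConcreteCategory.isIso_iff_bijective _).2 ?_
  show Function.Bijective (Localization.localRingHom c q.asIdeal C.val.toRingHom rfl)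
  refine ⟨?_, fun z => ?_⟩
  · rw [injective_iff_map_eq_zero]
    intro z hz
    obtain ⟨y, ⟨s, hs⟩, rfl⟩ := IsLocalization.exists_mk'_eq c.primeCompl z
    rw [Localization.localRingHom_mk', IsLocalization.mk'_eq_zero_iff] at hz
    obtain ⟨⟨u, hu⟩, huy⟩ := hz
    obtain ⟨a, t, ht, hat⟩ := key q.asIdeal u
    rw [IsLocalization.mk'_eq_zero_iff]
    refine ⟨⟨φ a, fun hh => ?_⟩, Subtype.ext ?_⟩
    · refine q.asIdeal.primeCompl.mul_mem ht hu ?_
      show algebraMap B' B t * u ∈ q.asIdeal
      rw [hat]
      exact hh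
    · show algebraMap B' B a * (y : B) = 0
      rw [← hat, mul_assoc]
      exact mul_eq_zero_of_right _ huy
  · obtain ⟨b, ⟨s, hs⟩, rfl⟩ := IsLocalization.exists_mk'_eq q.asIdeal.primeCompl z
    obtain ⟨a, t, ht, hat⟩ := key q.asIdeal b
    obtain ⟨a', t', ht', hat'⟩ := key q.asIdeal s
    have ha' : algebraMap B' B a' ∉ q.asIdeal := hat' ▸ q.asIdeal.primeCompl.mul_mem ht' hs
    refine ⟨IsLocalization.mk' _ (φ (a * t')) (⟨φ (t * a'), ?_⟩ : c.primeCompl), ?_⟩
    · show algebraMap B' B (t * a') ∉ q.asIdeal
      rw [map_mul]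
      exact q.asIdeal.primeCompl.mul_mem ht ha'
    · rw [Localization.localRingHom_mk']
      refine IsLocalization.mk'_eq_of_eq ?_
      show algebraMap B' B (t * a') * b = (s : B) * algebraMap B' B (a * t')
      rw [map_mul, map_mul, ← hat, ← hat']
      ring

end Groth.Agent.H05EGA4.QFDominate
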