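import Groth.Agent.H05EGA4.QFSplit

/-! Multiplication maps of a quasi-finite flat algebra factoring through free modules. -/

set_option autoImplicit false
set_option linter.style.haveILetI false

universe u

open TensorProduct IsLocalRing

namespace Groth.Agent.H05EGA4.QFFac

attribute [local instance] Algebra.TensorProduct.rightAlgebra

/-- Multiplication by `b` factors through a finite free `A`-module. -/
def Fac (A : Type u) {B' : Type u} [CommRing A] [CommRing B'] [Algebra A B'] (b : B') : Prop :=
  ∃ s : Finset (Module.Dual A B' × B'), ∀ x : B', b * x = ∑ p ∈ s, p.1 x • p.2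

section Descent

variable {A B' : Type u} [CommRing A] [CommRing B'] [Algebra A B'] [Module.FinitePresentation A B']
  {R : Type u} [CommRing R] [Algebra A R] [Module.Flat A R]

theorem exists_fac_of_split (Q : Ideal (R ⊗[A] B')) [Q.IsPrime] {e : R ⊗[A] B'} (heQ : e ∉ Q)
    {C : Type u} [CommRing C] [Algebra R C] [Module.Finite R C] [Module.Free R C]
    (α : (R ⊗[A] B') →ₗ[R] C) (g : C →ₗ[R] (R ⊗[A] B')) (hg : ∀ x, g (α x) = e * x) :
    ∃ b : B', Fac A b ∧ (1 : R) ⊗ₜ[A] b ∉ Q := by
  classical
  obtain ⟨n, x, hx⟩ := Module.Finite.exists_fin (R := A) (M := B')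
  let ev : Module.Dual A B' ⊗[A] B' →ₗ[A] (Fin n → B') :=
    TensorProduct.lift (LinearMap.mk₂ A (fun φ y i => φ (x i) • y) (fun φ ψ y => funext fun i => add_smul _ _ _)
      (fun a φ y => funext fun i => mul_smul _ _ _) (fun φ y z => funext fun i => smul_add _ _ _)
      (fun a φ y => funext fun i => smul_comm _ _ _))
  let μ : B' →ₗ[A] (Fin n → B') := LinearMap.pi fun i => LinearMap.mulRight A (x i)
  let Φ : B' →ₗ[A] ((Fin n → B') ⧸ LinearMap.range ev) := (LinearMap.range ev).mkQ.comp μ
  let ι := Module.Free.ChooseBasisIndex R C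
  let bas := Module.Free.chooseBasis R C
  let hd := QFFlatBC.isBaseChange_toDual (TensorProduct.isBaseChange A B' R)
  let z : ι → R ⊗[A] Module.Dual A B' := fun l => hd.equiv.symm ((bas.coord l).comp α)
  let w : R ⊗[A] (Module.Dual A B' ⊗[A] B') :=
    ∑ l, (TensorProduct.AlgebraTensorModule.distribBaseChange A R (Module.Dual A B') B').symm (z l ⊗ₜ[R] g (bas l))
  let P := TensorProduct.piRight A R R (fun _ : Fin n => B')
  have hdist : ∀ (zz : R ⊗[A] Module.Dual A B') (ss : R ⊗[A] B') (i : Fin n),
      P (ev.lTensor R ((TensorProduct.AlgebraTensorModule.distribBaseChange A R (Module.Dual A B') B').symm (zz ⊗ₜ[R] ss))) i =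
        hd.equiv zz ((1 : R) ⊗ₜ[A] x i) • ss := fun zz ss i => by
    induction zz with
    | zero => simp
    | add a b ha hb => simp only [TensorProduct.add_tmul, map_add, Pi.add_apply, LinearMap.add_apply, ha, hb, add_smul]
    | tmul a φ =>
      induction ss with
      | zero => simp
      | add p q hp hq => simp only [TensorProduct.tmul_add, map_add, Pi.add_apply, hp, hq, smul_add]
      | tmul r y =>
        have h1 : hd.equiv (a ⊗ₜ φ) ((1 : R) ⊗ₜ[A] x i) = a * algebraMap A R (φ (x i)) := by
          rw [IsBaseChange.equiv_tmul, LinearMap.smul_apply, smul_eq_mul]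
          congr 1
          exact IsBaseChange.toDual_comp_apply (TensorProduct.isBaseChange A B' R) φ (x i)
        rw [h1]
        have h2 : (TensorProduct.AlgebraTensorModule.distribBaseChange A R (Module.Dual A B') B').symm
            ((a ⊗ₜ[A] φ) ⊗ₜ[R] (r ⊗ₜ[A] y)) = (r * a) ⊗ₜ[A] (φ ⊗ₜ[A] y) := by
          rw [LinearEquiv.symm_apply_eq]
          simp [TensorProduct.AlgebraTensorModule.distribBaseChange]
          rw [show r ⊗ₜ[A] y = r • ((1 : R) ⊗ₜ[A] y) by rw [TensorProduct.smul_tmul', smul_eq_mul, mul_one],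
            TensorProduct.tmul_smul, TensorProduct.smul_tmul', TensorProduct.smul_tmul', smul_eq_mul]
        rw [h2, LinearMap.lTensor_tmul]
        show (r * a) ⊗ₜ[A] (φ (x i) • y) = (a * algebraMap A R (φ (x i))) • (r ⊗ₜ[A] y)
        rw [TensorProduct.tmul_smul, TensorProduct.smul_tmul', TensorProduct.smul_tmul', smul_eq_mul,
          Algebra.smul_def]
        congr 1
        ring
  have hw : ∀ i, P (ev.lTensor R w) i = P (μ.lTensor R e) i := fun i => by
    have hμ : ∀ u : R ⊗[A] B', P (μ.lTensor R u) i = u * ((1 : R) ⊗ₜ[A] x i) := fun u => by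
      induction u with
      | zero => simp
      | add a b ha hb => simp only [map_add, Pi.add_apply, ha, hb, add_mul]
      | tmul r y =>
        show r ⊗ₜ[A] (y * x i) = _
        rw [Algebra.TensorProduct.tmul_mul_tmul, mul_one]
    rw [hμ, map_sum, map_sum, Finset.sum_apply]
    simp only [hdist, z, LinearEquiv.apply_symm_apply, LinearMap.comp_apply, Module.Basis.coord_apply]
    rw [← hg]
    conv_rhs => rw [← bas.sum_repr (α ((1 : R) ⊗ₜ[A] x i)), map_sum]
    simp only [map_smul]
    rfl
  have hker : Φ.lTensor R e = 0 := by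
    have : ev.lTensor R w = μ.lTensor R e := P.injective (funext hw)
    show LinearMap.lTensor R ((LinearMap.range ev).mkQ.comp μ) e = 0
    rw [LinearMap.lTensor_comp, LinearMap.comp_apply, ← this, ← LinearMap.comp_apply, ← LinearMap.lTensor_comp,
      show (LinearMap.range ev).mkQ.comp ev = 0 from LinearMap.range_mkQ_comp ev, LinearMap.lTensor_zero,
      LinearMap.zero_apply]
  have hex : Function.Exact (LinearMap.ker Φ).subtype Φ := LinearMap.exact_subtype_ker_map Φ
  obtain ⟨v, hv⟩ := ((Module.Flat.lTensor_exact R hex) e).1 hker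
  obtain ⟨b, hb, hbQ⟩ : ∃ b ∈ LinearMap.ker Φ, (1 : R) ⊗ₜ[A] b ∉ Q := by
    by_contra! hno
    refine heQ (hv ▸ ?_)
    clear hv
    induction v with
    | zero => simp
    | add p q hp hq => rw [map_add]; exact Q.add_mem hp hq
    | tmul r j =>
      rw [LinearMap.lTensor_tmul, show r ⊗ₜ[A] (LinearMap.ker Φ).subtype j = (r ⊗ₜ[A] (1 : B')) * ((1 : R) ⊗ₜ[A] (j : B')) by
        rw [Algebra.TensorProduct.tmul_mul_tmul, mul_one, one_mul]; rfl]
      exact Q.mul_mem_left _ (hno j j.2)
  refine ⟨b, ?_, hbQ⟩
  have hb' : μ b ∈ LinearMap.range ev := (Submodule.Quotient.mk_eq_zero _).1 hb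
  obtain ⟨t, ht⟩ := hb'
  obtain ⟨s, rfl⟩ := TensorProduct.exists_finset t
  refine ⟨s, fun y => ?_⟩
  have hlin : (LinearMap.mulLeft A b) = ∑ p ∈ s, p.1.smulRight p.2 := by
    refine LinearMap.ext_on hx ?_
    rintro _ ⟨i, rfl⟩
    have h := congrFun ht i
    rw [map_sum, Finset.sum_apply] at h
    rw [LinearMap.mulLeft_apply, LinearMap.sum_apply]
    exact h.symm
  have := LinearMap.congr_fun hlin y
  rw [LinearMap.mulLeft_apply, LinearMap.sum_apply] at this
  exact this

end Descent

theorem free_aux (R C : Type u) [CommRing R] [IsLocalRing R] [CommRing C] [Algebra R C] [Module.Finite R C] [Module.Flat R C]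
    [Module.FinitePresentation R C] : Module.Free R C :=
  Module.free_of_flat_of_isLocalRing

variable {A B' B : Type u} [CommRing A] [CommRing B'] [CommRing B] [IsNoetherianRing A] [Algebra A B'] [Algebra B' B]
  [Algebra A B] [IsScalarTower A B' B] [Module.Flat A B]

theorem exists_fac_notMem (hf : QFDual.IsQFFactor A B' B) (q : Ideal B) [q.IsPrime] :
    ∃ b : B', Fac A b ∧ algebraMap B' B b ∉ q := by
  classical
  haveI := hf.finite
  haveI : IsNoetherianRing B' := IsNoetherianRing.of_finite A B'
  haveI : Module.FinitePresentation A B' := Module.finitePresentation_of_finite A B'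
  let p := q.comap (algebraMap A B)
  let q' := q.comap (algebraMap B' B)
  let Ap := Localization.AtPrime p
  haveI : IsNoetherianRing Ap := IsLocalization.isNoetherianRing p.primeCompl Ap inferInstance
  let R := EGA4.Cpl Ap
  haveI hRl : IsLocalRing R := inferInstanceAs (IsLocalRing (AdicCompletion (maximalIdeal Ap) Ap))
  haveI : IsNoetherianRing R := H05EGA4.isNoetherianRing_cpl Ap
  haveI : HenselianLocalRing R := H9Hens.henselianLocalRing_cpl Ap
  letI : Algebra A R := inferInstanceAs (Algebra A (AdicCompletion (maximalIdeal Ap) Ap))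
  haveI : IsScalarTower A Ap R := inferInstanceAs (IsScalarTower A Ap (AdicCompletion (maximalIdeal Ap) Ap))
  haveI : Module.Flat Ap R := inferInstanceAs (Module.Flat Ap (AdicCompletion (maximalIdeal Ap) Ap))
  haveI : Module.Flat A Ap := IsLocalization.flat Ap p.primeCompl
  haveI : Module.Flat A R := Module.Flat.trans A Ap R
  let S := R ⊗[A] B'
  -- the point of `S`
  let κ := ResidueField (Localization.AtPrime q)
  let ι : ResidueField Ap →+* κ := ResidueField.map (Localization.localRingHom p q (algebraMap A B) rfl)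
  let ev : R →+* ResidueField Ap := (AdicCompletion.evalOneₐ (maximalIdeal Ap)).toRingHom
  have hev : Function.Surjective ev := AdicCompletion.evalOneₐ_surjective _
  let η : B →+* κ := (residue (Localization.AtPrime q)).comp (algebraMap B (Localization.AtPrime q))
  have hκ : ∀ a : A, η (algebraMap A B a) = algebraMap A κ a := fun a => by
    show residue _ (algebraMap B (Localization.AtPrime q) (algebraMap A B a)) = _
    rw [← IsScalarTower.algebraMap_apply]
    rfl
  have hθR : ∀ a : A, (ι.comp ev) (algebraMap A R a) = algebraMap A κ a := fun a => by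
    show ι (ev (algebraMap A R a)) = _
    rw [← hκ, IsScalarTower.algebraMap_apply A Ap R, show ev (algebraMap Ap R (algebraMap A Ap a)) = residue Ap (algebraMap A Ap a) from
      (AdicCompletion.evalOneₐ (maximalIdeal Ap)).commutes _, ResidueField.map_residue, Localization.localRingHom_to_map]
    rfl
  let θR : R →ₐ[A] κ := { toRingHom := ι.comp ev, commutes' := hθR }
  have hθB : ∀ a : A, (η.comp (algebraMap B' B)) (algebraMap A B' a) = algebraMap A κ a := fun a => by
    show η (algebraMap B' B (algebraMap A B' a)) = _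
    rw [← IsScalarTower.algebraMap_apply, hκ]
  let θB : B' →ₐ[A] κ := { toRingHom := η.comp (algebraMap B' B), commutes' := hθB }
  let Θ : S →ₐ[A] κ := Algebra.TensorProduct.lift θR θB fun _ _ => Commute.all _ _
  let Q : Ideal S := RingHom.ker Θ.toRingHom
  haveI hQp : Q.IsPrime := RingHom.ker_isPrime _
  have hQR : Q.comap (algebraMap R S) = maximalIdeal R := by
    refine IsLocalRing.eq_maximalIdeal ?_
    have h1 : Q.comap (algebraMap R S) = RingHom.ker ev := by
      ext r
      show Θ (r ⊗ₜ (1 : B')) = 0 ↔ ev r = 0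
      rw [Algebra.TensorProduct.lift_tmul, map_one, mul_one]
      exact map_eq_zero ι
    rw [h1]
    exact RingHom.ker_isMaximal_of_surjective ev hev
  haveI : Q.IsMaximal := Ideal.isMaximal_of_isIntegral_of_isMaximal_comap (R := R) Q (hQR ▸ maximalIdeal.isMaximal R)
  have hη : ∀ b, η b = 0 ↔ b ∈ q := fun b => by
    show residue _ _ = 0 ↔ _
    rw [residue_eq_zero_iff, IsLocalization.AtPrime.to_map_mem_maximal_iff _ q]
  have hQB : ∀ b : B', (1 : R) ⊗ₜ[A] b ∈ Q ↔ b ∈ q' := fun b => by
    show Θ ((1 : R) ⊗ₜ[A] b) = 0 ↔ _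
    rw [Algebra.TensorProduct.lift_tmul, map_one, one_mul]
    exact hη _
  obtain ⟨e, he, heQ, hsurj, hker⟩ := QFSplit.exists_split (R := R) Q
  let C := Localization.AtPrime Q
  have he1 : algebraMap S C e = 1 := by
    have hu := IsLocalization.map_units C (⟨e, heQ⟩ : Q.primeCompl)
    refine hu.mul_left_cancel ?_
    rw [mul_one, ← map_mul]
    exact congrArg _ he.eq
  haveI : Module.Finite R C := Module.Finite.of_surjective (IsScalarTower.toAlgHom R S C).toLinearMap hsurj
  -- the map from `B`
  let Bq := Localization.AtPrime q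
  haveI hBq : IsLocalization.AtPrime Bq q' := QFLocal.isLocalization_atPrime hf.isOpenImmersion q
  have hunits : ∀ s : q'.primeCompl, IsUnit (algebraMap B' C s) := fun s => by
    rw [IsScalarTower.algebraMap_apply B' S C]
    exact IsLocalization.map_units C (⟨(1 : R) ⊗ₜ[A] (s : B'), fun h => s.2 ((hQB _).1 h)⟩ : Q.primeCompl)
  let gq : Bq →+* C := IsLocalization.lift (M := q'.primeCompl) hunits
  letI : Algebra Bq C := gq.toAlgebra
  letI : Algebra B C := (gq.comp (algebraMap B Bq)).toAlgebra
  haveI : IsScalarTower B' Bq C := IsScalarTower.of_algebraMap_eq fun b => (IsLocalization.lift_eq hunits b).symm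
  haveI : IsScalarTower B Bq C := IsScalarTower.of_algebraMap_eq fun b => rfl
  haveI : IsScalarTower B' B C := IsScalarTower.of_algebraMap_eq fun b => by
    rw [IsScalarTower.algebraMap_apply B Bq C, ← IsScalarTower.algebraMap_apply B' B Bq, ← IsScalarTower.algebraMap_apply B' Bq C]
  haveI : IsScalarTower A B C := IsScalarTower.of_algebraMap_eq fun a => by
    rw [IsScalarTower.algebraMap_apply A B' B, ← IsScalarTower.algebraMap_apply B' B C, ← IsScalarTower.algebraMap_apply]
  haveI : Module.Flat B' S := Module.Flat.isBaseChange A B' R S (Algebra.IsPushout.out (R := A) (S := B') (R' := R) (S' := S))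
  haveI : Module.Flat S C := IsLocalization.flat C Q.primeCompl
  haveI : Module.Flat B' C := Module.Flat.trans B' S C
  haveI : Module.Flat Bq C := (Module.flat_iff_of_isLocalization Bq q'.primeCompl C).2 inferInstance
  haveI : Module.Flat B Bq := IsLocalization.flat Bq q.primeCompl
  haveI : Module.Flat B C := Module.Flat.trans B Bq C
  have hcomapC : (maximalIdeal C).comap (algebraMap B' C) = q' := by
    ext b
    rw [Ideal.mem_comap, IsScalarTower.algebraMap_apply B' S C, IsLocalization.AtPrime.to_map_mem_maximal_iff C Q]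
    exact hQB b
  have hcomap : (maximalIdeal C).comap (algebraMap B C) = q := by
    have h1 : (maximalIdeal C).comap (algebraMap Bq C) = maximalIdeal Bq := by
      refine le_antisymm (le_maximalIdeal (Ideal.IsPrime.ne_top (Ideal.comap_isPrime _ _))) fun x hx => ?_
      obtain ⟨⟨a, s⟩, ha⟩ := IsLocalization.surj q'.primeCompl x
      have ha' : a ∈ q' := by
        rw [← IsLocalization.AtPrime.to_map_mem_maximal_iff Bq q', ← ha]
        exact Ideal.mul_mem_right _ _ hx
      rw [← hcomapC, Ideal.mem_comap] at ha'
      rw [Ideal.mem_comap]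
      rw [IsScalarTower.algebraMap_apply B' Bq C, ← ha, map_mul] at ha'
      exact ((maximalIdeal.isMaximal C).isPrime.mem_or_mem ha').resolve_right fun h =>
        (mem_maximalIdeal _).1 h ((IsLocalization.map_units Bq s).map _)
    rw [IsScalarTower.algebraMap_eq B Bq C, ← Ideal.comap_comap, h1]
    exact Localization.AtPrime.comap_maximalIdeal
  -- `C` is a localization of `R ⊗ B`
  let ν : S →ₐ[A] R ⊗[A] B := Algebra.TensorProduct.map (AlgHom.id A R) (IsScalarTower.toAlgHom A B' B)
  let θ : R ⊗[A] B →ₐ[A] C :=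
    Algebra.TensorProduct.lift (IsScalarTower.toAlgHom A R C) (IsScalarTower.toAlgHom A B C) fun _ _ => Commute.all _ _
  have hθν : ∀ x, θ (ν x) = algebraMap S C x := fun x => by
    induction x using TensorProduct.induction_on with
    | zero => rw [map_zero, map_zero]; exact (map_zero (algebraMap S C)).symm

    | add a b ha hb => simp only [map_add, ha, hb]
    | tmul r b =>
      show algebraMap R C r * algebraMap B C (algebraMap B' B b) = _
      rw [← IsScalarTower.algebraMap_apply B' B C, IsScalarTower.algebraMap_apply R S C, IsScalarTower.algebraMap_apply B' S C,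
        ← map_mul]
      congr 1
      show (r ⊗ₜ[A] (1 : B')) * ((1 : R) ⊗ₜ[A] b) = _
      rw [Algebra.TensorProduct.tmul_mul_tmul, mul_one, one_mul]
  let e' := ν e
  have he' : IsIdempotentElem e' := he.map ν
  have hθs : Function.Surjective θ := fun c => by
    obtain ⟨x, rfl⟩ := hsurj c
    exact ⟨ν x, hθν x⟩
  have hθν' : θ.toRingHom.comp ν.toRingHom = algebraMap S C := RingHom.ext fun x => hθν x
  have hθker : ∀ z, θ.toRingHom z = 0 ↔ e' * z = 0 := fun z => by
    have h := QFSplit.ker_of_epi (S := S) (C := C) (T := R ⊗[A] B) (algebraMap S C) hsurj ν.toRingHom θ.toRingHom hθν' e he hker he1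
      (fun D _ g g' h => QFSplit.map_epi (A := A) (B' := B') hf.isOpenImmersion R g g' h) z
    exact h
  have hcomm : ∀ r : R, θ.toRingHom (algebraMap R (R ⊗[A] B) r) = algebraMap R C r := fun r => by
    show algebraMap R C r * algebraMap B C 1 = _
    rw [map_one, mul_one]
  let θ' : R ⊗[A] B →ₐ[R] C := { toRingHom := θ.toRingHom, commutes' := hcomm }
  obtain ⟨hfl, -⟩ := QFSplit.of_idempotent (R := R) (T := R ⊗[A] B) (C := C) θ' hθs e' he' hθker
  haveI : Module.Flat R C := hfl inferInstance
  haveI : Module.FinitePresentation R C := Module.finitePresentation_of_finite R C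
  haveI : Module.Free R C := free_aux R C
  choose σ hσ using hsurj
  have hwd : ∀ y z, algebraMap S C y = algebraMap S C z → e * y = e * z := fun y z h => by
    have := (hker (y - z)).1 (by rw [map_sub, h, sub_self])
    rwa [mul_sub, sub_eq_zero] at this
  let g : C →ₗ[R] S :=
    { toFun := fun c => e * σ c
      map_add' := fun c d => by
        show e * σ (c + d) = e * σ c + e * σ d
        rw [← mul_add]
        exact hwd _ _ (by rw [hσ, map_add, hσ, hσ])
      map_smul' := fun r c => by
        show e * σ (r • c) = r • (e * σ c)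
        rw [← mul_smul_comm]
        refine hwd _ _ ?_
        rw [hσ, Algebra.smul_def r (σ c), map_mul, hσ, ← IsScalarTower.algebraMap_apply, Algebra.smul_def] }
  obtain ⟨b, hb, hbQ⟩ := exists_fac_of_split (A := A) (B' := B') (C := C) Q heQ (IsScalarTower.toAlgHom R S C).toLinearMap g
    fun y => by
      show e * σ (algebraMap S C y) = e * y
      exact hwd _ _ (hσ _)
  exact ⟨b, hb, fun h => hbQ ((hQB b).2 h)⟩

/-- The elements with a factorization generate the unit ideal of `B`. -/
theorem span_fac_eq_top (hf : QFDual.IsQFFactor A B' B) :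
    Ideal.span (algebraMap B' B '' {b : B' | Fac A b}) = ⊤ := by
  by_contra hne
  obtain ⟨q, hq, hle⟩ := Ideal.exists_le_maximal _ hne
  obtain ⟨b, hb, hbq⟩ := exists_fac_notMem hf q
  exact hbq (hle (Ideal.subset_span ⟨b, hb, rfl⟩))

end Groth.Agent.H05EGA4.QFFac
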