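import Groth.Prelude.Def_QFDual
import Mathlib.RingTheory.Flat.Basic
import Mathlib.Algebra.Module.FinitePresentation

/-! Flat base change of the dualizing module. -/

set_option autoImplicit false
set_option linter.style.haveILetI false

universe u

open TensorProduct

namespace Groth.Agent.H05EGA4.QFFlatBC

theorem isBaseChange_toDual {R R' M M' : Type u} [CommRing R] [CommRing R'] [Algebra R R'] [Module.Flat R R']
    [AddCommGroup M] [Module R M] [Module.FinitePresentation R M] [AddCommGroup M'] [Module R M'] [Module R' M']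
    [IsScalarTower R R' M'] {j : M →ₗ[R] M'} (hj : IsBaseChange R' j) : IsBaseChange R' hj.toDual := by
  classical
  obtain ⟨n, π, hπ⟩ := Module.Finite.exists_fin' R M
  obtain ⟨m, k, hk⟩ := Submodule.fg_iff_exists_fin_generating_family.1 (Module.FinitePresentation.fg_ker π hπ)
  let x : Fin n → M := fun i => π (Pi.single i 1)
  let ev : Module.Dual R M →ₗ[R] (Fin n → R) := LinearMap.pi fun i => LinearMap.applyₗ (x i)
  let r : (Fin n → R) →ₗ[R] (Fin m → R) := LinearMap.pi fun l => ∑ i, k l i • LinearMap.proj i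
  have hπx : ∀ v, π v = ∑ i, v i • x i := fun v => by
    conv_lhs => rw [pi_eq_sum_univ' v, map_sum]
    exact Finset.sum_congr rfl fun i _ => map_smul π _ _
  have hkx : ∀ l, ∑ i, k l i • x i = 0 := fun l => by
    rw [← hπx]
    exact (LinearMap.mem_ker (f := π)).1 (hk ▸ Submodule.subset_span ⟨l, rfl⟩)
  have hinj : Function.Injective ev := fun f g hfg => LinearMap.ext fun y => by
    obtain ⟨v, rfl⟩ := hπ y
    rw [hπx, map_sum, map_sum]
    exact Finset.sum_congr rfl fun i _ => by rw [map_smul, map_smul, show f (x i) = g (x i) from congrFun hfg i]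
  have hex : Function.Exact ev r := fun v => by
    constructor
    · intro hv
      let L : (Fin n → R) →ₗ[R] R := ∑ i, v i • LinearMap.proj i
      have hL : LinearMap.ker π ≤ LinearMap.ker L := hk ▸ Submodule.span_le.2 (by
        rintro _ ⟨l, rfl⟩
        have := congrFun hv l
        simpa [r, L, mul_comm] using this)
      refine ⟨(Submodule.liftQ _ L hL) ∘ₗ (π.quotKerEquivOfSurjective hπ).symm.toLinearMap, funext fun i => ?_⟩
      have hq : (π.quotKerEquivOfSurjective hπ).symm (x i) = Submodule.Quotient.mk (Pi.single i 1) := by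
        rw [LinearEquiv.symm_apply_eq]; rfl
      show (Submodule.liftQ _ L hL) ((π.quotKerEquivOfSurjective hπ).symm (x i)) = v i
      rw [hq, Submodule.liftQ_apply]
      simp [L, Pi.single_apply]
    · rintro ⟨f, rfl⟩
      funext l
      have := congrArg f (hkx l)
      simpa [r, ev] using this
  have hexR := Module.Flat.lTensor_exact R' hex
  have hinjR := Module.Flat.lTensor_preserves_injective_linearMap (M := R') ev hinj
  let e := TensorProduct.piScalarRight R R R' (Fin n)
  let θ := TensorProduct.AlgebraTensorModule.lift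
    (((LinearMap.ringLmapEquivSelf R' R' _).symm hj.toDual : R' →ₗ[R'] Module.Dual R M →ₗ[R] Module.Dual R' M'))
  have hθ : ∀ (a : R') (f : Module.Dual R M), θ (a ⊗ₜ f) = a • hj.toDual f := fun a f => by
    simp [θ, LinearMap.ringLmapEquivSelf_symm_apply]
  have hcomp : ∀ z i, θ z (j (x i)) = e (ev.lTensor R' z) i := fun z i => by
    induction z with
    | zero => simp
    | add a b ha hb => simp only [map_add, LinearMap.add_apply, Pi.add_apply, ha, hb]
    | tmul a f =>
      rw [hθ, LinearMap.lTensor_tmul]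
      simp [e, ev, IsBaseChange.toDual_comp_apply, Algebra.smul_def, mul_comm]
  refine IsBaseChange.of_equiv (LinearEquiv.ofBijective θ ⟨fun z w hzw => hinjR (e.injective (funext fun i => ?_)), fun g => ?_⟩) fun f => ?_
  · rw [← hcomp, ← hcomp, hzw]
  · have hg : r.lTensor R' (e.symm fun i => g (j (x i))) = 0 := by
      have h1 : ∀ z l, TensorProduct.piScalarRight R R R' (Fin m) (r.lTensor R' z) l = ∑ i, k l i • e z i := fun z l => by
        induction z with
        | zero => simp
        | add a b ha hb => simp only [map_add, Pi.add_apply, ha, hb, smul_add, Finset.sum_add_distrib]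
        | tmul a f => simp [e, r, Finset.sum_smul, smul_smul]
      refine (TensorProduct.piScalarRight R R R' (Fin m)).injective (funext fun l => ?_)
      rw [h1, e.apply_symm_apply, map_zero, Pi.zero_apply]
      have := congrArg (fun y => g (j y)) (hkx l)
      simp only [map_sum, map_smul, map_zero] at this
      rw [← this]
      exact Finset.sum_congr rfl fun i _ => by rw [LinearMap.map_smul_of_tower]
    obtain ⟨z, hz⟩ := (hexR _).1 hg
    refine ⟨z, hj.algHom_ext' _ _ (LinearMap.ext fun y => ?_)⟩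
    obtain ⟨v, rfl⟩ := hπ y
    show θ z (j (π v)) = g (j (π v))
    rw [hπx, map_sum, map_sum, map_sum]
    refine Finset.sum_congr rfl fun i _ => ?_
    rw [map_smul, LinearMap.map_smul_of_tower, LinearMap.map_smul_of_tower, hcomp, hz, e.apply_symm_apply]
  · show θ (1 ⊗ₜ f) = _
    rw [hθ, one_smul]

theorem omegaBC_bijective {A B' A₁ B'₁ B₁ : Type u} [CommRing A] [CommRing B'] [CommRing A₁] [CommRing B'₁] [CommRing B₁]
    [Algebra A B'] [Module.FinitePresentation A B'] [Algebra A A₁] [Module.Flat A A₁] [Algebra B' B'₁] [Algebra A₁ B'₁]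
    [Algebra A B'₁] [IsScalarTower A A₁ B'₁] [IsScalarTower A B' B'₁] (h : Algebra.IsPushout A A₁ B' B'₁)
    [Algebra B'₁ B₁] [Algebra B' B₁] [IsScalarTower B' B'₁ B₁] :
    Function.Bijective (QFDual.omegaBC (B₁ := B₁) h) := by
  classical
  let hd := isBaseChange_toDual h.out
  let η : A₁ →+* B₁ := (algebraMap B'₁ B₁).comp (algebraMap A₁ B'₁)
  have hmk : ∀ (r : A) (f : Module.Dual A B'), (⟨r • f⟩ : Disc.Omega A B') = algebraMap A B' r • ⟨f⟩ := fun r f =>
    Disc.Omega.ext (LinearMap.ext fun y => by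
      rw [Disc.Omega.smul_toLinearMap_apply, ← Algebra.smul_def, map_smul]
      rfl)
  let ρ : A₁ ⊗[A] Module.Dual A B' →+ QFDual.omega A B' B₁ :=
    TensorProduct.liftAddHom
      { toFun := fun a =>
          { toFun := fun f => η a ⊗ₜ[B'] (⟨f⟩ : Disc.Omega A B')
            map_zero' := TensorProduct.tmul_zero _ _
            map_add' := fun f g => TensorProduct.tmul_add _ _ _ }
        map_zero' := AddMonoidHom.ext fun f => by simp
        map_add' := fun a b => AddMonoidHom.ext fun f => by simp [add_tmul] }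
      fun r a f => by
        show η (r • a) ⊗ₜ[B'] (⟨f⟩ : Disc.Omega A B') = η a ⊗ₜ[B'] (⟨r • f⟩ : Disc.Omega A B')
        rw [hmk, TensorProduct.tmul_smul, TensorProduct.smul_tmul']
        congr 1
        rw [Algebra.smul_def, map_mul, Algebra.smul_def, IsScalarTower.algebraMap_apply B' B'₁ B₁,
          ← IsScalarTower.algebraMap_apply A B' B'₁, IsScalarTower.algebraMap_apply A A₁ B'₁]
        rfl
  let ψ : Disc.Omega A₁ B'₁ →+ QFDual.omega A B' B₁ :=
    ρ.comp (hd.equiv.symm.toAddEquiv.toAddMonoidHom.comp (AddMonoidHom.mk' Disc.Omega.toLinearMap fun _ _ => rfl))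
  have hψ : ∀ (a : A₁) (f : Module.Dual A B'),
      ψ (algebraMap A₁ B'₁ a • (⟨h.out.toDual f⟩ : Disc.Omega A₁ B'₁)) = η a ⊗ₜ[B'] (⟨f⟩ : Disc.Omega A B') := fun a f => by
    have he : (algebraMap A₁ B'₁ a • (⟨h.out.toDual f⟩ : Disc.Omega A₁ B'₁)).toLinearMap = hd.equiv (a ⊗ₜ f) := by
      rw [IsBaseChange.equiv_tmul]
      refine LinearMap.ext fun y => ?_
      rw [Disc.Omega.smul_toLinearMap_apply, ← Algebra.smul_def, map_smul]
      rfl
    show ρ (hd.equiv.symm (algebraMap A₁ B'₁ a • (⟨h.out.toDual f⟩ : Disc.Omega A₁ B'₁)).toLinearMap) = _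
    rw [he, LinearEquiv.symm_apply_apply]
    rfl
  have hgen : ∀ Ψ : Disc.Omega A₁ B'₁, ∀ P : Disc.Omega A₁ B'₁ → Prop, P 0 →
      (∀ (a : A₁) (f : Module.Dual A B'), P (algebraMap A₁ B'₁ a • ⟨h.out.toDual f⟩)) →
      (∀ x y, P x → P y → P (x + y)) → P Ψ := fun Ψ P h0 ht hadd => by
    obtain ⟨z, hz⟩ := hd.equiv.surjective Ψ.toLinearMap
    have : Ψ = ⟨hd.equiv z⟩ := Disc.Omega.ext hz.symm
    rw [this]
    clear hz this
    induction z with
    | zero => rw [map_zero]; exact h0
    | add a b ha hb => rw [map_add]; exact hadd _ _ ha hb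
    | tmul a f =>
      convert ht a f using 1
      refine Disc.Omega.ext (LinearMap.ext fun y => ?_)
      rw [Disc.Omega.smul_toLinearMap_apply, ← Algebra.smul_def, map_smul, IsBaseChange.equiv_tmul]
      rfl
  have hA : ∀ (r : A₁) (Ψ : Disc.Omega A₁ B'₁), ψ (algebraMap A₁ B'₁ r • Ψ) = η r • ψ Ψ := fun r Ψ => by
    refine hgen Ψ (fun Ψ => ψ (algebraMap A₁ B'₁ r • Ψ) = η r • ψ Ψ) (by simp) (fun a f => ?_)
      fun x y hx hy => by simp only [smul_add, map_add, hx, hy]
    rw [smul_smul, ← map_mul, hψ, hψ, TensorProduct.smul_tmul', smul_eq_mul, map_mul]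
  have hlin : ∀ (c : B'₁) (Ψ : Disc.Omega A₁ B'₁), ψ (c • Ψ) = algebraMap B'₁ B₁ c • ψ Ψ := fun c Ψ => by
    refine hgen Ψ (fun Ψ => ψ (c • Ψ) = algebraMap B'₁ B₁ c • ψ Ψ) (by simp) (fun a f => ?_)
      fun x y hx hy => by simp only [smul_add, map_add, hx, hy]
    induction c using h.out.inductionOn with
    | zero => simp
    | tmul x =>
      have hx : algebraMap B' B'₁ x • (⟨h.out.toDual f⟩ : Disc.Omega A₁ B'₁) = ⟨h.out.toDual (x • (⟨f⟩ : Disc.Omega A B')).toLinearMap⟩ :=
        (LinearMap.map_smulₛₗ (QFDual.bcFin h) x ⟨f⟩).symm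
      show ψ (algebraMap B' B'₁ x • _) = algebraMap B'₁ B₁ (algebraMap B' B'₁ x) • ψ _
      rw [smul_comm, hx, hψ, hψ, ← IsScalarTower.algebraMap_apply B' B'₁ B₁, algebraMap_smul, ← TensorProduct.tmul_smul]
    | smul r c hc =>
      rw [Algebra.smul_def, mul_smul, hA, hc, map_mul, mul_smul]
      rfl
    | add x y hx hy => rw [add_smul, map_add, hx, hy, map_add, add_smul]
  let G : QFDual.omega A₁ B'₁ B₁ →+ QFDual.omega A B' B₁ :=
    TensorProduct.liftAddHom
      { toFun := fun b => (DistribSMul.toAddMonoidHom _ b).comp ψ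
        map_zero' := AddMonoidHom.ext fun Ψ => by simp
        map_add' := fun a b => AddMonoidHom.ext fun Ψ => by simp [add_smul] }
      fun c b Ψ => by
        show (c • b) • ψ Ψ = b • ψ (c • Ψ)
        rw [hlin, smul_smul, Algebra.smul_def, mul_comm]
  have hG : ∀ (b : B₁) (Ψ : Disc.Omega A₁ B'₁), G (b ⊗ₜ Ψ) = b • ψ Ψ := fun _ _ => rfl
  have hψ1 : ∀ f : Module.Dual A B', ψ ⟨h.out.toDual f⟩ = (1 : B₁) ⊗ₜ[B'] (⟨f⟩ : Disc.Omega A B') := fun f => by
    have := hψ 1 f
    rw [map_one, one_smul, map_one] at this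
    exact this
  refine Function.bijective_iff_has_inverse.2 ⟨G, fun z => ?_, fun z => ?_⟩
  · induction z using TensorProduct.induction_on with
    | zero => simp
    | add a b ha hb => simp only [map_add, ha, hb]
    | tmul b φ =>
      rw [QFDual.omegaBC_tmul, hG]
      show b • ψ ⟨h.out.toDual φ.toLinearMap⟩ = _
      rw [hψ1, TensorProduct.smul_tmul', smul_eq_mul, mul_one]
  · induction z using TensorProduct.induction_on with
    | zero => simp
    | add a b ha hb => simp only [map_add, ha, hb]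
    | tmul b Ψ =>
      rw [hG, map_smul]
      refine hgen Ψ (fun Ψ => b • QFDual.omegaBC (B₁ := B₁) h (ψ Ψ) = b ⊗ₜ Ψ) (by simp) (fun a f => ?_)
        fun x y hx hy => by rw [map_add, map_add, smul_add, hx, hy, tmul_add]
      rw [hψ, QFDual.omegaBC_tmul, TensorProduct.smul_tmul', smul_eq_mul, TensorProduct.tmul_smul, TensorProduct.smul_tmul']
      congr 1
      rw [Algebra.smul_def, mul_comm]
      rfl

end Groth.Agent.H05EGA4.QFFlatBC
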