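import Groth.Agent.H05EGA4.QFFac

/-! Base change of the dualizing module of a flat quasi-finite algebra. -/

set_option autoImplicit false
set_option linter.style.haveILetI false

universe u

open TensorProduct

namespace Groth.Agent.H05EGA4.QFGenBC

section Finite

variable {A B' A₁ B'₁ : Type u} [CommRing A] [CommRing B'] [CommRing A₁] [CommRing B'₁]
    [Algebra A B'] [Algebra A A₁] [Algebra B' B'₁] [Algebra A₁ B'₁] [Algebra A B'₁]
    [IsScalarTower A A₁ B'₁] [IsScalarTower A B' B'₁] (h : Algebra.IsPushout A A₁ B' B'₁)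

/-- Base change of forms as a linear map. -/
noncomputable def theta : (B'₁ ⊗[B'] Disc.Omega A B') →ₗ[B'₁] Disc.Omega A₁ B'₁ :=
  (TensorProduct.lid B'₁ _).toLinearMap ∘ₗ QFDual.omegaBC (B₁ := B'₁) h

theorem theta_tmul (c : B'₁) (φ : Disc.Omega A B') : theta h (c ⊗ₜ φ) = c • QFDual.bcFin h φ := by
  simp [theta]

theorem exists_partial_inverse {b : B'} (hb : QFFac.Fac A b) :
    ∃ H : Disc.Omega A₁ B'₁ →ₗ[B'₁] (B'₁ ⊗[B'] Disc.Omega A B'),
      (∀ Φ, theta h (H Φ) = (algebraMap B' B'₁ b) ^ 2 • Φ) ∧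
      ∀ z, H (theta h z) = (algebraMap B' B'₁ b) ^ 2 • z := by
  classical
  obtain ⟨s, hs⟩ := hb
  let β := algebraMap B' B'₁ b
  let g : Disc.Omega A₁ B'₁ →+ (B'₁ ⊗[B'] Disc.Omega A B') :=
    AddMonoidHom.mk' (fun Φ => ∑ p ∈ s, algebraMap A₁ B'₁ (Φ.toLinearMap (algebraMap B' B'₁ p.2)) ⊗ₜ[B'] (⟨p.1⟩ : Disc.Omega A B'))
      fun Φ Ψ => by
        rw [← Finset.sum_add_distrib]
        refine Finset.sum_congr rfl fun p _ => ?_
        rw [← TensorProduct.add_tmul, ← map_add]
        rfl
  have hθg : ∀ Φ, theta h (g Φ) = β • Φ := fun Φ => by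
    show theta h (∑ p ∈ s, _) = _
    rw [map_sum]
    simp only [theta_tmul]
    apply Disc.Omega.ext
    refine h.out.algHom_ext _ _ fun x => ?_
    rw [AlgHom.toLinearMap_apply, IsScalarTower.coe_toAlgHom', Disc.Omega.smul_toLinearMap_apply, ← map_mul, hs, map_sum, map_sum]
    let evx : Disc.Omega A₁ B'₁ →+ A₁ := AddMonoidHom.mk' (fun Ψ => Ψ.toLinearMap (algebraMap B' B'₁ x)) fun _ _ => rfl
    show evx _ = _
    rw [map_sum]
    refine Finset.sum_congr rfl fun p _ => ?_
    show (algebraMap A₁ B'₁ _ • QFDual.bcFin h _).toLinearMap _ = _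
    rw [Disc.Omega.smul_toLinearMap_apply, ← Algebra.smul_def, map_smul, QFDual.bcFin_apply_algebraMap,
      Algebra.smul_def (p.1 x) p.2, map_mul, ← IsScalarTower.algebraMap_apply A B' B'₁,
      IsScalarTower.algebraMap_apply A A₁ B'₁, ← Algebra.smul_def, map_smul, smul_eq_mul, smul_eq_mul, mul_comm]
  have hgl : ∀ (a : A₁) (Φ : Disc.Omega A₁ B'₁), g (algebraMap A₁ B'₁ a • Φ) = algebraMap A₁ B'₁ a • g Φ := fun a Φ => by
    show ∑ p ∈ s, _ = algebraMap A₁ B'₁ a • ∑ p ∈ s, _
    rw [Finset.smul_sum]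
    refine Finset.sum_congr rfl fun p _ => ?_
    rw [Disc.Omega.smul_toLinearMap_apply, ← Algebra.smul_def, map_smul, TensorProduct.smul_tmul', smul_eq_mul, smul_eq_mul,
      map_mul]
  have hgθ : ∀ z, g (theta h z) = β • z := fun z => by
    induction z with
    | zero => simp
    | add x y hx hy => simp only [map_add, smul_add, hx, hy]
    | tmul c φ =>
      refine h.out.inductionOn c (fun c => g (theta h (c ⊗ₜ φ)) = β • (c ⊗ₜ[B'] φ)) (by simp) (fun c => ?_) (fun a c hc => ?_)
        (fun x y hx hy => by simp only [TensorProduct.add_tmul, map_add, smul_add, hx, hy])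
      · rw [AlgHom.toLinearMap_apply, IsScalarTower.coe_toAlgHom', show algebraMap B' B'₁ c ⊗ₜ[B'] φ = (1 : B'₁) ⊗ₜ[B'] (c • φ) by
          rw [TensorProduct.tmul_smul, TensorProduct.smul_tmul', ← Algebra.algebraMap_eq_smul_one], theta_tmul, one_smul]
        show ∑ p ∈ s, algebraMap A₁ B'₁ ((QFDual.bcFin h (c • φ)).toLinearMap (algebraMap B' B'₁ p.2)) ⊗ₜ[B']
          (⟨p.1⟩ : Disc.Omega A B') = _
        have h1 : ∀ p : Module.Dual A B' × B',
            algebraMap A₁ B'₁ ((QFDual.bcFin h (c • φ)).toLinearMap (algebraMap B' B'₁ p.2)) ⊗ₜ[B'] (⟨p.1⟩ : Disc.Omega A B') =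
              (1 : B'₁) ⊗ₜ[B'] (algebraMap A B' ((c • φ).toLinearMap p.2) • ⟨p.1⟩) := fun p => by
          rw [QFDual.bcFin_apply_algebraMap, ← IsScalarTower.algebraMap_apply A A₁ B'₁, IsScalarTower.algebraMap_apply A B' B'₁,
            TensorProduct.tmul_smul, TensorProduct.smul_tmul', ← Algebra.algebraMap_eq_smul_one]
        simp only [h1]
        rw [← TensorProduct.tmul_sum, algebraMap_smul B'₁ b, ← TensorProduct.tmul_smul]
        congr 1
        apply Disc.Omega.ext
        refine LinearMap.ext fun x => ?_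
        let evx : Disc.Omega A B' →+ A := AddMonoidHom.mk' (fun Ψ => Ψ.toLinearMap x) fun _ _ => rfl
        show evx _ = _
        rw [map_sum, Disc.Omega.smul_toLinearMap_apply, hs, map_sum]
        refine Finset.sum_congr rfl fun p _ => ?_
        show (algebraMap A B' _ • (⟨p.1⟩ : Disc.Omega A B')).toLinearMap x = _
        rw [Disc.Omega.smul_toLinearMap_apply, ← Algebra.smul_def, map_smul, map_smul, smul_eq_mul, smul_eq_mul, mul_comm]
      · rw [Algebra.smul_def, ← smul_eq_mul, ← TensorProduct.smul_tmul', map_smul, hgl, hc, smul_comm]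
  refine ⟨{ toFun := fun Φ => β • g Φ
            map_add' := fun x y => by rw [map_add, smul_add]
            map_smul' := fun c Φ => ?_ }, fun Φ => ?_, fun z => ?_⟩
  · have e1 := hgθ (g (c • Φ))
    have e2 := hgθ (c • g Φ)
    rw [hθg] at e1
    rw [map_smul, hθg] at e2
    rw [RingHom.id_apply, ← e1, smul_comm c β, ← e2, smul_comm]
  · show theta h (β • g Φ) = _
    rw [map_smul, hθg, smul_smul, sq]
  · show β • g (theta h z) = _
    rw [hgθ, smul_smul, sq]

end Finite

theorem bijective_of_local_inverses {R M N : Type u} [CommRing R] [AddCommGroup M] [Module R M] [AddCommGroup N] [Module R N]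
    (T : M →ₗ[R] N) (s : Set R) (hs : Ideal.span s = ⊤)
    (hinv : ∀ r ∈ s, ∃ G : N →ₗ[R] M, (∀ y, T (G y) = r • y) ∧ ∀ x, G (T x) = r • x) : Function.Bijective T := by
  constructor
  · rw [injective_iff_map_eq_zero]
    intro x hx
    have hle : Ideal.span s ≤ LinearMap.ker (LinearMap.toSpanSingleton R M x) := Ideal.span_le.2 fun r hr => by
      obtain ⟨G, -, h2⟩ := hinv r hr
      show r • x = 0
      rw [← h2, hx, map_zero]
    simpa using hle (hs ▸ Submodule.mem_top : (1 : R) ∈ Ideal.span s)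
  · intro y
    have hle : Ideal.span s ≤ (LinearMap.range T).comap (LinearMap.toSpanSingleton R N y) := Ideal.span_le.2 fun r hr => by
      obtain ⟨G, h1, -⟩ := hinv r hr
      exact ⟨G y, h1 y⟩
    simpa using hle (hs ▸ Submodule.mem_top : (1 : R) ∈ Ideal.span s)

theorem omegaBC_bijective_of_flat {A B' B A₁ B'₁ B₁ : Type u} [CommRing A] [CommRing B'] [CommRing B] [CommRing A₁]
    [CommRing B'₁] [CommRing B₁] [IsNoetherianRing A] [Algebra A B'] [Algebra B' B] [Algebra A B] [IsScalarTower A B' B]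
    [Module.Flat A B] (hf : QFDual.IsQFFactor A B' B) [Algebra A A₁] [Algebra B' B'₁] [Algebra A₁ B'₁] [Algebra A B'₁]
    [IsScalarTower A A₁ B'₁] [IsScalarTower A B' B'₁] (h : Algebra.IsPushout A A₁ B' B'₁)
    [Algebra B B₁] [Algebra B'₁ B₁] [Algebra B' B₁] [IsScalarTower B' B'₁ B₁] [IsScalarTower B' B B₁] :
    Function.Bijective (QFDual.omegaBC (B₁ := B₁) h) := by
  let T := TensorProduct.AlgebraTensorModule.lTensor B₁ B₁ (theta h)
  let cbc := TensorProduct.AlgebraTensorModule.cancelBaseChange B' B'₁ B₁ B₁ (Disc.Omega A B')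
  have hT : ∀ z, QFDual.omegaBC (B₁ := B₁) h z = T (cbc.symm z) := fun z => by
    induction z using TensorProduct.induction_on with
    | zero => simp
    | add x y hx hy => simp only [map_add, hx, hy]
    | tmul b φ =>
      rw [QFDual.omegaBC_tmul, TensorProduct.AlgebraTensorModule.cancelBaseChange_symm_tmul,
        TensorProduct.AlgebraTensorModule.lTensor_tmul, theta_tmul, one_smul]
  have hbij : Function.Bijective T := by
    refine bijective_of_local_inverses T _ (Ideal.span_pow_eq_top (algebraMap B' B₁ '' {b | QFFac.Fac A b}) ?_ 2) ?_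
    · rw [IsScalarTower.algebraMap_eq B' B B₁, RingHom.coe_comp, Set.image_comp, ← Ideal.map_span,
        QFFac.span_fac_eq_top hf, Ideal.map_top]
    · rintro _ ⟨_, ⟨b, hb, rfl⟩, rfl⟩
      obtain ⟨H, h1, h2⟩ := exists_partial_inverse h hb
      have hr : (algebraMap B' B₁ b) ^ 2 = algebraMap B'₁ B₁ ((algebraMap B' B'₁ b) ^ 2) := by
        rw [map_pow, ← IsScalarTower.algebraMap_apply]
      refine ⟨TensorProduct.AlgebraTensorModule.lTensor B₁ B₁ H, fun y => ?_, fun y => ?_⟩
      all_goals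
        show _ = (algebraMap B' B₁ b) ^ 2 • y
        rw [hr, algebraMap_smul]
        induction y with
        | zero => simp
        | add x y hx hy => simp only [map_add, smul_add, hx, hy]
        | tmul c φ => simp [T, h1, h2, TensorProduct.tmul_smul]
  rw [show (QFDual.omegaBC (B₁ := B₁) h : _ → _) = T ∘ cbc.symm from funext hT]
  exact hbij.comp cbc.symm.bijective

end Groth.Agent.H05EGA4.QFGenBC
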