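import Groth.Agent.H05EGA4.QFLocal
import Groth.Agent.H05EGA4.QFFlatBC
import Groth.Agent.H05EGA4.FormalFibres
import Groth.Agent.H9Hens.BranchCompletion
import Groth.Agent.H9Hens.Local
import Groth.Agent.H9Hens.Pair
import Groth.Agent.H9CI.Syntomic
import Groth.Agent.H9CI.BaseChange
import Groth.Prelude.Def_RegImm

/-! Splitting off a point of a quasi-finite algebra over the completion of the base. -/

set_option autoImplicit false
set_option linter.style.haveILetI false
set_option maxHeartbeats 800000

universe u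

open TensorProduct CategoryTheory IsLocalRing

namespace Groth.Agent.H05EGA4.QFSplit

attribute [local instance] Algebra.TensorProduct.rightAlgebra

theorem exists_split {R S : Type u} [CommRing R] [HenselianLocalRing R] [CommRing S] [Algebra R S] [Module.Finite R S]
    (Q : Ideal S) [hQ : Q.IsMaximal] :
    ∃ e : S, IsIdempotentElem e ∧ e ∉ Q ∧ Function.Surjective (algebraMap S (Localization.AtPrime Q)) ∧
      ∀ x, algebraMap S (Localization.AtPrime Q) x = 0 ↔ e * x = 0 := by
  classical
  obtain ⟨e, he, heQ, hoth⟩ := H9Hens.exists_idem_isolating (R := R)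
    (fun b hb => H9Hens.exists_idem_lift b hb) (⟨Q, hQ⟩ : MaximalSpectrum S)
  have key : ∀ J : Ideal S, ¬ J ≤ Q → 1 - e ∈ J → J = ⊤ := fun J hJ h1 => by
    by_contra hne
    obtain ⟨N, hN, hle⟩ := Ideal.exists_le_maximal J hne
    have hNQ : (⟨N, hN⟩ : MaximalSpectrum S) ≠ ⟨Q, hQ⟩ := fun h => hJ (by
      have h' : N = Q := congrArg MaximalSpectrum.asIdeal h
      exact h' ▸ hle)
    have h2 := add_mem (hle h1) (hoth _ hNQ)
    rw [sub_add_cancel] at h2
    exact hN.ne_top ((Ideal.eq_top_iff_one _).2 h2)
  have hunit := IsLocalization.map_units (Localization.AtPrime Q) (⟨e, heQ⟩ : Q.primeCompl)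
  have h1e : algebraMap S (Localization.AtPrime Q) (1 - e) = 0 :=
    hunit.mul_left_cancel (by rw [mul_zero, ← map_mul, mul_sub, mul_one, he.eq, sub_self, map_zero])
  refine ⟨e, he, heQ, fun y => ?_, fun x => ⟨fun hx => ?_, fun hx => ?_⟩⟩
  · obtain ⟨⟨a, s⟩, hy⟩ := IsLocalization.surj Q.primeCompl y
    have htop : Ideal.span {(s : S), 1 - e} = ⊤ :=
      key _ (fun h => s.2 (h (Ideal.subset_span (Set.mem_insert _ _)))) (Ideal.subset_span (Set.mem_insert_of_mem _ rfl))
    obtain ⟨c, d, hcd⟩ := Ideal.mem_span_pair.1 (htop ▸ Submodule.mem_top : (1 : S) ∈ Ideal.span {(s : S), 1 - e})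
    refine ⟨c * a, ?_⟩
    have h := congrArg (algebraMap S (Localization.AtPrime Q)) hcd
    rw [map_add, map_mul, map_mul, h1e, mul_zero, add_zero, map_one] at h
    rw [map_mul, ← hy, mul_left_comm, h, mul_one]
  · obtain ⟨s, hs⟩ := (IsLocalization.map_eq_zero_iff Q.primeCompl _ x).1 hx
    let J : Ideal S := (⊥ : Ideal S).colon {e * x}
    have hJ : ∀ t, t ∈ J ↔ t * (e * x) = 0 := fun t => by
      rw [Submodule.mem_colon_singleton, smul_eq_mul, Submodule.mem_bot]
    have htop : J = ⊤ := key J (fun h => s.2 (h ((hJ _).2 (by rw [mul_left_comm, hs, mul_zero]))))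
      ((hJ _).2 (by rw [← mul_assoc, sub_mul, one_mul, he.eq, sub_self, zero_mul]))
    simpa using (hJ 1).1 (htop ▸ Submodule.mem_top)
  · exact hunit.mul_left_cancel (by rw [mul_zero, ← map_mul, hx, map_zero])

section Omega

variable {R S C : Type u} [CommRing R] [CommRing S] [CommRing C] [Algebra R S] [Algebra R C] [Algebra S C]
  [IsScalarTower R S C]

theorem nonempty_equiv_split (hsurj : Function.Surjective (algebraMap S C)) {e : S}
    (hker : ∀ x, algebraMap S C x = 0 ↔ e * x = 0) (he1 : algebraMap S C e = 1) :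
    Nonempty (C ⊗[S] Disc.Omega R S ≃ₗ[C] Disc.Omega R C) := by
  classical
  choose σ hσ using hsurj
  have hwd : ∀ x, e * σ (algebraMap S C x) = e * x := fun x => by
    have := (hker (σ (algebraMap S C x) - x)).1 (by rw [map_sub, hσ, sub_self])
    linear_combination this
  let L : Disc.Omega R S → Disc.Omega R C := fun φ =>
    ⟨{ toFun := fun c => φ.toLinearMap (e * σ c)
       map_add' := fun c d => by
         rw [← map_add]
         congr 1
         conv_lhs => rw [← hσ c, ← hσ d, ← map_add, hwd]
         ring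
       map_smul' := fun r c => by
         rw [RingHom.id_apply, ← map_smul]
         congr 1
         conv_lhs => rw [← hσ c, ← algebraMap_smul S r, Algebra.smul_def, ← map_mul, hwd]
         rw [Algebra.smul_def]
         ring }⟩
  have hL : ∀ φ c, (L φ).toLinearMap c = φ.toLinearMap (e * σ c) := fun _ _ => rfl
  letI : Module S (Disc.Omega R C) := Module.compHom _ (algebraMap S C)
  haveI : IsScalarTower S C (Disc.Omega R C) := ⟨fun s c φ => by
    show (s • c) • φ = algebraMap S C s • c • φ
    rw [Algebra.smul_def, mul_smul]⟩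
  let L' : Disc.Omega R S →ₗ[S] Disc.Omega R C :=
    { toFun := L
      map_add' := fun φ ψ => Disc.Omega.ext (LinearMap.ext fun c => rfl)
      map_smul' := fun s φ => Disc.Omega.ext (LinearMap.ext fun c => by
        show φ.toLinearMap (s * (e * σ c)) = φ.toLinearMap (e * σ (algebraMap S C s * c))
        congr 1
        conv_rhs => rw [← hσ c, ← map_mul, hwd]
        ring) }
  let F : C ⊗[S] Disc.Omega R S →ₗ[C] Disc.Omega R C := L'.liftBaseChange C
  let π : S →ₗ[R] C := (IsScalarTower.toAlgHom R S C).toLinearMap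
  let G : Disc.Omega R C →ₗ[C] C ⊗[S] Disc.Omega R S :=
    { toFun := fun ψ => (1 : C) ⊗ₜ[S] (⟨ψ.toLinearMap ∘ₗ π⟩ : Disc.Omega R S)
      map_add' := fun ψ ψ' => by rw [← tmul_add]; rfl
      map_smul' := fun c ψ => by
        rw [RingHom.id_apply, TensorProduct.smul_tmul', smul_eq_mul, mul_one]
        have : (⟨(c • ψ).toLinearMap ∘ₗ π⟩ : Disc.Omega R S) = σ c • (⟨ψ.toLinearMap ∘ₗ π⟩ : Disc.Omega R S) :=
          Disc.Omega.ext (LinearMap.ext fun x => by
            show ψ.toLinearMap (c * algebraMap S C x) = ψ.toLinearMap (algebraMap S C (σ c * x))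
            rw [map_mul (algebraMap S C), hσ])
        rw [this, TensorProduct.tmul_smul, TensorProduct.smul_tmul', Algebra.smul_def, hσ, mul_one] }
  refine ⟨LinearEquiv.ofLinearMap F G (LinearMap.ext fun ψ => ?_) (LinearMap.ext fun z => ?_)⟩
  · show F ((1 : C) ⊗ₜ[S] (⟨ψ.toLinearMap ∘ₗ π⟩ : Disc.Omega R S)) = ψ
    simp only [F, LinearMap.liftBaseChange_tmul, one_smul]
    refine Disc.Omega.ext (LinearMap.ext fun c => ?_)
    show ψ.toLinearMap (algebraMap S C (e * σ c)) = ψ.toLinearMap c
    rw [map_mul, he1, one_mul, hσ]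
  · induction z using TensorProduct.induction_on with
    | zero => simp
    | add a b ha hb => simp only [map_add, ha, hb]
    | tmul c φ =>
      show G (F (c ⊗ₜ φ)) = c ⊗ₜ φ
      rw [show F (c ⊗ₜ φ) = c • L φ from by simp only [F, LinearMap.liftBaseChange_tmul]; rfl, map_smul]
      show c • ((1 : C) ⊗ₜ[S] (⟨(L φ).toLinearMap ∘ₗ π⟩ : Disc.Omega R S)) = c ⊗ₜ φ
      have : (⟨(L φ).toLinearMap ∘ₗ π⟩ : Disc.Omega R S) = e • φ := Disc.Omega.ext (LinearMap.ext fun x => by
        show φ.toLinearMap (e * σ (algebraMap S C x)) = φ.toLinearMap (e * x)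
        rw [hwd])
      rw [this, TensorProduct.tmul_smul, TensorProduct.smul_tmul', Algebra.smul_def, he1, one_mul,
        TensorProduct.smul_tmul', smul_eq_mul, mul_one]

end Omega

theorem of_idempotent {R T C : Type u} [CommRing R] [CommRing T] [CommRing C] [Algebra R T] [Algebra R C]
    (θ : T →ₐ[R] C) (hs : Function.Surjective θ) (e : T) (he : IsIdempotentElem e) (hker : ∀ z, θ z = 0 ↔ e * z = 0) :
    (Module.Flat R T → Module.Flat R C) ∧ (Synt.IsSyntomic R T → Synt.IsSyntomic R C) := by
  letI := θ.toRingHom.toAlgebra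
  haveI : IsScalarTower R T C := IsScalarTower.of_algebraMap_eq fun r => (θ.commutes r).symm
  haveI : IsLocalization.Away e C := IsLocalization.away_of_isIdempotentElem_of_mul he (fun x y => by
    show θ x = θ y ↔ _
    rw [← sub_eq_zero, ← map_sub, ← sub_eq_zero (a := e * x), ← mul_sub]
    exact hker _) hs
  refine ⟨fun _ => ?_, fun h => ?_⟩
  · haveI : Module.Flat T C := IsLocalization.flat C (Submonoid.powers e)
    exact Module.Flat.trans R T C
  · exact H9Synt.isSyntomic_of_algEquiv
      ((IsLocalization.algEquiv (Submonoid.powers e) (Localization.Away e) C).restrictScalars R)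
      (H9CI.isSyntomic_away h e)

theorem ker_of_epi {S C T : Type u} [CommRing S] [CommRing C] [CommRing T] (f : S →+* C) (hf : Function.Surjective f)
    (ν : S →+* T) (θ : T →+* C) (hθν : θ.comp ν = f) (e : S) (he : IsIdempotentElem e)
    (hker : ∀ x, f x = 0 ↔ e * x = 0) (he1 : f e = 1)
    (hepi : ∀ (D : Type u) [CommRing D] (g g' : T →+* D), g.comp ν = g'.comp ν → g = g') (z : T) :
    θ z = 0 ↔ ν e * z = 0 := by
  constructor
  · intro hz
    let P : Ideal T := Ideal.span {1 - ν e}
    let mk := Ideal.Quotient.mk P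
    have hmk : mk (ν e) = 1 := (Ideal.Quotient.eq.2 (Ideal.subset_span rfl) : mk 1 = mk (ν e)).symm
    have hk : RingHom.ker f ≤ RingHom.ker (mk.comp ν) := fun x hx => by
      show mk (ν x) = 0
      rw [← one_mul (mk (ν x)), ← hmk, ← map_mul, ← map_mul, (hker x).1 hx, map_zero, map_zero]
    let ρ : C →+* T ⧸ P := f.liftOfSurjective hf ⟨mk.comp ν, hk⟩
    have hall : ρ.comp θ = mk := hepi _ _ _ (by
      rw [RingHom.comp_assoc, hθν]
      exact RingHom.ext fun x => RingHom.liftOfRightInverse_comp_apply f (Function.surjInv hf) (Function.rightInverse_surjInv hf) ⟨mk.comp ν, hk⟩ x)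
    have h := RingHom.congr_fun hall z
    rw [RingHom.comp_apply, hz, map_zero, eq_comm, Ideal.Quotient.eq_zero_iff_mem, Ideal.mem_span_singleton'] at h
    obtain ⟨w, rfl⟩ := h
    rw [mul_left_comm, mul_sub, mul_one, (he.map ν).eq, sub_self, mul_zero]
  · intro hz
    have h := congrArg θ hz
    rw [map_mul, map_zero, show θ (ν e) = f e from RingHom.congr_fun hθν e, he1, one_mul] at h
    exact h

variable {A B' B : Type u} [CommRing A] [CommRing B'] [CommRing B] [IsNoetherianRing A]
  [Algebra A B'] [Algebra B' B] [Algebra A B] [IsScalarTower A B' B]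

theorem eq_of_comp_eq (hf : AlgebraicGeometry.IsOpenImmersion (AlgebraicGeometry.Spec.map (CommRingCat.ofHom (algebraMap B' B))))
    {D : Type u} [CommRing D] (f g : B →+* D) (h : f.comp (algebraMap B' B) = g.comp (algebraMap B' B)) : f = g := by
  haveI := hf
  have h1 : AlgebraicGeometry.Spec.map (CommRingCat.ofHom f) ≫ AlgebraicGeometry.Spec.map (CommRingCat.ofHom (algebraMap B' B)) =
      AlgebraicGeometry.Spec.map (CommRingCat.ofHom g) ≫ AlgebraicGeometry.Spec.map (CommRingCat.ofHom (algebraMap B' B)) := by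
    rw [← AlgebraicGeometry.Spec.map_comp, ← AlgebraicGeometry.Spec.map_comp, ← CommRingCat.ofHom_comp, ← CommRingCat.ofHom_comp, h]
  exact congrArg CommRingCat.Hom.hom (AlgebraicGeometry.Spec.map_injective ((cancel_mono _).1 h1))

omit [IsNoetherianRing A] in
theorem map_epi (hf : AlgebraicGeometry.IsOpenImmersion (AlgebraicGeometry.Spec.map (CommRingCat.ofHom (algebraMap B' B))))
    (R : Type u) [CommRing R] [Algebra A R] {D : Type u} [CommRing D] (g g' : R ⊗[A] B →+* D)
    (h : g.comp (Algebra.TensorProduct.map (AlgHom.id A R) (IsScalarTower.toAlgHom A B' B)).toRingHom =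
      g'.comp (Algebra.TensorProduct.map (AlgHom.id A R) (IsScalarTower.toAlgHom A B' B)).toRingHom) : g = g' := by
  have hl : ∀ r : R, g (r ⊗ₜ 1) = g' (r ⊗ₜ 1) := fun r => by
    have := RingHom.congr_fun h (r ⊗ₜ 1)
    simpa using this
  have hr := eq_of_comp_eq (B' := B') (B := B) hf
    (g.comp (Algebra.TensorProduct.includeRight : B →ₐ[A] R ⊗[A] B).toRingHom)
    (g'.comp (Algebra.TensorProduct.includeRight : B →ₐ[A] R ⊗[A] B).toRingHom) (RingHom.ext fun b => by
      have := RingHom.congr_fun h (1 ⊗ₜ b)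
      simpa using this)
  refine RingHom.ext fun z => ?_
  induction z with
  | zero => simp
  | add a b ha hb => simp only [map_add, ha, hb]
  | tmul r b =>
    rw [show r ⊗ₜ[A] b = (r ⊗ₜ[A] (1 : B)) * ((1 : R) ⊗ₜ[A] b) by simp, map_mul, map_mul, hl,
      show g ((1 : R) ⊗ₜ[A] b) = g' ((1 : R) ⊗ₜ[A] b) from RingHom.congr_fun hr b]

theorem exists_model (hf : QFDual.IsQFFactor A B' B) (q : Ideal B) [q.IsPrime] :
    ∃ (R C : Type u) (_ : CommRing R) (_ : IsLocalRing R) (_ : IsNoetherianRing R) (_ : Algebra A R) (_ : Module.Flat A R)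
      (_ : CommRing C) (_ : IsLocalRing C) (_ : Algebra R C) (_ : Algebra B C) (_ : Algebra A C)
      (_ : IsScalarTower A R C) (_ : IsScalarTower A B C),
      Module.Finite R C ∧ Module.Flat B C ∧ (maximalIdeal C).comap (algebraMap B C) = q ∧
      (Module.Flat A B → Module.Flat R C) ∧
      (Synt.IsSyntomic A B → Synt.IsSyntomic R C) ∧
      Nonempty (C ⊗[B] QFDual.omega A B' B ≃ₗ[C] Disc.Omega R C) := by
  classical
  haveI := hf.finite
  haveI : IsNoetherianRing B' := IsNoetherianRing.of_finite A B'
  haveI : Module.FinitePresentation A B' := Module.finitePresentation_of_finite A B'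
  let p := q.comap (algebraMap A B)
  let q' := q.comap (algebraMap B' B)
  let Ap := Localization.AtPrime p
  haveI : IsNoetherianRing Ap := IsLocalization.isNoetherianRing p.primeCompl Ap inferInstance
  let R := EGA4.Cpl Ap
  haveI hRl : IsLocalRing R := inferInstanceAs (IsLocalRing (AdicCompletion (maximalIdeal Ap) Ap))
  haveI : IsNoetherianRing R := H05EGA4.isNoetherianRing_cpl Ap
  haveI : HenselianLocalRing R := H9Hens.henselianLocalRing_cpl Ap
  letI : Algebra A R := inferInstanceAs (Algebra A (AdicCompletion (maximalIdeal Ap) Ap))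
  haveI : IsScalarTower A Ap R := inferInstanceAs (IsScalarTower A Ap (AdicCompletion (maximalIdeal Ap) Ap))
  haveI : Module.Flat Ap R := inferInstanceAs (Module.Flat Ap (AdicCompletion (maximalIdeal Ap) Ap))
  haveI : Module.Flat A Ap := IsLocalization.flat Ap p.primeCompl
  haveI : Module.Flat A R := Module.Flat.trans A Ap R
  let S := R ⊗[A] B'
  -- the point of `S`
  let κ := ResidueField (Localization.AtPrime q)
  let ι : ResidueField Ap →+* κ := ResidueField.map (Localization.localRingHom p q (algebraMap A B) rfl)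
  let ev : R →+* ResidueField Ap := (AdicCompletion.evalOneₐ (maximalIdeal Ap)).toRingHom
  have hev : Function.Surjective ev := AdicCompletion.evalOneₐ_surjective _
  let η : B →+* κ := (residue (Localization.AtPrime q)).comp (algebraMap B (Localization.AtPrime q))
  have hκ : ∀ a : A, η (algebraMap A B a) = algebraMap A κ a := fun a => by
    show residue _ (algebraMap B (Localization.AtPrime q) (algebraMap A B a)) = _
    rw [← IsScalarTower.algebraMap_apply]
    rfl
  have hθR : ∀ a : A, (ι.comp ev) (algebraMap A R a) = algebraMap A κ a := fun a => by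
    show ι (ev (algebraMap A R a)) = _
    rw [← hκ, IsScalarTower.algebraMap_apply A Ap R, show ev (algebraMap Ap R (algebraMap A Ap a)) = residue Ap (algebraMap A Ap a) from
      (AdicCompletion.evalOneₐ (maximalIdeal Ap)).commutes _, ResidueField.map_residue, Localization.localRingHom_to_map]
    rfl
  let θR : R →ₐ[A] κ := { toRingHom := ι.comp ev, commutes' := hθR }
  have hθB : ∀ a : A, (η.comp (algebraMap B' B)) (algebraMap A B' a) = algebraMap A κ a := fun a => by
    show η (algebraMap B' B (algebraMap A B' a)) = _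
    rw [← IsScalarTower.algebraMap_apply, hκ]
  let θB : B' →ₐ[A] κ := { toRingHom := η.comp (algebraMap B' B), commutes' := hθB }
  let Θ : S →ₐ[A] κ := Algebra.TensorProduct.lift θR θB fun _ _ => Commute.all _ _
  let Q : Ideal S := RingHom.ker Θ.toRingHom
  haveI hQp : Q.IsPrime := RingHom.ker_isPrime _
  have hQR : Q.comap (algebraMap R S) = maximalIdeal R := by
    refine IsLocalRing.eq_maximalIdeal ?_
    have h1 : Q.comap (algebraMap R S) = RingHom.ker ev := by
      ext r
      show Θ (r ⊗ₜ (1 : B')) = 0 ↔ ev r = 0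
      rw [Algebra.TensorProduct.lift_tmul, map_one, mul_one]
      exact map_eq_zero ι
    rw [h1]
    exact RingHom.ker_isMaximal_of_surjective ev hev
  haveI : Q.IsMaximal := Ideal.isMaximal_of_isIntegral_of_isMaximal_comap (R := R) Q (hQR ▸ maximalIdeal.isMaximal R)
  have hη : ∀ b, η b = 0 ↔ b ∈ q := fun b => by
    show residue _ _ = 0 ↔ _
    rw [residue_eq_zero_iff, IsLocalization.AtPrime.to_map_mem_maximal_iff _ q]
  have hQB : ∀ b : B', (1 : R) ⊗ₜ[A] b ∈ Q ↔ b ∈ q' := fun b => by
    show Θ ((1 : R) ⊗ₜ[A] b) = 0 ↔ _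
    rw [Algebra.TensorProduct.lift_tmul, map_one, one_mul]
    exact hη _
  obtain ⟨e, he, heQ, hsurj, hker⟩ := exists_split (R := R) Q
  let C := Localization.AtPrime Q
  have he1 : algebraMap S C e = 1 := by
    have hu := IsLocalization.map_units C (⟨e, heQ⟩ : Q.primeCompl)
    refine hu.mul_left_cancel ?_
    rw [mul_one, ← map_mul]
    exact congrArg _ he.eq
  haveI : Module.Finite R C := Module.Finite.of_surjective (IsScalarTower.toAlgHom R S C).toLinearMap hsurj
  -- the map from `B`
  let Bq := Localization.AtPrime q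
  haveI hBq : IsLocalization.AtPrime Bq q' := QFLocal.isLocalization_atPrime hf.isOpenImmersion q
  have hunits : ∀ s : q'.primeCompl, IsUnit (algebraMap B' C s) := fun s => by
    rw [IsScalarTower.algebraMap_apply B' S C]
    exact IsLocalization.map_units C (⟨(1 : R) ⊗ₜ[A] (s : B'), fun h => s.2 ((hQB _).1 h)⟩ : Q.primeCompl)
  let gq : Bq →+* C := IsLocalization.lift (M := q'.primeCompl) hunits
  letI : Algebra Bq C := gq.toAlgebra
  letI : Algebra B C := (gq.comp (algebraMap B Bq)).toAlgebra
  haveI : IsScalarTower B' Bq C := IsScalarTower.of_algebraMap_eq fun b => (IsLocalization.lift_eq hunits b).symm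
  haveI : IsScalarTower B Bq C := IsScalarTower.of_algebraMap_eq fun b => rfl
  haveI : IsScalarTower B' B C := IsScalarTower.of_algebraMap_eq fun b => by
    rw [IsScalarTower.algebraMap_apply B Bq C, ← IsScalarTower.algebraMap_apply B' B Bq, ← IsScalarTower.algebraMap_apply B' Bq C]
  haveI : IsScalarTower A B C := IsScalarTower.of_algebraMap_eq fun a => by
    rw [IsScalarTower.algebraMap_apply A B' B, ← IsScalarTower.algebraMap_apply B' B C, ← IsScalarTower.algebraMap_apply]
  haveI : Module.Flat B' S := Module.Flat.isBaseChange A B' R S (Algebra.IsPushout.out (R := A) (S := B') (R' := R) (S' := S))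
  haveI : Module.Flat S C := IsLocalization.flat C Q.primeCompl
  haveI : Module.Flat B' C := Module.Flat.trans B' S C
  haveI : Module.Flat Bq C := (Module.flat_iff_of_isLocalization Bq q'.primeCompl C).2 inferInstance
  haveI : Module.Flat B Bq := IsLocalization.flat Bq q.primeCompl
  haveI : Module.Flat B C := Module.Flat.trans B Bq C
  have hcomapC : (maximalIdeal C).comap (algebraMap B' C) = q' := by
    ext b
    rw [Ideal.mem_comap, IsScalarTower.algebraMap_apply B' S C, IsLocalization.AtPrime.to_map_mem_maximal_iff C Q]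
    exact hQB b
  have hcomap : (maximalIdeal C).comap (algebraMap B C) = q := by
    have h1 : (maximalIdeal C).comap (algebraMap Bq C) = maximalIdeal Bq := by
      refine le_antisymm (le_maximalIdeal (Ideal.IsPrime.ne_top (Ideal.comap_isPrime _ _))) fun x hx => ?_
      obtain ⟨⟨a, s⟩, ha⟩ := IsLocalization.surj q'.primeCompl x
      have ha' : a ∈ q' := by
        rw [← IsLocalization.AtPrime.to_map_mem_maximal_iff Bq q', ← ha]
        exact Ideal.mul_mem_right _ _ hx
      rw [← hcomapC, Ideal.mem_comap] at ha'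
      rw [Ideal.mem_comap]
      rw [IsScalarTower.algebraMap_apply B' Bq C, ← ha, map_mul] at ha'
      exact ((maximalIdeal.isMaximal C).isPrime.mem_or_mem ha').resolve_right fun h =>
        (mem_maximalIdeal _).1 h ((IsLocalization.map_units Bq s).map _)
    rw [IsScalarTower.algebraMap_eq B Bq C, ← Ideal.comap_comap, h1]
    exact Localization.AtPrime.comap_maximalIdeal
  -- `C` is a localization of `R ⊗ B`
  let ν : S →ₐ[A] R ⊗[A] B := Algebra.TensorProduct.map (AlgHom.id A R) (IsScalarTower.toAlgHom A B' B)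
  let θ : R ⊗[A] B →ₐ[A] C :=
    Algebra.TensorProduct.lift (IsScalarTower.toAlgHom A R C) (IsScalarTower.toAlgHom A B C) fun _ _ => Commute.all _ _
  have hθν : ∀ x, θ (ν x) = algebraMap S C x := fun x => by
    induction x using TensorProduct.induction_on with
    | zero => rw [map_zero, map_zero]; exact (map_zero (algebraMap S C)).symm

    | add a b ha hb => simp only [map_add, ha, hb]
    | tmul r b =>
      show algebraMap R C r * algebraMap B C (algebraMap B' B b) = _
      rw [← IsScalarTower.algebraMap_apply B' B C, IsScalarTower.algebraMap_apply R S C, IsScalarTower.algebraMap_apply B' S C,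
        ← map_mul]
      congr 1
      show (r ⊗ₜ[A] (1 : B')) * ((1 : R) ⊗ₜ[A] b) = _
      rw [Algebra.TensorProduct.tmul_mul_tmul, mul_one, one_mul]
  let e' := ν e
  have he' : IsIdempotentElem e' := he.map ν
  have hθs : Function.Surjective θ := fun c => by
    obtain ⟨x, rfl⟩ := hsurj c
    exact ⟨ν x, hθν x⟩
  have hθν' : θ.toRingHom.comp ν.toRingHom = algebraMap S C := RingHom.ext fun x => hθν x
  have hθker : ∀ z, θ.toRingHom z = 0 ↔ e' * z = 0 := fun z => by
    have h := ker_of_epi (S := S) (C := C) (T := R ⊗[A] B) (algebraMap S C) hsurj ν.toRingHom θ.toRingHom hθν' e he hker he1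
      (fun D _ g g' h => map_epi (A := A) (B' := B') hf.isOpenImmersion R g g' h) z
    exact h
  have hcomm : ∀ r : R, θ.toRingHom (algebraMap R (R ⊗[A] B) r) = algebraMap R C r := fun r => by
    show algebraMap R C r * algebraMap B C 1 = _
    rw [map_one, mul_one]
  let θ' : R ⊗[A] B →ₐ[R] C := { toRingHom := θ.toRingHom, commutes' := hcomm }
  obtain ⟨hfl, hsy⟩ := of_idempotent (R := R) (T := R ⊗[A] B) (C := C) θ' hθs e' he' hθker
  have hflat : Module.Flat A B → Module.Flat R C := fun _ => hfl inferInstance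
  have hsynt : Synt.IsSyntomic A B → Synt.IsSyntomic R C := fun h => hsy (H9CI.isSyntomic_baseChange R h)
  obtain ⟨E⟩ := nonempty_equiv_split (R := R) hsurj hker he1
  let Ψ := LinearEquiv.ofBijective _ (QFFlatBC.omegaBC_bijective (B₁ := C) (inferInstance : Algebra.IsPushout A R B' S))
  exact ⟨R, C, inferInstance, hRl, inferInstance, inferInstance, inferInstance, inferInstance, inferInstance,
    inferInstance, inferInstance, inferInstance, inferInstance, inferInstance, inferInstance, inferInstance, hcomap, hflat, hsynt,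
    ⟨(TensorProduct.AlgebraTensorModule.cancelBaseChange B' B C C (Disc.Omega A B')).trans (Ψ.trans E)⟩⟩

end Groth.Agent.H05EGA4.QFSplit
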