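import Mathlib

/-!
Quasi-compactness descends along surjections, quasi-separatedness along quasi-compact surjections.
-/

set_option autoImplicit false
universe u
open AlgebraicGeometry CategoryTheory CategoryTheory.Limits

namespace Groth.Agent.H05EGA4.QcDescent

theorem quasiCompact_of_pullback_snd {X Y Y' : Scheme.{u}} (f : X ⟶ Y) (g : Y' ⟶ Y) [Surjective g] [QuasiCompact g]
    [QuasiCompact (pullback.snd f g)] : QuasiCompact f := by
  refine ⟨fun U hU hUc => ?_⟩
  have hc : IsCompact (pullback.snd f g ⁻¹' (g ⁻¹' U)) :=
    (pullback.snd f g).isSpectralMap.isCompact_preimage_of_isOpen (hU.preimage g.continuous)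
      (g.isSpectralMap.isCompact_preimage_of_isOpen hU hUc)
  have hsurj : Function.Surjective (pullback.fst f g) := by
    rw [← Set.range_eq_univ, Scheme.Pullback.range_fst, g.surjective.range_eq, Set.preimage_univ]
  have heq : pullback.snd f g ⁻¹' (g ⁻¹' U) = pullback.fst f g ⁻¹' (f ⁻¹' U) := by
    ext x
    simp only [Set.mem_preimage, ← Scheme.Hom.comp_apply, pullback.condition]
  rw [heq] at hc
  rw [← Set.image_preimage_eq (f ⁻¹' U) hsurj]
  exact hc.image (pullback.fst f g).continuous

instance : MorphismProperty.DescendsAlong @QuasiCompact (@Surjective ⊓ @QuasiCompact : MorphismProperty Scheme.{u}) :=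
  MorphismProperty.DescendsAlong.mk' fun {X Y Z} f g _ hf hfst => by
    haveI := hf.1
    haveI := hf.2
    haveI : QuasiCompact (pullback.snd g f) := by
      rw [← pullbackSymmetry_inv_comp_fst]
      haveI : QuasiCompact (pullback.fst f g) := hfst
      exact inferInstanceAs (QuasiCompact ((pullbackSymmetry f g).inv ≫ pullback.fst f g))
    exact quasiCompact_of_pullback_snd g f

theorem quasiSeparated_of_pullback_snd {X Y Y' : Scheme.{u}} (f : X ⟶ Y) (g : Y' ⟶ Y) [Surjective g] [QuasiCompact g]
    [hsnd : QuasiSeparated (pullback.snd f g)] : QuasiSeparated f := by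
  have h1 : MorphismProperty.diagonal (@QuasiCompact) (pullback.snd f g) := by
    rwa [← quasiSeparated_eq_diagonal_is_quasiCompact]
  have h2 : MorphismProperty.diagonal (@QuasiCompact) f :=
    MorphismProperty.of_pullback_snd_of_descendsAlong (Q := @Surjective ⊓ @QuasiCompact) ⟨‹_›, ‹_›⟩ h1
  rwa [← quasiSeparated_eq_diagonal_is_quasiCompact] at h2

theorem isDominant_of_pullback_snd {X Y Y' : Scheme.{u}} (f : X ⟶ Y) (g : Y' ⟶ Y) [Surjective g]
    [IsDominant (pullback.snd f g)] : IsDominant f := by
  refine ⟨?_⟩
  have h : Dense (g ⁻¹' Set.range f) := by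
    rw [← Scheme.Pullback.range_snd]
    exact (pullback.snd f g).denseRange
  have h2 := g.surjective.denseRange.dense_image g.continuous h
  rwa [Set.image_preimage_eq _ g.surjective] at h2

end Groth.Agent.H05EGA4.QcDescent
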