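import Groth.Prelude.Def_FSRel
import Mathlib.Algebra.TrivSqZeroExt.Basic
import Mathlib.RingTheory.Kaehler.Basic
import Mathlib.RingTheory.Ideal.Quotient.Operations
import Mathlib.Tactic.LinearCombination
import Mathlib.Tactic.Abel

/-! Relative formal smoothness and left inverses of the map of differentials. -/

set_option autoImplicit false
set_option linter.style.haveILetI false
set_option maxHeartbeats 1000000

open TensorProduct KaehlerDifferential

universe u

namespace Groth.Agent.H05EGA4.RelFS

variable (A B C : Type u) [CommRing A] [CommRing B] [CommRing C] [Algebra A B] [Algebra B C] [Algebra A C]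
  [IsScalarTower A B C]

/-- `A`-derivations of `B` into `C`-modules extend to `C`. -/
def Ext : Prop :=
  ∀ (M : Type u) [AddCommGroup M] [Module C M] [Module B M] [Module A M] [IsScalarTower B C M]
    [IsScalarTower A C M] [IsScalarTower A B M], ∀ D₀ : Derivation A B M,
    ∃ d : Derivation A C M, ∀ b, d (algebraMap B C b) = D₀ b

theorem ext_iff_leftInverse :
    Ext A B C ↔
      ∃ l : Ω[C⁄A] →ₗ[C] C ⊗[B] Ω[B⁄A], l ∘ₗ mapBaseChange A B C = LinearMap.id := by
  constructor
  · intro h
    obtain ⟨d, hd⟩ := h (C ⊗[B] Ω[B⁄A]) ((TensorProduct.mk B C Ω[B⁄A] 1).compDer (D A B))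
    refine ⟨d.liftKaehlerDifferential, TensorProduct.AlgebraTensorModule.ext fun c w => ?_⟩
    rw [LinearMap.comp_apply, mapBaseChange_tmul, map_smul, LinearMap.id_apply]
    have hw : w ∈ Submodule.span B (Set.range (D A B)) := by rw [span_range_derivation]; trivial
    induction hw using Submodule.span_induction with
    | mem x hx =>
      obtain ⟨b, rfl⟩ := hx
      rw [map_D, Derivation.liftKaehlerDifferential_comp_D, hd]
      show c • (1 : C) ⊗ₜ[B] D A B b = _
      rw [smul_tmul', smul_eq_mul, mul_one]
    | zero => simp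
    | add x y _ _ hx hy => rw [map_add, map_add, smul_add, hx, hy, tmul_add]
    | smul b x _ hx => rw [map_smul, LinearMap.map_smul_of_tower, smul_comm, hx, tmul_smul]
  · rintro ⟨l, hl⟩ M _ _ _ _ _ _ _ D₀
    refine ⟨(D₀.liftKaehlerDifferential.liftBaseChange C ∘ₗ l).compDer (D A C), fun b => ?_⟩
    have h := LinearMap.congr_fun hl ((1 : C) ⊗ₜ[B] D A B b)
    rw [LinearMap.comp_apply, mapBaseChange_tmul, one_smul, map_D, LinearMap.id_apply] at h
    show D₀.liftKaehlerDifferential.liftBaseChange C (l (D A C (algebraMap B C b))) = D₀ b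
    rw [h, LinearMap.liftBaseChange_tmul, one_smul, Derivation.liftKaehlerDifferential_comp_D]

variable {A B C}

theorem isFormallySmoothRel_of_ext (h : Ext A B C) : EGA41.IsFormallySmoothRel A B C := by
  intro E _ _ _ _ J hJ u₀ ⟨u, hu⟩
  letI : Algebra C E := u.toRingHom.toAlgebra
  haveI : IsScalarTower A C E := IsScalarTower.of_algebraMap_eq fun a => (u.commutes a).symm
  have hu' : ∀ c, Ideal.Quotient.mk J (u c) = u₀ c := fun c => AlgHom.congr_fun hu c
  have hJJ : ∀ x ∈ J, ∀ y ∈ J, x * y = 0 := fun x hx y hy => by
    have := Ideal.mul_mem_mul hx hy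
    rwa [← sq, hJ, Ideal.mem_bot] at this
  let N : Submodule C E := J.restrictScalars C
  letI : Module B N := Module.compHom N (algebraMap B C)
  haveI : IsScalarTower B C N := IsScalarTower.of_algebraMap_smul fun _ _ => rfl
  haveI : IsScalarTower A B N := IsScalarTower.of_algebraMap_smul fun a x => by
    show algebraMap B C (algebraMap A B a) • x = a • x
    rw [← IsScalarTower.algebraMap_apply, algebraMap_smul]
  have hmem : ∀ b, u (algebraMap B C b) - algebraMap B E b ∈ N := fun b => by
    show _ ∈ J
    rw [← Ideal.Quotient.eq_zero_iff_mem, map_sub, hu', AlgHom.commutes, sub_eq_zero]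
    rfl
  let D₀ : Derivation A B N := Derivation.mk'
    { toFun := fun b => ⟨u (algebraMap B C b) - algebraMap B E b, hmem b⟩
      map_add' := fun a b => Subtype.ext (by simp only [map_add, Submodule.coe_add]; ring)
      map_smul' := fun a b => Subtype.ext (by
        show u (algebraMap B C (a • b)) - algebraMap B E (a • b) =
          a • (u (algebraMap B C b) - algebraMap B E b)
        rw [Algebra.smul_def a b, map_mul, map_mul, map_mul, ← IsScalarTower.algebraMap_apply A B C,
          u.commutes, ← IsScalarTower.algebraMap_apply A B E, ← mul_sub, ← Algebra.smul_def]) }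
    fun a b => Subtype.ext (by
      show u (algebraMap B C (a * b)) - algebraMap B E (a * b) =
        u (algebraMap B C a) * (u (algebraMap B C b) - algebraMap B E b) +
          u (algebraMap B C b) * (u (algebraMap B C a) - algebraMap B E a)
      rw [map_mul, map_mul, map_mul]
      linear_combination (-1 : E) * hJJ _ (hmem a) _ (hmem b))
  obtain ⟨d, hd⟩ := h N D₀
  refine ⟨{ toFun := fun c => u c - (d c : E)
            map_one' := by simp
            map_mul' := fun b c => by
              rw [Derivation.leibniz, Submodule.coe_add, map_mul]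
              show u b * u c - (u b * (d c : E) + u c * (d b : E)) = _
              linear_combination (-1 : E) * hJJ _ (d b).2 _ (d c).2
            map_zero' := by simp
            map_add' := fun b c => by simp [map_add]; abel
            commutes' := fun b => by
              rw [hd]
              exact sub_sub_cancel _ _ }, AlgHom.ext fun c => ?_⟩
  show Ideal.Quotient.mk J (u c - (d c : E)) = u₀ c
  rw [map_sub, hu', Ideal.Quotient.eq_zero_iff_mem.2 (d c).2, sub_zero]

theorem ext_of_isFormallySmoothRel (h : EGA41.IsFormallySmoothRel A B C) : Ext A B C := by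
  intro M _ _ _ _ _ _ _ D₀
  obtain ⟨E, _, ι, a, fst, hfι, hfa, hfex, hmul, hsq, hinj⟩ :
      ∃ (E : Type u) (_ : CommRing E) (ι : C →+* E) (a : M →+ E) (fst : E →+* C),
        (∀ c, fst (ι c) = c) ∧ (∀ x, fst (a x) = 0) ∧ (∀ e, fst e = 0 → ∃ x, a x = e) ∧
        (∀ c x, ι c * a x = a (c • x)) ∧ (∀ x y, a x * a y = 0) ∧ Function.Injective a := by
    letI : Module Cᵐᵒᵖ M := Module.compHom M ((RingHom.id C).fromOpposite mul_comm)
    haveI : IsCentralScalar C M := ⟨fun _ _ => rfl⟩
    exact ⟨TrivSqZeroExt C M, inferInstance, TrivSqZeroExt.inlHom C M,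
      (TrivSqZeroExt.inrHom C M).toAddMonoidHom, (TrivSqZeroExt.fstHom C C M).toRingHom,
      fun c => rfl, fun x => rfl, fun e he => ⟨e.snd, TrivSqZeroExt.ext he.symm rfl⟩,
      fun c x => TrivSqZeroExt.inl_mul_inr c x, fun x y => TrivSqZeroExt.inr_mul_inr C x y,
      TrivSqZeroExt.inr_injective⟩
  letI algB : Algebra B E := RingHom.toAlgebra
    { toFun := fun b => ι (algebraMap B C b) + a (D₀ b)
      map_one' := by simp
      map_mul' := fun x y => by
        rw [Derivation.leibniz, map_add a, ← algebraMap_smul C x (D₀ y), ← algebraMap_smul C y (D₀ x),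
          ← hmul, ← hmul, map_mul, map_mul]
        linear_combination -hsq (D₀ x) (D₀ y)
      map_zero' := by simp
      map_add' := fun x y => by simp only [map_add]; ring }
  have halg : ∀ b, algebraMap B E b = ι (algebraMap B C b) + a (D₀ b) := fun b => rfl
  letI algA : Algebra A E := ((algebraMap B E).comp (algebraMap A B)).toAlgebra
  haveI : IsScalarTower A B E := IsScalarTower.of_algebraMap_eq fun _ => rfl
  let J : Ideal E := RingHom.ker fst
  have hJ : J ^ 2 = ⊥ := by
    rw [sq, eq_bot_iff, Ideal.mul_le]
    intro e he e' he'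
    obtain ⟨x, rfl⟩ := hfex e he
    obtain ⟨y, rfl⟩ := hfex e' he'
    exact hsq x y
  let u₀ : C →ₐ[B] E ⧸ J :=
    { (Ideal.Quotient.mk J).comp ι with
      commutes' := fun b => Ideal.Quotient.eq.2 (by
        show ι (algebraMap B C b) - algebraMap B E b ∈ J
        rw [halg, sub_add_cancel_left, neg_mem_iff, RingHom.mem_ker, hfa]) }
  let u : C →ₐ[A] E :=
    { ι with
      commutes' := fun r => by
        show ι (algebraMap A C r) = algebraMap B E (algebraMap A B r)
        rw [halg, Derivation.map_algebraMap, map_zero, add_zero, ← IsScalarTower.algebraMap_apply] }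
  obtain ⟨v, hv⟩ := h E J hJ u₀ ⟨u, AlgHom.ext fun _ => rfl⟩
  have hd0 : ∀ c, ∃ x, a x = v c - ι c := fun c => hfex _
    (RingHom.mem_ker.1 (Ideal.Quotient.eq.1 (AlgHom.congr_fun hv c)))
  choose d hd using hd0
  have hmul' : ∀ u w, d (u * w) = u • d w + w • d u := fun u w => hinj (by
    rw [map_add, ← hmul, ← hmul, hd, hd, hd, map_mul, map_mul]
    have h0 := hsq (d u) (d w)
    rw [hd, hd] at h0
    linear_combination h0)
  have hb : ∀ b, d (algebraMap B C b) = D₀ b := fun b => hinj (by
    rw [hd, v.commutes, halg]
    ring)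
  refine ⟨Derivation.mk'
    { toFun := d
      map_add' := fun u w => hinj (by simp only [map_add, hd]; ring)
      map_smul' := fun r c => by
        rw [RingHom.id_apply, Algebra.smul_def, hmul', IsScalarTower.algebraMap_apply A B C, hb,
          Derivation.map_algebraMap, smul_zero, add_zero, ← IsScalarTower.algebraMap_apply,
          algebraMap_smul] }
    hmul', hb⟩

theorem isFormallySmoothRel_iff :
    EGA41.IsFormallySmoothRel A B C ↔
      ∃ l : Ω[C⁄A] →ₗ[C] C ⊗[B] Ω[B⁄A], l ∘ₗ mapBaseChange A B C = LinearMap.id :=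
  ⟨fun h => (ext_iff_leftInverse A B C).1 (ext_of_isFormallySmoothRel h),
    fun h => isFormallySmoothRel_of_ext ((ext_iff_leftInverse A B C).2 h)⟩

end Groth.Agent.H05EGA4.RelFS
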