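import Mathlib
import Groth.Prelude.Def_FDesc
import Groth.Agent.H05EGA4.SchImageClopen
import Groth.Agent.H13AlgSp.LocP

/-!
Scheme-theoretic dominance of flat morphisms and associated points (helper5).
-/

set_option autoImplicit false
set_option linter.style.haveILetI false
set_option maxHeartbeats 800000
universe u
open Groth.Agent CategoryTheory CategoryTheory.Limits AlgebraicGeometry TopologicalSpace

namespace Groth.Agent.H05EGA4.SchDomAss

section algebra

variable {A B : Type u} [CommRing A] [CommRing B] [Algebra A B] [Module.Flat A B]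

/-- In a flat algebra, an element of `K B` killed by `a` lies in `(K ∩ (0 : a)) B`. -/
theorem mem_map_inf_colon {K : Ideal A} {m : B} (hm : m ∈ K.map (algebraMap A B)) (a : A)
    (ha : algebraMap A B a * m = 0) : m ∈ (K ⊓ (⊥ : Submodule A A).colon {a}).map (algebraMap A B) := by
  obtain ⟨c, hc⟩ : ∃ c : K →₀ B, (c.sum fun k b => algebraMap A B k.1 * b) = m := by
    clear ha
    induction hm using Submodule.span_induction with
    | mem z hz =>
      obtain ⟨k, hk, rfl⟩ := hz
      exact ⟨Finsupp.single ⟨k, hk⟩ 1, by simp⟩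
    | zero => exact ⟨0, by simp⟩
    | add x y _ _ hx hy =>
      obtain ⟨c, rfl⟩ := hx
      obtain ⟨d, rfl⟩ := hy
      classical
      exact ⟨c + d, Finsupp.sum_add_index (fun _ _ => mul_zero _) (fun _ _ _ _ => mul_add _ _ _)⟩
    | smul b x _ hx =>
      obtain ⟨c, rfl⟩ := hx
      refine ⟨b • c, ?_⟩
      rw [Finsupp.sum_smul_index' (fun _ => mul_zero _), smul_eq_mul, Finsupp.mul_sum]
      exact Finsupp.sum_congr fun k _ => by rw [smul_eq_mul, mul_left_comm]
  obtain ⟨k, d, y, h1, h2⟩ := Module.Flat.isTrivialRelation_of_sum_smul_eq_zero (R := A)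
    (f := fun i : c.support => a * (i.1 : K).1) (x := fun i => c i.1) (by
      rw [Finset.sum_coe_sort c.support (fun i : K => (a * i.1) • c i), ← ha, ← hc, Finsupp.mul_sum]
      exact Finset.sum_congr rfl fun i _ => by rw [Algebra.smul_def, map_mul, mul_assoc])
  have hm' : m = ∑ j, algebraMap A B (∑ i : c.support, (i.1 : K).1 * d i j) * y j := by
    rw [← hc, Finsupp.sum, ← Finset.sum_coe_sort c.support (fun i : K => algebraMap A B i.1 * c i)]
    calc ∑ i : c.support, algebraMap A B (i.1 : K).1 * c i.1
        = ∑ i : c.support, ∑ j, algebraMap A B ((i.1 : K).1 * d i j) * y j :=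
          Finset.sum_congr rfl fun i _ => by
            rw [show c i.1 = ∑ j, d i j • y j from h1 i, Finset.mul_sum]
            exact Finset.sum_congr rfl fun j _ => by rw [Algebra.smul_def, map_mul, mul_assoc]
      _ = _ := by
            rw [Finset.sum_comm]
            exact Finset.sum_congr rfl fun j _ => by rw [map_sum, Finset.sum_mul]
  rw [hm']
  refine Ideal.sum_mem _ fun j _ => Ideal.mul_mem_right _ _ (Ideal.mem_map_of_mem _ ⟨?_, ?_⟩)
  · exact Ideal.sum_mem _ fun i _ => K.mul_mem_right _ i.1.2
  · rw [SetLike.mem_coe, Submodule.mem_colon_singleton, smul_eq_mul, Submodule.mem_bot, Finset.sum_mul]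
    exact (Finset.sum_congr rfl fun i _ => by ring).trans (h2 j)

variable [IsNoetherianRing A] [IsNoetherianRing B]

/-- Associated primes of a flat algebra lie over associated primes. -/
theorem under_mem_associatedPrimes (q : Ideal B) (hq : q ∈ associatedPrimes B B) :
    q.under A ∈ associatedPrimes A A := by
  classical
  haveI := hq.isPrime
  obtain ⟨-, m, hm⟩ := isAssociatedPrime_iff.mp hq
  have hqm : ∀ a : A, a ∈ q.under A ↔ algebraMap A B a * m = 0 := fun a => by
    show algebraMap A B a ∈ q ↔ _
    rw [hm, Submodule.mem_colon_singleton, Submodule.mem_bot, smul_eq_mul]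
  obtain ⟨gens, hgens⟩ := (IsNoetherian.noetherian (q.under A) : (q.under A).FG)
  let J : Ideal A := (⊥ : Submodule A A).colon (q.under A : Set A)
  have hmJ : m ∈ J.map (algebraMap A B) := by
    suffices h : ∀ T : Finset A, T ⊆ gens → ∃ K : Ideal A, m ∈ K.map (algebraMap A B) ∧
        ∀ t ∈ T, ∀ j ∈ K, j * t = 0 by
      obtain ⟨K, hK, hKT⟩ := h gens subset_rfl
      refine Ideal.map_mono (fun j hj => ?_) hK
      rw [Submodule.mem_colon]
      intro p hp
      rw [SetLike.mem_coe, ← hgens] at hp
      rw [Submodule.mem_bot, smul_eq_mul]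
      induction hp using Submodule.span_induction with
      | mem t ht => exact hKT t ht j hj
      | zero => simp
      | add a b _ _ ha hb => rw [mul_add, ha, hb, add_zero]
      | smul r a _ ha => rw [smul_eq_mul, mul_left_comm, ha, mul_zero]
    intro T
    induction T using Finset.induction_on with
    | empty => exact fun _ => ⟨⊤, by rw [Ideal.map_top]; trivial, fun t ht => absurd ht (Finset.notMem_empty t)⟩
    | @insert t T ht ih =>
      intro hT
      obtain ⟨K, hK, hKT⟩ := ih ((Finset.subset_insert t T).trans hT)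
      refine ⟨_, mem_map_inf_colon hK t ((hqm t).mp (hgens ▸ Ideal.subset_span (hT (Finset.mem_insert_self t T)))),
        fun s hs j hj => ?_⟩
      rcases Finset.mem_insert.mp hs with rfl | hs
      · have h1 := hj.2
        rw [SetLike.mem_coe, Submodule.mem_colon_singleton, smul_eq_mul, Submodule.mem_bot] at h1
        exact h1
      · exact hKT s hs j hj.1
  refine isAssociatedPrime_iff.mpr ⟨inferInstance, ?_⟩
  by_contra! hne
  obtain ⟨gj, hgj⟩ := (IsNoetherian.noetherian J : J.FG)
  have key : ∀ j ∈ (gj : Set A), ∃ s : (q.under A).primeCompl, (s : A) * j = 0 := fun j hj => by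
    have hjJ : j ∈ J := hgj ▸ Submodule.subset_span hj
    have hsub : q.under A ≤ (⊥ : Submodule A A).colon {j} := fun p hp => by
      rw [Submodule.mem_colon_singleton, Submodule.mem_bot, smul_eq_mul, mul_comm]
      simpa using Submodule.mem_colon.mp hjJ p hp
    obtain ⟨s, hs, hsq⟩ := SetLike.not_le_iff_exists.mp fun hle => hne j (le_antisymm hsub hle)
    rw [Submodule.mem_colon_singleton, Submodule.mem_bot, smul_eq_mul] at hs
    exact ⟨⟨s, hsq⟩, hs⟩
  choose s hs using fun j : (gj : Set A) => key j j.2
  let T : (q.under A).primeCompl := ∏ j, s j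
  have hT : ∀ j ∈ J, (T : A) * j = 0 := fun j hj => by
    rw [← hgj] at hj
    induction hj using Submodule.span_induction with
    | mem z hz =>
      obtain ⟨w, hw⟩ : (s ⟨z, hz⟩ : A) ∣ (T : A) := by
        simp only [T, Submonoid.coe_finsetProd]
        exact Finset.dvd_prod_of_mem _ (Finset.mem_univ _)
      rw [hw, mul_right_comm, hs ⟨z, hz⟩, zero_mul]
    | zero => simp
    | add a b _ _ ha hb => rw [mul_add, ha, hb, add_zero]
    | smul r a _ ha => rw [smul_eq_mul, mul_left_comm, ha, mul_zero]
  refine T.2 ((hqm T).mpr ?_)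
  suffices h : ∀ z ∈ J.map (algebraMap A B), algebraMap A B T * z = 0 from h m hmJ
  intro z hmJ
  clear * - hmJ hT
  induction hmJ using Submodule.span_induction with
  | mem z hz =>
    obtain ⟨j, hj, rfl⟩ := hz
    rw [← map_mul, hT j hj, map_zero]
  | zero => simp
  | add a b _ _ ha hb => rw [mul_add, ha, hb, add_zero]
  | smul r a _ ha => rw [smul_eq_mul, mul_left_comm, ha, mul_zero]

/-- Primes over an associated prime of the base of a quasi-finite flat algebra are associated. -/
theorem mem_associatedPrimes_of_under [Algebra.QuasiFinite A B] (q : Ideal B) [q.IsPrime]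
    (hq : q.under A ∈ associatedPrimes A A) : q ∈ associatedPrimes B B := by
  obtain ⟨-, j, hj⟩ := isAssociatedPrime_iff.mp hq
  let x : B := algebraMap A B j
  have hann : (Submodule.span B {x}).annihilator = (q.under A).map (algebraMap A B) := by
    ext b
    rw [Submodule.mem_annihilator_span_singleton, smul_eq_mul]
    constructor
    · intro hb
      have h := mem_map_inf_colon (K := (⊤ : Ideal A)) (m := b) (by rw [Ideal.map_top]; trivial) j
        (by rw [mul_comm]; exact hb)
      exact Ideal.map_mono (fun a ha => hj.symm ▸ ha.2) h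
    · intro hb
      induction hb using Submodule.span_induction with
      | mem z hz =>
        obtain ⟨a, ha, rfl⟩ := hz
        rw [SetLike.mem_coe, hj, Submodule.mem_colon_singleton, Submodule.mem_bot, smul_eq_mul] at ha
        rw [← map_mul, ha, map_zero]
      | zero => simp
      | add a b _ _ ha hb => rw [add_mul, ha, hb, add_zero]
      | smul r a _ ha => rw [smul_eq_mul, mul_assoc, ha, mul_zero]
  have hmin : q ∈ ((q.under A).map (algebraMap A B)).minimalPrimes :=
    ⟨⟨inferInstance, Ideal.map_comap_le⟩, fun r hr hle => by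
      haveI := hr.1
      have h1 : r.under A = q.under A :=
        le_antisymm (Ideal.comap_mono hle) (Ideal.map_le_iff_le_comap.mp hr.2)
      exact (Algebra.QuasiFinite.eq_of_le_of_under_eq (R := A) r q hle h1).ge⟩
  rw [← hann] at hmin
  have h := Module.associatedPrimes.minimalPrimes_annihilator_subset_associatedPrimes B (Submodule.span B {x}) hmin
  exact associatedPrimes.subset_of_injective (f := (Submodule.span B {x}).subtype) Subtype.val_injective h

end algebra

section scheme

/-- Membership in `(0 : S)`. -/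
theorem mem_colon_bot {R : Type*} [CommRing R] {S : Set R} {a : R} :
    a ∈ (⊥ : Submodule R R).colon S ↔ ∀ i ∈ S, a * i = 0 := by
  simp [Submodule.mem_colon]

/-- Associated points of an étale scheme are the points over associated points. -/
theorem mem_ass_iff_of_etale {E S : Scheme.{u}} [IsLocallyNoetherian S] [IsLocallyNoetherian E] (g : E ⟶ S) [Etale g]
    (e : E) : e ∈ AssSch.Ass (Coh.structureModule E) ↔ g.base e ∈ AssSch.Ass (Coh.structureModule S) := by
  obtain ⟨U, hU, heU, -⟩ := exists_isAffineOpen_mem_and_subset (X := S) (x := g.base e) (U := ⊤) trivial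
  obtain ⟨V, hV, heV, hVU⟩ := exists_isAffineOpen_mem_and_subset (X := E) (x := e) (U := g ⁻¹ᵁ U) heU
  haveI : IsNoetherianRing Γ(S, U) := IsLocallyNoetherian.component_noetherian ⟨U, hU⟩
  haveI : IsNoetherianRing Γ(E, V) := IsLocallyNoetherian.component_noetherian ⟨V, hV⟩
  have h1 : e ∈ AssSch.Ass (Coh.structureModule E) ↔
      (hV.primeIdealOf ⟨e, heV⟩).asIdeal ∈ associatedPrimes Γ(E, V) Γ(E, V) :=
    S8871.isAssPoint_iff _ (H29Blow.isQCoh_structureModule _) hV ⟨e, heV⟩
  have h2 : g.base e ∈ AssSch.Ass (Coh.structureModule S) ↔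
      (hU.primeIdealOf ⟨g.base e, heU⟩).asIdeal ∈ associatedPrimes Γ(S, U) Γ(S, U) :=
    S8871.isAssPoint_iff _ (H29Blow.isQCoh_structureModule _) hU ⟨g.base e, heU⟩
  have het := HasRingHomProperty.appLE @Etale g ‹_› ⟨U, hU⟩ ⟨V, hV⟩ hVU
  have hcomp : (hU.primeIdealOf ⟨g.base e, heU⟩).asIdeal =
      (hV.primeIdealOf ⟨e, heV⟩).asIdeal.comap (g.appLE U V hVU).hom :=
    (congrArg PrimeSpectrum.asIdeal (IsAffineOpen.comap_primeIdealOf_appLE (f := g) U hU V hV hVU heV)).symm
  algebraize [(g.appLE U V hVU).hom]
  rw [h1, h2, hcomp]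
  exact ⟨under_mem_associatedPrimes _, mem_associatedPrimes_of_under _⟩

/-- Stalk maps of flat morphisms are injective. -/
theorem stalkMap_injective {X Y : Scheme.{u}} (f : X ⟶ Y) [Flat f] (x : X) :
    Function.Injective (f.stalkMap x) := by
  have hflat : (f.stalkMap x).hom.Flat := Flat.stalkMap f x
  letI := (f.stalkMap x).hom.toAlgebra
  haveI : Module.Flat (Y.presheaf.stalk (f x)) (X.presheaf.stalk x) := hflat
  haveI : IsLocalHom (algebraMap (Y.presheaf.stalk (f x)) (X.presheaf.stalk x)) :=
    inferInstanceAs (IsLocalHom (f.stalkMap x).hom)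
  haveI : Module.FaithfullyFlat (Y.presheaf.stalk (f x)) (X.presheaf.stalk x) :=
    Module.FaithfullyFlat.of_flat_of_isLocalHom
  exact FaithfulSMul.algebraMap_injective (Y.presheaf.stalk (f x)) (X.presheaf.stalk x)

/-- The image of a flat morphism is stable under generization. -/
theorem mem_range_of_specializes {X Y : Scheme.{u}} (f : X ⟶ Y) [Flat f] {y : Y} {x : X} (h : y ⤳ f.base x) :
    y ∈ Set.range f.base := by
  have hflat : (f.stalkMap x).hom.Flat := Flat.stalkMap f x
  letI := (f.stalkMap x).hom.toAlgebra
  haveI : Module.Flat (Y.presheaf.stalk (f x)) (X.presheaf.stalk x) := hflat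
  haveI : IsLocalHom (algebraMap (Y.presheaf.stalk (f x)) (X.presheaf.stalk x)) :=
    inferInstanceAs (IsLocalHom (f.stalkMap x).hom)
  haveI : Module.FaithfullyFlat (Y.presheaf.stalk (f x)) (X.presheaf.stalk x) :=
    Module.FaithfullyFlat.of_flat_of_isLocalHom
  obtain ⟨p, hp⟩ : y ∈ Set.range (Y.fromSpecStalk (f x)) := by rw [Scheme.range_fromSpecStalk]; exact h
  obtain ⟨p', hp'⟩ := PrimeSpectrum.comap_surjective_of_faithfullyFlat (B := X.presheaf.stalk x) p
  refine ⟨X.fromSpecStalk x p', ?_⟩
  rw [← Scheme.Hom.comp_apply, ← Scheme.SpecMap_stalkMap_fromSpecStalk, Scheme.Hom.comp_apply, ← hp, ← hp']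
  rfl

/-- A flat morphism to a locally Noetherian scheme is scheme-theoretically dominant iff its image contains the
associated points. -/
theorem dominant_iff {X E : Scheme.{u}} [IsLocallyNoetherian E] (u : X ⟶ E) [Flat u] :
    IsSchemeTheoreticallyDominant u ↔ AssSch.Ass (Coh.structureModule E) ⊆ Set.range u.base := by
  constructor
  · intro hu e he
    by_contra hne
    let Z : Closeds E := ⟨closure {e}, isClosed_closure⟩
    let I := Scheme.IdealSheafData.vanishingIdeal Z
    have hZ : ∀ x : X, u.base x ∉ I.support := fun x hx => by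
      rw [← SetLike.mem_coe, Scheme.IdealSheafData.coe_support_vanishingIdeal] at hx
      exact hne (mem_range_of_specializes u (specializes_iff_mem_closure.mpr hx))
    let J : E.IdealSheafData :=
      { ideal := fun W => (⊥ : Submodule Γ(E, W) Γ(E, W)).colon (I.ideal W : Set Γ(E, W))
        map_ideal_basicOpen := fun W f => by
          haveI : IsNoetherianRing Γ(E, W) := IsLocallyNoetherian.component_noetherian W
          letI := (E.presheaf.map (homOfLE <| E.basicOpen_le f).op).hom.toAlgebra
          haveI : IsLocalization.Away f Γ(E, E.basicOpen f) := W.2.isLocalization_basicOpen f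
          refine le_antisymm ?_ ?_
          · rw [Ideal.map_le_iff_le_comap]
            intro a ha
            rw [Ideal.mem_comap]
            refine mem_colon_bot.mpr fun i hi => ?_
            replace hi : i ∈ (I.ideal W).map (E.presheaf.map (homOfLE <| E.basicOpen_le f).op).hom := by
              rw [I.map_ideal_basicOpen W f]; exact hi
            show ((E.presheaf.map (homOfLE <| E.basicOpen_le f).op).hom a * i : Γ(E, E.basicOpen f)) = 0
            induction hi using Submodule.span_induction with
            | mem z hz =>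
              obtain ⟨b, hb, rfl⟩ := hz
              have h0 := mem_colon_bot.mp ha b hb
              rw [← map_mul, h0, map_zero]
            | zero => simp
            | add a b _ _ ha hb => rw [mul_add, ha, hb, add_zero]
            | smul r a _ ha => rw [smul_eq_mul, mul_left_comm, ha, mul_zero]
          · intro y hy
            obtain ⟨a, ⟨_, n, rfl⟩, rfl⟩ := IsLocalization.exists_mk'_eq (Submonoid.powers f) y
            obtain ⟨gens, hgens⟩ := (IsNoetherian.noetherian (I.ideal W) : (I.ideal W).FG)
            have key : ∀ b ∈ (gens : Set Γ(E, W)), ∃ s : Submonoid.powers f, (s : Γ(E, W)) * (a * b) = 0 := by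
              intro b hb
              have hb' : algebraMap Γ(E, W) Γ(E, E.basicOpen f) b ∈ I.ideal (E.affineBasicOpen f) := by
                rw [← I.map_ideal_basicOpen W f]
                exact Ideal.mem_map_of_mem _ (hgens ▸ Submodule.subset_span hb)
              have h0 : IsLocalization.mk' Γ(E, E.basicOpen f) a (⟨f ^ n, n, rfl⟩ : Submonoid.powers f) *
                  algebraMap Γ(E, W) Γ(E, E.basicOpen f) b = 0 := mem_colon_bot.mp hy _ hb'
              have h1 : algebraMap Γ(E, W) Γ(E, E.basicOpen f) (a * b) = 0 := by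
                rw [map_mul, ← IsLocalization.mk'_spec Γ(E, E.basicOpen f) a (⟨f ^ n, n, rfl⟩ : Submonoid.powers f), mul_right_comm]
                erw [h0]
                rw [zero_mul]
              exact (IsLocalization.map_eq_zero_iff (Submonoid.powers f) _ _).mp h1
            classical
            choose s hs using fun b : (gens : Set Γ(E, W)) => key b b.2
            let T : Submonoid.powers f := ∏ b, s b
            have hT : (T : Γ(E, W)) * a ∈ (⊥ : Submodule Γ(E, W) Γ(E, W)).colon (I.ideal W : Set Γ(E, W)) := by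
              rw [Submodule.mem_colon]
              intro b hb
              rw [SetLike.mem_coe, ← hgens] at hb
              rw [Submodule.mem_bot, smul_eq_mul]
              induction hb using Submodule.span_induction with
              | mem z hz =>
                obtain ⟨w, hw⟩ : (s ⟨z, hz⟩ : Γ(E, W)) ∣ (T : Γ(E, W)) := by
                  simp only [T, Submonoid.coe_finsetProd]
                  exact Finset.dvd_prod_of_mem _ (Finset.mem_univ _)
                rw [hw, show (s ⟨z, hz⟩ : Γ(E, W)) * w * a * z = w * ((s ⟨z, hz⟩ : Γ(E, W)) * (a * z)) by ring,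
                  hs ⟨z, hz⟩, mul_zero]
              | zero => simp
              | add a b _ _ ha hb => rw [mul_add, ha, hb, add_zero]
              | smul r a _ ha => rw [smul_eq_mul, mul_left_comm, ha, mul_zero]
            exact (IsLocalization.mk'_mem_iff (M := Submonoid.powers f) (S := Γ(E, E.basicOpen f))).mpr
              ((Ideal.unit_mul_mem_iff_mem _ (IsLocalization.map_units Γ(E, E.basicOpen f) T)).mp
                (map_mul (algebraMap Γ(E, W) Γ(E, E.basicOpen f)) _ _ ▸ Ideal.mem_map_of_mem _ hT)) }
    have hJ : J ≤ ⊥ := by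
      rw [← IsSchemeTheoreticallyDominant.ker_eq_bot u]
      refine Scheme.IdealSheafData.le_ofIdeals_iff.mpr fun W a ha => ?_
      rw [RingHom.mem_ker]
      refine X.IsSheaf.section_ext fun x hx => ?_
      have hxI := hZ x
      rw [Scheme.IdealSheafData.mem_support_iff_of_mem (U := W) hx, Scheme.mem_zeroLocus_iff] at hxI
      push_neg at hxI
      obtain ⟨i, hi, hiu⟩ := hxI
      have h0 := mem_colon_bot.mp ha i hi
      refine ⟨u ⁻¹ᵁ E.basicOpen i, fun y hy => E.basicOpen_le i hy, hiu, ?_⟩
      have h1 : E.presheaf.map (homOfLE (E.basicOpen_le i)).op a = 0 := by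
        refine (E.toRingedSpace.isUnit_res_basicOpen i).mul_left_eq_zero.mp ?_
        erw [← map_mul, h0, map_zero]
        try rfl
      have h2 := congrArg (u.app (E.basicOpen i)) h1
      rw [map_zero] at h2
      rw [map_zero, ← h2]
      exact (congr($(u.naturality (homOfLE (E.basicOpen_le i)).op) a)).symm
    obtain ⟨V, hV, heV, -⟩ := exists_isAffineOpen_mem_and_subset (X := E) (x := e) (U := ⊤) trivial
    haveI : IsNoetherianRing Γ(E, V) := IsLocallyNoetherian.component_noetherian ⟨V, hV⟩
    obtain ⟨-, (s : Γ(E, V)), hs⟩ := isAssociatedPrime_iff.mp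
      ((S8871.isAssPoint_iff _ (H29Blow.isQCoh_structureModule _) hV ⟨e, heV⟩).mp he)
    have heI : e ∈ I.support := by
      rw [← SetLike.mem_coe, Scheme.IdealSheafData.coe_support_vanishingIdeal]
      exact subset_closure rfl
    rw [Scheme.IdealSheafData.mem_support_iff_of_mem (U := ⟨V, hV⟩) heV, Scheme.mem_zeroLocus_iff] at heI
    have hsJ : s ∈ J.ideal ⟨V, hV⟩ := by
      refine mem_colon_bot.mpr fun i hi => ?_
      have hiq : i ∈ (hV.primeIdealOf ⟨e, heV⟩).asIdeal := by
        by_contra hiq
        exact heI i hi (by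
          rw [show e = hV.fromSpec (hV.primeIdealOf ⟨e, heV⟩) from (hV.fromSpec_primeIdealOf ⟨e, heV⟩).symm]
          show hV.primeIdealOf ⟨e, heV⟩ ∈ hV.fromSpec ⁻¹ᵁ E.basicOpen i
          rw [hV.fromSpec_preimage_basicOpen]
          exact hiq)
      rw [hs, Submodule.mem_colon_singleton, Submodule.mem_bot] at hiq
      rw [mul_comm]
      exact hiq
    have hs0 : s = 0 := Ideal.mem_bot.mp (by simpa using hJ ⟨V, hV⟩ hsJ)
    apply (hV.primeIdealOf ⟨e, heV⟩).2.ne_top
    rw [hs, hs0]
    exact eq_top_iff.mpr fun x _ => Submodule.mem_colon_singleton.mpr (mul_zero x)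
  · intro h
    refine ⟨le_bot_iff.mp fun V a ha => ?_⟩
    rw [Scheme.IdealSheafData.ideal_bot, Pi.bot_apply, Ideal.mem_bot]
    haveI : IsNoetherianRing Γ(E, V) := IsLocallyNoetherian.component_noetherian V
    by_contra ha0
    have hker : u.app V.1 a = 0 := RingHom.mem_ker.mp (Scheme.IdealSheafData.ideal_ofIdeals_le _ V ha)
    obtain ⟨q, hq, hle⟩ := exists_le_isAssociatedPrime_of_isNoetherianRing Γ(E, V) a ha0
    obtain ⟨z, hz⟩ := H29Blow.exists_primeIdealOf_eq V.2 ⟨q, hq.isPrime⟩
    have hzA : z.1 ∈ AssSch.Ass (Coh.structureModule E) :=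
      (S8871.isAssPoint_iff _ (H29Blow.isQCoh_structureModule _) V.2 z).mpr (by rw [hz]; exact hq)
    obtain ⟨x, hx⟩ := h hzA
    obtain ⟨z, hzV⟩ := z
    subst hx
    have hg : E.presheaf.germ V.1 (u x) hzV a = 0 := stalkMap_injective u x (by
      rw [map_zero, Scheme.Hom.germ_stalkMap_apply, hker, map_zero])
    letI := TopCat.Presheaf.algebra_section_stalk E.presheaf (⟨u x, hzV⟩ : V.1)
    haveI := V.2.isLocalization_stalk ⟨u x, hzV⟩
    obtain ⟨t, ht⟩ := (IsLocalization.map_eq_zero_iff (V.2.primeIdealOf ⟨u x, hzV⟩).asIdeal.primeCompl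
      (E.presheaf.stalk (u x)) a).mp hg
    refine t.2 ?_
    have hzq := congrArg PrimeSpectrum.asIdeal hz
    refine hzq.ge (hle ?_)
    rw [Submodule.mem_colon_singleton, Submodule.mem_bot, smul_eq_mul]; exact ht

end scheme

end Groth.Agent.H05EGA4.SchDomAss
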