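import Mathlib
import Groth.Agent.H05EGA4.CodepthOpen
import Groth.Agent.H4Depth.Spread
import Groth.Agent.H4Depth.IdealDepth

/-!
# `(S_k)` and embedded primes of quotients by regular sequences (helper5)
-/

set_option autoImplicit false
set_option linter.style.haveILetI false
set_option maxHeartbeats 800000
universe u
open IsLocalRing Groth.Agent LocCoh RingTheory.Sequence

namespace Groth.Agent.H05EGA4.SkNoEmbedded

variable {A : Type u} [CommRing A] [IsNoetherianRing A] {M : Type u} [AddCommGroup M] [Module A M]
  [Module.Finite A M]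

theorem dpAt_sdAt_localizedModule (S : Submonoid A) (Q : Ideal (Localization S)) [Q.IsPrime] :
    dpAt Q (LocalizedModule S M) = dpAt (Q.under A) M ∧ sdAt Q (LocalizedModule S M) = sdAt (Q.under A) M := by
  let T := Localization.AtPrime Q
  haveI : IsLocalization.AtPrime T (Q.under A) :=
    IsLocalization.isLocalization_isLocalization_atPrime_isLocalization S T Q
  have h1 : IsBaseChange (Localization S) (LocalizedModule.mkLinearMap S M) :=
    IsLocalizedModule.isBaseChange S _ _
  have h2 : IsBaseChange T (LocalizedModule.mkLinearMap Q.primeCompl (LocalizedModule S M)) :=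
    IsLocalizedModule.isBaseChange Q.primeCompl _ _
  exact dpAt_sdAt_of_isBaseChange (Q.under A) T _ (h1.comp h2)

variable {B : Type u} [CommRing B] [IsNoetherianRing B] {N : Type u} [AddCommGroup N] [Module B N]
  [Module.Finite B N]

omit [IsNoetherianRing B] [Module.Finite B N] in
theorem ofList_le_annihilator (rs : List B) :
    Ideal.ofList rs ≤ Module.annihilator B (N ⧸ Ideal.ofList rs • (⊤ : Submodule B N)) := fun r hr => by
  rw [Module.mem_annihilator]
  intro x
  obtain ⟨x, rfl⟩ := Submodule.Quotient.mk_surjective _ x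
  rw [← Submodule.Quotient.mk_smul, Submodule.Quotient.mk_eq_zero]
  exact Submodule.smul_mem_smul hr Submodule.mem_top

theorem map_ne_top (rs : List B) {q : Ideal B} [q.IsPrime] (hmem : ∀ r ∈ rs, r ∈ q)
    [Nontrivial (LocalizedModule q.primeCompl N)] :
    (⊤ : Submodule (Localization.AtPrime q) (LocalizedModule q.primeCompl N)) ≠
      Ideal.ofList (rs.map (algebraMap B (Localization.AtPrime q))) • ⊤ := by
  haveI := module_finite_localizedModule q N
  refine Submodule.top_ne_ideal_smul_of_le_jacobson_annihilator
    ((Ideal.span_le.mpr fun x hx => ?_).trans (IsLocalRing.maximalIdeal_le_jacobson _))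
  obtain ⟨a, ha, rfl⟩ := List.mem_map.mp hx
  exact (IsLocalization.AtPrime.to_map_mem_maximal_iff _ q _).mpr (hmem a ha)

/-- An embedded prime of the quotient by a regular sequence witnesses a failure of `(S_k)`. -/
theorem of_embedded (rs : List B) (hreg : IsWeaklyRegular N rs) {p q : Ideal B}
    (hp : p ∈ associatedPrimes B (N ⧸ Ideal.ofList rs • (⊤ : Submodule B N)))
    (hq : q ∈ associatedPrimes B (N ⧸ Ideal.ofList rs • (⊤ : Submodule B N))) [q.IsPrime] (hpq : p < q) :
    dpAt q N = (rs.length : ℕ) ∧ ((rs.length + 1 : ℕ) : WithBot ℕ∞) ≤ sdAt q N := by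
  haveI := hp.isPrime
  have hsupp : ∀ {P : Ideal B} (hP : P ∈ associatedPrimes B (N ⧸ Ideal.ofList rs • (⊤ : Submodule B N))),
      (∀ r ∈ rs, r ∈ P) ∧ (⟨P, hP.isPrime⟩ : PrimeSpectrum B) ∈ Module.support B N := by
    intro P hP
    refine ⟨fun r hr => ?_, ?_⟩
    · have h1 := hP.annihilator_le
      rw [Submodule.annihilator_top] at h1
      exact h1 (ofList_le_annihilator rs (Ideal.subset_span hr))
    · exact Module.support_subset_of_surjective _ (Submodule.mkQ_surjective _)
        (H4Depth.mem_support_of_mem_associatedPrimes hP)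
  have hmq := (hsupp hq).1
  refine ⟨?_, ?_⟩
  · rw [dpAt, H4Depth.depth_localization_eq_length q rs hreg hmq hq]
    rfl
  let S := Localization.AtPrime q
  let L := LocalizedModule q.primeCompl N
  let f := LocalizedModule.mkLinearMap q.primeCompl N
  haveI := module_finite_localizedModule q N
  haveI : Nontrivial L := Module.mem_support_iff.mp (hsupp hq).2
  have hreg' : IsRegular L (rs.map (algebraMap B S)) :=
    ⟨hreg.of_isLocalizedModule S q.primeCompl f, map_ne_top rs hmq⟩
  rw [sdAt, ← Module.supportDim_add_length_eq_supportDim_of_isRegular _ hreg', List.length_map, Nat.cast_add,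
    Nat.cast_one, add_comm]
  refine add_le_add ?_ le_rfl
  have key : ∀ (P : Ideal B) [P.IsPrime], P ≤ q → (∀ r ∈ rs, r ∈ P) →
      (⟨P, inferInstance⟩ : PrimeSpectrum B) ∈ Module.support B N →
      ∃ P' ∈ Module.support S (L ⧸ Ideal.ofList (rs.map (algebraMap B S)) • (⊤ : Submodule S L)),
        P'.asIdeal.comap (algebraMap B S) = P := by
    intro P _ hPq hPm hPs
    have hdisj : Disjoint (q.primeCompl : Set B) P := Set.disjoint_left.mpr fun x hx hx' => hx (hPq hx')
    haveI := IsLocalization.isPrime_of_isPrime_disjoint q.primeCompl S P inferInstance hdisj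
    have hc : (P.map (algebraMap B S)).comap (algebraMap B S) = P :=
      IsLocalization.under_map_of_isPrime_disjoint q.primeCompl S inferInstance hdisj
    refine ⟨⟨P.map (algebraMap B S), inferInstance⟩, ?_, hc⟩
    rw [Module.support_quotient]
    refine ⟨?_, ?_⟩
    · rw [H4Depth.mem_support_localizedModule_iff q.primeCompl S f]
      convert hPs using 1
      exact PrimeSpectrum.ext hc
    · rw [PrimeSpectrum.mem_zeroLocus, SetLike.coe_subset_coe, ← Ideal.map_ofList]
      exact Ideal.map_mono (Ideal.span_le.mpr hPm)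
  obtain ⟨a, ha, hac⟩ := key p hpq.le (hsupp hp).1 (hsupp hp).2
  obtain ⟨b, hb, hbc⟩ := key q le_rfl hmq (hsupp hq).2
  refine Order.one_le_krullDim_iff.mpr ⟨⟨a, ha⟩, ⟨b, hb⟩, ?_⟩
  have hb' : b.asIdeal = maximalIdeal S := by
    rw [← IsLocalization.map_under q.primeCompl S b.asIdeal, ← Localization.AtPrime.map_eq_maximalIdeal]
    exact congrArg (Ideal.map (algebraMap B S)) hbc
  refine lt_of_le_of_ne (show a.asIdeal ≤ b.asIdeal from hb' ▸ le_maximalIdeal a.isPrime.ne_top) fun h => ?_
  rw [Subtype.mk.injEq] at h
  exact hpq.ne (hac.symm.trans ((congrArg (fun x : PrimeSpectrum S => x.asIdeal.comap (algebraMap B S)) h).trans hbc))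

/-- A failure of `(S_k)` at `P` yields an embedded prime of a quotient by a regular sequence. -/
theorem exists_embedded (rs : List B) (hreg : IsWeaklyRegular N rs) (P : Ideal B) [P.IsPrime]
    (hmem : ∀ r ∈ rs, r ∈ P) (hd : dpAt P N = (rs.length : ℕ))
    (hs : ((rs.length : ℕ) : WithBot ℕ∞) < sdAt P N) :
    ∃ q, q ∈ associatedPrimes B (N ⧸ Ideal.ofList rs • (⊤ : Submodule B N)) ∧ q < P ∧
      P ∈ associatedPrimes B (N ⧸ Ideal.ofList rs • (⊤ : Submodule B N)) := by
  let S := Localization.AtPrime P
  let L := LocalizedModule P.primeCompl N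
  let f := LocalizedModule.mkLinearMap P.primeCompl N
  let I := Ideal.ofList rs
  haveI := module_finite_localizedModule P N
  haveI : IsNoetherianRing S := IsLocalization.isNoetherianRing P.primeCompl _ inferInstance
  haveI : Nontrivial L := by
    by_contra h
    rw [not_nontrivial_iff_subsingleton] at h
    rw [sdAt, Module.supportDim_eq_bot_of_subsingleton] at hs
    exact not_lt_bot hs
  have hPs : (⟨P, inferInstance⟩ : PrimeSpectrum B) ∈ Module.support B N := Module.mem_support_iff.mpr inferInstance
  have hreg' : IsRegular L (rs.map (algebraMap B S)) :=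
    ⟨hreg.of_isLocalizedModule S P.primeCompl f, map_ne_top rs hmem⟩
  let J := Ideal.ofList (rs.map (algebraMap B S))
  have hloc : (I • (⊤ : Submodule B N)).localized' S P.primeCompl f = J • (⊤ : Submodule S L) := by
    rw [Submodule.localized'_smul, Ideal.localized'_eq_map, Submodule.localized'_top, Ideal.map_ofList]
  let Lb := L ⧸ J • (⊤ : Submodule S L)
  let g : (N ⧸ I • (⊤ : Submodule B N)) →ₗ[B] Lb :=
    ((Submodule.quotEquivOfEq _ _ hloc).restrictScalars B).toLinearMap ∘ₗ
      Submodule.toLocalizedQuotient' S P.primeCompl f (I • ⊤)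
  haveI : IsLocalizedModule P.primeCompl g := IsLocalizedModule.of_linearEquiv _ _ _
  have hmem' : ∀ r ∈ rs.map (algebraMap B S), r ∈ maximalIdeal S := fun r hr => by
    obtain ⟨a, ha, rfl⟩ := List.mem_map.mp hr
    exact (IsLocalization.AtPrime.to_map_mem_maximal_iff _ P _).mpr (hmem a ha)
  have hm : maximalIdeal S • (⊤ : Submodule S L) ≠ ⊤ := H4Depth.maximalIdeal_smul_top_ne_top
  have hadd := Module.supportDim_add_length_eq_supportDim_of_isRegular _ hreg'
  rw [List.length_map] at hadd
  have hpos : ¬ Module.supportDim S Lb ≤ 0 := fun h => by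
    refine (lt_irrefl _) (hs.trans_le ?_)
    rw [sdAt, ← hadd]
    exact (add_le_add h le_rfl).trans (zero_add _).le
  haveI : Nontrivial Lb := by
    by_contra h
    rw [not_nontrivial_iff_subsingleton] at h
    exact hpos (by rw [Module.supportDim_eq_bot_of_subsingleton]; exact bot_le)
  -- `P` is associated
  have h0 : idealDepth (maximalIdeal S) Lb = 0 := by
    have h1 := H4Depth.idealDepth_quotient_ofList_add_length hm _ hreg'.1 hmem'
    have h2 : idealDepth (maximalIdeal S) L = (rs.length : ℕ∞) := by
      rw [dpAt, ← WithBot.coe_natCast] at hd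
      exact WithBot.coe_injective hd
    rw [h2, List.length_map] at h1
    exact WithTop.add_right_cancel (ENat.natCast_ne_top rs.length) (h1.trans (zero_add _).symm)
  obtain ⟨Q, hQ, hmQ⟩ := (H4Depth.idealDepth_eq_zero_iff_exists_associatedPrime
    H4Depth.maximalIdeal_smul_top_ne_top).mp h0
  have hQm : Q = maximalIdeal S := ((maximalIdeal.isMaximal S).eq_of_le hQ.isPrime.ne_top hmQ).symm
  have hass := Module.associatedPrimes.preimage_comap_associatedPrimes_eq_associatedPrimes_of_isLocalizedModule
    P.primeCompl S g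
  have hP : P ∈ associatedPrimes B (N ⧸ I • (⊤ : Submodule B N)) := by
    have h1 := hQm ▸ hQ
    rw [← hass, Set.mem_preimage] at h1
    have h2 : (maximalIdeal S).comap (algebraMap B S) = P := Localization.AtPrime.under_maximalIdeal
    rwa [h2] at h1
  -- a smaller one
  have hne : ∃ x ∈ Module.support S Lb, x.asIdeal ≠ maximalIdeal S := by
    by_contra h
    push Not at h
    refine hpos (le_of_not_gt fun hlt => ?_)
    obtain ⟨x, y, hxy⟩ := Order.one_le_krullDim_iff.mp (Order.succ_le_of_lt hlt)
    exact hxy.ne (Subtype.ext (PrimeSpectrum.ext ((h _ x.2).trans (h _ y.2).symm)))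
  obtain ⟨x, hx, hxne⟩ := hne
  rw [Module.support_eq_zeroLocus, PrimeSpectrum.mem_zeroLocus, SetLike.coe_subset_coe] at hx
  obtain ⟨Q', hQ', hQ'x⟩ := Ideal.exists_minimalPrimes_le hx
  have hQ'ass := Module.associatedPrimes.minimalPrimes_annihilator_subset_associatedPrimes S Lb hQ'
  rw [← hass, Set.mem_preimage] at hQ'ass
  refine ⟨_, hQ'ass, lt_of_le_of_ne ?_ fun h => hxne ?_, hP⟩
  · exact (Ideal.comap_mono (le_maximalIdeal hQ'.isPrime.ne_top)).trans
      (Localization.AtPrime.under_maximalIdeal (I := P)).le
  · refine le_antisymm (le_maximalIdeal x.isPrime.ne_top) (le_trans ?_ hQ'x)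
    rw [← Localization.AtPrime.map_eq_maximalIdeal, Ideal.map_le_iff_le_comap]
    exact h.ge

/-- Regularity at `p` spreads to a basic open set. -/
theorem exists_isWeaklyRegular_away (p : Ideal A) [p.IsPrime] (rs : List A)
    (h : IsWeaklyRegular (LocalizedModule p.primeCompl M) rs) :
    ∃ g ∉ p, IsWeaklyRegular (LocalizedModule (Submonoid.powers g) M)
      (rs.map (algebraMap A (Localization.Away g))) := by
  classical
  have hi : ∀ i : Fin rs.length, ∃ f ∉ p, ∀ m : M, rs[i.1] • m ∈ Ideal.ofList (rs.take i.1) • (⊤ : Submodule A M) →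
      f • m ∈ Ideal.ofList (rs.take i.1) • (⊤ : Submodule A M) := fun i => by
    refine H4Depth.exists_smul_mem_colon p _ _ fun m hm => ?_
    have h1 := ((isWeaklyRegular_iff _ rs).1 h) i.1 i.2
    rw [isSMulRegular_quotient_iff_mem_of_smul_mem] at h1
    have h2 := h1 (LocalizedModule.mkLinearMap p.primeCompl M m) (by
      rw [← map_smul]
      have := Submodule.mem_map_of_mem (f := LocalizedModule.mkLinearMap p.primeCompl M) hm
      rw [Submodule.map_smul''] at this
      exact Submodule.smul_mono le_rfl le_top this)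
    exact H4Depth.exists_smul_mem_of_map_mem_smul_top p.primeCompl (LocalizedModule.mkLinearMap p.primeCompl M) _ h2
  choose f hf hfm using hi
  refine ⟨∏ i, f i, fun hp => ?_, ?_⟩
  · obtain ⟨i, -, hip⟩ := (Ideal.IsPrime.prod_mem_iff).1 hp
    exact hf i hip
  set F := ∏ i, f i with hF
  let Mg := LocalizedModule (Submonoid.powers F) M
  let φ := LocalizedModule.mkLinearMap (Submonoid.powers F) M
  rw [isWeaklyRegular_map_algebraMap_iff, isWeaklyRegular_iff]
  intro i hi'
  rw [isSMulRegular_quotient_iff_mem_of_smul_mem]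
  intro z hz
  set J := Ideal.ofList (rs.take i) with hJ
  have hres : (J.map (algebraMap A (Localization.Away F)) • (⊤ : Submodule (Localization.Away F) Mg)).restrictScalars A
      = J • (⊤ : Submodule A Mg) := by
    rw [Ideal.smul_restrictScalars, Submodule.restrictScalars_top]
  obtain ⟨⟨m, s⟩, rfl⟩ := IsLocalizedModule.mk'_surjective (Submonoid.powers F) φ z
  simp only [Function.uncurry_apply_pair] at hz ⊢
  have h1 : φ (rs[i] • m) ∈ J • (⊤ : Submodule A Mg) := by
    have h2 := Submodule.smul_mem _ (s : A) hz
    rwa [smul_comm, ← Submonoid.smul_def, IsLocalizedModule.mk'_cancel', ← map_smul] at h2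
  obtain ⟨c, hc, hct⟩ := H4Depth.exists_smul_mem_of_map_mem_smul_top (Submonoid.powers F) φ _ h1
  rw [smul_comm] at hct
  have h3 : F • c • m ∈ J • (⊤ : Submodule A M) := by
    rw [hF, ← Finset.prod_erase_mul Finset.univ f (Finset.mem_univ ⟨i, hi'⟩), mul_smul]
    exact Submodule.smul_mem _ _ (hfm ⟨i, hi'⟩ _ hct)
  have h4 := Submodule.mem_map_of_mem (f := φ) h3
  rw [Submodule.map_smul'', smul_smul] at h4
  replace h4 : φ ((F * c) • m) ∈ J • (⊤ : Submodule A Mg) := Submodule.smul_mono le_rfl le_top h4
  rw [← hres, Submodule.restrictScalars_mem] at h4 ⊢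
  have hu : F * c ∈ Submonoid.powers F := mul_mem (Submonoid.mem_powers F) hc
  have h5 := Submodule.smul_mem _ (IsLocalization.mk' (Localization.Away F) (1 : A) (⟨F * c, hu⟩ * s)) h4
  convert h5 using 1
  rw [← IsLocalizedModule.mk'_one (Submonoid.powers F) φ, IsLocalizedModule.mk'_smul_mk', one_smul,
    mul_one, IsLocalizedModule.mk'_eq_mk'_iff]
  exact ⟨1, by simp only [one_smul, Submonoid.smul_def, Submonoid.coe_mul, smul_smul]; ring_nf⟩

/-- `(S_k)` is the absence of embedded primes in quotients by short regular sequences. -/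
theorem hasSk_iff (k : ℕ) :
    LocCoh.HasSk k A M ↔
      ∀ (g : A) (rs : List (Localization.Away g)), rs.length < k →
        IsWeaklyRegular (LocalizedModule (Submonoid.powers g) M) rs →
        ∀ p ∈ associatedPrimes (Localization.Away g)
            (LocalizedModule (Submonoid.powers g) M ⧸
              (Ideal.ofList rs • (⊤ : Submodule (Localization.Away g) (LocalizedModule (Submonoid.powers g) M)))),
          ∀ q ∈ associatedPrimes (Localization.Away g)
            (LocalizedModule (Submonoid.powers g) M ⧸
              (Ideal.ofList rs • (⊤ : Submodule (Localization.Away g) (LocalizedModule (Submonoid.powers g) M)))),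
            p ≤ q → p = q := by
  constructor
  · intro h g rs hlen hreg p hp q hq hpq
    by_contra hne
    haveI := hq.isPrime
    haveI : IsNoetherianRing (Localization.Away g) := IsLocalization.isNoetherianRing (Submonoid.powers g) _ inferInstance
    haveI : Module.Finite (Localization.Away g) (LocalizedModule (Submonoid.powers g) M) :=
      Module.Finite.of_isLocalizedModule (Submonoid.powers g) (LocalizedModule.mkLinearMap (Submonoid.powers g) M)
    obtain ⟨hd, hs⟩ := of_embedded rs hreg hp hq (lt_of_le_of_ne hpq hne)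
    obtain ⟨hd', hs'⟩ := dpAt_sdAt_localizedModule (M := M) (Submonoid.powers g) q
    have hk : min (k : WithBot ℕ∞) (sdAt (q.under A) M) ≤ dpAt (q.under A) M := h (q.under A)
    rw [hd'] at hd
    rw [hs'] at hs
    rw [hd] at hk
    have h2 : ((rs.length + 1 : ℕ) : WithBot ℕ∞) ≤ (rs.length : ℕ) :=
      (le_min (by exact_mod_cast hlen) hs).trans hk
    have h3 : rs.length + 1 ≤ rs.length := by exact_mod_cast h2
    omega
  · intro h p hp
    by_contra hcon
    change ¬ min (k : WithBot ℕ∞) (sdAt p M) ≤ dpAt p M at hcon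
    obtain ⟨d, hd⟩ : ∃ d : ℕ, (d : ℕ∞) = depth (Localization.AtPrime p) (LocalizedModule p.primeCompl M) := by
      refine ENat.ne_top_iff_exists.mp fun htop => hcon ((min_le_left _ _).trans ?_)
      rw [dpAt, htop, ← WithBot.coe_natCast]
      exact WithBot.coe_le_coe.mpr le_top
    have hdp : dpAt p M = (d : ℕ) := by rw [dpAt, ← hd]; rfl
    rw [not_le, lt_min_iff, hdp] at hcon
    have hdk : d < k := by exact_mod_cast hcon.1
    haveI : IsNoetherianRing (Localization.AtPrime p) := IsLocalization.isNoetherianRing p.primeCompl _ inferInstance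
    haveI := module_finite_localizedModule p M
    have hne : maximalIdeal (Localization.AtPrime p) •
        (⊤ : Submodule (Localization.AtPrime p) (LocalizedModule p.primeCompl M)) ≠ ⊤ := fun e => by
      rw [LocCoh.depth, H4Depth.idealDepth_eq_top e] at hd
      exact ENat.natCast_ne_top d hd
    obtain ⟨xs, hlen, hxmem, hxreg⟩ := H4Depth.exists_isWeaklyRegular_of_le_idealDepth hne hd.le
    rw [← Localization.AtPrime.map_eq_maximalIdeal] at hxmem
    obtain ⟨ys, hlen', hys, hregy⟩ := H4Depth.exists_lift_regular p p xs hxmem hxreg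
    obtain ⟨g, hg, hregg⟩ := exists_isWeaklyRegular_away p ys hregy
    haveI : IsNoetherianRing (Localization.Away g) := IsLocalization.isNoetherianRing (Submonoid.powers g) _ inferInstance
    haveI : Module.Finite (Localization.Away g) (LocalizedModule (Submonoid.powers g) M) :=
      Module.Finite.of_isLocalizedModule (Submonoid.powers g) (LocalizedModule.mkLinearMap (Submonoid.powers g) M)
    have hdisj : Disjoint (Submonoid.powers g : Set A) p := Set.disjoint_left.mpr fun x hx hx' => by
      obtain ⟨n, rfl⟩ := hx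
      exact hg (hp.mem_of_pow_mem n hx')
    haveI := IsLocalization.isPrime_of_isPrime_disjoint (Submonoid.powers g) (Localization.Away g) p hp hdisj
    let P := p.map (algebraMap A (Localization.Away g))
    have hP : P.under A = p := IsLocalization.under_map_of_isPrime_disjoint (Submonoid.powers g) _ hp hdisj
    obtain ⟨hd', hs'⟩ := dpAt_sdAt_localizedModule (M := M) (Submonoid.powers g) P
    rw [(dpAt_congr M hP).1] at hd'
    rw [(dpAt_congr M hP).2] at hs'
    set rs := ys.map (algebraMap A (Localization.Away g)) with hrs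
    have hl : rs.length = d := by simp [rs, hlen', hlen]
    obtain ⟨q, hq, hqP, hPa⟩ := exists_embedded rs hregg P
      (fun r hr => by obtain ⟨y, hy, rfl⟩ := List.mem_map.mp hr; exact Ideal.mem_map_of_mem _ (hys y hy))
      (by rw [hd', hdp, hl]) (by rw [hs', hl]; exact hcon.2)
    exact hqP.ne (h g rs (hl ▸ hdk) hregg q hq P hPa hqP.le)

end Groth.Agent.H05EGA4.SkNoEmbedded
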