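import Groth.Agent.H05EGA4.LeftInv

/-! Formal smoothness of localisations of a quotient of a formally smooth algebra. -/

set_option autoImplicit false
set_option linter.style.haveILetI false

open TensorProduct

universe u

namespace Groth.Agent.H05EGA4.SmoothQuot

/-- Left invertibility after localisation, in terms of kernel and cokernel. -/
theorem leftInverse_localized_iff {C : Type u} [CommRing C] (S : Submonoid C) {M N Q : Type u}
    [AddCommGroup M] [Module C M] [AddCommGroup N] [Module C N] [Module.Projective C N]
    [AddCommGroup Q] [Module C Q] (u : M →ₗ[C] N) (t : N →ₗ[C] Q) (ht : Function.Surjective t)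
    (hex : Function.Exact u t) :
    (∃ W : LocalizedModule S N →ₗ[C] LocalizedModule S M,
        W ∘ₗ (LocalizedModule.map S u).restrictScalars C = LinearMap.id) ↔
      (∀ m, u m = 0 → ∃ s ∈ S, s • m = 0) ∧ Module.Projective (Localization S) (LocalizedModule S Q) := by
  let U := LocalizedModule.map S u
  let T := LocalizedModule.map S t
  have hexS : Function.Exact U T := LocalizedModule.map_exact S u t hex
  have hT : Function.Surjective T := LocalizedModule.map_surjective S t ht
  have hinj : Function.Injective U ↔ ∀ m, u m = 0 → ∃ s ∈ S, s • m = 0 := by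
    constructor
    · intro h m hm
      have : LocalizedModule.mk m (1 : S) = 0 := h (by
        rw [map_zero, LocalizedModule.map_mk, hm, LocalizedModule.zero_mk])
      rw [← LocalizedModule.mkLinearMap_apply, IsLocalizedModule.eq_zero_iff S] at this
      obtain ⟨s, hs⟩ := this
      exact ⟨s, s.2, hs⟩
    · intro h
      rw [injective_iff_map_eq_zero]
      intro x hx
      induction x using LocalizedModule.induction_on with
      | h m s =>
        rw [LocalizedModule.map_mk, IsLocalizedModule.mk_eq_mk', IsLocalizedModule.mk'_eq_zero',] at hx
        obtain ⟨r, hr⟩ := hx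
        obtain ⟨r', hr', hr'm⟩ := h ((r : C) • m) (by rw [map_smul]; exact hr)
        rw [IsLocalizedModule.mk_eq_mk', IsLocalizedModule.mk'_eq_zero']
        exact ⟨⟨r', hr'⟩ * r, by rw [mul_smul]; exact hr'm⟩
  have key : (∃ l, l ∘ₗ U = LinearMap.id) ↔
      Function.Injective U ∧ Module.Projective (Localization S) (LocalizedModule S Q) := by
    rw [Module.Projective.iff_split_of_projective T hT]
    have h := (hexS.split_tfae').out 0 1
    exact ⟨fun h' => h.2 ⟨hT, h'⟩, fun h' => (h.1 h').2⟩
  rw [← hinj, ← key]
  constructor
  · rintro ⟨W, hW⟩
    exact ⟨W.extendScalarsOfIsLocalization S (Localization S), LinearMap.ext fun x => LinearMap.congr_fun hW x⟩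
  · rintro ⟨l, hl⟩
    exact ⟨l.restrictScalars C, LinearMap.ext fun x => LinearMap.congr_fun hl x⟩

variable (A B C : Type u) [CommRing A] [CommRing B] [CommRing C] [Algebra A B] [Algebra B C]
  [Algebra A C] [IsScalarTower A B C] [Algebra.FormallySmooth A B]

/-- The extension `B → C`. -/
noncomputable def ext (hsurj : Function.Surjective (algebraMap B C)) : Algebra.Extension.{u} A C :=
  ⟨B, Function.surjInv hsurj, Function.surjInv_eq hsurj⟩

variable {A B C} (hsurj : Function.Surjective (algebraMap B C))

instance : Algebra.FormallySmooth A (ext A B C hsurj).Ring := inferInstanceAs (Algebra.FormallySmooth A B)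

theorem finite_cotangent [h : Module.Finite B (RingHom.ker (algebraMap B C)).Cotangent] :
    Module.Finite C (ext A B C hsurj).Cotangent := by
  let P := ext A B C hsurj
  haveI : Module.Finite P.Ring P.ker.Cotangent := h
  let e : P.ker.Cotangent ≃ₗ[P.Ring] P.Cotangent :=
    { __ := AddEquiv.refl _, map_smul' r m := by ext1; simp; rfl }
  haveI : Module.Finite P.Ring P.Cotangent := Module.Finite.equiv e
  exact Module.Finite.of_restrictScalars_finite P.Ring C P.Cotangent

theorem formallySmooth_localization_iff' (S : Submonoid C) :
    Algebra.FormallySmooth A (Localization S) ↔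
      ∃ W : LocalizedModule S (ext A B C hsurj).CotangentSpace →ₗ[C]
          LocalizedModule S (ext A B C hsurj).Cotangent,
        W ∘ₗ (LocalizedModule.map S (ext A B C hsurj).cotangentComplex).restrictScalars C =
          LinearMap.id := by
  let P := ext A B C hsurj
  haveI : Module.Projective C P.CotangentSpace := inferInstance
  rw [leftInverse_localized_iff S P.cotangentComplex P.toKaehler P.toKaehler_surjective
    P.exact_cotangentComplex_toKaehler, Algebra.formallySmooth_iff, and_comm]
  refine and_congr ?_ ?_
  · rw [← (IsLocalizedModule.iso S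
        (Algebra.H1Cotangent.map A A C (Localization S))).subsingleton_congr,
      LocalizedModule.subsingleton_iff]
    let e := P.equivH1CotangentOfFormallySmooth
    constructor
    · intro h m hm
      obtain ⟨s, hs, hsm⟩ := h (e ⟨m, hm⟩)
      rw [← map_smul, e.map_eq_zero_iff] at hsm
      exact ⟨s, hs, congrArg Subtype.val hsm⟩
    · intro h m
      obtain ⟨s, hs, hsm⟩ := h (e.symm m).val (e.symm m).2
      refine ⟨s, hs, e.symm.injective ?_⟩
      rw [map_smul, map_zero]
      exact Subtype.ext hsm
  · have e := (IsLocalizedModule.iso S
      (KaehlerDifferential.map A A C (Localization S))).extendScalarsOfIsLocalization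
        S (Localization S)
    exact ⟨fun H => H.of_equiv' e.symm, fun H => H.of_equiv' e⟩

theorem formallySmooth_localization_iff (p : Ideal C) [p.IsPrime] :
    Algebra.FormallySmooth A (Localization.AtPrime p) ↔
      ∃ W : LocalizedModule p.primeCompl (ext A B C hsurj).CotangentSpace →ₗ[C]
          LocalizedModule p.primeCompl (ext A B C hsurj).Cotangent,
        W ∘ₗ (LocalizedModule.map p.primeCompl (ext A B C hsurj).cotangentComplex).restrictScalars C =
          LinearMap.id :=
  formallySmooth_localization_iff' hsurj p.primeCompl

theorem formallySmooth_iff :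
    Algebra.FormallySmooth A C ↔
      ∃ W : (ext A B C hsurj).CotangentSpace →ₗ[C] (ext A B C hsurj).Cotangent,
        W ∘ₗ (ext A B C hsurj).cotangentComplex = LinearMap.id :=
  (ext A B C hsurj).formallySmooth_iff_split_injection

end Groth.Agent.H05EGA4.SmoothQuot
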