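import Groth.Agent.H05EGA4.Equidim
import Mathlib.RingTheory.Ideal.KrullsHeightTheorem

/-! Lifting systems of parameters from a Cohen-Macaulay localization. -/

set_option autoImplicit false
set_option linter.style.haveILetI false

universe u

open IsLocalRing

namespace Groth.Agent.H05EGA4.SopLift

theorem exists_coset_avoiding {R : Type u} [CommRing R] (T : Finset (Ideal R)) (hT : ∀ q ∈ T, q.IsPrime) (b : R) (J : Ideal R)
    (h : ∀ q ∈ T, b ∈ q → ¬ J ≤ q) : ∃ y ∈ J, ∀ q ∈ T, b + y ∉ q := by
  classical
  let M := T.filter fun q => Maximal (· ∈ T) q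
  let T1 := M.filter fun q => b ∈ q
  let T2 := M.filter fun q => b ∉ q
  let K := J * ∏ q ∈ T2, q
  have hK : ¬ (K : Set R) ⊆ ⋃ q ∈ (T1 : Set (Ideal R)), q := by
    rw [Ideal.subset_union_prime ⊥ ⊥ fun q hq _ _ => hT q (Finset.mem_filter.1 (Finset.mem_filter.1 hq).1).1]
    rintro ⟨q, hq, hle⟩
    obtain ⟨hqM, hbq⟩ := Finset.mem_filter.1 hq
    obtain ⟨hqT, hmax⟩ := Finset.mem_filter.1 hqM
    have := hT q hqT
    rcases (Ideal.IsPrime.mul_le this).1 hle with hJ | hP
    · exact h q hqT hbq hJ
    · obtain ⟨q', hq', hle'⟩ := (Ideal.IsPrime.prod_le this).1 hP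
      obtain ⟨hq'M, hbq'⟩ := Finset.mem_filter.1 hq'
      exact hbq' ((Finset.mem_filter.1 hq'M).2.2 hqT hle' hbq)
  obtain ⟨y, hyK, hy⟩ := Set.not_subset.1 hK
  refine ⟨y, (Ideal.mul_le_inf hyK).1, fun q hq hmem => ?_⟩
  obtain ⟨q₀, hle, hq₀⟩ := T.exists_le_maximal hq
  have hq₀M : q₀ ∈ M := Finset.mem_filter.2 ⟨hq₀.1, hq₀⟩
  have hmem₀ := hle hmem
  by_cases hb : b ∈ q₀
  · refine hy (Set.mem_biUnion (Finset.mem_coe.2 (Finset.mem_filter.2 ⟨hq₀M, hb⟩) : q₀ ∈ (T1 : Set (Ideal R))) ?_)
    exact (q₀.add_mem_iff_right hb).1 hmem₀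
  · refine hb ((q₀.add_mem_iff_left ?_).1 hmem₀)
    exact (Ideal.le_of_dvd (Finset.dvd_prod_of_mem _ (Finset.mem_filter.2 ⟨hq₀M, hb⟩))) ((Ideal.mul_le_inf hyK).2)

theorem dim_quotient_succ_le {A : Type u} [CommRing A] [IsNoetherianRing A] [IsLocalRing A] (I : Ideal A) (hI : I ≠ ⊤) {x : A}
    (h : ∀ q ∈ I.minimalPrimes, ringKrullDim (A ⧸ q) = ringKrullDim (A ⧸ I) → x ∉ q) :
    ringKrullDim (A ⧸ (I ⊔ Ideal.span {x})) + 1 ≤ ringKrullDim (A ⧸ I) := by
  haveI : Nontrivial (A ⧸ I) := Ideal.Quotient.nontrivial_iff.2 hI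
  obtain ⟨d, hd⟩ : ∃ d : ℕ, ringKrullDim (A ⧸ I) = d := by
    haveI : IsLocalRing (A ⧸ I) := IsLocalRing.of_surjective' (Ideal.Quotient.mk I) Ideal.Quotient.mk_surjective
    haveI : IsNoetherianRing (A ⧸ I) := inferInstance
    obtain ⟨d, hd⟩ := WithBot.ne_bot_iff_exists.1 (ringKrullDim_ne_bot (R := A ⧸ I))
    refine ⟨d.toNat, ?_⟩
    have : d ≠ ⊤ := fun h => by
      have h1 := ringKrullDim_lt_top (R := A ⧸ I)
      rw [← hd, h] at h1
      exact absurd h1 (lt_irrefl _)
    rw [← hd, ← ENat.coe_toNat this]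
    rfl
  suffices hP : ∀ P ∈ (I ⊔ Ideal.span {x}).minimalPrimes, ringKrullDim (A ⧸ P) + 1 ≤ (d : WithBot ℕ∞) by
    rw [hd]
    by_cases htop : I ⊔ Ideal.span {x} = ⊤
    · haveI := Ideal.Quotient.subsingleton_iff.2 htop
      rw [ringKrullDim_eq_bot_of_subsingleton]
      simp
    obtain ⟨P₀, hP₀⟩ := Ideal.nonempty_minimalPrimes htop
    cases d with
    | zero =>
      haveI := hP₀.1.1
      obtain ⟨e, he⟩ := H05EGA4.exists_nat_dim_quotient_eq P₀
      have := hP P₀ hP₀
      rw [he] at this
      norm_cast at this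
    | succ d =>
      have h1 : ringKrullDim (A ⧸ (I ⊔ Ideal.span {x})) ≤ (d : WithBot ℕ∞) :=
        H05EGA4.ringKrullDim_quotient_le_of_minimalPrimes _ fun P hP' => by
          haveI := hP'.1.1
          obtain ⟨e, he⟩ := H05EGA4.exists_nat_dim_quotient_eq P
          have := hP P hP'
          rw [he] at this ⊢
          norm_cast at this ⊢
          omega
      calc ringKrullDim (A ⧸ (I ⊔ Ideal.span {x})) + 1 ≤ (d : WithBot ℕ∞) + 1 := by gcongr
        _ = _ := by norm_cast
  intro P hP
  haveI := hP.1.1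
  obtain ⟨q, hq, hqP⟩ := Ideal.exists_minimalPrimes_le (le_sup_left.trans hP.1.2 : I ≤ P)
  haveI := hq.1.1
  obtain ⟨e, he⟩ := H05EGA4.exists_nat_dim_quotient_eq q
  have hle : ringKrullDim (A ⧸ q) ≤ d := hd ▸ H05EGA4.ringKrullDim_quotient_mono hq.1.2
  rw [he] at hle
  rcases eq_or_ne e d with rfl | hne
  · have hxq := h q hq (he.trans hd.symm)
    have hne0 : Ideal.Quotient.mk q x ∈ nonZeroDivisors (A ⧸ q) :=
      mem_nonZeroDivisors_of_ne_zero (by rwa [ne_eq, Ideal.Quotient.eq_zero_iff_mem])
    have h1 := ringKrullDim_quotient_succ_le_of_nonZeroDivisor hne0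
    rw [he] at h1
    refine le_trans ?_ h1
    gcongr
    rw [← H05EGA4.dimQuotQuot hqP]
    refine H05EGA4.ringKrullDim_quotient_mono ?_
    rw [Ideal.span_singleton_le_iff_mem]
    exact Ideal.mem_map_of_mem _ (hP.1.2 (le_sup_right (a := I) (Ideal.mem_span_singleton_self x)))
  · obtain ⟨f, hf⟩ := H05EGA4.exists_nat_dim_quotient_eq P
    have h1 := H05EGA4.ringKrullDim_quotient_mono hqP
    rw [hf, he] at h1
    rw [hf]
    norm_cast at h1 hle ⊢
    omega

theorem exists_lift {A : Type u} [CommRing A] [IsNoetherianRing A] [IsLocalRing A] (p : Ideal A) [p.IsPrime]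
    [LocCoh.IsCohenMacaulayLocalRing (Localization.AtPrime p)] (s : ℕ)
    (hs : ringKrullDim (Localization.AtPrime p) = s) (t : Fin s → Localization.AtPrime p)
    (ht : ∀ i, t i ∈ maximalIdeal (Localization.AtPrime p))
    (hsop : ringKrullDim (Localization.AtPrime p ⧸ Ideal.span (Set.range t)) = 0) (k : ℕ) (hk : k ≤ s) :
    ∃ x a : Fin s → A, (∀ i : Fin s, (i : ℕ) < k → x i ∈ p ∧ a i ∉ p ∧
        algebraMap A (Localization.AtPrime p) (x i) - algebraMap A (Localization.AtPrime p) (a i) * t i ∈
          Ideal.span (t '' {j : Fin s | j < i})) ∧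
      ringKrullDim (A ⧸ Ideal.span (x '' {j : Fin s | (j : ℕ) < k})) + (k : WithBot ℕ∞) = ringKrullDim A ∧
      (Ideal.span (x '' {j : Fin s | (j : ℕ) < k})).map (algebraMap A (Localization.AtPrime p)) =
        Ideal.span (t '' {j : Fin s | (j : ℕ) < k}) := by
  classical
  let R := Localization.AtPrime p
  let f := algebraMap A R
  induction k with
  | zero =>
    have h0 : {j : Fin s | (j : ℕ) < 0} = ∅ := Set.eq_empty_iff_forall_notMem.2 fun j => Nat.not_lt_zero _
    refine ⟨fun _ => 0, fun _ => 1, fun i hi => absurd hi (Nat.not_lt_zero _), ?_, ?_⟩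
    · rw [h0, Set.image_empty, Ideal.span_empty, Nat.cast_zero, add_zero]
      exact ringKrullDim_eq_of_ringEquiv (RingEquiv.quotientBot A)
    · rw [h0, Set.image_empty, Set.image_empty, Ideal.span_empty, Ideal.span_empty, Ideal.map_bot]
  | succ k ih =>
    obtain ⟨x, a, hxa, hdim, hmap⟩ := ih (Nat.le_of_succ_le hk)
    let i : Fin s := ⟨k, hk⟩
    let S := {j : Fin s | (j : ℕ) < k}
    let I := Ideal.span (x '' S)
    let T := Ideal.span (t '' S)
    have hxm : ∀ j ∈ S, x j ∈ maximalIdeal A := fun j hj => le_maximalIdeal (Ideal.IsPrime.ne_top') (hxa j hj).1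
    have hIp : I ≤ p := Ideal.span_le.2 (Set.image_subset_iff.2 fun j hj => (hxa j hj).1)
    obtain ⟨⟨b, c⟩, hbc⟩ := IsLocalization.surj p.primeCompl (t i)
    have hTm : ∀ S' : Set (Fin s), Ideal.span (t '' S') ≤ maximalIdeal R := fun S' =>
      Ideal.span_le.2 (Set.image_subset_iff.2 fun j _ => ht j)
    have hbp : b ∈ p := by
      rw [← IsLocalization.AtPrime.to_map_mem_maximal_iff R p, ← hbc]
      exact Ideal.mul_mem_right _ _ (ht i)
    let J := T.comap f
    have hJp : J ≤ p := fun y hy => by
      rw [← IsLocalization.AtPrime.to_map_mem_maximal_iff R p]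
      exact hTm _ hy
    have hav : ∀ q ∈ I.minimalPrimes, b ∈ q → ¬ J ≤ q := by
      intro q hq hbq hJq
      haveI := hq.1.1
      by_cases hqp : q ≤ p
      · -- in the Cohen-Macaulay ring, `t i` avoids the minimal primes of `T`
        have hdisj : Disjoint (p.primeCompl : Set A) q := Set.disjoint_left.2 fun y hy hyq => hy (hqp hyq)
        haveI hQ : (q.map f).IsPrime := IsLocalization.isPrime_of_isPrime_disjoint p.primeCompl R q inferInstance hdisj
        have hQc : (q.map f).comap f = q := IsLocalization.comap_map_of_isPrime_disjoint p.primeCompl R inferInstance hdisj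
        have hQmin : q.map f ∈ T.minimalPrimes := by
          rw [show T = I.map f from hmap.symm]
          refine ⟨⟨hQ, Ideal.map_mono hq.1.2⟩, fun P hP hPq => ?_⟩
          haveI := hP.1
          rw [← IsLocalization.map_comap p.primeCompl R P]
          refine Ideal.map_mono (hq.2 ⟨P.comap_isPrime f, Ideal.map_le_iff_le_comap.1 hP.2⟩ ?_)
          exact hQc ▸ Ideal.comap_mono hPq
        have hti : t i ∈ q.map f := by
          have : f b ∈ q.map f := Ideal.mem_map_of_mem f hbq
          rw [← hbc] at this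
          exact (hQ.mem_or_mem this).resolve_right fun hh => hQ.ne_top
            (Ideal.eq_top_of_isUnit_mem _ hh (IsLocalization.map_units R c))
        have hht : (q.map f).height ≤ k := by
          refine (Ideal.height_le_card_of_mem_minimalPrimes_span (Set.toFinite _) hQmin).trans ?_
          refine Nat.cast_le.2 ((Set.ncard_image_le (Set.toFinite S)).trans ?_)
          rw [show k = (Finset.range k).card from (Finset.card_range k).symm, ← Set.ncard_coe_finset]
          exact Set.ncard_le_ncard_of_injOn (fun j : Fin s => (j : ℕ)) (fun j hj => Finset.mem_coe.2 (Finset.mem_range.2 hj))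
            (fun _ _ _ _ hh => Fin.ext hh) (Finset.finite_toSet _)
        have hlow := H05EGA4.height_add_dim_eq_of_isCohenMacaulay R (q.map f)
        -- `R ⧸ Q` has small dimension since it kills `t_1, …, t_{k+1}`
        let S₁ : Finset (Fin s) := Finset.univ.filter fun j => k < (j : ℕ)
        let π := Ideal.Quotient.mk (q.map f)
        haveI : IsLocalRing (R ⧸ q.map f) := IsLocalRing.of_surjective' π Ideal.Quotient.mk_surjective
        have h1 := ringKrullDim_le_ringKrullDim_quotient_add_card (S₁.image fun j => π (t j)) (fun z hz => by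
          obtain ⟨j, -, rfl⟩ := Finset.mem_image.1 hz
          rw [IsLocalRing.ringJacobson_eq_maximalIdeal]
          haveI := IsLocalHom.of_surjective π Ideal.Quotient.mk_surjective
          exact map_nonunit π (t j) (ht j))
        have hle : Ideal.span (Set.range t) ≤ q.map f ⊔ Ideal.span (t '' (S₁ : Set (Fin s))) := by
          rw [Ideal.span_le]
          rintro _ ⟨j, rfl⟩
          rcases lt_trichotomy (j : ℕ) k with hj | hj | hj
          · exact le_sup_left (b := Ideal.span (t '' (S₁ : Set (Fin s)))) (hQmin.1.2 (Ideal.subset_span ⟨j, hj, rfl⟩))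
          · obtain rfl : j = i := Fin.ext hj
            exact le_sup_left (b := Ideal.span (t '' (S₁ : Set (Fin s)))) hti
          · exact le_sup_right (a := q.map f) (Ideal.subset_span ⟨j, Finset.mem_coe.2 (Finset.mem_filter.2 ⟨Finset.mem_univ _, hj⟩), rfl⟩)
        have h2 : ringKrullDim ((R ⧸ q.map f) ⧸ Ideal.span ((S₁.image fun j => π (t j) : Finset (R ⧸ q.map f)) : Set (R ⧸ q.map f))) ≤ 0 := by
          rw [← hsop]
          refine le_trans ?_ (H05EGA4.ringKrullDim_quotient_mono hle)
          have e1 : Ideal.span ((S₁.image fun j => π (t j) : Finset (R ⧸ q.map f)) : Set (R ⧸ q.map f)) =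
              (q.map f ⊔ Ideal.span (t '' (S₁ : Set (Fin s)))).map π := by
            rw [Ideal.map_sup, Ideal.map_quotient_self, bot_sup_eq, Ideal.map_span, Finset.coe_image, Set.image_image]
          rw [e1, H05EGA4.dimQuotQuot le_sup_left]
        have hc1 : (S₁.image fun j => π (t j)).card + (k + 1) ≤ s := by
          have : S₁.card + (k + 1) ≤ s := by
            have hsub : S₁.image (fun j : Fin s => (j : ℕ)) ⊆ Finset.Ico (k + 1) s := fun n hn => by
              obtain ⟨j, hj, rfl⟩ := Finset.mem_image.1 hn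
              exact Finset.mem_Ico.2 ⟨(Finset.mem_filter.1 hj).2, j.2⟩
            have := Finset.card_le_card hsub
            rw [Finset.card_image_of_injective _ Fin.val_injective, Nat.card_Ico] at this
            omega
          exact le_trans (Nat.add_le_add_right Finset.card_image_le _) this
        obtain ⟨e, he⟩ := H05EGA4.exists_nat_dim_quotient_eq (q.map f)
        obtain ⟨g, hg⟩ := H05EGA4.exists_nat_height_eq (q.map f)
        rw [hg] at hht hlow
        rw [he, hs] at hlow
        have h3 : (e : WithBot ℕ∞) ≤ 0 + ((S₁.image fun j => π (t j)).card : WithBot ℕ∞) :=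
          he ▸ h1.trans (add_le_add h2 le_rfl)
        rw [zero_add] at h3
        norm_cast at hht hlow h3
        omega
      · obtain ⟨n, hn⟩ : ∃ n, (q.map (algebraMap A (Localization.AtPrime q))) ^ n ≤ I.map (algebraMap A (Localization.AtPrime q)) := by
          obtain ⟨n, hn⟩ := Ideal.exists_pow_le_of_le_radical_of_fg
            (show q.map (algebraMap A (Localization.AtPrime q)) ≤ (I.map (algebraMap A (Localization.AtPrime q))).radical by
              rw [Localization.AtPrime.map_eq_maximalIdeal, IsLocalization.AtPrime.radical_map_of_mem_minimalPrimes (Localization.AtPrime q) q I hq, Localization.AtPrime.map_eq_maximalIdeal])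
            (Ideal.FG.map (IsNoetherian.noetherian q) _)
          exact ⟨n, hn⟩
        obtain ⟨z, hzq, hzp⟩ := SetLike.not_le_iff_exists.1 hqp
        have := hn (Ideal.pow_mem_pow (Ideal.mem_map_of_mem (algebraMap A (Localization.AtPrime q)) hzq) n)
        rw [← map_pow, IsLocalization.algebraMap_mem_map_algebraMap_iff q.primeCompl] at this
        obtain ⟨m, hm, hmI⟩ := this
        refine hm (hJq ?_)
        show f m ∈ T
        have hu : IsUnit (f (z ^ n)) := IsLocalization.map_units R (⟨z ^ n, fun hh => hzp (Ideal.IsPrime.mem_of_pow_mem inferInstance n hh)⟩ : p.primeCompl)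
        rw [← Ideal.mul_unit_mem_iff_mem _ hu, ← map_mul]
        rw [show T = I.map f from hmap.symm]
        exact Ideal.mem_map_of_mem f hmI
    obtain ⟨y, hyJ, hy⟩ := exists_coset_avoiding (Ideal.finite_minimalPrimes_of_isNoetherianRing A I).toFinset
      (fun q hq => ((Set.Finite.mem_toFinset _).1 hq).1.1) b J fun q hq => hav q ((Set.Finite.mem_toFinset _).1 hq)
    have hxi : f (b + y) - f c * t i ∈ T := by
      rw [map_add, mul_comm (f c), hbc, add_sub_cancel_left]
      exact hyJ
    have hSi : {j : Fin s | j < i} = S := rfl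
    have hS1 : {j : Fin s | (j : ℕ) < k + 1} = insert i S := Set.ext fun j => by
      simp only [Set.mem_setOf_eq, Set.mem_insert_iff, Fin.ext_iff, S, i]
      omega
    let x' := Function.update x i (b + y)
    let a' := Function.update a i (c : A)
    have hne : ∀ j ∈ S, j ≠ i := fun j hj hji => by
      subst hji
      exact lt_irrefl k hj
    have hx'S : x' '' S = x '' S := Set.image_congr fun j hj => Function.update_of_ne (hne j hj) _ _
    have hspan : Ideal.span (x' '' {j : Fin s | (j : ℕ) < k + 1}) = I ⊔ Ideal.span {b + y} := by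
      rw [hS1, Set.image_insert_eq, hx'S, show x' i = b + y from Function.update_self _ _ _, Ideal.span_insert, sup_comm]
    refine ⟨x', a', fun j hj => ?_, ?_, ?_⟩
    · rcases eq_or_ne j i with rfl | hji
      · simp only [x', a', Function.update_self, hSi]
        exact ⟨p.add_mem hbp (hJp hyJ), c.2, hxi⟩
      · simp only [x', a', Function.update_of_ne hji]
        refine hxa j ?_
        rcases Nat.lt_succ_iff_lt_or_eq.1 hj with h | h
        · exact h
        · exact absurd (Fin.ext h) hji
    · refine le_antisymm ?_ ?_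
      · have h1 := dim_quotient_succ_le I (ne_top_of_le_ne_top Ideal.IsPrime.ne_top' hIp) (x := b + y)
          fun q hq _ => hy q ((Set.Finite.mem_toFinset _).2 hq)
        rw [hspan, ← hdim, Nat.cast_succ, show (k : WithBot ℕ∞) + 1 = 1 + k from add_comm _ _, ← add_assoc]
        exact add_le_add h1 le_rfl
      · let F := (Finset.univ.filter fun j : Fin s => (j : ℕ) < k + 1)
        have h1 := ringKrullDim_le_ringKrullDim_quotient_add_card (F.image x') (fun z hz => by
          obtain ⟨j, hj, rfl⟩ := Finset.mem_image.1 hz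
          rw [IsLocalRing.ringJacobson_eq_maximalIdeal]
          refine le_maximalIdeal (Ideal.IsPrime.ne_top' (I := p)) ?_
          rcases eq_or_ne j i with rfl | hji
          · simp only [x', Function.update_self]
            exact p.add_mem hbp (hJp hyJ)
          · simp only [x', Function.update_of_ne hji]
            exact (hxa j ((Nat.lt_succ_iff_lt_or_eq.1 (Finset.mem_filter.1 hj).2).resolve_right fun h => hji (Fin.ext h))).1)
        refine h1.trans (add_le_add ?_ ?_)
        · rw [Finset.coe_image, show (F : Set (Fin s)) = {j : Fin s | (j : ℕ) < k + 1} by ext; simp [F]]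
        · refine Nat.cast_le.2 (Finset.card_image_le.trans ?_)
          have hsub : F.image (fun j : Fin s => (j : ℕ)) ⊆ Finset.range (k + 1) := fun n hn => by
            obtain ⟨j, hj, rfl⟩ := Finset.mem_image.1 hn
            exact Finset.mem_range.2 (Finset.mem_filter.1 hj).2
          have := Finset.card_le_card hsub
          rwa [Finset.card_image_of_injective _ Fin.val_injective, Finset.card_range] at this
    · rw [hspan, Ideal.map_sup, hmap, Ideal.map_span, Set.image_singleton, hS1, Set.image_insert_eq, Ideal.span_insert]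
      show T ⊔ Ideal.span {f (b + y)} = Ideal.span {t i} ⊔ T
      have hu : IsUnit (f c) := IsLocalization.map_units R c
      rw [sup_comm (Ideal.span {t i})]
      refine le_antisymm (sup_le le_sup_left ?_) (sup_le le_sup_left ?_) <;> rw [Ideal.span_singleton_le_iff_mem]
      · rw [← sub_add_cancel (f (b + y)) (f c * t i)]
        exact add_mem (Ideal.mem_sup_left hxi) (Ideal.mem_sup_right (Ideal.mul_mem_left _ _ (Ideal.mem_span_singleton_self _)))
      · rw [← Ideal.unit_mul_mem_iff_mem _ hu, ← sub_sub_cancel (f (b + y)) (f c * t i)]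
        exact sub_mem (Ideal.mem_sup_right (Ideal.mem_span_singleton_self _)) (Ideal.mem_sup_left hxi)

end Groth.Agent.H05EGA4.SopLift
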