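import Groth.Agent.H05EGA4.AdicConormal
import Groth.Agent.H05EGA4.FSFlat
import Groth.Agent.H06QR.SymQuot
import Groth.Agent.H06QR.Graded
import Mathlib.RingTheory.MvPolynomial.Ideal

/-! Adic formal smoothness over a formally smooth quotient: the symmetric algebra criterion. -/

set_option autoImplicit false
set_option linter.style.haveILetI false
set_option maxHeartbeats 1000000

open MvPolynomial Groth.Agent.H06QR

universe u

namespace Groth.Agent.H05EGA4.SymSmooth

variable {A B : Type u} [CommRing A] [CommRing B] [Algebra A B] {J : Ideal B}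


/-- The degree one polynomial of a chosen expansion in the generators. -/
noncomputable def lin (s : J.Cotangent →ₗ[(B ⧸ J)] (J.Cotangent →₀ (B ⧸ J))) : J.Cotangent →ₗ[(B ⧸ J)] (MvPolynomial J.Cotangent (B ⧸ J)) :=
  Finsupp.linearCombination (B ⧸ J) (fun i => (X i : (MvPolynomial J.Cotangent (B ⧸ J)))) ∘ₗ s

theorem isHomogeneous_lin (s : J.Cotangent →ₗ[(B ⧸ J)] (J.Cotangent →₀ (B ⧸ J))) (x : J.Cotangent) : (lin s x).IsHomogeneous 1 := by
  rw [lin, LinearMap.comp_apply, Finsupp.linearCombination_apply, Finsupp.sum]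
  refine IsHomogeneous.sum _ _ _ fun i _ => ?_
  rw [smul_eq_C_mul]
  exact (isHomogeneous_X (B ⧸ J) i).C_mul _

theorem isHomogeneous_eval {ι : Type u} [Fintype ι] (s : J.Cotangent →ₗ[(B ⧸ J)] (J.Cotangent →₀ (B ⧸ J)))
    (t : SymmetricPower B ι J.Cotangent) :
    (H06PP.SymPow.eval ((lin s).restrictScalars B) t).IsHomogeneous (Fintype.card ι) := by
  have ht : t ∈ Submodule.span B (Set.range (SymmetricPower.tprod B (ι := ι) (M := J.Cotangent))) := by
    rw [SymmetricPower.span_tprod_eq_top]; trivial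
  induction ht using Submodule.span_induction with
  | mem y hy =>
    obtain ⟨x, rfl⟩ := hy
    rw [H06PP.SymPow.eval_tprod]
    have := IsHomogeneous.prod Finset.univ (fun i => lin s (x i)) (fun _ => 1)
      fun i _ => isHomogeneous_lin s (x i)
    simpa using this
  | zero => rw [map_zero]; exact isHomogeneous_zero _ _ _
  | add u v _ _ hu hv => rw [map_add]; exact hu.add hv
  | smul b u _ hu =>
    rw [map_smul, ← algebraMap_smul (B ⧸ J) b, smul_eq_C_mul]
    exact hu.C_mul _

theorem mem_pow_of_isHomogeneous {σ R : Type u} [CommRing R] {d : ℕ} {f : MvPolynomial σ R}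
    (hf : f.IsHomogeneous d) : f ∈ idealOfVars σ R ^ d := by
  rw [mem_pow_idealOfVars_iff']
  intro m hm
  exact hf.coeff_eq_zero (by intro h; omega)

theorem eq_zero_of_isHomogeneous {σ R : Type u} [CommRing R] {d : ℕ} {f : MvPolynomial σ R}
    (hf : f.IsHomogeneous d) (h : f ∈ idealOfVars σ R ^ (d + 1)) : f = 0 := by
  ext m
  rw [coeff_zero]
  by_cases hm : m.degree = d
  · exact (mem_pow_idealOfVars_iff' _ _).1 h m (by omega)
  · exact hf.coeff_eq_zero hm

/-- The retraction onto the image of the symmetric algebra. -/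
noncomputable def eps (s : J.Cotangent →ₗ[(B ⧸ J)] (J.Cotangent →₀ (B ⧸ J))) : (MvPolynomial J.Cotangent (B ⧸ J)) →ₐ[(B ⧸ J)] (MvPolynomial J.Cotangent (B ⧸ J)) := aeval fun i => lin s i

theorem eps_lin (s : J.Cotangent →ₗ[(B ⧸ J)] (J.Cotangent →₀ (B ⧸ J)))
    (hs : ∀ x, Finsupp.linearCombination (B ⧸ J) id (s x) = x) (x : J.Cotangent) : eps s (lin s x) = lin s x := by
  conv_rhs => rw [← hs x]
  rw [lin, LinearMap.comp_apply, Finsupp.linearCombination_apply, map_finsuppSum,
    Finsupp.linearCombination_apply, map_finsuppSum]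
  refine Finsupp.sum_congr fun i _ => ?_
  rw [map_smul, eps, aeval_X, map_smul]
  rfl

theorem eps_eps (s : J.Cotangent →ₗ[(B ⧸ J)] (J.Cotangent →₀ (B ⧸ J)))
    (hs : ∀ x, Finsupp.linearCombination (B ⧸ J) id (s x) = x) (f : (MvPolynomial J.Cotangent (B ⧸ J))) : eps s (eps s f) = eps s f :=
  AlgHom.congr_fun (MvPolynomial.algHom_ext (f := (eps s).comp (eps s)) (g := eps s) fun i => by
    rw [AlgHom.comp_apply, show eps s (X i) = lin s i from aeval_X _ _]
    exact eps_lin s hs i) f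

theorem isHomogeneous_eps (s : J.Cotangent →ₗ[(B ⧸ J)] (J.Cotangent →₀ (B ⧸ J))) {d : ℕ} {f : (MvPolynomial J.Cotangent (B ⧸ J))} (hf : f.IsHomogeneous d) :
    (eps s f).IsHomogeneous d := by
  have h := hf.aeval (fun i => lin s i) (n := 1) (isHomogeneous_lin s)
  rw [one_mul] at h
  exact h

theorem homogeneousComponent_eps (s : J.Cotangent →ₗ[(B ⧸ J)] (J.Cotangent →₀ (B ⧸ J))) (d : ℕ) (f : (MvPolynomial J.Cotangent (B ⧸ J))) :
    homogeneousComponent d (eps s f) = eps s (homogeneousComponent d f) := by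
  classical
  induction f using MvPolynomial.induction_on' with
  | monomial m c =>
    rw [homogeneousComponent_of_mem (isHomogeneous_eps s (isHomogeneous_monomial c rfl)),
      homogeneousComponent_of_mem (isHomogeneous_monomial c rfl)]
    split_ifs <;> simp
  | add p q hp hq => rw [map_add, map_add, map_add, map_add, hp, hq]

/-- Homogeneous elements fixed by the retraction come from the symmetric power. -/
theorem exists_eval_eq (s : J.Cotangent →ₗ[(B ⧸ J)] (J.Cotangent →₀ (B ⧸ J))) (ι : Type u) [Fintype ι] {f : (MvPolynomial J.Cotangent (B ⧸ J))}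
    (hf : f.IsHomogeneous (Fintype.card ι)) :
    ∃ t : SymmetricPower B ι J.Cotangent, H06PP.SymPow.eval ((lin s).restrictScalars B) t = eps s f := by
  show eps s f ∈ LinearMap.range (H06PP.SymPow.eval ((lin s).restrictScalars B) (ι := ι))
  rw [f.as_sum, map_sum]
  refine Submodule.sum_mem _ fun m hm => ?_
  obtain ⟨g, hg⟩ := H06PP.SymPow.exists_sum_single (ι := ι) m (by
    exact (hf.degree_eq_sum_deg_support hm).symm)
  obtain ⟨b, hb⟩ := Ideal.Quotient.mk_surjective (coeff m f)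
  refine ⟨b • SymmetricPower.tprod B g, ?_⟩
  rw [map_smul, H06PP.SymPow.eval_tprod, ← hb, ← hg, ← mul_one (Ideal.Quotient.mk J b),
    ← C_mul_monomial, ← H06PP.SymPow.prod_X_eq_monomial, map_mul, map_prod, ← algebraMap_smul (B ⧸ J) b,
    smul_eq_C_mul]
  simp [eps]

section backward

variable {n : ℕ} (σn : (B ⧸ J) →ₐ[A] B ⧸ J ^ (n + 1))

/-- The map from polynomials to the truncated ring. -/
noncomputable def toTrunc : (MvPolynomial J.Cotangent (B ⧸ J)) →ₐ[A] B ⧸ J ^ (n + 1) :=
  MvPolynomial.aevalTower σn fun x : J.Cotangent => Ideal.Quotient.mk _ (rep J x)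


theorem pow_succ_eq_bot : ((J.map (Ideal.Quotient.mk (J ^ (n + 1))))) ^ (n + 1) = ⊥ := by
  rw [← Ideal.map_pow]; exact Ideal.map_quotient_self _

theorem phiN_mem_pow {d : ℕ} {f : (MvPolynomial J.Cotangent (B ⧸ J))} (hf : f ∈ ((idealOfVars J.Cotangent (B ⧸ J))) ^ d) : toTrunc σn f ∈ ((J.map (Ideal.Quotient.mk (J ^ (n + 1))))) ^ d := by
  have h : (idealOfVars J.Cotangent (B ⧸ J)) ≤ ((J.map (Ideal.Quotient.mk (J ^ (n + 1))))).comap (toTrunc σn).toRingHom := by
    refine Ideal.span_le.mpr ?_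
    rintro _ ⟨i, rfl⟩
    show toTrunc σn (X i) ∈ (J.map (Ideal.Quotient.mk (J ^ (n + 1))))
    rw [toTrunc, aevalTower_X]
    exact Ideal.mem_map_of_mem _ (rep_mem J i)
  exact (Ideal.pow_right_mono h d).trans (Ideal.le_comap_pow _ d) hf

variable (hσ : ∀ (b : B), σn (Ideal.Quotient.mk J b) - Ideal.Quotient.mk (J ^ (n + 1)) b ∈ (J.map (Ideal.Quotient.mk (J ^ (n + 1)))))
include hσ

theorem phiN_lin (s : J.Cotangent →ₗ[(B ⧸ J)] (J.Cotangent →₀ (B ⧸ J)))
    (hs : ∀ x, Finsupp.linearCombination (B ⧸ J) id (s x) = x) (x : J.Cotangent) :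
    toTrunc σn (lin s x) - Ideal.Quotient.mk _ (rep J x) ∈ ((J.map (Ideal.Quotient.mk (J ^ (n + 1))))) ^ 2 := by
  suffices ∀ v : J.Cotangent →₀ (B ⧸ J), toTrunc σn (Finsupp.linearCombination (B ⧸ J) (fun i => (X i : (MvPolynomial J.Cotangent (B ⧸ J)))) v) -
      Ideal.Quotient.mk _ (rep J (Finsupp.linearCombination (B ⧸ J) id v)) ∈ ((J.map (Ideal.Quotient.mk (J ^ (n + 1))))) ^ 2 by
    have h := this (s x)
    rwa [hs] at h
  have hm : ∀ {z : B}, z ∈ J ^ 2 → Ideal.Quotient.mk (J ^ (n + 1)) z ∈ ((J.map (Ideal.Quotient.mk (J ^ (n + 1))))) ^ 2 := fun hz => by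
    rw [← Ideal.map_pow]; exact Ideal.mem_map_of_mem _ hz
  intro v
  induction v using Finsupp.induction with
  | zero =>
    rw [map_zero, map_zero, map_zero, zero_sub, neg_mem_iff]
    refine hm ?_
    have h0 := rep_smul J 0 (0 : J.Cotangent)
    rwa [zero_smul, zero_mul, sub_zero] at h0
  | single_add i c v _ _ ih =>
    obtain ⟨b, rfl⟩ := Ideal.Quotient.mk_surjective c
    simp only [map_add, Finsupp.linearCombination_single]
    rw [smul_eq_C_mul, map_mul, toTrunc, aevalTower_C, aevalTower_X, id_eq,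
      show Ideal.Quotient.mk J b • i = b • i from algebraMap_smul (B ⧸ J) b i]
    rw [← toTrunc]
    have h1 := hm (rep_add J (b • i) (Finsupp.linearCombination (B ⧸ J) id v))
    have h2 := hm (rep_smul J b i)
    have h3 := Ideal.mul_mem_mul (hσ b) (Ideal.mem_map_of_mem (Ideal.Quotient.mk (J ^ (n + 1))) (rep_mem J i))
    rw [← sq] at h3
    simp only [map_sub, map_add, map_mul] at h1 h2 h3
    convert add_mem (add_mem ih h3) (neg_mem (add_mem h1 h2)) using 1
    ring

theorem exists_class (s : J.Cotangent →ₗ[(B ⧸ J)] (J.Cotangent →₀ (B ⧸ J)))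
    (hs : ∀ x, Finsupp.linearCombination (B ⧸ J) id (s x) = x) (ι : Type u) [Fintype ι]
    (t : SymmetricPower B ι J.Cotangent) :
    ∃ (z : B) (hz : z ∈ J ^ Fintype.card ι),
      toTrunc σn (H06PP.SymPow.eval ((lin s).restrictScalars B) t) - Ideal.Quotient.mk _ z ∈
        ((J.map (Ideal.Quotient.mk (J ^ (n + 1))))) ^ (Fintype.card ι + 1) ∧ phiJ t = cls _ z hz := by
  have ht : t ∈ Submodule.span B (Set.range (SymmetricPower.tprod B (ι := ι) (M := J.Cotangent))) := by
    rw [SymmetricPower.span_tprod_eq_top]; trivial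
  induction ht using Submodule.span_induction with
  | mem y hy =>
    obtain ⟨x, rfl⟩ := hy
    refine ⟨∏ i, rep J (x i), prod_mem _ fun i => rep_mem J _, ?_, H06PP.SymPow.lift_tprod _ _ _⟩
    rw [H06PP.SymPow.eval_tprod, map_prod, map_prod]
    exact H06PP.Graded.prod_sub_prod_mem _ Finset.univ
      (fun i _ => by
        have := phiN_mem_pow σn (mem_pow_of_isHomogeneous (isHomogeneous_lin s (x i)))
        rw [pow_one] at this
        exact this)
      (fun i _ => Ideal.mem_map_of_mem _ (rep_mem J _)) (fun i _ => phiN_lin σn hσ s hs _)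
  | zero =>
    refine ⟨0, zero_mem _, ?_, ?_⟩
    · rw [map_zero, map_zero, map_zero, sub_zero]; exact zero_mem _
    · rw [map_zero]; exact ((cls_eq_zero _).mpr (zero_mem _)).symm
  | add u v _ _ hu hv =>
    obtain ⟨z, hz, h1, h1'⟩ := hu
    obtain ⟨w, hw, h2, h2'⟩ := hv
    refine ⟨z + w, add_mem hz hw, ?_, ?_⟩
    · rw [map_add, map_add, map_add]
      convert add_mem h1 h2 using 1
      ring
    · rw [map_add, h1', h2']; rfl
  | smul b u _ hu =>
    obtain ⟨z, hz, h1, h1'⟩ := hu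
    refine ⟨b * z, Ideal.mul_mem_left _ b hz, ?_, ?_⟩
    · rw [map_smul, ← algebraMap_smul (B ⧸ J) b, smul_eq_C_mul, map_mul, map_mul, toTrunc, aevalTower_C, ← toTrunc]
      have h2 := Ideal.mul_mem_mul (hσ b)
        (phiN_mem_pow σn (mem_pow_of_isHomogeneous (isHomogeneous_eval s u)))
      rw [← pow_succ'] at h2
      convert add_mem h2 (Ideal.mul_mem_left _ (Ideal.Quotient.mk _ b) h1) using 1
      rw [Ideal.Quotient.algebraMap_eq]
      ring
    · rw [map_smul, h1']; rfl

theorem mem_pow_of_phiN_eq_zero (hsym : PP16.SymGrBijective B J) (s : J.Cotangent →ₗ[(B ⧸ J)] (J.Cotangent →₀ (B ⧸ J)))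
    (hs : ∀ x, Finsupp.linearCombination (B ⧸ J) id (s x) = x) {f : (MvPolynomial J.Cotangent (B ⧸ J))} (hfix : eps s f = f)
    (hf : toTrunc σn f = 0) : f ∈ ((idealOfVars J.Cotangent (B ⧸ J))) ^ (n + 1) := by
  classical
  have key : ∀ d ≤ n, homogeneousComponent d f = 0 := by
    intro d
    induction d using Nat.strong_induction_on with
    | _ d ih =>
    intro hd
    have hmem : toTrunc σn (homogeneousComponent d f) ∈ ((J.map (Ideal.Quotient.mk (J ^ (n + 1))))) ^ (d + 1) := by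
      have hsum := congrArg (toTrunc σn) (sum_homogeneousComponent f)
      rw [hf, map_sum] at hsum
      by_cases hdt : d ∈ Finset.range (f.totalDegree + 1)
      · rw [← Finset.add_sum_erase _ _ hdt, add_eq_zero_iff_eq_neg] at hsum
        rw [hsum, neg_mem_iff]
        refine Ideal.sum_mem _ fun j hj => ?_
        obtain ⟨hjd, -⟩ := Finset.mem_erase.1 hj
        rcases lt_or_gt_of_ne hjd with h | h
        · rw [ih j h (by omega), map_zero]; exact zero_mem _
        · exact Ideal.pow_le_pow_right h (phiN_mem_pow σn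
            (mem_pow_of_isHomogeneous (homogeneousComponent_isHomogeneous j f)))
      · rw [homogeneousComponent_eq_zero _ _ (by simpa using hdt), map_zero]; exact zero_mem _
    rcases Nat.eq_zero_or_pos d with rfl | hpos
    · rw [homogeneousComponent_zero] at hmem ⊢
      obtain ⟨b, hb⟩ := Ideal.Quotient.mk_surjective (coeff 0 f)
      rw [← hb, toTrunc, aevalTower_C, pow_one] at hmem
      have h2 : Ideal.Quotient.mk (J ^ (n + 1)) b ∈ (J.map (Ideal.Quotient.mk (J ^ (n + 1)))) := by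
        convert sub_mem hmem (hσ b) using 1; ring
      rw [Ideal.mem_map_iff_of_surjective _ Ideal.Quotient.mk_surjective] at h2
      obtain ⟨j, hj, hjb⟩ := h2
      have : b ∈ J := by
        have := Ideal.pow_le_self (Nat.succ_ne_zero n) (Ideal.Quotient.eq.1 hjb)
        convert sub_mem hj this using 1; ring
      rw [← hb, Ideal.Quotient.eq_zero_iff_mem.2 this, C_0]
    · have hι : Fintype.card (ULift.{u} (Fin d)) = d := by simp
      haveI : Nonempty (ULift.{u} (Fin d)) := ⟨⟨⟨0, hpos⟩⟩⟩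
      obtain ⟨t, ht⟩ := exists_eval_eq s (ULift.{u} (Fin d))
        (f := homogeneousComponent d f) (by rw [hι]; exact homogeneousComponent_isHomogeneous d f)
      rw [← homogeneousComponent_eps, hfix] at ht
      obtain ⟨z, hz, h1, h2⟩ := exists_class σn hσ s hs (ULift.{u} (Fin d)) t
      rw [ht] at h1
      have h3 : Ideal.Quotient.mk (J ^ (n + 1)) z ∈ ((J.map (Ideal.Quotient.mk (J ^ (n + 1))))) ^ (Fintype.card (ULift.{u} (Fin d)) + 1) := by
        convert sub_mem (show toTrunc σn (homogeneousComponent d f) ∈ _ by rw [hι]; exact hmem) h1 using 1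
        ring
      rw [← Ideal.map_pow, Ideal.mem_map_iff_of_surjective _ Ideal.Quotient.mk_surjective] at h3
      obtain ⟨w, hw, hwz⟩ := h3
      have h4 : z ∈ J ^ (Fintype.card (ULift.{u} (Fin d)) + 1) := by
        have := Ideal.pow_le_pow_right (show Fintype.card (ULift.{u} (Fin d)) + 1 ≤ n + 1 by omega)
          (Ideal.Quotient.eq.1 hwz)
        convert sub_mem hw this using 1; ring
      rw [(cls_eq_zero hz).2 h4] at h2
      rw [← ht, phiJ_injective hsym (h2.trans (map_zero _).symm), map_zero]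
  rw [mem_pow_idealOfVars_iff']
  intro m hm
  have := congrArg (coeff m) (key m.degree (by omega))
  rwa [coeff_homogeneousComponent, if_pos rfl, coeff_zero] at this

theorem phiN_surjective (s : J.Cotangent →ₗ[(B ⧸ J)] (J.Cotangent →₀ (B ⧸ J)))
    (hs : ∀ x, Finsupp.linearCombination (B ⧸ J) id (s x) = x) :
    Function.Surjective fun p => toTrunc σn (eps s p) := by
  have key : ∀ j : ℕ, ∀ z ∈ J ^ j, ∃ p, Ideal.Quotient.mk _ z - toTrunc σn (eps s p) ∈ ((J.map (Ideal.Quotient.mk (J ^ (n + 1))))) ^ (j + 1) := by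
    intro j
    induction j with
    | zero =>
      intro z _
      refine ⟨C (Ideal.Quotient.mk J z), ?_⟩
      rw [eps, aeval_C, algebraMap_eq, toTrunc, aevalTower_C, pow_one]
      exact (Submodule.neg_mem_iff _).1 (by rw [neg_sub]; exact hσ z)
    | succ j ih =>
      intro z hz
      rw [pow_succ] at hz
      induction hz using Submodule.mul_induction_on' with
      | mem_mul_mem a ha b hb =>
        obtain ⟨p, hp⟩ := ih a ha
        refine ⟨p * X (J.toCotangent ⟨b, hb⟩), ?_⟩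
        rw [map_mul, map_mul, map_mul, show eps s (X (J.toCotangent ⟨b, hb⟩)) = lin s _ from aeval_X _ _]
        have h1 := Ideal.mul_mem_mul hp (Ideal.mem_map_of_mem (Ideal.Quotient.mk (J ^ (n + 1))) hb)
        rw [← pow_succ] at h1
        have hq : toTrunc σn (eps s p) ∈ ((J.map (Ideal.Quotient.mk (J ^ (n + 1))))) ^ j := by
          have h := Ideal.pow_le_pow_right (Nat.le_succ j) hp
          have ha' : Ideal.Quotient.mk (J ^ (n + 1)) a ∈ ((J.map (Ideal.Quotient.mk (J ^ (n + 1))))) ^ j := by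
            rw [← Ideal.map_pow]; exact Ideal.mem_map_of_mem _ ha
          convert sub_mem ha' h using 1; ring
        have hb' : Ideal.Quotient.mk (J ^ (n + 1)) b - toTrunc σn (lin s (J.toCotangent ⟨b, hb⟩)) ∈ ((J.map (Ideal.Quotient.mk (J ^ (n + 1))))) ^ 2 := by
          have e1 := phiN_lin σn hσ s hs (J.toCotangent ⟨b, hb⟩)
          have e2 : Ideal.Quotient.mk (J ^ (n + 1)) (rep J (J.toCotangent ⟨b, hb⟩) - b) ∈ ((J.map (Ideal.Quotient.mk (J ^ (n + 1))))) ^ 2 := by
            rw [← Ideal.map_pow]; exact Ideal.mem_map_of_mem _ (rep_sub_mem J hb)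
          rw [map_sub] at e2
          convert neg_mem (add_mem e1 e2) using 1; ring
        have h2 := Ideal.mul_mem_mul hq hb'
        rw [← pow_add] at h2
        convert add_mem h1 h2 using 1
        ring
      | add a _ b _ ha hb =>
        obtain ⟨p, hp⟩ := ha
        obtain ⟨q, hq⟩ := hb
        refine ⟨p + q, ?_⟩
        rw [map_add, map_add, map_add]
        convert add_mem hp hq using 1
        ring
  intro r
  suffices ∀ j : ℕ, ∃ p, r - toTrunc σn (eps s p) ∈ ((J.map (Ideal.Quotient.mk (J ^ (n + 1))))) ^ j by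
    obtain ⟨p, hp⟩ := this (n + 1)
    rw [pow_succ_eq_bot, Ideal.mem_bot, sub_eq_zero] at hp
    exact ⟨p, hp.symm⟩
  intro j
  induction j with
  | zero => exact ⟨0, by simp⟩
  | succ j ih =>
    obtain ⟨p, hp⟩ := ih
    rw [← Ideal.map_pow, Ideal.mem_map_iff_of_surjective _ Ideal.Quotient.mk_surjective] at hp
    obtain ⟨z, hz, hzp⟩ := hp
    obtain ⟨q, hq⟩ := key j z hz
    refine ⟨p + q, ?_⟩
    rw [map_add, map_add, ← sub_sub, ← hzp]
    exact hq

end backward

/-- The criterion implies adic formal smoothness. -/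
theorem isAdicFormallySmooth_of_symGr [Algebra.FormallySmooth A (B ⧸ J)]
    [Module.Projective (B ⧸ J) J.Cotangent] (hsym : PP16.SymGrBijective B J) : CAlgX.IsAdicFormallySmooth A B J := by
  intro E _ _ N0 hN ψ ⟨k, hk⟩
  obtain ⟨s, hs⟩ := Module.projective_lifting_property
    (Finsupp.linearCombination (B ⧸ J) (id : J.Cotangent → J.Cotangent)) LinearMap.id
    (Finsupp.linearCombination_id_surjective (B ⧸ J) J.Cotangent)
  replace hs : ∀ x, Finsupp.linearCombination (B ⧸ J) id (s x) = x := fun x => LinearMap.congr_fun hs x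
  let π : (B ⧸ J ^ (2 * k + 1)) →ₐ[A] (B ⧸ J) :=
    Ideal.Quotient.factorₐ A (Ideal.pow_le_self (Nat.succ_ne_zero _))
  have hπ : Function.Surjective π := fun c => by
    obtain ⟨b, rfl⟩ := Ideal.Quotient.mk_surjective c
    exact ⟨Ideal.Quotient.mk _ b, rfl⟩
  have hnil : IsNilpotent (RingHom.ker π.toRingHom) := by
    refine ⟨2 * k + 1, ?_⟩
    rw [Ideal.zero_eq_bot, eq_bot_iff]
    refine le_trans (Ideal.pow_right_mono (fun x hx => ?_) _) (pow_succ_eq_bot (J := J) (n := 2 * k)).le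
    obtain ⟨b, rfl⟩ := Ideal.Quotient.mk_surjective x
    exact Ideal.mem_map_of_mem _ (Ideal.Quotient.eq_zero_iff_mem.1 hx)
  let σn : (B ⧸ J) →ₐ[A] B ⧸ J ^ (2 * k + 1) :=
    Algebra.FormallySmooth.liftOfSurjective (AlgHom.id A (B ⧸ J)) π hπ hnil
  have hσ : ∀ b, σn (Ideal.Quotient.mk J b) - Ideal.Quotient.mk (J ^ (2 * k + 1)) b ∈
      Ideal.map (Ideal.Quotient.mk (J ^ (2 * k + 1))) J := fun b => by
    obtain ⟨c, hc⟩ := Ideal.Quotient.mk_surjective (σn (Ideal.Quotient.mk J b))
    rw [← hc, ← map_sub]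
    refine Ideal.mem_map_of_mem _ (Ideal.Quotient.eq.1 ?_)
    have := AlgHom.congr_fun (Algebra.FormallySmooth.comp_liftOfSurjective (AlgHom.id A (B ⧸ J)) π hπ hnil)
      (Ideal.Quotient.mk J b)
    rw [AlgHom.comp_apply] at this
    rw [show Algebra.FormallySmooth.liftOfSurjective (AlgHom.id A (B ⧸ J)) π hπ hnil = σn from rfl, ← hc] at this
    exact this
  let ψb : (B ⧸ J ^ (2 * k + 1)) →ₐ[A] E ⧸ N0 :=
    Ideal.Quotient.liftₐ _ ψ fun x hx => hk x (Ideal.pow_le_pow_right (by omega) hx)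
  haveI : Algebra.FormallySmooth A (MvPolynomial J.Cotangent (B ⧸ J)) := Algebra.FormallySmooth.comp A (B ⧸ J) (MvPolynomial J.Cotangent (B ⧸ J))
  let θ : (MvPolynomial J.Cotangent (B ⧸ J)) →ₐ[A] E := Algebra.FormallySmooth.lift N0 ⟨2, hN⟩ (ψb.comp (toTrunc σn))
  have hθ : ∀ p, Ideal.Quotient.mk N0 (θ p) = ψb (toTrunc σn p) := fun p =>
    Algebra.FormallySmooth.mk_lift N0 ⟨2, hN⟩ (ψb.comp (toTrunc σn)) p
  have hθV : ∀ p ∈ ((idealOfVars J.Cotangent (B ⧸ J))) ^ k, θ p ∈ N0 := fun p hp => by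
    rw [← Ideal.Quotient.eq_zero_iff_mem, hθ]
    have h := phiN_mem_pow σn hp
    rw [← Ideal.map_pow, Ideal.mem_map_iff_of_surjective _ Ideal.Quotient.mk_surjective] at h
    obtain ⟨z, hz, hzp⟩ := h
    rw [← hzp]
    exact hk z hz
  let Φ' : (MvPolynomial J.Cotangent (B ⧸ J)) →ₐ[A] B ⧸ J ^ (2 * k + 1) := (toTrunc σn).comp ((eps s).restrictScalars A)
  let θ' : (MvPolynomial J.Cotangent (B ⧸ J)) →ₐ[A] E := θ.comp ((eps s).restrictScalars A)
  have hker : ∀ p, Φ' p = 0 → θ' p = 0 := fun p hp => by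
    have h := Ideal.pow_le_pow_right (show k + k ≤ 2 * k + 1 by omega)
      (mem_pow_of_phiN_eq_zero σn hσ hsym s hs (eps_eps s hs p) hp)
    show θ (eps s p) = 0
    rw [pow_add] at h
    refine Submodule.mul_induction_on h (fun a ha b hb => ?_) (fun a b ha hb => by rw [map_add, ha, hb, add_zero])
    rw [map_mul]
    exact Ideal.mem_bot.1 (hN ▸ (sq N0).symm ▸ Ideal.mul_mem_mul (hθV a ha) (hθV b hb))
  let e := Ideal.quotientKerAlgEquivOfSurjective (f := Φ') (phiN_surjective σn hσ s hs : Function.Surjective Φ')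
  refine ⟨((Ideal.Quotient.liftₐ _ θ' hker).comp e.symm.toAlgHom).comp (Ideal.Quotient.mkₐ A _),
    AlgHom.ext fun b => ?_⟩
  obtain ⟨p, hp⟩ := phiN_surjective σn hσ s hs (Ideal.Quotient.mk _ b)
  have he : e.symm (Ideal.Quotient.mk _ b) = Ideal.Quotient.mk _ p := by
    rw [AlgEquiv.symm_apply_eq]; exact hp.symm
  show Ideal.Quotient.mk N0 (Ideal.Quotient.liftₐ _ θ' hker (e.symm (Ideal.Quotient.mk _ b))) = ψ b
  rw [he, show Ideal.Quotient.liftₐ _ θ' hker (Ideal.Quotient.mk _ p) = θ (eps s p) from rfl, hθ,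
    show toTrunc σn (eps s p) = Ideal.Quotient.mk _ b from hp]
  rfl

/-- The canonical derivation into the conormal module. -/
theorem exists_derivation_cotangent [Algebra.FormallySmooth A (B ⧸ J)] :
    ∃ δ : Derivation A B J.Cotangent, ∀ j : J, δ j = J.toCotangent j := by
  let π : (B ⧸ J ^ 2) →ₐ[A] (B ⧸ J) := Ideal.Quotient.factorₐ A (Ideal.pow_le_self two_ne_zero)
  have hπ : Function.Surjective π := fun c => by
    obtain ⟨b, rfl⟩ := Ideal.Quotient.mk_surjective c
    exact ⟨Ideal.Quotient.mk _ b, rfl⟩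
  have hnil : IsNilpotent (RingHom.ker π.toRingHom) := by
    refine ⟨2, ?_⟩
    rw [Ideal.zero_eq_bot, eq_bot_iff]
    refine le_trans (Ideal.pow_right_mono (fun x hx => ?_) _) (pow_succ_eq_bot (J := J) (n := 1)).le
    obtain ⟨b, rfl⟩ := Ideal.Quotient.mk_surjective x
    exact Ideal.mem_map_of_mem _ (Ideal.Quotient.eq_zero_iff_mem.1 hx)
  let σ1 : (B ⧸ J) →ₐ[A] B ⧸ J ^ 2 := Algebra.FormallySmooth.liftOfSurjective (AlgHom.id A (B ⧸ J)) π hπ hnil
  choose u hu using fun b => Ideal.Quotient.mk_surjective (σ1 (Ideal.Quotient.mk J b))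
  have hsub : ∀ b, b - u b ∈ J := fun b => Ideal.Quotient.eq.1 (Eq.symm (by
    have := AlgHom.congr_fun (Algebra.FormallySmooth.comp_liftOfSurjective (AlgHom.id A (B ⧸ J)) π hπ hnil)
      (Ideal.Quotient.mk J b)
    rw [AlgHom.comp_apply, show Algebra.FormallySmooth.liftOfSurjective (AlgHom.id A (B ⧸ J)) π hπ hnil = σ1 from rfl,
      ← hu b] at this
    exact this))
  have hadd : ∀ b c, u (b + c) - (u b + u c) ∈ J ^ 2 := fun b c => Ideal.Quotient.eq.1 (by
    rw [hu, map_add, map_add, map_add, hu, hu])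
  have hmul : ∀ b c, u (b * c) - u b * u c ∈ J ^ 2 := fun b c => Ideal.Quotient.eq.1 (by
    rw [hu, map_mul, map_mul, map_mul, hu, hu])
  have halg : ∀ r b, u (r • b) - r • u b ∈ J ^ 2 := fun r b => Ideal.Quotient.eq.1 (by
    rw [hu, ← Ideal.Quotient.mkₐ_eq_mk A, ← Ideal.Quotient.mkₐ_eq_mk A, map_smul, map_smul, map_smul,
      Ideal.Quotient.mkₐ_eq_mk, Ideal.Quotient.mkₐ_eq_mk, hu])
  let δ₀ : B → J.Cotangent := fun b => J.toCotangent ⟨b - u b, hsub b⟩
  have hδadd : ∀ b c, δ₀ (b + c) = δ₀ b + δ₀ c := fun b c => by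
    show J.toCotangent _ = J.toCotangent _ + J.toCotangent _
    rw [← map_add, Ideal.toCotangent_eq]
    show b + c - u (b + c) - (b - u b + (c - u c)) ∈ _
    convert neg_mem (hadd b c) using 1; ring
  have hδmul : ∀ b c, δ₀ (b * c) = b • δ₀ c + c • δ₀ b := fun b c => by
    show J.toCotangent _ = b • J.toCotangent _ + c • J.toCotangent _
    rw [← map_smul, ← map_smul, ← map_add, Ideal.toCotangent_eq]
    show b * c - u (b * c) - (b * (c - u c) + c * (b - u b)) ∈ _
    have := Ideal.mul_mem_mul (hsub b) (hsub c)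
    rw [← sq] at this
    convert sub_mem (neg_mem (hmul b c)) this using 1; ring
  refine ⟨Derivation.mk'
    { toFun := δ₀
      map_add' := hδadd
      map_smul' := fun r b => ?_ } hδmul, fun j => ?_⟩
  · show J.toCotangent _ = r • J.toCotangent _
    rw [← algebraMap_smul B r (J.toCotangent _), ← map_smul, Ideal.toCotangent_eq]
    show r • b - u (r • b) - algebraMap A B r • (b - u b) ∈ _
    rw [algebraMap_smul, smul_sub]
    convert neg_mem (halg r b) using 1; ring
  · show J.toCotangent _ = _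
    rw [Ideal.toCotangent_eq]
    show (j : B) - u j - j ∈ _
    have : u (j : B) ∈ J ^ 2 := by
      rw [← Ideal.Quotient.eq_zero_iff_mem, hu, Ideal.Quotient.eq_zero_iff_mem.2 j.2, map_zero]
    convert neg_mem this using 1; ring

theorem projective_of_fs [Algebra.FormallySmooth A (B ⧸ J)] (hB : CAlgX.IsAdicFormallySmooth A B J) :
    Module.Projective (B ⧸ J) J.Cotangent := by
  refine Module.Projective.of_lifting_property'' fun f hf => ?_
  obtain ⟨δ, hδ⟩ := exists_derivation_cotangent (A := A) (J := J)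
  have hkill : ∀ b ∈ J, ∀ x : J.Cotangent →₀ (B ⧸ J), b • x = 0 := fun b hb x => by
    rw [← algebraMap_smul (B ⧸ J) b x, Ideal.Quotient.algebraMap_eq, Ideal.Quotient.eq_zero_iff_mem.2 hb,
      zero_smul]
  obtain ⟨d, hd⟩ := AdicConormal.exists_derivation_lift 1 (AdicConormal.liftsAt_of_isAdicFormallySmooth hB 1)
    (fun b hb => hkill b (by rwa [pow_one] at hb)) (f.restrictScalars B) hf δ
  let d₁ : J →ₗ[B] J.Cotangent →₀ (B ⧸ J) :=
    { toFun := fun j => d j
      map_add' := fun i j => map_add d _ _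
      map_smul' := fun b j => by
        show d (b * (j : B)) = b • d j
        rw [Derivation.leibniz, hkill j j.2, add_zero] }
  let g : J.Cotangent →ₗ[B] J.Cotangent →₀ (B ⧸ J) := (J • ⊤ : Submodule B J).liftQ d₁ (by
    rw [Submodule.smul_le]
    intro r hr x _
    show d₁ (r • x) = 0
    rw [map_smul, hkill r hr])
  refine ⟨LinearMap.extendScalarsOfSurjective Ideal.Quotient.mk_surjective g, LinearMap.ext fun x => ?_⟩
  obtain ⟨j, rfl⟩ := J.toCotangent_surjective x
  show f.restrictScalars B (d j) = J.toCotangent j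
  rw [hd, hδ]

theorem mul_mem_sq {R : Type u} [CommRing R] {M : Ideal R} {x y : R} (hx : x ∈ M) (hy : y ∈ M) :
    x * y ∈ M ^ 2 := sq M ▸ Ideal.mul_mem_mul hx hy

theorem map_mk_pow_eq_bot {R : Type u} [CommRing R] (V : Ideal R) (d : ℕ) :
    (V.map (Ideal.Quotient.mk (V ^ d))) ^ d = ⊥ := by
  rw [← Ideal.map_pow]; exact Ideal.map_quotient_self _

/-- Nilpotent lifting of `b ↦ b̄ + δ b`. -/
theorem exists_lift_class (hB : CAlgX.IsAdicFormallySmooth A B J) (δ : Derivation A B J.Cotangent)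
    (hδ : ∀ j : J, δ j = J.toCotangent j) (s : J.Cotangent →ₗ[(B ⧸ J)] (J.Cotangent →₀ (B ⧸ J))) (d : ℕ)
    {Q : Type u} [CommRing Q] [Algebra A Q] (q : (MvPolynomial J.Cotangent (B ⧸ J)) →ₐ[A] Q) (M : Ideal Q) (hM : M ^ (d + 1) = ⊥)
    (hq : ∀ x, q (lin s x) ∈ M) :
    ∃ θ : B →ₐ[A] Q, (∀ j ∈ J, θ j ∈ M) ∧
      (∀ j : J, θ j - q (lin s (J.toCotangent j)) ∈ M ^ 2) ∧
      ∀ b, θ b - q (C (Ideal.Quotient.mk J b)) ∈ M := by
  let r : (MvPolynomial J.Cotangent (B ⧸ J)) →ₐ[A] Q ⧸ M ^ 2 := (Ideal.Quotient.mkₐ A (M ^ 2)).comp q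
  have hr : ∀ x y, r (lin s x) * r (lin s y) = 0 := fun x y => by
    show Ideal.Quotient.mk (M ^ 2) (q (lin s x)) * Ideal.Quotient.mk (M ^ 2) (q (lin s y)) = 0
    rw [← map_mul, Ideal.Quotient.eq_zero_iff_mem]
    exact mul_mem_sq (hq x) (hq y)
  have hCL : ∀ (b : B) x, r (C (Ideal.Quotient.mk J b)) * r (lin s x) = r (lin s (b • x)) := fun b x => by
    rw [← map_mul, ← smul_eq_C_mul, ← map_smul,
      show Ideal.Quotient.mk J b • x = b • x from algebraMap_smul (B ⧸ J) b x]
  let ψ : B →ₐ[A] Q ⧸ M ^ 2 :=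
    { toFun := fun b => r (C (Ideal.Quotient.mk J b)) + r (lin s (δ b))
      map_one' := by simp only [Derivation.map_one_eq_zero, map_zero, map_one, add_zero]
      map_mul' := fun b c => by
        simp only [Derivation.leibniz, map_mul, map_add (lin s), map_add r, ← hCL]
        linear_combination -hr (δ b) (δ c)
      map_zero' := by simp only [map_zero, add_zero]
      map_add' := fun b c => by simp only [map_add]; ring
      commutes' := fun a => by
        rw [Derivation.map_algebraMap, map_zero, map_zero, add_zero]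
        exact r.commutes a }
  obtain ⟨θ, hθ, -⟩ := exists_lift_nilpotent hB (d + 1) _ (M ^ 2) (by
    rw [← pow_mul, eq_bot_iff, ← hM]
    exact Ideal.pow_le_pow_right (Nat.lt_two_pow_self.le.trans (Nat.le_mul_of_pos_left _ two_pos))) ψ
    ⟨2, fun b hb => by
      show r (C (Ideal.Quotient.mk J b)) + r (lin s (δ b)) = 0
      have hbJ : b ∈ J := Ideal.pow_le_self two_ne_zero hb
      rw [Ideal.Quotient.eq_zero_iff_mem.2 hbJ, C_0, map_zero, zero_add, hδ ⟨b, hbJ⟩,
        (J.toCotangent_eq_zero ⟨b, hbJ⟩).2 hb, map_zero, map_zero]⟩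
  have hθ' : ∀ b, θ b - (q (C (Ideal.Quotient.mk J b)) + q (lin s (δ b))) ∈ M ^ 2 := fun b =>
    Ideal.Quotient.eq.1 (by
      rw [map_add]
      exact AlgHom.congr_fun hθ b)
  have hM1 : ∀ b, θ b - q (C (Ideal.Quotient.mk J b)) ∈ M := fun b => by
    have := add_mem (Ideal.pow_le_self two_ne_zero (hθ' b)) (hq (δ b))
    convert this using 1; ring
  refine ⟨θ, fun j hj => ?_, fun j => ?_, hM1⟩
  · have := hM1 j
    rwa [Ideal.Quotient.eq_zero_iff_mem.2 hj, C_0, map_zero, sub_zero] at this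
  · have := hθ' j
    rwa [Ideal.Quotient.eq_zero_iff_mem.2 j.2, C_0, map_zero, zero_add, hδ] at this

theorem map_eval_eq_zero (s : J.Cotangent →ₗ[(B ⧸ J)] (J.Cotangent →₀ (B ⧸ J))) (ι : Type u) [Fintype ι] {Q : Type u} [CommRing Q]
    (θ : B →+* Q) (q : (MvPolynomial J.Cotangent (B ⧸ J)) →+* Q) (M : Ideal Q) (hM : M ^ (Fintype.card ι + 1) = ⊥)
    (hq : ∀ {x}, x ∈ (idealOfVars J.Cotangent (B ⧸ J)) → q x ∈ M) (hθJ : ∀ j ∈ J, θ j ∈ M)
    (hθ2 : ∀ j : J, θ j - q (lin s (J.toCotangent j)) ∈ M ^ 2)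
    (hθC : ∀ b, θ b - q (C (Ideal.Quotient.mk J b)) ∈ M) (t : SymmetricPower B ι J.Cotangent) (ht : phiJ t = 0) :
    q (H06PP.SymPow.eval ((lin s).restrictScalars B) t) = 0 := by
  have key : ∀ t : SymmetricPower B ι J.Cotangent, ∃ (z : B) (hz : z ∈ J ^ Fintype.card ι),
      θ z = q (H06PP.SymPow.eval ((lin s).restrictScalars B) t) ∧ phiJ t = cls _ z hz := by
    intro t
    have ht : t ∈ Submodule.span B (Set.range (SymmetricPower.tprod B (ι := ι) (M := J.Cotangent))) := by
      rw [SymmetricPower.span_tprod_eq_top]; trivial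
    induction ht using Submodule.span_induction with
    | mem y hy =>
      obtain ⟨x, rfl⟩ := hy
      refine ⟨∏ i, rep J (x i), prod_mem _ fun i => rep_mem J _, ?_, H06PP.SymPow.lift_tprod _ _ _⟩
      rw [H06PP.SymPow.eval_tprod, map_prod, map_prod, ← sub_eq_zero, ← Ideal.mem_bot, ← hM]
      exact H06PP.Graded.prod_sub_prod_mem _ Finset.univ (fun i _ => hθJ _ (rep_mem J _))
        (fun i _ => hq (by
          have := mem_pow_of_isHomogeneous (isHomogeneous_lin s (x i))
          rwa [pow_one] at this))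
        (fun i _ => by
          have := hθ2 ⟨rep J (x i), rep_mem J _⟩
          rwa [toCotangent_rep] at this)
    | zero =>
      refine ⟨0, zero_mem _, by rw [map_zero, map_zero, map_zero], ?_⟩
      rw [map_zero]; exact ((cls_eq_zero _).mpr (zero_mem _)).symm
    | add u v _ _ hu hv =>
      obtain ⟨z, hz, h1, h1'⟩ := hu
      obtain ⟨w, hw, h2, h2'⟩ := hv
      exact ⟨z + w, add_mem hz hw, by rw [map_add, map_add, map_add, h1, h2],
        by rw [map_add, h1', h2']; rfl⟩
    | smul b u _ hu =>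
      obtain ⟨z, hz, h1, h1'⟩ := hu
      refine ⟨b * z, Ideal.mul_mem_left _ b hz, ?_, by rw [map_smul, h1']; rfl⟩
      rw [map_smul, ← algebraMap_smul (B ⧸ J) b, smul_eq_C_mul, map_mul, map_mul, h1, ← sub_eq_zero,
        ← sub_mul, ← Ideal.mem_bot, ← hM, pow_succ']
      refine Ideal.mul_mem_mul (hθC b) ?_
      exact (Ideal.pow_right_mono (show (idealOfVars J.Cotangent (B ⧸ J)) ≤ M.comap q from fun x hx => hq hx) _).trans
        (Ideal.le_comap_pow _ _) (mem_pow_of_isHomogeneous (isHomogeneous_eval s u))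
  obtain ⟨z, hz, h1, h2⟩ := key t
  rw [ht, eq_comm, cls_eq_zero] at h2
  have h3 : θ z ∈ M ^ (Fintype.card ι + 1) :=
    (Ideal.pow_right_mono (show J ≤ M.comap θ from hθJ) _).trans (Ideal.le_comap_pow _ _) h2
  rw [hM, Ideal.mem_bot, h1] at h3
  exact h3

theorem symGr_of_fs [Algebra.FormallySmooth A (B ⧸ J)] (hB : CAlgX.IsAdicFormallySmooth A B J) :
    PP16.SymGrBijective B J := by
  haveI := projective_of_fs hB
  obtain ⟨s, hs⟩ := Module.projective_lifting_property
    (Finsupp.linearCombination (B ⧸ J) (id : J.Cotangent → J.Cotangent)) LinearMap.id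
    (Finsupp.linearCombination_id_surjective (B ⧸ J) J.Cotangent)
  replace hs : ∀ x, Finsupp.linearCombination (B ⧸ J) id (s x) = x := fun x => LinearMap.congr_fun hs x
  refine symGr_of_injective fun ι _ _ => (injective_iff_map_eq_zero _).2 fun t ht => ?_
  obtain ⟨δ, hδ⟩ := exists_derivation_cotangent (A := A) (J := J)
  obtain ⟨θ, hθJ, hθ2, hθC⟩ := exists_lift_class hB δ hδ s (Fintype.card ι)
    (Ideal.Quotient.mkₐ A (((idealOfVars J.Cotangent (B ⧸ J))) ^ (Fintype.card ι + 1)))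
    (Ideal.map (Ideal.Quotient.mk (((idealOfVars J.Cotangent (B ⧸ J))) ^ (Fintype.card ι + 1))) ((idealOfVars J.Cotangent (B ⧸ J)))) (map_mk_pow_eq_bot _ _)
    (fun x => Ideal.mem_map_of_mem _ (by
      have := mem_pow_of_isHomogeneous (isHomogeneous_lin s x)
      rwa [pow_one] at this))
  have h3 := map_eval_eq_zero s ι θ.toRingHom (Ideal.Quotient.mk _) _ (map_mk_pow_eq_bot _ _)
    (fun hx => Ideal.mem_map_of_mem _ hx) hθJ hθ2 hθC t ht
  rw [Ideal.Quotient.eq_zero_iff_mem] at h3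
  have h4 := eq_zero_of_isHomogeneous (isHomogeneous_eval s t) h3
  exact eval_injective_of_retraction s id hs (h4.trans (map_zero _).symm)

end Groth.Agent.H05EGA4.SymSmooth
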