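import Groth.Prelude.Def_TopMod
import Groth.Prelude.Def_LinTop
import Mathlib

/-! Formally left invertible maps of deduced topological modules. -/

set_option autoImplicit false
set_option linter.style.haveILetI false

open Topology Filter

universe u v w

namespace Groth.Agent.H05EGA4.TopModLI

variable {A : Type u} {M : Type v} {N : Type w} [CommRing A] [AddCommGroup M] [Module A M]
  [AddCommGroup N] [Module A N]

/-- A projective quotient `N/JN` lifts linear maps into modules killed by `J`. -/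
theorem exists_lift_of_projective (J : Ideal A) [Module.Projective (A ⧸ J) (N ⧸ (J • (⊤ : Submodule A N)))]
    {P Q : Type v} [AddCommGroup P] [Module A P] [AddCommGroup Q] [Module A Q]
    (hP : ∀ a ∈ J, ∀ y : P, a • y = 0)
    (f : P →ₗ[A] Q) (hf : Function.Surjective f) (φ : N →ₗ[A] Q) :
    ∃ ψ : N →ₗ[A] P, f ∘ₗ ψ = φ := by
  have hQ : ∀ a ∈ J, ∀ y : Q, a • y = 0 := fun a ha y => by
    obtain ⟨x, rfl⟩ := hf y
    rw [← map_smul, hP a ha, map_zero]
  have hker : J • (⊤ : Submodule A N) ≤ LinearMap.ker φ := Submodule.smul_le.2 fun a ha x _ => by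
    rw [LinearMap.mem_ker, map_smul, hQ a ha]
  have tP : Module.IsTorsionBySet A P J := fun y a => hP a a.2 y
  have tQ : Module.IsTorsionBySet A Q J := fun y a => hQ a a.2 y
  letI := tP.module
  letI := tQ.module
  haveI : IsScalarTower A (A ⧸ J) P := tP.isScalarTower
  haveI : IsScalarTower A (A ⧸ J) Q := tQ.isScalarTower
  have hs : Function.Surjective (algebraMap A (A ⧸ J)) := Ideal.Quotient.mk_surjective
  let φ' := ((J • (⊤ : Submodule A N)).liftQ φ hker).extendScalarsOfSurjective hs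
  obtain ⟨ψ, hψ⟩ := Module.projective_lifting_property (f.extendScalarsOfSurjective hs) φ' hf
  exact ⟨ψ.restrictScalars A ∘ₗ Submodule.mkQ _, LinearMap.ext fun x => LinearMap.congr_fun hψ _⟩

section Top

variable [TopologicalSpace A] [TopologicalSpace M] [TopologicalSpace N]

theorem mem_nhds {J : Ideal A} (hM : TopMod.IsDeduced A M) (hJ : IsOpen (J : Set A)) :
    ((J • ⊤ : Submodule A M) : Set M) ∈ 𝓝 (0 : M) :=
  hM.2.mem_of_mem hJ

/-- A linear map into a discrete module is continuous when it kills a `J N`. -/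
theorem continuous_of_le_ker (hN : TopMod.IsDeduced A N) {E : Type*} [AddCommGroup E] [Module A E]
    [TopologicalSpace E] [DiscreteTopology E] {J : Ideal A} (hJ : IsOpen (J : Set A)) (f : N →ₗ[A] E)
    (hf : (J • ⊤ : Submodule A N) ≤ LinearMap.ker f) : Continuous f := by
  haveI := hN.1
  refine continuous_of_continuousAt_zero f ?_
  rw [ContinuousAt, map_zero, nhds_discrete E, Filter.tendsto_pure]
  exact Filter.mem_of_superset (mem_nhds hN hJ) fun x hx => hf hx

theorem formallyLeftInvertible_iff (hM : TopMod.IsDeduced A M) (hN : TopMod.IsDeduced A N) (u : M →L[A] N) :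
    TopMod.IsFormallyLeftInvertible u ↔
      ∀ J : Ideal A, IsOpen (J : Set A) →
        ∃ w : N →ₗ[A] M ⧸ (J • ⊤ : Submodule A M), ∀ x : M, w (u x) = Submodule.Quotient.mk x := by
  constructor
  · intro h J hJ
    letI : TopologicalSpace (M ⧸ (J • ⊤ : Submodule A M)) := ⊥
    haveI : DiscreteTopology (M ⧸ (J • ⊤ : Submodule A M)) := ⟨rfl⟩
    obtain ⟨w, hw⟩ := h (M ⧸ (J • ⊤ : Submodule A M))
      ⟨Submodule.mkQ _, continuous_of_le_ker hM hJ _ (Submodule.ker_mkQ _).ge⟩
    exact ⟨w.toLinearMap, hw⟩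
  · intro h E _ _ _ _ v
    have hker : (v ⁻¹' {0}) ∈ 𝓝 (0 : M) :=
      v.continuous.continuousAt.preimage_mem_nhds (by rw [map_zero, nhds_discrete]; exact Filter.mem_pure.2 rfl)
    obtain ⟨J, hJ, hJv⟩ := hM.2.mem_iff.1 hker
    obtain ⟨w, hw⟩ := h J hJ
    let g : N →ₗ[A] E := (J • ⊤ : Submodule A M).liftQ v.toLinearMap (fun x hx => hJv hx) ∘ₗ w
    refine ⟨⟨g, continuous_of_le_ker hN hJ g ?_⟩, fun x => ?_⟩
    · refine Submodule.smul_le.2 fun a ha y _ => ?_
      rw [LinearMap.mem_ker, map_smul]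
      obtain ⟨m, hm⟩ := Submodule.Quotient.mk_surjective _ (w y)
      show a • ((J • ⊤ : Submodule A M).liftQ v.toLinearMap (fun x hx => hJv hx)) (w y) = 0
      rw [← hm, Submodule.liftQ_apply, ← map_smul]
      exact hJv (Submodule.smul_mem_smul ha Submodule.mem_top)
    · show ((J • ⊤ : Submodule A M).liftQ v.toLinearMap (fun x hx => hJv hx)) (w (u x)) = v x
      rw [hw, Submodule.liftQ_apply]
      rfl

theorem isDenseInducing_iff (hM : TopMod.IsDeduced A M) (hN : TopMod.IsDeduced A N) (u : M →L[A] N)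
    (hu : DenseRange u) :
    IsDenseInducing u ↔
      ∀ J : Ideal A, IsOpen (J : Set A) →
        (∀ x : M, u x ∈ (J • ⊤ : Submodule A N) → x ∈ (J • ⊤ : Submodule A M)) ∧
          ∀ y : N, ∃ x : M, y - u x ∈ (J • ⊤ : Submodule A N) := by
  haveI := hM.1
  haveI := hN.1
  have hsurj : ∀ J : Ideal A, IsOpen (J : Set A) → ∀ y : N, ∃ x : M, y - u x ∈ (J • ⊤ : Submodule A N) := by
    intro J hJ y
    have hmem : {z : N | y - z ∈ (J • ⊤ : Submodule A N)} ∈ 𝓝 y := by
      have hc : ContinuousAt (fun z : N => y - z) y := (continuous_const.sub continuous_id).continuousAt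
      exact hc.preimage_mem_nhds (by rw [sub_self]; exact mem_nhds hN hJ)
    obtain ⟨z, hz, x, rfl⟩ := hu.exists_mem_open isOpen_interior ⟨y, mem_interior_iff_mem_nhds.2 hmem⟩ |>.elim
      fun x hx => (⟨u x, hx, x, rfl⟩ : ∃ z, z ∈ interior _ ∧ ∃ x, u x = z)
    exact ⟨x, interior_subset (s := {z : N | y - z ∈ (J • ⊤ : Submodule A N)}) hz⟩
  constructor
  · intro hd J hJ
    refine ⟨fun x hx => ?_, hsurj J hJ⟩
    have h0 : ((J • ⊤ : Submodule A M) : Set M) ∈ comap u (𝓝 (0 : N)) := by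
      rw [← map_zero u, ← hd.isInducing.nhds_eq_comap]; exact mem_nhds hM hJ
    obtain ⟨t, ht, htJ⟩ := Filter.mem_comap.1 h0
    obtain ⟨J', hJ', hJ't⟩ := hN.2.mem_iff.1 ht
    have htop : (⊤ : Submodule A N) ≤ LinearMap.range u.toLinearMap ⊔ J' • ⊤ := fun y _ => by
      obtain ⟨z, hz⟩ := hsurj J' hJ' y
      exact Submodule.mem_sup.2 ⟨u z, ⟨z, rfl⟩, _, hz, add_sub_cancel _ _⟩
    have hle : (J • ⊤ : Submodule A N) ≤ (J • ⊤ : Submodule A M).map u.toLinearMap ⊔ J' • ⊤ := by
      refine (Submodule.smul_mono (le_refl J) htop).trans ?_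
      rw [Submodule.smul_sup, Submodule.map_smul'', Submodule.map_top]
      exact sup_le_sup_left Submodule.smul_le_right _
    obtain ⟨_, ⟨y, hy, rfl⟩, c, hc, hyc⟩ := Submodule.mem_sup.1 (hle hx)
    have hxy : x - y ∈ (J • ⊤ : Submodule A M) := htJ (hJ't (by
      show u (x - y) ∈ (J' • ⊤ : Submodule A N)
      rw [map_sub, ← hyc]
      simpa using hc))
    simpa using add_mem hxy hy
  · intro h
    refine ⟨⟨IsTopologicalAddGroup.ext hM.1 (topologicalAddGroup_induced u) ?_⟩, hu⟩
    rw [nhds_induced, map_zero]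
    refine le_antisymm (Filter.map_le_iff_le_comap.1 (u.continuous.tendsto' 0 0 (map_zero u))) ?_
    exact hM.2.ge_iff.2 fun J hJ => Filter.mem_comap.2 ⟨_, mem_nhds hN hJ, fun x hx => (h J hJ).1 x hx⟩

theorem formallyLeftInvertible_iff_idealOfDefinition {L : Ideal A} (hL : LinTop.IsIdealOfDefinition A L)
    (hM : TopMod.IsDeduced A M) (hN : TopMod.IsDeduced A N)
    (hproj : ∀ J : Ideal A, IsOpen (J : Set A) → Module.Projective (A ⧸ J) (N ⧸ (J • (⊤ : Submodule A N))))
    (u : M →L[A] N) :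
    TopMod.IsFormallyLeftInvertible u ↔
      ∃ w : N →ₗ[A] M ⧸ (L • ⊤ : Submodule A M), ∀ x : M, w (u x) = Submodule.Quotient.mk x := by
  rw [formallyLeftInvertible_iff hM hN]
  refine ⟨fun h => h L hL.1, fun ⟨w0, hw0⟩ J hJ => ?_⟩
  obtain ⟨n, -, hn⟩ := hL.2 (J : Set A) (hJ.mem_nhds J.zero_mem)
  haveI := hproj J hJ
  have hP : ∀ a ∈ J, ∀ y : M ⧸ (J • ⊤ : Submodule A M), a • y = 0 := fun a ha y => by
    obtain ⟨m, rfl⟩ := Submodule.Quotient.mk_surjective _ y
    rw [← Submodule.Quotient.mk_smul, Submodule.Quotient.mk_eq_zero]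
    exact Submodule.smul_mem_smul ha Submodule.mem_top
  let S : Submodule A M := (L ⊔ J) • ⊤
  let f : M ⧸ (J • ⊤ : Submodule A M) →ₗ[A] M ⧸ S := Submodule.factor (Submodule.smul_mono_left le_sup_right)
  let g : M ⧸ (L • ⊤ : Submodule A M) →ₗ[A] M ⧸ S := Submodule.factor (Submodule.smul_mono_left le_sup_left)
  obtain ⟨w2, hw2⟩ := exists_lift_of_projective J hP f (Submodule.factor_surjective _) (g ∘ₗ w0)
  let ψ : M →ₗ[A] M ⧸ (J • ⊤ : Submodule A M) := Submodule.mkQ _ - w2 ∘ₗ u.toLinearMap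
  have hψJ : (J • ⊤ : Submodule A M) ≤ LinearMap.ker ψ := Submodule.smul_le.2 fun a ha x _ => by
    rw [LinearMap.mem_ker, map_smul, hP a ha]
  let ε : Module.End A (M ⧸ (J • ⊤ : Submodule A M)) := (J • ⊤ : Submodule A M).liftQ ψ hψJ
  have hεmk : ∀ x : M, ε (Submodule.Quotient.mk x) = Submodule.Quotient.mk x - w2 (u x) := fun x => rfl
  have hε : ∀ y, ε y ∈ (L • ⊤ : Submodule A (M ⧸ (J • ⊤ : Submodule A M))) := by
    intro y
    obtain ⟨x, rfl⟩ := Submodule.Quotient.mk_surjective _ y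
    obtain ⟨z, hz⟩ := Submodule.Quotient.mk_surjective _ (ε (Submodule.Quotient.mk x))
    rw [← hz]
    have h0 : f (ε (Submodule.Quotient.mk x)) = 0 := by
      rw [hεmk, map_sub, show f (w2 (u x)) = g (w0 (u x)) from LinearMap.congr_fun hw2 (u x), hw0, sub_eq_zero]
      rfl
    have hzS : z ∈ S := by
      rw [← hz] at h0
      exact (Submodule.Quotient.mk_eq_zero S).1 h0
    rw [show S = L • ⊤ ⊔ J • ⊤ from Submodule.sup_smul _ _ _, Submodule.mem_sup] at hzS
    obtain ⟨a, ha, b, hb, rfl⟩ := hzS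
    rw [Submodule.Quotient.mk_add, (Submodule.Quotient.mk_eq_zero _).2 hb, add_zero]
    have := Submodule.mem_map_of_mem (f := (J • ⊤ : Submodule A M).mkQ) ha
    rwa [Submodule.map_smul'', Submodule.map_top, Submodule.range_mkQ] at this
  have hpow : ∀ k : ℕ, LinearMap.range (ε ^ k) ≤ (L ^ k • ⊤ : Submodule A (M ⧸ (J • ⊤ : Submodule A M))) := by
    intro k
    induction k with
    | zero => simp
    | succ k ih =>
      rw [pow_succ' ε, Module.End.mul_eq_comp, LinearMap.range_comp, pow_succ L, mul_smul]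
      refine (Submodule.map_mono ih).trans ?_
      rw [Submodule.map_smul'']
      exact Submodule.smul_mono le_rfl (by rintro _ ⟨y, -, rfl⟩; exact hε y)
  have hnil : IsNilpotent ε := by
    refine ⟨n, LinearMap.range_eq_bot.1 (eq_bot_iff.2 ((hpow n).trans ?_))⟩
    refine Submodule.smul_le.2 fun a ha y _ => ?_
    rw [Submodule.mem_bot, hP a (hn ha)]
  let U := hnil.isUnit_one_sub.unit
  refine ⟨(↑U⁻¹ : Module.End A (M ⧸ (J • ⊤ : Submodule A M))) ∘ₗ w2, fun x => ?_⟩
  have h1 : (1 - ε) (Submodule.Quotient.mk x) = w2 (u x) := by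
    rw [LinearMap.sub_apply, Module.End.one_apply, hεmk]; abel
  show (↑U⁻¹ : Module.End A (M ⧸ (J • ⊤ : Submodule A M))) (w2 (u x)) = _
  rw [← h1]
  exact LinearMap.congr_fun U.inv_mul _

/-- The cokernels modulo an open ideal of a formally left invertible map are projective when those of
the target are. -/
theorem projective_coker (hM : TopMod.IsDeduced A M) (hN : TopMod.IsDeduced A N) (u : M →L[A] N)
    (hu : TopMod.IsFormallyLeftInvertible u) {J : Ideal A} (hJ : IsOpen (J : Set A))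
    [Module.Projective (A ⧸ J) (N ⧸ (J • (⊤ : Submodule A N)))] :
    Module.Projective (A ⧸ J) ((N ⧸ LinearMap.range u.toLinearMap) ⧸
      (J • (⊤ : Submodule A (N ⧸ LinearMap.range u.toLinearMap)))) := by
  obtain ⟨w, hw⟩ := (formallyLeftInvertible_iff hM hN u).1 hu J hJ
  let R := LinearMap.range u.toLinearMap
  have hkill : ∀ a ∈ J, ∀ y : N ⧸ (J • (⊤ : Submodule A N)), a • y = 0 := fun a ha y => by
    obtain ⟨m, rfl⟩ := Submodule.Quotient.mk_surjective _ y
    rw [← Submodule.Quotient.mk_smul, Submodule.Quotient.mk_eq_zero]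
    exact Submodule.smul_mem_smul ha Submodule.mem_top
  let ub : M ⧸ (J • ⊤ : Submodule A M) →ₗ[A] N ⧸ (J • ⊤ : Submodule A N) :=
    Submodule.mapQ _ _ u.toLinearMap (Submodule.smul_le.2 fun a ha x _ => by
      rw [Submodule.mem_comap, map_smul]; exact Submodule.smul_mem_smul ha Submodule.mem_top)
  let s0 : N →ₗ[A] N ⧸ (J • ⊤ : Submodule A N) := Submodule.mkQ _ - ub ∘ₗ w
  have hs0 : R ≤ LinearMap.ker s0 := by
    rintro _ ⟨x, rfl⟩
    show Submodule.Quotient.mk (u x) - ub (w (u x)) = 0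
    rw [hw]
    exact sub_self _
  let s1 := R.liftQ s0 hs0
  have hs1 : (J • ⊤ : Submodule A (N ⧸ R)) ≤ LinearMap.ker s1 := Submodule.smul_le.2 fun a ha x _ => by
    rw [LinearMap.mem_ker, map_smul, hkill a ha]
  let π : N ⧸ (J • ⊤ : Submodule A N) →ₗ[A] (N ⧸ R) ⧸ (J • ⊤ : Submodule A (N ⧸ R)) :=
    Submodule.mapQ _ _ R.mkQ (Submodule.smul_le.2 fun a ha x _ => by
      rw [Submodule.mem_comap, map_smul]; exact Submodule.smul_mem_smul ha Submodule.mem_top)
  have hπub : ∀ y, π (ub y) = 0 := fun y => by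
    obtain ⟨x, rfl⟩ := Submodule.Quotient.mk_surjective _ y
    show Submodule.Quotient.mk (R.mkQ (u x)) = 0
    exact (congrArg Submodule.Quotient.mk ((Submodule.Quotient.mk_eq_zero R).2 ⟨x, rfl⟩)).trans
      (Submodule.Quotient.mk_zero _)
  have hs : Function.Surjective (algebraMap A (A ⧸ J)) := Ideal.Quotient.mk_surjective
  refine Module.Projective.of_split
    (((J • ⊤ : Submodule A (N ⧸ R)).liftQ s1 hs1).extendScalarsOfSurjective hs)
    (π.extendScalarsOfSurjective hs) (LinearMap.ext fun y => ?_)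
  obtain ⟨y, rfl⟩ := Submodule.Quotient.mk_surjective _ y
  obtain ⟨x, rfl⟩ := Submodule.Quotient.mk_surjective R y
  show π (Submodule.Quotient.mk x - ub (w x)) = Submodule.Quotient.mk (Submodule.Quotient.mk x)
  rw [map_sub, hπub, sub_zero]
  rfl

end Top

section Complete

variable [TopologicalSpace A] [UniformSpace M] [IsUniformAddGroup M] [CompleteSpace M] [T2Space M]
  [TopologicalSpace N]

theorem exists_leftInverse (I : ℕ → Ideal A) (hIopen : ∀ n, IsOpen (I n : Set A)) (hIanti : Antitone I)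
    (hIbasis : (𝓝 (0 : A)).HasBasis (fun _ : ℕ => True) (fun n => (I n : Set A)))
    (hM : TopMod.IsDeduced A M) (hN : TopMod.IsDeduced A N) (u : M →L[A] N)
    (hcoker : ∀ n, Module.Projective (A ⧸ I n)
      ((N ⧸ LinearMap.range u.toLinearMap) ⧸ (I n • (⊤ : Submodule A (N ⧸ LinearMap.range u.toLinearMap)))))
    (hu : TopMod.IsFormallyLeftInvertible u) : ∃ w : N →ₗ[A] M, ∀ x : M, w (u x) = x := by
  have h1 := (formallyLeftInvertible_iff hM hN u).1 hu
  let S : ℕ → Submodule A M := fun n => I n • ⊤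
  have hS : ∀ {n k}, n ≤ k → S k ≤ S n := fun h => Submodule.smul_mono_left (hIanti h)
  let W : ℕ → Type _ := fun n => {w : N →ₗ[A] M ⧸ S n // ∀ x : M, w (u x) = Submodule.Quotient.mk x}
  have step : ∀ n (w : W n), ∃ w' : W (n + 1),
      ∀ y, Submodule.factor (hS n.le_succ) (w'.1 y) = w.1 y := by
    intro n w
    obtain ⟨v, hv⟩ := h1 (I (n + 1)) (hIopen _)
    let d : N →ₗ[A] M ⧸ S n := Submodule.factor (hS n.le_succ) ∘ₗ v - w.1
    have hd : LinearMap.range u.toLinearMap ≤ LinearMap.ker d := by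
      rintro _ ⟨x, rfl⟩
      show Submodule.factor (hS n.le_succ) (v (u x)) - w.1 (u x) = 0
      rw [hv, w.2, sub_eq_zero]
      rfl
    haveI := hcoker (n + 1)
    obtain ⟨d', hd'⟩ := exists_lift_of_projective (N := N ⧸ LinearMap.range u.toLinearMap) (I (n + 1))
      (fun a ha (y : M ⧸ S (n + 1)) => by
        obtain ⟨m, rfl⟩ := Submodule.Quotient.mk_surjective _ y
        rw [← Submodule.Quotient.mk_smul, Submodule.Quotient.mk_eq_zero]
        exact Submodule.smul_mem_smul ha Submodule.mem_top)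
      (Submodule.factor (hS n.le_succ)) (Submodule.factor_surjective _)
      ((LinearMap.range u.toLinearMap).liftQ d hd)
    refine ⟨⟨v - d' ∘ₗ Submodule.mkQ _, fun x => ?_⟩, fun y => ?_⟩
    · show v (u x) - d' (Submodule.Quotient.mk (u x)) = Submodule.Quotient.mk x
      rw [show d' (Submodule.Quotient.mk (u x)) = 0 from
        (congrArg d' ((Submodule.Quotient.mk_eq_zero (LinearMap.range u.toLinearMap)).2 ⟨x, rfl⟩)).trans (map_zero d'),
        sub_zero, hv]
    · show Submodule.factor (hS n.le_succ) (v y - d' (Submodule.Quotient.mk y)) = w.1 y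
      rw [map_sub, show Submodule.factor (hS n.le_succ) (d' (Submodule.Quotient.mk y)) = d y from
        LinearMap.congr_fun hd' _]
      simp [d]
  choose next hnext using step
  obtain ⟨v0, hv0⟩ := h1 (I 0) (hIopen _)
  let ws : ∀ n, W n := fun n => Nat.rec ⟨v0, hv0⟩ (fun n w => next n w) n
  have hcomp : ∀ {n k} (h : n ≤ k) y, Submodule.factor (hS h) ((ws k).1 y) = (ws n).1 y := by
    intro n k h
    induction h with
    | refl => intro y; simp
    | step h ih =>
      intro y
      rw [← ih, ← hnext _ (ws _) y]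
      obtain ⟨m, hm⟩ := Submodule.Quotient.mk_surjective _ ((next _ (ws _)).1 y)
      show Submodule.factor _ ((next _ (ws _)).1 y) = _
      rw [← hm]
      rfl
  choose m hm using fun y n => Submodule.Quotient.mk_surjective (S n) ((ws n).1 y)
  have hclose : ∀ y n k, n ≤ k → m y k - m y n ∈ S n := fun y n k h => by
    refine (Submodule.Quotient.eq (S n)).1 ?_
    rw [hm y n, ← hcomp h y, ← hm y k]
    rfl
  have hnhds : ∀ n, ((S n : Submodule A M) : Set M) ∈ 𝓝 (0 : M) := fun n => mem_nhds hM (hIopen n)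
  have hsmall : ∀ U ∈ 𝓝 (0 : M), ∃ n, ((S n : Submodule A M) : Set M) ⊆ U := fun U hU => by
    obtain ⟨J, hJ, hJU⟩ := hM.2.mem_iff.1 hU
    obtain ⟨n, -, hn⟩ := hIbasis.mem_iff.1 (hJ.mem_nhds J.zero_mem)
    exact ⟨n, fun x hx => hJU (Submodule.smul_mono_left (show I n ≤ J from hn) hx)⟩
  have hclosed : ∀ n, IsClosed ((S n : Submodule A M) : Set M) := fun n =>
    (S n).toAddSubgroup.isClosed_of_isOpen ((S n).toAddSubgroup.isOpen_of_mem_nhds (hnhds n))
  have hlim : ∀ y, ∃ l : M, ∀ n, Submodule.Quotient.mk l = (ws n).1 y := by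
    intro y
    have hc : CauchySeq (m y) := by
      rw [cauchySeq_iff_tendsto, uniformity_eq_comap_nhds_zero, tendsto_comap_iff]
      intro U hU
      obtain ⟨n, hn⟩ := hsmall U hU
      rw [mem_map, Filter.mem_atTop_sets]
      refine ⟨(n, n), fun k hk => hn ?_⟩
      show m y k.2 - m y k.1 ∈ S n
      rw [← sub_sub_sub_cancel_right (m y k.2) (m y k.1) (m y n)]
      exact sub_mem (hclose y n _ hk.2) (hclose y n _ hk.1)
    obtain ⟨l, hl⟩ := cauchySeq_tendsto_of_complete hc
    refine ⟨l, fun n => ?_⟩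
    rw [← hm y n]
    exact (Submodule.Quotient.eq (S n)).2 ((hclosed n).mem_of_tendsto (hl.sub_const (m y n))
      (Filter.eventually_atTop.2 ⟨n, fun k hk => hclose y n k hk⟩))
  choose l hl using hlim
  have huniq : ∀ a b : M, (∀ n, (Submodule.Quotient.mk a : M ⧸ S n) = Submodule.Quotient.mk b) → a = b := by
    intro a b h
    by_contra hne
    obtain ⟨n, hn⟩ := hsmall {a - b}ᶜ (compl_singleton_mem_nhds (Ne.symm (sub_ne_zero.2 hne)))
    exact hn ((Submodule.Quotient.eq (S n)).1 (h n)) rfl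
  exact ⟨{ toFun := l
           map_add' := fun a b => huniq _ _ fun n => by
             rw [Submodule.Quotient.mk_add, hl, hl, hl, map_add]
           map_smul' := fun r a => huniq _ _ fun n => by
             rw [RingHom.id_apply, Submodule.Quotient.mk_smul, hl, hl, map_smul] },
    fun x => huniq _ _ fun n => (hl _ n).trans ((ws n).2 x)⟩

end Complete

end Groth.Agent.H05EGA4.TopModLI
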