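import Mathlib

/-!
The trace form of a finite local algebra (helper5).
-/

set_option autoImplicit false
set_option linter.style.haveILetI false
universe u
open IsLocalRing

namespace Groth.Agent.H05EGA4.TraceLocal

variable {k A : Type u} [Field k] [CommRing A] [Algebra k A]

theorem trace_add {V : Type u} [AddCommGroup V] [Module k V] [FiniteDimensional k V] (W : Submodule k V)
    (f : V →ₗ[k] V) (g : W →ₗ[k] W) (h : V ⧸ W →ₗ[k] V ⧸ W) (hg : ∀ w : W, f w = (g w : V))
    (hh : ∀ v, h (W.mkQ v) = W.mkQ (f v)) :
    LinearMap.trace k V f = LinearMap.trace k W g + LinearMap.trace k (V ⧸ W) h := by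
  obtain ⟨s, hs⟩ := W.mkQ.exists_rightInverse_of_surjective (Submodule.range_mkQ W)
  have hs' : ∀ x, W.mkQ (s x) = x := fun x => LinearMap.congr_fun hs x
  let π : V →ₗ[k] W := (LinearMap.id - s ∘ₗ W.mkQ).codRestrict W fun v => by
    have : W.mkQ (v - s (W.mkQ v)) = 0 := by rw [map_sub, hs', sub_self]
    exact (Submodule.Quotient.mk_eq_zero W).1 this
  have hπ : ∀ w : W, π w = w := fun w => by
    refine Subtype.ext ?_
    show (w : V) - s (W.mkQ w) = w
    rw [show W.mkQ (w : V) = 0 from (Submodule.Quotient.mk_eq_zero W).2 w.2, map_zero, sub_zero]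
  have h1 : f = (f ∘ₗ W.subtype) ∘ₗ π + (f ∘ₗ s) ∘ₗ W.mkQ := LinearMap.ext fun v => by
    show f v = f (v - s (W.mkQ v)) + f (s (W.mkQ v))
    rw [← map_add, sub_add_cancel]
  conv_lhs => rw [h1, map_add, LinearMap.trace_comp_comm' π (f ∘ₗ W.subtype), LinearMap.trace_comp_comm' W.mkQ (f ∘ₗ s)]
  refine congrArg₂ (· + ·) (congrArg _ ?_) (congrArg _ ?_)
  · exact LinearMap.ext fun w => by rw [LinearMap.comp_apply, LinearMap.comp_apply, W.subtype_apply, hg, hπ]
  · exact LinearMap.ext fun x => by rw [LinearMap.comp_apply, LinearMap.comp_apply, ← hh, hs']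

theorem trace_smul_eq [FiniteDimensional k A] [IsLocalRing A] (M : Type u) [AddCommGroup M] [Module A M]
    [Module k M] [IsScalarTower k A M] [Module.Finite k M] (hM : IsFiniteLength A M) (a : A) :
    LinearMap.trace k M (Algebra.lsmul k k M a) =
      (Module.length A M).toNat • Algebra.trace k (ResidueField A) (residue A a) := by
  revert ‹Module k M›
  induction hM with
  | of_subsingleton =>
    rename_i M _ _ _
    intro _ _ _
    rw [Module.length_eq_zero_iff.2 inferInstance, ENat.toNat_zero, zero_smul,
      show Algebra.lsmul k k M a = 0 from LinearMap.ext fun x => Subsingleton.elim _ _, map_zero]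
  | of_simple_quotient hN ih =>
    rename_i M _ _ N _
    intro _ _ _
    haveI : Module.Finite k N := inferInstanceAs (Module.Finite k (N.restrictScalars k))
    haveI : Module.Finite A M := Module.Finite.of_restrictScalars_finite k A M
    obtain ⟨m, hm, ⟨e⟩⟩ := (isSimpleModule_iff_quot_maximal (R := A) (M := M ⧸ N)).1 inferInstance
    obtain rfl : m = maximalIdeal A := IsLocalRing.eq_maximalIdeal hm
    have hadd := trace_add (N.restrictScalars k) (Algebra.lsmul k k M a) (Algebra.lsmul k k N a)
      (Algebra.lsmul k k (M ⧸ N) a) (fun w => rfl) (fun v => rfl)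
    have hfin : Module.length A N ≠ ⊤ := Module.length_ne_top_iff.2 hN
    rw [hadd, Module.length_eq_add_of_exact N.subtype N.mkQ N.injective_subtype N.mkQ_surjective
        (LinearMap.exact_subtype_mkQ N), Module.length_eq_one A (M ⧸ N), ENat.toNat_add hfin (by simp), add_smul]
    refine congrArg₂ (· + ·) ih ?_
    rw [ENat.toNat_one, one_smul, Algebra.trace_apply, ← LinearMap.trace_conj' (Algebra.lmul k (ResidueField A) (residue A a))
      ((e.restrictScalars k).symm)]
    refine congrArg _ (LinearMap.ext fun x => ?_)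
    obtain ⟨y, rfl⟩ := e.symm.surjective x
    obtain ⟨b, rfl⟩ := Ideal.Quotient.mk_surjective y
    rw [LinearEquiv.conj_apply_apply]
    show a • e.symm (Ideal.Quotient.mk _ b) = e.symm (Ideal.Quotient.mk (maximalIdeal A) a * e (e.symm (Ideal.Quotient.mk _ b)))
    rw [e.apply_symm_apply, ← map_smul]
    rfl

theorem main [FiniteDimensional k A] [IsLocalRing A] :
    Algebra.trace k A ≠ 0 ↔
      (Algebra.IsSeparable k (ResidueField A) ∧
        ∀ p : ℕ, p.Prime → CharP k p → ¬ p ∣ (Module.length A A).toNat) := by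
  haveI : IsArtinianRing A := IsArtinianRing.of_finite k A
  have hfl : IsFiniteLength A A := isFiniteLength_iff_isNoetherian_isArtinian.2 ⟨inferInstance, inferInstance⟩
  set ℓ := (Module.length A A).toNat
  have htr : ∀ a, Algebra.trace k A a = ℓ • Algebra.trace k (ResidueField A) (residue A a) := fun a =>
    (Algebra.trace_apply k a).trans (trace_smul_eq A hfl a)
  haveI : Module.Finite k (ResidueField A) :=
    Module.Finite.of_surjective (IsScalarTower.toAlgHom k A (ResidueField A)).toLinearMap residue_surjective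
  have key : Algebra.trace k A ≠ 0 ↔ (ℓ : k) ≠ 0 ∧ Algebra.trace k (ResidueField A) ≠ 0 := by
    constructor
    · refine fun h => ⟨fun hl => h (LinearMap.ext fun a => ?_), fun ht => h (LinearMap.ext fun a => ?_)⟩
      · rw [htr, nsmul_eq_mul, hl, zero_mul]; rfl
      · rw [htr, ht, LinearMap.zero_apply, smul_zero]; rfl
    · rintro ⟨hl, ht⟩ h
      refine ht (LinearMap.ext fun y => ?_)
      obtain ⟨a, rfl⟩ := residue_surjective y
      have := (htr a).symm.trans (LinearMap.congr_fun h a)
      rw [LinearMap.zero_apply, nsmul_eq_mul, mul_eq_zero] at this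
      exact this.resolve_left hl
  rw [key, and_comm]
  refine and_congr ⟨fun h => by_contra fun hs => h (Algebra.trace_eq_zero_of_not_isSeparable hs),
    fun h => Algebra.trace_ne_zero k _⟩ ⟨fun h p hp hc hd => h ((CharP.cast_eq_zero_iff k p ℓ).2 hd), fun h hl => ?_⟩
  obtain ⟨p, hc⟩ := CharP.exists k
  rcases CharP.char_is_prime_or_zero k p with hp | rfl
  · exact h p hp hc ((CharP.cast_eq_zero_iff k p ℓ).1 hl)
  · haveI := CharP.charP_to_charZero k
    have h0 : ℓ = 0 := Nat.cast_eq_zero.1 hl
    have h1 : Module.length A A = 0 := by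
      rcases ENat.toNat_eq_zero.1 h0 with h2 | h2
      · exact h2
      · exact absurd h2 (Module.length_ne_top_iff.2 hfl)
    exact not_subsingleton A (Module.length_eq_zero_iff.1 h1)

end Groth.Agent.H05EGA4.TraceLocal
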