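import Mathlib.RingTheory.Smooth.Basic
import Mathlib.RingTheory.Etale.Kaehler
import Mathlib.RingTheory.LocalRing.Module
import Mathlib.RingTheory.Localization.Integer
import Mathlib.RingTheory.Localization.Algebra
import Mathlib.LinearAlgebra.Matrix.Determinant.Basic
import Mathlib.RingTheory.Ideal.Quotient.Operations
import Mathlib.LinearAlgebra.Matrix.NonsingularInverse

/-! The Zariski Jacobian criterion for a quotient of a formally smooth Noetherian algebra. -/

set_option autoImplicit false
set_option linter.style.haveILetI false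

open TensorProduct KaehlerDifferential IsLocalRing

universe u v

namespace Groth.Agent.H05EGA4.ZarJac

variable {R : Type v} {B : Type u} [CommRing R] [CommRing B] [Algebra R B] (q : Ideal B) [q.IsPrime]

/-- Functionals on differentials with values in the residue field come from derivations, up to a factor. -/
theorem exists_derivations {m : ℕ} [Algebra.FormallySmooth R B] (g : Fin m → B)
    (φ : Fin m → (Ω[B⁄R] →ₗ[B] q.ResidueField))
    (hφ : ∀ i j, φ i (D R B (g j)) = if i = j then 1 else 0) :
    ∃ D' : Fin m → Derivation R B B, Matrix.det (Matrix.of fun i j => D' j (g i)) ∉ q := by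
  classical
  obtain ⟨s, hs⟩ := (Module.projective_def.1 (inferInstance : Module.Projective B Ω[B⁄R]))
  let c : Fin m → (Ω[B⁄R] →₀ B) := fun j => s (D R B (g j))
  let S : Finset Ω[B⁄R] := Finset.univ.biUnion fun j => (c j).support
  have hmk : ∀ (i : Fin m) (b : Ω[B⁄R]), ∃ y z : B, z ∉ q ∧
      φ i b * algebraMap B q.ResidueField z = algebraMap B q.ResidueField y := by
    intro i b
    obtain ⟨⟨y, z⟩, hyz⟩ := IsLocalization.surj (nonZeroDivisors (B ⧸ q)) (φ i b)
    obtain ⟨y, rfl⟩ := Ideal.Quotient.mk_surjective y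
    obtain ⟨z', hz'⟩ := Ideal.Quotient.mk_surjective (z : B ⧸ q)
    refine ⟨y, z', fun h => ?_, ?_⟩
    · exact nonZeroDivisors.coe_ne_zero z (hz' ▸ Ideal.Quotient.eq_zero_iff_mem.2 h)
    · simp only at hyz
      rw [← hz'] at hyz
      exact hyz
  choose y z hz hyz using hmk
  let T : B := ∏ i, ∏ b ∈ S, z i b
  have hT : T ∉ q := by
    simp only [T, ‹q.IsPrime›.prod_mem_iff, not_exists, not_and]
    exact fun i _ b _ => hz i b
  let w : Fin m → Ω[B⁄R] → B := fun i b =>
    if b ∈ S then y i b * ((∏ b' ∈ S.erase b, z i b') * ∏ i' ∈ Finset.univ.erase i, ∏ b' ∈ S, z i' b')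
    else 0
  have hw : ∀ i, ∀ b ∈ S, algebraMap B q.ResidueField (w i b) =
      algebraMap B q.ResidueField T * φ i b := by
    intro i b hb
    simp only [w, if_pos hb, map_mul, ← hyz]
    rw [show T = z i b * ((∏ b' ∈ S.erase b, z i b') * ∏ i' ∈ Finset.univ.erase i, ∏ b' ∈ S, z i' b') by
      rw [← mul_assoc, Finset.mul_prod_erase S (z i) hb,
        Finset.mul_prod_erase Finset.univ (fun i' => ∏ b' ∈ S, z i' b') (Finset.mem_univ i)],
      map_mul, map_mul]
    ring
  refine ⟨fun i => ((Finsupp.linearCombination B (w i)) ∘ₗ s).compDer (D R B), fun hmem => hT ?_⟩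
  have key : ∀ i j, algebraMap B q.ResidueField (Finsupp.linearCombination B (w i) (c j)) =
      algebraMap B q.ResidueField T * if i = j then 1 else 0 := by
    intro i j
    rw [← hφ i j]
    conv_rhs => rw [← hs (D R B (g j))]
    rw [Finsupp.linearCombination_apply, Finsupp.linearCombination_apply, map_finsuppSum,
      map_finsuppSum, Finsupp.mul_sum]
    refine Finset.sum_congr rfl fun b hb => ?_
    have hbS : b ∈ S := Finset.mem_biUnion.2 ⟨j, Finset.mem_univ _, hb⟩
    simp only [smul_eq_mul, map_mul, hw i b hbS, map_smul, id_eq, Algebra.smul_def]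
    ring
  have hdet : algebraMap B q.ResidueField (Matrix.det (Matrix.of fun i j =>
      Finsupp.linearCombination B (w j) (c i))) = algebraMap B q.ResidueField T ^ m := by
    rw [RingHom.map_det]
    trans Matrix.det (algebraMap B q.ResidueField T • (1 : Matrix (Fin m) (Fin m) q.ResidueField))
    · congr 1
      ext i j
      simp [key, Matrix.one_apply, eq_comm]
    · rw [Matrix.det_smul, Matrix.det_one, mul_one, Fintype.card_fin]
  have h0 : algebraMap B q.ResidueField (Matrix.det (Matrix.of fun i j =>
      Finsupp.linearCombination B (w j) (c i))) = 0 := Ideal.algebraMap_residueField_eq_zero.2 hmem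
  rw [hdet] at h0
  exact Ideal.algebraMap_residueField_eq_zero.1 (pow_eq_zero_iff'.1 h0).1

variable {C : Type u} [CommRing C] [Algebra R C] [Algebra (Localization.AtPrime q) C]
  [IsScalarTower R (Localization.AtPrime q) C]

/-- The local form of the criterion. -/
theorem iff_local [IsNoetherianRing B] [Algebra.FormallySmooth R B] (J : Ideal B)
    (hsurj : Function.Surjective (algebraMap (Localization.AtPrime q) C))
    (hker : RingHom.ker (algebraMap (Localization.AtPrime q) C) =
      J.map (algebraMap B (Localization.AtPrime q))) (hJq : J ≤ q) :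
    Algebra.FormallySmooth R C ↔ ∃ (m : ℕ) (f : Fin m → B) (D' : Fin m → Derivation R B B),
      (∀ i, f i ∈ J) ∧
      J.map (algebraMap B (Localization.AtPrime q)) =
        Ideal.span (Set.range fun i => algebraMap B (Localization.AtPrime q) (f i)) ∧
      Matrix.det (Matrix.of fun i j => D' j (f i)) ∉ q := by
  classical
  let Bq := Localization.AtPrime q
  haveI : Algebra.FormallySmooth B Bq := Algebra.FormallySmooth.of_isLocalization q.primeCompl
  haveI : Algebra.FormallySmooth R Bq := Algebra.FormallySmooth.comp R B Bq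
  haveI := Algebra.FormallyEtale.of_isLocalization (Rₘ := Bq) q.primeCompl
  rw [Algebra.FormallySmooth.iff_split_injection (P := Bq) hsurj]
  let I := RingHom.ker (algebraMap Bq C)
  have hI : ∀ g ∈ J, algebraMap B Bq g ∈ I := fun g hg => hker.ge (Ideal.mem_map_of_mem _ hg)
  have hIm : I ≤ maximalIdeal Bq := by
    refine hker.le.trans ((Ideal.map_mono hJq).trans ?_)
    rw [Localization.AtPrime.map_eq_maximalIdeal]
  constructor
  · rintro ⟨l, hl⟩
    let V := ResidueField Bq ⊗[Bq] I
    let tm : J → V := fun g => 1 ⊗ₜ[Bq] (⟨algebraMap B Bq g, hI g g.2⟩ : I)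
    haveI : IsNoetherianRing Bq := IsLocalization.isNoetherianRing q.primeCompl Bq inferInstance
    obtain ⟨b, hb, hspan, hind⟩ := exists_linearIndependent (ResidueField Bq) (Set.range tm)
    have htop : Submodule.span (ResidueField Bq) (Set.range tm) = ⊤ := by
      rw [eq_top_iff]
      rintro x -
      induction x using TensorProduct.induction_on with
      | zero => exact zero_mem _
      | add x y hx hy => exact add_mem hx hy
      | tmul a x =>
        rw [← mul_one a, ← smul_eq_mul, ← TensorProduct.smul_tmul']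
        refine Submodule.smul_mem _ _ ?_
        obtain ⟨x, hx⟩ := x
        have hx0 := hker.le hx
        rw [IsLocalization.mem_map_algebraMap_iff q.primeCompl Bq] at hx0
        obtain ⟨⟨g, s⟩, hgs⟩ := hx0
        have hu := IsLocalization.map_units Bq s
        have : (⟨x, hx⟩ : I) =
            ((hu.unit⁻¹ : Bqˣ) : Bq) • (⟨algebraMap B Bq g, hI g g.2⟩ : I) := by
          refine Subtype.ext ?_
          show x = ((hu.unit⁻¹ : Bqˣ) : Bq) * algebraMap B Bq g
          rw [← hgs, mul_comm x, ← mul_assoc, hu.val_inv_mul, one_mul]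
        rw [this, TensorProduct.tmul_smul, ← algebraMap_smul (ResidueField Bq)]
        exact Submodule.smul_mem _ _ (Submodule.subset_span ⟨g, rfl⟩)
    rw [htop] at hspan
    let bb := Module.Basis.mk hind (by rw [Subtype.range_coe, hspan])
    haveI : Module.Finite (ResidueField Bq) V := inferInstance
    haveI : Finite b := Module.Finite.finite_basis bb
    haveI := Fintype.ofFinite b
    let e : b ≃ Fin (Fintype.card b) := Fintype.equivFin b
    choose g hg using fun i : Fin (Fintype.card b) => hb (e.symm i).2
    have hbb : ∀ i, bb.reindex e i = tm (g i) := fun i => by simp [bb, hg]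
    have hgen : I = Ideal.span (Set.range fun i => algebraMap B Bq (g i : B)) := by
      have h := IsLocalRing.span_eq_top_of_tmul_eq_basis
        (fun i => (⟨algebraMap B Bq (g i : B), hI _ (g i).2⟩ : I)) (bb.reindex e)
        (fun i => (hbb i).symm)
      have h2 := congrArg (Submodule.map I.subtype) h
      rw [Submodule.map_span, Submodule.map_top, Submodule.range_subtype, ← Set.range_comp] at h2
      exact h2.symm
    -- the functional
    let η₀ : I →ₗ[Bq] V := TensorProduct.mk Bq (ResidueField Bq) I 1
    have hη₀ : (I • ⊤ : Submodule Bq I) ≤ LinearMap.ker η₀ := by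
      rw [Submodule.smul_le]
      intro r hr x _
      show (1 : ResidueField Bq) ⊗ₜ[Bq] (r • x) = 0
      rw [← TensorProduct.smul_tmul, Algebra.smul_def, mul_one, ResidueField.algebraMap_eq,
        (residue_eq_zero_iff r).2 (hIm hr), zero_tmul]
    let η : I.Cotangent →ₗ[Bq] V := (I • ⊤ : Submodule Bq I).liftQ η₀ hη₀
    let L₀ : Ω[Bq⁄R] →ₗ[Bq] V := η ∘ₗ l ∘ₗ TensorProduct.mk Bq C Ω[Bq⁄R] 1
    let L : Ω[B⁄R] →ₗ[B] V := (L₀.restrictScalars B) ∘ₗ (KaehlerDifferential.map R R B Bq)
    let φ : Fin (Fintype.card b) → (Ω[B⁄R] →ₗ[B] q.ResidueField) := fun i =>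
      (((bb.reindex e).coord i).restrictScalars B) ∘ₗ L
    have hφ : ∀ i j, φ i (D R B (g j)) = if i = j then 1 else 0 := by
      intro i j
      have h1 : L (D R B (g j)) = tm (g j) := by
        simp only [L, L₀, LinearMap.comp_apply, LinearMap.restrictScalars_apply, map_D,
          TensorProduct.mk_apply]
        have := LinearMap.congr_fun hl (I.toCotangent ⟨algebraMap B Bq (g j : B), hI _ (g j).2⟩)
        rw [LinearMap.comp_apply, kerCotangentToTensor_toCotangent, LinearMap.id_apply] at this
        rw [this]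
        rfl
      show (bb.reindex e).coord i (L (D R B (g j))) = _
      rw [h1, ← hbb, Module.Basis.coord_apply, Module.Basis.repr_self, Finsupp.single_apply]
      simp [eq_comm]
    obtain ⟨D', hD⟩ := exists_derivations q (fun i => (g i : B)) φ hφ
    exact ⟨_, fun i => (g i : B), D', fun i => (g i).2, hker.symm.trans hgen, hD⟩
  · rintro ⟨m, f, D', hf, hgen, hdet⟩
    let M : Matrix (Fin m) (Fin m) Bq := (Matrix.of fun i j => D' j (f i)).map (algebraMap B Bq)
    have hM : IsUnit M.det := by
      show IsUnit ((algebraMap B Bq).mapMatrix (Matrix.of fun i j => D' j (f i))).det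
      rw [← RingHom.map_det]
      exact IsLocalization.map_units Bq (⟨_, hdet⟩ : q.primeCompl)
    let δ : Fin m → (Ω[Bq⁄R] →ₗ[Bq] Bq) := fun j =>
      (KaehlerDifferential.isBaseChange_of_formallyEtale R B Bq).lift
        ((Algebra.linearMap B Bq) ∘ₗ (D' j).liftKaehlerDifferential)
    have hδ : ∀ j i, δ j (D R Bq (algebraMap B Bq (f i))) = M i j := fun j i => by
      rw [← map_D R R B Bq (f i), IsBaseChange.lift_eq]
      simp [M]
    let κ : Fin m → I.Cotangent := fun i => I.toCotangent ⟨algebraMap B Bq (f i), hI _ (hf i)⟩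
    let L : Ω[Bq⁄R] →ₗ[Bq] I.Cotangent :=
      ∑ k, (∑ j, M⁻¹ j k • δ j).smulRight (κ k)
    have hL : ∀ i, L (D R Bq (algebraMap B Bq (f i))) = κ i := by
      intro i
      simp only [L, LinearMap.sum_apply, LinearMap.smulRight_apply, LinearMap.smul_apply, hδ,
        smul_eq_mul]
      have h1 : ∀ k, ∑ j, M⁻¹ j k * M i j = (1 : Matrix (Fin m) (Fin m) Bq) i k := fun k => by
        rw [← Matrix.mul_nonsing_inv M hM, Matrix.mul_apply]
        exact Finset.sum_congr rfl fun _ _ => mul_comm _ _
      simp [h1, Matrix.one_apply]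
    let N : Bq →ₗ[Bq] (Ω[Bq⁄R] →ₗ[Bq] I.Cotangent) := LinearMap.toSpanSingleton Bq _ L
    have hN : LinearMap.ker (Algebra.linearMap Bq C) ≤ LinearMap.ker N := by
      intro r hr
      rw [LinearMap.mem_ker, LinearMap.toSpanSingleton_apply]
      refine LinearMap.ext fun ω => ?_
      obtain ⟨z, hz⟩ := I.toCotangent_surjective (L ω)
      rw [LinearMap.smul_apply, ← hz, ← map_smul, LinearMap.zero_apply, I.toCotangent_eq_zero, sq]
      exact Ideal.mul_mem_mul hr z.2
    let bil : C →ₗ[Bq] (Ω[Bq⁄R] →ₗ[Bq] I.Cotangent) := (LinearMap.ker (Algebra.linearMap Bq C)).liftQ N hN ∘ₗ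
      ((Algebra.linearMap Bq C).quotKerEquivOfSurjective hsurj).symm.toLinearMap
    have hbil : bil 1 = L := by
      have : ((Algebra.linearMap Bq C).quotKerEquivOfSurjective hsurj).symm 1 =
          Submodule.Quotient.mk 1 := by
        rw [LinearEquiv.symm_apply_eq]
        exact (map_one (algebraMap Bq C)).symm
      simp only [bil, LinearMap.comp_apply, LinearEquiv.coe_coe, this]
      exact one_smul Bq L
    refine ⟨TensorProduct.lift bil, LinearMap.ext fun x => ?_⟩
    obtain ⟨⟨x, hx⟩, rfl⟩ := I.toCotangent_surjective x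
    rw [LinearMap.comp_apply, kerCotangentToTensor_toCotangent, TensorProduct.lift.tmul, hbil,
      LinearMap.id_apply]
    have hx' : x ∈ Ideal.span (Set.range fun i => algebraMap B Bq (f i)) := (hker.trans hgen).le hx
    obtain ⟨a, ha⟩ := Ideal.mem_span_range_iff_exists_fun.1 hx'
    have hxe : (⟨x, hx⟩ : I) = ∑ i, a i • (⟨algebraMap B Bq (f i), hI _ (hf i)⟩ : I) := by
      refine Subtype.ext ?_
      rw [Submodule.coe_sum]
      exact ha.symm
    show L (D R Bq x) = I.toCotangent ⟨x, hx⟩
    rw [hxe, map_sum]
    rw [← ha, map_sum, map_sum]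
    refine Finset.sum_congr rfl fun i _ => ?_
    rw [Derivation.leibniz, map_add, map_smul, map_smul, map_smul, hL]
    obtain ⟨z, hz⟩ := I.toCotangent_surjective (L (D R Bq (a i)))
    have : algebraMap B Bq (f i) • L (D R Bq (a i)) = 0 := by
      rw [← hz, ← map_smul, I.toCotangent_eq_zero, sq]
      exact Ideal.mul_mem_mul (hI _ (hf i)) z.2
    rw [this, add_zero]

end Groth.Agent.H05EGA4.ZarJac
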